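import Cfsg.Agent.H2.U40
import Cfsg.Agent.H17.GF1
import Cfsg.Agent.H28.ExtTr

/-! Groups with Sylow 2-subgroups of type `A₈`: the centralizer of the central involution. -/

set_option autoImplicit false
set_option linter.unusedSectionVars false

namespace H2.U4
open Cfsg Subgroup H17.GS
open H19 hiding eq_bot_mono
open scoped commutatorElement

universe u
variable {G : Type u} [Group G] [Finite G] {φ : T →* G} {X Y : Subgroup G} {g h n : G}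
  {s t x y x' y' w p q : T} {B : Subgroup T}

structure Em (φ : T →* G) (X : Subgroup G) : Prop where
  inj : Function.Injective φ
  syl : Syl 2 φ.range X

/-- `g` conjugates `x` to `y` -/
def F (φ : T →* G) (g : G) (x y : T) : Prop := g * φ x * g⁻¹ = φ y

theorem F.mul (h1 : F φ g x x') (h2 : F φ g y y') : F φ g (x * y) (x' * y') := by
  rw [F, map_mul, map_mul, ← h1, ← h2]; group

theorem F.comm (h1 : F φ g x x') (h2 : F φ g y y') : F φ g ⁅x, y⁆ ⁅x', y'⁆ := by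
  rw [F, map_commutatorElement, map_commutatorElement, ← h1, ← h2]
  simp only [commutatorElement_def]; group

theorem F.one : F φ g 1 1 := by simp [F]
theorem F.refl : F φ 1 x x := by simp [F]

theorem F.trans (h1 : F φ g x y) (h2 : F φ h y w) : F φ (h * g) x w := by
  rw [F, ← h2, ← h1]; group

theorem F.inv (h1 : F φ g x y) : F φ g⁻¹ y x := by rw [F, ← h1]; group

theorem F.cc (w x : T) : F φ (φ w) x (w * x * w⁻¹) := by simp [F]

theorem F.of (h : w * x * w⁻¹ = y) : F φ (φ w) x y := h ▸ F.cc w x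

theorem F.cen : F φ g x x ↔ g ∈ C[φ x] := mul_inv_eq_iff_eq_mul.trans mem_cent1.symm

theorem Em.eq (E : Em φ X) (h1 : F φ g x x') (h2 : F φ g y y') : x = y ↔ x' = y' := by
  rw [← E.inj.eq_iff, ← E.inj.eq_iff (a := x'), ← h1, ← h2]; simp

theorem Em.fz (E : Em φ X) (h1 : F φ g x x') (h2 : F φ g x y') : x' = y' := (E.eq h1 h2).1 rfl

theorem Em.cm (E : Em φ X) (h1 : F φ g x x') (h2 : F φ g y y') : x * y = y * x ↔ x' * y' = y' * x' :=
  E.eq (h1.mul h2) (h2.mul h1)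

theorem Em.sq (E : Em φ X) (h1 : F φ g x x') : x * x = 1 ↔ x' * x' = 1 := E.eq (h1.mul h1) F.one

theorem Em.n1 (E : Em φ X) (h1 : F φ g x x') : x ≠ 1 ↔ x' ≠ 1 := (E.eq h1 F.one).not

theorem Em.mem (E : Em φ X) (x : T) : φ x ∈ X := E.syl.le ⟨x, rfl⟩

theorem Em.pg (E : Em φ X) (B : Subgroup T) : PG 2 (B.map φ) := E.syl.pi.of_le (map_le_range _ _)

theorem Em.card (E : Em φ X) (B : Subgroup T) : #(B.map φ) = Nat.card B := card_map_of_injective E.inj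

theorem Em.sub (E : Em φ X) (h1 : φ.range ≤ Y) (h2 : Y ≤ X) : Em φ Y := ⟨E.inj, E.syl.of_le h1 h2⟩

theorem Em.comp (E : Em φ X) {τ : T →* T} (h : τ z ≠ 1) : Em (φ.comp τ) X := by
  refine ⟨E.inj.comp (inj_of h), ?_⟩
  rw [MonoidHom.range_comp, MonoidHom.range_eq_top.2 (Finite.injective_iff_surjective.1 (inj_of h)),
    ← MonoidHom.range_eq_map]
  exact E.syl

theorem mem_map' (hx : x ∈ B) : φ x ∈ B.map φ := mem_map_of_mem φ hx

theorem sqm (h : x * x = 1) : φ x * φ x = 1 := by rw [← map_mul, h, map_one]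

theorem Em.ne1 (E : Em φ X) (h : x ≠ 1) : φ x ≠ 1 := fun k => h (E.inj (k.trans (map_one φ).symm))

theorem Em.o2 (E : Em φ X) (h1 : x * x = 1) (h2 : x ≠ 1) : orderOf (φ x) = 2 := ord2_of (sqm h1) (E.ne1 h2)

theorem abm (h : ∀ x ∈ B, x * x = 1) : Abelem 2 (B.map φ) := abelem_of_sq (by
  rintro _ ⟨x, hx, rfl⟩; exact sqm (h x hx))

/-- conjugacy in `X` -/
def Cj (φ : T →* G) (X : Subgroup G) (x y : T) : Prop := ∃ g ∈ X, F φ g x y

theorem Cj.symm (h : Cj φ X x y) : Cj φ X y x := let ⟨_, h1, h2⟩ := h; ⟨_, inv_mem h1, h2.inv⟩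

theorem Cj.trans (h : Cj φ X x y) (h' : Cj φ X y w) : Cj φ X x w :=
  let ⟨_, h1, h2⟩ := h; let ⟨_, h3, h4⟩ := h'; ⟨_, mul_mem h3 h1, h2.trans h4⟩

theorem Cj.mono (h : Cj φ X x y) (k : X ≤ Y) : Cj φ Y x y := let ⟨g, h1, h2⟩ := h; ⟨g, k h1, h2⟩

theorem Cj.rfl : Cj φ X x x := ⟨1, one_mem _, F.refl⟩

theorem Em.cc (E : Em φ X) (h : ∃ w, w * x * w⁻¹ = y) : Cj φ X x y :=
  let ⟨w, h⟩ := h; ⟨_, E.mem w, F.of h⟩

theorem F.top (h : F φ g x y) : Cj φ ⊤ x y := ⟨g, mem_top g, h⟩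

theorem lift (h : cj g (B.map φ) ≤ φ.range) (hx : x ∈ B) : ∃ y, F φ g x y :=
  let ⟨y, e⟩ := h (conj_mem_cj.2 (mem_map_of_mem φ hx)); ⟨y, e.symm⟩

theorem lN (hg : g ∈ N(B.map φ)) (hx : x ∈ B) : ∃ y ∈ B, F φ g x y :=
  let ⟨y, hy, e⟩ := conj_mem_of_norm hg (mem_map' hx); ⟨y, hy, e.symm⟩

theorem toN (h : ∀ x ∈ B, ∃ y ∈ B, F φ g x y) : g ∈ N(B.map φ) := mem_norm_of_cj_le (by
  rintro _ ⟨_, ⟨x, hx, rfl⟩, rfl⟩
  obtain ⟨y, hy, k⟩ := h x hx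
  exact ⟨y, hy, k.symm⟩)

theorem Em.mN (E : Em φ X) (hg : g ∈ N(B.map φ)) (f : F φ g x y) (hx : x ∈ B) : y ∈ B :=
  let ⟨_, h, k⟩ := lN hg hx; E.fz k f ▸ h

theorem rN (h : ∀ x ∈ B, ∀ w, w * x * w⁻¹ ∈ B) : φ.range ≤ N(B.map φ) := by
  rintro _ ⟨w, rfl⟩
  exact toN fun x hx => ⟨_, h x hx w, F.cc w x⟩

theorem rA : φ.range ≤ N(A0.map φ) := rN (by decide +kernel)
theorem rQ : φ.range ≤ N(Q0.map φ) := rN (by decide +kernel)
theorem rE : φ.range ≤ N(E1.map φ) := rN (by decide +kernel)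

theorem cen_le (s : T) : C[s].map φ ≤ C[φ s] := by
  rintro _ ⟨x, hx, rfl⟩
  exact mem_cent1.2 (by rw [← map_mul, mem_cent1.1 hx, map_mul])

theorem rz : φ.range ≤ C[φ z] := by
  rintro _ ⟨x, rfl⟩
  exact mem_cent1.2 (by rw [← map_mul, zc, map_mul])

theorem Em.z1 (E : Em φ X) : φ z ≠ 1 := E.ne1 (by decide)

theorem zN (hn : φ.range ≤ N(Y)) (hx : φ x ∈ Y) (x1 : x ≠ 1) : φ z ∈ Y := by
  have k : ∀ y x, φ x ∈ Y → φ ⁅y, x⁆ ∈ Y := fun y x h => by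
    rw [map_commutatorElement]; exact mul_mem (conj_mem_of_norm (hn ⟨y, rfl⟩) h) (inv_mem h)
  obtain rfl | ⟨y, e | ⟨w, e⟩⟩ := toz x x1
  exacts [hx, e ▸ k _ _ hx, e ▸ k _ _ (k _ _ hx)]

theorem Em.ext1 (E : Em φ X) (h : Cj φ X s z) :
    ∃ g ∈ X, F φ g s z ∧ ∀ x, x * s = s * x → ∃ y, F φ g x y := by
  obtain ⟨c, hX, hc⟩ := h
  obtain ⟨n, hn, k⟩ := (E.syl.of_le (le_inf E.syl.le rz) inf_le_left).scj_le (K := cj c (C[s].map φ))
    (le_inf ((cj_mono _ ((map_le_range _ _).trans E.syl.le)).trans (cj_of_mem hX).le)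
    (by rw [← hc, ← cj_cent1]; exact cj_mono _ (cen_le s))) ((E.pg _).J c)
  rw [cj_cj] at k
  exact ⟨n * c, mul_mem hn.1 hX, hc.trans (F.cen.2 hn.2), fun x hx => lift k (mem_cent1.2 hx)⟩

theorem Em.ext2 (E : Em φ X) (h : Cj φ X s t) :
    ∃ g ∈ X, ∃ h ∈ X, ∃ y, F φ g s y ∧ F φ h t y ∧ (∀ x, x * s = s * x → ∃ x', F φ g x x') ∧
      ∀ x, x * t = t * x → ∃ x', F φ h x x' := by
  obtain ⟨c, hX, hc⟩ := h
  have l := fun s : T => (map_le_range φ C[s]).trans E.syl.le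
  obtain ⟨P, hP, h1⟩ := (E.pg C[t]).exists_syl (le_inf (l t) (cen_le t))
  obtain ⟨n, hn, k⟩ := hP.scj_le (K := cj c (C[s].map φ)) (le_inf ((cj_mono _ (l s)).trans (cj_of_mem hX).le)
    (by rw [← hc, ← cj_cent1]; exact cj_mono _ (cen_le s))) ((E.pg _).J c)
  obtain ⟨m, hm, k'⟩ := E.syl.scj_le (hP.le.trans inf_le_left) hP.pi
  have k1 := (cj_mono m h1).trans k'
  have k2 := (cj_mono m k).trans k'
  rw [cj_cj, cj_cj] at k2
  obtain ⟨y, hy⟩ := lift k1 (mem_cent1_self t)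
  exact ⟨m * n * c, mul_mem (mul_mem hm hn.1) hX, m, hm, y, hc.trans (F.trans (h := m) (F.cen.2 hn.2) hy),
    hy, fun x hx => lift k2 (mem_cent1.2 hx), fun x hx => lift k1 (mem_cent1.2 hx)⟩

/-- the elementary abelian subgroup of order 16 is unique -/
theorem Em.nA (E : Em φ X) (h : ∀ x ∈ A0, ∃ y, F φ g x y) : g ∈ N(A0.map φ) := by
  choose! f hf using h
  refine toN fun x hx => ⟨f x, by_contra fun k => ?_, hf x hx⟩
  have a2 : ∀ x ∈ A0, x * x = 1 := by decide +kernel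
  have ac : ∀ x ∈ A0, ∀ y ∈ A0, x * y = y * x := by decide +kernel
  have := Finset.card_le_card_of_injOn (s := Finset.univ.filter (· ∈ A0)) f (t := Finset.univ.filter
    fun w => w * w = 1 ∧ w * f x = f x * w) (fun y hy => by
      have hy : y ∈ A0 := by simpa using hy
      simpa using ⟨(E.sq (hf y hy)).1 (a2 y hy), (E.cm (hf y hy) (hf x hx)).1 (ac y hy x hx)⟩)
    fun y hy w hw e => (E.eq (hf y (by simpa using hy)) (hf w (by simpa using hw))).2 e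
  rw [← card_sub, cardA] at this
  exact (c12 _ k ((E.sq (hf x hx)).1 (a2 x hx))).not_ge this

theorem Em.nA' (E : Em φ X) (hs : s ∈ A0) (h : ∀ x, x * s = s * x → ∃ y, F φ g x y) : g ∈ N(A0.map φ) :=
  E.nA fun x hx => h x ((by decide +kernel : ∀ x ∈ A0, ∀ y ∈ A0, x * y = y * x) x hx s hs)

/-- the normalizer of `A` controls fusion in `A` -/
theorem Em.cA (E : Em φ X) (h : Cj φ X s t) (hs : s ∈ A0) (ht : t ∈ A0) : Cj φ (X ⊓ N(A0.map φ)) s t :=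
  let ⟨_, h1, _, h2, _, h3, h4, h5, h6⟩ := E.ext2 h
  Cj.trans ⟨_, ⟨h1, E.nA' hs h5⟩, h3⟩ (Cj.symm ⟨_, ⟨h2, E.nA' ht h6⟩, h4⟩)

theorem two_part {S : Subgroup G} (hS : Syl 2 S X) (hn : n ∈ X) :
    ∃ k, ∃ j ∈ X, j * n ^ (2 * k + 1) * j⁻¹ ∈ S := by
  obtain ⟨j, hj, h1⟩ := hS.scj_le (zpowers_le' (constt_mem {2} hn)) (piG_zpowers.2 (constt_pi _ _))
  have h3 : Odd (orderOf (constt ({2} : Set ℕ)ᶜ n)) := by
    have := constt_pi ({2} : Set ℕ)ᶜ n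
    rwa [PiE, piN_compl_singleton Nat.prime_two, ← even_iff_two_dvd, Nat.not_even_iff_odd] at this
  obtain ⟨k, hk⟩ := h3
  refine ⟨k, j, hj, ?_⟩
  have h4 : Commute (constt {2} n) (constt ({2} : Set ℕ)ᶜ n) := constt_commute _ _ _
  rw [← constt_mul_compl {2} n, h4.mul_pow, ← hk, pow_orderOf_eq_one, mul_one]
  exact h1 (conj_mem_cj.2 (pow_mem (mem_zpowers _) _))

/-- conjugation modulo `z` -/
def Fz (φ : T →* G) (g : G) (x y : T) : Prop := F φ g x y ∨ F φ g x (y * z)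

theorem Fz.mul (h1 : Fz φ g x x') (h2 : Fz φ g y y') : Fz φ g (x * y) (x' * y') := by
  have k := (by decide +kernel : ∀ x y, x * (y * z) = x * y * z ∧ x * z * y = x * y * z ∧
    x * z * (y * z) = x * y) x' y'
  rcases h1 with h1 | h1 <;> rcases h2 with h2 | h2 <;> have := h1.mul h2
  exacts [.inl this, .inr (k.1 ▸ this), .inr (k.2.1 ▸ this), .inl (k.2.2 ▸ this)]

theorem Fz.trans (hz : F φ h z z) (h1 : Fz φ g x y) (h2 : Fz φ h y w) : Fz φ (h * g) x w := by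
  have k : Fz φ h (y * z) w := h2.symm.imp (fun k => by simpa [mul_assoc, zz] using k.mul hz) (·.mul hz)
  exact h1.elim (fun f => h2.imp f.trans f.trans) fun f => k.imp f.trans f.trans

theorem Fz.of (h : w * x * w⁻¹ = y ∨ w * x * w⁻¹ = y * z) : Fz φ (φ w) x y := h.imp F.of F.of

theorem Fz.conj (hz : F φ n z z) (f : F φ n p x) (f' : F φ n q y) (k : Fz φ g x y) : Fz φ (n⁻¹ * (g * n)) p q :=
  k.imp (fun k => (f.trans k).trans f'.inv) fun k => (f.trans k).trans (f'.mul hz).inv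

section
variable (E : Em φ X) (hX : X ≤ C[φ z])
include E hX

theorem Em.nb0 (hn : n ∈ X ⊓ N(A0.map φ)) (f : F φ n b y) (hy : y ∈ U0) (f1 : F φ n p x) (hx : x ∈ U0)
    (f2 : F φ n q w) (hw : w ∉ U0) (h : q ∈ A0 ∧ q ≠ q * p ∧ q ≠ q * p * z ∧ q * p * p = q ∧
      q * (b * p) * (b * p * p) = q * p ∧ (t * p * t⁻¹ = p ∨ t * p * t⁻¹ = p * z) ∧
      (t * q * t⁻¹ = q ∨ t * q * t⁻¹ = q * z) ∧ (t * b * t⁻¹ = b * p ∨ t * b * t⁻¹ = b * p * z)) : False := by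
  obtain ⟨hq, n1, n2, e1, e2, t1, t2, t3⟩ := h
  have fz : ∀ {g}, g ∈ X → F φ g z z := fun hg => F.cen.2 (hX hg)
  have hz := fz hn.1
  obtain ⟨v, v1, v2⟩ := (by decide +kernel : ∀ y ∈ U0, y ≠ 1 → y ≠ z → ∃ v, (∀ w ∈ A0, w ∉ U0 →
    v * w * v⁻¹ = w * y ∨ v * w * v⁻¹ = w * y * z) ∧ ∀ u ∈ U0, v * u * v⁻¹ = u ∨ v * u * v⁻¹ = u * z) y hy
    ((E.n1 f).1 (by decide)) fun k => absurd ((E.eq f hz).2 k) (by decide)
  have S := E.syl.of_le (le_inf E.syl.le rA) inf_le_left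
  have hm : φ t * (n⁻¹ * (φ v * n)) ∈ X ⊓ N(A0.map φ) :=
    mul_mem (S.le ⟨t, rfl⟩) (mul_mem (inv_mem hn) (mul_mem (S.le ⟨v, rfl⟩) hn))
  have tz := fz (E.mem t)
  have m1 := (Fz.conj hz f1 f1 (.of (v2 x hx))).trans tz (.of t1)
  have m2 := (Fz.conj hz f f (.of (v2 y hy))).trans tz (.of t3)
  have m3 := (Fz.conj hz f2 (f2.mul f) (.of (v1 w (E.mN hn.2 f2 hq) hw))).trans tz ((Fz.of t2).mul (.of t3))
  generalize φ t * (n⁻¹ * (φ v * n)) = m at *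
  have mz := fz hm.1
  have k1 : Fz φ (m * m) q (q * p) := e2 ▸ m3.trans mz (m3.mul (m2.mul m1))
  have k2 : Fz φ (m * m) (q * p) q := by simpa only [e1] using k1.mul (m1.trans mz m1)
  have k3 : ∀ k, Fz φ ((m * m) ^ (2 * k + 1)) q (q * p) := fun k => by
    induction k with
    | zero => simpa using k1
    | succ k ih =>
      rw [show 2 * (k + 1) + 1 = (2 * k + 1) + 1 + 1 by ring, pow_succ', pow_succ']
      exact (ih.trans (mz.trans mz) k2).trans (mz.trans mz) k1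
  obtain ⟨k, j, hj, s, hs⟩ := two_part S hm
  obtain ⟨q', hq', f3⟩ := lN hj.2 hq
  have f4 := (f3.trans (F.of ((by decide +kernel : ∀ q ∈ A0, ∀ s, s * s * q * (s * s)⁻¹ = q) q' hq' s))).trans
    f3.inv
  rw [map_mul, hs, show j⁻¹ * (j * m ^ (2 * k + 1) * j⁻¹ * (j * m ^ (2 * k + 1) * j⁻¹) * j) =
    m ^ (2 * k + 1) * m ^ (2 * k + 1) by group, ← (Commute.refl m).mul_pow] at f4
  exact (k3 k).elim (fun k => n1 (E.fz f4 k)) fun k => n2 (E.fz f4 k)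

theorem Em.nb1 (hn : n ∈ X ⊓ N(A0.map φ)) (f : F φ n b y) (hy : y ∈ U0) : False := by
  obtain ⟨x, -, f1⟩ := lN hn.2 (by decide : d ∈ A0)
  obtain ⟨w, -, f2⟩ := lN hn.2 (by decide : e ∈ A0)
  have hz : F φ n z z := F.cen.2 (hX hn.1)
  by_cases hx : x ∈ U0 <;> by_cases hw : w ∈ U0
  · obtain ⟨s, hs, f3⟩ := lN (inv_mem hn.2) (by decide : b ∈ A0)
    let K : Subgroup T := (U0.map φ).comap ((MulAut.conj n).toMonoidHom.comp φ)
    have m : ∀ {p p'}, F φ n p p' → p' ∈ U0 → p ∈ K := fun a b => ⟨_, b, a.symm⟩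
    have hK : ∀ i : Bool, ∀ {p}, p ∈ K → (bif i then p else 1) ∈ K := fun i _ h => by
      cases i; exacts [one_mem _, h]
    obtain ⟨i, j, k, l, e⟩ := (by decide +kernel : ∀ s ∈ A0, ∃ i j k l : Bool,
      s = (bif i then b else 1) * (bif j then d else 1) * (bif k then e else 1) * (bif l then z else 1)) s hs
    obtain ⟨u, hu, e'⟩ : s ∈ K := e ▸ mul_mem (mul_mem (mul_mem (hK i (m f hy)) (hK j (m f1 hx))) (hK k (m f2 hw)))
      (hK l (m hz (by decide)))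
    exact absurd (E.fz (e'.symm : F φ n s u) (by simpa using f3.inv) ▸ hu) (by decide : b ∉ U0)
  · exact E.nb0 hX hn f hy f1 hx f2 hw (t := a) (by decide +kernel)
  · exact E.nb0 hX hn f hy f2 hw f1 hx (t := c) (by decide +kernel)
  · exact E.nb0 hX hn f hy (f1.mul f2) ((by decide +kernel : ∀ x ∈ A0, ∀ w ∈ A0, x ∉ U0 → w ∉ U0 → x * w ∈ U0)
      x (E.mN hn.2 f1 (by decide)) w (E.mN hn.2 f2 (by decide)) hx hw) f1 hx (t := a * c) (by decide +kernel)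

theorem Em.nb (h : Cj φ X b y) : y ∉ Q0 := fun hy => by
  obtain ⟨g, hg, h, hh, w, f1, f2, k1, k2⟩ := E.ext2 h
  have g1 := E.nA' (by decide) k1
  by_cases hA : y ∈ A0
  · exact E.nb1 hX (mul_mem (inv_mem ⟨hh, E.nA' hA k2⟩) ⟨hg, g1⟩) (f1.trans f2.inv)
      ((by decide +kernel : ∀ y ∈ A0, y ∈ Q0 → y ∈ U0) y hA hy)
  obtain ⟨p, q, e1, e2, e3⟩ := (by decide +kernel : ∀ y ∈ Q0, ∃ p q, p * y = y * p ∧ q * y = y * q ∧
    p * q ≠ q * p) y hy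
  obtain ⟨p', f3⟩ := k2 p e1
  obtain ⟨q', f4⟩ := k2 q e2
  exact E.nb1 hX ⟨hg, g1⟩ f1 ((by decide +kernel : ∀ w ∈ A0, ∀ p, p * w = w * p → ∀ q, q * w = w * q →
    p * q ≠ q * p → w ∈ U0) w (E.mN g1 f1 (by decide)) p' ((E.cm f3 f2).1 e1) q' ((E.cm f4 f2).1 e2)
    (mt (E.cm f3 f4).2 e3))

/-- `Q` is strongly closed in the centralizer of `z` -/
theorem Em.sc (hg : g ∈ X) (f : F φ g x y) (hx : x ∈ Q0) : y ∈ Q0 := by_contra fun hy => by
  have hz : F φ g z z := F.cen.2 (hX hg)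
  have h1 : y * y = 1 ∨ y * y = z := ((by decide +kernel : ∀ x ∈ Q0, x * x = 1 ∨ x * x = z) x hx).imp
    (E.sq f).1 fun (k : x * x = z) => E.fz (f.mul f) (k ▸ hz)
  obtain k | k := (by decide +kernel : ∀ y ∉ Q0, y * y = 1 ∨ y * y = z →
    (∃ w, w * b * w⁻¹ = y) ∨ ∃ w, w * b * w⁻¹ = y * z) y hy h1
  exacts [E.nb hX ((E.cc k).trans (Cj.symm ⟨g, hg, f⟩)) hx,
    E.nb hX ((E.cc k).trans (Cj.symm ⟨g, hg, f.mul hz⟩)) (mul_mem hx (by decide))]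

theorem Em.scl : SCl (Q0.map φ) X := SCl.of_syl E.syl (map_le_range _ _) (by
  rintro _ ⟨x, hx, rfl⟩ g hg ⟨y, hy⟩
  exact ⟨y, E.sc hX hg hy.symm hx, hy⟩)

end

end H2.U4
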