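import Cfsg.Agent.H15.MX0

/-! Linear algebra in the group `2 ^ 10`, first part. -/

set_option autoImplicit false
set_option linter.unusedSectionVars false

namespace H2.MX
open Cfsg H15 H19 H0 H0.Mo H0.Y H12 H15.ML H15.MX Subgroup QuadraticMap
open scoped commutatorElement

variable {G : Type} [Group G] [Finite G] {z : G} {e : V10 → G}

theorem zc (a : ZMod 2) : a = 0 ∨ a = 1 := by revert a; decide

theorem half_of {A B : Subgroup G} (h : ∀ x ∈ A, ∀ y ∈ A, x ∉ B → y ∉ B → x * y ∈ B) : #A ≤ 2 * #(A ⊓ B) := by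
  by_cases k : A ≤ B
  · rw [inf_eq_left.2 k]; omega
  obtain ⟨a, ha, na⟩ := SetLike.not_le_iff_exists.1 k
  classical
  let f : A → (A ⊓ B : Subgroup G) × Bool := fun x => if c : (x : G) ∈ B then (⟨x, x.2, c⟩, true)
    else (⟨a * x, mul_mem ha x.2, h a ha x x.2 na c⟩, false)
  have : Function.Injective f := fun x y t => by
    by_cases c : (x : G) ∈ B <;> by_cases d : (y : G) ∈ B <;> simp only [f, c, d, dite_true, dite_false,
      Prod.mk.injEq, Bool.true_eq_false, Bool.false_eq_true, and_false] at t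
    exacts [Subtype.ext (congrArg Subtype.val t.1 :), Subtype.ext (mul_left_cancel (congrArg Subtype.val t.1 :))]
  simpa [mul_comm] using Nat.card_le_card_of_injective f this

/-- coordinates on the group `2 ^ 10` -/
structure Co (z : G) (e : V10 → G) : Prop where
  mg : MG z
  p : Par e
  b : ∀ x, x ≠ 0 → (q10 x = 0 ↔ IsConj z (e x))
  q : ∀ x y, x ≠ 0 → q10 x = 0 → (e y ∈ Qo (e x) ↔ polar q10 x y = 0)

/-- the orthogonal complement -/
abbrev pp (S : Submodule (ZMod 2) V10) : Submodule (ZMod 2) V10 := (CForm.ofQuad q10).perp S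

theorem mem_pp {S : Submodule (ZMod 2) V10} {y : V10} : y ∈ pp S ↔ ∀ x ∈ S, polar q10 x y = 0 := Iff.rfl

theorem rk10 : Module.finrank (ZMod 2) V10 = 10 := by simp

theorem card_pp (S : Submodule (ZMod 2) V10) : Nat.card S * Nat.card (pp S) = 2 ^ 10 := by
  rw [Module.natCard_eq_pow_finrank (K := ZMod 2), Module.natCard_eq_pow_finrank (K := ZMod 2) (V := pp S),
    Nat.card_zmod, ← pow_add, nd10.finrank_add_finrank_perp, rk10]

theorem pself (x : V10) : polar q10 x x = 0 := by rw [polar_self', show (2 : ZMod 2) = 0 from rfl, zero_mul]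

theorem ne0 {a : ZMod 2} : a ≠ 0 ↔ a = 1 := by revert a; decide

theorem sub_of (p : Par e) {U : Subgroup G} (h : U ≤ p.grp) : ∃ S, p.sub S = U :=
  ⟨{ carrier := {x | e x ∈ U}
     add_mem' := fun a b => by rw [Set.mem_ofPred_eq, p.add]; exact mul_mem a b
     zero_mem' := by rw [Set.mem_ofPred_eq, p.zero]; exact one_mem _
     smul_mem' := fun c x a => by
       rcases zc c with rfl | rfl
       · rw [zero_smul, Set.mem_ofPred_eq, p.zero]; exact one_mem _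
       · rwa [one_smul] },
    le_antisymm (by rintro _ ⟨x, a, rfl⟩; exact a) fun u a => let ⟨x, _, b⟩ := h a; ⟨x, show e x ∈ U from b ▸ a, b⟩⟩

namespace Co
variable (c : Co z e)
include c

theorem ne {x : V10} : e x ≠ 1 ↔ x ≠ 0 := ⟨fun a b => a (b ▸ c.p.zero), fun a b => a (c.p.inj x b)⟩

theorem ex {u : G} (hu : u ∈ c.p.grp) (b : IsConj z u) : ∃ x, x ≠ 0 ∧ q10 x = 0 ∧ e x = u := by
  obtain ⟨x, -, rfl⟩ := hu
  have := c.ne.1 (ne1 c.mg b)
  exact ⟨x, this, (c.b x this).2 b, rfl⟩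

theorem q0 {U : Subgroup G} (hb : ∀ u ∈ U, u ≠ 1 → IsConj z u) {x : V10} (h : e x ∈ U) : q10 x = 0 := by
  by_cases n : x = 0
  exacts [by rw [n, map_zero], (c.b x n).2 (hb _ h (c.ne.2 n))]

theorem p0 {U : Subgroup G} (hb : ∀ u ∈ U, u ≠ 1 → IsConj z u) {x y : V10} (h : e x ∈ U) (k : e y ∈ U) :
    polar q10 x y = 0 := by
  have := Q_add q10 x y
  rwa [c.q0 hb h, c.q0 hb k, c.q0 hb (by rw [c.p.add]; exact mul_mem h k), zero_add, zero_add, eq_comm] at this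

theorem perp_eq {S : Submodule (ZMod 2) V10} (hb : ∀ u ∈ c.p.sub S, u ≠ 1 → IsConj z u) :
    c.p.grp ⊓ QU (c.p.sub S) = c.p.sub (pp S) := by
  refine le_antisymm ?_ ?_
  · rintro _ ⟨⟨y, -, rfl⟩, k⟩
    refine c.p.mem_sub.2 (mem_pp.2 fun x a => ?_)
    by_cases n : x = 0
    · rw [n, polar_zero_left]
    exact (c.q x y n (c.q0 hb (c.p.mem_sub.2 a))).1 (mem_QU.1 k _ (c.p.mem_sub.2 a) (c.ne.2 n))
  · rintro _ ⟨y, k, rfl⟩
    refine ⟨c.p.mem y, mem_QU.2 ?_⟩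
    rintro _ ⟨x, a, rfl⟩ n
    exact (c.q x y (c.ne.1 n) (c.q0 hb (c.p.mem_sub.2 a))).2 (mem_pp.1 k x a)

theorem ab : ∀ x ∈ c.p.grp, x * x = 1 := by rintro _ ⟨x, -, rfl⟩; exact c.p.sq x

theorem nq {x y : V10} (n : x ≠ 0) (s : q10 x = 0) : e y ∉ Qo (e x) ↔ polar q10 x y = 1 :=
  (c.q x y n s).not.trans ne0

theorem idx : ∀ u ∈ c.p.grp, IsConj z u → ∀ x ∈ Qo u ⊔ c.p.grp, ∀ y ∈ Qo u ⊔ c.p.grp, x ∉ Qo u → y ∉ Qo u →
    x * y ∈ Qo u := fun u hu b x hx y hy nx ny => by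
  have nn : c.p.grp ≤ N(Qo u) := ((comm_of_sq c.ab).trans (cent_le_cent1 hu)).trans (nQ c.mg b)
  obtain ⟨s, s0, qs, rfl⟩ := c.ex hu b
  obtain ⟨x, mx, _, ⟨a, -, rfl⟩, rfl⟩ := (mem_sup_of_norm nn).1 hx
  obtain ⟨y, my, _, ⟨a', -, rfl⟩, rfl⟩ := (mem_sup_of_norm nn).1 hy
  rw [mul_mem_cancel_left mx, c.nq s0 qs] at nx
  rw [mul_mem_cancel_left my, c.nq s0 qs] at ny
  have : e (a + a') ∈ Qo (e s) := (c.q _ _ s0 qs).2 (by rw [polar_add_right, nx, ny]; rfl)
  have t := mul_mem (mul_mem mx (conj_mem_of_norm (nn (c.p.mem a)) my)) this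
  rw [c.p.add] at t
  convert t using 1; group

theorem sing : ∀ U ≤ c.p.grp, (∀ u ∈ U, u ≠ 1 → IsConj z u) → Sing z U := fun U hU hb u hu n => by
  refine ⟨hb u hu n, fun t ht => ?_⟩
  obtain ⟨s, s0, qs, rfl⟩ := c.ex (hU hu) (hb u hu n)
  obtain ⟨y, -, rfl⟩ := hU ht
  exact (c.q _ _ s0 qs).2 (c.p0 hb hu ht)

theorem perp : ∀ U ≤ c.p.grp, Sing z U → #U * #(c.p.grp ⊓ QU U) = 2 ^ 10 := fun U hU s => by
  obtain ⟨S, rfl⟩ := sub_of c.p hU
  rw [c.perp_eq fun u a n => (s u a n).1, c.p.card_sub, c.p.card_sub, card_pp]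

theorem rep : ∀ U ≤ c.p.grp, Sing z U → ∀ x, (∀ u ∈ U, u ≠ 1 → x ∈ Qo u ⊔ c.p.grp) →
    ∃ k ∈ c.p.grp, x * k ∈ QU U := fun U hU s x hx => by
  obtain ⟨k, -, hk⟩ := Set.exists_max_image Set.univ (fun k : V10 => #(Nb z U (x * e k))) (Set.toFinite _)
    ⟨0, trivial⟩
  refine ⟨e k, c.p.mem k, mem_QU.2 fun u hu n => by_contra fun m => ?_⟩
  obtain ⟨T, hT⟩ := sub_of c.p (Nb_le.trans hU : Nb z U (x * e k) ≤ _)
  obtain ⟨y, y0, qy, rfl⟩ := c.ex (hU hu) (s u hu n).1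
  have nT : e y ∉ Nb z U (x * e k) := fun a => ((mem_Nb c.mg s).1 a).elim n fun t => m t.2
  obtain ⟨w, hw, hy⟩ := nd10.exists_perp_eq (W := T) (x := y) (fun a => nT (hT ▸ c.p.mem_sub.2 a)) 1
  have lt : Nb z U (x * e k) < Nb z U (x * e (k + w)) := by
    rw [c.p.add, ← mul_assoc]
    refine lt_of_le_of_ne (fun t ht => (mem_Nb c.mg s).2 (or_iff_not_imp_left.2 fun t1 => ?_)) fun t => nT ?_
    · have a := ((mem_Nb c.mg s).1 ht).resolve_left t1
      obtain ⟨r, r0, qr, rfl⟩ := c.ex (hU a.1) (s t a.1 t1).1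
      exact ⟨a.1, mul_mem a.2 ((c.q _ _ r0 qr).2 (mem_pp.1 hw r (c.p.mem_sub.1 (hT ▸ ht))))⟩
    · rw [t]
      exact (mem_Nb c.mg s).2 (.inr ⟨hu, c.idx _ (hU hu) (s _ hu n).1 _
        (mul_mem (hx _ hu n) (mem_sup_right (c.p.mem k))) _ (mem_sup_right (c.p.mem w)) m ((c.nq y0 qy).2 hy)⟩)
  exact absurd (hk (k + w) trivial) (card_lt lt).not_ge

theorem la : La z c.p.grp where
  ab := c.ab
  EC := comm_of_sq c.ab
  card := by rw [c.p.card, Module.natCard_eq_pow_finrank (K := ZMod 2), Nat.card_zmod, rk10]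
  cardW u hu b := by
    have z2 := fun x => (es c.mg b).mem_zp (x := x)
    have := c.perp (zpowers u) (zpowers_le.2 hu) fun t a n => by
      rw [((z2 t).1 a).resolve_left n]; exact ⟨b, (es c.mg b).zp_le⟩
    rw [(es c.mg b).card_zp, show QU (zpowers u) = Qo u from le_antisymm
      (fun x a => mem_QU.1 a u (mem_zpowers u) (ne1 c.mg b))
      fun x a => mem_QU.2 fun t k n => by rwa [((z2 t).1 k).resolve_left n]] at this
    omega
  idx := c.idx
  half u hu b A hA := half_of fun x hx y hy => c.idx u hu b x (hA hx) y (hA hy)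
  hyp u hu b k hk n := by
    obtain ⟨s, s0, qs, rfl⟩ := c.ex hu b
    obtain ⟨y, -, rfl⟩ := hk
    rw [c.nq s0 qs] at n
    have y0 : y ≠ 0 := by rintro rfl; rw [polar_zero_right] at n; exact zero_ne_one n
    have y1 : y + s ≠ 0 := fun t => by
      rw [add_eq_zero_iff_eq_neg, neg_self] at t
      rw [t, pself] at n; exact zero_ne_one n
    rw [← c.p.add, ← c.b _ y0, ← c.b _ y1, Q_add, qs, polar_comm, n]
    rcases zc (q10 y) with t | t <;> rw [t] <;> decide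
  two u hu v hv a b n := by
    obtain ⟨s, s0, qs, rfl⟩ := c.ex hu a
    obtain ⟨t, t0, qt, rfl⟩ := c.ex hv b
    obtain ⟨w, hw, hy⟩ := nd10.exists_perp_eq (W := Submodule.span (ZMod 2) {s}) (x := t) (fun m => by
      obtain ⟨r, rfl⟩ := Submodule.mem_span_singleton.1 m
      rcases zc r with rfl | rfl
      exacts [t0 (zero_smul _ _), n (by rw [one_smul])]) 1
    exact ⟨e w, c.p.mem w, (c.q _ _ s0 qs).2 (mem_pp.1 hw s (Submodule.mem_span_singleton_self s)),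
      (c.nq t0 qt).2 hy⟩
  sing := c.sing
  perp := c.perp
  rep := c.rep
  nb U hU s x hx := by
    obtain ⟨_, ⟨k, -, rfl⟩, hk⟩ := c.rep U hU s x hx
    have key : ∀ a, e a ∈ U → (e a ∈ Nb z U x ↔ polar q10 a k = 0) := fun a m => by
      rw [mem_Nb c.mg s]
      by_cases n : a = 0
      · rw [n, c.p.zero, polar_zero_left]; simp
      rw [← c.q _ _ n (c.q0 (fun u a n => (s u a n).1) m), or_iff_right (c.ne.2 n), and_iff_right m]
      have := mem_QU.1 hk _ m (c.ne.2 n)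
      exact ⟨fun t => (mul_mem_cancel_left t).1 this, fun t => (mul_mem_cancel_right t).1 this⟩
    have := half_of (A := U) (B := Nb z U x) fun u hu v hv nu nv => by
      obtain ⟨a, -, rfl⟩ := hU hu
      obtain ⟨b, -, rfl⟩ := hU hv
      rw [key a hu] at nu
      rw [key b hv] at nv
      rw [← c.p.add, key _ (by rw [c.p.add]; exact mul_mem hu hv), polar_add_left, ne0.1 nu, ne0.1 nv]; rfl
    rwa [inf_eq_right.2 Nb_le] at this

end Co

theorem la : LA := fun _ _ _ _ _ h A => by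
  obtain ⟨e, p, rfl, b, q, -⟩ := A.co
  exact Co.la ⟨h, p, b, q⟩

end H2.MX
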