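import Cfsg.Agent.H2.MX1

/-! Linear algebra in the group `2 ^ 10`, second part. -/

set_option autoImplicit false
set_option linter.unusedSectionVars false

namespace H2.MX
open Cfsg H15 H19 H0 H0.Mo H0.Y H12 H15.ML H15.MX Subgroup QuadraticMap
open scoped commutatorElement

theorem even_of_inv {α : Type} [Finite α] (f : α → α) (hf : ∀ x, f (f x) = x) (n : ∀ x, f x ≠ x) :
    2 ∣ Nat.card α := by
  have := Fintype.ofFinite α
  by_contra k
  rw [Nat.card_eq_fintype_card] at k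
  obtain ⟨a, t⟩ := Equiv.Perm.exists_fixed_point_of_prime (n := 1) k (σ := ⟨f, f, hf, hf⟩) (Equiv.ext hf)
  exact n a t

theorem fix {H : Type} [Group H] (hH : IsPGroup 2 H) (θ : H →* (V10 ≃ₗ[ZMod 2] V10)) {S : Set V10} (h0 : 0 ∈ S)
    (hi : ∀ t, ∀ x ∈ S, θ t x ∈ S) (f : V10 → V10) (m : ∀ x ∈ S, f x ∈ S) (hf : ∀ x ∈ S, f (f x) = x)
    (n : ∀ x ∈ S, f x ≠ x) : ∃ x ∈ S, x ≠ 0 ∧ ∀ t, θ t x = x := by
  let _ : MulAction H S :=
    { smul := fun t x => ⟨θ t x, hi t x x.2⟩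
      one_smul := fun x => Subtype.ext (show θ 1 x = x by rw [map_one]; rfl)
      mul_smul := fun s t x => Subtype.ext (show θ (s * t) x = θ s (θ t x) by rw [map_mul]; rfl) }
  obtain ⟨b, hb, t⟩ := hH.exists_fixed_point_of_prime_dvd_card_of_fixed_point S
    (even_of_inv (fun x => ⟨f x, m x x.2⟩) (fun x => Subtype.ext (hf x x.2)) fun x t => n x x.2 (congrArg Subtype.val t))
    (a := ⟨0, h0⟩) fun t => Subtype.ext (map_zero (θ t))
  exact ⟨b, b.2, fun k => t (Subtype.ext k.symm), fun t => congrArg Subtype.val (hb t)⟩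

theorem rk_aniso {S : Submodule (ZMod 2) V10} (h : ∀ x ∈ S, q10 x = 0 → x = 0) : Module.finrank (ZMod 2) S ≤ 5 := by
  have := LinearMap.finrank_le_finrank_of_injective (f := (LinearMap.funLeft (ZMod 2) (ZMod 2) Sum.inr).comp S.subtype)
    ((injective_iff_map_eq_zero _).2 fun x t => Subtype.ext (h x x.2 (by
      have k : ∀ i, x.1 (.inr i) = 0 := congrFun t
      simp [quadFormPlus, k])))
  simpa using this

theorem exists_pp {S T : Submodule (ZMod 2) V10} (h : Module.finrank (ZMod 2) S + Module.finrank (ZMod 2) T < 10) :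
    ∃ v ∈ pp S, v ∉ T := SetLike.not_le_iff_exists.1 fun k => by
  have a := Submodule.finrank_mono k
  have b := nd10.finrank_add_finrank_perp S
  rw [rk10] at b
  exact absurd h (by unfold pp at a; omega)

theorem fix0 {H : Type} [Group H] (hH : IsPGroup 2 H) (θ : H →* (V10 ≃ₗ[ZMod 2] V10)) (hq : ∀ t x, q10 (θ t x) = q10 x)
    {S : Submodule (ZMod 2) V10} (h : ∀ x ∈ S, q10 x = 0 → x = 0) (hS : ∀ t, ∀ x ∈ S, θ t x = x) :
    ∃ x ∈ pp S, x ≠ 0 ∧ q10 x = 0 ∧ ∀ t, θ t x = x := by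
  have hp : ∀ t x y, polar q10 (θ t x) (θ t y) = polar q10 x y := fun t x y => by
    simp only [polar, ← map_add, hq]
  have r := rk_aniso h
  have i : ∀ t, ∀ x ∈ pp S, θ t x ∈ pp S := fun t x a => mem_pp.2 fun y b => by
    rw [← hS t y b, hp, mem_pp.1 a y b]
  obtain ⟨v, hv, v0⟩ := exists_pp (S := S) (T := ⊥) (by rw [finrank_bot]; omega)
  obtain ⟨w, hw, w0, fw⟩ := fix hH θ (S := pp S) (zero_mem _) i (· + v) (fun x a => add_mem a hv)
    (fun x _ => by rw [add_assoc, add_self, add_zero]) fun x _ t => v0 (add_eq_left.1 t)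
  rcases zc (q10 w) with q | q
  · exact ⟨w, hw, w0, q, fw⟩
  have r1 := finrank_span_singleton (K := ZMod 2) w0
  have r2 := Submodule.finrank_add_le_finrank_add_finrank S (Submodule.span (ZMod 2) {w})
  obtain ⟨v, hv, v0⟩ := exists_pp (S := S ⊔ Submodule.span (ZMod 2) {w}) (T := Submodule.span (ZMod 2) {w}) (by omega)
  have vS : v ∈ pp S := mem_pp.2 fun y b => mem_pp.1 hv y (Submodule.mem_sup_left b)
  have vw : polar q10 w v = 0 := mem_pp.1 hv w (Submodule.mem_sup_right (Submodule.mem_span_singleton_self w))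
  have k : ∀ (y : V10) (c : ZMod 2), polar q10 w y = 0 → q10 (y + c • w) = q10 y + c := fun y c a => by
    rcases zc c with rfl | rfl
    · rw [zero_smul, add_zero, add_zero]
    · rw [one_smul, Q_add, q, polar_comm, a, add_zero]
  obtain ⟨x, hx, x0, fx⟩ := fix hH θ (S := {y | y ∈ pp S ∧ polar q10 w y = 0 ∧ q10 y = 0})
    ⟨zero_mem _, polar_zero_right _ _, map_zero _⟩
    (fun t x a => ⟨i t x a.1, by rw [← fw t, hp, a.2.1], by rw [hq, a.2.2]⟩) (fun y => y + v + q10 (y + v) • w)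
    (fun y a => ⟨add_mem (add_mem a.1 vS) (Submodule.smul_mem _ _ hw), by
      rw [polar_add_right, polar_add_right, polar_smul_right, a.2.1, vw, pself]; simp, by
      rw [k _ _ (by rw [polar_add_right, a.2.1, vw, add_zero]), add_self]⟩)
    (fun y a => by
      have : y + v + q10 (y + v) • w + v = y + q10 (y + v) • w := by
        rw [add_right_comm, add_assoc y, add_self, add_zero]
      rw [this, k _ _ a.2.1, a.2.2, zero_add, add_assoc, add_self, add_zero])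
    fun y _ t => v0 (by
      rw [add_assoc, add_eq_left, add_eq_zero_iff_eq_neg, neg_self] at t
      rw [t]; exact Submodule.smul_mem _ _ (Submodule.mem_span_singleton_self w))
  exact ⟨x, hx.1, x0, hx.2.2, fx⟩

section
variable {δ δ' : V10 →ₗ[ZMod 2] V10} {L L' L'' : Submodule (ZMod 2) V10}

theorem alt_symm (h : ∀ x, polar q10 x (δ x) = 0) (x y : V10) : polar q10 x (δ y) = polar q10 y (δ x) := by
  have := h (x + y)
  rw [map_add, polar_add_left, polar_add_right, polar_add_right, h, h, zero_add, add_zero, add_eq_zero_iff_eq_neg,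
    neg_self] at this
  exact this

theorem rng (h : ∀ x, polar q10 x (δ x) = 0) (n : δ ≠ 0) (c : Nat.card L = 4) (m : ∀ x, δ x ∈ L) :
    ∃ x y, polar q10 y (δ x) = 1 ∧ ∀ l ∈ L, l = 0 ∨ l = δ x ∨ l = δ y ∨ l = δ (x + y) := by
  obtain ⟨x, hx⟩ : ∃ x, δ x ≠ 0 := not_forall.1 fun k => n (LinearMap.ext k)
  obtain ⟨y, -, hy⟩ := nd10.exists_perp_eq (W := ⊥) (x := δ x) hx 1
  replace hy : polar q10 y (δ x) = 1 := by rw [polar_comm]; exact hy
  have a := (alt_symm h x y).trans hy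
  have b : polar q10 x (δ (x + y)) = 1 := by rw [map_add, polar_add_right, h, a, zero_add]
  have b' : polar q10 y (δ (x + y)) = 1 := by rw [map_add, polar_add_right, h, hy, add_zero]
  have n1 : ∀ {s t w : V10}, polar q10 w s = 0 → polar q10 w t = 1 → s ≠ t := fun p q r => by
    rw [r, q] at p; exact one_ne_zero p
  have z := polar_zero_right q10
  have : ({0, δ x, δ y, δ (x + y)} : Set V10) = L := Set.eq_of_subset_of_ncard_le (by
    rintro _ (rfl | rfl | rfl | rfl)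
    exacts [zero_mem _, m _, m _, m _]) (by
      rw [Set.ncard_insert_of_notMem (by simp only [Set.mem_insert_iff, Set.mem_singleton_iff, not_or]; exact
          ⟨n1 (z y) hy, n1 (z x) a, n1 (z x) b⟩),
        Set.ncard_insert_of_notMem (by simp only [Set.mem_insert_iff, Set.mem_singleton_iff, not_or]; exact
          ⟨n1 (h x) a, n1 (h x) b⟩), Set.ncard_pair (n1 (h y) b')]
      exact c.le)
  exact ⟨x, y, hy, fun l k => show l ∈ ({0, δ x, δ y, δ (x + y)} : Set V10) from this ▸ k⟩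

theorem ker_pp (h : ∀ x, polar q10 x (δ x) = 0) (n : δ ≠ 0) (c : Nat.card L = 4) (m : ∀ x, δ x ∈ L) {v : V10} :
    v ∈ pp L ↔ δ v = 0 := by
  refine ⟨fun a => nd10 _ fun y => ?_, fun a => mem_pp.2 fun l k => ?_⟩
  · show polar q10 _ _ = _
    rw [polar_comm, alt_symm h, polar_comm, mem_pp.1 a _ (m y)]
  obtain ⟨x, y, -, t⟩ := rng h n c m
  have : ∀ x, polar q10 (δ x) v = 0 := fun x => by rw [polar_comm, alt_symm h, a, polar_zero_right]
  rcases t l k with rfl | rfl | rfl | rfl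
  exacts [polar_zero_left _ _, this _, this _, this _]

theorem alt0 (h : ∀ x, polar q10 x (δ x) = 0) (h' : ∀ x, polar q10 x (δ' x) = 0) (n : δ ≠ 0) (n' : δ' ≠ 0)
    (n'' : δ + δ' ≠ 0) (c : Nat.card L = 4) (c' : Nat.card L' = 4) (c'' : Nat.card L'' = 4) (m : ∀ x, δ x ∈ L)
    (m' : ∀ x, δ' x ∈ L') (m'' : ∀ x, (δ + δ') x ∈ L'') : L ⊓ L' ≠ ⊥ ∧ L ≠ L' := by
  have h'' : ∀ x, polar q10 x ((δ + δ') x) = 0 := fun x => by
    rw [LinearMap.add_apply, polar_add_right, h, h', add_zero]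
  refine ⟨fun b => ?_, fun b => ?_⟩
  · have k : ∀ v ∈ pp L'', δ v = 0 ∧ δ' v = 0 := fun v a => by
      have t := (ker_pp h'' n'' c'' m'').1 a
      rw [LinearMap.add_apply, add_eq_zero_iff_eq_neg, neg_self] at t
      have : δ v = 0 := b.le (show δ v ∈ L ⊓ L' from ⟨m v, t ▸ m' v⟩)
      exact ⟨this, t ▸ this⟩
    have e : ∀ {M : Submodule (ZMod 2) V10}, Nat.card M = 4 → pp L'' ≤ pp M → M = L'' := fun {M} a b =>
      SetLike.coe_injective (Set.eq_of_subset_of_ncard_le (fun x t => by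
        rw [← nd10.perp_perp L'']
        exact mem_pp.2 fun y s => by rw [polar_comm]; exact mem_pp.1 (b s) x t) (c''.trans a.symm).le)
    rw [e c fun v a => (ker_pp h n c m).2 (k v a).1, e c' fun v a => (ker_pp h' n' c' m').2 (k v a).2, inf_idem] at b
    rw [b] at c''
    simp at c''
  · subst b
    obtain ⟨x, y, p, t⟩ := rng h n c m
    have a := (alt_symm h x y).trans p
    have k : x ∉ pp L := fun s => by
      have := mem_pp.1 s _ (m y)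
      rw [polar_comm, a] at this; exact one_ne_zero this
    have u := h' x
    rcases t _ (m' x) with s | s | s | s
    · exact k ((ker_pp h' n' c m').2 s)
    · exact k ((ker_pp h'' n'' c fun x => add_mem (m x) (m' x)).2 (by rw [LinearMap.add_apply, s, add_self]))
    · rw [s, a] at u; exact one_ne_zero u
    · rw [s, map_add, polar_add_right, h, a, zero_add] at u; exact one_ne_zero u

end

variable {G : Type} [Group G] [Finite G] {z : G} {e : V10 → G}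

namespace Co
variable (c : Co z e)
include c

theorem act : ∃ θ : N(c.p.grp) →* (V10 ≃ₗ[ZMod 2] V10), (∀ n x, e (θ n x) = n * e x * (n : G)⁻¹) ∧
    ∀ n x, q10 (θ n x) = q10 x := by
  obtain ⟨θ, h⟩ := c.p.act
  refine ⟨θ, h, fun n x => ?_⟩
  by_cases x0 : x = 0
  · rw [x0, map_zero]
  have : q10 (θ n x) = 0 ↔ q10 x = 0 := by
    rw [c.b x x0, c.b _ ((θ n).map_ne_zero_iff.2 x0), h]
    exact ⟨fun a => a.trans (isConj_iff.2 ⟨(n : G), rfl⟩).symm, fun a => cjB a n⟩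
  revert this
  generalize q10 (θ n x) = a
  generalize q10 x = b
  revert a b; decide

theorem fixa : ∀ A ≤ c.p.grp, Pure z A → ∀ T, PG 2 T → T ≤ N(c.p.grp) → T ≤ C(A) →
    ∃ u ∈ c.p.grp, IsConj z u ∧ T ≤ C[u] ∧ A ≤ Qo u := fun A hA pu T hT n hc => by
  obtain ⟨θ, h, hq⟩ := c.act
  obtain ⟨S, rfl⟩ := sub_of c.p hA
  obtain ⟨x, hx, x0, qx, fx⟩ := fix0 hT.isPGroup (θ.comp (inclusion n)) (fun t => hq _) (S := S)
    (fun x a q => by_contra fun x0 => (pu _ (c.p.mem_sub.2 a) (c.ne.2 x0)).2.2 ((c.b x x0).1 q))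
    fun t x a => c.p.injective ((h _ _).trans (c.p.mem_cent.1 (hc t.2) x a))
  refine ⟨e x, c.p.mem x, (c.b x x0).1 qx, fun t a => mem_cent1.2 (mul_inv_eq_iff_eq_mul.1
    ((h (inclusion n ⟨t, a⟩) x).symm.trans (congrArg e (fx ⟨t, a⟩)))), ?_⟩
  rintro _ ⟨y, a, rfl⟩
  exact (c.q _ _ x0 qx).2 (by rw [polar_comm]; exact mem_pp.1 hx y a)

theorem trv (co : ∀ n ∈ N(c.p.grp), ∀ a, q10 a = 1 → ¬ ∀ x, n * e x * n⁻¹ = e (x + polar q10 a x • a)) :
    ∀ v ∈ N(c.p.grp), v * v = 1 → v ∉ C(c.p.grp) → ∃ X, X ≠ ⊥ ∧ X ≤ c.p.grp ∧ Sing z X ∧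
      N(c.p.grp) ⊓ C[v] ≤ N(X) ∧ c.p.grp ⊓ C[v] ≤ QU X := fun v hv vv nv => by
  obtain ⟨θ, h, hq⟩ := c.act
  have hp : ∀ t x y, polar q10 (θ t x) (θ t y) = polar q10 x y := fun t x y => by
    simp only [polar, ← map_add, hq]
  let τ := θ ⟨v, hv⟩
  have tt : ∀ x, τ (τ x) = x := fun x => by
    rw [← LinearEquiv.mul_apply, ← map_mul, show (⟨v, hv⟩ * ⟨v, hv⟩ : N(c.p.grp)) = 1 from Subtype.ext vv, map_one]; rfl
  have pf : ∀ x y, τ y = y → polar q10 (τ x + x) y = 0 := fun x y a => by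
    rw [polar_add_left, ← hp ⟨v, hv⟩ x y, a, add_self]
  have pm : ∀ x y, polar q10 (τ x + x) (τ y + y) = 0 := fun x y => pf _ _ (by rw [map_add, tt, add_comm])
  let X : Submodule (ZMod 2) V10 :=
    { carrier := {m | (∃ x, τ x + x = m) ∧ q10 m = 0}
      add_mem' := by
        rintro _ _ ⟨⟨x, rfl⟩, a⟩ ⟨⟨y, rfl⟩, b⟩
        exact ⟨⟨x + y, by rw [map_add, add_add_add_comm]⟩, by rw [Q_add, a, b, pm]; rfl⟩
      zero_mem' := ⟨⟨0, by rw [map_zero, add_zero]⟩, map_zero _⟩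
      smul_mem' := fun r x a => by
        rcases zc r with rfl | rfl
        · rw [zero_smul]; exact ⟨⟨0, by rw [map_zero, add_zero]⟩, map_zero _⟩
        · rwa [one_smul] }
  have hb : ∀ u ∈ c.p.sub X, u ≠ 1 → IsConj z u := by
    rintro _ ⟨x, a, rfl⟩ n
    exact (c.b x (c.ne.1 n)).1 a.2
  refine ⟨c.p.sub X, fun b => ?_, c.p.sub_le X, c.sing _ (c.p.sub_le X) hb, fun g a => mem_norm_of_cj_le fun w hw => ?_,
    fun w hw => ?_⟩
  · have k : ∀ x, q10 (τ x + x) = 0 → τ x + x = 0 := fun x a =>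
      c.p.inj _ (b.le (c.p.mem_sub.2 (show _ ∈ X from ⟨⟨x, rfl⟩, a⟩)))
    obtain ⟨y, hy⟩ : ∃ y, τ y + y ≠ 0 := not_forall.1 fun t => nv (c.p.mem_cent.2 fun x _ => by
      rw [← h ⟨v, hv⟩, (add_eq_zero_iff_eq_neg.1 (t x)).trans (neg_self x)])
    have qy : q10 (τ y + y) = 1 := ne0.1 (mt (k y) hy)
    refine co v hv _ qy fun x => (h ⟨v, hv⟩ x).symm.trans (congrArg e ?_)
    rcases zc (q10 (τ x + x)) with s | s
    · have := (add_eq_zero_iff_eq_neg.1 (k x s)).trans (neg_self x)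
      rw [pf y x this, zero_smul, add_zero]; exact this
    · have t := k (x + y) (by rw [map_add τ, add_add_add_comm, Q_add, s, qy, pm]; rfl)
      rw [map_add, add_add_add_comm, add_eq_zero_iff_eq_neg, neg_self] at t
      have t' : τ x = x + (τ y + y) := by rw [← t, add_comm, add_assoc, add_self, add_zero]
      have := hq ⟨v, hv⟩ x
      rw [show θ ⟨v, hv⟩ x = _ from t', Q_add, qy, add_assoc, add_eq_left, add_eq_zero_iff_eq_neg, neg_self,
        polar_comm] at this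
      rw [← this, one_smul]; exact t'
  · obtain ⟨_, ⟨_, ⟨⟨x, rfl⟩, q⟩, rfl⟩, rfl⟩ := mem_cj'.1 hw
    rw [← h ⟨g, a.1⟩]
    refine c.p.mem_sub.2 ⟨⟨θ ⟨g, a.1⟩ x, ?_⟩, by rw [hq, q]⟩
    rw [map_add, ← LinearEquiv.mul_apply, ← LinearEquiv.mul_apply, ← map_mul, ← map_mul,
      show (⟨v, hv⟩ * ⟨g, a.1⟩ : N(c.p.grp)) = ⟨g, a.1⟩ * ⟨v, hv⟩ from Subtype.ext (mem_cent1.1 a.2).symm]
  · obtain ⟨⟨y, -, rfl⟩, k⟩ := hw
    refine ((c.perp_eq hb).ge (c.p.mem_sub.2 (mem_pp.2 ?_))).2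
    rintro _ ⟨⟨x, rfl⟩, -⟩
    exact pf x y (c.p.injective ((h _ _).trans (mul_inv_eq_iff_eq_mul.2 (mem_cent1.1 k).symm)))

theorem alt : ∀ U ≤ c.p.grp, Sing z U → ∀ L₁ ≤ U, ∀ L₂ ≤ U, ∀ L₃ ≤ U, #L₁ = 4 → #L₂ = 4 → #L₃ = 4 →
    ∀ y₁ ∈ N(c.p.grp), ∀ y₂ ∈ N(c.p.grp), y₁ ∉ C(c.p.grp) → y₂ ∉ C(c.p.grp) → y₁ * y₂ ∉ C(c.p.grp) →
      (∀ k ∈ c.p.grp, ⁅k, y₁⁆ ∈ L₁) → (∀ k ∈ c.p.grp, ⁅k, y₂⁆ ∈ L₂) → (∀ k ∈ c.p.grp, ⁅k, y₁ * y₂⁆ ∈ L₃) →
        L₁ ⊓ L₂ ≠ ⊥ ∧ L₁ ≠ L₂ := fun U hU s L₁ l₁ L₂ l₂ L₃ l₃ c₁ c₂ c₃ y₁ h₁ y₂ h₂ n₁ n₂ n₃ m₁ m₂ m₃ => by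
  obtain ⟨θ, h, hq⟩ := c.act
  have hb : ∀ u ∈ U, u ≠ 1 → IsConj z u := fun u a n => (s u a n).1
  let δ : N(c.p.grp) → V10 →ₗ[ZMod 2] V10 := fun y => LinearMap.id + (θ y).toLinearMap
  have d : ∀ y x, δ y x = x + θ y x := fun _ _ => rfl
  have d' : ∀ y x, θ y x = x + δ y x := fun y x => by rw [d, ← add_assoc, add_self, zero_add]
  have cm : ∀ y x, e (δ y x) = ⁅e x, (y : G)⁆ := fun y x => by
    rw [d, c.p.add, h, commutatorElement_def, inv_eq_of_mul_eq_one_right (c.p.sq x)]; group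
  have nz : ∀ y : N(c.p.grp), (y : G) ∉ C(c.p.grp) → δ y ≠ 0 := fun y n t => n (c.p.mem_cent.2 fun x _ => by
    rw [← h, d', t, LinearMap.zero_apply, add_zero])
  have al : ∀ y, (∀ x, e (δ y x) ∈ U) → ∀ x, polar q10 x (δ y x) = 0 := fun y a x => by
    have := hq y x
    rwa [d', Q_add, c.q0 hb (a x), add_zero, add_eq_left] at this
  obtain ⟨S₁, rfl⟩ := sub_of c.p (l₁.trans hU)
  obtain ⟨S₂, rfl⟩ := sub_of c.p (l₂.trans hU)
  obtain ⟨S₃, rfl⟩ := sub_of c.p (l₃.trans hU)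
  rw [c.p.card_sub] at c₁ c₂ c₃
  have k₁ : ∀ x, δ ⟨y₁, h₁⟩ x ∈ S₁ := fun x => c.p.mem_sub.1 (cm _ x ▸ m₁ _ (c.p.mem x))
  have k₂ : ∀ x, δ ⟨y₂, h₂⟩ x ∈ S₂ := fun x => c.p.mem_sub.1 (cm _ x ▸ m₂ _ (c.p.mem x))
  have k₃ : ∀ x, δ (⟨y₁, h₁⟩ * ⟨y₂, h₂⟩) x ∈ S₃ := fun x => c.p.mem_sub.1 (cm _ x ▸ m₃ _ (c.p.mem x))
  have a₁ := al _ fun x => l₁ (c.p.mem_sub.2 (k₁ x))
  have a₂ := al _ fun x => l₂ (c.p.mem_sub.2 (k₂ x))
  have t : δ (⟨y₁, h₁⟩ * ⟨y₂, h₂⟩) = δ ⟨y₁, h₁⟩ + δ ⟨y₂, h₂⟩ := LinearMap.ext fun x => by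
    have := (ker_pp a₁ (nz _ n₁) c₁ k₁).1
      (mem_pp.2 fun l a => c.p0 hb (l₁ (c.p.mem_sub.2 a)) (l₂ (c.p.mem_sub.2 (k₂ x))))
    rw [LinearMap.add_apply (δ _), d, map_mul, LinearEquiv.mul_apply, d', d' _ x, map_add, this, add_zero, ← add_assoc,
      ← add_assoc, add_self, zero_add, add_comm]
  have := alt0 a₁ a₂ (nz _ n₁) (nz _ n₂) (t ▸ nz _ n₃) c₁ c₂ c₃ k₁ k₂ (t ▸ k₃)
  exact ⟨fun b => this.1 (eq_bot_iff.2 fun x a => c.p.inj x (b.le ⟨c.p.mem_sub.2 a.1, c.p.mem_sub.2 a.2⟩)),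
    fun b => this.2 (Submodule.ext fun x => by rw [← c.p.mem_sub, b, c.p.mem_sub])⟩

end Co

theorem lb : LB := fun _ _ _ _ _ h A _ => by
  obtain ⟨e, p, rfl, b, q, co⟩ := A.co
  have c : Co _ e := ⟨h, p, b, q⟩
  exact ⟨c.fixa, c.trv co, c.alt⟩

end H2.MX
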