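import Cfsg.Agent.H2.MX1

/-! The centralizer of the group `2 ^ 10`: elementary facts. -/

set_option autoImplicit false
set_option linter.unusedSectionVars false

namespace H2.MX
open Cfsg H15 H19 H0 H0.Mo H0.Y H12 H15.ML H15.MX Subgroup QuadraticMap
open scoped commutatorElement

variable {G : Type} [Group G] [Finite G] {z : G} {E : Subgroup G}

omit [Finite G] in
theorem comm_mul_of {y d c : G} (h : c * y = y * c) : ⁅y, d * c⁆ = ⁅y, d⁆ := by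
  rw [commutatorElement_def, commutatorElement_def, mul_inv_rev, ← mul_assoc y, mul_assoc _ c, ← mul_assoc,
    mul_assoc _ _ c⁻¹, show c * y⁻¹ * c⁻¹ = y⁻¹ by rw [mul_inv_eq_iff_eq_mul]; exact (show Commute c y from h).inv_right]

section
variable (h : MG z) (A : Ark z E) (L : La z E)
include h A L

theorem cQ {u : G} (hu : u ∈ E) (b : IsConj z u) : C(E) ≤ N(Qo u) := (cent_le_cent1 hu).trans (nQ h b)

theorem dec : ∀ u ∈ E, IsConj z u → ∀ x ∈ Qo u ⊔ E, x ∈ C(E) → ∃ d ∈ Qo u ⊓ C(E), ∃ c ∈ E, x = d * c :=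
  fun u hu b x hx k => by
    obtain ⟨d, hd, c, hc, rfl⟩ := (mem_sup_of_norm (L.EC.trans (cQ h A L hu b))).1 hx
    exact ⟨d, ⟨hd, (mul_mem_cancel_right (L.EC hc)).1 k⟩, c, hc, rfl⟩

theorem e6 : ∀ u ∈ E, ∀ v ∈ E, IsConj z u → IsConj z v → v ∉ Qo u → (Qo u ⊔ E) ⊓ (Qo v ⊔ E) ⊓ C(E) ≤ E :=
  fun u hu v hv a b n x hx => A.cD u hu a (mem_cent.2 fun y hy => by
    obtain ⟨d, hd, c, hc, e⟩ := dec h A L u hu a x hx.1.1 hx.2
    obtain ⟨d', hd', c', hc', e'⟩ := dec h A L v hv b x hx.1.2 hx.2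
    have k : ⁅y, x⁆ ∈ Qo v := by
      rw [e', comm_mul_of (mem_cent.1 hy.2 c' hc')]
      exact mul_mem (conj_mem_of_norm (cQ h A L hv b hy.2) hd'.1) (inv_mem hd'.1)
    refine commutatorElement_eq_one_iff_mul_comm.1 (((es h a).comm y hy.1 d hd.1).elim (fun t => ?_) fun t => ?_)
    · rw [e, comm_mul_of (mem_cent.1 hy.2 c hc), t]
    · rw [e, comm_mul_of (mem_cent.1 hy.2 c hc), t] at k
      exact absurd (symm h b a k) n)

theorem e6' : ∀ u ∈ E, ∀ v ∈ E, IsConj z u → IsConj z v → v ∉ Qo u → Qo u ⊓ Qo v ≤ E :=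
  fun u hu v hv a b n _ hx => e6 h A L u hu v hv a b n ⟨⟨mem_sup_left hx.1, mem_sup_left hx.2⟩,
    A.e1 u hu a v (mem_sup_right hv) n ⟨hx.1, (es h b).le_cent hx.2⟩⟩

theorem gen : ∀ u ∈ E, ∀ v ∈ E, IsConj z u → IsConj z v → v ∉ Qo u → E = zpowers u ⊔ zpowers v ⊔ Qo u ⊓ Qo v :=
  fun u hu v hv a b n => by
    refine le_antisymm (fun c hc => ?_) (sup_le (sup_le (zpowers_le.2 hu) (zpowers_le.2 hv)) (e6' h A L u hu v hv a b n))
    have k : ∀ c ∈ E, c ∈ Qo u → c ∈ zpowers u ⊔ zpowers v ⊔ Qo u ⊓ Qo v := fun c hc m => by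
      by_cases t : c ∈ Qo v
      · exact mem_sup_right ⟨m, t⟩
      exact (mul_mem_cancel_right (mem_sup_left (mem_sup_left (mem_zpowers u)))).1 (mem_sup_right
        ⟨mul_mem m (self h a), L.idx v hv b c (mem_sup_right hc) u (mem_sup_right hu) t (mt (symm h b a) n)⟩)
    by_cases t : c ∈ Qo u
    · exact k c hc t
    exact (mul_mem_cancel_right (mem_sup_left (mem_sup_right (mem_zpowers v)))).1
      (k _ (mul_mem hc hv) (L.idx u hu a c (mem_sup_right hc) v (mem_sup_right hv) t n))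

theorem kk : ∀ u ∈ E, ∀ v ∈ E, IsConj z u → IsConj z v → v ∉ Qo u →
    ∀ k ∈ C(E), ∃ d ∈ Qo u ⊓ C(E), ∃ d' ∈ Qo v ⊓ C(E), ∃ c ∈ E, k = d * d' * c := fun u hu v hv a b n k hk => by
  have n1 : E ≤ N(Qo v ⊓ C(E)) := norms_inf (L.EC.trans (cQ h A L hv b)) (norms_of_le L.EC)
  have l : Qo v ⊓ C(E) ⊔ E ≤ C(E) := sup_le inf_le_right L.EC
  have n2 : Qo u ⊓ C(E) ≤ N(Qo v ⊓ C(E) ⊔ E) := inf_le_right.trans (norms_of_der_le (A.sp.trans le_sup_right) l)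
  have c1 := card_sup_mul_inf n1
  rw [A.cardD v hv b, L.card, show Qo v ⊓ C(E) ⊓ E = E ⊓ Qo v from
    le_antisymm (fun x t => ⟨t.2, t.1.1⟩) fun x t => ⟨⟨t.2, L.EC t.1⟩, t.1⟩, L.cardW v hv b] at c1
  have c2 := card_sup_mul_inf n2
  have c3 : #((Qo v ⊓ C(E) ⊔ E) ⊓ (Qo u ⊓ C(E))) ≤ 2 ^ 9 := L.cardW u hu a ▸ card_le fun x t =>
    ⟨e6 h A L u hu v hv a b n ⟨⟨mem_sup_left t.2.1, sup_le_sup_right inf_le_left E t.1⟩, t.2.2⟩, t.2.1⟩
  rw [A.cardD u hu a, show #(Qo v ⊓ C(E) ⊔ E) = 2 ^ 18 by omega] at c2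
  have e : Qo v ⊓ C(E) ⊔ E ⊔ Qo u ⊓ C(E) = C(E) := eq_of_le_of_card_ge (sup_le l inf_le_right) (by
    rw [A.cardK]; nlinarith)
  rw [← e, sup_comm] at hk
  obtain ⟨d, hd, _, hb, rfl⟩ := (mem_sup_of_norm' n2).1 hk
  obtain ⟨d', hd', c, hc, rfl⟩ := (mem_sup_of_norm n1).1 hb
  exact ⟨d, hd, d', hd', c, hc, (mul_assoc _ _ _).symm⟩

theorem e7 : ∀ u ∈ E, ∀ v ∈ E, IsConj z u → IsConj z v → v ∈ Qo u → v ≠ u →
    2 ^ 12 ≤ #(Qo u ⊓ Qo v ⊓ C(E)) := fun u hu v hv a b m n => by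
  have k1 : ∀ x ∈ Qo u ⊓ Qo v, ∀ w ∈ Qo u, w ∈ Qo v → w * x = x * w := fun x hx w c d => by_contra fun t =>
    n (((es h b).comm_eq d hx.2 t).symm.trans ((es h a).comm_eq c hx.1 t))
  have k2 : ∀ x ∈ Qo u ⊓ Qo v, x ∉ C(E ⊓ Qo u) → ∀ w ∈ E ⊓ Qo u, w ∉ Qo v → x * w * x⁻¹ = w * u :=
    fun x hx nx w c d => ((es h a).conj_cases hx.1 c.2).resolve_left fun t => nx (mem_cent.2 fun w' c' => by
      by_cases d' : w' ∈ Qo v
      · exact k1 x hx w' c'.2 d'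
      have := k1 x hx _ (mul_mem c.2 c'.2) (L.idx v hv b w (mem_sup_right c.1) w' (mem_sup_right c'.1) d d')
      rw [← mul_assoc, mul_inv_eq_iff_eq_mul.1 t, mul_assoc, mul_assoc] at this
      exact mul_left_cancel this)
  have := half_of (A := Qo u ⊓ Qo v) (B := C(E ⊓ Qo u)) fun x hx y hy nx ny => mem_cent.2 fun w c => by
    by_cases d : w ∈ Qo v
    · exact k1 _ (mul_mem hx hy) w c.2 d
    have t : x * y * w * (x * y)⁻¹ = x * (y * w * y⁻¹) * x⁻¹ := by group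
    rw [k2 y hy ny w c d, ← conj_mul, k2 x hx nx w c d, (es h a).cent x hx.1, mul_inv_cancel_right, mul_assoc w,
      sq h a, mul_one] at t
    exact (mul_inv_eq_iff_eq_mul.1 t).symm
  have t := card_le (inf_le_inf_left (Qo u ⊓ Qo v) (A.cW u hu a))
  rw [card13 h a b m n] at this
  omega

theorem nd : ∀ u ∈ E, IsConj z u → ∀ x ∈ (Qo u ⊔ E) ⊓ C(E), ∀ y ∈ (Qo u ⊔ E) ⊓ C(E), y ∉ E ⊔ zpowers x →
    ∃ k ∈ Qo u ⊓ C(E), k * x = x * k ∧ ⁅k, y⁆ = u := fun u hu a x hx y hy n => by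
  obtain ⟨d, hd, c, hc, rfl⟩ := dec h A L u hu a x hx.1 hx.2
  obtain ⟨d', hd', c', hc', rfl⟩ := dec h A L u hu a y hy.1 hy.2
  have e := (es h a).cent_cent (A := E ⊓ Qo u ⊔ zpowers d) (mem_sup_left ⟨hu, self h a⟩)
    (sup_le inf_le_right (zpowers_le.2 hd.1))
  have : d' ∉ C(Qo u ⊓ C(E ⊓ Qo u ⊔ zpowers d)) := fun t => n (mul_mem
    ((sup_le (inf_le_left.trans le_sup_left) (zpowers_le.2 ((mul_mem_cancel_right (mem_sup_left hc)).1
      (mem_sup_right (mem_zpowers _)))) : _ ≤ E ⊔ zpowers (d * c)) (e.le ⟨hd'.1, t⟩)) (mem_sup_left hc'))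
  rw [mem_cent] at this
  push Not at this
  obtain ⟨k, hk, t⟩ := this
  have kE := A.cW u hu a (centralizer_le (show ((E ⊓ Qo u : Subgroup G) : Set G) ⊆ _ from le_sup_left (b := zpowers d)) hk.2)
  refine ⟨k, ⟨hk.1, kE⟩, ?_, by rw [comm_mul_of (mem_cent.1 kE c' hc'), (es h a).comm_eq hk.1 hd'.1 t]⟩
  rw [← mul_assoc, ← mem_cent.1 hk.2 d (mem_sup_right (mem_zpowers d)), mul_assoc, mul_assoc, mem_cent.1 kE c hc]

theorem adj {x u v : G} (hx : x ∈ C(E)) (n : x ∉ E) (a : u ∈ E ∧ IsConj z u ∧ x ∈ Qo u ⊔ E)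
    (b : v ∈ E ∧ IsConj z v ∧ x ∈ Qo v ⊔ E) : v ∈ Qo u := by_contra fun t =>
  n (e6 h A L u a.1 v b.1 a.2.1 b.2.1 t ⟨⟨a.2.2, b.2.2⟩, hx⟩)

theorem step {x u v : G} (hu : u ∈ E) (hv : v ∈ E) (a : IsConj z u) (b : IsConj z v) (n : u ≠ v)
    (hx : x ∈ Qo v ⊔ E) : ∃ c ∈ E, c ∈ Qo u ∧ x * c ∈ Qo v := by
  by_cases t : x ∈ Qo v
  · exact ⟨1, one_mem _, one_mem _, by rwa [mul_one]⟩
  obtain ⟨c, hc, p, q⟩ := L.two u hu v hv a b n
  exact ⟨c, hc, p, L.idx v hv b x hx c (mem_sup_right hc) t q⟩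

theorem mUx : ∀ x ∈ C(E), x ∉ E → ∀ u, u ∈ Ux z E x ↔ u = 1 ∨ u ∈ E ∧ IsConj z u ∧ x ∈ Qo u ⊔ E :=
  fun x hx n u => by
    refine ⟨fun a => ?_, fun a => a.elim (fun t => t ▸ one_mem _) fun t => subset_closure t⟩
    induction a using closure_induction with
    | mem u a => exact .inr a
    | one => exact .inl rfl
    | inv u _ a =>
      rcases a with rfl | a
      exacts [.inl inv_one, .inr (by rwa [inv_eq_of_mul_eq_one_right (sq h a.2.1)])]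
    | mul u v _ _ a b =>
      rcases a with rfl | a
      · rwa [one_mul]
      rcases b with rfl | b
      · rw [mul_one]; exact .inr a
      by_cases t : u = v
      · exact .inl (by rw [t, sq h b.2.1])
      have m := adj h A L hx n b a
      obtain ⟨c, hc, -, p⟩ := step h A L b.1 a.1 b.2.1 a.2.1 (Ne.symm t) a.2.2
      obtain ⟨c', hc', p', q⟩ := step h A L a.1 b.1 a.2.1 b.2.1 t (mul_mem b.2.2 (mem_sup_right hc))
      refine .inr ⟨mul_mem a.1 b.1, mul_b h b.2.1 a.2.1 m t, ?_⟩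
      exact (mul_mem_cancel_right (mem_sup_right hc)).1 ((mul_mem_cancel_right (mem_sup_right hc')).1
        (mem_sup_left (inf_le_mul h b.2.1 a.2.1 m t ⟨q, mul_mem p p'⟩)))

end

theorem lc : LC := fun _ _ _ _ _ h A L =>
  ⟨dec h A L, e6 h A L, e6' h A L, gen h A L, kk h A L, e7 h A L, nd h A L, mUx h A L, fun _ hx n =>
    (closure_sing h (fun _ a => a.2.1) fun _ a _ b => adj h A L hx n a b).1⟩

end H2.MX
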