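/-
Fusion systems on a Sylow `p`-subgroup of `G₂(q)`: additive level `V = Q₁ / Z₁`, graph automorphism, interface for `p = 3`.
-/
import Cfsg.Agent.H25.GC0
import Cfsg.Agent.H24.SP1

set_option autoImplicit false
set_option linter.unusedSectionVars false
set_option linter.unusedSimpArgs false

namespace H2.G
open Subgroup H25 H8.PU H25.GC H25.GC.Gc
universe u v
variable {K : Type v} [Field K] {Γ : Type u} [Group Γ]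

/-! ### `V = Q₁ / Z₁ = {(u, s, r, v)}` and its additive automorphisms -/
abbrev VV (K : Type v) := K × K × K × K
abbrev AZ (K : Type v) [Field K] := H24.SP.Au (VV K)
/-- the action of `x_a(τ)⁻¹` -/
def tZ (τ : K) : AZ K where
  toFun x := (x.1, x.2.1 + τ * x.1, x.2.2.1 + 2 * τ * x.2.1 + τ ^ 2 * x.1,
    x.2.2.2 + 3 * τ * x.2.2.1 + 3 * τ ^ 2 * x.2.1 + τ ^ 3 * x.1)
  invFun x := (x.1, x.2.1 - τ * x.1, x.2.2.1 - 2 * τ * x.2.1 + τ ^ 2 * x.1,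
    x.2.2.2 - 3 * τ * x.2.2.1 + 3 * τ ^ 2 * x.2.1 - τ ^ 3 * x.1)
  map_add' x y := by ext <;> simp <;> ring
  map_smul' n x := by ext <;> simp <;> ring
  left_inv x := by ext <;> simp <;> ring
  right_inv x := by ext <;> simp <;> ring
theorem tZ_ap (τ : K) (x : VV K) : tZ τ x = (x.1, x.2.1 + τ * x.1, x.2.2.1 + 2 * τ * x.2.1 + τ ^ 2 * x.1,
    x.2.2.2 + 3 * τ * x.2.2.1 + 3 * τ ^ 2 * x.2.1 + τ ^ 3 * x.1) := rfl
theorem tZ_add (τ τ' : K) : tZ (τ + τ') = tZ τ * tZ τ' := LinearEquiv.ext fun x => by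
  ext <;> simp [H24.SP.mul_ap, tZ_ap] <;> ring
theorem tZ_zero : (tZ 0 : AZ K) = 1 := LinearEquiv.ext fun x => by simp [H24.SP.one_ap, tZ_ap]
theorem tZ_inv (τ : K) : (tZ τ)⁻¹ = tZ (-τ) := inv_eq_of_mul_eq_one_right (by rw [← tZ_add, add_neg_cancel, tZ_zero])
theorem tZ_inj {τ τ' : K} (h : tZ τ = tZ τ') : τ = τ' := by
  simpa [tZ_ap] using congrArg (fun g : AZ K => (g (1, 0, 0, 0)).2.1) h
variable (K) in
/-- the image of `S` -/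
def TZ : Subgroup (AZ K) where
  carrier := {g | ∃ τ, g = tZ τ}
  one_mem' := ⟨0, tZ_zero.symm⟩
  mul_mem' := by rintro _ _ ⟨a, rfl⟩ ⟨b, rfl⟩; exact ⟨_, (tZ_add a b).symm⟩
  inv_mem' := by rintro _ ⟨a, rfl⟩; exact ⟨_, tZ_inv a⟩
theorem mTZ {g : AZ K} : g ∈ TZ K ↔ ∃ τ, g = tZ τ := Iff.rfl
/-- the Weyl element -/
def nZ : AZ K where
  toFun x := (x.2.2.2, -x.2.2.1, x.2.1, -x.1)
  invFun x := (-x.2.2.2, x.2.2.1, -x.2.1, x.1)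
  map_add' x y := by ext <;> simp <;> ring
  map_smul' c x := by ext <;> simp
  left_inv x := by simp
  right_inv x := by simp
theorem nZ_ap (x : VV K) : nZ x = (x.2.2.2, -x.2.2.1, x.2.1, -x.1) := rfl
theorem nZ_inv_ap (x : VV K) : nZ⁻¹ x = (-x.2.2.2, x.2.2.1, -x.2.1, x.1) := rfl
/-- the shear `r ↦ r + d u` -/
def zZ (d : K) : AZ K where
  toFun x := (x.1, x.2.1, x.2.2.1 + d * x.1, x.2.2.2)
  invFun x := (x.1, x.2.1, x.2.2.1 - d * x.1, x.2.2.2)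
  map_add' x y := by ext <;> simp; ring
  map_smul' n x := by ext <;> simp; ring
  left_inv x := by simp
  right_inv x := by simp
theorem zZ_ap (d : K) (x : VV K) : zZ d x = (x.1, x.2.1, x.2.2.1 + d * x.1, x.2.2.2) := rfl
theorem zZ_inv_ap (d : K) (x : VV K) : (zZ d)⁻¹ x = (x.1, x.2.1, x.2.2.1 - d * x.1, x.2.2.2) := rfl
/-- the commutator form -/
def oZ (x y : VV K) : K := x.1 * y.2.2.2 - y.1 * x.2.2.2 - 3 * x.2.1 * y.2.2.1 + 3 * y.2.1 * x.2.2.1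
/-- `g` is semilinear diagonal -/
def DZ (g : AZ K) (k l : K) (φ : K ≃+* K) : Prop :=
  ∀ x, g x = (l * φ x.1, l * k * φ x.2.1, l * k ^ 2 * φ x.2.2.1, l * k ^ 3 * φ x.2.2.2)
/-- the image of an element of `Q₁` in `V` -/
@[simps] def pv (c : Gc K) : VV K := (c.u, c.s, c.r, c.v)
/-- `g` normalizes `Q₁` and acts on `V` as `f` -/
def AcZ (ev : Gc K →* Γ) (g : Γ) (f : AZ K) : Prop :=
  ∀ c : Gc K, c.a = 0 → ∃ c' : Gc K, c'.a = 0 ∧ g * ev c * g⁻¹ = ev c' ∧ pv c' = f (pv c)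
theorem AcZ.mul {ev : Gc K →* Γ} {g g' : Γ} {f f' : AZ K} (k : AcZ ev g f) (k' : AcZ ev g' f') : AcZ ev (g * g') (f * f') :=
  fun c hc =>
    let ⟨c1, h1, e1, e2⟩ := k' c hc
    let ⟨c2, h2, e3, e4⟩ := k c1 h1
    ⟨c2, h2, by rw [mul_inv_rev, ← e3, ← e1]; group, by rw [e4, e2]; rfl⟩
theorem sgp_inv {G : Type*} [Group G] [Finite G] {P : G → Prop} (h1 : P 1) (h : ∀ a b, P a → P b → P (a * b)) {a : G}
    (ha : P a) : P a⁻¹ := by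
  have k : ∀ n : ℕ, P (a ^ n) := fun n => by
    induction n with
    | zero => simpa using h1
    | succ n ih => rw [pow_succ]; exact h _ _ ih ha
  have e : a⁻¹ = a ^ (orderOf a - 1) := by
    rw [inv_eq_iff_mul_eq_one, ← pow_succ', Nat.sub_add_cancel (orderOf_pos a), pow_orderOf_eq_one]
  exact e ▸ k _
/-- the image of a subgroup in `Aut V` -/
def imZ [Finite K] (ev : Gc K →* Γ) (A : Subgroup Γ) : Subgroup (AZ K) where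
  carrier := {f | ∃ g ∈ A, AcZ ev g f}
  one_mem' := ⟨1, one_mem _, fun c h => ⟨c, h, by simp, rfl⟩⟩
  mul_mem' := fun ⟨_, a, b⟩ ⟨_, c, d⟩ => ⟨_, mul_mem a c, b.mul d⟩
  inv_mem' := sgp_inv (P := fun f => ∃ g ∈ A, AcZ ev g f) ⟨1, one_mem _, fun c h => ⟨c, h, by simp, rfl⟩⟩
    fun _ _ ⟨_, a, b⟩ ⟨_, c, d⟩ => ⟨_, mul_mem a c, b.mul d⟩
theorem mem_imZ [Finite K] {ev : Gc K →* Γ} {A : Subgroup Γ} {f : AZ K} : f ∈ imZ ev A ↔ ∃ g ∈ A, AcZ ev g f := Iff.rfl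
/-- every automorphism of `S` is induced in the ambient group -/
def Ho (ev : Gc K →* Γ) : Prop := ∀ α : MulAut (Gc K), ∃ γ, ∀ c, γ * ev c * γ⁻¹ = ev (α c)

/-! ### characteristic three -/
variable (K) in
/-- `Z(S) = X_r X_z` -/
def Zc : Subgroup (Gc K) := sb (fun c => c.a = 0 ∧ c.u = 0 ∧ c.s = 0 ∧ c.v = 0) (by simp)
  (fun _ _ h h' => by simp [h, h']) fun _ h => by simp [h]
variable (K) in
/-- `Z(Q₁) = X_s X_r X_z` (and `Z(Q₂) = Z3`) -/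
def C1 : Subgroup (Gc K) := sb (fun c => c.a = 0 ∧ c.u = 0 ∧ c.v = 0) (by simp)
  (fun _ _ h h' => by simp [h, h']) fun _ h => by simp [h]
variable (K) in
/-- `Φ(Q₂) = X_r` (and `Φ(Q₁) = Z1`) -/
def Xr : Subgroup (Gc K) := sb (fun c => c.a = 0 ∧ c.u = 0 ∧ c.s = 0 ∧ c.v = 0 ∧ c.z = 0) (by simp)
  (fun _ _ h h' => by simp [h, h']) fun _ h => by simp [h]
/-- the maximal abelian subgroups of `Q₁` other than `Z4` -/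
def Ln (m : K) : Subgroup (Gc K) := sb (fun c => c.a = 0 ∧ c.v = m * c.u) (by simp)
  (fun _ _ h h' => by simp [h, h', mul_add]) fun _ h => by simp [h]
theorem mZc {c : Gc K} : c ∈ Zc K ↔ c.a = 0 ∧ c.u = 0 ∧ c.s = 0 ∧ c.v = 0 := Iff.rfl
theorem mC1 {c : Gc K} : c ∈ C1 K ↔ c.a = 0 ∧ c.u = 0 ∧ c.v = 0 := Iff.rfl
theorem mXr {c : Gc K} : c ∈ Xr K ↔ c.a = 0 ∧ c.u = 0 ∧ c.s = 0 ∧ c.v = 0 ∧ c.z = 0 := Iff.rfl
theorem mLn {c : Gc K} {m : K} : c ∈ Ln m ↔ c.a = 0 ∧ c.v = m * c.u := Iff.rfl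

section three
variable [CharP K 3]
theorem h3 : (3 : K) = 0 := by exact_mod_cast CharP.cast_eq_zero K 3
theorem cube_add (x y : K) : (x + y) ^ 3 = x ^ 3 + y ^ 3 := by linear_combination (x ^ 2 * y + x * y ^ 2) * h3 (K := K)
theorem cube_sub (x y : K) : (x - y) ^ 3 = x ^ 3 - y ^ 3 := by linear_combination (x * y ^ 2 - x ^ 2 * y) * h3 (K := K)
theorem cube_inj {x y : K} (h : x ^ 3 = y ^ 3) : x = y :=
  sub_eq_zero.1 (pow_eq_zero_iff (three_ne_zero' ℕ) |>.1 (by rw [cube_sub, h, sub_self]))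
/-- the graph automorphism -/
def gr : Gc K →* Gc K := MonoidHom.mk' (fun c => ⟨c.u, c.a ^ 3, c.a ^ 3 * c.u - c.v, c.a ^ 3 * c.u ^ 2 - c.z + c.u * c.v,
    c.a ^ 3 * c.u ^ 3 - c.s ^ 3, -(c.a ^ 6 * c.u ^ 3) - c.a ^ 3 * c.s ^ 3 - c.r ^ 3⟩) fun c d => by
  have := h3 (K := K)
  ext <;> simp only [mul_a, mul_u, mul_s, mul_r, mul_v, mul_z] <;> grind
theorem gr_a (c : Gc K) : (gr c).a = c.u := rfl
theorem gr_u (c : Gc K) : (gr c).u = c.a ^ 3 := rfl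
theorem gr_s (c : Gc K) : (gr c).s = c.a ^ 3 * c.u - c.v := rfl
theorem gr_r (c : Gc K) : (gr c).r = c.a ^ 3 * c.u ^ 2 - c.z + c.u * c.v := rfl
theorem gr_v (c : Gc K) : (gr c).v = c.a ^ 3 * c.u ^ 3 - c.s ^ 3 := rfl
theorem gr_z (c : Gc K) : (gr c).z = -(c.a ^ 6 * c.u ^ 3) - c.a ^ 3 * c.s ^ 3 - c.r ^ 3 := rfl
theorem gr_gr (c : Gc K) : gr (gr c) = ⟨c.a ^ 3, c.u ^ 3, c.s ^ 3, c.r ^ 3, c.v ^ 3, c.z ^ 3⟩ := by
  have := h3 (K := K)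
  ext <;> simp only [gr_a, gr_u, gr_s, gr_r, gr_v, gr_z] <;> grind
theorem gr_inj : Function.Injective (gr (K := K)) := fun c d e => by
  have := congrArg gr e
  rw [gr_gr, gr_gr, Gc.mk.injEq] at this
  exact Gc.ext (cube_inj this.1) (cube_inj this.2.1) (cube_inj this.2.2.1) (cube_inj this.2.2.2.1) (cube_inj this.2.2.2.2.1)
    (cube_inj this.2.2.2.2.2)
variable [Finite K] {S : Subgroup Γ} {ev : Gc K →* Γ}
theorem gr_surj : Function.Surjective (gr (K := K)) := Finite.injective_iff_surjective.1 gr_inj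
theorem co_gr (h : Co S ev) : Co S (ev.comp gr) :=
  ⟨h.inj.comp gr_inj, fun w => (h.mem w).trans ⟨fun ⟨c, e⟩ => let ⟨d, e'⟩ := gr_surj c; ⟨d, by simp [e, e']⟩, fun ⟨c, e⟩ => ⟨_, e⟩⟩⟩
theorem map_gr {X Y : Subgroup (Gc K)} (h : ∀ c, gr c ∈ Y ↔ c ∈ X) : X.map (ev.comp gr) = Y.map ev := by
  rw [← map_map]
  congr 1
  ext c
  obtain ⟨d, rfl⟩ := gr_surj c
  rw [mem_map_iff_mem gr_inj, h]
theorem gr_Q1 : (Q1 K).map (ev.comp gr) = (Q2 K).map ev := map_gr fun c => by simp [mQ1, mQ2, gr_u]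
theorem gr_Q2 : (Q2 K).map (ev.comp gr) = (Q1 K).map ev := map_gr fun c => by simp [mQ1, mQ2, gr_a]
theorem gr_Z4 : (Z4 K).map (ev.comp gr) = (Z4 K).map ev := map_gr fun c => by simp [mZ4, gr_a, gr_u, and_comm]
end three

/-- leading coefficients of the automorphism `c ↦ c'` defined by `g (ev c) g⁻¹ = ev' c'` -/
def Ld (ev ev' : Gc K →* Γ) (g : Γ) (k l : K) (φ : K ≃+* K) : Prop := ∀ c c', g * ev c * g⁻¹ = ev' c' →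
  c'.a = k * φ c.a ∧ c'.u = l * φ c.u ∧ (c.a = 0 → c.u = 0 → c'.s = l * k * φ c.s ∧ c'.v = l * k ^ 3 * φ c.v ∧
    (c.s = 0 → c.v = 0 → c'.r = l * k ^ 2 * φ c.r ∧ c'.z = l ^ 2 * k ^ 3 * φ c.z))
/-- the image of the automizer of `Q₁`, `p = 3` -/
structure LH3 [Finite K] (G : Subgroup (AZ K)) : Prop where
  syl : Syl 3 (TZ K) G
  mM : ∀ g ∈ G, ∀ x : VV K, x.1 = 0 → x.2.2.2 = 0 → (g x).1 = 0 ∧ (g x).2.2.2 = 0
  fm : ∀ g ∈ G, ∃ μ : K → K, ∀ x y, oZ (g x) (g y) = μ (oZ x y)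
  bor : ∀ g ∈ G, g ∈ nz (TZ K) → ∃ τ k l φ, k ≠ 0 ∧ l ≠ 0 ∧ DZ ((tZ τ)⁻¹ * g) k l φ
  ne : ¬ G ≤ nz (TZ K)
/-- `G` acts faithfully on `U = V / M`, and the stabilizer of the line `u = 0` normalizes `T` -/
def K3 [Finite K] (G : Subgroup (AZ K)) : Prop := (∀ g ∈ G, (∀ x, (g x).1 = x.1 ∧ (g x).2.2.2 = x.2.2.2) → g = 1) ∧
  ∀ g ∈ G, (∀ x : VV K, x.1 = 0 → (g x).1 = 0) → g ∈ nz (TZ K)
/-- `G` contains `SL₂(q)` -/
def Su3 [Finite K] (G : Subgroup (AZ K)) : Prop := (∀ ν, ν ≠ 0 → ∃ g ∈ G, DZ g (ν ^ 2) (ν ^ 3)⁻¹ (.refl K)) ∧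
  ∃ w ∈ G, (∀ x, (w x).1 = x.2.2.2 ∧ (w x).2.2.2 = -x.1) ∧ w = tZ (-1) * w * tZ (-1) * w⁻¹ * tZ (-1) ∧
    ∀ g ∈ G, g ∈ nz (TZ K) ∨ ∃ τ, w * tZ τ * g ∈ nz (TZ K)

/-! the chunks for `p = 3` -/
section chunks
variable (K Γ) [Finite K] [Finite Γ]
def FI (p : ℕ) : Prop := ∀ S P A B C : Subgroup Γ, Es p S P A → Gen S P A → B ≤ S → B ≤ nz P → ¬ B ≤ P → CC B B P →
  (∀ b ∈ B, b ^ p ∈ P) → C ≤ P → CC P P ⊥ → (∀ x ∈ P, x ^ p = 1) → CC B C ⊥ → C.relIndex P ≤ P.relIndex B →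
  (∃ i ∈ A, i ∈ nz (ai S P) ∧ ∀ t ∈ S, t ∈ nz P → ∀ x ∈ P, i * (t * x * t⁻¹ * x⁻¹) * i⁻¹ = (t * x * t⁻¹ * x⁻¹)⁻¹) ∧
    ∀ c ∈ C, ∃ t ∈ S, t ∈ nz P ∧ ∃ x ∈ P, ∀ g ∈ A, g * (c⁻¹ * (t * x * t⁻¹ * x⁻¹)) * g⁻¹ = c⁻¹ * (t * x * t⁻¹ * x⁻¹)
variable [CharP K 3]
def E3A : Prop := ∀ (S P A : Subgroup Γ) (ev : Gc K →* Γ), Co S ev → Es 3 S P A → Gen S P A → P ≤ (Q1 K).map ev →
  P = (Q1 K).map ev ∨ ∃ m, P = (Ln m).map ev
def E3C : Prop := ∀ (S P A : Subgroup Γ) (ev : Gc K →* Γ), Co S ev → Es 3 S P A → Gen S P A →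
  P ≤ (Q1 K).map ev ∨ P ≤ (Q2 K).map ev
def AU3 : Prop := ∀ (S : Subgroup Γ) (ev : Gc K →* Γ), Co S ev → ∀ g ∈ nz S,
  ∃ k l φ, k ≠ 0 ∧ l ≠ 0 ∧ (Ld ev ev g k l φ ∨ Ld ev (ev.comp gr) g k l φ)
def KL : Prop := ∀ (S A : Subgroup Γ) (ev : Gc K →* Γ) (m : K), Co S ev → Es 3 S ((Ln m).map ev) A → Gen S ((Ln m).map ev) A →
  ∃ i ∈ A, i ∈ nz (ai S ((Ln m).map ev)) ∧ ∀ k ∈ nz S, ¬ Agree ((Ln m).map ev) i k
def L3a : Prop := ∀ G : Subgroup (AZ K), LH3 G → K3 G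
def L3b : Prop := ∀ G : Subgroup (AZ K), LH3 G → K3 G → Su3 G
def L3c : Prop := ∀ G : Subgroup (AZ K), K3 G → (∀ k l, k ≠ 0 → l ≠ 0 → ∃ g ∈ G, DZ g k l (.refl K)) → ∀ w ∈ G,
  (∀ x : VV K, x.1 = 0 → x.2.2.2 = 0 → (w x).1 = 0 ∧ (w x).2.2.2 = 0) → (∀ x, (w x).1 = x.2.2.2 ∧ (w x).2.2.2 = -x.1) →
  w = tZ (-1) * w * tZ (-1) * w⁻¹ * tZ (-1) → ∃ d, (∀ k, k ≠ 0 → k ^ 2 * d = d) ∧ w = zZ d * nZ * (zZ d)⁻¹
end chunks

end H2.G
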