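import Cfsg.Agent.H2.LS5

/-! Soundness of rules of the certificate checker (adapted from `H8/HR2`). -/

set_option autoImplicit false
set_option linter.unusedSectionVars false
set_option linter.unusedVariables false

namespace H2.LS
open Cfsg Subgroup H16 H1.Am H19
open H24.SS

universe u
variable {G : Type u} [Group G] [Finite G] {X Y : Subgroup G} {g r : G}

theorem pe_of {a : G} (h : ∃ k, a ^ 2 ^ k = 1) : PiE {2} a :=
  let ⟨k, e⟩ := h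
  piG_zpowers.1 (PiN.of_isPGroup Nat.prime_two (IsPGroup.of_card_dvd_pow (n := k) (by
    rw [Nat.card_zpowers]; exact orderOf_dvd_of_pow_eq_one e)))

theorem rho (l : X ≤ Y) (pY : IsPGroup 2 Y) (nY : Y ≤ N(X)) (ca : ∀ c ∈ C(X), (∃ n, c ^ 2 ^ n = 1) → c ∈ X)
    (h : cj g Y ≤ Y ⊔ C(X)) : Syl 2 Y (Y ⊔ C(X)) ∧ ∃ o ∈ C(X), Odd (orderOf o) ∧ o * g ∈ N(Y) := by
  have nC := nY.trans (norm_le_norm_cent X)
  have p2 := PiN.of_isPGroup Nat.prime_two pY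
  have hS : Syl 2 Y (Y ⊔ C(X)) := syl_of_max le_sup_left p2 fun Q l1 pQ l2 => le_antisymm (fun y hy => by
    obtain ⟨a, ha, c, hc, rfl⟩ := (mem_sup_of_norm' nC).1 (l1 hy)
    obtain ⟨n, e⟩ := pQ.isPGroup ⟨c, (mul_mem_cancel_left (l2 ha)).1 hy⟩
    exact mul_mem ha (l (ca c hc ⟨n, congrArg Subtype.val e⟩))) l2
  obtain ⟨_, k1, k2⟩ := hS.scj_le h (p2.J g)
  obtain ⟨y, hy, c, hc, rfl⟩ := (mem_sup_of_norm' nC).1 k1
  obtain ⟨a, h1, o, h2, rfl, h3, h4⟩ := dec2 c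
  have aY := mul_mem hy (l (ca a (zpowers_le.2 hc h1) h3))
  refine ⟨hS, o, zpowers_le.2 hc h2, h4, mem_norm_of_cj_le ?_⟩
  rw [← mul_assoc, cj_mul, cj_le_iff, cj_of_mem (inv_mem aY)] at k2
  rwa [cj_mul]

theorem rho2 (pY : IsPGroup 2 Y) (hS : Syl 2 Y (Y ⊔ C(X))) (nY : Y ≤ N(X)) (gY : g ∈ N(Y)) (hr : r ∈ Y)
    (h : r⁻¹ * (g * g) ∈ C(X)) : ∃ a ∈ zpowers g, a⁻¹ * g ∈ C(X) ∧ a * a ∈ Y := by
  have nC := norm_le_norm_cent X (nY hr)
  have k : ∀ n : ℕ, (r ^ n)⁻¹ * (g * g) ^ n ∈ C(X) := fun n => by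
    induction n with
    | zero => simp
    | succ n ih =>
      have := mul_mem (conj_mem_of_norm (inv_mem (pow_mem nC n)) h) ih
      convert this using 1
      generalize g * g = w
      rw [pow_succ', pow_succ']; group
  obtain ⟨n, e⟩ := pY ⟨r, hr⟩
  have k := k (2 ^ n)
  rw [show r ^ 2 ^ n = 1 from congrArg Subtype.val e, inv_one, one_mul, ← sq, ← pow_mul, ← pow_succ'] at k
  obtain ⟨a, h1, o, h2, e, h3, h4⟩ := dec2 g
  have oC : o ∈ C(X) := by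
    obtain ⟨j, rfl⟩ := mem_zpowers_iff.1 h2
    have : g ^ j ∈ zpowers ((g ^ j) ^ 2 ^ (n + 1)) :=
      mem_zpowers_pow_iff.2 (Nat.Coprime.pow_left _ (Nat.coprime_two_left.2 h4))
    rw [← zpow_natCast, ← zpow_mul, mul_comm, zpow_mul, zpow_natCast] at this
    exact zpowers_le.2 (zpow_mem k j) this
  refine ⟨a, h1, by rwa [e, inv_mul_cancel_left], hS.mem_of_norm ?_ (((pe_of h3).e_mul (pe_of h3) rfl))
    (mul_mem (zpowers_le.2 gY h1) (zpowers_le.2 gY h1))⟩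
  have c : Commute o g := (mem_cent1.1 (zpowers_le.2 (mem_cent1_self g) h2))
  rw [show a * a = r * (r⁻¹ * (g * g) * (o * o)⁻¹) by
    rw [eq_mul_inv_of_mul_eq e.symm, mul_assoc g, ← mul_assoc o⁻¹, c.inv_left.eq]; group]
  exact mul_mem_sup hr (mul_mem h (inv_mem (mul_mem oC oC)))

theorem fa3 {R S T : ℕ → ℕ → Prop} {xs vs es : List ℕ} {x : ℕ} (a : List.Forall₂ R xs vs) (b : List.Forall₂ S xs es)
    (c : List.Forall₂ T vs es) (hx : x ∈ xs) : ∃ v e, R x v ∧ S x e ∧ T v e := by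
  induction a generalizing es with
  | nil => cases hx
  | cons q _ ih =>
    cases b with | cons b1 b2 =>
    cases c with | cons c1 c2 =>
    rcases List.mem_cons.1 hx with rfl | hx
    exacts [⟨_, _, q, b1, c1⟩, ih b2 c2 hx]

theorem sRHO : Snd.{u} rRHO := fun G _ _ F p gl mul s A k1 k2 el _ h1 _ o c => by
  simp only [rRHO, an_iff, fB_eq, force_eq (nm _ _), apK_eq, ltA_iff, List.append_nil, Nat.beq_eq] at c
  generalize nm A 0 = i, Nat.beq (nm A 1) 1 = sq, rw2 A 0 1 = xs, rw2 A 0 2 = zs, rw2 A 0 4 = es at c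
  obtain ⟨c1, c2, c3, c⟩ := c
  have T := o.tm
  have M := T.md
  have lx : ∀ x ∈ xs, x < s.N := fun x hx => c1 x (List.mem_append_left _ hx)
  obtain ⟨w, as, a1, -, a2⟩ := o.wk T.atN c2
  obtain ⟨g, vs, b1, gF, c⟩ := o.wk lx c
  simp only [an_iff, oo_iff, force_eq, nt_iff] at c
  obtain ⟨d1, d2, d3, d4⟩ := c
  set X := closure {x | ∃ y ∈ xs, el y = x} with hX
  set Y := closure {x | ∃ y ∈ xs ++ zs, el y = x} with hY
  have mX : ∀ e, el (pr (ff mul) xs e) ∈ X := fun e => (pr_mem (H := X) M (fun x hx => ⟨lx x hx,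
    Subgroup.subset_closure ⟨x, hx, rfl⟩⟩) e).2
  have mY : ∀ e, el (pr (ff mul) (xs ++ zs) e) ∈ Y := fun e =>
    (pr_mem (H := Y) M (fun x hx => ⟨c1 x hx, Subgroup.subset_closure ⟨x, hx, rfl⟩⟩) e).2
  have YK : Y ≤ M.K := (closure_le _).2 (by rintro _ ⟨y, hy, rfl⟩; exact M.mem (c1 y hy))
  have XY : X ≤ Y := closure_mono fun _ ⟨y, hy, e⟩ => ⟨y, List.mem_append_left _ hy, e⟩
  have cX : ∀ {c}, (∀ x ∈ xs, c * el x = el x * c) → c ∈ C(X) := fun k => cents_symm (H := X) (K := zpowers _)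
    ((closure_le _).2 (by
      rintro _ ⟨x, hx, rfl⟩; rw [cent_zpowers]; exact mem_cent1.2 (k x hx).symm)) (mem_zpowers _)
  have nX : ∀ {c}, (∀ x ∈ xs, c * el x * c⁻¹ ∈ X) → c ∈ N(X) := fun k => mem_norm_of_cj_le (by
    rw [hX, cj_closure, closure_le]
    rintro _ ⟨_, ⟨x, hx, rfl⟩, rfl⟩
    exact k x hx)
  have aX : ∀ a ∈ as, el a ∈ X := fun a ha => by
    obtain ⟨e, -, k⟩ := fa_ex (al2_iff.1 a2) ha
    exact Nat.beq_eq.mp k ▸ mX e
  have ca : ∀ c ∈ C(X), (∃ n, c ^ 2 ^ n = 1) → c ∈ X := fun c hc ⟨n, e⟩ => by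
    obtain ⟨j, -, rfl⟩ := T.caw a1 e fun a ha => (mem_cent.1 hc _ (aX a ha)).symm
    exact (pr_mem M (fun a ha => ⟨Im.lt2 a1 a ha, aX a ha⟩) j).2
  have vX : ∀ v ∈ vs, el v ∈ X := fun v hv => by
    obtain ⟨e, -, k⟩ := fa_ex (al2_iff.1 d1) hv
    exact Nat.beq_eq.mp k ▸ mX e
  have gX : g ∈ N(X) := nX fun x hx => let ⟨v, hv, _, e⟩ := Im.ex b1 hx; e ▸ vX v hv
  have kz : ∀ y ∈ zs, el y ∈ N(X) ∧ g * el y * g⁻¹ ∈ Y ⊔ C(X) := fun y hy => by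
    obtain ⟨r, -, k⟩ := fa_ex (a2_iff.1 d3) hy
    obtain ⟨e, es', -, k⟩ := one_iff.1 k
    have ly := c1 y (List.mem_append_right _ hy)
    have lq := pr_lt M c1 e
    have qY := mY e
    generalize pr (ff mul) (xs ++ zs) e = q at k lq qY
    have k : ∀ x ∈ xs, el y * el x * (el y)⁻¹ ∈ X ∧
        g⁻¹ * (el q)⁻¹ * g * el y * el x = el x * (g⁻¹ * (el q)⁻¹ * g * el y) := fun x hx => by
      obtain ⟨v, -, ⟨j1, j2, j3⟩, e, j⟩ := fa_ex (a3_s k b1) hx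
      obtain ⟨i1, i2, i3⟩ := Im.pr M b1 e
      have u1 := (cn_iff M ly j1 i1 ly).1 (an_iff.1 j).1
      have u2 := (cn_iff M lq j2 i2 lq).1 (an_iff.1 j).2
      refine ⟨by rw [u1, mul_inv_cancel_right]; exact mX e, ?_⟩
      rw [mul_assoc _ (el y), u1, ← j3, ← i3] at *
      calc _ = g⁻¹ * (el q)⁻¹ * (g * el (pr (ff mul) xs e) * g⁻¹ * el q) * (el q)⁻¹ * g * el y := by group
        _ = _ := by rw [← u2]; group
    refine ⟨nX fun x hx => (k x hx).1, ?_⟩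
    have := mul_mem_sup qY (conj_mem_of_norm (norm_le_norm_cent X gX) (cX fun x hx => (k x hx).2))
    convert this using 1; group
  have nY : Y ≤ N(X) := (closure_le _).2 (by
    rintro _ ⟨y, hy, rfl⟩
    exact (List.mem_append.1 hy).elim (fun k => le_normalizer (Subgroup.subset_closure ⟨y, k, rfl⟩)) fun k => (kz y k).1)
  obtain ⟨hS, u, uC, uo, uY⟩ := rho (g := g) XY (T.pgl YK) nY ca (by
    rw [hY, cj_closure, closure_le]
    rintro _ ⟨_, ⟨y, hy, rfl⟩, rfl⟩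
    exact (List.mem_append.1 hy).elim (fun k => mem_sup_left (XY (conj_mem_of_norm gX (Subgroup.subset_closure ⟨y, k, rfl⟩))))
      fun k => (kz y k).2)
  have b2 : Im el s.N (u * g) xs vs := Im.cmp b1 (List.forall₂_same.2 fun v hv => ⟨Im.lt2 b1 v hv, Im.lt2 b1 v hv,
    mul_inv_eq_iff_eq_mul.2 (mem_cent.1 uC _ (vX v hv)).symm⟩)
  have uF := mul_mem (T.oddF uo) (gF.1 c3)
  have fin : ∀ a ∈ zpowers (u * g), a⁻¹ * (u * g) ∈ C(X) → (sq = true → a * a ∈ Y) → Con F p := fun a j1 j2 j3 =>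
    h1 0 mul _ el d4 (o.sCu ⟨dvd_rfl, a, fun _ => zpowers_le.2 uF j1, by
      simpa [mul_assoc] using Im.cmp (List.forall₂_same.2 fun x hx => ⟨lx x hx, lx x hx, mul_inv_eq_iff_eq_mul.2
        (mem_cent.1 (inv_mem j2) _ (Subgroup.subset_closure ⟨x, hx, rfl⟩)).symm⟩) b2, fun y hy => ⟨c1 y hy,
      (YK (conj_mem_of_norm (zpowers_le.2 uY j1) (Subgroup.subset_closure ⟨y, hy, rfl⟩))).imp fun _ k => ⟨k.1, k.2.symm⟩⟩,
      fun e => (YK (j3 e)).imp fun _ k => ⟨k.1, k.2.symm⟩⟩)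
  rcases d2 with d2 | d2
  · exact fin _ (mem_zpowers _) (by simp) fun e => absurd e d2
  obtain ⟨a, j1, j2, j3⟩ := rho2 (T.pgl YK) hS nY uY (mY (nm A 2)) (cX fun x hx => by
    obtain ⟨v, e, ⟨i1, i2, i3⟩, i4, i5⟩ := fa3 b2 (al2_iff.1 d2) (al2_iff.1 d1) hx
    obtain ⟨-, i6, i7⟩ := Im.pr M b2 e
    have lr := pr_lt M c1 (nm A 2)
    have := (cn_iff M lr i1 i6 lr).1 i4
    rw [← i7, Nat.beq_eq.mp i5, ← i3] at this
    generalize el (pr (ff mul) (xs ++ zs) (nm A 2)) = r, u * g = g at this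
    calc _ = r⁻¹ * (g * (g * el x * g⁻¹) * g⁻¹ * r) * (r⁻¹ * (g * g)) := by group
      _ = _ := by rw [← this]; group)
  exact fin a j1 j2 fun _ => j3

end H2.LS
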