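import Cfsg.Agent.H2.LTEc0
import Cfsg.Agent.H2.LTEc1
import Cfsg.Agent.H2.LTEc2
import Cfsg.Agent.H2.LTEc3
import Cfsg.Agent.H2.LTEc4
import Cfsg.Agent.H2.LTEc5
import Cfsg.Agent.H2.LTEc6
import Cfsg.Agent.H2.LTEc7
import Cfsg.Agent.H2.LTEc8
import Cfsg.Agent.H2.LTEc9
import Cfsg.Agent.H2.LTEc10
import Cfsg.Agent.H2.LTEc11
import Cfsg.Agent.H2.LSB

/-! Assembly of the certificates. -/

set_option autoImplicit false
set_option maxRecDepth 100000
set_option Elab.async false
set_option linter.all false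

namespace H2.LS.E
noncomputable section
universe u
theorem d127 : Dd.{u} p g127 := dd .nil e127
theorem d74 : Dd.{u} p g74 := dd (.cons d127 .nil) e74
theorem d196 : Dd.{u} p g196 := dd .nil e196
theorem d197 : Dd.{u} p g197 := dd .nil e197
theorem d198 : Dd.{u} p g198 := dd .nil e198
theorem d199 : Dd.{u} p g199 := dd .nil e199
theorem d200 : Dd.{u} p g200 := dd .nil e200
theorem d201 : Dd.{u} p g201 := dd .nil e201
theorem d202 : Dd.{u} p g202 := dd .nil e202
theorem d203 : Dd.{u} p g203 := dd .nil e203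
theorem d204 : Dd.{u} p g204 := dd .nil e204
theorem d205 : Dd.{u} p g205 := dd .nil e205
theorem d128 : Dd.{u} p g128 := dd (.cons d196 (.cons d197 (.cons d198 (.cons d199 (.cons d200 (.cons d201 (.cons d202 (.cons d203 (.cons d204 (.cons d205 .nil)))))))))) e128
theorem d206 : Dd.{u} p g206 := dd .nil e206
theorem d207 : Dd.{u} p g207 := dd .nil e207
theorem d208 : Dd.{u} p g208 := dd .nil e208
theorem d209 : Dd.{u} p g209 := dd .nil e209
theorem d210 : Dd.{u} p g210 := dd .nil e210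
theorem d211 : Dd.{u} p g211 := dd .nil e211
theorem d212 : Dd.{u} p g212 := dd .nil e212
theorem d213 : Dd.{u} p g213 := dd .nil e213
theorem d214 : Dd.{u} p g214 := dd .nil e214
theorem d215 : Dd.{u} p g215 := dd (.cons d212 .nil) e215
theorem d129 : Dd.{u} p g129 := dd (.cons d206 (.cons d207 (.cons d208 (.cons d209 (.cons d210 (.cons d211 (.cons d212 (.cons d213 (.cons d214 (.cons d215 .nil)))))))))) e129
theorem d130 : Dd.{u} p g130 := dd .nil e130
theorem d216 : Dd.{u} p g216 := dd .nil e216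
theorem d217 : Dd.{u} p g217 := dd .nil e217
theorem d218 : Dd.{u} p g218 := dd .nil e218
theorem d219 : Dd.{u} p g219 := dd .nil e219
theorem d220 : Dd.{u} p g220 := dd .nil e220
theorem d221 : Dd.{u} p g221 := dd .nil e221
theorem d222 : Dd.{u} p g222 := dd .nil e222
theorem d223 : Dd.{u} p g223 := dd (.cons d222 .nil) e223
theorem d224 : Dd.{u} p g224 := dd (.cons d222 .nil) e224
theorem d225 : Dd.{u} p g225 := dd (.cons d222 .nil) e225
theorem d131 : Dd.{u} p g131 := dd (.cons d216 (.cons d217 (.cons d218 (.cons d219 (.cons d220 (.cons d221 (.cons d222 (.cons d223 (.cons d224 (.cons d225 .nil)))))))))) e131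
theorem d75 : Dd.{u} p g75 := dd (.cons d128 (.cons d129 (.cons d130 (.cons d131 .nil)))) e75
theorem d226 : Dd.{u} p g226 := dd .nil e226
theorem d227 : Dd.{u} p g227 := dd .nil e227
theorem d228 : Dd.{u} p g228 := dd .nil e228
theorem d229 : Dd.{u} p g229 := dd .nil e229
theorem d230 : Dd.{u} p g230 := dd .nil e230
theorem d231 : Dd.{u} p g231 := dd .nil e231
theorem d232 : Dd.{u} p g232 := dd .nil e232
theorem d233 : Dd.{u} p g233 := dd .nil e233
theorem d234 : Dd.{u} p g234 := dd .nil e234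
theorem d235 : Dd.{u} p g235 := dd .nil e235
theorem d132 : Dd.{u} p g132 := dd (.cons d226 (.cons d227 (.cons d228 (.cons d229 (.cons d230 (.cons d231 (.cons d232 (.cons d233 (.cons d234 (.cons d235 .nil)))))))))) e132
theorem d236 : Dd.{u} p g236 := dd .nil e236
theorem d237 : Dd.{u} p g237 := dd .nil e237
theorem d238 : Dd.{u} p g238 := dd .nil e238
theorem d239 : Dd.{u} p g239 := dd .nil e239
theorem d240 : Dd.{u} p g240 := dd .nil e240
theorem d241 : Dd.{u} p g241 := dd .nil e241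
theorem d242 : Dd.{u} p g242 := dd .nil e242
theorem d243 : Dd.{u} p g243 := dd .nil e243
theorem d244 : Dd.{u} p g244 := dd .nil e244
theorem d245 : Dd.{u} p g245 := dd .nil e245
theorem d133 : Dd.{u} p g133 := dd (.cons d236 (.cons d237 (.cons d238 (.cons d239 (.cons d240 (.cons d241 (.cons d242 (.cons d243 (.cons d244 (.cons d245 .nil)))))))))) e133
theorem d76 : Dd.{u} p g76 := dd (.cons d132 (.cons d133 .nil)) e76
theorem d28 : Dd.{u} p g28 := dd (.cons d74 (.cons d75 (.cons d76 .nil))) e28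
theorem d29 : Dd.{u} p g29 := dd .nil e29
theorem d30 : Dd.{u} p g30 := dd .nil e30
theorem d77 : Dd.{u} p g77 := dd .nil e77
theorem d31 : Dd.{u} p g31 := dd (.cons d77 .nil) e31
theorem d4 : Dd.{u} p g4 := dd (.cons d28 (.cons d29 (.cons d30 (.cons d31 .nil)))) e4
theorem d7 : Dd.{u} p g7 := dd .nil e7
theorem d8 : Dd.{u} p g8 := dd .nil e8
theorem d9 : Dd.{u} p g9 := dd .nil e9
theorem d10 : Dd.{u} p g10 := dd .nil e10
theorem d11 : Dd.{u} p g11 := dd .nil e11
theorem d12 : Dd.{u} p g12 := dd .nil e12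
theorem d13 : Dd.{u} p g13 := dd .nil e13
theorem d14 : Dd.{u} p g14 := dd .nil e14
theorem d134 : Dd.{u} p g134 := dd .nil e134
theorem d81 : Dd.{u} p g81 := dd (.cons d134 .nil) e81
theorem d135 : Dd.{u} p g135 := dd .nil e135
theorem d136 : Dd.{u} p g136 := dd .nil e136
theorem d137 : Dd.{u} p g137 := dd .nil e137
theorem d82 : Dd.{u} p g82 := dd (.cons d135 (.cons d136 (.cons d137 .nil))) e82
theorem d138 : Dd.{u} p g138 := dd .nil e138
theorem d139 : Dd.{u} p g139 := dd .nil e139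
theorem d83 : Dd.{u} p g83 := dd (.cons d138 (.cons d139 .nil)) e83
theorem d140 : Dd.{u} p g140 := dd .nil e140
theorem d84 : Dd.{u} p g84 := dd (.cons d140 .nil) e84
theorem d78 : Dd.{u} p g78 := dd (.cons d81 (.cons d82 (.cons d83 (.cons d84 .nil)))) e78
theorem d85 : Dd.{u} p g85 := dd .nil e85
theorem d86 : Dd.{u} p g86 := dd .nil e86
theorem d87 : Dd.{u} p g87 := dd .nil e87
theorem d88 : Dd.{u} p g88 := dd .nil e88
theorem d79 : Dd.{u} p g79 := dd (.cons d85 (.cons d86 (.cons d87 (.cons d88 .nil)))) e79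
theorem d35 : Dd.{u} p g35 := dd .nil e35
theorem d36 : Dd.{u} p g36 := dd .nil e36
theorem d37 : Dd.{u} p g37 := dd .nil e37
theorem d38 : Dd.{u} p g38 := dd .nil e38
theorem d141 : Dd.{u} p g141 := dd .nil e141
theorem d89 : Dd.{u} p g89 := dd (.cons d141 .nil) e89
theorem d142 : Dd.{u} p g142 := dd .nil e142
theorem d143 : Dd.{u} p g143 := dd .nil e143
theorem d144 : Dd.{u} p g144 := dd .nil e144
theorem d90 : Dd.{u} p g90 := dd (.cons d142 (.cons d143 (.cons d144 .nil))) e90
theorem d145 : Dd.{u} p g145 := dd .nil e145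
theorem d146 : Dd.{u} p g146 := dd .nil e146
theorem d91 : Dd.{u} p g91 := dd (.cons d145 (.cons d146 .nil)) e91
theorem d147 : Dd.{u} p g147 := dd .nil e147
theorem d92 : Dd.{u} p g92 := dd (.cons d147 .nil) e92
theorem d80 : Dd.{u} p g80 := dd (.cons d89 (.cons d90 (.cons d91 (.cons d92 .nil)))) e80
theorem d32 : Dd.{u} p g32 := dd (.cons d78 (.cons d79 (.cons d35 (.cons d36 (.cons d37 (.cons d38 (.cons d80 .nil))))))) e32
theorem d33 : Dd.{u} p g33 := dd (.cons d81 (.cons d82 (.cons d83 (.cons d84 .nil)))) e33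
theorem d34 : Dd.{u} p g34 := dd (.cons d85 (.cons d86 (.cons d87 (.cons d88 .nil)))) e34
theorem d39 : Dd.{u} p g39 := dd (.cons d89 (.cons d90 (.cons d91 (.cons d92 .nil)))) e39
theorem d93 : Dd.{u} p g93 := dd (.cons d81 (.cons d82 (.cons d83 (.cons d84 .nil)))) e93
theorem d94 : Dd.{u} p g94 := dd (.cons d85 (.cons d86 (.cons d87 (.cons d88 .nil)))) e94
theorem d95 : Dd.{u} p g95 := dd (.cons d89 (.cons d90 (.cons d91 (.cons d92 .nil)))) e95
theorem d148 : Dd.{u} p g148 := dd (.cons d81 (.cons d82 (.cons d83 (.cons d84 .nil)))) e148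
theorem d149 : Dd.{u} p g149 := dd .nil e149
theorem d150 : Dd.{u} p g150 := dd .nil e150
theorem d151 : Dd.{u} p g151 := dd .nil e151
theorem d152 : Dd.{u} p g152 := dd .nil e152
theorem d153 : Dd.{u} p g153 := dd .nil e153
theorem d154 : Dd.{u} p g154 := dd .nil e154
theorem d155 : Dd.{u} p g155 := dd .nil e155
theorem d156 : Dd.{u} p g156 := dd .nil e156
theorem d157 : Dd.{u} p g157 := dd (.cons d89 (.cons d90 (.cons d91 (.cons d92 .nil)))) e157
theorem d96 : Dd.{u} p g96 := dd (.cons d148 (.cons d149 (.cons d150 (.cons d151 (.cons d152 (.cons d153 (.cons d154 (.cons d155 (.cons d156 (.cons d157 .nil)))))))))) e96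
theorem d40 : Dd.{u} p g40 := dd (.cons d93 (.cons d94 (.cons d35 (.cons d36 (.cons d37 (.cons d38 (.cons d95 (.cons d96 .nil)))))))) e40
theorem d15 : Dd.{u} p g15 := dd (.cons d32 (.cons d33 (.cons d34 (.cons d35 (.cons d36 (.cons d37 (.cons d38 (.cons d39 (.cons d40 .nil))))))))) e15
theorem d16 : Dd.{u} p g16 := dd .nil e16
theorem d41 : Dd.{u} p g41 := dd .nil e41
theorem d17 : Dd.{u} p g17 := dd (.cons d41 .nil) e17
theorem d18 : Dd.{u} p g18 := dd .nil e18
theorem d5 : Dd.{u} p g5 := dd (.cons d7 (.cons d8 (.cons d9 (.cons d10 (.cons d11 (.cons d12 (.cons d13 (.cons d14 (.cons d15 (.cons d16 (.cons d17 (.cons d18 .nil)))))))))))) e5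
theorem d6 : Dd.{u} p g6 := dd (.cons d7 (.cons d8 (.cons d9 (.cons d10 (.cons d11 (.cons d12 (.cons d13 (.cons d14 (.cons d15 (.cons d16 (.cons d17 (.cons d18 .nil)))))))))))) e6
theorem d97 : Dd.{u} p g97 := dd .nil e97
theorem d98 : Dd.{u} p g98 := dd .nil e98
theorem d42 : Dd.{u} p g42 := dd (.cons d97 (.cons d98 .nil)) e42
theorem d43 : Dd.{u} p g43 := dd .nil e43
theorem d99 : Dd.{u} p g99 := dd .nil e99
theorem d44 : Dd.{u} p g44 := dd (.cons d99 .nil) e44
theorem d45 : Dd.{u} p g45 := dd .nil e45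
theorem d19 : Dd.{u} p g19 := dd (.cons d42 (.cons d43 (.cons d44 (.cons d45 .nil)))) e19
theorem d125 : Dd.{u} p g125 := dd .nil e125
theorem d126 : Dd.{u} p g126 := dd .nil e126
theorem d72 : Dd.{u} p g72 := dd (.cons d125 (.cons d126 .nil)) e72
theorem d100 : Dd.{u} p g100 := dd .nil e100
theorem d258 : Dd.{u} p g258 := dd .nil e258
theorem d259 : Dd.{u} p g259 := dd .nil e259
theorem d260 : Dd.{u} p g260 := dd .nil e260
theorem d176 : Dd.{u} p g176 := dd (.cons d258 (.cons d259 (.cons d260 .nil))) e176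
theorem d177 : Dd.{u} p g177 := dd .nil e177
theorem d178 : Dd.{u} p g178 := dd .nil e178
theorem d179 : Dd.{u} p g179 := dd .nil e179
theorem d256 : Dd.{u} p g256 := dd (.cons d176 (.cons d177 (.cons d178 (.cons d179 .nil)))) e256
theorem d116 : Dd.{u} p g116 := dd .nil e116
theorem d117 : Dd.{u} p g117 := dd .nil e117
theorem d118 : Dd.{u} p g118 := dd .nil e118
theorem d119 : Dd.{u} p g119 := dd .nil e119
theorem d180 : Dd.{u} p g180 := dd .nil e180
theorem d181 : Dd.{u} p g181 := dd .nil e181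
theorem d182 : Dd.{u} p g182 := dd .nil e182
theorem d183 : Dd.{u} p g183 := dd .nil e183
theorem d184 : Dd.{u} p g184 := dd .nil e184
theorem d185 : Dd.{u} p g185 := dd .nil e185
theorem d261 : Dd.{u} p g261 := dd .nil e261
theorem d262 : Dd.{u} p g262 := dd .nil e262
theorem d186 : Dd.{u} p g186 := dd (.cons d261 (.cons d262 .nil)) e186
theorem d263 : Dd.{u} p g263 := dd .nil e263
theorem d264 : Dd.{u} p g264 := dd .nil e264
theorem d265 : Dd.{u} p g265 := dd .nil e265
theorem d187 : Dd.{u} p g187 := dd (.cons d263 (.cons d264 (.cons d265 .nil))) e187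
theorem d257 : Dd.{u} p g257 := dd (.cons d184 (.cons d185 (.cons d186 (.cons d187 .nil)))) e257
theorem d169 : Dd.{u} p g169 := dd (.cons d256 (.cons d116 (.cons d117 (.cons d118 (.cons d119 (.cons d180 (.cons d181 (.cons d182 (.cons d183 (.cons d257 .nil)))))))))) e169
theorem d170 : Dd.{u} p g170 := dd (.cons d176 (.cons d177 (.cons d178 (.cons d179 .nil)))) e170
theorem d171 : Dd.{u} p g171 := dd (.cons d180 (.cons d181 (.cons d182 (.cons d183 .nil)))) e171
theorem d172 : Dd.{u} p g172 := dd (.cons d184 (.cons d185 (.cons d186 (.cons d187 .nil)))) e172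
theorem d113 : Dd.{u} p g113 := dd (.cons d169 (.cons d170 (.cons d116 (.cons d117 (.cons d118 (.cons d119 (.cons d171 (.cons d172 .nil)))))))) e113
theorem d173 : Dd.{u} p g173 := dd (.cons d176 (.cons d177 (.cons d178 (.cons d179 .nil)))) e173
theorem d174 : Dd.{u} p g174 := dd (.cons d180 (.cons d181 (.cons d182 (.cons d183 .nil)))) e174
theorem d175 : Dd.{u} p g175 := dd (.cons d184 (.cons d185 (.cons d186 (.cons d187 .nil)))) e175
theorem d114 : Dd.{u} p g114 := dd (.cons d173 (.cons d116 (.cons d117 (.cons d118 (.cons d119 (.cons d174 (.cons d175 .nil))))))) e114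
theorem d115 : Dd.{u} p g115 := dd (.cons d176 (.cons d177 (.cons d178 (.cons d179 .nil)))) e115
theorem d120 : Dd.{u} p g120 := dd (.cons d180 (.cons d181 (.cons d182 (.cons d183 .nil)))) e120
theorem d121 : Dd.{u} p g121 := dd (.cons d184 (.cons d185 (.cons d186 (.cons d187 .nil)))) e121
theorem d266 : Dd.{u} p g266 := dd (.cons d176 (.cons d177 (.cons d178 (.cons d179 .nil)))) e266
theorem d267 : Dd.{u} p g267 := dd (.cons d180 (.cons d181 (.cons d182 (.cons d183 .nil)))) e267
theorem d268 : Dd.{u} p g268 := dd (.cons d184 (.cons d185 (.cons d186 (.cons d187 .nil)))) e268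
theorem d188 : Dd.{u} p g188 := dd (.cons d266 (.cons d116 (.cons d117 (.cons d118 (.cons d119 (.cons d267 (.cons d268 .nil))))))) e188
theorem d189 : Dd.{u} p g189 := dd (.cons d176 (.cons d177 (.cons d178 (.cons d179 .nil)))) e189
theorem d190 : Dd.{u} p g190 := dd (.cons d180 (.cons d181 (.cons d182 (.cons d183 .nil)))) e190
theorem d191 : Dd.{u} p g191 := dd (.cons d184 (.cons d185 (.cons d186 (.cons d187 .nil)))) e191
theorem d122 : Dd.{u} p g122 := dd (.cons d188 (.cons d189 (.cons d116 (.cons d117 (.cons d118 (.cons d119 (.cons d190 (.cons d191 .nil)))))))) e122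
theorem d269 : Dd.{u} p g269 := dd (.cons d176 (.cons d177 (.cons d178 (.cons d179 .nil)))) e269
theorem d270 : Dd.{u} p g270 := dd (.cons d180 (.cons d181 (.cons d182 (.cons d183 .nil)))) e270
theorem d271 : Dd.{u} p g271 := dd (.cons d184 (.cons d185 (.cons d186 (.cons d187 .nil)))) e271
theorem d192 : Dd.{u} p g192 := dd (.cons d269 (.cons d116 (.cons d117 (.cons d118 (.cons d119 (.cons d270 (.cons d271 .nil))))))) e192
theorem d193 : Dd.{u} p g193 := dd (.cons d176 (.cons d177 (.cons d178 (.cons d179 .nil)))) e193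
theorem d194 : Dd.{u} p g194 := dd (.cons d180 (.cons d181 (.cons d182 (.cons d183 .nil)))) e194
theorem d195 : Dd.{u} p g195 := dd (.cons d184 (.cons d185 (.cons d186 (.cons d187 .nil)))) e195
theorem d123 : Dd.{u} p g123 := dd (.cons d192 (.cons d193 (.cons d116 (.cons d117 (.cons d118 (.cons d119 (.cons d194 (.cons d195 .nil)))))))) e123
theorem d68 : Dd.{u} p g68 := dd (.cons d113 (.cons d114 (.cons d115 (.cons d116 (.cons d117 (.cons d118 (.cons d119 (.cons d120 (.cons d121 (.cons d122 (.cons d123 .nil))))))))))) e68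
theorem d101 : Dd.{u} p g101 := dd .nil e101
theorem d46 : Dd.{u} p g46 := dd (.cons d72 (.cons d100 (.cons d68 (.cons d101 .nil)))) e46
theorem d102 : Dd.{u} p g102 := dd .nil e102
theorem d103 : Dd.{u} p g103 := dd .nil e103
theorem d47 : Dd.{u} p g47 := dd (.cons d102 (.cons d103 .nil)) e47
theorem d48 : Dd.{u} p g48 := dd .nil e48
theorem d49 : Dd.{u} p g49 := dd .nil e49
theorem d50 : Dd.{u} p g50 := dd .nil e50
theorem d20 : Dd.{u} p g20 := dd (.cons d46 (.cons d47 (.cons d48 (.cons d49 (.cons d50 .nil))))) e20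
theorem d51 : Dd.{u} p g51 := dd .nil e51
theorem d52 : Dd.{u} p g52 := dd .nil e52
theorem d53 : Dd.{u} p g53 := dd .nil e53
theorem d54 : Dd.{u} p g54 := dd .nil e54
theorem d55 : Dd.{u} p g55 := dd .nil e55
theorem d56 : Dd.{u} p g56 := dd .nil e56
theorem d57 : Dd.{u} p g57 := dd .nil e57
theorem d58 : Dd.{u} p g58 := dd .nil e58
theorem d59 : Dd.{u} p g59 := dd .nil e59
theorem d60 : Dd.{u} p g60 := dd .nil e60
theorem d61 : Dd.{u} p g61 := dd .nil e61
theorem d62 : Dd.{u} p g62 := dd .nil e62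
theorem d63 : Dd.{u} p g63 := dd .nil e63
theorem d64 : Dd.{u} p g64 := dd .nil e64
theorem d65 : Dd.{u} p g65 := dd .nil e65
theorem d66 : Dd.{u} p g66 := dd .nil e66
theorem d161 : Dd.{u} p g161 := dd .nil e161
theorem d162 : Dd.{u} p g162 := dd .nil e162
theorem d163 : Dd.{u} p g163 := dd .nil e163
theorem d164 : Dd.{u} p g164 := dd .nil e164
theorem d158 : Dd.{u} p g158 := dd (.cons d161 (.cons d162 (.cons d163 (.cons d164 .nil)))) e158
theorem d159 : Dd.{u} p g159 := dd (.cons d82 (.cons d81 (.cons d83 (.cons d84 .nil)))) e159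
theorem d160 : Dd.{u} p g160 := dd (.cons d90 (.cons d89 (.cons d91 (.cons d92 .nil)))) e160
theorem d108 : Dd.{u} p g108 := dd .nil e108
theorem d109 : Dd.{u} p g109 := dd .nil e109
theorem d110 : Dd.{u} p g110 := dd .nil e110
theorem d111 : Dd.{u} p g111 := dd .nil e111
theorem d104 : Dd.{u} p g104 := dd (.cons d158 (.cons d159 (.cons d160 (.cons d108 (.cons d109 (.cons d110 (.cons d111 .nil))))))) e104
theorem d105 : Dd.{u} p g105 := dd (.cons d161 (.cons d162 (.cons d163 (.cons d164 .nil)))) e105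
theorem d106 : Dd.{u} p g106 := dd (.cons d82 (.cons d81 (.cons d83 (.cons d84 .nil)))) e106
theorem d107 : Dd.{u} p g107 := dd (.cons d90 (.cons d89 (.cons d91 (.cons d92 .nil)))) e107
theorem d165 : Dd.{u} p g165 := dd (.cons d161 (.cons d162 (.cons d163 (.cons d164 .nil)))) e165
theorem d166 : Dd.{u} p g166 := dd (.cons d82 (.cons d81 (.cons d83 (.cons d84 .nil)))) e166
theorem d167 : Dd.{u} p g167 := dd (.cons d90 (.cons d89 (.cons d91 (.cons d92 .nil)))) e167
theorem d246 : Dd.{u} p g246 := dd .nil e246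
theorem d247 : Dd.{u} p g247 := dd .nil e247
theorem d248 : Dd.{u} p g248 := dd .nil e248
theorem d249 : Dd.{u} p g249 := dd .nil e249
theorem d250 : Dd.{u} p g250 := dd (.cons d82 (.cons d81 (.cons d83 (.cons d84 .nil)))) e250
theorem d251 : Dd.{u} p g251 := dd (.cons d90 (.cons d89 (.cons d91 (.cons d92 .nil)))) e251
theorem d252 : Dd.{u} p g252 := dd .nil e252
theorem d253 : Dd.{u} p g253 := dd .nil e253
theorem d254 : Dd.{u} p g254 := dd .nil e254
theorem d255 : Dd.{u} p g255 := dd .nil e255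
theorem d168 : Dd.{u} p g168 := dd (.cons d246 (.cons d247 (.cons d248 (.cons d249 (.cons d250 (.cons d251 (.cons d252 (.cons d253 (.cons d254 (.cons d255 .nil)))))))))) e168
theorem d112 : Dd.{u} p g112 := dd (.cons d165 (.cons d166 (.cons d167 (.cons d108 (.cons d109 (.cons d110 (.cons d111 (.cons d168 .nil)))))))) e112
theorem d67 : Dd.{u} p g67 := dd (.cons d104 (.cons d105 (.cons d106 (.cons d107 (.cons d108 (.cons d109 (.cons d110 (.cons d111 (.cons d112 .nil))))))))) e67
theorem d69 : Dd.{u} p g69 := dd (.cons d51 (.cons d52 (.cons d53 (.cons d54 (.cons d55 (.cons d56 (.cons d57 (.cons d58 (.cons d59 (.cons d60 (.cons d61 (.cons d62 (.cons d63 (.cons d64 (.cons d65 (.cons d66 (.cons d67 (.cons d43 (.cons d68 (.cons d50 .nil)))))))))))))))))))) e69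
theorem d124 : Dd.{u} p g124 := dd (.cons d51 (.cons d52 (.cons d53 (.cons d54 (.cons d55 (.cons d56 (.cons d57 (.cons d58 (.cons d59 (.cons d60 (.cons d61 (.cons d62 (.cons d63 (.cons d64 (.cons d65 (.cons d66 (.cons d67 (.cons d43 (.cons d68 (.cons d50 .nil)))))))))))))))))))) e124
theorem d70 : Dd.{u} p g70 := dd (.cons d124 (.cons d51 (.cons d52 (.cons d53 (.cons d54 (.cons d55 (.cons d56 (.cons d57 (.cons d58 (.cons d59 (.cons d60 (.cons d61 (.cons d62 (.cons d63 (.cons d64 (.cons d65 (.cons d66 (.cons d67 (.cons d43 (.cons d68 (.cons d50 .nil))))))))))))))))))))) e70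
theorem d21 : Dd.{u} p g21 := dd (.cons d51 (.cons d52 (.cons d53 (.cons d54 (.cons d55 (.cons d56 (.cons d57 (.cons d58 (.cons d59 (.cons d60 (.cons d61 (.cons d62 (.cons d63 (.cons d64 (.cons d65 (.cons d66 (.cons d67 (.cons d43 (.cons d68 (.cons d50 (.cons d69 (.cons d70 .nil)))))))))))))))))))))) e21
theorem d71 : Dd.{u} p g71 := dd (.cons d72 (.cons d48 (.cons d17 (.cons d45 .nil)))) e71
theorem d22 : Dd.{u} p g22 := dd (.cons d71 (.cons d72 (.cons d48 (.cons d17 (.cons d45 .nil))))) e22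
theorem d1 : Dd.{u} p g1 := dd (.cons d4 (.cons d5 (.cons d6 (.cons d7 (.cons d8 (.cons d9 (.cons d10 (.cons d11 (.cons d12 (.cons d13 (.cons d14 (.cons d15 (.cons d16 (.cons d17 (.cons d18 (.cons d19 (.cons d20 (.cons d21 (.cons d22 .nil))))))))))))))))))) e1
theorem d73 : Dd.{u} p g73 := dd .nil e73
theorem d23 : Dd.{u} p g23 := dd (.cons d73 .nil) e23
theorem d24 : Dd.{u} p g24 := dd .nil e24
theorem d25 : Dd.{u} p g25 := dd .nil e25
theorem d26 : Dd.{u} p g26 := dd .nil e26
theorem d27 : Dd.{u} p g27 := dd .nil e27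
theorem d2 : Dd.{u} p g2 := dd (.cons d23 (.cons d24 (.cons d25 (.cons d26 (.cons d27 .nil))))) e2
theorem d3 : Dd.{u} p g3 := dd .nil e3
theorem d0 : Dd.{u} p g0 := dd (.cons d1 (.cons d2 (.cons d3 .nil))) e0
end
end H2.LS.E
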