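import Cfsg.Agent.H2.SXEc0
import Cfsg.Agent.H2.SXEc1
import Cfsg.Agent.H2.SXEc2
import Cfsg.Agent.H2.SXEc3
import Cfsg.Agent.H2.SVB

/-! Assembly of the certificates. -/

set_option autoImplicit false
set_option maxRecDepth 100000
set_option Elab.async false
set_option linter.all false

namespace H2.SV.E
noncomputable section
universe u
theorem d4 : Dd.{u} p g4 := dd .nil e4
theorem d62 : Ds.{u} p g62 := ds .nil .nil e62
theorem d63 : Dd.{u} p g63 := dn .nil (.cons d62 .nil) e63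
theorem d64 : Dd.{u} p g64 := dn .nil (.cons d62 .nil) e64
theorem d5 : Dd.{u} p g5 := dn (.cons d63 (.cons d64 .nil)) (.cons d62 .nil) e5
theorem d6 : Dd.{u} p g6 := dd .nil e6
theorem d1 : Dd.{u} p g1 := dd (.cons d4 (.cons d5 (.cons d6 .nil))) e1
theorem d7 : Dd.{u} p g7 := dd .nil e7
theorem d8 : Dd.{u} p g8 := dd .nil e8
theorem d9 : Dd.{u} p g9 := dd .nil e9
theorem d10 : Dd.{u} p g10 := dd .nil e10
theorem d11 : Dd.{u} p g11 := dd .nil e11
theorem d12 : Dd.{u} p g12 := dd .nil e12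
theorem d13 : Dd.{u} p g13 := dd .nil e13
theorem d14 : Dd.{u} p g14 := dd .nil e14
theorem d15 : Dd.{u} p g15 := dd .nil e15
theorem d16 : Dd.{u} p g16 := dd .nil e16
theorem d17 : Dd.{u} p g17 := dd .nil e17
theorem d18 : Dd.{u} p g18 := dd .nil e18
theorem d19 : Dd.{u} p g19 := dd .nil e19
theorem d20 : Dd.{u} p g20 := dd .nil e20
theorem d21 : Dd.{u} p g21 := dd .nil e21
theorem d22 : Dd.{u} p g22 := dd .nil e22
theorem d23 : Dd.{u} p g23 := dd .nil e23
theorem d24 : Dd.{u} p g24 := dd .nil e24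
theorem d25 : Dd.{u} p g25 := dd .nil e25
theorem d26 : Dd.{u} p g26 := dd .nil e26
theorem d27 : Dd.{u} p g27 := dd .nil e27
theorem d28 : Dd.{u} p g28 := dd .nil e28
theorem d29 : Dd.{u} p g29 := dd .nil e29
theorem d30 : Dd.{u} p g30 := dd .nil e30
theorem d31 : Dd.{u} p g31 := dd .nil e31
theorem d32 : Dd.{u} p g32 := dd .nil e32
theorem d2 : Dd.{u} p g2 := dd (.cons d7 (.cons d8 (.cons d9 (.cons d10 (.cons d11 (.cons d12 (.cons d13 (.cons d14 (.cons d15 (.cons d16 (.cons d17 (.cons d18 (.cons d19 (.cons d20 (.cons d21 (.cons d22 (.cons d23 (.cons d24 (.cons d25 (.cons d26 (.cons d27 (.cons d28 (.cons d29 (.cons d30 (.cons d31 (.cons d32 .nil)))))))))))))))))))))))))) e2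
theorem d33 : Dd.{u} p g33 := dd .nil e33
theorem d34 : Dd.{u} p g34 := dd .nil e34
theorem d35 : Dd.{u} p g35 := dd .nil e35
theorem d36 : Dd.{u} p g36 := dd .nil e36
theorem d37 : Dd.{u} p g37 := dd .nil e37
theorem d38 : Dd.{u} p g38 := dd .nil e38
theorem d39 : Dd.{u} p g39 := dd .nil e39
theorem d40 : Dd.{u} p g40 := dd .nil e40
theorem d65 : Dd.{u} p g65 := dd .nil e65
theorem d66 : Dd.{u} p g66 := dd .nil e66
theorem d67 : Dd.{u} p g67 := dd .nil e67
theorem d68 : Dd.{u} p g68 := dd .nil e68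
theorem d69 : Dd.{u} p g69 := dd .nil e69
theorem d41 : Dd.{u} p g41 := dd (.cons d65 (.cons d66 (.cons d67 (.cons d68 (.cons d69 .nil))))) e41
theorem d42 : Dd.{u} p g42 := dd .nil e42
theorem d43 : Dd.{u} p g43 := dd .nil e43
theorem d44 : Dd.{u} p g44 := dd .nil e44
theorem d45 : Dd.{u} p g45 := dd .nil e45
theorem d46 : Dd.{u} p g46 := dd .nil e46
theorem d47 : Dd.{u} p g47 := dd .nil e47
theorem d48 : Dd.{u} p g48 := dd .nil e48
theorem d49 : Dd.{u} p g49 := dd .nil e49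
theorem d50 : Dd.{u} p g50 := dd .nil e50
theorem d51 : Dd.{u} p g51 := dd .nil e51
theorem d52 : Dd.{u} p g52 := dd .nil e52
theorem d53 : Dd.{u} p g53 := dd .nil e53
theorem d54 : Dd.{u} p g54 := dd .nil e54
theorem d55 : Dd.{u} p g55 := dd .nil e55
theorem d56 : Dd.{u} p g56 := dd .nil e56
theorem d57 : Dd.{u} p g57 := dd .nil e57
theorem d58 : Dd.{u} p g58 := dd .nil e58
theorem d59 : Dd.{u} p g59 := dd .nil e59
theorem d60 : Dd.{u} p g60 := dd .nil e60
theorem d61 : Dd.{u} p g61 := dd .nil e61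
theorem d3 : Dd.{u} p g3 := dd (.cons d33 (.cons d34 (.cons d35 (.cons d36 (.cons d37 (.cons d38 (.cons d39 (.cons d40 (.cons d41 (.cons d42 (.cons d43 (.cons d44 (.cons d45 (.cons d46 (.cons d47 (.cons d48 (.cons d49 (.cons d50 (.cons d51 (.cons d52 (.cons d53 (.cons d54 (.cons d55 (.cons d56 (.cons d57 (.cons d58 (.cons d59 (.cons d60 (.cons d61 .nil))))))))))))))))))))))))))))) e3
theorem d0 : Dd.{u} p g0 := dd (.cons d1 (.cons d2 (.cons d3 .nil))) e0
end
end H2.SV.E
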