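/-
Fusion systems on a Sylow `3`-subgroup of `G₂(3ⁿ)`: the interface for the transfer and the assembly.
-/
import Cfsg.Agent.H25.GC3

set_option autoImplicit false
set_option linter.unusedSectionVars false
set_option linter.unusedSimpArgs false

namespace H2.G
open Cfsg Subgroup H25 H25.FS H25.GC H25.GC.Gc
open H8.PU hiding Co Wt Wy Md Ck G2 S2 N2 E2 TR MD
universe u v
variable {K : Type v} [Field K] [Finite K] [CharP K 3] {Γ : Type u} [Group Γ] [Finite Γ]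

instance fact3 : Fact (Nat.Prime 3) := Nat.fact_prime_three
/-- the model with the graph automorphism -/
structure Md3 (S : Subgroup Γ) (ev : Gc K →* Γ) (L C0 : Subgroup Γ) (M1 M2 g0 : Γ) : Prop extends Md 3 S ev L C0 M1 M2 where
  gL : g0 ∈ nz L
  gC : g0 ∈ nz C0
  gg : g0 * g0 ∈ C0
  gj : ∀ c, g0 * ev c * g0⁻¹ = ev (gr c)
/-- the automizer of `Q₁` has a non-normal Sylow subgroup -/
def NQ (S : Subgroup Γ) (ev : Gc K →* Γ) (F : FS Γ) : Prop := ¬ F.A ((Q1 K).map ev) ≤ nz (ai S ((Q1 K).map ev))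
/-- the full torus -/
def FT (S : Subgroup Γ) (ev : Gc K →* Γ) (F : FS Γ) : Prop := ∀ k l, k ≠ 0 → l ≠ 0 → ∃ τ ∈ F.A S, Wt ev τ k l (.refl K)
/-- the output of the transfer to `V = Q₁ / Z₁` -/
structure Tr3 (S : Subgroup Γ) (ev : Gc K →* Γ) (C0 : Subgroup Γ) (F : FS Γ) : Prop where
  ex : ∀ g ∈ F.A ((Q1 K).map ev), ∃ f, AcZ ev g f
  bo : ∀ g ∈ F.A ((Q1 K).map ev), ∀ f, AcZ ev g f → f ∈ nz (TZ K) → g ∈ nz (ai S ((Q1 K).map ev))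
  wt : ∀ f ∈ imZ ev (F.A ((Q1 K).map ev)), ∀ k l φ, DZ f k l φ → ∃ τ ∈ C0 ⊓ F.A S, Wt ev τ k l φ
  lh : NQ S ev F → LH3 (imZ ev (F.A ((Q1 K).map ev)))

namespace Md3
variable {S L C0 : Subgroup Γ} {ev : Gc K →* Γ} {M1 M2 g0 : Γ} {F : FS Γ} (m : Md3 S ev L C0 M1 M2 g0)
include m
theorem gS : g0 ∈ nz S := mem_nz_of_conj_mem fun y hy => by
  obtain ⟨c, -, rfl⟩ := m.ex hy
  exact m.gj c ▸ m.mS _
theorem cjg (X : Subgroup (Gc K)) : cj g0 (X.map ev) = X.map (ev.comp gr) := by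
  ext y
  exact ⟨fun ⟨_, ⟨c, hc, rfl⟩, e⟩ => ⟨c, hc, (m.gj c).symm.trans e⟩, fun ⟨c, hc, e⟩ => ⟨_, ⟨c, hc, rfl⟩, (m.gj c).trans e⟩⟩
theorem g1 : cj g0 ((Q1 K).map ev) = (Q2 K).map ev := (m.cjg _).trans gr_Q1
theorem g2 : cj g0 ((Q2 K).map ev) = (Q1 K).map ev := (m.cjg _).trans gr_Q2
theorem CS' : C0 ⊔ zpowers g0 ≤ nz S := sup_le m.CS (zpowers_le.2 m.gS)
theorem mem' {a : Γ} (h : a ∈ C0 ⊔ zpowers g0) : a ∈ C0 ∨ a * g0⁻¹ ∈ C0 := by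
  obtain ⟨y, hy, _, ⟨n, rfl⟩, rfl⟩ := (mem_sup_of_le_nz_left (zpowers_le.2 m.gC)).1 h
  have k : ∀ n : ℤ, g0 ^ (2 * n) ∈ C0 := fun n => by rw [zpow_mul]; exact zpow_mem (by rw [zpow_two]; exact m.gg) n
  obtain ⟨n, rfl | rfl⟩ := Int.even_or_odd' n
  exacts [.inl (mul_mem hy (k n)), .inr (by simpa [zpow_add_one, mul_assoc] using mul_mem hy (k n))]
/-- the symmetry `Q₁ ↔ Q₂` -/
theorem sym (n : Nf 3 S (C0 ⊔ zpowers g0) F) : Nf 3 S (C0 ⊔ zpowers g0) (cjs g0⁻¹ F) :=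
  have g : g0 ∈ C0 ⊔ zpowers g0 := mem_sup_right (mem_zpowers g0)
  n.cj m.CS' (inv_mem m.gS) fun _ hk => mem_sup_left (mul_mem (mul_mem (inv_mem g) hk.1) (inv_mem (inv_mem g)))
theorem symA (F : FS Γ) : (cjs g0⁻¹ F).A ((Q1 K).map ev) = cj g0⁻¹ (F.A ((Q2 K).map ev)) := by
  rw [← cjs_A, ← m.g1]; simp
end Md3

section chunks
variable (K Γ)
def NF3 : Prop := ∀ (S L C0 : Subgroup Γ) (ev : Gc K →* Γ) (M1 M2 g0 : Γ) (F : FS Γ), Md3 S ev L C0 M1 M2 g0 → Sa 3 S F →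
  ∃ γ ∈ nz S, Nf 3 S (C0 ⊔ zpowers g0) (cjs γ F)
def DC3 : Prop := ∀ (S L C0 : Subgroup Γ) (ev : Gc K →* Γ) (M1 M2 g0 : Γ) (F : FS Γ), Md3 S ev L C0 M1 M2 g0 →
  Nf 3 S (C0 ⊔ zpowers g0) F → ∀ a ∈ F.A S, a ∈ nz ((Q1 K).map ev) →
    ∃ u ∈ S, ∃ τ ∈ C0 ⊓ F.A S, ∃ k l φ, Wt ev τ k l φ ∧ Agree S a (u * τ)
def RE3 : Prop := ∀ (S L C0 : Subgroup Γ) (ev : Gc K →* Γ) (M1 M2 g0 : Γ) (F : FS Γ), Md3 S ev L C0 M1 M2 g0 →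
  Nf 3 S (C0 ⊔ zpowers g0) F → FT S ev F → ∃ H, Syl 3 S H ∧ F.A S = (ofSub H S).A S ∧ L ≤ H
def TR3 : Prop := ∀ (S L C0 : Subgroup Γ) (ev : Gc K →* Γ) (M1 M2 g0 : Γ) (F : FS Γ), Md3 S ev L C0 M1 M2 g0 →
  Nf 3 S (C0 ⊔ zpowers g0) F → Tr3 S ev C0 F
def KN : Prop := ∀ (S L C0 : Subgroup Γ) (ev : Gc K →* Γ) (M1 M2 g0 : Γ) (F : FS Γ), Md3 S ev L C0 M1 M2 g0 →
  Nf 3 S (C0 ⊔ zpowers g0) F → ∀ P, F.Ess P → P = (Q1 K).map ev ∨ P = (Q2 K).map ev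
def CA3 : Prop := ∀ (S : Subgroup Γ) (ev : Gc K →* Γ) (F : FS Γ), Co S ev → Sa 3 S F →
  (∀ P, F.Ess P → P = (Q1 K).map ev ∨ P = (Q2 K).map ev) → F.Constr 3 ∨ F.Ess ((Q1 K).map ev) ∧ F.Ess ((Q2 K).map ev)
def N3 : Prop := ∀ (S A : Subgroup Γ) (ev : Gc K →* Γ) (M1 M2 : Γ), Co S ev → Wy ev M1 M2 → cz ((Q1 K).map ev) ≤ A →
  (∃ τ ∈ A, Wt ev τ 1 (-1) (.refl K)) → nZ ∈ imZ ev A → M1 ∈ A
def ZT : Prop := ∀ (S L C0 : Subgroup Γ) (ev : Gc K →* Γ) (M1 M2 g0 : Γ) (F : FS Γ), Md3 S ev L C0 M1 M2 g0 → Ho ev →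
  Nf 3 S (C0 ⊔ zpowers g0) F → FT S ev F → ∀ d e : K, (∀ k, k ≠ 0 → k ^ 2 * d = d) → (∀ k, k ≠ 0 → k ^ 2 * e = e) →
  zZ d * nZ * (zZ d)⁻¹ ∈ imZ ev (F.A ((Q1 K).map ev)) → zZ e * nZ * (zZ e)⁻¹ ∈ imZ ev ((cjs g0⁻¹ F).A ((Q1 K).map ev)) →
  ∃ γ ∈ nz S, Nf 3 S (C0 ⊔ zpowers g0) (cjs γ F) ∧ nZ ∈ imZ ev ((cjs γ F).A ((Q1 K).map ev)) ∧
    nZ ∈ imZ ev ((cjs g0⁻¹ (cjs γ F)).A ((Q1 K).map ev))
/-- all chunks for `p = 3` -/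
structure Ck3 : Prop where
  nf : NF3 K Γ
  re : RE3 K Γ
  tr : TR3 K Γ
  kn : KN K Γ
  ca : CA3 K Γ
  n3 : N3 K Γ
  zt : ZT K Γ
  la : L3a K
  lb : L3b K
  lc : L3c K
end chunks

end H2.G
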