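/-
Fusion systems on a Sylow `5`-subgroup of `G₂(5)`: the interface.
-/
import Cfsg.Agent.H2.G0

set_option autoImplicit false
set_option linter.unusedSectionVars false
set_option linter.unusedSimpArgs false

namespace H2.G
open Subgroup H25 H8.PU H25.GC H25.GC.Gc
universe u

abbrev F5 := ZMod 5
instance fact5 : Fact (Nat.Prime 5) := ⟨by norm_num⟩
theorem h5 : (5 : F5) = 0 := rfl
/-- the extra element of the automizer of `Q₁` in `Ly` -/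
def nN : AZ F5 where
  toFun x := (x.2.1, -x.1, 2 * x.2.2.2, 2 * x.2.2.1)
  invFun x := (-x.2.1, x.1, 3 * x.2.2.2, 3 * x.2.2.1)
  map_add' x y := by ext <;> simp <;> ring
  map_smul' c x := by ext <;> simp <;> ring
  left_inv x := by revert x; decide +kernel
  right_inv x := by revert x; decide +kernel
theorem nN_ap (x : VV F5) : nN x = (x.2.1, -x.1, 2 * x.2.2.2, 2 * x.2.2.1) := rfl
/-- the extra element of the automizer of `Q₁` in `HN` -/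
def nH : AZ F5 where
  toFun x := (2 * x.2.2.1, -x.2.2.2, 3 * x.1, -x.2.1)
  invFun x := (2 * x.2.2.1, -x.2.2.2, 3 * x.1, -x.2.1)
  map_add' x y := by ext <;> simp <;> ring
  map_smul' c x := by ext <;> simp <;> ring
  left_inv x := by revert x; decide +kernel
  right_inv x := by revert x; decide +kernel
theorem nH_ap (x : VV F5) : nH x = (2 * x.2.2.1, -x.2.2.2, 3 * x.1, -x.2.1) := rfl

variable {G : Type u} [Group G]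
/-- `τ` acts on `S` as the diagonal automorphism with weights `k`, `l` -/
def Ws (ev : Gc F5 →* G) (τ : G) (k l : F5) : Prop := ∀ c, τ * ev c * τ⁻¹ = ev (sc k l (.refl _) c)
/-- a model: `S` is a Sylow `5`-subgroup of `H`, `H` contains `d`, and `N_H(Q₂)` moves `Z(S)` -/
structure Mo (ev : Gc F5 →* G) (H : Subgroup G) : Prop where
  inj : Function.Injective ev
  le : ∀ c, ev c ∈ H
  c7 : ¬ 5 ^ 7 ∣ Nat.card H
  d : ∃ τ ∈ H, Ws ev τ 3 4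
  q2 : ∃ g ∈ H, (∀ c : Gc F5, c.u = 0 → ∃ c' : Gc F5, c'.u = 0 ∧ g * ev c * g⁻¹ = ev c') ∧
    ∃ c' : Gc F5, c'.v ≠ 0 ∧ g * ev (xz 1) * g⁻¹ = ev c'

/-- induction over the root elements -/
theorem ind {P : Gc F5 → Prop} {X : Subgroup (Gc F5)} (m : ∀ c ∈ X, ∀ d ∈ X, P c → P d → P (c * d)) (h1 : P 1)
    {c : Gc F5} (ha : c.a = 0 ∨ xa 1 ∈ X ∧ P (xa 1)) (hu : c.u = 0 ∨ xu 1 ∈ X ∧ P (xu 1)) (hs : xs 1 ∈ X ∧ P (xs 1))
    (hr : xr 1 ∈ X ∧ P (xr 1)) (hv : xv 1 ∈ X ∧ P (xv 1)) (hz : xz 1 ∈ X ∧ P (xz 1)) : P c := by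
  have m' : ∀ {c d}, c ∈ X ∧ P c → d ∈ X ∧ P d → c * d ∈ X ∧ P (c * d) := fun h k => ⟨mul_mem h.1 k.1, m _ h.1 _ k.1 h.2 k.2⟩
  have k : ∀ (x : F5 → Gc F5), x 0 = 1 → (∀ t, x (t + 1) = x t * x 1) → ∀ t, t = 0 ∨ x 1 ∈ X ∧ P (x 1) → x t ∈ X ∧ P (x t) :=
    fun x e0 e t h => by
    rcases h with rfl | h
    · rw [e0]; exact ⟨one_mem _, h1⟩
    obtain ⟨n, rfl⟩ := ZMod.natCast_zmod_surjective t
    induction n with
    | zero => rw [Nat.cast_zero, e0]; exact ⟨one_mem _, h1⟩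
    | succ n ih => rw [Nat.cast_succ, e]; exact m' ih h
  have e : c = xa c.a * xu c.u * xs c.s * xr c.r * xv c.v * xz (c.z + 3 * c.s * c.r - c.u * c.v) := by ext <;> simp
  rw [e]
  exact (m' (m' (m' (m' (m' (k xa rfl (fun _ => by ext <;> simp) _ ha) (k xu rfl (fun _ => by ext <;> simp) _ hu))
    (k xs rfl (fun _ => by ext <;> simp) _ (.inr hs))) (k xr rfl (fun _ => by ext <;> simp) _ (.inr hr)))
    (k xv rfl (fun _ => by ext <;> simp) _ (.inr hv))) (k xz rfl (fun _ => by ext <;> simp) _ (.inr hz))).2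
theorem cj_mul {g x y : G} : g * (x * y) * g⁻¹ = g * x * g⁻¹ * (g * y * g⁻¹) := by group
/-- `Ws` from generators -/
theorem Ws.of {ev : Gc F5 →* G} {τ : G} {k l : F5} (h : ∀ c ∈ [xa 1, xu 1, xs 1, xr 1, xv 1, xz 1],
    τ * ev c * τ⁻¹ = ev (sc k l (.refl _) c)) : Ws ev τ k l := fun c => by
  simp only [List.forall_mem_cons] at h
  refine ind (X := ⊤) (P := fun c => τ * ev c * τ⁻¹ = ev (sc k l (.refl _) c)) (fun c _ d _ e e' => ?_) ?_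
    (.inr ⟨trivial, h.1⟩) (.inr ⟨trivial, h.2.1⟩) ⟨trivial, h.2.2.1⟩ ⟨trivial, h.2.2.2.1⟩ ⟨trivial, h.2.2.2.2.1⟩
    ⟨trivial, h.2.2.2.2.2.1⟩
  · rw [map_mul, cj_mul, e, e', ← map_mul]; congr 1; ext <;> simp <;> ring
  · rw [show sc k l (.refl _) 1 = 1 by ext <;> simp]; simp
/-- `AcZ` from generators -/
theorem AcZ.of {ev : Gc F5 →* G} {g : G} {f : AZ F5} (h : ∀ c ∈ [xu 1, xs 1, xr 1, xv 1, xz 1],
    ∃ c' : Gc F5, c'.a = 0 ∧ g * ev c * g⁻¹ = ev c' ∧ pv c' = f (pv c)) : AcZ ev g f := fun c hc => by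
  simp only [List.forall_mem_cons] at h
  refine ind (X := Q1 F5) (P := fun c => ∃ c' : Gc F5, c'.a = 0 ∧ g * ev c * g⁻¹ = ev c' ∧ pv c' = f (pv c))
    (fun c hc d hd ⟨c', h1, e1, e2⟩ ⟨d', h2, e3, e4⟩ => ⟨c' * d', by simp [h1, h2], by rw [map_mul, cj_mul, e1, e3, map_mul], ?_⟩)
    ⟨1, rfl, by simp, (map_zero f).symm⟩
    (.inl hc) (.inr ⟨rfl, h.1⟩) ⟨rfl, h.2.1⟩ ⟨rfl, h.2.2.1⟩ ⟨rfl, h.2.2.2.1⟩ ⟨rfl, h.2.2.2.2.1⟩
  have k : ∀ c d : Gc F5, d.a = 0 → pv (c * d) = pv c + pv d := fun c d h => by ext <;> simp [h]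
  rw [k _ _ h2, k _ _ hd, map_add, e2, e4]
/-- normalizing `Q₂` from generators -/
theorem q2_of {ev : Gc F5 →* G} {g : G} (h : ∀ c ∈ [xa 1, xs 1, xr 1, xv 1, xz 1],
    ∃ c' : Gc F5, c'.u = 0 ∧ g * ev c * g⁻¹ = ev c') (c : Gc F5) (hc : c.u = 0) :
    ∃ c' : Gc F5, c'.u = 0 ∧ g * ev c * g⁻¹ = ev c' := by
  simp only [List.forall_mem_cons] at h
  exact ind (X := ⊤) (P := fun c => ∃ c' : Gc F5, c'.u = 0 ∧ g * ev c * g⁻¹ = ev c')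
    (fun c _ d _ ⟨c', h1, e1⟩ ⟨d', h2, e3⟩ => ⟨c' * d', by simp [h1, h2], by rw [map_mul, cj_mul, e1, e3, map_mul]⟩)
    ⟨1, rfl, by simp⟩ (.inr ⟨trivial, h.1⟩) (.inl hc) ⟨trivial, h.2.1⟩ ⟨trivial, h.2.2.1⟩ ⟨trivial, h.2.2.2.1⟩
    ⟨trivial, h.2.2.2.2.1⟩

/-! ### the models -/
/-- `G₂(5)` -/
def G25 : Prop := ∃ (G : Type) (_ : Group G) (_ : Finite G) (ev : Gc F5 →* G) (H : Subgroup G), Mo ev H ∧
  (∃ M1 ∈ H, ∀ c : Gc F5, c.a = 0 → M1 * ev c * M1⁻¹ = ev (m1 c)) ∧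
  (∃ M2 ∈ H, ∀ c : Gc F5, c.u = 0 → M2 * ev c * M2⁻¹ = ev (m2 c)) ∧ ∀ g ∈ H, ∀ r, g * ev (xz 1) * g⁻¹ ≠ ev (xr r)
/-- the Lyons group -/
def LY : Prop := ∃ (G : Type) (_ : Group G) (_ : Finite G) (ev : Gc F5 →* G) (H : Subgroup G), Mo ev H ∧
  (∃ g ∈ H, AcZ ev g nZ) ∧ ∃ g ∈ H, AcZ ev g nN
variable (G) in
/-- the Harada-Norton group: to be proved for `G = Cfsg.Spor.HN` -/
def HN : Prop := ∃ ev : Gc F5 →* G, Mo ev ⊤ ∧ (∃ g, AcZ ev g nH) ∧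
  (∃ α : MulAut G, ∀ c, α (ev c) = ev (sc 1 2 (.refl _) c)) ∧ ∀ g, ¬ Ws ev g 1 2

/-! ### the linear classification -/
/-- the image of the automizer of `Q₁` -/
structure LH5 (G : Subgroup (AZ F5)) : Prop where
  syl : Syl 5 (TZ F5) G
  fm : ∀ g ∈ G, ∃ μ : F5, ∀ x y, oZ (g x) (g y) = μ * oZ x y
  bor : ∀ g ∈ G, g ∈ nz (TZ F5) → ∃ τ k l, DZ ((tZ τ)⁻¹ * g) k l (.refl _)
  d : ∃ g ∈ G, DZ g 3 4 (.refl _)
  ne : ¬ G ≤ nz (TZ F5)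
structure Su5 (G : Subgroup (AZ F5)) : Prop where
  j : ∃ g ∈ G, DZ g 1 4 (.refl _)
  ex : nZ ∈ G ∨ nN ∈ G ∨ nH ∈ G
  zh : ¬ (nZ ∈ G ∧ nH ∈ G)
  sc : nZ ∈ G ∨ nN ∈ G → ∃ g ∈ G, DZ g 1 2 (.refl _)
  gen : ∀ G' : Subgroup (AZ F5), G ⊓ nz (TZ F5) ≤ G' → (nZ ∈ G → nZ ∈ G') → (nN ∈ G → nN ∈ G') → (nH ∈ G → nH ∈ G') → G ≤ G'
  o3 : nZ ∉ G → nN ∉ G → ∀ g ∈ G, ∃ μ : F5, DZ (g ^ 40) 1 μ (.refl _)
def L5 : Prop := ∀ G : Subgroup (AZ F5), LH5 G → Su5 G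

end H2.G
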