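/-
Fusion systems on a Sylow `5`-subgroup of `G₂(5)`: subgroups of `GSp₄(5)`, counting and codes.
-/
import Cfsg.Agent.H2.G50

set_option autoImplicit false
set_option linter.unusedSectionVars false
set_option linter.unusedSimpArgs false

namespace H2.G
open Subgroup H25 H8.PU MulAction
open H24.SP (mul_ap one_ap inv_ap ap_inv)

theorem card_AZ : Nat.card (AZ F5) = 116064000000 := by
  have e1 : AZ F5 ≃ (VV F5 ≃ₗ[F5] VV F5) :=
    ⟨fun f => { f.toAddEquiv with map_smul' := ZMod.map_smul f }, fun f => f.toAddEquiv.toIntLinearEquiv, fun _ => rfl, fun _ => rfl⟩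
  have b : Module.Basis (Fin 4) F5 (VV F5) := Module.finBasisOfFinrankEq _ _ (by simp)
  rw [Nat.card_congr e1, ← Nat.card_congr (LinearMap.GeneralLinearGroup.generalLinearEquiv F5 (VV F5)).toEquiv,
    ← Nat.card_congr (Matrix.GeneralLinearGroup.toLin' b).toEquiv, Matrix.card_GL_field]
  simp [Fin.prod_univ_four]

theorem free4 {G X : Type*} [Group G] [Finite G] [MulAction G X] [Finite X] {d : G} (hd : orderOf d = 4) {x0 : X}
    (h0 : d • x0 = x0) (h : ∀ x, d ^ 2 • x = x → x = x0) : Nat.card X % 4 = 1 := by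
  classical
  have := Fintype.ofFinite X
  have := Fintype.ofFinite (zpowers d)
  have := Fintype.ofFinite (orbitRel.Quotient (zpowers d) X)
  have e := sum_card_fixedBy_eq_card_orbits_mul_card_group (zpowers d) X
  have c : Fintype.card (zpowers d) = 4 := by rw [← Nat.card_eq_fintype_card, Nat.card_zpowers, hd]
  have d4 : d ^ 4 = 1 := hd ▸ pow_orderOf_eq_one d
  rw [← Finset.add_sum_erase _ _ (Finset.mem_univ 1), Finset.sum_congr rfl (g := fun _ => 1) fun a ha => ?_] at e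
  · simp [c] at e
    rw [Nat.card_eq_fintype_card]; omega
  obtain ⟨a, ha'⟩ := a
  obtain ⟨n, rfl⟩ := (mem_zpowers_iff_mem_range_orderOf.1 ha' |> Finset.mem_image.1 |>.imp fun _ h => h.2 : ∃ n : ℕ, d ^ n = a)
  have f0 : ∀ n : ℕ, d ^ n • x0 = x0 := fun n => (stabilizer G x0).pow_mem h0 n
  refine Fintype.card_eq_one_iff.2 ⟨⟨x0, f0 n⟩, fun ⟨x, hx⟩ => Subtype.ext (h x ?_)⟩
  have hx : d ^ n ∈ stabilizer G x := hx
  have n0 : d ^ n ≠ 1 := fun q => (Finset.mem_erase.1 ha).1 (Subtype.ext q)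
  rw [← pow_mod_orderOf, hd] at hx n0
  have : n % 4 < 4 := Nat.mod_lt _ (by norm_num)
  generalize n % 4 = m at *
  interval_cases m
  · simp at n0
  · exact pow_mem (pow_one d ▸ hx) 2
  · exact hx
  · have := pow_mem hx 2
    rwa [← pow_mul, show 3 * 2 = 4 + 2 by rfl, pow_add, d4, one_mul] at this

theorem syl_mod {Γ : Type*} [Group Γ] [Finite Γ] {S H : Subgroup Γ} {p : ℕ} [Fact p.Prime] (hS : IsPGroup p S) (h : Syl p S H) :
    (nz S).relIndex H ≡ 1 [MOD p] := by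
  have := card_sylow_modEq_one p H
  rw [Sylow.card_eq_index_normalizer ((hS.comap_subtype (K := H)).toSylow h.2)] at this
  exact .trans (congrArg (index · % p) (subgroupOf_normalizer_eq h.1)) this
theorem pT : IsPGroup 5 (TZ F5) := fun ⟨_, τ, e⟩ => ⟨1, Subtype.ext (by
  subst e
  simp only [pow_succ, pow_zero, one_mul, coe_mul, ← tZ_add, coe_one]
  rw [← tZ_zero]; congr 1; revert τ; decide)⟩
variable {G : Subgroup (AZ F5)} {g g' d : AZ F5} {k l : F5}
theorem DZ.nz (h : DZ g k l (.refl _)) : g ∈ nz (TZ F5) := mem_nz_of_conj_mem (by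
  rintro _ ⟨τ, rfl⟩
  refine ⟨k * τ, mul_inv_eq_of_eq_mul (LinearEquiv.ext fun x => ?_)⟩
  simp only [mul_ap, tZ_ap, h _, RingEquiv.refl_apply]
  ext <;> simp <;> ring)
theorem DZ.uq (h : DZ g k l (.refl _)) (h' : DZ g' k l (.refl _)) : g = g' := LinearEquiv.ext fun x => by rw [h, h']
/-- the involution `d²` -/
def iZ : AZ F5 where
  toFun x := (x.1, -x.2.1, x.2.2.1, -x.2.2.2)
  invFun x := (x.1, -x.2.1, x.2.2.1, -x.2.2.2)
  map_add' x y := by ext <;> simp <;> ring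
  map_smul' c x := by ext <;> simp
  left_inv x := by simp
  right_inv x := by simp
theorem iZ_ap (x : VV F5) : iZ x = (x.1, -x.2.1, x.2.2.1, -x.2.2.2) := rfl
theorem d_sq (h : DZ d 3 4 (.refl _)) : d ^ 2 = iZ := LinearEquiv.ext fun x => by
  simp only [pow_two, mul_ap, h _, iZ_ap, RingEquiv.refl_apply]
  revert x; decide +kernel
theorem iZ_sq : iZ * iZ = 1 := LinearEquiv.ext fun x => by simp [mul_ap, iZ_ap]
/-- the involution normalizes a second Sylow subgroup -/
theorem exi (s : Syl 5 (TZ F5) G) (hd : d ∈ G) (h : DZ d 3 4 (.refl _)) (ne : ¬ G ≤ nz (TZ F5)) :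
    ∃ g ∈ G, g ∉ nz (TZ F5) ∧ g⁻¹ * iZ * g ∈ nz (TZ F5) := by
  by_contra! c
  have o : orderOf (⟨d, hd⟩ : G) = 4 := by
    rw [orderOf_mk]
    exact orderOf_eq_prime_pow (p := 2) (n := 1) (by
      rw [pow_one, d_sq h]; exact fun e => absurd (congrArg (· (0, 1, 0, 0)) e) (by decide))
      (by rw [show 2 ^ (1 + 1) = 2 + 2 by rfl, pow_add, d_sq h, iZ_sq])
  have h4 := free4 (X := G ⧸ (nz (TZ F5)).subgroupOf G) o (x0 := ((1 : G) : _)) (QuotientGroup.eq.2 (by
      simpa [mem_subgroupOf] using h.nz)) fun x e => by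
    obtain ⟨⟨g, hg⟩, rfl⟩ := QuotientGroup.mk_surjective x
    have := QuotientGroup.eq.1 e.symm
    simp only [mem_subgroupOf, coe_mul, coe_inv, smul_eq_mul, SubmonoidClass.mk_pow, d_sq h, ← mul_assoc] at this
    exact QuotientGroup.eq.2 (by simpa [mem_subgroupOf] using by_contra fun q => c g hg q this)
  have h5 : _ % 5 = 1 := syl_mod pT s
  have dv := (relIndex_dvd_card (nz (TZ F5)) G).trans (card_subgroup_dvd_card G)
  change (nz (TZ F5)).relIndex G % 4 = 1 at h4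
  rw [card_AZ] at dv
  have n1 : (nz (TZ F5)).relIndex G ≠ 1 := fun e => ne (relIndex_eq_one.1 e)
  generalize (nz (TZ F5)).relIndex G = n at *
  have cp : Nat.Coprime n (10 ^ 11) := Nat.Coprime.pow_right _ (Nat.Coprime.mul_right
    (Nat.coprime_comm.1 ((Nat.Prime.coprime_iff_not_dvd Nat.prime_two).2 (by omega)))
    (Nat.coprime_comm.1 ((Nat.Prime.coprime_iff_not_dvd Nat.prime_five).2 (by omega))) : n.Coprime (2 * 5))
  have := cp.dvd_of_dvd_mul_left (dv.trans (by norm_num : 116064000000 ∣ 10 ^ 11 * 3627))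
  exact (by decide +kernel : ∀ n ∈ Nat.divisors 3627, n % 4 = 1 → n % 5 = 1 → n = 1) n (by simp [this]) h4 h5 |> n1
/-- conjugates of the involution in the Borel subgroup -/
theorem ic {τ : F5} (h : DZ ((tZ τ)⁻¹ * (g⁻¹ * iZ * g)) k l (.refl _)) :
    (∀ x, iZ ((g * tZ (3 * τ)) x) = (g * tZ (3 * τ)) (iZ x)) ∨ ∀ x, iZ ((g * tZ (3 * τ)) x) = -(g * tZ (3 * τ)) (iZ x) := by
  have e : ∀ x, iZ (g x) = g (tZ τ (l * x.1, l * k * x.2.1, l * k ^ 2 * x.2.2.1, l * k ^ 3 * x.2.2.2)) := fun x => by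
    have := h x
    simp only [RingEquiv.refl_apply] at this
    rw [← this]; simp only [mul_ap, ap_inv]
  have q : ∀ x, iZ (iZ (g x)) = g x := fun x => by rw [← mul_ap, iZ_sq, one_ap]
  have q1 := q (1, 0, 0, 0)
  have q2 := q (0, 0, 0, 1)
  have q3 := q (0, 0, 1, 0)
  rw [e, e, g.injective.eq_iff] at q1 q2 q3
  have n : ¬ (k = 1 ∧ τ = 0) := fun ⟨a, b⟩ => by
    have e1 := e (g⁻¹ (1, 0, 0, 0))
    have e2 := e (g⁻¹ (0, 1, 0, 0))
    have : ∀ x : VV F5, (l * x.1, l * 1 * x.2.1, l * 1 ^ 2 * x.2.2.1, l * 1 ^ 3 * x.2.2.2) = l • x := fun x => by ext <;> simp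
    rw [a, b, tZ_zero, one_ap, this, ZMod.map_smul, ap_inv, iZ_ap] at e1 e2
    revert e1 e2; generalize l = l; revert l; decide
  simp only [tZ_ap, Prod.mk.injEq] at q1 q2 q3
  obtain ⟨rfl, rfl | rfl⟩ : k = 4 ∧ (l = 1 ∨ l = 4) := by
    revert n q1 q2 q3; generalize τ = τ, k = k, l = l; revert τ k l; decide +kernel
  · refine .inl fun x => ?_
    rw [mul_ap, mul_ap, e]; congr 1
    simp only [tZ_ap, iZ_ap]; generalize τ = τ; revert τ x; decide +kernel
  · refine .inr fun x => ?_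
    rw [mul_ap, mul_ap, e, ← map_neg]; congr 1
    simp only [tZ_ap, iZ_ap]; generalize τ = τ; revert τ x; decide +kernel

end H2.G
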