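/-
Fusion systems on a Sylow `5`-subgroup of `G₂(5)`: codes for `4 × 4` matrices over `F₅`, soundness of the certificates.
-/
import Cfsg.Agent.H2.G51

set_option autoImplicit false
set_option linter.unusedSectionVars false
set_option linter.unusedSimpArgs false

namespace H2.G
open Subgroup H25 H8.PU
open H24.SP (mul_ap one_ap inv_ap ap_inv)

local infixl:65 " +' " => Nat.add
local infixl:70 " *' " => Nat.mul
local infixl:70 " /' " => Nat.div
local infixl:70 " %' " => Nat.mod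
def pk (a b c d : ℕ) : ℕ := a %' 5 +' 8 *' (b %' 5) +' 64 *' (c %' 5) +' 512 *' (d %' 5)
def rw4 (c a b d e : ℕ) : ℕ := c %' 8 *' a +' c /' 4096 %' 8 *' b +' c /' 16777216 %' 8 *' d +' c /' 68719476736 %' 8 *' e
def ap4 (c a b d e : ℕ) : ℕ := pk (rw4 c a b d e) (rw4 (c /' 8) a b d e) (rw4 (c /' 64) a b d e) (rw4 (c /' 512) a b d e)
def ap (c n : ℕ) : ℕ := ap4 c (n %' 8) (n /' 8 %' 8) (n /' 64 %' 8) (n /' 512 %' 8)
def mk4 (a b c d : ℕ) : ℕ := a +' 4096 *' b +' 16777216 *' c +' 68719476736 *' d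
def mul (c d : ℕ) : ℕ := mk4 (ap c d) (ap c (d /' 4096)) (ap c (d /' 16777216)) (ap c (d /' 68719476736))
def lc (a n b m : ℕ) : ℕ := pk (a *' (n %' 8) +' b *' (m %' 8)) (a *' (n /' 8 %' 8) +' b *' (m /' 8 %' 8))
  (a *' (n /' 64 %' 8) +' b *' (m /' 64 %' 8)) (a *' (n /' 512 %' 8) +' b *' (m /' 512 %' 8))
def cI : ℕ := 35185445863425
def sq (c : ℕ) : ℕ := mul c c
def pwb : ℕ → ℕ → ℕ → ℕ
  | 0, _, _ => cI
  | f + 1, c, m => bif Nat.beq m 1 then c else bif Nat.beq (m %' 2) 0 then pwb f (sq c) (m /' 2) else mul c (pwb f (sq c) (m /' 2))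
def p5 (c : ℕ) : ℕ := mul c (sq (sq c))
def p20 (c : ℕ) : ℕ := p5 (sq (sq c))
def dc (k l : ℕ) : ℕ := mk4 (pk l 0 0 0) (pk 0 (l * k) 0 0) (pk 0 0 (l * k ^ 2) 0) (pk 0 0 0 (l * k ^ 3))
def tc (a : ℕ) : ℕ := mk4 (pk 1 a (a ^ 2) (a ^ 3)) (pk 0 1 (2 * a) (3 * a ^ 2)) (pk 0 0 1 (3 * a)) 512
def cZ : ℕ := mk4 2048 64 32 1
def cN : ℕ := mk4 32 1 1024 128
def cH : ℕ := mk4 192 2048 2 32
def ci : ℕ := dc 4 1
def pc (a b c d n : ℕ) : ℕ := mk4 (pk a 0 c 0) (pk 0 (n *' a) 0 (2 *' n *' c)) (pk b 0 d 0) (pk 0 (3 *' n *' b) 0 (n *' d))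
def gl (a b c : ℕ) : List ℕ := [a, 35211222483529, 35194041042705, 35219810059545, 35202632812641, 105554190073860,
  140738562228225, 70369818017796, b, c]
def ev (L : List ℕ) : ℕ → ℕ → ℕ
  | 0, _ => cI
  | f + 1, w => bif Nat.blt w 16 then L.getD (w - 1) cI else mul (L.getD (w %' 16 - 1) cI) (ev L f (w /' 16))
def R4 : List ℕ := [1, 2, 3, 4]
def nl (c j : ℕ) : Bool := Nat.beq (lc 1 (ap c (ap c (ap c j))) 3 (ap c j)) (lc 3 (ap c (ap c j)) 1 j)
def bad (c : ℕ) : Bool := Nat.beq (p5 c) cI && !Nat.beq (mul cI c) cI && nl c 1 && nl c 8 && nl c 64 && nl c 512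
def dgc (c : ℕ) : Bool := R4.any fun k => R4.any fun l => Nat.beq c (dc k l)
def opt (w n : ℕ) : ℕ := bif Nat.beq w 0 then cI else n
def okw (c w n : ℕ) : Bool := Nat.beq w 0 || Nat.beq (ev (gl c cI cI) 16 w) n
def B64 : ℕ := 18446744073709551616
def alw (c a b d w : ℕ) : Bool := okw c a cZ && okw c b cN && okw c d cH &&
  dgc (mul (ev (gl (opt a cZ) (opt b cN) (opt d cH)) 16 (w + 1)) c)
def ck (c x : ℕ) : Bool := bif Nat.beq (x %' 2) 0 then bad (pwb 10 (ev (gl c cI cI) 16 (x /' 2048)) (x /' 2 %' 1024))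
  else alw c (x /' 2 %' B64) (x /' 2 /' B64 %' B64) (x /' 2 /' B64 /' B64 %' B64) (x /' 2 /' B64 /' B64 /' B64)
def ck5 (e a b c d n x : ℕ) : Bool := Nat.beq ((a *' d +' 4 *' b *' c) *' n %' 5) 0 ||
  ck (bif Nat.beq e 0 then pc a b c d n else mul (pc a b c d n) cZ) x
def ckn (j x : ℕ) : Bool := ck5 (j /' 3125) (j %' 5) (j /' 5 %' 5) (j /' 25 %' 5) (j /' 125 %' 5) (j /' 625 %' 5) x
def pt2 (h v y : ℕ) : Bool := Nat.beq (ap ci y) y || Nat.beq (ap ci y) (lc 4 y 0 0) ||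
  (R4.any fun s => Nat.beq y (lc s v 0 0)) && !Nat.beq (mul cI (p20 h)) cI
def pt1 (h v : ℕ) : Bool := Nat.beq v 0 || pt2 h v (ap h v)
def pt (n j w : ℕ) : Bool := pt1 (ev (gl n cI cI) 16 w) (pk j (j /' 5) (j /' 25) (j /' 125))
def al (f : ℕ → ℕ → Bool) : ℕ → List ℕ → Bool
  | _, [] => true
  | n, x :: l => f n x && al f (n +' 1) l
def mem (c : ℕ) : List ℕ → Bool
  | [] => false
  | a :: l => Nat.beq a c || mem c l
def lg (n : ℕ) : ℕ := bif Nat.beq (n %' 8) 0 then bif Nat.beq (n /' 8 %' 8) 0 then bif Nat.beq (n /' 64 %' 8) 0 then n /' 512 %' 8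
  else n /' 64 %' 8 else n /' 8 %' 8 else n %' 8
def nrm (c : ℕ) : ℕ := mul (pwb 3 (dc 1 2) ([4, 3, 1, 2].getD (lg c - 1) 4)) c
def clo (L : List ℕ) : Bool := mem cI L && L.all fun c => mem (nrm (mul (tc 1) c)) L && mem (nrm (mul (dc 3 4) c)) L &&
  mem (nrm (mul cH c)) L && R4.any fun m => Nat.beq (sq (p20 c)) (dc 1 m)
theorem na (a b : ℕ) : a +' b = a + b := rfl
theorem nm (a b : ℕ) : a *' b = a * b := rfl
theorem nd (a b : ℕ) : a /' b = a / b := rfl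
theorem no (a b : ℕ) : a %' b = a % b := rfl
theorem pk_lt (a b c d : ℕ) : pk a b c d < 4096 := by simp only [pk, na, nm, no]; omega
theorem mem_iff {c : ℕ} {l : List ℕ} : mem c l = true ↔ c ∈ l := by
  induction l with
  | nil => simp [mem]
  | cons a l ih => rw [mem, Bool.or_eq_true, ih, Nat.beq_eq, List.mem_cons, eq_comm]
theorem al_ex {f : ℕ → ℕ → Bool} {l : List ℕ} {n j : ℕ} (h : al f n l = true) (h1 : n ≤ j) (h2 : j < n + l.length) :
    ∃ x, f j x = true := by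
  induction l generalizing n with
  | nil => simp at h2; omega
  | cons a l ih =>
    rw [al, Bool.and_eq_true] at h
    rcases h1.eq_or_lt with rfl | h1
    exacts [⟨a, h.1⟩, ih h.2 h1 (by simp [na] at h2 ⊢; omega)]

variable {G G' : Subgroup (AZ F5)} {g g' x : AZ F5} {c d n m : ℕ} {L : List ℕ}
def vec4 (a b c d : ℕ) : VV F5 := (a, b, c, d)
def vec (n : ℕ) : VV F5 := vec4 (n % 8) (n / 8 % 8) (n / 64 % 8) (n / 512 % 8)
/-- `c` is the matrix of `g` -/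
def Rp (g : AZ F5) (c : ℕ) : Prop := g (1, 0, 0, 0) = vec c ∧ g (0, 1, 0, 0) = vec (c / 4096) ∧
  g (0, 0, 1, 0) = vec (c / 16777216) ∧ g (0, 0, 0, 1) = vec (c / 68719476736)
def In (G : Subgroup (AZ F5)) (c : ℕ) : Prop := ∃ g ∈ G, Rp g c
theorem vec_mod (h : n % 4096 = m % 4096) : vec n = vec m := by
  unfold vec; congr 1 <;> omega
theorem lin4 (g : AZ F5) (a b c d : ℕ) :
    g (vec4 a b c d) = a • g (1, 0, 0, 0) + b • g (0, 1, 0, 0) + c • g (0, 0, 1, 0) + d • g (0, 0, 0, 1) := by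
  simp only [← map_nsmul, ← map_add]; congr 1; simp [vec4]
theorem rp_mk {a b c d : ℕ} (ha : a < 4096) (hb : b < 4096) (hc : c < 4096) (h1 : g (1, 0, 0, 0) = vec a)
    (h2 : g (0, 1, 0, 0) = vec b) (h3 : g (0, 0, 1, 0) = vec c) (h4 : g (0, 0, 0, 1) = vec d) : Rp g (mk4 a b c d) := by
  simp only [mk4, na, nm]
  exact ⟨h1.trans (vec_mod (by omega)), h2.trans (vec_mod (by omega)), h3.trans (vec_mod (by omega)), h4.trans (vec_mod (by omega))⟩
theorem c5 (a : ℕ) : ((a % 5 : ℕ) : F5) = a := ZMod.natCast_mod a 5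
theorem vpk (a b c d : ℕ) : vec (pk a b c d) = vec4 a b c d := by
  have e : vec (pk a b c d) = vec4 (a % 5) (b % 5) (c % 5) (d % 5) := by
    simp only [vec, pk, na, nm, no]; congr 1 <;> omega
  simp only [e, vec4, c5]
theorem pk_inj {a b c d a' b' c' d' : ℕ} (h : vec4 a b c d = vec4 a' b' c' d') : pk a b c d = pk a' b' c' d' := by
  simp only [vec4, Prod.mk.injEq, ZMod.natCast_eq_natCast_iff'] at h
  simp only [pk, no, h]
theorem rap4 (h : Rp g c) (a b d e : ℕ) : g (vec4 a b d e) = vec (ap4 c a b d e) := by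
  rw [lin4, h.1, h.2.1, h.2.2.1, h.2.2.2, ap4, vpk]
  simp only [vec, vec4, rw4, na, nm, nd, no, Nat.div_div_eq_div_mul]
  ext <;> simp <;> ring
theorem rap (h : Rp g c) (n : ℕ) : g (vec n) = vec (ap c n) := rap4 h _ _ _ _
theorem vlc (a n b m : ℕ) : vec (lc a n b m) = a • vec n + b • vec m := by
  rw [lc, vpk]; simp only [vec, vec4, na, nm, nd, no]; ext <;> simp
theorem Rp.mul (h : Rp g c) (h' : Rp g' d) : Rp (g * g') (mul c d) :=
  rp_mk (pk_lt ..) (pk_lt ..) (pk_lt ..) (by rw [mul_ap, h'.1, rap h]) (by rw [mul_ap, h'.2.1, rap h]; rfl)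
    (by rw [mul_ap, h'.2.2.1, rap h]; rfl) (by rw [mul_ap, h'.2.2.2, rap h]; rfl)
theorem rone : Rp 1 cI := by simp [Rp, cI, vec, vec4]
theorem sur (v : VV F5) : ∃ a < 5, ∃ b < 5, ∃ c < 5, ∃ d < 5, v = vec4 a b c d :=
  ⟨_, v.1.val_lt, _, v.2.1.val_lt, _, v.2.2.1.val_lt, _, v.2.2.2.val_lt, by simp [vec4]⟩
theorem Rp.ext (h : Rp g c) (h' : Rp g' c) : g = g' := LinearEquiv.ext fun v => by
  obtain ⟨a, -, b, -, c, -, d, -, rfl⟩ := sur v
  rw [rap4 h, rap4 h']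
theorem ap_inj (h : vec n = vec m) (c : ℕ) : ap c n = ap c m := by
  simp only [vec, vec4, Prod.mk.injEq, ZMod.natCast_eq_natCast_iff'] at h
  have k : ∀ n, ap c n = ap4 c (n % 8 % 5) (n / 8 % 8 % 5) (n / 64 % 8 % 5) (n / 512 % 8 % 5) := fun n => by
    refine pk_inj ?_
    simp only [vec4, rw4, na, nm, nd, no]; push_cast [c5]; rfl
  rw [k, k, h.1, h.2.1, h.2.2.1, h.2.2.2]
theorem Rp.uq (h : Rp g c) (h' : Rp g d) (e : ℕ) : H2.G.mul e c = H2.G.mul e d := by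
  simp only [H2.G.mul, nd]
  rw [ap_inj (h.1.symm.trans h'.1), ap_inj (h.2.1.symm.trans h'.2.1), ap_inj (h.2.2.1.symm.trans h'.2.2.1),
    ap_inj (h.2.2.2.symm.trans h'.2.2.2)]
theorem Rp.p5 (h : Rp g c) : Rp (g ^ 5) (p5 c) := by
  rw [show g ^ 5 = g * (g * g * (g * g)) by simp only [pow_succ, pow_zero, one_mul, mul_assoc]]
  exact h.mul ((h.mul h).mul (h.mul h))
theorem Rp.p20 (h : Rp g c) : Rp (g ^ 20) (p20 c) := by
  rw [show g ^ 20 = (g * g * (g * g)) ^ 5 by rw [← pow_two, ← pow_two, ← pow_mul, ← pow_mul]]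
  exact ((h.mul h).mul (h.mul h)).p5
theorem In.mul (h : In G c) (h' : In G d) : In G (mul c d) :=
  let ⟨_, a, b⟩ := h; let ⟨_, a', b'⟩ := h'; ⟨_, mul_mem a a', b.mul b'⟩
theorem ione : In G cI := ⟨1, one_mem _, rone⟩
theorem In.pwb (h : In G c) (f m : ℕ) : In G (pwb f c m) := by
  induction f generalizing c m with
  | zero => exact ione
  | succ f ih =>
    rw [H2.G.pwb]
    cases Nat.beq m 1
    · cases Nat.beq (Nat.mod m 2) 0
      exacts [h.mul (ih (h.mul h) _), ih (h.mul h) _]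
    · exact h
theorem igd (h : ∀ c ∈ L, In G c) (j : ℕ) : In G (L.getD j cI) := by
  rw [List.getD_eq_getElem?_getD]
  cases e : L[j]? with
  | none => exact ione
  | some a => exact h a (List.mem_of_getElem? e)
theorem iev (h : ∀ c ∈ L, In G c) (k w : ℕ) : In G (ev L k w) := by
  induction k generalizing w with
  | zero => exact ione
  | succ k ih =>
    rw [ev]
    cases Nat.blt w 16
    exacts [(igd h _).mul (ih _), igd h _]
theorem rt (a : ℕ) : Rp (tZ (a : F5)) (tc a) := by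
  refine rp_mk (pk_lt ..) (pk_lt ..) (pk_lt ..) ?_ ?_ ?_ (by simp [vec4, tZ_ap, vec]) <;> simp [vpk, vec4, tZ_ap]
theorem rd {k l : ℕ} : Rp g (dc k l) ↔ DZ g k l (.refl _) := by
  refine ⟨fun h x => ?_, fun h => rp_mk (pk_lt ..) (pk_lt ..) (pk_lt ..) ?_ ?_ ?_ ?_⟩
  · obtain ⟨a, -, b, -, c, -, d, -, rfl⟩ := sur x
    have k1 : ∀ a b c d : ℕ, a < 4096 → b < 4096 → c < 4096 → vec (mk4 a b c d) = vec a ∧ vec (mk4 a b c d / 4096) = vec b ∧
        vec (mk4 a b c d / 16777216) = vec c ∧ vec (mk4 a b c d / 68719476736) = vec d := fun a b c d _ _ _ => by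
      simp only [mk4, na, nm]
      exact ⟨vec_mod (by omega), vec_mod (by omega), vec_mod (by omega), vec_mod (by omega)⟩
    obtain ⟨e1, e2, e3, e4⟩ := k1 _ _ _ (pk 0 0 0 (l * k ^ 3)) (pk_lt l 0 0 0) (pk_lt 0 (l * k) 0 0) (pk_lt 0 0 (l * k ^ 2) 0)
    rw [lin4, h.1, h.2.1, h.2.2.1, h.2.2.2, dc, e1, e2, e3, e4]
    simp [vpk, vec4, mul_comm]
  all_goals simp [h _, vpk, vec4]
theorem rZ : Rp nZ cZ := ⟨by decide, by decide, by decide, by decide⟩
theorem rN : Rp nN cN := ⟨by decide, by decide, by decide, by decide⟩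
theorem rH : Rp nH cH := ⟨by decide, by decide, by decide, by decide⟩
theorem ri : Rp iZ ci := ⟨by decide +kernel, by decide +kernel, by decide +kernel, by decide +kernel⟩
theorem In.mem (h : In G c) (r : Rp g c) : g ∈ G := let ⟨_, a, b⟩ := h; b.ext r ▸ a
theorem igl {a b : ℕ} (hT : TZ F5 ≤ G) (hd : ∃ g ∈ G, DZ g 3 4 (.refl _)) (ha : In G a) (hb : In G b) (hc : In G c) :
    ∀ x ∈ gl a b c, In G x := by
  have t : ∀ a, In G (tc a) := fun a => ⟨_, hT ⟨_, rfl⟩, rt a⟩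
  have d : In G (dc 3 4) := let ⟨g, a, b⟩ := hd; ⟨g, a, rd.2 b⟩
  rw [show gl a b c = [a, tc 1, tc 2, tc 3, tc 4, dc 3 4, sq (dc 3 4), mul (dc 3 4) (sq (dc 3 4)), b, c] by
    simp only [gl, List.cons.injEq, true_and, and_true]; decide +kernel]
  simp only [List.forall_mem_cons, List.not_mem_nil, false_imp_iff, implies_true, and_true]
  exact ⟨ha, t 1, t 2, t 3, t 4, d, d.mul d, d.mul (d.mul d), hb, hc⟩
theorem DZ.ne {k l : F5} (h : DZ g k l (.refl _)) : k ≠ 0 ∧ l ≠ 0 := by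
  have := mt (g.map_eq_zero_iff (x := (0, 1, 0, 0))).1 (by decide)
  rw [h] at this
  exact ⟨fun e => this (by simp [e]), fun e => this (by simp [e])⟩
theorem nbad (s : Syl 5 (TZ F5) G) (h : In G c) : bad c = false := by
  rw [Bool.eq_false_iff]
  simp only [bad, nl, Ne, Bool.and_eq_true, Nat.beq_eq, Bool.not_eq_true', ← Bool.not_eq_true]
  rintro ⟨⟨⟨⟨⟨e5, n⟩, k1⟩, k2⟩, k3⟩, k4⟩
  obtain ⟨x, hx, r⟩ := h
  have k : ∀ j, lc 1 (ap c (ap c (ap c j))) 3 (ap c j) = lc 3 (ap c (ap c j)) 1 j →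
      x (x (x (vec j))) + 3 • x (vec j) = 3 • x (x (vec j)) + vec j := fun j e => by
    have := congrArg vec e
    simpa only [vlc, ← rap r, one_smul] using this
  have q : ∀ v, x (x (x v)) + 3 • x v = 3 • x (x v) + v := fun v => by
    obtain ⟨a, -, b, -, c, -, d, -, rfl⟩ := sur v
    rw [show vec4 a b c d = a • vec 1 + b • vec 8 + c • vec 64 + d • vec 512 by simp [vec, vec4]]
    simp only [map_add, map_nsmul]
    linear_combination (exp := 1) a • k _ k1 + b • k _ k2 + c • k _ k3 + d • k _ k4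
  obtain ⟨g, -, e⟩ := s.exists_cj_le (X := zpowers x) (fun ⟨y, hy⟩ => ⟨1, Subtype.ext (by
      obtain ⟨z, rfl⟩ := mem_zpowers_iff.1 hy
      show (x ^ z) ^ 5 ^ 1 = 1
      rw [pow_one, ← zpow_natCast, ← zpow_mul, mul_comm, zpow_mul, zpow_natCast, r.p5.ext (e5 ▸ rone), one_zpow])⟩) (zpowers_le.2 hx)
  obtain ⟨τ, e⟩ := e (conj_mem_cj g (mem_zpowers x))
  have := congrArg g (q (g⁻¹ (1, 0, 0, 0)))
  obtain rfl : x = g⁻¹ * tZ τ * g := by rw [← e]; group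
  simp only [map_add, map_nsmul, mul_ap, ap_inv, tZ_ap] at this
  obtain rfl : τ = 0 := by revert this; generalize τ = τ; revert τ; decide +kernel
  exact n ((r.uq (by rw [tZ_zero]; simpa using rone) cI).trans (by decide +kernel))

end H2.G
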