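/-
Fusion systems on a Sylow `5`-subgroup of `G₂(5)`: the classification of the automizers of `Q₁`.
-/
import Cfsg.Agent.H2.G53g

set_option autoImplicit false
set_option linter.unusedSectionVars false
set_option linter.unusedSimpArgs false

namespace H2.G
open Subgroup H25 H8.PU
open H24.SP (mul_ap one_ap inv_ap ap_inv)

variable {G G' : Subgroup (AZ F5)} {g g' x : AZ F5} {c d n m : ℕ} {L : List ℕ}
structure LA (G : Subgroup (AZ F5)) : Prop where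
  syl : Syl 5 (TZ F5) G
  fm : ∀ g ∈ G, ∃ μ : F5, ∀ x y, oZ (g x) (g y) = μ * oZ x y
  bor : ∀ g ∈ G, g ∈ nz (TZ F5) → ∃ τ k l, DZ ((tZ τ)⁻¹ * g) k l (.refl _)
  d : ∃ g ∈ G, DZ g 3 4 (.refl _)
def Ok (G : Subgroup (AZ F5)) (g : AZ F5) : Prop :=
  ∀ G' : Subgroup (AZ F5), G ⊓ nz (TZ F5) ≤ G' → (nZ ∈ G → nZ ∈ G') → (nN ∈ G → nN ∈ G') → (nH ∈ G → nH ∈ G') → g ∈ G'
theorem par (μ : F5) (h : ∀ x y, oZ (g x) (g y) = μ * oZ x y) (k : ∀ x, iZ (g x) = g (iZ x)) :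
    ∃ a < 5, ∃ b < 5, ∃ c < 5, ∃ d < 5, ∃ n < 5, (a * d + 4 * b * c) * n % 5 ≠ 0 ∧ Rp g (pc a b c d n) := by
  have m0 : μ ≠ 0 := fun e => by simpa [e, oZ] using h (g⁻¹ (1, 0, 0, 0)) (g⁻¹ (0, 0, 0, 1))
  have k1 := k (1, 0, 0, 0)
  have k2 := k (0, 1, 0, 0)
  have k3 := k (0, 0, 1, 0)
  have k4 := k (0, 0, 0, 1)
  rw [show iZ (0, 1, 0, 0) = -(0, 1, 0, 0) by decide, map_neg] at k2
  rw [show iZ (0, 0, 0, 1) = -(0, 0, 0, 1) by decide, map_neg] at k4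
  have e1 := h (1, 0, 0, 0) (0, 1, 0, 0)
  have e2 := h (1, 0, 0, 0) (0, 0, 0, 1)
  have e3 := h (0, 0, 1, 0) (0, 1, 0, 0)
  have e4 := h (0, 0, 1, 0) (0, 0, 0, 1)
  have z : ∀ t : F5, -t = t ↔ t = 0 := by decide
  have z' : ∀ t : F5, t = -t ↔ t = 0 := by decide
  obtain ⟨⟨a, a1, c, a2⟩, q1⟩ : ∃ v, g (1, 0, 0, 0) = v := ⟨_, rfl⟩
  obtain ⟨⟨a3, s1, a4, s2⟩, q2⟩ : ∃ v, g (0, 1, 0, 0) = v := ⟨_, rfl⟩
  obtain ⟨⟨b, a5, d, a6⟩, q3⟩ : ∃ v, g (0, 0, 1, 0) = v := ⟨_, rfl⟩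
  obtain ⟨⟨a7, v1, a8, v2⟩, q4⟩ : ∃ v, g (0, 0, 0, 1) = v := ⟨_, rfl⟩
  simp only [iZ_ap, neg_zero, q1, q2, q3, q4, Prod.mk.injEq, Prod.neg_mk, z, z', true_and, and_true] at k1 k2 k3 k4
  obtain ⟨rfl, rfl⟩ := k1
  obtain ⟨rfl, rfl⟩ := k2
  obtain ⟨rfl, rfl⟩ := k3
  obtain ⟨rfl, rfl⟩ := k4
  simp only [q1, q2, q3, q4, oZ] at e1 e2 e3 e4
  have D : a * d - b * c ≠ 0 := fun e => by
    have h1 : a = 0 := (mul_eq_zero.1 (show μ * a = 0 by linear_combination (2 * b) * e1 - (2 * a) * e3 + 6 * s1 * e - a * μ * h5)).resolve_left m0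
    have h2 : c = 0 := (mul_eq_zero.1 (show μ * c = 0 by linear_combination (2 * d) * e1 - (2 * c) * e3 - 2 * s2 * e - c * μ * h5)).resolve_left m0
    exact m0 (by rw [h1, h2] at e2; linear_combination -e2)
  obtain ⟨ν, rfl⟩ : ∃ ν, μ = ν * (a * d - b * c) := ⟨μ / (a * d - b * c), by field_simp⟩
  obtain rfl : s1 = ν * a := mul_left_cancel₀ D (by
    linear_combination (2 * a) * e3 - (2 * b) * e1 + (a * d - b * c) * (ν * a - s1) * h5)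
  obtain rfl : s2 = 2 * ν * c := mul_left_cancel₀ D (by linear_combination d * e1 - c * e3 - (a * d - b * c) * (ν * c) * h5)
  obtain rfl : v1 = 3 * ν * b := mul_left_cancel₀ D (by
    linear_combination (2 * a) * e4 - (2 * b) * e2 - (a * d - b * c) * (ν * b + v1) * h5)
  obtain rfl : v2 = ν * d := mul_left_cancel₀ D (by linear_combination d * e2 - c * e4)
  refine ⟨_, a.val_lt, _, b.val_lt, _, c.val_lt, _, d.val_lt, _, ν.val_lt, fun e => m0 ?_,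
    rp_mk (pk_lt ..) (pk_lt ..) (pk_lt ..) ?_ ?_ ?_ ?_⟩
  · have := (ZMod.natCast_eq_zero_iff _ 5).2 (Nat.dvd_of_mod_eq_zero e)
    simp only [Nat.cast_mul, Nat.cast_add, ZMod.natCast_val, ZMod.cast_id', id, Nat.cast_ofNat] at this
    linear_combination this - b * c * ν * h5
  all_goals simp [vpk, vec4, nm, q1, q2, q3, q4]
theorem ckn_ex {j : ℕ} (h : j < 6250) : ∃ x, ckn j x = true := by
  have k : ∀ {n l}, al ckn n l = true ∧ l.length = 625 → n ≤ j → j < n + 625 → ∃ x, ckn j x = true :=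
    fun h h1 h2 => al_ex h.1 h1 (h.2 ▸ h2)
  by_cases h1 : j < 625; exact k cC0 (by omega) (by omega)
  by_cases h1 : j < 1250; exact k cC1 (by omega) (by omega)
  by_cases h1 : j < 1875; exact k cC2 (by omega) (by omega)
  by_cases h1 : j < 2500; exact k cC3 (by omega) (by omega)
  by_cases h1 : j < 3125; exact k cC4 (by omega) (by omega)
  by_cases h1 : j < 3750; exact k cC5 (by omega) (by omega)
  by_cases h1 : j < 4375; exact k cC6 (by omega) (by omega)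
  by_cases h1 : j < 5000; exact k cC7 (by omega) (by omega)
  by_cases h1 : j < 5625; exact k cC8 (by omega) (by omega)
  exact k cC9 (by omega) (by omega)
theorem ck_ex {e a b c d n : ℕ} (he : e < 2) (ha : a < 5) (hb : b < 5) (hc : c < 5) (hd : d < 5) (hn : n < 5)
    (h : (a * d + 4 * b * c) * n % 5 ≠ 0) : ∃ x, ck (bif Nat.beq e 0 then pc a b c d n else mul (pc a b c d n) cZ) x = true := by
  obtain ⟨x, k⟩ := ckn_ex (j := a + 5 * b + 25 * c + 125 * d + 625 * n + 3125 * e) (by omega)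
  simp only [ckn, nd, no] at k
  rw [show _ / 3125 = e by omega, show _ % 5 = a by omega, show _ / 5 % 5 = b by omega, show _ / 25 % 5 = c by omega,
    show _ / 125 % 5 = d by omega, show _ / 625 % 5 = n by omega, ck5, Bool.or_eq_true, Nat.beq_eq] at k
  exact ⟨x, k.resolve_left h⟩
theorem T_le : TZ F5 ≤ nz (TZ F5) := le_nz_self _

namespace LA
variable (h : LA G)
include h
theorem gl {a b : ℕ} (ha : In G a) (hb : In G b) (hc : In G c) : ∀ x ∈ gl a b c, In G x := igl h.syl.1 h.d ha hb hc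
theorem nb (k : In G c) : bad c = false := nbad h.syl k
theorem dN : ∃ g ∈ G ⊓ nz (TZ F5), DZ g 3 4 (.refl _) := let ⟨g, a, b⟩ := h.d; ⟨g, ⟨a, b.nz⟩, b⟩
theorem ck (hg : g ∈ G) (r : Rp g c) {x : ℕ} (k : ck c x = true) : Ok G g ∧ (g ∈ nz (TZ F5) ∨ nZ ∈ G ∨ nN ∈ G ∨ nH ∈ G) := by
  have i := h.gl ⟨g, hg, r⟩ ione ione
  rw [H2.G.ck] at k
  cases e : Nat.beq (Nat.mod x 2) 0
  swap
  · rw [e, cond_true, h.nb ((iev i _ _).pwb _ _)] at k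
    exact absurd k (by simp)
  rw [e, cond_false] at k
  obtain ⟨a, b, d, w, k⟩ : ∃ a b d w, alw c a b d w = true := ⟨_, _, _, _, k⟩
  simp only [alw, okw, dgc, Bool.and_eq_true, Bool.or_eq_true, Nat.beq_eq, List.any_eq_true] at k
  obtain ⟨⟨⟨k1, k2⟩, k3⟩, k, -, l, -, e⟩ := k
  have q : ∀ {a n y}, Rp y n → (a = 0 ∨ ev (H2.G.gl c cI cI) 16 a = n) → a = 0 ∨ y ∈ G := fun r k =>
    k.imp_right fun k => (k ▸ iev i _ _).mem r
  replace k1 := q rZ k1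
  replace k2 := q rN k2
  replace k3 := q rH k3
  have o : ∀ G', G ⊓ nz (TZ F5) ≤ G' → (a = 0 ∨ nZ ∈ G' ∧ nZ ∈ G) → (b = 0 ∨ nN ∈ G' ∧ nN ∈ G) → (d = 0 ∨ nH ∈ G' ∧ nH ∈ G) →
      g ∈ G' := fun G' h0 h1 h2 h3 => by
    have q : ∀ {a n y}, Rp y n → (a = 0 ∨ y ∈ G' ∧ y ∈ G) → In (G' ⊓ G) (opt a n) := fun {a n y} r k => by
      rw [opt]
      cases e : Nat.beq a 0
      exacts [⟨y, k.resolve_left (Nat.ne_of_beq_eq_false e), r⟩, ione]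
    have l0 : G ⊓ nz (TZ F5) ≤ G' ⊓ G := le_inf h0 inf_le_left
    obtain ⟨y, hy, r'⟩ := iev (igl ((le_inf h.syl.1 T_le).trans l0) (let ⟨g, a, b⟩ := h.dN; ⟨g, l0 a, b⟩)
      (q rZ h1) (q rN h2) (q rH h3)) 16 (w + 1)
    exact (G'.mul_mem_cancel_left hy.1).1 (h0 ⟨mul_mem hy.2 hg, (rd.1 (e ▸ r'.mul r)).nz⟩)
  refine ⟨fun G' h0 h1 h2 h3 => o G' h0 (k1.imp_right fun c => ⟨h1 c, c⟩) (k2.imp_right fun c => ⟨h2 c, c⟩)
    (k3.imp_right fun c => ⟨h3 c, c⟩), ?_⟩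
  by_contra! z
  exact z.1 (o _ inf_le_right (.inl (k1.resolve_right z.2.1)) (.inl (k2.resolve_right z.2.2.1)) (.inl (k3.resolve_right z.2.2.2)))
theorem c9 (hg : g ∈ G) (k : g⁻¹ * iZ * g ∈ nz (TZ F5)) : Ok G g ∧ (g ∈ nz (TZ F5) ∨ nZ ∈ G ∨ nN ∈ G ∨ nH ∈ G) := by
  have i : iZ ∈ G := let ⟨_, a, b⟩ := h.d; d_sq b ▸ pow_mem a 2
  obtain ⟨τ, k, l, e⟩ := h.bor _ (mul_mem (mul_mem (inv_mem hg) i) hg) k
  have t : tZ (3 * τ) ∈ G ⊓ nz (TZ F5) := ⟨h.syl.1 ⟨_, rfl⟩, T_le ⟨_, rfl⟩⟩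
  have m := mul_mem hg t.1
  suffices Ok G (g * tZ (3 * τ)) ∧ (g * tZ (3 * τ) ∈ nz (TZ F5) ∨ nZ ∈ G ∨ nN ∈ G ∨ nH ∈ G) from
    ⟨fun G' h0 h1 h2 h3 => (mul_mem_cancel_right (h0 t)).1 (this.1 G' h0 h1 h2 h3), this.2.imp_left ((nz _).mul_mem_cancel_right t.2).1⟩
  have := ic e
  generalize g * tZ (3 * τ) = y at *
  obtain ⟨μ, f⟩ := h.fm y m
  rcases this with e | e
  · obtain ⟨a, ha, b, hb, c, hc, d, hd, n, hn, q, r⟩ := par μ f e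
    exact let ⟨_, k⟩ := ck_ex zero_lt_two ha hb hc hd hn q; h.ck m r k
  · obtain ⟨a, ha, b, hb, c, hc, d, hd, n, hn, q, r⟩ := par (g := y * nZ⁻¹) μ (fun x z => by
      rw [mul_ap, mul_ap, f]; simp only [nZ_inv_ap, oZ]; ring) fun x => by
        rw [mul_ap, mul_ap, e, ← map_neg]; congr 1; simp [nZ_inv_ap, iZ_ap]
    exact let ⟨_, k⟩ := ck_ex one_lt_two ha hb hc hd hn q; h.ck m (c := mul _ cZ) (by simpa using r.mul rZ) k
theorem ex (ne : ¬ G ≤ nz (TZ F5)) : nZ ∈ G ∨ nN ∈ G ∨ nH ∈ G :=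
  let ⟨_, a, b⟩ := h.d
  let ⟨_, hg, n, k⟩ := exi h.syl a b ne
  (h.c9 hg k).2.resolve_left n
end LA

/-- the stabilizer of the point fixed by `T` -/
def St : Subgroup (AZ F5) where
  carrier := {g | ∃ s : ℕ, g (0, 0, 0, 1) = s • (0, 0, 0, 1)}
  one_mem' := ⟨1, rfl⟩
  mul_mem' := fun ⟨s, a⟩ ⟨t, b⟩ => ⟨t * s, by rw [mul_ap, b, map_nsmul, a, mul_smul]⟩
  inv_mem' := sgp_inv (P := fun g : AZ F5 => ∃ s : ℕ, g (0, 0, 0, 1) = s • (0, 0, 0, 1)) ⟨1, rfl⟩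
    fun _ _ ⟨s, a⟩ ⟨t, b⟩ => ⟨t * s, by rw [mul_ap, b, map_nsmul, a, mul_smul]⟩
theorem dz_rp {k l : F5} (h : DZ g k l (.refl _)) : ∃ k ∈ R4, ∃ l ∈ R4, Rp g (dc k l) :=
  have q : ∀ k : F5, k ≠ 0 → k.val ∈ R4 := by decide
  ⟨_, q k h.ne.1, _, q l h.ne.2, rd.2 (by simpa using h)⟩
namespace LA
variable (h : LA G)
include h
theorem fr (hg : g ∈ G) (k : g ∈ St) : g ∈ nz (TZ F5) := by
  have l : TZ F5 ≤ G ⊓ St := le_inf h.syl.1 (by rintro _ ⟨τ, rfl⟩; exact ⟨1, by simp [tZ_ap]⟩)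
  have h' : LA (G ⊓ St) := ⟨h.syl.mono_right l inf_le_left, fun g hg => h.fm g hg.1, fun g hg => h.bor g hg.1,
    let ⟨g, a, b⟩ := h.d; ⟨g, ⟨a, 3, by rw [b]; decide⟩, b⟩⟩
  refine by_contra fun n => ?_
  rcases h'.ex fun c => n (c ⟨hg, k⟩) with ⟨-, s, e⟩ | ⟨-, s, e⟩ | ⟨-, s, e⟩ <;> simp [nZ_ap, nN_ap, nH_ap] at e
  exact absurd e.1 (by decide)
theorem e20 (hg : g ∈ G) (k : g ∈ nz (TZ F5)) : g ^ 20 = 1 := by
  obtain ⟨τ, k, l, e⟩ := h.bor g hg k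
  obtain ⟨k, hk, l, hl, r⟩ := dz_rp e
  have := ((rt τ.val).mul r).p20
  rw [ZMod.natCast_val, ZMod.cast_id', id, mul_inv_cancel_left,
    (by decide +kernel : ∀ a < 5, ∀ k ∈ R4, ∀ l ∈ R4, p20 (mul (tc a) (dc k l)) = cI) _ τ.val_lt k hk l hl] at this
  exact this.ext rone
theorem pts {y : AZ F5} (hy : y ∈ G) (r : Rp y n) (ce : al (pt n) 0 L = true ∧ L.length = 625) (hg : g ∈ G)
    (h0 : G ⊓ nz (TZ F5) ≤ G') (h1 : y ∈ G') (h2 : ∀ g, Ok G g → g ∈ G') : g ∈ G' := by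
  obtain ⟨a, ha, b, hb, c, hc, d, hd, e⟩ := sur (g (0, 0, 0, 1))
  obtain ⟨w, k⟩ := al_ex (j := a + 5 * b + 25 * c + 125 * d) ce.1 (by omega) (by omega)
  have l0 : G ⊓ nz (TZ F5) ≤ G' ⊓ G := le_inf h0 inf_le_left
  obtain ⟨z, hz, r'⟩ := iev (igl ((le_inf h.syl.1 T_le).trans l0) (let ⟨g, a, b⟩ := h.dN; ⟨g, l0 a, b⟩)
    ⟨y, ⟨h1, hy⟩, r⟩ ione ione) 16 w
  rw [pt, show pk _ _ _ _ = pk a b c d by simp only [pk, na, nm, nd, no]; omega] at k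
  rw [← vpk] at e
  generalize pk a b c d = v at *
  have e' : (z * g) (0, 0, 0, 1) = vec (ap (ev (H2.G.gl n cI cI) 16 w) v) := by rw [mul_ap, e, rap r']
  have m := mul_mem hz.2 hg
  have i : iZ ∈ G := let ⟨_, a, b⟩ := h.d; d_sq b ▸ pow_mem a 2
  have q : ∀ s : ℕ, iZ ((z * g) (0, 0, 0, 1)) = s • (z * g) (0, 0, 0, 1) → g ∈ G' := fun s q =>
    (G'.mul_mem_cancel_left hz.1).1 (h2 _ (h.c9 m (h.fr (mul_mem (mul_mem (inv_mem m) i) m) ⟨s, by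
      rw [mul_ap, mul_ap, q, map_nsmul, inv_ap]⟩)).1)
  simp only [pt1, pt2, Bool.and_eq_true, Bool.or_eq_true, Nat.beq_eq, List.any_eq_true, Bool.not_eq_true', ← Bool.not_eq_true] at k
  rcases k with rfl | (k | k) | ⟨⟨s, -, k⟩, k'⟩
  · exact absurd (g.map_eq_zero_iff.1 e) (by decide)
  · exact q 1 (by rw [e', rap ri, k, one_smul])
  · exact q 4 (by rw [e', rap ri, k, vlc, zero_smul, add_zero])
  have := h.e20 (mul_mem (inv_mem hg) m) (h.fr (mul_mem (inv_mem hg) m) ⟨s, by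
    rw [mul_ap, e', k, vlc, zero_smul, add_zero, ← e, map_nsmul, inv_ap]⟩)
  rw [← mul_assoc, ← inv_inv g, inv_inv g⁻¹, conj_pow, conj_eq_one_iff] at this
  exact (k' ((r'.p20.uq (this ▸ rone) cI).trans (by decide +kernel))).elim
end LA
/-- the scalar `2` -/
def sZ : AZ F5 where
  toFun x := 2 • x
  invFun x := 3 • x
  map_add' x y := smul_add _ _ _
  map_smul' c x := smul_comm _ _ _
  left_inv x := by revert x; decide +kernel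
  right_inv x := by revert x; decide +kernel
theorem sZ_cm (g : AZ F5) : Commute sZ g := LinearEquiv.ext fun x => (map_nsmul g 2 x).symm
theorem rs : Rp sZ (dc 1 2) := ⟨by decide +kernel, by decide +kernel, by decide +kernel, by decide +kernel⟩
def MH (g : AZ F5) : Prop := ∃ z ∈ zpowers sZ, ∃ c ∈ LH, Rp (z * g) c
theorem lh : cI ∈ LH ∧ ∀ c ∈ LH, ((nrm (mul (tc 1) c) ∈ LH ∧ nrm (mul (dc 3 4) c) ∈ LH) ∧ nrm (mul cH c) ∈ LH) ∧
    ∃ m ∈ R4, sq (p20 c) = dc 1 m := by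
  simpa only [clo, Bool.and_eq_true, List.all_eq_true, List.any_eq_true, mem_iff, Nat.beq_eq] using cLH
theorem zcm {z : AZ F5} (h : z ∈ zpowers sZ) (g : AZ F5) : Commute z g := by
  obtain ⟨n, rfl⟩ := h; exact (sZ_cm g).zpow_left n
/-- the elements preserving `MH` -/
def GH : Subgroup (AZ F5) where
  carrier := {g | ∀ y, MH y → MH (g * y)}
  one_mem' := fun y h => by rwa [one_mul]
  mul_mem' := fun a b y h => mul_assoc _ _ y ▸ a _ (b y h)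
  inv_mem' := sgp_inv (P := fun g : AZ F5 => ∀ y, MH y → MH (g * y)) (fun y h => by rwa [one_mul])
    fun _ _ a b y h => mul_assoc _ _ y ▸ a _ (b y h)
theorem mGH (r : Rp x n) (k : ∀ c ∈ LH, nrm (mul n c) ∈ LH) : x ∈ GH := fun y ⟨z, hz, c, hc, r'⟩ => by
  obtain ⟨z', hz', r2⟩ := In.pwb ⟨sZ, mem_zpowers sZ, rs⟩ 3 ([4, 3, 1, 2].getD (lg (mul n c) - 1) 4)
  refine ⟨_, mul_mem hz' hz, _, k c hc, ?_⟩
  rw [mul_assoc, ← mul_assoc z, (zcm hz x).eq, mul_assoc x]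
  exact r2.mul (r.mul r')
theorem o40 (h : g ∈ GH) : ∃ μ : F5, DZ (g ^ 40) 1 μ (.refl _) := by
  obtain ⟨z, hz, c, hc, r⟩ := h 1 ⟨1, one_mem _, cI, lh.1, by simpa using rone⟩
  obtain ⟨m, -, e⟩ := (lh.2 c hc).2
  have := r.p20.mul r.p20
  have z4 : z ^ 40 = 1 := by
    obtain ⟨n, rfl⟩ := hz
    have := rs.p20.ext (g' := 1) (by rw [show p20 (dc 1 2) = cI by decide +kernel]; exact rone)
    show (sZ ^ n) ^ 40 = 1
    rw [← zpow_natCast, ← zpow_mul, mul_comm, zpow_mul, zpow_natCast, show 40 = 20 * 2 by rfl, pow_mul, this]; simp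
  rw [← pow_add, mul_one, (zcm hz g).mul_pow, z4, one_mul, ← sq.eq_def, e] at this
  exact ⟨m, by simpa using rd.1 this⟩

theorem l5 : L5 := fun G h0 => by
  have h : LA G := ⟨h0.syl, h0.fm, h0.bor, h0.d⟩
  have ex := h.ex h0.ne
  have w : ∀ {y n} w {k l : ℕ}, y ∈ G → Rp y n → ev (gl n cI cI) 16 w = dc k l → ∃ g ∈ G, DZ g k l (.refl _) :=
    fun w _ _ hy r e => let ⟨g, a, b⟩ := iev (h.gl ⟨_, hy, r⟩ ione ione) 16 w; ⟨g, a, rd.1 (e ▸ b)⟩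
  have gen : ∀ G' : Subgroup (AZ F5), G ⊓ nz (TZ F5) ≤ G' → (nZ ∈ G → nZ ∈ G') → (nN ∈ G → nN ∈ G') → (nH ∈ G → nH ∈ G') →
      G ≤ G' := fun G' k0 k1 k2 k3 g hg => by
    have o : ∀ g, Ok G g → g ∈ G' := fun g o => o G' k0 k1 k2 k3
    rcases ex with c | c | c
    exacts [h.pts c rZ cPZ hg k0 (k1 c) o, h.pts c rN cPN hg k0 (k2 c) o, h.pts c rH cPH hg k0 (k3 c) o]
  refine ⟨?_, ex, fun ⟨a, b⟩ => ?_, fun c => ?_, gen, fun a b g hg => o40 (gen GH (fun g hg => ?_) (absurd · a) (absurd · b)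
    (fun _ => mGH rH fun c hc => (lh.2 c hc).1.2) hg)⟩
  · rcases ex with c | c | c
    exacts [w 17 (k := 1) (l := 4) c rZ (by decide +kernel), w 17 (k := 1) (l := 4) c rN (by decide +kernel),
      w 33121 (k := 1) (l := 4) c rH (by decide +kernel)]
  · exact absurd (h.nb ((iev (h.gl ⟨_, a, rZ⟩ ⟨_, b, rH⟩ ione) 16 2353).pwb 10 4)) (by decide +kernel)
  · rcases c with c | c
    exacts [w 33153 (k := 1) (l := 2) c rZ (by decide +kernel), w 24929 (k := 1) (l := 2) c rN (by decide +kernel)]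
  obtain ⟨τ, k, l, e⟩ := h.bor g hg.1 hg.2
  obtain ⟨k, hk, l, hl, r⟩ := dz_rp e
  obtain ⟨y, -, hy⟩ := h.d
  have t : In GH (tc 1) := ⟨_, mGH (rt 1) fun c hc => (lh.2 c hc).1.1.1, rt 1⟩
  have d : In GH (dc 3 4) := ⟨y, mGH (rd.2 hy) fun c hc => (lh.2 c hc).1.1.2, rd.2 hy⟩
  have s : In GH (dc 1 2) := ⟨sZ, fun y ⟨z, hz, c, hc, r⟩ => ⟨_, mul_mem hz (inv_mem (mem_zpowers _)), c, hc, by
    simpa [mul_assoc] using r⟩, rs⟩
  obtain ⟨a, -, b, -, e1⟩ := (by decide +kernel : ∀ k ∈ R4, ∀ l ∈ R4, ∃ a ∈ R4, ∃ b ∈ R4,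
    mul (pwb 3 (dc 3 4) a) (pwb 3 (dc 1 2) b) = dc k l) k hk l hl
  obtain ⟨a', -, e2⟩ := (by decide +kernel : ∀ a < 5, ∃ b ∈ [1, 2, 3, 4, 5], pwb 3 (tc 1) b = tc a) _ τ.val_lt
  have h1 := (e2 ▸ t.pwb 3 a').mem (rt τ.val)
  rw [ZMod.natCast_val, ZMod.cast_id', id] at h1
  exact (mul_mem_cancel_left (inv_mem h1)).1 ((e1 ▸ (d.pwb 3 a).mul (s.pwb 3 b)).mem r)

end H2.G
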