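/-
Fusion systems on a Sylow `5`-subgroup of `G₂(5)`: standard form and comparison.
-/
import Cfsg.Agent.H2.G54
import Cfsg.Agent.H25.GC3
import Cfsg.Agent.H24.GT1

set_option autoImplicit false
set_option linter.unusedSectionVars false
set_option linter.unusedSimpArgs false

namespace H2.G
open Cfsg Subgroup H25 H25.FS H25.GC H25.GC.Gc
open H8.PU hiding Co Wt Wy Md Ck G2 S2 N2 E2 TR MD
universe u
variable {Γ : Type u} [Group Γ] [Finite Γ] {S A L C0 H : Subgroup Γ} {ev : Gc F5 →* Γ} {a g g' τ w M1 M2 : Γ} {F F' : FS Γ}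
  {f f' : AZ F5} {k l : F5}

theorem n3 : (3 : F5) ≠ 0 := by decide
theorem n2 : (2 : F5) ≠ 0 := by decide
theorem rf5 (φ : F5 ≃+* F5) : φ = .refl _ := RingEquiv.ext fun x => by
  obtain ⟨n, rfl⟩ := ZMod.natCast_zmod_surjective x; simp
theorem li5 (f : AZ F5) : H24.GT.Li f := ZMod.map_smul f
/-- `S` is generated by `x_a(1)` and `x_b(1)` -/
theorem gen2 {X : Subgroup (Gc F5)} (ha : xa 1 ∈ X) (hu : xu 1 ∈ X) (c : Gc F5) : c ∈ X := by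
  have cm : ∀ {c d}, c ∈ X → d ∈ X → c * d * c⁻¹ * d⁻¹ ∈ X := fun a b => mul_mem (mul_mem (mul_mem a b) (inv_mem a)) (inv_mem b)
  have c1 : (⟨0, 0, 1, 4, 1, 2⟩ : Gc F5) ∈ X := by convert cm hu ha using 1; decide
  have c2 : (⟨0, 0, 0, 2, 4, 2⟩ : Gc F5) ∈ X := by convert cm c1 ha using 1; decide
  have c3 : xv 1 ∈ X := by convert cm c2 ha using 1; decide
  have c4 : xz 1 ∈ X := by convert cm hu c3 using 1; decide
  exact ind (X := ⊤) (P := (· ∈ X)) (fun _ _ _ _ => mul_mem) (one_mem _) (.inr ⟨trivial, ha⟩) (.inr ⟨trivial, hu⟩)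
    ⟨trivial, by convert mul_mem (mul_mem c1 (pow_mem c2 3)) (pow_mem c3 2) using 1; decide +kernel⟩
    ⟨trivial, by convert mul_mem (mul_mem (pow_mem c2 3) (pow_mem c3 3)) (pow_mem c4 4) using 1; decide +kernel⟩
    ⟨trivial, c3⟩ ⟨trivial, c4⟩
/-- rigidity in coordinates -/
def Cq (y y' : Gc F5) : Prop := y.a = 1 ∧ y.u = 0 ∧ y'.a = 0 ∧ y'.u = 1 ∧
  ∃ w, y * y * y = w * sc 3 4 (.refl _) y * w⁻¹ ∧ y'⁻¹ = w * sc 3 4 (.refl _) y' * w⁻¹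
theorem sc_mul (k l : F5) (c d : Gc F5) : sc k l (.refl _) (c * d) = sc k l (.refl _) c * sc k l (.refl _) d := by
  ext <;> simp <;> ring
theorem sc_inv (k l : F5) (c : Gc F5) : sc k l (.refl _) c⁻¹ = (sc k l (.refl _) c)⁻¹ := by ext <;> simp <;> ring
theorem rg0 {y y' : Gc F5} (h : Cq y y') : ∃ w, y = w * xa 1 * w⁻¹ ∧ y' = w * xu 1 * w⁻¹ := by
  have cj : ∀ t {y y'}, Cq y y' → Cq (t * y * t⁻¹) (t * y' * t⁻¹) := fun t y y' ⟨a, b, c, d, w, e, e'⟩ =>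
    ⟨by simp [a], by simp [b], by simp [c], by simp [d], t * w * (sc 3 4 (.refl _) t)⁻¹, by
      rw [sc_mul, sc_mul, sc_inv, show t * y * t⁻¹ * (t * y * t⁻¹) * (t * y * t⁻¹) = t * (y * y * y) * t⁻¹ by group, e]; group, by
      rw [sc_mul, sc_mul, sc_inv, show (t * y' * t⁻¹)⁻¹ = t * y'⁻¹ * t⁻¹ by group, e']; group⟩
  have st : ∀ (P : Gc F5 → Gc F5 → Prop), (∀ y y', Cq y y' → P y y' → ∃ w, y = w * xa 1 * w⁻¹ ∧ y' = w * xu 1 * w⁻¹) →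
      ∀ y y', Cq y y' → ∀ t, P (t * y * t⁻¹) (t * y' * t⁻¹) → ∃ w, y = w * xa 1 * w⁻¹ ∧ y' = w * xu 1 * w⁻¹ :=
    fun P k y y' h t q => let ⟨w, e, e'⟩ := k _ _ (cj t h) q
      ⟨t⁻¹ * w, by rw [mul_inv_rev, inv_inv, mul_assoc t⁻¹, mul_assoc t⁻¹, ← mul_assoc (w * _), ← e]; group,
        by rw [mul_inv_rev, inv_inv, mul_assoc t⁻¹, mul_assoc t⁻¹, ← mul_assoc (w * _), ← e']; group⟩
  refine st (fun y _ => y.s = 0) (fun y y' h h1 => st (fun y y' => y.s = 0 ∧ y'.s = 0) (fun y y' h h1 =>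
    st (fun y y' => y.s = 0 ∧ y'.s = 0 ∧ y.r = 0) (fun y y' h h1 => st (fun y y' => y.s = 0 ∧ y'.s = 0 ∧ y.r = 0 ∧ y.v = 0)
      (fun y y' h h1 => st (fun y y' => y.s = 0 ∧ y'.s = 0 ∧ y.r = 0 ∧ y.v = 0 ∧ y'.z = 0) (fun y y' h h1 => ⟨1, ?_⟩)
        y y' h (xv y'.z) ?_) y y' h (xr (3 * y.v)) ?_) y y' h (xs (2 * y.r)) ?_) y y' h (xa y'.s) ?_) y y' h (xu (-y.s)) ?_
  · obtain ⟨a, b, c, d, w, e, e'⟩ := h
    obtain ⟨h1, h2, h3, h4, h6⟩ := h1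
    simp only [Gc.ext_iff, mul_a, mul_u, mul_s, mul_r, mul_v, mul_z, inv_a, inv_u, inv_s, inv_r, inv_v, inv_z, sc_a, sc_u, sc_s,
      sc_r, sc_v, sc_z, RingEquiv.refl_apply, a, b, c, d, h1, h2, h3, h4, h6] at e e'
    have w1 : w.u = 0 := by linear_combination -2 * e.2.2.1 - w.u * h5
    have w2 : w.a = 0 := by linear_combination -e'.2.2.1 + w.a * h5
    simp [w1, w2] at e e'
    simp [Gc.ext_iff, a, b, c, d, h1, h2, h3, h4, h6]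
    grind
  all_goals obtain ⟨a, b, c, d, -⟩ := h; simp [*]; try grind
theorem agS (h : Co S ev) (ha : g * ev (xa 1) * g⁻¹ = g' * ev (xa 1) * g'⁻¹) (hu : g * ev (xu 1) * g⁻¹ = g' * ev (xu 1) * g'⁻¹) :
    Agree S g g' := fun y hy => by
  obtain ⟨c, -, rfl⟩ := h.ex hy
  exact gen2 (X := ((MulAut.conj g).toMonoidHom.comp ev).eqLocus ((MulAut.conj g').toMonoidHom.comp ev)) ha hu c
/-- automorphisms trivial on `Q₁ / Z₁` are inner -/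
theorem inn5 (h : Co S ev) (k : AcZ ev g 1) : g ∈ ai ((Q1 F5).map ev) ((Q1 F5).map ev) := by
  have q : ∀ c : Gc F5, c.a = 0 → ∃ z, g * ev c * g⁻¹ = ev (c * xz z) := fun c hc => by
    obtain ⟨c', h1, e, e2⟩ := k c hc
    simp only [H24.SP.one_ap, pv, Prod.mk.injEq] at e2
    exact ⟨c'.z - c.z, by rw [e]; gs h [h1, hc, e2]; ring⟩
  obtain ⟨z1, e1⟩ := q (xu 1) rfl
  obtain ⟨z2, e2⟩ := q (xs 1) rfl
  obtain ⟨z3, e3⟩ := q (xr 1) rfl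
  obtain ⟨z4, e4⟩ := q (xv 1) rfl
  refine ⟨AcZ.nz k, ev ⟨0, z4, 3 * z3, 2 * z2, -z1, 0⟩, h.mm.2 rfl, ?_⟩
  rintro _ ⟨c, hc, rfl⟩
  refine ind (X := ⊤) (P := fun c => g * ev c * g⁻¹ = _ * ev c * _⁻¹) (fun _ _ _ _ e e' => by rw [map_mul, cj_mul, cj_mul, e, e'])
    (by simp) (.inl hc) (.inr ⟨trivial, by rw [e1]; gs h []; grind⟩) ⟨trivial, by rw [e2]; gs h []; grind⟩
    ⟨trivial, by rw [e3]; gs h []; grind⟩ ⟨trivial, by rw [e4]; gs h []; grind⟩ ⟨trivial, ?_⟩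
  rw [show xz (1 : F5) = xu 1 * xv 1 * (xu 1)⁻¹ * (xv 1)⁻¹ by decide]
  simp only [map_mul, map_inv, cj_cm, e1, e4]
  gs h []; grind
theorem sm5 (h : Co S ev) (k : AcZ ev g f) : g ∈ H24.GT.sm ev := by
  obtain ⟨c, hc, e⟩ := conj_mem_of_mem_nz (h.nzZ1 k) (h.mm.2 (show xz 1 ∈ Z1 F5 from ⟨rfl, rfl, rfl, rfl, rfl⟩))
  refine ⟨c.z, fun z => ?_⟩
  obtain ⟨n, rfl⟩ := ZMod.natCast_zmod_surjective z
  induction n with
  | zero => simp [show xz (0 : F5) = 1 from rfl]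
  | succ n ih =>
    rw [show xz ((n + 1 : ℕ) : F5) = xz (n : F5) * xz 1 by ext <;> simp, map_mul, cj_mul, ih, ← e]
    gs h [] at hc; gs h [hc]; push_cast; ring
theorem bo5 (hf : f ∈ nz (TZ F5)) : Bo f := by
  obtain ⟨τ, e⟩ := conj_mem_of_mem_nz' hf (show tZ 1 ∈ TZ F5 from ⟨1, rfl⟩)
  have : tZ 1 (f (0, 0, 0, 1)) = f (0, 0, 0, 1) := by
    have := congrArg f (LinearEquiv.congr_fun e (0, 0, 0, 1))
    simpa [H24.SP.mul_ap, tZ_ap τ] using this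
  refine ⟨(f (0, 0, 0, 1)).2.2.2, ?_⟩
  generalize f (0, 0, 0, 1) = v at *
  rw [tZ_ap] at this
  revert v; decide +kernel
/-- the torus of `F` -/
def Wk (S : Subgroup Γ) (ev : Gc F5 →* Γ) (F : FS Γ) (k l : F5) : Prop := ∃ τ ∈ F.A S, Wt ev τ k l (.refl _)
theorem Wk.mul {k' l' k'' l'' : F5} (h : Wk S ev F k l) (h' : Wk S ev F k' l') (e : k * k' = k'' ∧ l * l' = l'' := by decide) :
    Wk S ev F k'' l'' := let ⟨_, a, b⟩ := h; let ⟨_, c, d⟩ := h'; ⟨_, mul_mem a c, (b.mul1 d).cast e.1 e.2⟩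
/-- the image of the automizer of `Q₁` -/
abbrev Gq (ev : Gc F5 →* Γ) (F : FS Γ) : Subgroup (AZ F5) := imZ ev (F.A ((Q1 F5).map ev))
/-- standard form -/
structure St5 (S : Subgroup Γ) (ev : Gc F5 →* Γ) (C0 : Subgroup Γ) (F : FS Γ) : Prop extends Nf 5 S C0 F where
  q1 : F.Ess ((Q1 F5).map ev)
  q2 : F.Ess ((Q2 F5).map ev)

section
variable (m : Md 5 S ev L C0 M1 M2) (x : Ck F5 Γ 5)
include m x
/-- rigidity -/
theorem nf5 (n : Sa 5 S F) (hd : Wk S ev F 3 4) : Nf 5 S C0 F := ⟨n, fun a ha => by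
  have h1 := F.A_le_nz S ha
  obtain ⟨d, hd, wd⟩ := hd
  obtain ⟨k, l, φ, k0, l0, e⟩ := x.au S ev m.toCo a h1 (m.gQ1 n3 h1) (m.gQ2 n3 h1) (m.gZ3 n3 n2 h1)
  obtain rfl := rf5 φ
  obtain ⟨τ, hτ, w⟩ := m.ex' k l (.refl _) k0 l0
  have y1 : a * τ⁻¹ ∈ nz S := mul_mem h1 (inv_mem (m.CS hτ))
  have q : ∀ c, ∃ c', a * τ⁻¹ * ev c * (a * τ⁻¹)⁻¹ = ev c' ∧ c'.a = c.a ∧ c'.u = c.u := fun c => by
    obtain ⟨c0, -, e1⟩ := m.ex (conj_mem_of_mem_nz' (m.CS hτ) (m.mS c))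
    obtain ⟨c', -, e2⟩ := m.ex (conj_mem_of_mem_nz h1 (m.mS c0))
    have e3 : c = sc k l (.refl _) c0 := m.inj (by rw [← w.cj, e1]; group)
    exact ⟨c', by rw [cj_mul2, inv_inv, ← e1, e2], by simpa [e3] using e c0 c' e2.symm⟩
  have cm : ∀ c, τ⁻¹ * (d * ev c * d⁻¹) * τ = d * (τ⁻¹ * ev c * τ) * d⁻¹ := fun c => by
    obtain ⟨c0, -, e1⟩ := m.ex (conj_mem_of_mem_nz' (m.CS hτ) (m.mS c))
    have e3 : c = sc k l (.refl _) c0 := m.inj (by rw [← w.cj, e1]; group)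
    rw [← e1, wd.cj, wd.cj, e3, show sc 3 4 (.refl _) (sc k l (.refl _) c0) = sc k l (.refl _) (sc 3 4 (.refl _) c0) by
      ext <;> simp <;> ring, ← w.cj]; group
  have b : a * d * a⁻¹ * d⁻¹ ∈ F.A S := mul_mem (mul_mem (mul_mem ha hd) (inv_mem ha)) (inv_mem hd)
  have r : ∀ c, a * d * a⁻¹ * d⁻¹ * (d * (a * τ⁻¹ * ev c * (a * τ⁻¹)⁻¹) * d⁻¹) * (a * d * a⁻¹ * d⁻¹)⁻¹ =
      a * τ⁻¹ * (d * ev c * d⁻¹) * (a * τ⁻¹)⁻¹ := fun c => by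
    rw [cj_mul2 a τ⁻¹ (d * _ * _), inv_inv, cm]; group
  obtain ⟨-, u, hu, e4⟩ := mem_ai.1 (n.auS.syl.mem_of_pel n.auS.An' b ((kk_pel (l := []) m.pg (by simp)
    (stab_mono (m.fr4 n3 (by simp) m.pg) (mem_stab'.2 ⟨F.A_le_nz S b, fun y hy => by
      obtain ⟨c1, -, e1⟩ := m.ex (conj_mem_of_mem_nz' y1 (conj_mem_of_mem_nz' (m.wS wd) hy))
      obtain ⟨c2, e2, e3, e4⟩ := q c1
      obtain ⟨c3, e5, e6, e7⟩ := q (sc 3 4 (.refl _) c1)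
      obtain rfl : y = d * (a * τ⁻¹ * ev c1 * (a * τ⁻¹)⁻¹) * d⁻¹ := by rw [e1]; group
      rw [r, wd.cj, e5, e2, wd.cj]
      gs m.toCo [e3, e4, e6, e7]⟩))).mono (cz_le_ai _ _)))
  obtain ⟨u, -, rfl⟩ := m.ex hu
  obtain ⟨y, ey, a1, a2⟩ := q (xa 1)
  obtain ⟨y', ey', a3, a4⟩ := q (xu 1)
  obtain ⟨w0, e5, e6⟩ := rg0 (y := y) (y' := y') ⟨a1, a2, a3, a4, u, m.inj (by
    have := r (xa 1)
    rw [ey, wd.cj, e4 _ (m.mS _), wd.cj, show sc 3 4 (.refl _) (xa (1 : F5)) = xa 1 * xa 1 * xa 1 by decide, map_mul, map_mul,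
      cj_mul, cj_mul, ey] at this
    simpa using this.symm), m.inj (by
    have := r (xu 1)
    rw [ey', wd.cj, e4 _ (m.mS _), wd.cj, show sc 3 4 (.refl _) (xu (1 : F5)) = (xu 1)⁻¹ by decide, map_inv, ← conj_inv, ey'] at this
    simpa using this.symm)⟩
  have : a * τ⁻¹ ∈ ai S S := ⟨y1, ev w0, m.mS _, agS m.toCo (by rw [ey, e5]; simp) (by rw [ey', e6]; simp)⟩
  simpa using mul_mem (mem_sup_right this : _ ∈ C0 ⊔ _) (mem_sup_left hτ)⟩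
omit m in
theorem es1 (h : Co S ev) (n : Sa 5 S F) (hg : g ∈ F.A ((Q1 F5).map ev)) (k : g ∉ nz ((Z2 F5).map ev)) : F.Ess ((Q1 F5).map ev) := by
  by_contra c
  obtain ⟨y, hy, -, e⟩ := (n.sat.nm_iff_ess.2 (fun X hX => hX.elim
    (fun c => by rw [c, n.eS]; exact ⟨h.le _, fun g hg => h.gZ2 n3 (F.A_le_nz _ hg)⟩) fun q => by
      obtain rfl := (h.ess x n q).resolve_left fun e => c (e ▸ q)
      exact ⟨h.l24.trans h.l42, fun g hg => h.q2Z2 n3 (F.A_le_nz _ hg)⟩ :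
    ∀ X, X = F.S ∨ F.Ess X → (Z2 F5).map ev ≤ X ∧ F.A X ≤ nz ((Z2 F5).map ev))).2 _ g (T_of_mem_A ((h.le _).trans n.eS.ge) hg)
  exact k ((e.mono (h.l24.trans h.l41)).mem_nz hy)
omit m in
theorem es2 (h : Co S ev) (n : Sa 5 S F) (hg : g ∈ F.A ((Q2 F5).map ev)) (k : g ∉ nz ((Z1 F5).map ev)) : F.Ess ((Q2 F5).map ev) := by
  by_contra c
  obtain ⟨y, hy, -, e⟩ := (n.sat.nm_iff_ess.2 (fun X hX => hX.elim
    (fun c => by rw [c, n.eS]; exact ⟨h.le _, fun g hg => h.gZ1 n3 (F.A_le_nz _ hg)⟩) fun q => by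
      obtain rfl := (h.ess x n q).resolve_right fun e => c (e ▸ q)
      exact ⟨h.l12.trans (h.l24.trans h.l41), fun g hg => h.q1Z1 n3 (F.A_le_nz _ hg)⟩ :
    ∀ X, X = F.S ∨ F.Ess X → (Z1 F5).map ev ≤ X ∧ F.A X ≤ nz ((Z1 F5).map ev))).2 _ g (T_of_mem_A ((h.le _).trans n.eS.ge) hg)
  exact k ((e.mono (h.l12.trans (h.l24.trans h.l42))).mem_nz hy)
variable (n : St5 S ev C0 F)
include n
theorem z35 : F.A ((Q2 F5).map ev) ≤ nz ((Z3 F5).map ev) := fun _ hg => m.q2Z3 n3 n2 (F.A_le_nz _ hg)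
theorem wd5 : Wk S ev F 3 4 := let ⟨τ, a, b⟩ := m.h2 x n.toNf n.q2 (z35 m x n) 2 n2; ⟨τ, a, b.cast (by decide +kernel) (by decide)⟩
theorem bor5 (hf : f ∈ Gq ev F) (b : f ∈ nz (TZ F5)) : ∃ t k l, Wk S ev F k l ∧ DZ ((tZ t)⁻¹ * f) k l (.refl _) := by
  obtain ⟨g, hg, k⟩ := hf
  obtain ⟨a, ha, e1⟩ := m.ext1 x n.toSa n.q1 hg (H24.GT.bo k (li5 f) (bo5 b))
  obtain ⟨_, hu, κ, hκ, k', l, φ, w, e2⟩ := m.dec n.toNf ha
  obtain ⟨u, -, rfl⟩ := m.ex hu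
  obtain rfl := rf5 φ
  exact ⟨-u.a, k', l, ⟨κ, hκ.2, w⟩, m.dgZ w (by
    rw [tZ_inv]
    exact AcZ.ag ((acS u⁻¹).mul k) (by simpa using ((e1.symm.trans (e2.mono (m.le _))).mul_left (ev u)⁻¹).symm))⟩
theorem wt5 (hf : f ∈ Gq ev F) (d : DZ f k l (.refl _)) : Wk S ev F k l := by
  obtain ⟨t, k', l', w, d'⟩ := bor5 m x n hf d.nz
  rw [tZ_inv] at d'
  have q := d' (1, 0, 0, 0)
  have q1 := d' (0, 1, 0, 0)
  simp only [H24.SP.mul_ap, tZ_ap, d _, RingEquiv.refl_apply, mul_one, mul_zero, add_zero, zero_add, Prod.mk.injEq] at q q1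
  rwa [← (mul_left_cancel₀ d.ne.2 (by rw [q1.2.1, q.1]) : k = k'), ← q.1] at w
omit n x in
theorem dz5 (n : Sa 5 S F) (w : Wk S ev F k l) : ∃ f ∈ Gq ev F, DZ f k l (.refl _) :=
  let ⟨τ, a, w⟩ := w; let ⟨f, b, c⟩ := m.exW w; ⟨f, ⟨τ, m.r1 n a w, b⟩, c⟩
omit n x in
theorem tq5 (n : Sa 5 S F) : TZ F5 ≤ Gq ev F := by
  rintro _ ⟨t, rfl⟩; exact ⟨_, n.mA (m.mS _) (m.nQ1 (m.mS _)), H24.GT.acT t⟩
theorem su5 : Su5 (Gq ev F) := by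
  have e := n.es n.q1
  choose π0 k0 using fun g : F.A ((Q1 F5).map ev) => m.exZ' n3 (e.An g.2)
  let π : F.A ((Q1 F5).map ev) →* AZ F5 := .mk' π0 fun g g' => m.uqZ (k0 _) ((k0 g).mul (k0 g'))
  have k : ∀ g : F.A ((Q1 F5).map ev), AcZ ev g (π g) := k0
  have eq : Gq ev F = π.range := le_antisymm (fun f ⟨g, a, b⟩ => ⟨⟨g, a⟩, m.uqZ (k _) b⟩)
    (by rintro _ ⟨g, rfl⟩; exact ⟨g, g.2, k g⟩)
  refine l5 _ ⟨⟨tq5 m n.toSa, fun c => e.syl.2 (c.trans (by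
      rw [eq, π.range_eq_map, ← relIndex_comap, relIndex_top_right]
      refine index_dvd_of_le fun g hg => ?_
      obtain ⟨-, _, hu, a⟩ := mem_ai.1 (mem_subgroupOf.1 hg)
      obtain ⟨u, -, rfl⟩ := m.ex hu
      exact ⟨-u.a, m.uqZ (k g) (AcZ.ag (acS u) a)⟩))⟩, fun f ⟨g, _, b⟩ => H24.GT.fm m.toCo b (sm5 m.toCo b),
    fun f hf b => let ⟨t, k, l, _, d⟩ := bor5 m x n hf b; ⟨t, k, l, d⟩, dz5 m n.toSa (wd5 m x n), fun c => e.not_nz fun g hg => ?_⟩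
  obtain ⟨a, ha, e1⟩ := m.ext1 x n.toSa n.q1 hg (H24.GT.bo (k ⟨g, hg⟩) (li5 _) (bo5 (c ⟨g, hg, k ⟨g, hg⟩⟩)))
  exact e1.symm.mem_of_cz_le ((cz_le_ai _ _).trans (le_nz_self _)) (mem_nz_ai (F.A_le_nz _ ha) (m.gQ1 n3 (F.A_le_nz _ ha)))
theorem wk5 (hk : k ≠ 0) : Wk S ev F k 1 ∧ Wk S ev F k 4 := by
  have d := wd5 m x n
  have j : Wk S ev F 1 4 := let ⟨_, a, b⟩ := (su5 m x n).j; wt5 m x n a b
  have a3 : Wk S ev F 3 1 := d.mul j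
  have a4 : Wk S ev F 4 1 := a3.mul a3
  have a2 : Wk S ev F 2 1 := a4.mul a3
  have : Wk S ev F k 1 := by
    obtain rfl | rfl | rfl | rfl : k = 1 ∨ k = 2 ∨ k = 3 ∨ k = 4 := by revert k; decide
    exacts [a4.mul a4, a2, a3, a4]
  exact ⟨this, this.mul j ⟨mul_one k, one_mul 4⟩⟩
theorem m25 : M2 ∈ F.A ((Q2 F5).map ev) :=
  x.n2 n3 _ _ _ _ _ m.toCo m.toWy (n.es n.q2) (z35 m x n) (let ⟨τ, a, w⟩ := (wk5 m x n n3).1
    ⟨τ, m.r2 n.toSa a w, 3, w, fun f e y => by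
      have := e y
      rw [show (3 : F5) * y = 3 • y by simp, map_nsmul, nsmul_eq_mul] at this
      linear_combination this + 5 * f y * h5⟩) (x.s2 n3 _ _ _ _ _ m.toCo m.toWy (n.es n.q2) (z35 m x n)).2
theorem zs5 (h : nZ ∈ Gq ev F ∨ nN ∈ Gq ev F) : Wk S ev F 1 2 := let ⟨_, a, b⟩ := (su5 m x n).sc h; wt5 m x n a b
/-- comparison -/
theorem le5 (n' : St5 S ev C0 F') (h1 : nZ ∈ Gq ev F → nZ ∈ Gq ev F') (h2 : nN ∈ Gq ev F → nN ∈ Gq ev F')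
    (h3 : nH ∈ Gq ev F → nH ∈ Gq ev F') (h4 : Wk S ev F 1 2 → Wk S ev F' 1 2) : F ≤ F' := by
  have W : ∀ k l, Wk S ev F k l → Wk S ev F' k l := fun k l w => by
    obtain ⟨k0, l0⟩ : k ≠ 0 ∧ l ≠ 0 := let ⟨_, _, w⟩ := w; ⟨w.k0, w.l0⟩
    have a := wk5 m x n (inv_ne_zero k0)
    have b := wk5 m x n' k0
    obtain rfl | rfl | rfl | rfl : l = 1 ∨ l = 2 ∨ l = 3 ∨ l = 4 := by revert l0; generalize l = l; revert l; decide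
    exacts [b.1, b.1.mul (h4 (w.mul a.1 ⟨mul_inv_cancel₀ k0, rfl⟩)) ⟨mul_one k, rfl⟩,
      b.2.mul (h4 (w.mul a.2 ⟨mul_inv_cancel₀ k0, rfl⟩)) ⟨mul_one k, rfl⟩, b.2]
  have hS : F.A S ≤ F'.A S := fun a ha => by
    obtain ⟨u, hu, τ, hτ, k, l, φ, w, e⟩ := m.dec n.toNf ha
    obtain rfl := rf5 φ
    obtain ⟨τ', h', w'⟩ := W k l ⟨τ, hτ.2, w⟩
    exact e.mem_A (mul_mem (n'.mA hu (le_nz_self S hu)) ((m.agW w w').mem_A h'))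
  have hG : Gq ev F ≤ Gq ev F' := (su5 m x n).gen _ (fun f hf => by
    obtain ⟨t, k, l, w, d⟩ := bor5 m x n hf.1 hf.2
    obtain ⟨f', a, d'⟩ := dz5 m n'.toSa (W k l w)
    exact ((Gq ev F').mul_mem_cancel_left (inv_mem (tq5 m n'.toSa ⟨t, rfl⟩))).1 (d.uq d' ▸ a)) h1 h2 h3
  refine m.le2 x n.toSa m.toWy n'.toSa hS (m25 m x n) (m25 m x n') fun _ g hg => ?_
  obtain ⟨f, k⟩ := m.exZ' n3 (F.A_le_nz _ hg)
  obtain ⟨g', hg', k'⟩ := hG ⟨g, hg, k⟩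
  have := inn5 m.toCo (by simpa using (m.invZ k').mul k)
  exact ((F'.A _).mul_mem_cancel_left (inv_mem hg')).1 (ai_self_le_A ((m.le _).trans n'.eS.ge) this)
end

end H2.G
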