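/-
Fusion systems on a Sylow `5`-subgroup of `G₂(5)`: the types of the models, assembly.
-/
import Cfsg.Agent.H2.G55

set_option autoImplicit false
set_option linter.unusedSectionVars false
set_option linter.unusedSimpArgs false

namespace H2.G
open Cfsg Subgroup H25 H25.FS H25.GC H25.GC.Gc
open H8.PU hiding Co Wt Wy Md Ck G2 S2 N2 E2 TR MD
universe u w
variable {Γ : Type u} [Group Γ] [Finite Γ] {S A L C0 H H' : Subgroup Γ} {ev : Gc F5 →* Γ} {a g g' τ M1 M2 : Γ} {F F' : FS Γ}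
  {f f' : AZ F5} {k l : F5}

/-- `5^{1+2} : 3` -/
def E3 (H : Subgroup Γ) (x y w g : Γ) : Prop := x ∈ H ∧ y ∈ H ∧ g ∈ H ∧ x ^ 5 = 1 ∧ w ^ 5 = 1 ∧ w ≠ 1 ∧ x * y * x⁻¹ * y⁻¹ = w ∧
  Commute w x ∧ Commute w y ∧ Commute w g ∧ g * x * g⁻¹ = y ∧ g * y * g⁻¹ = (x * y)⁻¹ * w ^ 3
theorem E3.map {G : Type*} [Group G] {x y w : Γ} (e : E3 H x y w g) (i : Γ →* G) (hi : Function.Injective i) :
    E3 (H.map i) (i x) (i y) (i w) (i g) := by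
  obtain ⟨a1, a2, a3, a4, a5, a6, a7, a8, a9, a10, a11, a12⟩ := e
  exact ⟨mem_map_of_mem i a1, mem_map_of_mem i a2, mem_map_of_mem i a3, by rw [← map_pow, a4, map_one], by rw [← map_pow, a5, map_one],
    (map_ne_one_iff i hi).2 a6, by simp [← a7], a8.map i, a9.map i, a10.map i, by simp [← a11], by simpa using congrArg i a12⟩
theorem E3.cj {x y w : Γ} (e : E3 H x y w g) (ha : a ∈ H) : E3 H (a * x * a⁻¹) (a * y * a⁻¹) (a * w * a⁻¹) (a * g * a⁻¹) := by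
  have := e.map (MulAut.conj a).toMonoidHom (MulAut.conj a).injective
  rwa [show H.map _ = H from cj_eq_of_mem ha] at this
theorem E3.pg {x y w : Γ} (e : E3 H x y w g) : ∃ E ≤ H ⊓ cz (zpowers w), IsPGroup 5 E ∧ x ∈ E ∧ y ∈ E ∧ g ∈ nz E := by
  obtain ⟨a1, a2, a3, a4, a5, a6, a7, a8, a9, a10, a11, a12⟩ := e
  have p : ∀ x : Γ, x ^ 5 = 1 → IsPGroup 5 (zpowers x) := fun x e ⟨y, hy⟩ => ⟨1, Subtype.ext (by
    obtain ⟨z, rfl⟩ := mem_zpowers_iff.1 hy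
    show (x ^ z) ^ 5 ^ 1 = 1
    rw [pow_one, ← zpow_natCast, ← zpow_mul, mul_comm, zpow_mul, zpow_natCast, e, one_zpow])⟩
  have c : ∀ x, Commute w x → x ∈ cz (zpowers w) := fun x e => mem_cz'.2 (by rintro _ ⟨n, rfl⟩; exact (e.zpow_left n).eq)
  have n : ∀ {X Y Z : Subgroup Γ} {g : Γ}, (∀ x ∈ X, g * x * g⁻¹ ∈ Z) → (∀ x ∈ Y, g * x * g⁻¹ ∈ Z) → ∀ x ∈ X ⊔ Y, g * x * g⁻¹ ∈ Z :=
    fun {X Y Z g} h1 h2 x hx => (sup_le (c := Z.comap (MulAut.conj g).toMonoidHom) h1 h2) hx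
  have z : ∀ {Z : Subgroup Γ} {g x : Γ}, g * x * g⁻¹ ∈ Z → ∀ y ∈ zpowers x, g * y * g⁻¹ ∈ Z := fun {Z g x} h y hy =>
    (zpowers_le (H := Z.comap (MulAut.conj g).toMonoidHom)).2 h hy
  have mx : x ∈ zpowers x ⊔ zpowers w := mem_sup_left (mem_zpowers x)
  have mw : w ∈ zpowers x ⊔ zpowers w := mem_sup_right (mem_zpowers w)
  have cw : ∀ g, Commute w g → g * w * g⁻¹ = w := fun g e => by rw [← e.eq]; group
  have my : y ∈ zpowers y ⊔ (zpowers x ⊔ zpowers w) := mem_sup_left (mem_zpowers y)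
  refine ⟨zpowers y ⊔ (zpowers x ⊔ zpowers w), sup_le (zpowers_le.2 ⟨a2, c y a9⟩) (sup_le (zpowers_le.2 ⟨a1, c x a8⟩)
    (zpowers_le.2 ⟨a7 ▸ H.mul_mem (H.mul_mem (H.mul_mem a1 a2) (H.inv_mem a1)) (H.inv_mem a2), c w rfl⟩)),
    isPGroup_sup_of_le_nz (p y (by rw [← a11, conj_pow, a4]; group)) (isPGroup_sup_of_le_nz (p x a4) (p w a5)
      (zpowers_le.2 (cz_le_nz _ (c x a8)))) (zpowers_le.2 (mem_nz_of_conj_mem (n (z ?_) (z (by rwa [cw y a9]))))),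
    mem_sup_right mx, my, mem_nz_of_conj_mem (n (z ?_) (n (z (a11 ▸ my)) (z (by rw [cw g a10]; exact mem_sup_right mw))))⟩
  · rw [show y * x * y⁻¹ = w⁻¹ * x by rw [← a7]; group]; exact mul_mem (inv_mem mw) mx
  · rw [a12]; exact mul_mem (inv_mem (mul_mem (mem_sup_right mx) my)) (pow_mem (mem_sup_right mw) 3)

theorem Mo.syl (o : Mo ev H) (h : Co S ev) : Syl 5 S H := by
  have l : S ≤ H := fun y hy => let ⟨c, _, e⟩ := h.ex hy; e ▸ o.le c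
  refine ⟨l, fun c => o.c7 ?_⟩
  have : Nat.card S = 5 ^ 6 := by
    rw [← h.top, Nat.card_congr (equivMapOfInjective _ _ h.inj).toEquiv.symm, card_top, Gc.card, Nat.card_zmod]
  rw [← relIndex_bot_left, ← relIndex_mul_relIndex ⊥ S H bot_le l, relIndex_bot_left, this, pow_succ]
  exact mul_dvd_mul_left _ c
theorem Ws.wt (w : Ws ev τ k l) (hk : k ≠ 0) (hl : l ≠ 0) : Wt ev τ k l (.refl _) := ⟨hk, hl, w⟩
theorem Mo.map {G : Type*} [Group G] [Finite G] {ev : Gc F5 →* G} {H : Subgroup G} (o : Mo ev H) {i : G →* Γ}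
    (hi : Function.Injective i) (hH : H.map i ≤ H') (c : ¬ 5 ^ 7 ∣ Nat.card H') : Mo (i.comp ev) H' :=
  ⟨hi.comp o.inj, fun c => hH (mem_map_of_mem i (o.le c)), c,
    let ⟨_, a, b⟩ := o.d; ⟨_, hH (mem_map_of_mem i a), fun c => (cj_map hi).2 (b c)⟩,
    let ⟨_, a, b, c, d, e⟩ := o.q2
    ⟨_, hH (mem_map_of_mem i a), fun c hc => let ⟨c', p, q⟩ := b c hc; ⟨c', p, (cj_map hi).2 q⟩, c, d, (cj_map hi).2 e⟩⟩
theorem Mo.map' {G : Type*} [Group G] [Finite G] {ev : Gc F5 →* G} {H : Subgroup G} (o : Mo ev H) {i : G →* Γ}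
    (hi : Function.Injective i) : Mo (i.comp ev) (H.map i) :=
  o.map hi le_rfl (Nat.card_congr (equivMapOfInjective H i hi).toEquiv ▸ o.c7)

section
variable (m : Md 5 S ev L C0 M1 M2) (x : Ck F5 Γ 5)
include m x
omit x in
theorem gq5 (o : Mo ev H) : Gq ev (ofSub H S) = imZ ev H := by rw [Gq, ofSub_A (o.syl m.toCo).1 (m.le _), m.imZ_ai]
omit x in
theorem wk_of (o : Mo ev H) : Wk S ev (ofSub H S) k l ↔ k ≠ 0 ∧ l ≠ 0 ∧ ∃ g ∈ H, Ws ev g k l := by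
  rw [Wk, ofSub_A (o.syl m.toCo).1 le_rfl]
  exact ⟨fun ⟨τ, ⟨_, g, a, e⟩, w⟩ => ⟨w.k0, w.l0, g, a, fun c => (e _ (m.mS c)).symm.trans (w.cj c)⟩,
    fun ⟨a, b, g, c, w⟩ => ⟨g, mem_ai_of_mem c (m.wS (w.wt a b)), w.wt a b⟩⟩
theorem st5 (o : Mo ev H) (h : nZ ∈ imZ ev H ∨ nN ∈ imZ ev H ∨ nH ∈ imZ ev H) : St5 S ev C0 (ofSub H S) := by
  have s := o.syl m.toCo
  have n := sa_of m.pg s
  have k : ∀ f ∈ imZ ev H, ¬ Bo f → (ofSub H S).Ess ((Q1 F5).map ev) := fun f ⟨g, a, b⟩ c =>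
    es1 x m.toCo n (ofSub_A s.1 (m.le _) ▸ mem_ai_of_mem a (AcZ.nz b)) fun e => c (H24.GT.bo_of m.toCo b e)
  refine ⟨nf5 m x n ((wk_of m o).2 ⟨by decide, by decide, o.d⟩), ?_, ?_⟩
  · rcases h with h | h | h <;> refine k _ h fun ⟨c, e⟩ => ?_ <;> simp [nZ_ap, nN_ap, nH_ap] at e
    exact absurd e.1 (by decide)
  obtain ⟨g, a, b, c, d, e⟩ := o.q2
  have g2 : g ∈ nz ((Q2 F5).map ev) := mem_nz_of_conj_mem (by
    rintro _ ⟨c, hc, rfl⟩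
    exact let ⟨c', p, q⟩ := b c hc; ⟨c', p, q.symm⟩)
  exact es2 x m.toCo n (ofSub_A s.1 (m.le _) ▸ mem_ai_of_mem a g2) fun q => d (mZ1.1 (m.mm.1
    (e ▸ conj_mem_of_mem_nz q (m.mm.2 (show xz 1 ∈ Z1 F5 from ⟨rfl, rfl, rfl, rfl, rfl⟩))))).2.2.2.2
theorem su_of (o : Mo ev H) (h : nZ ∈ imZ ev H ∨ nN ∈ imZ ev H ∨ nH ∈ imZ ev H) : Su5 (imZ ev H) :=
  gq5 m o ▸ su5 m x (st5 m x o h)
theorem rl5 (n : St5 S ev C0 F) (o : Mo ev H) (h1 : nZ ∈ Gq ev F ↔ nZ ∈ imZ ev H) (h2 : nN ∈ Gq ev F ↔ nN ∈ imZ ev H)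
    (h3 : nH ∈ Gq ev F ↔ nH ∈ imZ ev H) (h4 : nZ ∈ Gq ev F ∨ nN ∈ Gq ev F ∨ (Wk S ev F 1 2 ↔ ∃ g ∈ H, Ws ev g 1 2)) : Rl 5 F := by
  have n' := st5 m x o (by rw [← h1, ← h2, ← h3]; exact (su5 m x n).ex)
  rw [← gq5 m o] at h1 h2 h3
  have h5 : Wk S ev F 1 2 ↔ Wk S ev (ofSub H S) 1 2 := by
    rcases h4 with c | c | c
    exacts [iff_of_true (zs5 m x n (.inl c)) (zs5 m x n' (.inl (h1.1 c))), iff_of_true (zs5 m x n (.inr c)) (zs5 m x n' (.inr (h2.1 c))),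
      by rw [wk_of m o, c]; simp [n2]]
  exact n.toSa.rl (o.syl m.toCo) (le5 m x n n' h1.1 h2.1 h3.1 h5.1) (le5 m x n' n h1.2 h2.2 h3.2 h5.2)
/-- the constrained type -/
theorem cn5 (n : St5 S ev C0 F) (h1 : nZ ∉ Gq ev F) (h3 : nH ∉ Gq ev F) : F.Constr 5 := by
  let P : Subgroup (AZ F5) :=
    { carrier := {f | ∀ v : VV F5, v.1 = 0 ∧ v.2.1 = 0 → (f v).1 = 0 ∧ (f v).2.1 = 0}
      one_mem' := fun _ h => h
      mul_mem' := fun a b v h => a _ (b v h)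
      inv_mem' := sgp_inv (P := fun f : AZ F5 => ∀ v : VV F5, v.1 = 0 ∧ v.2.1 = 0 → (f v).1 = 0 ∧ (f v).2.1 = 0) (fun _ h => h)
        fun _ _ a b v h => a _ (b v h) }
  have l : Gq ev F ≤ P := (su5 m x n).gen P (fun f hf v h => by
    obtain ⟨t, k, l, -, d⟩ := bor5 m x n hf.1 hf.2
    rw [show f v = tZ t (((tZ t)⁻¹ * f) v) by simp [H24.SP.mul_ap], d]
    simp [tZ_ap, h]) (absurd · h1) (fun _ v h => by simp [nN_ap, h]) (absurd · h3)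
  refine n.toSa.cn (m.cen3 n3) (m.le _) (fun g hg => m.gZ3 n3 n2 (F.A_le_nz _ hg)) fun X q => ?_
  rcases m.ess x n.toSa q with rfl | rfl
  · refine ⟨m.l31, fun g hg => mem_nz_of_conj_mem ?_⟩
    rintro _ ⟨c, hc, rfl⟩
    obtain ⟨f, k⟩ := m.exZ' n3 (F.A_le_nz _ hg)
    obtain ⟨c', p, q, r⟩ := k c hc.1
    have := l ⟨g, hg, k⟩ (pv c) hc.2
    rw [← r] at this
    exact ⟨c', ⟨p, this⟩, q.symm⟩
  · exact ⟨m.l32, z35 m x n⟩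
omit x in
theorem nn_g2 (o : Mo ev H) (ha : a ∈ H) (e : ∀ c : Gc F5, c.u = 0 → a * ev c * a⁻¹ = ev (m2 c))
    (h : ∀ g ∈ H, ∀ r, g * ev (xz 1) * g⁻¹ ≠ ev (xr r)) : nN ∉ imZ ev H := fun ⟨g, hg, k⟩ => by
  obtain ⟨c, p, q, r⟩ := k (m2 (xz 1)) rfl
  simp only [pv, nN_ap, Prod.mk.injEq] at r
  refine h _ (mul_mem (mul_mem (o.le (xs (4 * c.z))) hg) ha) 3 ?_
  rw [cj_mul2, cj_mul2, e _ rfl, q]
  gs m.toCo [] at r
  gs m.toCo [p, r]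
  grind
theorem nn_hn (o : Mo ev H) (o' : Mo ev H') (sq : ∀ g ∈ H', g * g ∈ H) (h : nH ∈ imZ ev H) (h1 : nZ ∉ imZ ev H) (h2 : nN ∉ imZ ev H) :
    nN ∉ imZ ev H' := fun ⟨g, hg, k⟩ => by
  have k' := k.mul (H24.GT.acT 1)
  obtain ⟨μ, d⟩ := (su_of m x o (.inr (.inr h))).o3 h1 h2 _ ⟨_, sq _ (mul_mem hg (o'.le _)), k'.mul k'⟩
  have r := rN.mul (rt 1)
  have r2 := (r.mul r).p20
  have := (r2.mul r2).uq (d := dc 1 μ.val) (rd.2 (by simpa [← pow_add] using d)) cI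
  exact (by decide +kernel : ∀ a < 5, ¬ _ = mul cI (dc 1 a)) _ μ.val_lt this
/-- the Baby Monster -/
theorem nn_b (o : Mo ev H) (h : nH ∈ imZ ev H) {y z w : Γ} (e : E3 H y z w g) : nN ∈ imZ ev H := by
  by_contra h2
  have su := su_of m x o (.inr (.inr h))
  have s := o.syl m.toCo
  have n := st5 m x o (.inr (.inr h))
  obtain ⟨y, z, w, g, e, hy, hz⟩ : ∃ y z w g, E3 H y z w g ∧ y ∈ S ∧ z ∈ S := by
    obtain ⟨E, l, p, a, b, -⟩ := e.pg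
    obtain ⟨j, hj, q⟩ := s.exists_cj_le p (l.trans inf_le_left)
    exact ⟨_, _, _, _, e.cj hj, q (conj_mem_cj j a), q (conj_mem_cj j b)⟩
  obtain ⟨y, z, w, g, e, hw⟩ : ∃ y z w g, E3 H y z w g ∧ w ∈ (Z1 F5).map ev := by
    obtain ⟨c, -, rfl⟩ := m.ex hy
    obtain ⟨d, -, rfl⟩ := m.ex hz
    have hw := e.2.2.2.2.2.2.1
    have c1 := e.2.2.2.2.2.2.2.1.eq
    have c2 := e.2.2.2.2.2.2.2.2.1.eq
    rw [m.inv, m.inv, m.mul, m.mul, m.mul] at hw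
    have q : c.a = 0 → d.a = 0 → w ∈ (Z1 F5).map ev := fun a b => hw ▸ m.mm.2 (by rw [H24.GT.cmq a b]; exact ⟨rfl, rfl, rfl, rfl, rfl⟩)
    have w1 := cm_a c d
    have w2 := cm_u c d
    generalize c * d * c⁻¹ * d⁻¹ = b at *
    subst hw
    gs m.toCo [w1, w2] at c1 c2
    by_cases h3 : b.s = 0 ∧ b.r = 0
    swap
    · exact ⟨_, _, _, _, e, q (by grind) (by grind)⟩
    by_cases h4 : b.v = 0
    · exact ⟨_, _, _, _, e, m.mm.2 ⟨w1, w2, h3.1, h3.2, h4⟩⟩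
    obtain ⟨-, j, hj, q⟩ := mem_ai.1 (ofSub_A s.1 (m.le _) ▸ m25 m x n)
    refine ⟨_, _, _, _, e.cj (mul_mem hj (o.le (xu (-b.z / b.v)))), ?_⟩
    rw [cj_mul2, m.inv, m.mul, m.mul, ← q _ (m.mm.2 (by simp [mQ2, w2])), m.f2 _ (by simp [w2])]
    gs m.toCo [w1, w2, h3]
    field_simp; ring
  have zw : zpowers w = (Z1 F5).map ev := by
    refine le_antisymm (zpowers_le.2 hw) ?_
    obtain ⟨b, hb, rfl⟩ := hw
    rintro _ ⟨c, hc, rfl⟩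
    have b0 : b.z ≠ 0 := fun q => e.2.2.2.2.2.1 (m.eq1.2 (Gc.ext hb.1 hb.2.1 hb.2.2.1 hb.2.2.2.1 hb.2.2.2.2 q))
    have k : ∀ n : ℕ, b ^ n = xz (n * b.z) := fun n => by
      induction n with
      | zero => simp; rfl
      | succ n ih => rw [pow_succ, ih]; gs m.toCo [] at hb; gs m.toCo [hb]; push_cast; ring
    refine ⟨(c.z / b.z).val, ?_⟩
    simp only [zpow_natCast]
    rw [← map_pow, k]; gs m.toCo [] at hc; gs m.toCo [hc]; simp [b0]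
  have s' : Syl 5 S (H ⊓ cz ((Z1 F5).map ev)) := s.mono_right (le_inf s.1 m.cS1.cz) inf_le_left
  obtain ⟨y, z, g, e, E, l, hy, hz, hE, hg⟩ : ∃ y z g, E3 H y z w g ∧ ∃ E ≤ S, y ∈ E ∧ z ∈ E ∧ g ∈ nz E ∧
      g ∈ H ⊓ cz ((Z1 F5).map ev) := by
    obtain ⟨E, l, p, a, b, c⟩ := e.pg
    obtain ⟨j, hj, q⟩ := s'.exists_cj_le p (zw ▸ l)
    have g1 : g ∈ H ⊓ cz ((Z1 F5).map ev) := ⟨e.2.2.1, zw ▸ mem_cz'.2 (by
      rintro _ ⟨n, rfl⟩; exact (e.2.2.2.2.2.2.2.2.2.1.zpow_left n).eq)⟩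
    exact ⟨_, _, _, mem_cz.1 hj.2 w hw ▸ e.cj hj.1, _, q, conj_mem_cj j a, conj_mem_cj j b, cj_nz j E ▸ conj_mem_cj j c,
      mul_mem (mul_mem hj g1) (inv_mem hj)⟩
  have n' := sa_of m.pg s'
  obtain ⟨j, hj, t, ag⟩ := (n'.sat.nm_iff_ess.2 (fun X hX => hX.elim
    (fun c => by rw [c, n'.eS]; exact ⟨m.le _, fun g hg => m.gQ1 n3 (A_le_nz _ _ hg)⟩) fun q => by
      rcases m.ess x n' q with rfl | rfl
      · exact ⟨le_rfl, A_le_nz _ _⟩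
      obtain ⟨g, hg, c⟩ := m.ne2 n3 (n'.es q)
      have g2 := A_le_nz _ _ hg
      obtain ⟨-, j, hj, e⟩ := mem_ai.1 (ofSub_A s'.1 (m.le _) ▸ hg)
      exact (c (m.q2Z4 n3 g2 (m.q2Z3 n3 n2 g2) ((e.mono (m.l12.trans (m.l24.trans m.l42))).mem_nz (cz_le_nz _ hj.2)))).elim :
    ∀ X, X = (ofSub _ S).S ∨ (ofSub _ S).Ess X → (Q1 F5).map ev ≤ X ∧ (ofSub _ S).A X ≤ nz ((Q1 F5).map ev))).2 E g
      (ofSub_T_of_mem l hg ((mem_nz.1 hE).le.trans l))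
  obtain ⟨-, -, i, hi, ag'⟩ := (ofSub_T s'.1).1 t
  obtain ⟨f, k⟩ := m.exZ' n3 hj
  obtain ⟨μ, df⟩ := su.o3 (fun c => su.zh ⟨c, h⟩) h2 f ⟨i, hi.1, AcZ.ag k (ag'.mono le_sup_right).symm⟩
  obtain ⟨-, -, -, -, -, w1, e1, -, -, -, e2, e3⟩ := e
  rw [ag _ hy] at e2
  rw [ag _ hz] at e3
  obtain ⟨c, -, rfl⟩ := m.ex (l hy)
  obtain ⟨d, -, rfl⟩ := m.ex (l hz)
  obtain ⟨b, hb, rfl⟩ := hw
  have q : ∀ n : ℕ, d.a = n * c.a → -(c.a + d.a) = n * d.a := fun n e => by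
    have := conj_mem_of_mem_nz hj (m.mm.2 (show d * (c ^ n)⁻¹ ∈ Q1 F5 by
      have : ∀ n : ℕ, (c ^ n).a = n * c.a := fun n => by induction n <;> simp [pow_succ, *]; ring
      simp [mQ1, this, e]))
    have k : ∀ n : ℕ, (d ^ n).a = n * d.a := fun n => by induction n <;> simp [pow_succ, *]; ring
    rw [map_mul, map_inv, map_pow, cj_mul, ← conj_inv, ← conj_pow, e2, e3, ← map_pow, ← map_pow] at this
    gs m.toCo [pow_succ, pow_zero, hb.1, k] at this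
    linear_combination this
  have a0 : c.a = 0 := by_contra fun a0 => by
    have e := q (d.a / c.a).val (by simp [a0])
    simp only [ZMod.natCast_val, ZMod.cast_id', id] at e
    refine (by decide : ∀ t : F5, t * t + t + 1 ≠ 0) (d.a / c.a) ?_
    field_simp at e ⊢
    linear_combination -e
  have a1 : d.a = 0 := m.mm.1 (e2 ▸ conj_mem_of_mem_nz hj (m.mm.2 (show c ∈ Q1 F5 from a0)))
  have v1 := m.val k a0 e2
  have v2 := m.val k a1 (c' := (c * d)⁻¹ * b ^ 3) (by rw [e3]; simp)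
  have v3 : f (pv d) = -(pv c + pv d) := by
    rw [← v2]; gs m.toCo [] at hb; simp [pv, pow_succ, hb, a0, a1, add_comm]
  have v4 : (f ^ 3) (pv c) = pv c := by
    simp only [pow_succ, pow_zero, one_mul, H24.SP.mul_ap, ← v1, v3, map_neg, map_add]; abel
  have v5 : (f ^ 40) (pv c) = pv d := by
    rw [show 40 = 3 * 13 + 1 by rfl, pow_succ', pow_mul, H24.SP.mul_ap,
      H24.SP.pow_pres (P := (· = pv c)) (fun _ e => e ▸ v4) 13 _ rfl, v1]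
  rw [df] at v5
  rw [m.inv, m.inv, m.mul, m.mul, m.mul, H24.GT.cmq a0 a1, ← v5] at e1
  exact w1 (by rw [← e1, m.eq1]; ext <;> simp [oZ]; ring)
/-- the models inside one group -/
structure Ms (ev : Gc F5 →* Γ) : Prop where
  g2 : ∃ H, Mo ev H ∧ nZ ∈ imZ ev H ∧ (∃ a ∈ H, ∀ c : Gc F5, c.u = 0 → a * ev c * a⁻¹ = ev (m2 c)) ∧
    ∀ g ∈ H, ∀ r, g * ev (xz 1) * g⁻¹ ≠ ev (xr r)
  ly : ∃ H, Mo ev H ∧ nZ ∈ imZ ev H ∧ nN ∈ imZ ev H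
  hn : ∃ H H', Mo ev H ∧ Mo ev H' ∧ H ≤ H' ∧ (∀ g ∈ H', g * g ∈ H) ∧ nH ∈ imZ ev H ∧ (∃ g ∈ H', Ws ev g 1 2) ∧ ∀ g ∈ H, ¬ Ws ev g 1 2
  bm : ∃ H, Mo ev H ∧ nH ∈ imZ ev H ∧ ∃ y z w g, E3 H y z w g
theorem rl_st (s : Ms ev) (n : St5 S ev C0 F) : Rl 5 F := by
  have su := su5 m x n
  by_cases h1 : nZ ∈ Gq ev F
  · have h3 : nH ∉ Gq ev F := fun c => su.zh ⟨h1, c⟩
    by_cases h2 : nN ∈ Gq ev F
    · obtain ⟨H, o, a, b⟩ := s.ly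
      exact rl5 m x n o (iff_of_true h1 a) (iff_of_true h2 b) (iff_of_false h3 fun c => (su_of m x o (.inl a)).zh ⟨a, c⟩) (.inl h1)
    · obtain ⟨H, o, a, ⟨b, hb, c⟩, d⟩ := s.g2
      exact rl5 m x n o (iff_of_true h1 a) (iff_of_false h2 (nn_g2 m o hb c d))
        (iff_of_false h3 fun c => (su_of m x o (.inl a)).zh ⟨a, c⟩) (.inl h1)
  by_cases h3 : nH ∈ Gq ev F
  swap
  · exact .inl (cn5 m x n h1 h3)
  have z : ∀ {H}, Mo ev H → nH ∈ imZ ev H → nZ ∉ imZ ev H := fun o a c => (su_of m x o (.inl c)).zh ⟨c, a⟩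
  by_cases h2 : nN ∈ Gq ev F
  · obtain ⟨H, o, a, _, _, _, _, e⟩ := s.bm
    exact rl5 m x n o (iff_of_false h1 (z o a)) (iff_of_true h2 (nn_b m x o a e)) (iff_of_true h3 a) (.inr (.inl h2))
  obtain ⟨H, H', o, o', l, sq, a, b, c⟩ := s.hn
  have q : nN ∉ imZ ev H := fun e =>
    let ⟨_, _, g, p, q⟩ := (wk_of m o).1 (zs5 m x (st5 m x o (.inr (.inl e))) (.inr (by rwa [gq5 m o]))); c g p q
  by_cases h4 : Wk S ev F 1 2
  · exact rl5 m x n o' (iff_of_false h1 (z o' (imZ_mono l a))) (iff_of_false h2 (nn_hn m x o o' sq a (z o a) q))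
      (iff_of_true h3 (imZ_mono l a)) (.inr (.inr (iff_of_true h4 b)))
  · exact rl5 m x n o (iff_of_false h1 (z o a)) (iff_of_false h2 q) (iff_of_true h3 a)
      (.inr (.inr (iff_of_false h4 fun ⟨g, p, q⟩ => c g p q)))
theorem rl_5 (s : Ms ev) (n : Sa 5 S F) : Rl 5 F := by
  obtain ⟨γ, -, n'⟩ := m.cjA x (by simp) n fun _ hg => m.q2Z3 n3 n2 (F.A_le_nz _ hg)
  exact .of_cjs γ ((m.cases x n'.toSa).elim .inl fun ⟨a, b⟩ => rl_st m x s ⟨n', a, b⟩)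
end

theorem br5' (x : ∀ N, Ck F5 (Univ N) 5) (md : MD F5 5) (g2 : G25) (ly : LY) {G : Type} [Group G] [Finite G] (hn : HN G)
    (ci : Function.Injective (MulAut.conj : G →* MulAut G)) (ix : (MulAut.conj : G →* MulAut G).range.index = 2)
    (bm : ∃ (B : Type) (_ : Group B) (_ : Finite B), ¬ 5 ^ 7 ∣ Nat.card B ∧ (∃ i : G →* B, Function.Injective i) ∧
      ∃ y z w g : B, E3 ⊤ y z w g) : Br.{0, w} F5 5 := by
  obtain ⟨G1, _, _, e1, H1, o1, ⟨a1, p1, q1⟩, ⟨a2, p2, q2⟩, r1⟩ := g2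
  obtain ⟨G2, _, _, e2, H2, o2, k2, k2'⟩ := ly
  obtain ⟨e3, o3, ⟨g3, k3⟩, ⟨α, k4⟩, k5⟩ := hn
  obtain ⟨B, _, _, c7, ⟨j, hj⟩, y, z, w, g, e⟩ := bm
  have k3 : nH ∈ imZ e3 ⊤ := ⟨g3, trivial, k3⟩
  have o4 : Mo (j.comp e3) ⊤ := o3.map hj le_top (by rwa [card_top])
  have o5 : Mo (MulAut.conj.comp e3) ⊤ := o3.map ci le_top (by
    rw [card_top, ← card_mul_index (MulAut.conj : G →* MulAut G).range, ix, ← Nat.card_congr (MonoidHom.ofInjective ci).toEquiv]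
    exact fun c => o3.c7 (card_top (G := G) ▸ (by norm_num : Nat.Coprime (5 ^ 7) 2).dvd_of_dvd_mul_right c))
  refine br_of ((em_md md).and (((em_of (R := fun _ ev => ∃ H, Mo ev H ∧ nZ ∈ imZ ev H ∧
      (∃ a ∈ H, ∀ c : Gc F5, c.u = 0 → a * ev c * a⁻¹ = ev (m2 c)) ∧ ∀ g ∈ H, ∀ r, g * ev (xz 1) * g⁻¹ ≠ ev (xr r)) o1.inj
      fun _ i hi => ⟨_, o1.map' hi, by rw [imZ_map hi]; exact ⟨a1, p1, fun c hc => ⟨m1 c, rfl, q1 c hc, rfl⟩⟩,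
        ⟨_, mem_map_of_mem i p2, fun c hc => (cj_map hi).2 (q2 c hc)⟩, by
          rintro _ ⟨g, hg, rfl⟩ r e; exact r1 g hg r ((cj_map hi).1 e)⟩).and
    (em_of (R := fun _ ev => ∃ H, Mo ev H ∧ nZ ∈ imZ ev H ∧ nN ∈ imZ ev H) o2.inj
      fun _ i hi => ⟨_, o2.map' hi, by rwa [imZ_map hi], by rwa [imZ_map hi]⟩)).and
    ((em_of (R := fun _ ev => ∃ H H', Mo ev H ∧ Mo ev H' ∧ H ≤ H' ∧ (∀ g ∈ H', g * g ∈ H) ∧ nH ∈ imZ ev H ∧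
      (∃ g ∈ H', Ws ev g 1 2) ∧ ∀ g ∈ H, ¬ Ws ev g 1 2) o5.inj fun _ i hi =>
        ⟨_, _, (o3.map' ci).map' hi, o5.map' hi, map_mono le_top, ?_, by rwa [imZ_map hi, imZ_map ci],
          ⟨_, mem_map_of_mem i (mem_top α), fun c => (cj_map hi).2 (by ext; simp [← k4])⟩, ?_⟩).and
    (em_of (R := fun _ ev => ∃ H, Mo ev H ∧ nH ∈ imZ ev H ∧ ∃ y z w g, E3 H y z w g) o4.inj fun _ i hi =>
      ⟨_, o4.map' hi, by rw [imZ_map hi]; exact imZ_mono (X := map j ⊤) le_top (by rwa [imZ_map hj]), _, _, _, _, e.map i hi⟩))))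
    fun N ev F ⟨⟨_, _, _, _, m⟩, ⟨a, b⟩, c, d⟩ _ _ n => rl_5 m (x N) ⟨a, b, c, d⟩ n
  · rintro _ ⟨g, -, rfl⟩
    exact map_mul i g g ▸ mem_map_of_mem i (by rw [← MonoidHom.range_eq_map]; exact mul_self_mem_of_index_two ix g)
  · rintro _ ⟨_, ⟨g, -, rfl⟩, rfl⟩ w
    exact k5 g fun c => (cj_map ci).1 ((cj_map hi).1 (w c))

end H2.G
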