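/-
Fusion systems on a Sylow `5`-subgroup of `G₂(5)`: the models.
-/
import Cfsg.Agent.H2.G56
import Cfsg.Prelude.Def_Spor_HN
import Cfsg.Prelude.Def_KGroupFacts

set_option autoImplicit false

namespace H2.G
open Cfsg Subgroup H25 H25.GC
universe w

theorem br5 (x : ∀ N, Ck F5 (Univ N) 5) (md : MD F5 5) (g2 : G25) (ly : LY) (hn : HN Spor.HN) {n m : ℕ}
    (c : Nat.card Spor.HN = n + 1) (s : IsSimpleGroup Spor.HN) (o : Nat.card (Out Spor.HN) = 2)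
    (b : ∃ (G : Type) (_ : Group G) (_ : Finite G), IsSimpleGroup G ∧ Nat.card G = m ∧ ¬ 5 ^ 7 ∣ Nat.card G ∧
      (∃ K : Subgroup G, Spor.IsoHN K) ∧ ∃ x y w g : G, x ^ 5 = 1 ∧ y ^ 5 = 1 ∧ w ^ 5 = 1 ∧ w ≠ 1 ∧ x * y * x⁻¹ * y⁻¹ = w ∧
        Commute w x ∧ Commute w y ∧ Commute w g ∧ g * x * g⁻¹ = y ∧ g * y * g⁻¹ = (x * y)⁻¹ * w ^ 3) : Br.{0, w} (ZMod 5) 5 := by
  have : Finite Spor.HN := Nat.finite_of_card_ne_zero (by rw [c]; exact n.succ_ne_zero)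
  obtain ⟨B, _, _, -, -, c7, ⟨K, ⟨e⟩⟩, y, z, w, g, a1, -, a2⟩ := b
  refine br5' x md g2 ly hn ?_ o
    ⟨B, _, ‹_›, c7, ⟨K.subtype.comp e.symm.toMonoidHom, K.subtype_injective.comp e.symm.injective⟩, y, z, w, g, trivial, trivial,
      trivial, a1, a2⟩
  rw [← MonoidHom.ker_eq_bot_iff]
  refine (MonoidHom.normal_ker _).eq_bot_or_eq_top.resolve_right fun k => ?_
  obtain ⟨ev, o, -⟩ := hn
  have := congrArg (· (ev (Gc.xu 1))) (MonoidHom.mem_ker.1 (k.ge (mem_top (ev (Gc.xa 1)))))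
  simp only [MulAut.conj_apply, MulAut.one_apply, ← map_inv, ← map_mul] at this
  exact absurd (o.inj this) (by decide)

end H2.G
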