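import Cfsg.Agent.H2.NB2g

/-! Generated: normalizers inside the normalizer of the center. -/

set_option maxRecDepth 100000
set_option maxHeartbeats 4000000
set_option linter.unusedVariables false

open Subgroup
open scoped commutatorElement
namespace H2.NB
open H0 H0.PM H16 H19 H10.X H2.L3 H2.N9

noncomputable def PX_lZ : List ℕ := [(nat_lit 0x876543210), (nat_lit 0x687354021), (nat_lit 0x768435102)]
noncomputable def PX_lZ_W : List (List ℕ) := [[],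
  [(nat_lit 0)],
  [(nat_lit 0), (nat_lit 0)]]
noncomputable def PX_lZ_h (c : ℕ) : ℕ := Nat.mod c (nat_lit 4)
theorem PX_lZ_E {G : Type*} [Group G] {R : ℕ → G → Prop} {t a b e x z y : G} {H : Subgroup G}
    (M : Mdl PB_o PX_cs PB_L R [t, a, a⁻¹, b, b⁻¹, e, e⁻¹, x, x⁻¹, z, y] H) :
    EnumS R PX_lZ (sp [z]) :=
  enumS_sp M.μ.1 (M.reps.tms M.μ.1 [(.v (nat_lit 9))] (cs' := [(nat_lit 0x687354021)]) (by decide +kernel))
    (Ws := PX_lZ_W) (by decide +kernel) (by decide +kernel)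
theorem PX_lZ_c {G : Type*} [Group G] {R : ℕ → G → Prop} {t a b e x z y : G} {H : Subgroup G}
    (M : Mdl PB_o PX_cs PB_L R [t, a, a⁻¹, b, b⁻¹, e, e⁻¹, x, x⁻¹, z, y] H) :
    #(sp [z]) = 3 :=
  (PX_lZ_E M).card M.μ (h := PX_lZ_h) (by decide +kernel)
noncomputable def PX_lY : List ℕ := [(nat_lit 0x876543210), (nat_lit 0x876435021), (nat_lit 0x876354102)]
noncomputable def PX_lY_W : List (List ℕ) := [[],
  [(nat_lit 0)],
  [(nat_lit 0), (nat_lit 0)]]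
noncomputable def PX_lY_h (c : ℕ) : ℕ := Nat.mod c (nat_lit 4)
theorem PX_lY_E {G : Type*} [Group G] {R : ℕ → G → Prop} {t a b e x z y : G} {H : Subgroup G}
    (M : Mdl PB_o PX_cs PB_L R [t, a, a⁻¹, b, b⁻¹, e, e⁻¹, x, x⁻¹, z, y] H) :
    EnumS R PX_lY (sp [y]) :=
  enumS_sp M.μ.1 (M.reps.tms M.μ.1 [(.v (nat_lit 10))] (cs' := [(nat_lit 0x876435021)]) (by decide +kernel))
    (Ws := PX_lY_W) (by decide +kernel) (by decide +kernel)
theorem PX_lY_c {G : Type*} [Group G] {R : ℕ → G → Prop} {t a b e x z y : G} {H : Subgroup G}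
    (M : Mdl PB_o PX_cs PB_L R [t, a, a⁻¹, b, b⁻¹, e, e⁻¹, x, x⁻¹, z, y] H) :
    #(sp [y]) = 3 :=
  (PX_lY_E M).card M.μ (h := PX_lY_h) (by decide +kernel)
noncomputable def PX_lW : List ℕ := [(nat_lit 0x876543210), (nat_lit 0x210876543), (nat_lit 0x687354021), (nat_lit 0x543210876), (nat_lit 0x21687354), (nat_lit 0x768435102), (nat_lit 0x354021687), (nat_lit 0x102768435), (nat_lit 0x435102768)]
noncomputable def PX_lW_W : List (List ℕ) := [[],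
  [(nat_lit 0)],
  [(nat_lit 1)],
  [(nat_lit 0), (nat_lit 0)],
  [(nat_lit 0), (nat_lit 1)],
  [(nat_lit 1), (nat_lit 1)],
  [(nat_lit 0), (nat_lit 0), (nat_lit 1)],
  [(nat_lit 0), (nat_lit 1), (nat_lit 1)],
  [(nat_lit 0), (nat_lit 0), (nat_lit 1), (nat_lit 1)]]
noncomputable def PX_lW_h (c : ℕ) : ℕ := Nat.mod c (nat_lit 16)
theorem PX_lW_E {G : Type*} [Group G] {R : ℕ → G → Prop} {t a b e x z y : G} {H : Subgroup G}
    (M : Mdl PB_o PX_cs PB_L R [t, a, a⁻¹, b, b⁻¹, e, e⁻¹, x, x⁻¹, z, y] H) :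
    EnumS R PX_lW (sp [x, z]) :=
  enumS_sp M.μ.1 (M.reps.tms M.μ.1 [(.v (nat_lit 7)), (.v (nat_lit 9))] (cs' := [(nat_lit 0x210876543), (nat_lit 0x687354021)]) (by decide +kernel))
    (Ws := PX_lW_W) (by decide +kernel) (by decide +kernel)
theorem PX_lW_c {G : Type*} [Group G] {R : ℕ → G → Prop} {t a b e x z y : G} {H : Subgroup G}
    (M : Mdl PB_o PX_cs PB_L R [t, a, a⁻¹, b, b⁻¹, e, e⁻¹, x, x⁻¹, z, y] H) :
    #(sp [x, z]) = 9 :=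
  (PX_lW_E M).card M.μ (h := PX_lW_h) (by decide +kernel)
noncomputable def PX_cl2_t0 : ST := (.node (nat_lit 46) (.node (nat_lit 26) (.node (nat_lit 17) (.node (nat_lit 16) (.leaf (nat_lit 0)) (.leaf (nat_lit 4))) (.node (nat_lit 24) (.leaf (nat_lit 27)) (.leaf (nat_lit 0)))) (.node (nat_lit 32) (.node (nat_lit 29) (.leaf (nat_lit 27)) (.leaf (nat_lit 0))) (.node (nat_lit 44) (.leaf (nat_lit 4)) (.leaf (nat_lit 27))))) (.node (nat_lit 58) (.node (nat_lit 56) (.node (nat_lit 54) (.leaf (nat_lit 4)) (.leaf (nat_lit 1))) (.node (nat_lit 57) (.leaf (nat_lit 31)) (.leaf (nat_lit 0)))) (.node (nat_lit 61) (.node (nat_lit 60) (.leaf (nat_lit 28)) (.leaf (nat_lit 0))) (.node (nat_lit 66) (.leaf (nat_lit 27)) (.leaf (nat_lit 4))))))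
noncomputable def PX_cl2_F : Fm := (.allS PX_lJ (.or (.qf (.mem (.v (nat_lit 0)) PX_lZ)) (.exF PB_L (fun cs => PX_cl2_t0.find (Nat.mod (nth (nat_lit 0) cs (nat_lit 0)) (nat_lit 76))) (.qf (.or (.eq (.mul (.mul (.v (nat_lit 0)) (.v (nat_lit 1))) (.inv (.v (nat_lit 0)))) (.v (nat_lit 12))) (.mem (.mul (.mul (.v (nat_lit 0)) (.v (nat_lit 1))) (.inv (.v (nat_lit 0)))) PX_lF))))))
theorem PX_cl2_chk : Fm.chk PB_o PX_cl2_F PX_cs = true := by decide +kernel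
theorem PX_cl2 {G : Type*} [Group G] {R : ℕ → G → Prop} {t a b e x z y : G} {H : Subgroup G}
    (M : Mdl PB_o PX_cs PB_L R [t, a, a⁻¹, b, b⁻¹, e, e⁻¹, x, x⁻¹, z, y] H) :
    ∀ j ∈ sp [a, b, e], j ∈ sp [z] ∨ (∃ m ∈ H, m * j * m⁻¹ = y ∨ m * j * m⁻¹ ∈ sp [a * b, e]) :=
  have h : ∀ j, InS R PX_lJ j → InS R PX_lZ (j) ∨ (Good PB_o R PB_L → prods PB_o PB_L PB_o.one ≠ [] → ∃ m, InL PB_o R PB_L m ∧ (m * j * m⁻¹ = y ∨ InS R PX_lF (m * j * m⁻¹))) :=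
    Fm.sound M.μ PX_cl2_F PX_cl2_chk M.reps
  (fun j h0 => (Or.imp (fun h1 => ((PX_lZ_E M).iff.1 h1)) (fun h1 => (Exists.imp (fun m h2 => ⟨M.H.iff.1 h2.1, ((or_congr Iff.rfl (PX_lF_E M).iff).1 h2.2)⟩) (h1 M.H.good M.H.ne))) (h j ((PX_lJ_E M).iff.2 h0))))
noncomputable def PX_cf_F : Fm := (.allS PX_lF (.all PB_L (.imp (.eq (.mul (.v (nat_lit 0)) (.v (nat_lit 1))) (.mul (.v (nat_lit 1)) (.v (nat_lit 0)))) (.qf (.or (.mem (.v (nat_lit 1)) PX_lZ) (.or (.mem (.v (nat_lit 0)) PX_lJ) (.mem (.mul (.v (nat_lit 2)) (.v (nat_lit 0))) PX_lJ)))))))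
theorem PX_cf_chk : Fm.chk PB_o PX_cf_F PX_cs = true := by decide +kernel
theorem PX_cf {G : Type*} [Group G] {R : ℕ → G → Prop} {t a b e x z y : G} {H : Subgroup G}
    (M : Mdl PB_o PX_cs PB_L R [t, a, a⁻¹, b, b⁻¹, e, e⁻¹, x, x⁻¹, z, y] H) :
    ∀ f ∈ sp [a * b, e], ∀ d ∈ H, d * f = f * d → f ∈ sp [z] ∨ d ∈ sp [a, b, e] ∨ t * d ∈ sp [a, b, e] :=
  have h : ∀ f, InS R PX_lF f → ∀ d, InL PB_o R PB_L d → d * f = f * d → InS R PX_lZ (f) ∨ InS R PX_lJ (d) ∨ InS R PX_lJ (t * d) :=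
    Fm.sound M.μ PX_cf_F PX_cf_chk M.reps
  (fun f h0 => (fun d h1 => (fun h2 => ((or_congr (PX_lZ_E M).iff (or_congr (PX_lJ_E M).iff (PX_lJ_E M).iff)).1 (((h f ((PX_lF_E M).iff.2 h0)) d (M.H.iff.2 h1)) h2)))))
noncomputable def PX_ty_F : Fm := (.allS PX_lJ (.qf (.and (.mem (.mul (.inv (.v (nat_lit 0))) (.mul (.mul (.v (nat_lit 1)) (.v (nat_lit 0))) (.inv (.v (nat_lit 1))))) PX_lY) (.and (.or (.mem (.v (nat_lit 0)) PX_lF) (.or (.mem (.mul (.v (nat_lit 0)) (.v (nat_lit 11))) PX_lF) (.mem (.mul (.v (nat_lit 0)) (.inv (.v (nat_lit 11)))) PX_lF))) (.or (.mem (.v (nat_lit 0)) PX_lU) (.or (.mem (.mul (.v (nat_lit 0)) (.v (nat_lit 6))) PX_lU) (.mem (.mul (.v (nat_lit 0)) (.inv (.v (nat_lit 6)))) PX_lU)))))))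
theorem PX_ty_chk : Fm.chk PB_o PX_ty_F PX_cs = true := by decide +kernel
theorem PX_ty {G : Type*} [Group G] {R : ℕ → G → Prop} {t a b e x z y : G} {H : Subgroup G}
    (M : Mdl PB_o PX_cs PB_L R [t, a, a⁻¹, b, b⁻¹, e, e⁻¹, x, x⁻¹, z, y] H) :
    ∀ j ∈ sp [a, b, e], j⁻¹ * (t * j * t⁻¹) ∈ sp [y] ∧ (j ∈ sp [a * b, e] ∨ j * y ∈ sp [a * b, e] ∨ j * y⁻¹ ∈ sp [a * b, e]) ∧ (j ∈ sp [a, b] ∨ j * e ∈ sp [a, b] ∨ j * e⁻¹ ∈ sp [a, b]) :=
  have h : ∀ j, InS R PX_lJ j → InS R PX_lY (j⁻¹ * (t * j * t⁻¹)) ∧ (InS R PX_lF (j) ∨ InS R PX_lF (j * y) ∨ InS R PX_lF (j * y⁻¹)) ∧ (InS R PX_lU (j) ∨ InS R PX_lU (j * e) ∨ InS R PX_lU (j * e⁻¹)) :=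
    Fm.sound M.μ PX_ty_F PX_ty_chk M.reps
  (fun j h0 => ((and_congr (PX_lY_E M).iff (and_congr (or_congr (PX_lF_E M).iff (or_congr (PX_lF_E M).iff (PX_lF_E M).iff)) (or_congr (PX_lU_E M).iff (or_congr (PX_lU_E M).iff (PX_lU_E M).iff)))).1 (h j ((PX_lJ_E M).iff.2 h0))))
noncomputable def PX_cy_F : Fm := (.all PB_L (.imp (.eq (.mul (.v (nat_lit 0)) (.v (nat_lit 11))) (.mul (.v (nat_lit 11)) (.v (nat_lit 0)))) (.qf (.mem (.v (nat_lit 0)) PX_lJ))))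
theorem PX_cy_chk : Fm.chk PB_o PX_cy_F PX_cs = true := by decide +kernel
theorem PX_cy {G : Type*} [Group G] {R : ℕ → G → Prop} {t a b e x z y : G} {H : Subgroup G}
    (M : Mdl PB_o PX_cs PB_L R [t, a, a⁻¹, b, b⁻¹, e, e⁻¹, x, x⁻¹, z, y] H) :
    ∀ d ∈ H, d * y = y * d → d ∈ sp [a, b, e] :=
  have h : ∀ d, InL PB_o R PB_L d → d * y = y * d → InS R PX_lJ (d) :=
    Fm.sound M.μ PX_cy_F PX_cy_chk M.reps
  (fun d h0 => (fun h1 => ((PX_lJ_E M).iff.1 ((h d (M.H.iff.2 h0)) h1))))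
noncomputable def PX_F_F : Fm := (.allS PX_lF (.qf (.eq (.mul (.v (nat_lit 0)) (.v (nat_lit 1))) (.mul (.v (nat_lit 1)) (.v (nat_lit 0))))))
theorem PX_F_chk : Fm.chk PB_o PX_F_F PX_cs = true := by decide +kernel
theorem PX_F {G : Type*} [Group G] {R : ℕ → G → Prop} {t a b e x z y : G} {H : Subgroup G}
    (M : Mdl PB_o PX_cs PB_L R [t, a, a⁻¹, b, b⁻¹, e, e⁻¹, x, x⁻¹, z, y] H) :
    ∀ f ∈ sp [a * b, e], f * t = t * f :=
  have h : ∀ f, InS R PX_lF f → f * t = t * f :=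
    Fm.sound M.μ PX_F_F PX_F_chk M.reps
  (fun f h0 => (h f ((PX_lF_E M).iff.2 h0)))
noncomputable def PX_zF_F : Fm := (.qf (.and (.mem (.v (nat_lit 9)) PX_lF) (.and (.not (.mem (.v (nat_lit 5)) PX_lZ)) (.and (.not (.mem (.mul (.v (nat_lit 1)) (.v (nat_lit 3))) PX_lZ)) (.not (.mem (.v (nat_lit 10)) PX_lZ))))))
theorem PX_zF_chk : Fm.chk PB_o PX_zF_F PX_cs = true := by decide +kernel
theorem PX_zF {G : Type*} [Group G] {R : ℕ → G → Prop} {t a b e x z y : G} {H : Subgroup G}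
    (M : Mdl PB_o PX_cs PB_L R [t, a, a⁻¹, b, b⁻¹, e, e⁻¹, x, x⁻¹, z, y] H) :
    z ∈ sp [a * b, e] ∧ e ∉ sp [z] ∧ a * b ∉ sp [z] ∧ y ∉ sp [z] :=
  have h : InS R PX_lF (z) ∧ ¬ InS R PX_lZ (e) ∧ ¬ InS R PX_lZ (a * b) ∧ ¬ InS R PX_lZ (y) :=
    Fm.sound M.μ PX_zF_F PX_zF_chk M.reps
  ((and_congr (PX_lF_E M).iff (and_congr (not_congr (PX_lZ_E M).iff) (and_congr (not_congr (PX_lZ_E M).iff) (not_congr (PX_lZ_E M).iff)))).1 h)
noncomputable def PX_ct_F : Fm := (.all PB_L (.imp (.eq (.mul (.v (nat_lit 0)) (.v (nat_lit 1))) (.mul (.v (nat_lit 1)) (.v (nat_lit 0)))) (.qf (.and (.or (.mem (.v (nat_lit 0)) PX_lF) (.mem (.mul (.v (nat_lit 1)) (.v (nat_lit 0))) PX_lF)) (.or (.not (.eq (.mul (.v (nat_lit 0)) (.v (nat_lit 0))) .one)) (.or (.eq (.v (nat_lit 0)) .one) (.eq (.v (nat_lit 0)) (.v (nat_lit 1)))))))))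
theorem PX_ct_chk : Fm.chk PB_o PX_ct_F PX_cs = true := by decide +kernel
theorem PX_ct {G : Type*} [Group G] {R : ℕ → G → Prop} {t a b e x z y : G} {H : Subgroup G}
    (M : Mdl PB_o PX_cs PB_L R [t, a, a⁻¹, b, b⁻¹, e, e⁻¹, x, x⁻¹, z, y] H) :
    ∀ d ∈ H, d * t = t * d → (d ∈ sp [a * b, e] ∨ t * d ∈ sp [a * b, e]) ∧ (d * d ≠ 1 ∨ d = 1 ∨ d = t) :=
  have h : ∀ d, InL PB_o R PB_L d → d * t = t * d → (InS R PX_lF (d) ∨ InS R PX_lF (t * d)) ∧ (d * d ≠ 1 ∨ d = 1 ∨ d = t) :=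
    Fm.sound M.μ PX_ct_F PX_ct_chk M.reps
  (fun d h0 => (fun h1 => ((and_congr (or_congr (PX_lF_E M).iff (PX_lF_E M).iff) Iff.rfl).1 ((h d (M.H.iff.2 h0)) h1))))
noncomputable def PX_W_F : Fm := (.all PB_L (.imp (.eq (.mul (.v (nat_lit 0)) (.v (nat_lit 8))) (.mul (.v (nat_lit 8)) (.v (nat_lit 0)))) (.qf (.mem (.v (nat_lit 0)) PX_lW))))
theorem PX_W_chk : Fm.chk PB_o PX_W_F PX_cs = true := by decide +kernel
theorem PX_W {G : Type*} [Group G] {R : ℕ → G → Prop} {t a b e x z y : G} {H : Subgroup G}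
    (M : Mdl PB_o PX_cs PB_L R [t, a, a⁻¹, b, b⁻¹, e, e⁻¹, x, x⁻¹, z, y] H) :
    ∀ d ∈ H, d * x = x * d → d ∈ sp [x, z] :=
  have h : ∀ d, InL PB_o R PB_L d → d * x = x * d → InS R PX_lW (d) :=
    Fm.sound M.μ PX_W_F PX_W_chk M.reps
  (fun d h0 => (fun h1 => ((PX_lW_E M).iff.1 ((h d (M.H.iff.2 h0)) h1))))
noncomputable def PX_W3_F : Fm := (.allS PX_lW (.qf (.and (.eq (.pw (.v (nat_lit 0)) (nat_lit 3)) .one) (.and (.eq (.mul (.v (nat_lit 0)) (.v (nat_lit 8))) (.mul (.v (nat_lit 8)) (.v (nat_lit 0)))) (.eq (.mul (.v (nat_lit 0)) (.v (nat_lit 10))) (.mul (.v (nat_lit 10)) (.v (nat_lit 0))))))))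
theorem PX_W3_chk : Fm.chk PB_o PX_W3_F PX_cs = true := by decide +kernel
theorem PX_W3 {G : Type*} [Group G] {R : ℕ → G → Prop} {t a b e x z y : G} {H : Subgroup G}
    (M : Mdl PB_o PX_cs PB_L R [t, a, a⁻¹, b, b⁻¹, e, e⁻¹, x, x⁻¹, z, y] H) :
    ∀ v ∈ sp [x, z], v ^ 3 = 1 ∧ v * x = x * v ∧ v * z = z * v :=
  have h : ∀ v, InS R PX_lW v → v ^ 3 = 1 ∧ v * x = x * v ∧ v * z = z * v :=
    Fm.sound M.μ PX_W3_F PX_W3_chk M.reps
  (fun v h0 => (h v ((PX_lW_E M).iff.2 h0)))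
noncomputable def PX_s3_t0 : ST := (.node (nat_lit 39) (.node (nat_lit 13) (.node (nat_lit 4) (.node (nat_lit 1) (.leaf (nat_lit 72)) (.leaf (nat_lit 18))) (.node (nat_lit 5) (.leaf (nat_lit 126)) (.leaf (nat_lit 99)))) (.node (nat_lit 26) (.node (nat_lit 17) (.leaf (nat_lit 63)) (.leaf (nat_lit 54))) (.node (nat_lit 27) (.leaf (nat_lit 27)) (.node (nat_lit 32) (.leaf (nat_lit 117)) (.leaf (nat_lit 135)))))) (.node (nat_lit 49) (.node (nat_lit 46) (.node (nat_lit 45) (.leaf (nat_lit 153)) (.leaf (nat_lit 144))) (.node (nat_lit 48) (.leaf (nat_lit 81)) (.leaf (nat_lit 0)))) (.node (nat_lit 58) (.node (nat_lit 54) (.leaf (nat_lit 45)) (.leaf (nat_lit 9))) (.node (nat_lit 61) (.leaf (nat_lit 36)) (.node (nat_lit 62) (.leaf (nat_lit 108)) (.leaf (nat_lit 90)))))))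
noncomputable def PX_s3_F : Fm := (.all PB_L (.imp (.eq (.pw (.v (nat_lit 0)) (nat_lit 3)) .one) (.or (.qf (.mem (.v (nat_lit 0)) PX_lJ)) (.exF PB_L (fun cs => PX_s3_t0.find (Nat.mod (nth (nat_lit 0) cs (nat_lit 0)) (nat_lit 67))) (.qf (.eq (.mul (.mul (.v (nat_lit 0)) (.v (nat_lit 1))) (.inv (.v (nat_lit 0)))) (.inv (.v (nat_lit 9)))))))))
theorem PX_s3_chk : Fm.chk PB_o PX_s3_F PX_cs = true := by decide +kernel
theorem PX_s3 {G : Type*} [Group G] {R : ℕ → G → Prop} {t a b e x z y : G} {H : Subgroup G}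
    (M : Mdl PB_o PX_cs PB_L R [t, a, a⁻¹, b, b⁻¹, e, e⁻¹, x, x⁻¹, z, y] H) :
    ∀ d ∈ H, d ^ 3 = 1 → d ∈ sp [a, b, e] ∨ (∃ m ∈ H, m * d * m⁻¹ = x⁻¹) :=
  have h : ∀ d, InL PB_o R PB_L d → d ^ 3 = 1 → InS R PX_lJ (d) ∨ (Good PB_o R PB_L → prods PB_o PB_L PB_o.one ≠ [] → ∃ m, InL PB_o R PB_L m ∧ m * d * m⁻¹ = x⁻¹) :=
    Fm.sound M.μ PX_s3_F PX_s3_chk M.reps
  (fun d h0 => (fun h1 => (Or.imp (fun h2 => ((PX_lJ_E M).iff.1 h2)) (fun h2 => (Exists.imp (fun m h3 => ⟨M.H.iff.1 h3.1, h3.2⟩) (h2 M.H.good M.H.ne))) ((h d (M.H.iff.2 h0)) h1))))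
noncomputable def PM_lJ : List ℕ := [(nat_lit 0x876543210), (nat_lit 0x876543021), (nat_lit 0x876354210), (nat_lit 0x687543210), (nat_lit 0x876543102), (nat_lit 0x876354021), (nat_lit 0x687543021), (nat_lit 0x876435210), (nat_lit 0x687354210), (nat_lit 0x768543210), (nat_lit 0x876354102), (nat_lit 0x687543102), (nat_lit 0x876435021), (nat_lit 0x687354021), (nat_lit 0x768543021), (nat_lit 0x687435210), (nat_lit 0x768354210), (nat_lit 0x876435102), (nat_lit 0x687354102), (nat_lit 0x768543102), (nat_lit 0x687435021), (nat_lit 0x768354021), (nat_lit 0x768435210), (nat_lit 0x687435102), (nat_lit 0x768354102), (nat_lit 0x768435021), (nat_lit 0x768435102)]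
noncomputable def PM_lJ_W : List (List ℕ) := [[],
  [(nat_lit 0)],
  [(nat_lit 1)],
  [(nat_lit 2)],
  [(nat_lit 0), (nat_lit 0)],
  [(nat_lit 0), (nat_lit 1)],
  [(nat_lit 0), (nat_lit 2)],
  [(nat_lit 1), (nat_lit 1)],
  [(nat_lit 1), (nat_lit 2)],
  [(nat_lit 2), (nat_lit 2)],
  [(nat_lit 0), (nat_lit 0), (nat_lit 1)],
  [(nat_lit 0), (nat_lit 0), (nat_lit 2)],
  [(nat_lit 0), (nat_lit 1), (nat_lit 1)],
  [(nat_lit 0), (nat_lit 1), (nat_lit 2)],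
  [(nat_lit 0), (nat_lit 2), (nat_lit 2)],
  [(nat_lit 1), (nat_lit 1), (nat_lit 2)],
  [(nat_lit 1), (nat_lit 2), (nat_lit 2)],
  [(nat_lit 0), (nat_lit 0), (nat_lit 1), (nat_lit 1)],
  [(nat_lit 0), (nat_lit 0), (nat_lit 1), (nat_lit 2)],
  [(nat_lit 0), (nat_lit 0), (nat_lit 2), (nat_lit 2)],
  [(nat_lit 0), (nat_lit 1), (nat_lit 1), (nat_lit 2)],
  [(nat_lit 0), (nat_lit 1), (nat_lit 2), (nat_lit 2)],
  [(nat_lit 1), (nat_lit 1), (nat_lit 2), (nat_lit 2)],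
  [(nat_lit 0), (nat_lit 0), (nat_lit 1), (nat_lit 1), (nat_lit 2)],
  [(nat_lit 0), (nat_lit 0), (nat_lit 1), (nat_lit 2), (nat_lit 2)],
  [(nat_lit 0), (nat_lit 1), (nat_lit 1), (nat_lit 2), (nat_lit 2)],
  [(nat_lit 0), (nat_lit 0), (nat_lit 1), (nat_lit 1), (nat_lit 2), (nat_lit 2)]]
noncomputable def PM_lJ_h (c : ℕ) : ℕ := Nat.mod c (nat_lit 76)
theorem PM_lJ_E {G : Type*} [Group G] {R : ℕ → G → Prop} {t n a b e x z y : G} {H : Subgroup G}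
    (M : Mdl PN_o PM_cs PN_L R [t, n, a, a⁻¹, b, b⁻¹, e, e⁻¹, x, x⁻¹, z, y] H) :
    EnumS R PM_lJ (sp [a, b, e]) :=
  enumS_sp M.μ.1 (M.reps.tms M.μ.1 [(.v (nat_lit 2)), (.v (nat_lit 4)), (.v (nat_lit 6))] (cs' := [(nat_lit 0x876543021), (nat_lit 0x876354210), (nat_lit 0x687543210)]) (by decide +kernel))
    (Ws := PM_lJ_W) (by decide +kernel) (by decide +kernel)
theorem PM_lJ_c {G : Type*} [Group G] {R : ℕ → G → Prop} {t n a b e x z y : G} {H : Subgroup G}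
    (M : Mdl PN_o PM_cs PN_L R [t, n, a, a⁻¹, b, b⁻¹, e, e⁻¹, x, x⁻¹, z, y] H) :
    #(sp [a, b, e]) = 27 :=
  (PM_lJ_E M).card M.μ (h := PM_lJ_h) (by decide +kernel)
noncomputable def PM_lS : List ℕ := [(nat_lit 0x876543210), (nat_lit 0x876543021), (nat_lit 0x876354210), (nat_lit 0x687543210), (nat_lit 0x210876543), (nat_lit 0x876543102), (nat_lit 0x876354021), (nat_lit 0x687543021), (nat_lit 0x210876354), (nat_lit 0x876435210), (nat_lit 0x687354210), (nat_lit 0x210687543), (nat_lit 0x768543210), (nat_lit 0x21876543), (nat_lit 0x543210876), (nat_lit 0x876354102), (nat_lit 0x687543102), (nat_lit 0x210876435), (nat_lit 0x876435021), (nat_lit 0x687354021), (nat_lit 0x210687354), (nat_lit 0x768543021), (nat_lit 0x21876354), (nat_lit 0x543210687), (nat_lit 0x687435210), (nat_lit 0x210768543), (nat_lit 0x768354210), (nat_lit 0x21687543), (nat_lit 0x543021876), (nat_lit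 0x102876543), (nat_lit 0x354210876), (nat_lit 0x876435102), (nat_lit 0x687354102), (nat_lit 0x210687435), (nat_lit 0x768543102), (nat_lit 0x21876435), (nat_lit 0x543210768), (nat_lit 0x687435021), (nat_lit 0x210768354), (nat_lit 0x768354021), (nat_lit 0x21687354), (nat_lit 0x543021687), (nat_lit 0x102876354), (nat_lit 0x354210687), (nat_lit 0x768435210), (nat_lit 0x21768543), (nat_lit 0x543102876), (nat_lit 0x102687543), (nat_lit 0x354021876), (nat_lit 0x435210876), (nat_lit 0x687435102), (nat_lit 0x210768435), (nat_lit 0x768354102), (nat_lit 0x21687435), (nat_lit 0x543021768), (nat_lit 0x102876435), (nat_lit 0x354210768), (nat_lit 0x768435021), (nat_lit 0x21768354), (nat_lit 0x543102687), (nat_lit 0x102687354), (nat_lit 0x354021687), (nat_lit 0x435210687), (nat_lit 0x102768543), (nat_lit 0x354102876), (nat_lit 0x435021876), (nat_lit 0x768435102), (nat_lit 0x21768435),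 (nat_lit 0x543102768), (nat_lit 0x102687435), (nat_lit 0x354021768), (nat_lit 0x435210768), (nat_lit 0x102768354), (nat_lit 0x354102687), (nat_lit 0x435021687), (nat_lit 0x435102876), (nat_lit 0x102768435), (nat_lit 0x354102768), (nat_lit 0x435021768), (nat_lit 0x435102687), (nat_lit 0x435102768)]
noncomputable def PM_lS_W : List (List ℕ) := [[],
  [(nat_lit 0)],
  [(nat_lit 1)],
  [(nat_lit 2)],
  [(nat_lit 3)],
  [(nat_lit 0), (nat_lit 0)],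
  [(nat_lit 0), (nat_lit 1)],
  [(nat_lit 0), (nat_lit 2)],
  [(nat_lit 0), (nat_lit 3)],
  [(nat_lit 1), (nat_lit 1)],
  [(nat_lit 1), (nat_lit 2)],
  [(nat_lit 1), (nat_lit 3)],
  [(nat_lit 2), (nat_lit 2)],
  [(nat_lit 2), (nat_lit 3)],
  [(nat_lit 3), (nat_lit 3)],
  [(nat_lit 0), (nat_lit 0), (nat_lit 1)],
  [(nat_lit 0), (nat_lit 0), (nat_lit 2)],
  [(nat_lit 0), (nat_lit 0), (nat_lit 3)],
  [(nat_lit 0), (nat_lit 1), (nat_lit 1)],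
  [(nat_lit 0), (nat_lit 1), (nat_lit 2)],
  [(nat_lit 0), (nat_lit 1), (nat_lit 3)],
  [(nat_lit 0), (nat_lit 2), (nat_lit 2)],
  [(nat_lit 0), (nat_lit 2), (nat_lit 3)],
  [(nat_lit 0), (nat_lit 3), (nat_lit 3)],
  [(nat_lit 1), (nat_lit 1), (nat_lit 2)],
  [(nat_lit 1), (nat_lit 1), (nat_lit 3)],
  [(nat_lit 1), (nat_lit 2), (nat_lit 2)],
  [(nat_lit 1), (nat_lit 2), (nat_lit 3)],
  [(nat_lit 1), (nat_lit 3), (nat_lit 3)],
  [(nat_lit 2), (nat_lit 2), (nat_lit 3)],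
  [(nat_lit 2), (nat_lit 3), (nat_lit 3)],
  [(nat_lit 0), (nat_lit 0), (nat_lit 1), (nat_lit 1)],
  [(nat_lit 0), (nat_lit 0), (nat_lit 1), (nat_lit 2)],
  [(nat_lit 0), (nat_lit 0), (nat_lit 1), (nat_lit 3)],
  [(nat_lit 0), (nat_lit 0), (nat_lit 2), (nat_lit 2)],
  [(nat_lit 0), (nat_lit 0), (nat_lit 2), (nat_lit 3)],
  [(nat_lit 0), (nat_lit 0), (nat_lit 3), (nat_lit 3)],
  [(nat_lit 0), (nat_lit 1), (nat_lit 1), (nat_lit 2)],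
  [(nat_lit 0), (nat_lit 1), (nat_lit 1), (nat_lit 3)],
  [(nat_lit 0), (nat_lit 1), (nat_lit 2), (nat_lit 2)],
  [(nat_lit 0), (nat_lit 1), (nat_lit 2), (nat_lit 3)],
  [(nat_lit 0), (nat_lit 1), (nat_lit 3), (nat_lit 3)],
  [(nat_lit 0), (nat_lit 2), (nat_lit 2), (nat_lit 3)],
  [(nat_lit 0), (nat_lit 2), (nat_lit 3), (nat_lit 3)],
  [(nat_lit 1), (nat_lit 1), (nat_lit 2), (nat_lit 2)],
  [(nat_lit 1), (nat_lit 1), (nat_lit 2), (nat_lit 3)],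
  [(nat_lit 1), (nat_lit 1), (nat_lit 3), (nat_lit 3)],
  [(nat_lit 1), (nat_lit 2), (nat_lit 2), (nat_lit 3)],
  [(nat_lit 1), (nat_lit 2), (nat_lit 3), (nat_lit 3)],
  [(nat_lit 2), (nat_lit 2), (nat_lit 3), (nat_lit 3)],
  [(nat_lit 0), (nat_lit 0), (nat_lit 1), (nat_lit 1), (nat_lit 2)],
  [(nat_lit 0), (nat_lit 0), (nat_lit 1), (nat_lit 1), (nat_lit 3)],
  [(nat_lit 0), (nat_lit 0), (nat_lit 1), (nat_lit 2), (nat_lit 2)],
  [(nat_lit 0), (nat_lit 0), (nat_lit 1), (nat_lit 2), (nat_lit 3)],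
  [(nat_lit 0), (nat_lit 0), (nat_lit 1), (nat_lit 3), (nat_lit 3)],
  [(nat_lit 0), (nat_lit 0), (nat_lit 2), (nat_lit 2), (nat_lit 3)],
  [(nat_lit 0), (nat_lit 0), (nat_lit 2), (nat_lit 3), (nat_lit 3)],
  [(nat_lit 0), (nat_lit 1), (nat_lit 1), (nat_lit 2), (nat_lit 2)],
  [(nat_lit 0), (nat_lit 1), (nat_lit 1), (nat_lit 2), (nat_lit 3)],
  [(nat_lit 0), (nat_lit 1), (nat_lit 1), (nat_lit 3), (nat_lit 3)],
  [(nat_lit 0), (nat_lit 1), (nat_lit 2), (nat_lit 2), (nat_lit 3)],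
  [(nat_lit 0), (nat_lit 1), (nat_lit 2), (nat_lit 3), (nat_lit 3)],
  [(nat_lit 0), (nat_lit 2), (nat_lit 2), (nat_lit 3), (nat_lit 3)],
  [(nat_lit 1), (nat_lit 1), (nat_lit 2), (nat_lit 2), (nat_lit 3)],
  [(nat_lit 1), (nat_lit 1), (nat_lit 2), (nat_lit 3), (nat_lit 3)],
  [(nat_lit 1), (nat_lit 2), (nat_lit 2), (nat_lit 3), (nat_lit 3)],
  [(nat_lit 0), (nat_lit 0), (nat_lit 1), (nat_lit 1), (nat_lit 2), (nat_lit 2)],
  [(nat_lit 0), (nat_lit 0), (nat_lit 1), (nat_lit 1), (nat_lit 2), (nat_lit 3)],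
  [(nat_lit 0), (nat_lit 0), (nat_lit 1), (nat_lit 1), (nat_lit 3), (nat_lit 3)],
  [(nat_lit 0), (nat_lit 0), (nat_lit 1), (nat_lit 2), (nat_lit 2), (nat_lit 3)],
  [(nat_lit 0), (nat_lit 0), (nat_lit 1), (nat_lit 2), (nat_lit 3), (nat_lit 3)],
  [(nat_lit 0), (nat_lit 0), (nat_lit 2), (nat_lit 2), (nat_lit 3), (nat_lit 3)],
  [(nat_lit 0), (nat_lit 1), (nat_lit 1), (nat_lit 2), (nat_lit 2), (nat_lit 3)],
  [(nat_lit 0), (nat_lit 1), (nat_lit 1), (nat_lit 2), (nat_lit 3), (nat_lit 3)],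
  [(nat_lit 0), (nat_lit 1), (nat_lit 2), (nat_lit 2), (nat_lit 3), (nat_lit 3)],
  [(nat_lit 1), (nat_lit 1), (nat_lit 2), (nat_lit 2), (nat_lit 3), (nat_lit 3)],
  [(nat_lit 0), (nat_lit 0), (nat_lit 1), (nat_lit 1), (nat_lit 2), (nat_lit 2), (nat_lit 3)],
  [(nat_lit 0), (nat_lit 0), (nat_lit 1), (nat_lit 1), (nat_lit 2), (nat_lit 3), (nat_lit 3)],
  [(nat_lit 0), (nat_lit 0), (nat_lit 1), (nat_lit 2), (nat_lit 2), (nat_lit 3), (nat_lit 3)],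
  [(nat_lit 0), (nat_lit 1), (nat_lit 1), (nat_lit 2), (nat_lit 2), (nat_lit 3), (nat_lit 3)],
  [(nat_lit 0), (nat_lit 0), (nat_lit 1), (nat_lit 1), (nat_lit 2), (nat_lit 2), (nat_lit 3), (nat_lit 3)]]
noncomputable def PM_lS_h (c : ℕ) : ℕ := Nat.mod c (nat_lit 599)
theorem PM_lS_E {G : Type*} [Group G] {R : ℕ → G → Prop} {t n a b e x z y : G} {H : Subgroup G}
    (M : Mdl PN_o PM_cs PN_L R [t, n, a, a⁻¹, b, b⁻¹, e, e⁻¹, x, x⁻¹, z, y] H) :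
    EnumS R PM_lS (sp [a, b, e, x]) :=
  enumS_sp M.μ.1 (M.reps.tms M.μ.1 [(.v (nat_lit 2)), (.v (nat_lit 4)), (.v (nat_lit 6)), (.v (nat_lit 8))] (cs' := [(nat_lit 0x876543021), (nat_lit 0x876354210), (nat_lit 0x687543210), (nat_lit 0x210876543)]) (by decide +kernel))
    (Ws := PM_lS_W) (by decide +kernel) (by decide +kernel)
theorem PM_lS_c {G : Type*} [Group G] {R : ℕ → G → Prop} {t n a b e x z y : G} {H : Subgroup G}
    (M : Mdl PN_o PM_cs PN_L R [t, n, a, a⁻¹, b, b⁻¹, e, e⁻¹, x, x⁻¹, z, y] H) :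
    #(sp [a, b, e, x]) = 81 :=
  (PM_lS_E M).card M.μ (h := PM_lS_h) (by decide +kernel)
noncomputable def PM_lF : List ℕ := [(nat_lit 0x876543210), (nat_lit 0x876354021), (nat_lit 0x687543210), (nat_lit 0x876435102), (nat_lit 0x687354021), (nat_lit 0x768543210), (nat_lit 0x687435102), (nat_lit 0x768354021), (nat_lit 0x768435102)]
noncomputable def PM_lF_W : List (List ℕ) := [[],
  [(nat_lit 0)],
  [(nat_lit 1)],
  [(nat_lit 0), (nat_lit 0)],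
  [(nat_lit 0), (nat_lit 1)],
  [(nat_lit 1), (nat_lit 1)],
  [(nat_lit 0), (nat_lit 0), (nat_lit 1)],
  [(nat_lit 0), (nat_lit 1), (nat_lit 1)],
  [(nat_lit 0), (nat_lit 0), (nat_lit 1), (nat_lit 1)]]
noncomputable def PM_lF_h (c : ℕ) : ℕ := Nat.mod c (nat_lit 13)
theorem PM_lF_E {G : Type*} [Group G] {R : ℕ → G → Prop} {t n a b e x z y : G} {H : Subgroup G}
    (M : Mdl PN_o PM_cs PN_L R [t, n, a, a⁻¹, b, b⁻¹, e, e⁻¹, x, x⁻¹, z, y] H) :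
    EnumS R PM_lF (sp [a * b, e]) :=
  enumS_sp M.μ.1 (M.reps.tms M.μ.1 [(.mul (.v (nat_lit 2)) (.v (nat_lit 4))), (.v (nat_lit 6))] (cs' := [(nat_lit 0x876354021), (nat_lit 0x687543210)]) (by decide +kernel))
    (Ws := PM_lF_W) (by decide +kernel) (by decide +kernel)
theorem PM_lF_c {G : Type*} [Group G] {R : ℕ → G → Prop} {t n a b e x z y : G} {H : Subgroup G}
    (M : Mdl PN_o PM_cs PN_L R [t, n, a, a⁻¹, b, b⁻¹, e, e⁻¹, x, x⁻¹, z, y] H) :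
    #(sp [a * b, e]) = 9 :=
  (PM_lF_E M).card M.μ (h := PM_lF_h) (by decide +kernel)
noncomputable def PM_lZ : List ℕ := [(nat_lit 0x876543210), (nat_lit 0x687354021), (nat_lit 0x768435102)]
noncomputable def PM_lZ_W : List (List ℕ) := [[],
  [(nat_lit 0)],
  [(nat_lit 0), (nat_lit 0)]]
noncomputable def PM_lZ_h (c : ℕ) : ℕ := Nat.mod c (nat_lit 4)
theorem PM_lZ_E {G : Type*} [Group G] {R : ℕ → G → Prop} {t n a b e x z y : G} {H : Subgroup G}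
    (M : Mdl PN_o PM_cs PN_L R [t, n, a, a⁻¹, b, b⁻¹, e, e⁻¹, x, x⁻¹, z, y] H) :
    EnumS R PM_lZ (sp [z]) :=
  enumS_sp M.μ.1 (M.reps.tms M.μ.1 [(.v (nat_lit 10))] (cs' := [(nat_lit 0x687354021)]) (by decide +kernel))
    (Ws := PM_lZ_W) (by decide +kernel) (by decide +kernel)
theorem PM_lZ_c {G : Type*} [Group G] {R : ℕ → G → Prop} {t n a b e x z y : G} {H : Subgroup G}
    (M : Mdl PN_o PM_cs PN_L R [t, n, a, a⁻¹, b, b⁻¹, e, e⁻¹, x, x⁻¹, z, y] H) :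
    #(sp [z]) = 3 :=
  (PM_lZ_E M).card M.μ (h := PM_lZ_h) (by decide +kernel)
noncomputable def PM_lY : List ℕ := [(nat_lit 0x876543210), (nat_lit 0x876435021), (nat_lit 0x876354102)]
noncomputable def PM_lY_W : List (List ℕ) := [[],
  [(nat_lit 0)],
  [(nat_lit 0), (nat_lit 0)]]
noncomputable def PM_lY_h (c : ℕ) : ℕ := Nat.mod c (nat_lit 4)
theorem PM_lY_E {G : Type*} [Group G] {R : ℕ → G → Prop} {t n a b e x z y : G} {H : Subgroup G}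
    (M : Mdl PN_o PM_cs PN_L R [t, n, a, a⁻¹, b, b⁻¹, e, e⁻¹, x, x⁻¹, z, y] H) :
    EnumS R PM_lY (sp [y]) :=
  enumS_sp M.μ.1 (M.reps.tms M.μ.1 [(.v (nat_lit 11))] (cs' := [(nat_lit 0x876435021)]) (by decide +kernel))
    (Ws := PM_lY_W) (by decide +kernel) (by decide +kernel)
theorem PM_lY_c {G : Type*} [Group G] {R : ℕ → G → Prop} {t n a b e x z y : G} {H : Subgroup G}
    (M : Mdl PN_o PM_cs PN_L R [t, n, a, a⁻¹, b, b⁻¹, e, e⁻¹, x, x⁻¹, z, y] H) :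
    #(sp [y]) = 3 :=
  (PM_lY_E M).card M.μ (h := PM_lY_h) (by decide +kernel)
noncomputable def PM_lW : List ℕ := [(nat_lit 0x876543210), (nat_lit 0x210876543), (nat_lit 0x687354021), (nat_lit 0x543210876), (nat_lit 0x21687354), (nat_lit 0x768435102), (nat_lit 0x354021687), (nat_lit 0x102768435), (nat_lit 0x435102768)]
noncomputable def PM_lW_W : List (List ℕ) := [[],
  [(nat_lit 0)],
  [(nat_lit 1)],
  [(nat_lit 0), (nat_lit 0)],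
  [(nat_lit 0), (nat_lit 1)],
  [(nat_lit 1), (nat_lit 1)],
  [(nat_lit 0), (nat_lit 0), (nat_lit 1)],
  [(nat_lit 0), (nat_lit 1), (nat_lit 1)],
  [(nat_lit 0), (nat_lit 0), (nat_lit 1), (nat_lit 1)]]
noncomputable def PM_lW_h (c : ℕ) : ℕ := Nat.mod c (nat_lit 17)
theorem PM_lW_E {G : Type*} [Group G] {R : ℕ → G → Prop} {t n a b e x z y : G} {H : Subgroup G}
    (M : Mdl PN_o PM_cs PN_L R [t, n, a, a⁻¹, b, b⁻¹, e, e⁻¹, x, x⁻¹, z, y] H) :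
    EnumS R PM_lW (sp [x, z]) :=
  enumS_sp M.μ.1 (M.reps.tms M.μ.1 [(.v (nat_lit 8)), (.v (nat_lit 10))] (cs' := [(nat_lit 0x210876543), (nat_lit 0x687354021)]) (by decide +kernel))
    (Ws := PM_lW_W) (by decide +kernel) (by decide +kernel)
theorem PM_lW_c {G : Type*} [Group G] {R : ℕ → G → Prop} {t n a b e x z y : G} {H : Subgroup G}
    (M : Mdl PN_o PM_cs PN_L R [t, n, a, a⁻¹, b, b⁻¹, e, e⁻¹, x, x⁻¹, z, y] H) :
    #(sp [x, z]) = 9 :=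
  (PM_lW_E M).card M.μ (h := PM_lW_h) (by decide +kernel)
noncomputable def PM_lCT : List ℕ := [(nat_lit 0x876543210), (nat_lit 0x876354021), (nat_lit 0x687543210), (nat_lit 0x876210543), (nat_lit 0x786453120), (nat_lit 0x876435102), (nat_lit 0x687354021), (nat_lit 0x876021354), (nat_lit 0x786345012), (nat_lit 0x768543210), (nat_lit 0x687210543), (nat_lit 0x678453120), (nat_lit 0x786120453), (nat_lit 0x786534201), (nat_lit 0x867453120), (nat_lit 0x687435102), (nat_lit 0x876102435), (nat_lit 0x768354021), (nat_lit 0x687021354), (nat_lit 0x678345012), (nat_lit 0x786012345), (nat_lit 0x867345012), (nat_lit 0x768210543), (nat_lit 0x678120453), (nat_lit 0x678534201), (nat_lit 0x786201534), (nat_lit 0x867120453), (nat_lit 0x867534201), (nat_lit 0x768435102), (nat_lit 0x687102435), (nat_lit 0x768021354), (nat_lit 0x678012345), (nat_lit 0x867012345), (nat_lit 0x678201534),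 (nat_lit 0x867201534), (nat_lit 0x768102435)]
noncomputable def PM_lCT_W : List (List ℕ) := [[],
  [(nat_lit 0)],
  [(nat_lit 1)],
  [(nat_lit 2)],
  [(nat_lit 3)],
  [(nat_lit 0), (nat_lit 0)],
  [(nat_lit 0), (nat_lit 1)],
  [(nat_lit 0), (nat_lit 2)],
  [(nat_lit 0), (nat_lit 3)],
  [(nat_lit 1), (nat_lit 1)],
  [(nat_lit 1), (nat_lit 2)],
  [(nat_lit 1), (nat_lit 3)],
  [(nat_lit 2), (nat_lit 3)],
  [(nat_lit 3), (nat_lit 0)],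
  [(nat_lit 3), (nat_lit 1)],
  [(nat_lit 0), (nat_lit 0), (nat_lit 1)],
  [(nat_lit 0), (nat_lit 0), (nat_lit 2)],
  [(nat_lit 0), (nat_lit 1), (nat_lit 1)],
  [(nat_lit 0), (nat_lit 1), (nat_lit 2)],
  [(nat_lit 0), (nat_lit 1), (nat_lit 3)],
  [(nat_lit 0), (nat_lit 2), (nat_lit 3)],
  [(nat_lit 0), (nat_lit 3), (nat_lit 1)],
  [(nat_lit 1), (nat_lit 1), (nat_lit 2)],
  [(nat_lit 1), (nat_lit 2), (nat_lit 3)],
  [(nat_lit 1), (nat_lit 3), (nat_lit 0)],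
  [(nat_lit 2), (nat_lit 3), (nat_lit 0)],
  [(nat_lit 2), (nat_lit 3), (nat_lit 1)],
  [(nat_lit 3), (nat_lit 0), (nat_lit 1)],
  [(nat_lit 0), (nat_lit 0), (nat_lit 1), (nat_lit 1)],
  [(nat_lit 0), (nat_lit 0), (nat_lit 1), (nat_lit 2)],
  [(nat_lit 0), (nat_lit 1), (nat_lit 1), (nat_lit 2)],
  [(nat_lit 0), (nat_lit 1), (nat_lit 2), (nat_lit 3)],
  [(nat_lit 0), (nat_lit 2), (nat_lit 3), (nat_lit 1)],
  [(nat_lit 1), (nat_lit 2), (nat_lit 3), (nat_lit 0)],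
  [(nat_lit 2), (nat_lit 3), (nat_lit 0), (nat_lit 1)],
  [(nat_lit 0), (nat_lit 0), (nat_lit 1), (nat_lit 1), (nat_lit 2)]]
noncomputable def PM_lCT_h (c : ℕ) : ℕ := Nat.mod c (nat_lit 143)
theorem PM_lCT_E {G : Type*} [Group G] {R : ℕ → G → Prop} {t n a b e x z y : G} {H : Subgroup G}
    (M : Mdl PN_o PM_cs PN_L R [t, n, a, a⁻¹, b, b⁻¹, e, e⁻¹, x, x⁻¹, z, y] H) :
    EnumS R PM_lCT (sp [a * b, e, t, n]) :=
  enumS_sp M.μ.1 (M.reps.tms M.μ.1 [(.mul (.v (nat_lit 2)) (.v (nat_lit 4))), (.v (nat_lit 6)), (.v (nat_lit 0)), (.v (nat_lit 1))] (cs' := [(nat_lit 0x876354021), (nat_lit 0x687543210), (nat_lit 0x876210543), (nat_lit 0x786453120)]) (by decide +kernel))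
    (Ws := PM_lCT_W) (by decide +kernel) (by decide +kernel)
theorem PM_lCT_c {G : Type*} [Group G] {R : ℕ → G → Prop} {t n a b e x z y : G} {H : Subgroup G}
    (M : Mdl PN_o PM_cs PN_L R [t, n, a, a⁻¹, b, b⁻¹, e, e⁻¹, x, x⁻¹, z, y] H) :
    #(sp [a * b, e, t, n]) = 36 :=
  (PM_lCT_E M).card M.μ (h := PM_lCT_h) (by decide +kernel)
noncomputable def PM_lV : List ℕ := [(nat_lit 0x876543210), (nat_lit 0x876210543), (nat_lit 0x786453120), (nat_lit 0x786120453)]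
noncomputable def PM_lV_W : List (List ℕ) := [[],
  [(nat_lit 0)],
  [(nat_lit 1)],
  [(nat_lit 0), (nat_lit 1)]]
noncomputable def PM_lV_h (c : ℕ) : ℕ := Nat.mod c (nat_lit 11)
theorem PM_lV_E {G : Type*} [Group G] {R : ℕ → G → Prop} {t n a b e x z y : G} {H : Subgroup G}
    (M : Mdl PN_o PM_cs PN_L R [t, n, a, a⁻¹, b, b⁻¹, e, e⁻¹, x, x⁻¹, z, y] H) :
    EnumS R PM_lV (sp [t, n]) :=
  enumS_sp M.μ.1 (M.reps.tms M.μ.1 [(.v (nat_lit 0)), (.v (nat_lit 1))] (cs' := [(nat_lit 0x876210543), (nat_lit 0x786453120)]) (by decide +kernel))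
    (Ws := PM_lV_W) (by decide +kernel) (by decide +kernel)
theorem PM_lV_c {G : Type*} [Group G] {R : ℕ → G → Prop} {t n a b e x z y : G} {H : Subgroup G}
    (M : Mdl PN_o PM_cs PN_L R [t, n, a, a⁻¹, b, b⁻¹, e, e⁻¹, x, x⁻¹, z, y] H) :
    #(sp [t, n]) = 4 :=
  (PM_lV_E M).card M.μ (h := PM_lV_h) (by decide +kernel)
noncomputable def PM_r_f_F : Fm := (.qf (.and (.eq (.mul (.v (nat_lit 1)) (.v (nat_lit 1))) .one) (.and (.eq (.mul (.mul (.v (nat_lit 1)) (.v (nat_lit 2))) (.inv (.v (nat_lit 1)))) (.inv (.v (nat_lit 2)))) (.and (.eq (.mul (.mul (.v (nat_lit 1)) (.v (nat_lit 4))) (.inv (.v (nat_lit 1)))) (.inv (.v (nat_lit 4)))) (.and (.eq (.mul (.mul (.v (nat_lit 1)) (.v (nat_lit 6))) (.inv (.v (nat_lit 1)))) (.inv (.v (nat_lit 6)))) (.and (.eq (.mul (.v (nat_lit 1)) (.v (nat_lit 0))) (.mul (.v (nat_lit 0)) (.v (nat_lit 1)))) (.eq (.mul (.v (nat_lit 1)) (.v (nat_lit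 8))) (.mul (.v (nat_lit 8)) (.v (nat_lit 1))))))))))
theorem PM_r_f_chk : Fm.chk PN_o PM_r_f_F PM_cs = true := by decide +kernel
theorem PM_r_f {G : Type*} [Group G] {R : ℕ → G → Prop} {t n a b e x z y : G} {H : Subgroup G}
    (M : Mdl PN_o PM_cs PN_L R [t, n, a, a⁻¹, b, b⁻¹, e, e⁻¹, x, x⁻¹, z, y] H) :
    n * n = 1 ∧ n * a * n⁻¹ = a⁻¹ ∧ n * b * n⁻¹ = b⁻¹ ∧ n * e * n⁻¹ = e⁻¹ ∧ n * t = t * n ∧ n * x = x * n :=
  Fm.sound M.μ PM_r_f_F PM_r_f_chk M.reps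
theorem PM_r {G : Type*} [Group G] {R : ℕ → G → Prop} {t n a b e x z y : G} {H : Subgroup G}
    (M : Mdl PN_o PM_cs PN_L R [t, n, a, a⁻¹, b, b⁻¹, e, e⁻¹, x, x⁻¹, z, y] H) :
    Nn a b e x t n :=
  have h := PM_r_f M
  ⟨h.1, h.2.1, h.2.2.1, h.2.2.2.1, h.2.2.2.2.1, h.2.2.2.2.2, trivial⟩
noncomputable def PM_e_F : Fm := (.qf (.and (.eq (.mul (.mul (.v (nat_lit 0)) (.v (nat_lit 1))) (.mul (.v (nat_lit 0)) (.v (nat_lit 1)))) .one) (.and (.not (.eq (.mul (.v (nat_lit 0)) (.v (nat_lit 1))) .one)) (.and (.eq (.mul (.mul (.v (nat_lit 0)) (.v (nat_lit 1))) (.v (nat_lit 11))) (.mul (.v (nat_lit 11)) (.mul (.v (nat_lit 0)) (.v (nat_lit 1))))) (.and (.eq (.mul (.mul (.mul (.v (nat_lit 0)) (.v (nat_lit 1))) (.v (nat_lit 8))) (.inv (.mul (.v (nat_lit 0)) (.v (nat_lit 1))))) (.inv (.v (nat_lit 8)))) (.and (.eq (.mul (.mul (.mul (.v (nat_lit 0)) (.v (nat_lit 1))) (.v (nat_lit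 10))) (.inv (.mul (.v (nat_lit 0)) (.v (nat_lit 1))))) (.inv (.v (nat_lit 10)))) (.and (.eq (.mul (.mul (.mul (.v (nat_lit 0)) (.v (nat_lit 1))) (.v (nat_lit 6))) (.inv (.mul (.v (nat_lit 0)) (.v (nat_lit 1))))) (.inv (.v (nat_lit 6)))) (.eq (.mul (.mul (.v (nat_lit 1)) (.v (nat_lit 10))) (.inv (.v (nat_lit 1)))) (.inv (.v (nat_lit 10)))))))))))
theorem PM_e_chk : Fm.chk PN_o PM_e_F PM_cs = true := by decide +kernel
theorem PM_e {G : Type*} [Group G] {R : ℕ → G → Prop} {t n a b e x z y : G} {H : Subgroup G}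
    (M : Mdl PN_o PM_cs PN_L R [t, n, a, a⁻¹, b, b⁻¹, e, e⁻¹, x, x⁻¹, z, y] H) :
    t * n * (t * n) = 1 ∧ t * n ≠ 1 ∧ t * n * y = y * (t * n) ∧ t * n * x * (t * n)⁻¹ = x⁻¹ ∧ t * n * z * (t * n)⁻¹ = z⁻¹ ∧ t * n * e * (t * n)⁻¹ = e⁻¹ ∧ n * z * n⁻¹ = z⁻¹ :=
  Fm.sound M.μ PM_e_F PM_e_chk M.reps
noncomputable def PM_N_F : Fm := (.all PN_L (.qf (.and (.mem (.mul (.v (nat_lit 0)) (.v (nat_lit 0))) PM_lS) (.or (.eq (.mul (.v (nat_lit 0)) (.v (nat_lit 11))) (.mul (.v (nat_lit 11)) (.v (nat_lit 0)))) (.eq (.mul (.mul (.v (nat_lit 2)) (.v (nat_lit 0))) (.v (nat_lit 11))) (.mul (.v (nat_lit 11)) (.mul (.v (nat_lit 2)) (.v (nat_lit 0)))))))))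
theorem PM_N_chk : Fm.chk PN_o PM_N_F PM_cs = true := by decide +kernel
theorem PM_N {G : Type*} [Group G] {R : ℕ → G → Prop} {t n a b e x z y : G} {H : Subgroup G}
    (M : Mdl PN_o PM_cs PN_L R [t, n, a, a⁻¹, b, b⁻¹, e, e⁻¹, x, x⁻¹, z, y] H) :
    ∀ k ∈ H, k * k ∈ sp [a, b, e, x] ∧ (k * z = z * k ∨ n * k * z = z * (n * k)) :=
  have h : ∀ k, InL PN_o R PN_L k → InS R PM_lS (k * k) ∧ (k * z = z * k ∨ n * k * z = z * (n * k)) :=
    Fm.sound M.μ PM_N_F PM_N_chk M.reps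
  (fun k h0 => ((and_congr (PM_lS_E M).iff Iff.rfl).1 (h k (M.H.iff.2 h0))))
noncomputable def PM_cf_F : Fm := (.allS PM_lF (.all PN_L (.imp (.eq (.mul (.v (nat_lit 0)) (.v (nat_lit 1))) (.mul (.v (nat_lit 1)) (.v (nat_lit 0)))) (.qf (.or (.mem (.v (nat_lit 1)) PM_lZ) (.or (.mem (.v (nat_lit 0)) PM_lJ) (.mem (.mul (.v (nat_lit 2)) (.v (nat_lit 0))) PM_lJ)))))))
theorem PM_cf_chk : Fm.chk PN_o PM_cf_F PM_cs = true := by decide +kernel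
theorem PM_cf {G : Type*} [Group G] {R : ℕ → G → Prop} {t n a b e x z y : G} {H : Subgroup G}
    (M : Mdl PN_o PM_cs PN_L R [t, n, a, a⁻¹, b, b⁻¹, e, e⁻¹, x, x⁻¹, z, y] H) :
    ∀ f ∈ sp [a * b, e], ∀ d ∈ H, d * f = f * d → f ∈ sp [z] ∨ d ∈ sp [a, b, e] ∨ t * d ∈ sp [a, b, e] :=
  have h : ∀ f, InS R PM_lF f → ∀ d, InL PN_o R PN_L d → d * f = f * d → InS R PM_lZ (f) ∨ InS R PM_lJ (d) ∨ InS R PM_lJ (t * d) :=
    Fm.sound M.μ PM_cf_F PM_cf_chk M.reps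
  (fun f h0 => (fun d h1 => (fun h2 => ((or_congr (PM_lZ_E M).iff (or_congr (PM_lJ_E M).iff (PM_lJ_E M).iff)).1 (((h f ((PM_lF_E M).iff.2 h0)) d (M.H.iff.2 h1)) h2)))))
noncomputable def PM_cy_F : Fm := (.all PN_L (.imp (.eq (.mul (.v (nat_lit 0)) (.v (nat_lit 12))) (.mul (.v (nat_lit 12)) (.v (nat_lit 0)))) (.qf (.and (.or (.mem (.v (nat_lit 0)) PM_lJ) (.mem (.mul (.mul (.v (nat_lit 1)) (.v (nat_lit 2))) (.v (nat_lit 0))) PM_lJ)) (.or (.not (.eq (.mul (.v (nat_lit 0)) (.mul (.v (nat_lit 1)) (.v (nat_lit 2)))) (.mul (.mul (.v (nat_lit 1)) (.v (nat_lit 2))) (.v (nat_lit 0))))) (.mem (.mul (.v (nat_lit 0)) (.v (nat_lit 0))) PM_lY))))))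
theorem PM_cy_chk : Fm.chk PN_o PM_cy_F PM_cs = true := by decide +kernel
theorem PM_cy {G : Type*} [Group G] {R : ℕ → G → Prop} {t n a b e x z y : G} {H : Subgroup G}
    (M : Mdl PN_o PM_cs PN_L R [t, n, a, a⁻¹, b, b⁻¹, e, e⁻¹, x, x⁻¹, z, y] H) :
    ∀ d ∈ H, d * y = y * d → (d ∈ sp [a, b, e] ∨ t * n * d ∈ sp [a, b, e]) ∧ (d * (t * n) ≠ t * n * d ∨ d * d ∈ sp [y]) :=
  have h : ∀ d, InL PN_o R PN_L d → d * y = y * d → (InS R PM_lJ (d) ∨ InS R PM_lJ (t * n * d)) ∧ (d * (t * n) ≠ t * n * d ∨ InS R PM_lY (d * d)) :=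
    Fm.sound M.μ PM_cy_F PM_cy_chk M.reps
  (fun d h0 => (fun h1 => ((and_congr (or_congr (PM_lJ_E M).iff (PM_lJ_E M).iff) (or_congr Iff.rfl (PM_lY_E M).iff)).1 ((h d (M.H.iff.2 h0)) h1))))
noncomputable def PM_sF_F : Fm := (.allS PM_lJ (.qf (.mem (.mul (.inv (.v (nat_lit 0))) (.mul (.mul (.mul (.v (nat_lit 1)) (.v (nat_lit 2))) (.v (nat_lit 0))) (.inv (.mul (.v (nat_lit 1)) (.v (nat_lit 2)))))) PM_lF)))
theorem PM_sF_chk : Fm.chk PN_o PM_sF_F PM_cs = true := by decide +kernel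
theorem PM_sF {G : Type*} [Group G] {R : ℕ → G → Prop} {t n a b e x z y : G} {H : Subgroup G}
    (M : Mdl PN_o PM_cs PN_L R [t, n, a, a⁻¹, b, b⁻¹, e, e⁻¹, x, x⁻¹, z, y] H) :
    ∀ j ∈ sp [a, b, e], j⁻¹ * (t * n * j * (t * n)⁻¹) ∈ sp [a * b, e] :=
  have h : ∀ j, InS R PM_lJ j → InS R PM_lF (j⁻¹ * (t * n * j * (t * n)⁻¹)) :=
    Fm.sound M.μ PM_sF_F PM_sF_chk M.reps
  (fun j h0 => ((PM_lF_E M).iff.1 (h j ((PM_lJ_E M).iff.2 h0))))
noncomputable def PM_F_F : Fm := (.allS PM_lF (.qf (.eq (.mul (.mul (.mul (.v (nat_lit 1)) (.v (nat_lit 2))) (.v (nat_lit 0))) (.inv (.mul (.v (nat_lit 1)) (.v (nat_lit 2))))) (.inv (.v (nat_lit 0))))))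
theorem PM_F_chk : Fm.chk PN_o PM_F_F PM_cs = true := by decide +kernel
theorem PM_F {G : Type*} [Group G] {R : ℕ → G → Prop} {t n a b e x z y : G} {H : Subgroup G}
    (M : Mdl PN_o PM_cs PN_L R [t, n, a, a⁻¹, b, b⁻¹, e, e⁻¹, x, x⁻¹, z, y] H) :
    ∀ f ∈ sp [a * b, e], t * n * f * (t * n)⁻¹ = f⁻¹ :=
  have h : ∀ f, InS R PM_lF f → t * n * f * (t * n)⁻¹ = f⁻¹ :=
    Fm.sound M.μ PM_F_F PM_F_chk M.reps
  (fun f h0 => (h f ((PM_lF_E M).iff.2 h0)))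
noncomputable def PM_W_F : Fm := (.allS PM_lW (.qf (.eq (.mul (.mul (.mul (.v (nat_lit 1)) (.v (nat_lit 2))) (.v (nat_lit 0))) (.inv (.mul (.v (nat_lit 1)) (.v (nat_lit 2))))) (.inv (.v (nat_lit 0))))))
theorem PM_W_chk : Fm.chk PN_o PM_W_F PM_cs = true := by decide +kernel
theorem PM_W {G : Type*} [Group G] {R : ℕ → G → Prop} {t n a b e x z y : G} {H : Subgroup G}
    (M : Mdl PN_o PM_cs PN_L R [t, n, a, a⁻¹, b, b⁻¹, e, e⁻¹, x, x⁻¹, z, y] H) :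
    ∀ v ∈ sp [x, z], t * n * v * (t * n)⁻¹ = v⁻¹ :=
  have h : ∀ v, InS R PM_lW v → t * n * v * (t * n)⁻¹ = v⁻¹ :=
    Fm.sound M.μ PM_W_F PM_W_chk M.reps
  (fun v h0 => (h v ((PM_lW_E M).iff.2 h0)))
noncomputable def PM_ct_F : Fm := (.all PN_L (.imp (.eq (.mul (.v (nat_lit 0)) (.v (nat_lit 1))) (.mul (.v (nat_lit 1)) (.v (nat_lit 0)))) (.and (.qf (.mem (.mul (.v (nat_lit 0)) (.v (nat_lit 0))) PM_lF)) (.and (.qf (.mem (.v (nat_lit 0)) PM_lCT)) (.or (.allS PM_lF (.qf (.eq (.mul (.mul (.v (nat_lit 1)) (.v (nat_lit 0))) (.inv (.v (nat_lit 1)))) (.v (nat_lit 0))))) (.allS PM_lF (.qf (.eq (.mul (.mul (.v (nat_lit 1)) (.v (nat_lit 0))) (.inv (.v (nat_lit 1)))) (.inv (.v (nat_lit 0)))))))))))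
theorem PM_ct_chk : Fm.chk PN_o PM_ct_F PM_cs = true := by decide +kernel
theorem PM_ct {G : Type*} [Group G] {R : ℕ → G → Prop} {t n a b e x z y : G} {H : Subgroup G}
    (M : Mdl PN_o PM_cs PN_L R [t, n, a, a⁻¹, b, b⁻¹, e, e⁻¹, x, x⁻¹, z, y] H) :
    ∀ d ∈ H, d * t = t * d → d * d ∈ sp [a * b, e] ∧ d ∈ sp [a * b, e, t, n] ∧ ((∀ f ∈ sp [a * b, e], d * f * d⁻¹ = f) ∨ (∀ f ∈ sp [a * b, e], d * f * d⁻¹ = f⁻¹)) :=
  have h : ∀ d, InL PN_o R PN_L d → d * t = t * d → InS R PM_lF (d * d) ∧ InS R PM_lCT (d) ∧ ((∀ f, InS R PM_lF f → d * f * d⁻¹ = f) ∨ (∀ f, InS R PM_lF f → d * f * d⁻¹ = f⁻¹)) :=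
    Fm.sound M.μ PM_ct_F PM_ct_chk M.reps
  (fun d h0 => (fun h1 => (And.imp (fun h2 => ((PM_lF_E M).iff.1 h2)) (fun h2 => (And.imp (fun h3 => ((PM_lCT_E M).iff.1 h3)) (fun h3 => (Or.imp (fun h4 => (fun f h5 => (h4 f ((PM_lF_E M).iff.2 h5)))) (fun h4 => (fun f h5 => (h4 f ((PM_lF_E M).iff.2 h5)))) h3)) h2)) ((h d (M.H.iff.2 h0)) h1))))
noncomputable def PM_inv_t0 : ST := (.node (nat_lit 15) (.node (nat_lit 7) (.node (nat_lit 4) (.node (nat_lit 2) (.leaf (nat_lit 117)) (.leaf (nat_lit 54))) (.node (nat_lit 6) (.leaf (nat_lit 119)) (.leaf (nat_lit 0)))) (.node (nat_lit 10) (.node (nat_lit 9) (.leaf (nat_lit 171)) (.leaf (nat_lit 227))) (.node (nat_lit 11) (.leaf (nat_lit 54)) (.node (nat_lit 12) (.leaf (nat_lit 279)) (.leaf (nat_lit 9)))))) (.node (nat_lit 20) (.node (nat_lit 18) (.node (nat_lit 16) (.leaf (nat_lit 11)) (.leaf (nat_lit 63))) (.node (nat_lit 19)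 (.leaf (nat_lit 216)) (.leaf (nat_lit 65)))) (.node (nat_lit 26) (.node (nat_lit 24) (.leaf (nat_lit 173)) (.leaf (nat_lit 281))) (.node (nat_lit 27) (.leaf (nat_lit 216)) (.node (nat_lit 29) (.leaf (nat_lit 225)) (.leaf (nat_lit 0)))))))
noncomputable def PM_inv_F : Fm := (.all PN_L (.imp (.eq (.mul (.v (nat_lit 0)) (.v (nat_lit 1))) (.mul (.v (nat_lit 1)) (.v (nat_lit 0)))) (.imp (.eq (.mul (.v (nat_lit 0)) (.v (nat_lit 0))) .one) (.or (.qf (.eq (.v (nat_lit 0)) .one)) (.or (.qf (.eq (.v (nat_lit 0)) (.v (nat_lit 1)))) (.exF PN_L (fun cs => PM_inv_t0.find (Nat.mod (nth (nat_lit 0) cs (nat_lit 0)) (nat_lit 31))) (.qf (.or (.eq (.mul (.mul (.v (nat_lit 0)) (.v (nat_lit 1))) (.inv (.v (nat_lit 0)))) (.v (nat_lit 3))) (.eq (.mul (.mul (.v (nat_lit 0)) (.v (nat_lit 1))) (.inv (.v (nat_lit 0)))) (.mul (.v (nat_lit 2)) (.v (nat_lit 3))))))))))))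
theorem PM_inv_chk : Fm.chk PN_o PM_inv_F PM_cs = true := by decide +kernel
theorem PM_inv {G : Type*} [Group G] {R : ℕ → G → Prop} {t n a b e x z y : G} {H : Subgroup G}
    (M : Mdl PN_o PM_cs PN_L R [t, n, a, a⁻¹, b, b⁻¹, e, e⁻¹, x, x⁻¹, z, y] H) :
    ∀ d ∈ H, d * t = t * d → d * d = 1 → d = 1 ∨ d = t ∨ (∃ m ∈ H, m * d * m⁻¹ = n ∨ m * d * m⁻¹ = t * n) :=
  have h : ∀ d, InL PN_o R PN_L d → d * t = t * d → d * d = 1 → d = 1 ∨ d = t ∨ (Good PN_o R PN_L → prods PN_o PN_L PN_o.one ≠ [] → ∃ m, InL PN_o R PN_L m ∧ (m * d * m⁻¹ = n ∨ m * d * m⁻¹ = t * n)) :=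
    Fm.sound M.μ PM_inv_F PM_inv_chk M.reps
  (fun d h0 => (fun h1 => (fun h2 => (Or.imp (fun h3 => h3) (fun h3 => (Or.imp (fun h4 => h4) (fun h4 => (Exists.imp (fun m h5 => ⟨M.H.iff.1 h5.1, h5.2⟩) (h4 M.H.good M.H.ne))) h3)) (((h d (M.H.iff.2 h0)) h1) h2)))))
noncomputable def PM_CT_F : Fm := (.allS PM_lCT (.qf (.eq (.mul (.v (nat_lit 0)) (.v (nat_lit 1))) (.mul (.v (nat_lit 1)) (.v (nat_lit 0))))))
theorem PM_CT_chk : Fm.chk PN_o PM_CT_F PM_cs = true := by decide +kernel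
theorem PM_CT {G : Type*} [Group G] {R : ℕ → G → Prop} {t n a b e x z y : G} {H : Subgroup G}
    (M : Mdl PN_o PM_cs PN_L R [t, n, a, a⁻¹, b, b⁻¹, e, e⁻¹, x, x⁻¹, z, y] H) :
    ∀ d ∈ sp [a * b, e, t, n], d * t = t * d :=
  have h : ∀ d, InS R PM_lCT d → d * t = t * d :=
    Fm.sound M.μ PM_CT_F PM_CT_chk M.reps
  (fun d h0 => (h d ((PM_lCT_E M).iff.2 h0)))
noncomputable def PM_cj_F : Fm := (.allS PM_lJ (.or (.qf (.mem (.v (nat_lit 0)) PM_lZ)) (.all PN_L (.imp (.eq (.mul (.v (nat_lit 0)) (.v (nat_lit 1))) (.mul (.v (nat_lit 1)) (.v (nat_lit 0)))) (.qf (.mem (.mul (.v (nat_lit 0)) (.v (nat_lit 0))) PM_lJ))))))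
theorem PM_cj_chk : Fm.chk PN_o PM_cj_F PM_cs = true := by decide +kernel
theorem PM_cj {G : Type*} [Group G] {R : ℕ → G → Prop} {t n a b e x z y : G} {H : Subgroup G}
    (M : Mdl PN_o PM_cs PN_L R [t, n, a, a⁻¹, b, b⁻¹, e, e⁻¹, x, x⁻¹, z, y] H) :
    ∀ j ∈ sp [a, b, e], j ∈ sp [z] ∨ (∀ k ∈ H, k * j = j * k → k * k ∈ sp [a, b, e]) :=
  have h : ∀ j, InS R PM_lJ j → InS R PM_lZ (j) ∨ (∀ k, InL PN_o R PN_L k → k * j = j * k → InS R PM_lJ (k * k)) :=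
    Fm.sound M.μ PM_cj_F PM_cj_chk M.reps
  (fun j h0 => (Or.imp (fun h1 => ((PM_lZ_E M).iff.1 h1)) (fun h1 => (fun k h2 => (fun h3 => ((PM_lJ_E M).iff.1 ((h1 k (M.H.iff.2 h2)) h3))))) (h j ((PM_lJ_E M).iff.2 h0))))
def GLr {G : Type*} [Group G] (q y t : G) : Prop :=
  q ^ 4 = 1 ∧
  y ^ 3 = 1 ∧
  t * t = 1 ∧
  (q * y) ^ 3 = 1 ∧
  (q * t) ^ 2 = 1 ∧
  t * y * t⁻¹ = y⁻¹ ∧
  q * q * y = y * (q * q) ∧ True
noncomputable def GL_Rl : List (List ℕ) := [[0,0],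
  [1,2],
  [2,1],
  [3,4],
  [4,3],
  [1,1,1,1],
  [3,3,3],
  [3,1,3,1,3,1],
  [0,1,0,1],
  [3,0,3,0],
  [4,2,2,3,1,1]]
theorem GL_r {G : Type*} [Group G] {t q y : G}
    (h : GLr q y t) :
    Rels (nthG [t, q, q⁻¹, y, y⁻¹]) GL_Rl :=
  rels_of_eqs ((InvI.cons h.2.2.1 InvI.nil) : InvI [t, q, y] [(nat_lit 0)])
    (show AllEq [t, q, y] [((.pw (.v (nat_lit 1)) (nat_lit 4)), .one), ((.pw (.v (nat_lit 2)) (nat_lit 3)), .one), ((.mul (.v (nat_lit 0)) (.v (nat_lit 0))), .one), ((.pw (.mul (.v (nat_lit 1)) (.v (nat_lit 2))) (nat_lit 3)), .one), ((.pw (.mul (.v (nat_lit 1)) (.v (nat_lit 0))) (nat_lit 2)), .one), ((.mul (.mul (.v (nat_lit 0)) (.v (nat_lit 2))) (.inv (.v (nat_lit 0)))), (.inv (.v (nat_lit 2)))), ((.mul (.mul (.v (nat_lit 1)) (.v (nat_lit 1))) (.v (nat_lit 2))), (.mul (.v (nat_lit 2)) (.mul (.v (nat_lit 1)) (.v (nat_lit 1)))))] from h)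
    [(.v (nat_lit 0)), (.v (nat_lit 1)), (.inv (.v (nat_lit 1))), (.v (nat_lit 2)), (.inv (.v (nat_lit 2)))] (by decide +kernel)
noncomputable abbrev GL_o : Ops := pops (nat_lit 8) (nat_lit 3) (nat_lit 7) (nat_lit 0xfac688)
noncomputable def GL_cs : List ℕ := [(nat_lit 0x8d7d48), (nat_lit 0x9cbc15), (nat_lit 0xcc786a), (nat_lit 0xd7a8c8), (nat_lit 0xbf3508)]
noncomputable def GL_L : List (List ℕ) := [[(nat_lit 0xfac688), (nat_lit 0x9cbc15), (nat_lit 0xcc786a), (nat_lit 0x716f41), (nat_lit 0x58ca1f), (nat_lit 0x74ae26), (nat_lit 0xb0647b), (nat_lit 0xe85674)],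
  [(nat_lit 0xfac688), (nat_lit 0x8d7d48), (nat_lit 0xd7a8c8), (nat_lit 0xbf3508), (nat_lit 0x51ebc8), (nat_lit 0x6a5f88)]]
noncomputable def GL_WW : List (List (List ℕ)) := [[[],
  [(nat_lit 1)],
  [(nat_lit 2)],
  [(nat_lit 1), (nat_lit 1)],
  [(nat_lit 1), (nat_lit 3)],
  [(nat_lit 1), (nat_lit 4)],
  [(nat_lit 2), (nat_lit 3)],
  [(nat_lit 2), (nat_lit 4)]],
  [[],
  [(nat_lit 0)],
  [(nat_lit 3)],
  [(nat_lit 4)],
  [(nat_lit 0), (nat_lit 3)],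
  [(nat_lit 0), (nat_lit 4)]]]
noncomputable def GL_b3_S0 : List ℕ := [nat_lit 0x13000007000010008008, nat_lit 0x1700000700000c006008, nat_lit 0x1b00000b000010004006, nat_lit 0x1f000013000018004006, nat_lit 0x1f000002000009008008]
noncomputable def GL_b3_S : List (List ℕ) := [GL_b3_S0]
noncomputable def GL_b3_defs : List ℕ := [(nat_lit 0x10000400100002002000010010000100200000001000000000000000000000)]
noncomputable def GL_b3_recs : List ℕ := [(nat_lit 0x600007010000500007010000300006000000200005000000300004)]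
noncomputable def GL_b3_L0 : List ℕ := [nat_lit 0x700000100000b00000200000f000003, nat_lit 0x8000000000013000004000017000005, nat_lit 0x600000500001b00000600000c000000, nat_lit 0x200000400001000000000000a000006, nat_lit 0x100000300001f000007000014000001, nat_lit 0x500000200001800000100000e000007, nat_lit 0x1200000700000900000300001c000002, nat_lit 0x1100000600000d000005000020000004]
noncomputable def GL_b3_L : List (List ℕ) := [GL_b3_L0]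
noncomputable def GL_b3_V : List ℕ := [(nat_lit 0x700000006000000050000000400000003000000020000000100000000)]
noncomputable def GL_b3_D : H26.Dag := ⟨[0,2,1], [[0,0],
  [1,2],
  [2,1],
  [1,1,1,1],
  [0,1,0,1]], [], GL_b3_defs, GL_b3_recs⟩
theorem GL_b3_c : GL_b3_D.checkTab GL_b3_S 8 3 GL_b3_V GL_b3_L = true := by decide +kernel
theorem GL_b3 : Bound GL_Rl 3 8 :=
  bound_dag (Bound.zero GL_Rl) (K := 3) (J := [0,1,2,5,8]) (by decide +kernel) GL_b3_c (by decide +kernel)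
noncomputable def GL_b5_S0 : List ℕ := [nat_lit 0x1, nat_lit 0x1, nat_lit 0xb00000800600a, nat_lit 0xb00000100000800a010, nat_lit 0xf000007000006000006000008014012, nat_lit 0x1300000e00001100800e, nat_lit 0x1300000a000010000012000009014012, nat_lit 0xf00000700000500000c00001900000c, nat_lit 0x1700001e00600a, nat_lit 0x1700001500002100a010, nat_lit 0x1700001200000900001400002100a00c]
noncomputable def GL_b5_S : List (List ℕ) := [GL_b5_S0]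
noncomputable def GL_b5_defs : List ℕ := [(nat_lit 0x4000030010000200100001004000000030000000000000)]
noncomputable def GL_b5_recs : List ℕ := [(nat_lit 0x20000500005000000500005040000400005030000400003010000200004000000300004010000100003000000100002040000100002010000000000000000000000)]
noncomputable def GL_b5_L0 : List ℕ := [nat_lit 0x100000000000500000000000600000000000700000100000b000002, nat_lit 0xe00000200000f00000300001200000300000a000002000008000000, nat_lit 0xd00000100001300000400001a00000400000c000000000009000001, nat_lit 0x1600000400001100000100001000000100001d000004000017000005, nat_lit 0x1500000300001900000200001400000200002200000500001e000003, nat_lit 0x2500000500002a000005000029000005000018000003000021000004]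
noncomputable def GL_b5_L : List (List ℕ) := [GL_b5_L0]
noncomputable def GL_b5_V : List ℕ := [(nat_lit 0x50000000400000003000000020000000100000000)]
noncomputable def GL_b5_D : H26.Dag := ⟨[0,2,1,4,3], [[0,0],
  [1,2],
  [2,1],
  [3,4],
  [4,3],
  [3,3,3],
  [3,1,3,1,3,1],
  [0,1,0,1],
  [3,0,3,0],
  [4,2,2,3,1,1]], [0,1,2], GL_b5_defs, GL_b5_recs⟩
theorem GL_b5_c : GL_b5_D.checkTab GL_b5_S 6 5 GL_b5_V GL_b5_L = true := by decide +kernel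
theorem GL_b5 : Bound GL_Rl 5 48 :=
  bound_dag GL_b3 (K := 5) (J := [0,1,2,3,4,6,7,8,9,10]) (by decide +kernel) GL_b5_c (by decide +kernel)
theorem GL_P : PModel (nat_lit 8) (nat_lit 3) (nat_lit 7) (nat_lit 0xfac688) GL_cs GL_Rl GL_L 48 :=
  ⟨PkOK.of (by decide +kernel), by decide +kernel, by decide +kernel, GL_b5, ⟨GL_WW, by decide +kernel⟩,
    ⟨fun c => Nat.mod c (nat_lit 72), by decide +kernel⟩⟩
noncomputable def GL_soc_t0 : ST := (.node (nat_lit 167) (.node (nat_lit 69) (.node (nat_lit 36) (.node (nat_lit 22) (.node (nat_lit 8) (.leaf (nat_lit 32)) (.leaf (nat_lit 40))) (.node (nat_lit 26) (.leaf (nat_lit 8)) (.leaf (nat_lit 40)))) (.node (nat_lit 61) (.node (nat_lit 42) (.leaf (nat_lit 32)) (.leaf (nat_lit 40))) (.node (nat_lit 65) (.leaf (nat_lit 32)) (.node (nat_lit 66) (.leaf (nat_lit 8)) (.leaf (nat_lit 0)))))) (.node (nat_lit 113) (.node (nat_lit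 94) (.node (nat_lit 74) (.leaf (nat_lit 8)) (.leaf (nat_lit 0))) (.node (nat_lit 104) (.leaf (nat_lit 32)) (.node (nat_lit 108) (.leaf (nat_lit 8)) (.leaf (nat_lit 32))))) (.node (nat_lit 124) (.node (nat_lit 122) (.leaf (nat_lit 40)) (.leaf (nat_lit 8))) (.node (nat_lit 129) (.leaf (nat_lit 0)) (.node (nat_lit 141) (.leaf (nat_lit 40)) (.leaf (nat_lit 8))))))) (.node (nat_lit 226) (.node (nat_lit 191) (.node (nat_lit 170) (.node (nat_lit 169) (.leaf (nat_lit 0)) (.leaf (nat_lit 8))) (.node (nat_lit 177) (.leaf (nat_lit 32)) (.node (nat_lit 180) (.leaf (nat_lit 0)) (.leaf (nat_lit 40))))) (.node (nat_lit 205) (.node (nat_lit 200) (.leaf (nat_lit 8)) (.leaf (nat_lit 40))) (.node (nat_lit 219) (.leaf (nat_lit 32)) (.node (nat_lit 221) (.leaf (nat_lit 0)) (.leaf (nat_lit 32)))))) (.node (nat_lit 270) (.node (nat_lit 243) (.node (nat_lit 232) (.leaf (nat_lit 0))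 (.leaf (nat_lit 40))) (.node (nat_lit 251) (.leaf (nat_lit 0)) (.node (nat_lit 259) (.leaf (nat_lit 32)) (.leaf (nat_lit 8))))) (.node (nat_lit 287) (.node (nat_lit 274) (.leaf (nat_lit 32)) (.leaf (nat_lit 0))) (.node (nat_lit 288) (.leaf (nat_lit 32)) (.node (nat_lit 301) (.leaf (nat_lit 8)) (.leaf (nat_lit 0))))))))
noncomputable def GL_soc_t1 : ST := (.node (nat_lit 87) (.node (nat_lit 54) (.node (nat_lit 25) (.node (nat_lit 13) (.node (nat_lit 12) (.leaf (nat_lit 16)) (.leaf (nat_lit 40))) (.node (nat_lit 20) (.leaf (nat_lit 16)) (.leaf (nat_lit 8)))) (.node (nat_lit 31) (.node (nat_lit 27) (.leaf (nat_lit 1)) (.leaf (nat_lit 16))) (.node (nat_lit 40) (.leaf (nat_lit 8)) (.node (nat_lit 42) (.leaf (nat_lit 1)) (.leaf (nat_lit 40)))))) (.node (nat_lit 72) (.node (nat_lit 58) (.node (nat_lit 57) (.leaf (nat_lit 32)) (.leaf (nat_lit 1))) (.node (nat_lit 61)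 (.leaf (nat_lit 8)) (.node (nat_lit 68) (.leaf (nat_lit 1)) (.leaf (nat_lit 16))))) (.node (nat_lit 79) (.node (nat_lit 73) (.leaf (nat_lit 1)) (.leaf (nat_lit 8))) (.node (nat_lit 81) (.leaf (nat_lit 32)) (.node (nat_lit 83) (.leaf (nat_lit 1)) (.leaf (nat_lit 32))))))) (.node (nat_lit 119) (.node (nat_lit 102) (.node (nat_lit 93) (.node (nat_lit 88) (.leaf (nat_lit 8)) (.leaf (nat_lit 1))) (.node (nat_lit 94) (.leaf (nat_lit 0)) (.leaf (nat_lit 16)))) (.node (nat_lit 114) (.node (nat_lit 113) (.leaf (nat_lit 8)) (.leaf (nat_lit 1))) (.node (nat_lit 117) (.leaf (nat_lit 16)) (.node (nat_lit 118) (.leaf (nat_lit 8)) (.leaf (nat_lit 32)))))) (.node (nat_lit 133) (.node (nat_lit 123) (.node (nat_lit 120) (.leaf (nat_lit 40)) (.leaf (nat_lit 8))) (.node (nat_lit 124) (.leaf (nat_lit 16)) (.node (nat_lit 129) (.leaf (nat_lit 1)) (.leaf (nat_lit 32))))) (.node (nat_lit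 151) (.node (nat_lit 135) (.leaf (nat_lit 40)) (.leaf (nat_lit 8))) (.node (nat_lit 156) (.leaf (nat_lit 16)) (.node (nat_lit 159) (.leaf (nat_lit 32)) (.leaf (nat_lit 40))))))))
noncomputable def GL_soc_F : Fm := (.all GL_L (.or (.qf (.eq (.v (nat_lit 0)) .one)) (.exF GL_L (fun cs => GL_soc_t1.find (Nat.mod (nth (nat_lit 0) cs (nat_lit 0)) (nat_lit 164))) (.exF GL_L (fun cs => GL_soc_t0.find (Nat.mod (Nat.add (nth (nat_lit 0) cs (nat_lit 0)) (Nat.mul (nat_lit 7919) (nth (nat_lit 0) cs (nat_lit 1)))) (nat_lit 318))) (.qf (.or (.eq (.mul (.mul (.v (nat_lit 0)) (.v (nat_lit 2))) (.inv (.v (nat_lit 0)))) (.mul (.v (nat_lit 4)) (.v (nat_lit 4)))) (.or (.eq (.mul (.mul (.v (nat_lit 0)) (.v (nat_lit 2))) (.inv (.v (nat_lit 0)))) (.mul (.v (nat_lit 4)) (.v (nat_lit 4)))) (.or (.eq (.mul (.mul (.v (nat_lit 0)) (.mul (.mul (.mul (.v (nat_lit 2)) (.v (nat_lit 1))) (.inv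 (.v (nat_lit 2)))) (.inv (.v (nat_lit 1))))) (.inv (.v (nat_lit 0)))) (.mul (.v (nat_lit 4)) (.v (nat_lit 4)))) (.or (.eq (.mul (.mul (.v (nat_lit 0)) (.mul (.mul (.mul (.v (nat_lit 2)) (.v (nat_lit 1))) (.inv (.v (nat_lit 2)))) (.inv (.v (nat_lit 1))))) (.inv (.v (nat_lit 0)))) (.mul (.v (nat_lit 4)) (.v (nat_lit 4)))) (.or (.eq (.mul (.mul (.mul (.mul (.mul (.mul (.v (nat_lit 2)) (.v (nat_lit 1))) (.inv (.v (nat_lit 2)))) (.inv (.v (nat_lit 1)))) (.v (nat_lit 0))) (.inv (.mul (.mul (.mul (.v (nat_lit 2)) (.v (nat_lit 1))) (.inv (.v (nat_lit 2)))) (.inv (.v (nat_lit 1)))))) (.inv (.v (nat_lit 0)))) (.mul (.v (nat_lit 4)) (.v (nat_lit 4)))) (.eq (.mul (.mul (.mul (.mul (.mul (.mul (.v (nat_lit 2)) (.v (nat_lit 1))) (.inv (.v (nat_lit 2)))) (.inv (.v (nat_lit 1)))) (.v (nat_lit 0))) (.inv (.mul (.mul (.mul (.v (nat_lit 2)) (.v (nat_lit 1))) (.inv (.v (nat_lit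 2)))) (.inv (.v (nat_lit 1)))))) (.inv (.v (nat_lit 0)))) (.mul (.v (nat_lit 4)) (.v (nat_lit 4))))))))))))))
theorem GL_soc_chk : Fm.chk GL_o GL_soc_F GL_cs = true := by decide +kernel
theorem GL_soc {G : Type*} [Group G] {R : ℕ → G → Prop} {t q q_i y y_i : G} {H : Subgroup G}
    (M : Mdl GL_o GL_cs GL_L R [t, q, q_i, y, y_i] H) :
    ∀ y_ ∈ H, y_ = 1 ∨ (∃ q_ ∈ H, ∃ k_ ∈ H, k_ * y_ * k_⁻¹ = q * q ∨ k_ * y_ * k_⁻¹ = q * q ∨ k_ * ⁅y_, q_⁆ * k_⁻¹ = q * q ∨ k_ * ⁅y_, q_⁆ * k_⁻¹ = q * q ∨ ⁅⁅y_, q_⁆, k_⁆ = q * q ∨ ⁅⁅y_, q_⁆, k_⁆ = q * q) :=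
  have h : ∀ y_, InL GL_o R GL_L y_ → y_ = 1 ∨ (Good GL_o R GL_L → prods GL_o GL_L GL_o.one ≠ [] → ∃ q_, InL GL_o R GL_L q_ ∧ (Good GL_o R GL_L → prods GL_o GL_L GL_o.one ≠ [] → ∃ k_, InL GL_o R GL_L k_ ∧ (k_ * y_ * k_⁻¹ = q * q ∨ k_ * y_ * k_⁻¹ = q * q ∨ k_ * ⁅y_, q_⁆ * k_⁻¹ = q * q ∨ k_ * ⁅y_, q_⁆ * k_⁻¹ = q * q ∨ ⁅⁅y_, q_⁆, k_⁆ = q * q ∨ ⁅⁅y_, q_⁆, k_⁆ = q * q))) :=
    Fm.sound M.μ GL_soc_F GL_soc_chk M.reps
  (fun y_ h0 => (Or.imp (fun h1 => h1) (fun h1 => (Exists.imp (fun q_ h2 => ⟨M.H.iff.1 h2.1, (Exists.imp (fun k_ h3 => ⟨M.H.iff.1 h3.1, h3.2⟩) (h2.2 M.H.good M.H.ne))⟩) (h1 M.H.good M.H.ne))) (h y_ (M.H.iff.2 h0))))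
theorem GL_mdl {G : Type*} [Group G] {t q y : G}
    (h : GLr q y t)
    (n1 : q * q ≠ 1) :
    ∃ R, Mdl GL_o GL_cs GL_L R [t, q, q⁻¹, y, y⁻¹] (sp [t, q, q⁻¹, y, y⁻¹]) ∧ #(sp [t, q, q⁻¹, y, y⁻¹]) = 48 :=
  mdl_of GL_P rfl (GL_r h) (.mul (.v (nat_lit 1)) (.v (nat_lit 1))) (.mul (.v (nat_lit 1)) (.v (nat_lit 1))) n1 n1
    fun _ ms _ M hl => match ms, M, (hl : ms.length = 5) with
      | [_, _, _, _, _], M, _ => GL_soc M
noncomputable def GL_lT : List ℕ := [(nat_lit 0xfac688), (nat_lit 0x8d7d48), (nat_lit 0x9cbc15), (nat_lit 0x2b511f), (nat_lit 0x784e55), (nat_lit 0xa2159f), (nat_lit 0xf0e62a), (nat_lit 0x716f41), (nat_lit 0xa585e6), (nat_lit 0x35a1f4), (nat_lit 0x439af4), (nat_lit 0xcc786a), (nat_lit 0xdeb881), (nat_lit 774886), (nat_lit 0x1623bb), (nat_lit 0x470b3b)]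
noncomputable def GL_lT_W : List (List ℕ) := [[],
  [(nat_lit 0)],
  [(nat_lit 1)],
  [(nat_lit 2)],
  [(nat_lit 0), (nat_lit 1)],
  [(nat_lit 0), (nat_lit 2)],
  [(nat_lit 1), (nat_lit 0)],
  [(nat_lit 1), (nat_lit 1)],
  [(nat_lit 1), (nat_lit 2)],
  [(nat_lit 2), (nat_lit 0)],
  [(nat_lit 2), (nat_lit 1)],
  [(nat_lit 0), (nat_lit 1), (nat_lit 0)],
  [(nat_lit 0), (nat_lit 1), (nat_lit 1)],
  [(nat_lit 0), (nat_lit 1), (nat_lit 2)],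
  [(nat_lit 1), (nat_lit 1), (nat_lit 2)],
  [(nat_lit 1), (nat_lit 2), (nat_lit 0)]]
noncomputable def GL_lT_h (c : ℕ) : ℕ := Nat.mod c (nat_lit 40)
theorem GL_lT_E {G : Type*} [Group G] {R : ℕ → G → Prop} {t q y : G} {H : Subgroup G}
    (M : Mdl GL_o GL_cs GL_L R [t, q, q⁻¹, y, y⁻¹] H) :
    EnumS R GL_lT (sp [t, q, y * q * y⁻¹]) :=
  enumS_sp M.μ.1 (M.reps.tms M.μ.1 [(.v (nat_lit 0)), (.v (nat_lit 1)), (.mul (.mul (.v (nat_lit 3)) (.v (nat_lit 1))) (.inv (.v (nat_lit 3))))] (cs' := [(nat_lit 0x8d7d48), (nat_lit 0x9cbc15), (nat_lit 0x2b511f)]) (by decide +kernel))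
    (Ws := GL_lT_W) (by decide +kernel) (by decide +kernel)
theorem GL_lT_c {G : Type*} [Group G] {R : ℕ → G → Prop} {t q y : G} {H : Subgroup G}
    (M : Mdl GL_o GL_cs GL_L R [t, q, q⁻¹, y, y⁻¹] H) :
    #(sp [t, q, y * q * y⁻¹]) = 16 :=
  (GL_lT_E M).card M.μ (h := GL_lT_h) (by decide +kernel)
noncomputable def GL_T_t0 : ST := (.node (nat_lit 11) (.node (nat_lit 8) (.leaf (nat_lit 3)) (.leaf (nat_lit 2))) (.node (nat_lit 15) (.leaf (nat_lit 5)) (.leaf (nat_lit 0))))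
noncomputable def GL_T_F : Fm := (.allS GL_lT (.and (.qf (.eq (.pw (.v (nat_lit 0)) (nat_lit 8)) .one)) (.or (.qf (.not (.eq (.mul (.v (nat_lit 0)) (.v (nat_lit 0))) .one))) (.or (.qf (.eq (.v (nat_lit 0)) .one)) (.or (.qf (.eq (.v (nat_lit 0)) (.mul (.v (nat_lit 2)) (.v (nat_lit 2))))) (.exG GL_lT (fun cs => GL_T_t0.find (Nat.mod (nth (nat_lit 0) cs (nat_lit 0)) (nat_lit 17))) (.qf (.eq (.mul (.mul (.v (nat_lit 0)) (.v (nat_lit 1))) (.inv (.v (nat_lit 0)))) (.v (nat_lit 2))))))))))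
theorem GL_T_chk : Fm.chk GL_o GL_T_F GL_cs = true := by decide +kernel
theorem GL_T {G : Type*} [Group G] {R : ℕ → G → Prop} {t q y : G} {H : Subgroup G}
    (M : Mdl GL_o GL_cs GL_L R [t, q, q⁻¹, y, y⁻¹] H) :
    ∀ u ∈ sp [t, q, y * q * y⁻¹], u ^ 8 = 1 ∧ (u * u ≠ 1 ∨ u = 1 ∨ u = q * q ∨ (∃ m ∈ sp [t, q, y * q * y⁻¹], m * u * m⁻¹ = t)) :=
  have h : ∀ u, InS R GL_lT u → u ^ 8 = 1 ∧ (u * u ≠ 1 ∨ u = 1 ∨ u = q * q ∨ (GoodS R GL_lT → GL_lT ≠ [] → ∃ m, InS R GL_lT m ∧ m * u * m⁻¹ = t)) :=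
    Fm.sound M.μ GL_T_F GL_T_chk M.reps
  (fun u h0 => (And.imp (fun h1 => h1) (fun h1 => (Or.imp (fun h2 => h2) (fun h2 => (Or.imp (fun h3 => h3) (fun h3 => (Or.imp (fun h4 => h4) (fun h4 => (Exists.imp (fun m h5 => ⟨(GL_lT_E M).iff.1 h5.1, h5.2⟩) (h4 (GL_lT_E M).good (GL_lT_E M).ne))) h3)) h2)) h1)) (h u ((GL_lT_E M).iff.2 h0))))

end H2.NB
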