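import Cfsg.Agent.H7.GP0

/-! S5267: the chunk `CHX` (the chain of a `p`-group of maximal class). -/

set_option autoImplicit false

namespace H2.GP
open Subgroup H25 H25.FS H4 H4.P5 H4.G3 H4.Mx H7.GP H10.LieK
open scoped commutatorElement

universe u

section
variable {G : Type*} [Group G] [Finite G] {p n : ℕ} [hp : Fact p.Prime]

/-- the dichotomy at the last level -/
theorem dich (h : MaxC p n G) (h4 : 4 ≤ n) :
    (∀ i j, i + j + 3 = n → ∀ x ∈ TT G 1, x ∈ LL G i → ∀ y ∈ TT G 1, y ∈ LL G j → ⁅x, y⁆ = 1) ∨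
    (6 ≤ n ∧ n ≤ p + 1 ∧ ∀ i j, i + j + 3 = n → ∀ x ∈ TT G 1, x ∈ LL G i → ∀ y ∈ TT G 1,
      y ∈ LL G j → ⁅x, y⁆ = 1 → x ∈ LL G (i + 1) ∨ y ∈ LL G (j + 1)) := by
  obtain ⟨s, t, c⟩ := exists_ch h h4
  have H := c.zero (n - 3) (by omega)
  by_cases e : Br (sg 0 (t 0)) (sg (n - 3) (t (n - 3))) = 0
  · refine .inl fun i j hij x x0 hx y y0 hy => ?_
    have := c.lift (i := i) (j := j) (by omega) (by omega)
      (by rw [c.alt H i j (by omega), e, smul_zero]) x0 hx y0 hy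
    rwa [h.bot (by omega)] at this
  have nT : ¬ TT G 1 ≤ TT G (n - 3) := fun hT => e (by
    rw [Br_skew, Br_sg (c.mem _) (c.mem 0), sg_zero (.inl (hT c.T0 _ (c.mem _))), neg_zero])
  obtain ⟨m, hm, m1, -⟩ := exc h h4 nT
  have p2 := hp.out.two_le
  refine .inr ⟨by omega, ?_, fun i j hij x x0 hx y y0 hy hc => ?_⟩
  · by_contra hlt
    by_cases e2 : n = p + 2
    · rcases hp.out.eq_one_or_self_of_dvd 2 ⟨m + 1, by omega⟩ with e3 | e3 <;> omega
    · have h1 := h.T_le (i := n - 2 - p) (by omega) (by omega)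
      rw [show n - 2 - p + (p - 1) = n - 3 by omega] at h1
      exact nT ((T_eq h (i := n - 2 - p) (by omega) (by omega)).le.trans
        (h.T_eq_of_le (by omega) (by omega) (by omega) h1).ge)
  · obtain ⟨k, hk⟩ := c.gen (i := i) (by omega) x0 hx
    obtain ⟨l, hl⟩ := c.gen (i := j) (by omega) y0 hy
    have b0 : Br (sg i (t i)) (sg j (t j)) ≠ 0 := fun e' => e (by
      rw [c.alt H i j (by omega)] at e'
      rcases neg_one_pow_eq_or ℤ i with e1 | e1 <;> simpa [e1] using e')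
    have h1 : (k * l) • Br (sg i (t i)) (sg j (t j)) = 0 := by
      have := Br_sg hx hy
      rw [hc, sg_one, hk, hl, map_zsmul, map_zsmul, AddMonoidHom.smul_apply, ← mul_smul,
        mul_comm] at this
      exact this
    have h2 := zs hp.out b0 (by rw [← map_zsmul, c.ps, map_zero]) h1
    rcases (Nat.prime_iff_prime_int.1 hp.out).dvd_or_dvd h2 with ⟨r, rfl⟩ | ⟨r, rfl⟩
    · exact .inl (sg_eq_zero hx (by rw [hk, mul_comm, mul_smul, c.ps, smul_zero]))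
    · exact .inr (sg_eq_zero hy (by rw [hl, mul_comm, mul_smul, c.ps, smul_zero]))

end

section
variable {Γ : Type*} [Group Γ] {S : Subgroup Γ} {a : ℕ} {u : Γ}

/-- the chain -/
def PP (S : Subgroup Γ) : ℕ → Subgroup Γ
  | 0 => S
  | 1 => T1 S
  | k + 2 => DD S (k + 1)

theorem PP_le : ∀ a, PP S a ≤ S
  | 0 => le_rfl
  | 1 => T1_le
  | _ + 2 => D_le

theorem PP_succ (h : 1 ≤ a) : PP S (a + 1) = DD S a := by
  obtain ⟨k, rfl⟩ : ∃ k, a = k + 1 := ⟨a - 1, by omega⟩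
  rfl

theorem mem_D0 (hu : u ∈ S) : u ∈ DD S 0 := (mem_D hu).2 (mem_top _)

theorem mem_PP : ∀ {a : ℕ}, u ∈ PP S (a + 1) ↔ u ∈ T1 S ∧ u ∈ DD S a
  | 0 => ⟨fun h => ⟨h, mem_D0 (T1_le h)⟩, fun h => h.1⟩
  | _ + 1 => ⟨fun h => ⟨D_le_T1 (by omega) h, h⟩, fun h => h.2⟩

theorem PP_anti : Antitone (PP S) := antitone_nat_of_succ_le fun
  | 0 => T1_le
  | 1 => D_le_T1 le_rfl
  | _ + 2 => D_anti (by omega)

theorem PP_act {g : Γ} (hu : u ∈ PP S a) (hg : g ∈ S) : ⁅u, g⁆ ∈ PP S (a + 1) := by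
  rcases a with _ | a
  · exact D_le_T1 le_rfl (D_act (mem_D0 hu) hg)
  · exact D_act (mem_PP.1 hu).2 hg

theorem cm_symm {N : Subgroup Γ} {x y : Γ} (h : ⁅x, y⁆ ∈ N) : ⁅y, x⁆ ∈ N := by
  rw [← commutatorElement_inv]; exact inv_mem h

end

theorem chx : CHX.{u} := by
  intro Γ _ _ p n hp F hF M h4
  obtain ⟨s, τ, c⟩ := H24.NE.ex_cz M h4
  set S := F.S with hS
  have card : ∀ a ≤ n, Nat.card (PP S a) = p ^ (n - a) := fun a ha => by
    rcases a with _ | _ | a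
    · exact M.card
    · refine Nat.eq_of_mul_eq_mul_right hp.out.pos ?_
      rw [show PP S (0 + 1) = T1 S from rfl, ← card_T1 M h4, M.card, ← pow_succ]
      congr 1; omega
    · rw [PP_succ (by omega), card_D M (by omega)]
      congr 1; omega
  let t : ℕ → Γ := fun a => Nat.casesOn a s τ
  have tm : ∀ a, t a ∈ PP S a := fun a => by
    rcases a with _ | a
    · exact c.sS
    · exact mem_PP.2 ⟨c.tT a, c.mem a⟩
  have tn : ∀ a < n, t a ∉ PP S (a + 1) := fun a ha => by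
    rcases a with _ | a
    · exact c.sT
    · exact c.nm a (by omega)
  have ex : ∀ a, ∃ l : Γ → ZMod p, Ad (PP S a) l ∧ (a < n → (∀ u ∈ PP S a, l u = 0 ↔
      u ∈ PP S (a + 1)) ∧ l (t a) = 1) := fun a => by
    by_cases ha : a < n
    · obtain ⟨χ, r⟩ := H24.XE.exists_ch (hF.pg' (PP_le a)) (PP_anti (Nat.le_succ a)) (by
        rw [card a ha.le, card (a + 1) ha, ← pow_succ]; congr 1; omega)
      have h0 := r.ne (tm a) (tn a ha)
      refine ⟨fun u => (χ (t a))⁻¹ * χ u, fun x hx y hy => by simp only [r.add x hx y hy, mul_add],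
        fun _ => ⟨fun u hu => ?_, inv_mul_cancel₀ h0⟩⟩
      rw [← r.ker u hu, mul_eq_zero, or_iff_right (inv_ne_zero h0)]
    · exact ⟨0, fun _ _ _ _ => by simp, fun h => absurd h ha⟩
  choose lc l1 l2 using ex
  have cm1 : ∀ a b, 1 ≤ a → 1 ≤ b → a + b + 2 ≤ n → ∀ u ∈ PP S a, ∀ v ∈ PP S b,
      ⁅u, v⁆ ∈ PP S (a + b + 1) := fun a b ha hb hn u hu v hv => by
    obtain ⟨i, rfl⟩ : ∃ i, a = i + 1 := ⟨a - 1, by omega⟩
    obtain ⟨j, rfl⟩ : ∃ j, b = j + 1 := ⟨b - 1, by omega⟩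
    rw [PP_succ (by omega), show i + 1 + (j + 1) = i + j + 2 by omega]
    exact bl' M (by omega) (mem_PP.1 hu).1 (mem_PP.1 hu).2 (mem_PP.1 hv).1 (mem_PP.1 hv).2
  have p2 := hp.out.two_le
  refine ⟨PP S, t, lc, ⟨hF.pg, h4, PP_anti, fun a => ?_, card, tm, l1, fun a ha => (l2 a ha).1,
    fun a ha => (l2 a ha).2, fun a ha => ?_, fun a u hu g hg => PP_act hu hg,
    fun a b u hu v hv => ?_, cm1, fun a ha u hu => ?_, fun a ha hn ho u hu e => ?_⟩, hF, M, rfl, rfl,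
    fun k hk => PP_succ hk, ?_⟩
  · rcases a with _ | _ | a
    exacts [le_rfl, nz_char (TT S 1), H24.XE.nz_D _]
  · obtain ⟨i, rfl⟩ : ∃ i, a = i + 1 := ⟨a - 1, by omega⟩
    exact c.succ i
  · rcases (by omega : b ≤ 1 ∨ a ≤ 1 ∨ (2 ≤ a ∧ 2 ≤ b)) with h | h | ⟨h1, h2⟩
    · exact PP_anti (by omega) (PP_act hu (PP_le b hv))
    · exact PP_anti (by omega) (cm_symm (PP_act hv (PP_le a hu)))
    · obtain ⟨i, rfl⟩ : ∃ i, a = i + 2 := ⟨a - 2, by omega⟩
      obtain ⟨j, rfl⟩ : ∃ j, b = j + 2 := ⟨b - 2, by omega⟩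
      rw [show i + 2 + (j + 2) = (i + 1 + (j + 1) + 1) + 1 by omega, PP_succ (by omega)]
      exact D_comm hu hv
  · obtain ⟨i, rfl⟩ : ∃ i, a = i + 2 := ⟨a - 2, by omega⟩
    rw [show i + 2 + (p - 1) = (i + 1 + (p - 1)) + 1 by omega, PP_succ (by omega)]
    exact (mem_D (pow_mem (D_le hu) p)).2 (M.pow_mem (by omega) ((mem_D (D_le hu)).1 hu))
  · have uS := PP_le a hu
    obtain ⟨i, rfl⟩ : ∃ i, a = i + 1 := ⟨a - 1, by omega⟩
    rw [show i + 1 + p = (i + p) + 1 by omega, PP_succ (by omega)] at e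
    have e' := (mem_D (pow_mem uS p)).1 e
    rw [PP_succ (by omega), mem_D uS]
    rcases Nat.eq_zero_or_pos i with rfl | h0
    · exact M.star_zero (by omega) ((mem_T1 uS).1 hu) (by simpa using e')
    · exact M.star h0 (by omega) ((mem_D uS).1 (mem_PP.1 hu).2) e'
  · rcases dich M h4 with h | ⟨h6, h7, h⟩
    · refine .inl fun a b ha hb hn u hu v hv => ?_
      by_cases e : a + b + 2 ≤ n
      · exact cm1 a b ha hb e u hu v hv
      obtain ⟨i, rfl⟩ : ∃ i, a = i + 1 := ⟨a - 1, by omega⟩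
      obtain ⟨j, rfl⟩ : ∃ j, b = j + 1 := ⟨b - 1, by omega⟩
      have uS := PP_le _ hu
      have vS := PP_le _ hv
      have := h i j (by omega) ⟨u, uS⟩ ((mem_T1 uS).1 (mem_PP.1 hu).1) ((mem_D uS).1 (mem_PP.1 hu).2)
        ⟨v, vS⟩ ((mem_T1 vS).1 (mem_PP.1 hv).1) ((mem_D vS).1 (mem_PP.1 hv).2)
      rw [show ⁅u, v⁆ = 1 from congrArg Subtype.val this]
      exact one_mem _
    · refine .inr ⟨h6, h7, fun a b ha hb hn u hu v hv e => ?_⟩
      obtain ⟨i, rfl⟩ : ∃ i, a = i + 1 := ⟨a - 1, by omega⟩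
      obtain ⟨j, rfl⟩ : ∃ j, b = j + 1 := ⟨b - 1, by omega⟩
      have uS := PP_le _ hu
      have vS := PP_le _ hv
      rw [PP_succ (by omega), PP_succ (by omega), mem_D uS, mem_D vS]
      exact h i j (by omega) ⟨u, uS⟩ ((mem_T1 uS).1 (mem_PP.1 hu).1) ((mem_D uS).1 (mem_PP.1 hu).2)
        ⟨v, vS⟩ ((mem_T1 vS).1 (mem_PP.1 hv).1) ((mem_D vS).1 (mem_PP.1 hv).2) (Subtype.ext e)

end H2.GP
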