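import Cfsg.Agent.H7.GP1

/-! S5267: the chunks `CA`, `NM`, `AB`, `SM`. -/

set_option autoImplicit false
set_option linter.unusedSectionVars false

namespace H2.GP
open Subgroup H25 H25.FS H4 H4.P5 H4.G3 H4.Mx H7.GP
open scoped commutatorElement

universe u

section
variable {Γ : Type u} [Group Γ] [Finite Γ] {p n : ℕ} [hp : Fact p.Prime] {F : FS Γ}
variable {P : ℕ → Subgroup Γ} {t : ℕ → Γ} {lc : ℕ → Γ → ZMod p}
variable {A B E N X Y Z : Subgroup Γ} {g u v w x y : Γ} {a b c k : ℕ}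

theorem pw_le (h : p ^ a ≤ p ^ b) : a ≤ b := (Nat.pow_le_pow_iff_right hp.out.one_lt).1 h

theorem pw_succ (hE : IsPGroup p E) (h : p ^ a < Nat.card E) : p ^ (a + 1) ≤ Nat.card E := by
  obtain ⟨k, hk⟩ := IsPGroup.iff_card.1 hE
  rw [hk] at h ⊢
  exact Nat.pow_le_pow_right hp.out.pos ((Nat.pow_lt_pow_iff_right hp.out.one_lt).1 h)

theorem pw_pred (hE : IsPGroup p E) (h : Nat.card E < p ^ (a + 1)) : Nat.card E ≤ p ^ a := by
  by_contra e
  exact absurd (pw_succ hE (not_le.1 e)) (not_le.2 h)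

theorem cz_of_cm (h : ∀ y ∈ X, ⁅x, y⁆ = 1) : x ∈ cz X :=
  mem_cz'.2 fun y hy => (commutatorElement_eq_one_iff_mul_comm.1 (h y hy)).symm

theorem cm_one (h : ⁅x, y⁆ = 1) : ⁅y, x⁆ = 1 := by rw [← commutatorElement_inv, h, inv_one]

/-- an element outside two proper subgroups -/
theorem out2 (h1 : ¬ E ≤ X) (h2 : ¬ E ≤ Y) : ∃ g ∈ E, g ∉ X ∧ g ∉ Y := by
  obtain ⟨a, ha, ha'⟩ := SetLike.not_le_iff_exists.1 h1
  obtain ⟨b, hb, hb'⟩ := SetLike.not_le_iff_exists.1 h2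
  by_cases e1 : a ∈ Y
  · by_cases e2 : b ∈ X
    · exact ⟨a * b, mul_mem ha hb, fun h => ha' ((mul_mem_cancel_right e2).1 h),
        fun h => hb' ((mul_mem_cancel_left e1).1 h)⟩
    · exact ⟨b, hb, e2, hb'⟩
  · exact ⟨a, ha, ha', e1⟩

/-- the centre of a non-abelian group of order `p ^ 3` -/
theorem cen_cube (c : Nat.card E = p ^ 3) (hc : ¬ Cm E) : Nat.card (E ⊓ cz E : Subgroup Γ) ≤ p := by
  obtain ⟨z, g, hz, hZ, -⟩ := ge_range (H9.isExtraspecial_of_card_cube c fun h0 =>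
    hc (isMulCommutative_iff.1 h0)) (f := E.subtype) E.subtype_injective
  rw [range_subtype] at g hZ
  refine (card_le_of_le hZ).trans ?_
  rw [Nat.card_zpowers]; exact (orderOf_eq_prime g.pow hz).le

theorem chain2 (r : Lc p E N A B) (hY : Y ≤ E) (h1 : Z = ⊥ ∨ Z = fr E) (h0 : Z ≤ Y) (nY : A ≤ nz Y)
    (hx : x ∈ N) (h2 : ∀ w ∈ E, ⁅x, w⁆ ∈ Y) (h3 : ∀ w ∈ Y, ⁅x, w⁆ ∈ Z) : x ∈ E := by
  refine lc_chain r (fun i => match i with | 0 => E | 1 => Y | _ + 2 => Z) 2 rfl h1 ?_ ?_ hx ?_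
  · intro i hi; interval_cases i
    exacts [hY, h0]
  · intro i hi; interval_cases i
    · exact r.An
    · exact nY
    · rcases h1 with rfl | rfl
      exacts [le_nz_bot _, r.An.trans (nz_le_nz_fr E)]
  · intro i hi; interval_cases i
    exacts [h2, h3]

section ch
variable (o : CH p n P t lc)
include o

theorem desc (hc : P c ≤ Y) (hac : a ≤ c) (h : ∀ b, a ≤ b → b < c → ∃ u ∈ P b, u ∉ P (b + 1) ∧ u ∈ Y) :
    P a ≤ Y := by
  induction hac using Nat.decreasingInduction with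
  | self => exact hc
  | of_succ k hk ih =>
    obtain ⟨u, h1, h2, h3⟩ := h k le_rfl hk
    exact o.le_of h1 h2 h3 (ih fun b hb => h b (by omega))

theorem card_add (a r : ℕ) : Nat.card (P a) ≤ Nat.card (P (a + r)) * p ^ r := by
  induction r with
  | zero => simp
  | succ r ih =>
    refine ih.trans ?_
    rw [pow_succ', ← mul_assoc]
    exact Nat.mul_le_mul_right _ (o.card_le _)

theorem mho_le (h2 : 2 ≤ a) (h : ∀ u ∈ P a, u ^ p ∈ Y) : P (a + (p - 1)) ≤ Y := by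
  have := hp.out.two_le
  rcases le_total n (a + (p - 1)) with e | e
  · rw [o.bot e]; exact bot_le
  refine desc o (c := n) (by rw [o.bot le_rfl]; exact bot_le) e fun b hb hb' => ?_
  obtain ⟨r, rfl⟩ : ∃ r, b = r + (p - 1) := ⟨b - (p - 1), by omega⟩
  refine ⟨_, o.pow r (by omega) _ (o.mem r), fun e' => o.nm (a := r) (by omega) ?_,
    h _ (o.up (o.mem r) (by omega))⟩
  exact o.star r (by omega) (by omega) (.inl (by omega)) _ (o.mem r) (o.up e' (by omega))

theorem cardZ : Nat.card (P (n - 1)) = p := by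
  have := o.four
  rw [o.card _ (by omega), show n - (n - 1) = 1 by omega, pow_one]

theorem zc (hu : u ∈ P (n - 1)) (hg : g ∈ P 0) : ⁅u, g⁆ = 1 :=
  o.eq_one (by have := o.four; omega) (o.act _ u hu g hg)

theorem zcz (h : X ≤ P 0) : P (n - 1) ≤ cz X := fun _ hu => cz_of_cm fun _ hy => zc o hu (h hy)

/-- the centraliser of a uniform element -/
theorem cen_un (hg : g ∈ P 0) (h1 : g ∉ P 1) (h2 : g ∉ RR n P) (hu : u ∈ P 1) (e : ⁅u, g⁆ = 1) :
    u ∈ P (n - 1) := by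
  have := o.four
  have h3 : u ∈ P (n - 2) := o.down (o.un_of o.trm (by omega) hg h1) hu (by omega) (e ▸ one_mem _)
  by_contra h
  refine h2 ⟨hg, le_cz_comm.1 ?_ (mem_zpowers g)⟩
  rw [show n - 1 = n - 2 + 1 by omega] at h
  refine o.le_of h3 h (cz_of_cm ?_) ?_
  · rintro _ ⟨j, rfl⟩
    exact commutatorElement_eq_one_iff_commute.2 ((commutatorElement_eq_one_iff_commute.1 e).zpow_right j)
  · rw [show n - 2 + 1 = n - 1 by omega]
    exact zcz o (zpowers_le.2 hg)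

end ch

section fc
variable (o : FC F p n P t lc)
include o

theorem leS (hE : F.Ess E) : E ≤ P 0 := o.P0 ▸ hE.le

theorem cenE (hE : F.Ess E) (hx : x ∈ P 0) (h : x ∈ cz E) : x ∈ E :=
  hE.centric.C_le ⟨o.P0 ▸ hx, h⟩

theorem zle (hE : F.Ess E) : P (n - 1) ≤ E := fun _ hu =>
  cenE o hE (o.toCH.le _ hu) (zcz o.toCH (leS o hE) hu)

theorem memN (hx : x ∈ P 0) (h : x ∈ nz E) : x ∈ F.N E := ⟨o.P0 ▸ hx, h⟩

theorem Neq (h : P 0 ≤ nz E) : F.N E = P 0 := by
  rw [o.P0] at h ⊢; exact inf_eq_left.2 h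

theorem abA : Cm (P (n - 3)) := by
  have := o.four
  have e : ∀ x ∈ P (n - 3 + 1) ⊔ zpowers (t (n - 3)), ∀ y ∈ P (n - 3 + 1) ⊔ zpowers (t (n - 3)),
      ⁅x, y⁆ ∈ (⊥ : Subgroup Γ) := by
    refine comm_gen (le_nz_bot _) (fun u hu v hv => o.toCH.eq_one (by omega) (o.cm0 _ _ u hu v hv))
      fun u hu => ?_
    by_cases h : 5 ≤ n
    · exact o.toCH.eq_one (by omega) (o.cm0 _ _ u hu _ (o.mem _))
    rcases o.di with T | x
    · exact o.toCH.eq_one (by omega) (T _ _ (by omega) (by omega) (by omega) u hu _ (o.mem _))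
    · have := x.six; omega
  rw [o.toCH.sup (o.mem _) (o.toCH.nm (by omega))] at e
  exact fun x hx y hy => commutatorElement_eq_one_iff_mul_comm.1 (e x hx y hy)

theorem cmA (hx : x ∈ P 1) (hy : y ∈ P (n - 3)) : ⁅x, y⁆ ∈ P (n - 1) := by
  have := o.four
  exact o.toCH.up (o.cm1 1 (n - 3) le_rfl (by omega) (by omega) x hx y hy) (by omega)

theorem cardA : Nat.card (P (n - 3)) = p ^ 3 := by
  have := o.four
  rw [o.card _ (by omega), show n - (n - 3) = 3 by omega]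

end fc
end

theorem ca : CA.{u} := by
  intro Γ _ _ p n hp F P t lc E o hE h1 h2
  have := o.four
  obtain ⟨g, hg, g1, g2⟩ := out2 h1 h2
  have ES := leS o hE
  have pE := o.pg.to_le ES
  have c2 : p ^ 2 ≤ Nat.card E := by
    have := card_mul_le_lt pE le_rfl (lt_of_le_of_ne (zle o hE) fun e =>
      g1 (o.toCH.up (e.ge hg) (by omega)))
    rwa [cardZ o.toCH, ← sq] at this
  obtain ⟨k, hk⟩ := IsPGroup.iff_card.1 pE
  have k2 := pw_le (hk ▸ c2)
  by_cases e : k = 2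
  · exact .inl (e ▸ hk)
  have ME : MaxC p k E := maxC_of_sc hk (by omega) (E := E ⊓ cz (zpowers g)) inf_le_left
    (inf_le_inf le_rfl (cz_anti (zpowers_le.2 ⟨hg, mem_cz'.2 fun y hy => by
      obtain ⟨j, rfl⟩ := hy; exact (Commute.refl g).zpow_left j⟩))) (by
      refine (card_le_inf (inf_le_left.trans ES) (o.toCH.le 1) (o.toCH.card_le 0)).trans ?_
      rw [sq]
      refine Nat.mul_le_mul_right _ ((card_le_of_le fun y hy => ?_).trans (cardZ o.toCH).le)
      exact cen_un o.toCH (ES hg) g1 g2 hy.2 (comm_one hy.1.2 (mem_zpowers g)))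
  have k3 : k = 3 := by
    by_contra h
    exact H24.XE.not_maxC' o.sat hE ME (by omega)
  exact .inr ⟨k3 ▸ hk, fun h => ME.ne (by
    rw [k3, eq_bot_iff]
    exact commutator_le.2 fun a _ b _ => commutatorElement_eq_one_iff_mul_comm.2
      (Subtype.ext (h a a.2 b b.2)))⟩

theorem nm : NM.{u} := by
  intro Γ _ _ p n hp F P t lc k o h2 hE
  have := o.four
  by_cases h5 : 5 ≤ p
  · obtain ⟨k, rfl⟩ : ∃ j, k = j + 1 := ⟨k - 1, by omega⟩
    exact H24.NE.not_D o.sat o.mc o.four h5 (by omega) (o.PD k (by omega) ▸ hE)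
  have r := lc_of_ess o.sat hE
  have kn : k < n := lt_of_not_ge fun h => r.ne_bot (o.toCH.bot h)
  have c := r.card_le ((card_add o.toCH k (p - 1)).trans (Nat.mul_le_mul
    (card_le_of_le (mho_le o.toCH h2 fun u hu => pow_mem_fr (o.toCH.pP k) hu))
    (Nat.pow_le_pow_right hp.out.pos (by omega))))
  rw [Neq o (o.toCH.nz0 k), o.card 0 (by omega),
    o.card k kn.le, ← pow_succ] at c
  have := pw_le c
  omega

theorem ab : AB.{u} := by
  intro Γ _ _ p n hp F P t lc E o x hE c cm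
  have := x.six
  have := x.le
  have r := lc_of_ess o.sat hE
  by_cases pw : ∀ y ∈ E, y ^ p = 1
  · refine Bad.false ⟨o.sat, hE, cm, pw, c, fun e => ?_⟩ o.mc (by omega)
    have := card_N_le o.sat hE cm pw c
    rw [e, o.mc.card] at this
    have := pw_le this
    omega
  push Not at pw
  obtain ⟨y, hy, y1⟩ := pw
  have OE : OZ p E ⊔ fr E ≤ E := sup_le OZ_le (fr_le E)
  have lt : OZ p E ⊔ fr E < E := lt_of_le_of_ne OE fun e =>
    y1 (OZ_pw y ((eq_of_fr_sup OZ_le (by rw [sup_comm]; exact e.ge)).ge hy))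
  have c1 := card_mul_le_lt r.pE le_rfl lt
  have c2 : p ≤ Nat.card (fr E) := p_le (r.pE.to_le (fr_le E)) fun e =>
    y1 (mem_bot.1 (e ▸ pow_mem_fr r.pE hy))
  have c3 : p ^ 2 ≤ Nat.card (OZ p E ⊔ fr E : Subgroup Γ) := by
    refine pw_succ (a := 1) (r.pE.to_le OE) (lt_of_not_ge fun h => ?_)
    let f : E →* Γ := MonoidHom.mk' (fun w => (w : Γ) ^ p) fun a b =>
      Commute.mul_pow (cm a a.2 b b.2) p
    have e : ∀ w ∈ E, ex f w = w ^ p := fun w hw => ex_of_mem f hw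
    have := card_inf_pre (θ := f) (K := E) (P' := im f E) le_rfl
    rw [inf_eq_left.2 (le_pre_im f le_rfl), c] at this
    have h1 : im f E ≤ OZ p E ⊔ fr E := (im_le_iff le_rfl).2 fun w hw =>
      e w hw ▸ mem_sup_right (pow_mem_fr r.pE hw)
    have h2 : E ⊓ pre f ⊥ ≤ OZ p E ⊔ fr E := fun w hw => mem_sup_left
      ⟨hw.1, cm_iff.1 cm hw.1, e w hw.1 ▸ (mem_pre.1 hw.2).2⟩
    have := this.le.trans (Nat.mul_le_mul ((card_le_of_le h2).trans h) ((card_le_of_le h1).trans h))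
    rw [← pow_add] at this
    have := pw_le this
    omega
  obtain ⟨w, hw, hw'⟩ := SetLike.exists_of_lt r.lt
  have nO : F.A E ≤ nz (OZ p E ⊔ fr E) := fun a ha =>
    mem_nz_sup (nz_OZ (r.An ha)) (nz_le_nz_fr E (r.An ha))
  refine hw' (chain2 r OE (.inr rfl) le_sup_right nO hw (fun v hv => comm_of_stab
    (mem_stab_of_card r.pg r.lt.le OE ?_ hw (nO (r.NA hw)) (r.Nn hw)) hv) fun v hv => comm_of_stab
    (mem_stab_of_card r.pg (OE.trans r.lt.le) le_sup_right ?_ hw (nz_le_nz_fr E (r.Nn hw))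
      (nO (r.NA hw))) hv)
  · rw [c, pow_succ]; exact Nat.mul_le_mul_right _ c3
  · rw [c, pow_succ] at c1
    exact (Nat.le_of_mul_le_mul_right c1 hp.out.pos).trans (sq p ▸ Nat.mul_le_mul_right _ c2)

theorem sm : SM.{u} := by
  intro Γ _ _ p n hp F P t lc E o hE lt
  have := o.four
  have r := lc_of_ess o.sat hE
  have ZE := zle o hE
  have c3 : p ^ 3 ≤ Nat.card E := by
    by_contra h
    have c := pw_pred r.pE (not_le.1 h)
    obtain ⟨e, he, h1⟩ : ∃ e ∈ E, E ≤ P (n - 1) ⊔ zpowers e := by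
      by_cases h0 : E ≤ P (n - 1)
      · exact ⟨1, one_mem _, h0.trans le_sup_left⟩
      obtain ⟨e, he, he'⟩ := SetLike.not_le_iff_exists.1 h0
      exact ⟨e, he, (eq_sup_of_card r.pE ZE (by rwa [cardZ o.toCH, ← sq]) he he').ge⟩
    have h2 := card_le_cz (p := p) (fun y hy => cmA o (lt.le he) hy) (zcz o.toCH (o.toCH.le _))
      (cardZ o.toCH).le
    rw [cardA o, pow_succ] at h2
    have h3 : P (n - 3) ⊓ cz (zpowers e) ≤ E := fun y hy => cenE o hE (o.toCH.le _ hy.1)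
      (cz_anti h1 (by
        rw [cz_sup]; exact ⟨le_cz_comm.1 (zcz o.toCH (o.toCH.le _)) hy.1, hy.2⟩))
    have h4 := eq_of_le_of_card_le h3 (c.trans (Nat.le_of_mul_le_mul_right h2 hp.out.pos))
    have h5 : P (n - 3) ≤ E := fun y hy => cenE o hE (o.toCH.le _ hy)
      (cz_anti (h4.ge.trans inf_le_left) (cm_iff.1 (abA o) hy))
    exact h (cardA o ▸ card_le_of_le h5)
  refine ⟨c3, fun x => ?_⟩
  by_contra h
  have c := le_antisymm (pw_pred r.pE (not_le.1 h)) c3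
  have nc := ab o x hE c
  have e : P (n - 1) = E ⊓ cz E := eq_of_le_of_card_le (le_inf ZE (zcz o.toCH (leS o hE)))
    ((cen_cube c nc).trans (cardZ o.toCH).ge)
  have h5 : P (n - 3) ≤ E := fun y hy => by
    have h1 : ∀ w ∈ E, ⁅y, w⁆ ∈ P (n - 1) := fun w hw => comm_symm (cmA o (lt.le hw) hy)
    exact chain2 r ZE (.inl rfl) bot_le (fun a ha => e ▸ mem_nz_inf (r.An ha) (mem_nz_cz (r.An ha)))
      (memN o (o.toCH.le _ hy) (nz_of_comm fun w hw => ZE (h1 w hw))) h1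
      fun w hw => cm_one (zc o.toCH hw (o.toCH.le _ hy))
  exact nc (eq_of_le_of_card_le h5 (by rw [c, cardA o]) ▸ abA o)

end H2.GP
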