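import Cfsg.Agent.H2.GP2

/-! S5267: the chunks `RS`, `RC`, `PX`. -/

set_option autoImplicit false
set_option linter.unusedSectionVars false

namespace H2.GP
open Subgroup H25 H25.FS H4 H4.P5 H4.G3 H4.Mx H7.GP
open scoped commutatorElement

universe u

section
variable {Γ : Type u} [Group Γ] [Finite Γ] {p n : ℕ} [hp : Fact p.Prime] {F : FS Γ}
variable {P : ℕ → Subgroup Γ} {t : ℕ → Γ} {lc : ℕ → Γ → ZMod p}
variable {A B E N R W X Y Z : Subgroup Γ} {g h r u v w x y : Γ} {a b c e k : ℕ}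

/-- an invariant line is impossible -/
theorem line (l : Lc p E N A B) (el : El p E Y) (nY : A ≤ nz Y) (xN : x ∈ N) (xE : x ∉ E)
    (xp : x ^ p ∈ E) (xY : x ∈ cz Y) (hu : u ∈ E) (hW : Y ⊔ zpowers u = W)
    (h1 : ∀ w ∈ E, ⁅x, w⁆ ∈ W) (h2 : ∀ w ∈ W, ⁅x, w⁆ ∈ Y)
    (eig : ∀ h ∈ B, h ∈ cz Y → ∃ k : ℕ, (k : ZMod p) ^ e = 1 ∧ h * u * h⁻¹ * (u ^ k)⁻¹ ∈ Y)
    (e1 : 1 ≤ e) (he : e < p - 1) : False := by
  have WE : W ≤ E := hW ▸ sup_le el.le (zpowers_le.2 hu)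
  have YW : Y ≤ W := hW ▸ le_sup_left
  have xX : x ∈ A ⊓ cz Y := ⟨l.NA xN, xY⟩
  have nW : A ⊓ cz Y ≤ nz W := fun g hg => mem_nz_of_le (by
    have := lt l inf_le_left xN xX xE xp el (inf_le_left.trans l.An) (inf_le_left.trans nY) (R := 1)
      ⟨fun i => match i with | 0 => E | 1 => W | _ + 2 => Y, le_rfl, ?_, fun _ _ h => h⟩ hu
      (fun h hh hB => eig h hB hh.2) e1 (by omega) hg
    · nth_rewrite 1 [← hW]
      rw [cj_sup, cj_eq_of_mem_nz (nY hg.1), cj_zpowers]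
      exact sup_le YW (zpowers_le.2 (hW ▸ this))
    · rintro (_ | _ | i) _ rfl w hw h
      exacts [h1 w h, h2 w h, comm_mem_r (cz_le_nz _ xY) h])
  have nX : A ≤ nz (A ⊓ cz Y) := fun a ha => mem_nz_inf (le_nz_self A ha) (mem_nz_cz (nY ha))
  have xD : x ∈ (A ⊓ cz Y) ⊓ (stab E W ⊓ stab W Y) := ⟨xX, (stab_iff WE).2 h1, (stab_iff YW).2 h2⟩
  refine l.nB fun a ha => l.conj ha xN xE ?_
  have hb := conj_mem_of_mem_nz (nX ha) xX
  refine l.pair (inf_le_left.trans inf_le_left) (fun k hk => ?_) hb.1 xN xE xN xE xD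
    (conj_mem_of_mem_nz (mem_nz_inf (nX hb.1) (mem_nz_inf (nz_stab (l.An hb.1) (nW hb))
      (nz_stab (nW hb) (nY hb.1)))) xD)
  exact pel_of_stab (l.pE.to_le WE) hk.2.1 (nW hk.1) (pel_of_stab_cz (l.pE.to_le el.le) hk.2.2 hk.1.2)

/-- extension to `S` along an invariant property -/
theorem extH (hF : F.Sat p) (I : Subgroup Γ → Prop) (hI : ∀ Q, ∀ k ∈ F.A F.S, I Q → I (cj k Q))
    (hno : ∀ Q, F.Ess Q → ∀ X ≤ Q, ¬ I X) (hE : ∀ Q, E < Q → I Q) : F.Hx E ≤ ai (F.A F.S) E := by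
  refine (closure_le _).2 ?_
  rintro a ⟨ha, Q, h, hQ, H, ag⟩
  obtain ⟨k, hk, e⟩ := hF.alperin (M := fun Q g => I Q → ∃ k ∈ F.A F.S, Agree Q g k) (by
      intro Q g h _ _ m1 m2 i
      obtain ⟨k1, b1, b2⟩ := m1 i
      obtain ⟨k2, b3, b4⟩ := m2 (b2.cj_eq ▸ hI Q k1 b1 i)
      exact ⟨k2 * k1, mul_mem b3 b1, b2.mul b4⟩) (by
      intro Q g h _ m e i
      obtain ⟨k, b1, b2⟩ := m i
      exact ⟨k, b1, e.trans b2⟩) (by
      rintro Q (rfl | hQ) a ha X hX i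
      · exact ⟨a, ha, Agree.refl _ _⟩
      · exact absurd i (hno Q hQ X hX)) Q h H (hE Q hQ)
  exact ⟨ha, k, hk, ag.trans (e.mono hQ.le)⟩

theorem cj_nle (hk : g ∈ nz Y) (h : ¬ X ≤ Y) : ¬ cj g X ≤ Y := fun e =>
  h (by rwa [cj_le_iff, cj_eq_of_mem_nz (inv_mem hk)] at e)

section ch
variable (o : CH p n P t lc)
include o

/-- an element outside `γ₁` is uniform down to level `n - 2` -/
theorem dn (hg : g ∈ P 0) (h1 : g ∉ P 1) (hu : u ∈ P 1) (h : a + 2 ≤ n) (e : ⁅u, g⁆ ∈ P (a + 1)) :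
    u ∈ P a := o.down (o.un_of o.trm (by omega) hg h1) hu (by omega) e

theorem R2 : P 2 ≤ RR n P := fun u hu => ⟨o.le 2 hu, cz_of_cm fun v hv =>
  o.eq_one (by have := o.four; omega) (o.cm0 _ _ u hu v hv)⟩

theorem R1 (x : EX p n P) (hu : u ∈ P 1) (h : u ∈ RR n P) : u ∈ P 2 := by
  have := o.four
  exact (x.pair 1 (n - 2) le_rfl (by omega) (by omega) u hu _ (o.mem _)
    (comm_one h.2 (o.mem _))).resolve_right (o.nm (by omega))

theorem nzR (hg : g ∈ nz (P 0)) : g ∈ nz (RR n P) := mem_nz_inf hg (mem_nz_cz (o.chr _ hg))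

theorem eqE (hE : E ≤ P 0) (e : E ⊓ P 1 = P k) (hr : r ∈ E) (h1 : r ∉ P 1) :
    P k ⊔ zpowers r = E ∧ Nat.card E = Nat.card (P k) * p := by
  have l : P k ≤ E := e ▸ inf_le_left
  have c : Nat.card E ≤ Nat.card (P k) * p := e ▸ card_le_inf hE (o.le 1) (o.card_le 0)
  have h2 : r ∉ P k := fun h => h1 (e.ge h).2
  exact ⟨eq_sup_of_card (o.pg.to_le hE) l c hr h2, le_antisymm c
    (card_mul_le_lt (o.pg.to_le hE) le_rfl (lt_of_le_of_ne l fun h => h2 (h.ge hr)))⟩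

/-- weights of an automorphism of `S` -/
theorem wts (hg : g ∈ nz (P 0)) (h : a + 3 ≤ n) :
    chi t lc (1 + a) g = chi t lc 1 g * chi t lc 0 g ^ a :=
  (o.w1 o.trm (by omega) (o.fl0 hg) (conj_mem_of_mem_nz hg (o.mem 0)) (Agree.refl _ _)).pow le_rfl a
    (by omega)

theorem eigk (hE : P a ≤ E) (h1 : a < n) (hg : g ∈ nz (P 0)) (ag : Agree E h g)
    (he : chi t lc a g ^ e = 1) :
    ∃ k : ℕ, (k : ZMod p) ^ e = 1 ∧ h * t a * h⁻¹ * (t a ^ k)⁻¹ ∈ P (a + 1) :=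
  ⟨_, by rwa [ZMod.natCast_zmod_val], ag _ (hE (o.mem a)) ▸
    o.chi_eig h1 (o.chr _ hg) (o.chr _ hg) (o.mem a)⟩

end ch

/-- a subgroup `E = ⟨r⟩ P k` of `C_S(Z₂)` -/
structure RE (n : ℕ) (P : ℕ → Subgroup Γ) (E : Subgroup Γ) (k : ℕ) (r : Γ) : Prop where
  le : E ≤ RR n P
  eq : E ⊓ P 1 = P k
  mem : r ∈ E
  nm : r ∉ P 1
  two : 2 ≤ k
  top : k + 2 ≤ n

section fc
variable (o : FC F p n P t lc)
include o

theorem AS (hg : g ∈ F.A F.S) : g ∈ nz (P 0) := o.P0 ▸ F.A_le_nz _ hg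

theorem exk (hE : F.Ess E) (hr : r ∈ E) (h1 : r ∉ P 1) : ∃ k, 1 ≤ k ∧ k ≤ n - 1 ∧ E ⊓ P 1 = P k := by
  have := o.four
  exact o.toCH.inv_eq (o.toCH.un_of o.toCH.trm (by omega) (leS o hE hr) h1) (by omega) (leS o hE hr)
    (mem_nz_inf (le_nz_self E hr) (o.toCH.nz0 1 (leS o hE hr)))
    (le_inf (zle o hE) (o.anti (by omega))) inf_le_right

theorem exRE (x : EX p n P) (hE : F.Ess E) (h : E ≤ RR n P) (h1 : ¬ E ≤ P 1) : ∃ k r, RE n P E k r := by
  have := o.four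
  obtain ⟨r, hr, r1⟩ := SetLike.not_le_iff_exists.1 h1
  obtain ⟨k, k1, k2, e⟩ := exk o hE hr r1
  refine ⟨k, r, h, e, hr, r1, o.toCH.idx (by omega) fun u hu =>
    R1 o.toCH x (e.ge hu).2 (h (e.ge hu).1), ?_⟩
  have := o.toCH.idx (a := n - 2) (b := k) (by omega) fun u hu => e.le ⟨cenE o hE (o.toCH.le _ hu)
    (le_cz_comm.1 (h.trans inf_le_right) hu), o.toCH.up hu (by omega)⟩
  omega

variable (q : RE n P E k r)
include q

theorem RE.lS : E ≤ P 0 := q.le.trans inf_le_left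
theorem RE.kE (h : k ≤ a) : P a ≤ E := (o.anti h).trans (q.eq ▸ inf_le_left)
theorem RE.mk' (hw : w ∈ E) (h : w ∈ P 1) : w ∈ P k := q.eq.le ⟨hw, h⟩

theorem RE.up (h1 : k ≤ a) (h2 : a + 3 ≤ n) (hw : w ∈ E) (h : ∀ v ∈ E, ⁅w, v⁆ ∈ P (a + 2)) :
    w ∈ P (a + 1) := by
  have := q.two
  by_cases e : w ∈ P 1
  · exact dn o.toCH (q.lS o q.mem) q.nm e (by omega) (h r q.mem)
  · exact absurd (dn o.toCH (q.lS o hw) e (o.toCH.up (o.mem a) (by omega)) (by omega)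
      (comm_symm (h _ (q.kE o h1 (o.mem a))))) (o.toCH.nm (by omega))

theorem RE.cen (h : k + 3 ≤ n) : E ⊓ cz E = P (n - 2) := by
  refine le_antisymm (fun w hw => ?_) (le_inf (q.kE o (by omega))
    (le_cz_comm.1 (q.le.trans inf_le_right)))
  rw [show n - 2 = n - 3 + 1 by omega]
  exact q.up o (by omega) (by omega) hw.1 fun v hv => comm_one hw.2 hv ▸ one_mem _

theorem RE.nzP (hg : g ∈ nz E) (h1 : k < a) (h2 : a + 2 ≤ n) : g ∈ nz (P a) := by
  have h3 : a ≤ n - 2 := by omega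
  induction h3 using Nat.decreasingInduction with
  | self => exact q.cen o (by omega) ▸ mem_nz_inf hg (mem_nz_cz hg)
  | of_succ a ha ih =>
    obtain ⟨a, rfl⟩ : ∃ b, a = b + 1 := ⟨a - 1, by omega⟩
    have e : P (a + 1) = E ⊓ stab E (P (a + 2)) := le_antisymm (fun w hw => ⟨q.kE o (by omega) hw,
      (stab_iff (q.kE o (by omega))).2 fun v hv => o.act _ w hw v (q.lS o hv)⟩) fun w hw =>
      q.up o (by omega) (by omega) hw.1 fun v hv => comm_of_stab hw.2 hv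
    exact e ▸ mem_nz_inf hg (nz_stab hg (ih (by omega) (by omega)))

theorem RE.nzk (hg : g ∈ nz E) (h1 : k < a) (h2 : a + 3 ≤ n) (hY : g ∈ nz Y) (h3 : Y ≤ P (a + 2))
    (h4 : ∀ w ∈ P k, ∀ v ∈ P a, ⁅w, v⁆ ∈ Y) : g ∈ nz (P k) := by
  have := q.two
  have e : P k = E ⊓ stab (P a) Y := le_antisymm (fun w hw => ⟨q.kE o le_rfl hw,
    (stab_iff (h3.trans (o.anti (by omega)))).2 (h4 w hw)⟩) fun w hw => q.mk' o hw.1 (by
      by_contra e
      exact o.toCH.nm (a := a) (by omega) (dn o.toCH (q.lS o hw.1) e (o.toCH.up (o.mem a) (by omega))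
        (by omega) (comm_symm (h3 (comm_of_stab hw.2 (o.mem a))))))
  exact e ▸ mem_nz_inf hg (nz_stab (q.nzP o hg h1 (by omega)) hY)

theorem RE.xE (hw : w ∈ P 0) : ⁅t (k - 1), w⁆ ∈ P k := by
  have := q.two
  exact o.toCH.up (o.act _ _ (o.mem _) w hw) (by omega)

theorem RE.xN : t (k - 1) ∈ F.N E :=
  memN o (o.toCH.le _ (o.mem _)) (nz_of_comm fun _ hw => q.kE o le_rfl (q.xE o (q.lS o hw)))

theorem RE.xn : t (k - 1) ∉ E := fun h => by
  have := q.two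
  have := q.top
  exact o.toCH.nm (a := k - 1) (by omega) (o.toCH.up (q.mk' o h (o.toCH.up (o.mem _) (by omega)))
    (by omega))

theorem RE.inv (x : EX p n P) (hE : F.Ess E) (h : k + 3 ≤ n) : ¬ F.A E ≤ nz (P k) := fun h0 => by
  have := q.two
  have := x.six
  have l := lc_of_ess o.sat hE
  have cf : ∀ v ∈ E, ∀ w ∈ E, ⁅v, w⁆ ∈ fr E := fun v hv w hw =>
    commutator_le_fr l.pE (commutator_mem_commutator hv hw)
  have l1 : fr E ⊔ P (n - 2) ≤ P k := sup_le (fr_le_of (p := p) (commutator_le.2 fun v hv w hw => q.mk' o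
    (fr_le E (cf v hv w hw)) (o.act 0 v (q.lS o hv) w (q.lS o hw))) fun v hv =>
    q.mk' o (pow_mem hv p) (o.toCH.pw1 (q.lS o hv))) (o.anti (by omega))
  have l2 : P (k + 1) ≤ fr E ⊔ P (n - 2) := desc o.toCH le_sup_right (by omega) fun b h1 h2 => by
    obtain ⟨b, rfl⟩ : ∃ c, b = c + 1 := ⟨b - 1, by omega⟩
    exact ⟨_, o.act b _ (o.mem b) r (q.lS o q.mem), fun e => o.toCH.nm (a := b) (by omega)
      (dn o.toCH (q.lS o q.mem) q.nm (o.toCH.up (o.mem b) (by omega)) (by omega) e),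
      mem_sup_left (cf _ (q.kE o (by omega) (o.mem b)) r q.mem)⟩
  have l3 : fr E ⊔ P (n - 2) ≤ cmSub (t (k - 1)) E (fr E) (l.lt.le.trans (l.Nn.trans (nz_le_nz_fr E))) := by
    refine sup_le (fun w hw => ⟨fr_le E hw, comm_mem_r (nz_le_nz_fr E (l.Nn (q.xN o))) hw⟩)
      fun w hw => ⟨q.kE o (by omega) hw, ?_⟩
    by_cases e : 3 ≤ k
    · rw [comm_one (R2 o.toCH (o.toCH.up (o.mem _) (by omega))).2 hw]; exact one_mem _
    refine o.toCH.le_of (a := n - 1) (o.toCH.up (o.cm0 2 (n - 3) _ (o.mem _) _ (o.mem _)) (by omega))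
      (fun e => ?_) (cf _ (q.kE o (by omega) (o.mem _)) _ (q.kE o (by omega) (o.mem _)))
      (by rw [o.toCH.bot (by omega)]; exact bot_le)
      (o.toCH.up (o.toCH.act' hw (o.toCH.le _ (o.mem _))) (by omega))
    rcases x.pair 2 (n - 3) (by omega) (by omega) (by omega) _ (o.mem _) _ (o.mem _)
      (o.toCH.eq_one (by omega) e) with e | e <;> exact o.toCH.nm (by omega) e
  refine q.xn o (lc_chain l (fun i => match i with
    | 0 => E | 1 => P k | 2 => fr E ⊔ P (n - 2) | _ + 3 => fr E) 3 rfl (.inr rfl) ?_ ?_ (q.xN o) ?_)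
  · intro i hi; interval_cases i
    exacts [q.kE o le_rfl, l1, le_sup_left]
  · intro i hi; interval_cases i
    exacts [l.An, h0, fun g hg => mem_nz_sup (nz_le_nz_fr E (l.An hg))
      (q.nzP o (l.An hg) (by omega) (by omega)), l.An.trans (nz_le_nz_fr E)]
  · intro i hi; interval_cases i
    exacts [fun w hw => q.xE o (q.lS o hw), fun w hw => l2 (o.toCH.act' hw (o.toCH.le _ (o.mem _))),
      fun w hw => (l3 hw).2]

theorem RE.big (x : EX p n P) (hE : F.Ess E) (h : k + 5 ≤ n ∨ (k + 4 = n ∧ 3 ≤ k)) : False := by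
  have := q.two
  refine q.inv o x hE (by omega) fun g hg => ?_
  have hg' := F.A_le_nz E hg
  rcases h with h | h
  · exact q.nzk o hg' (a := n - 4) (by omega) (by omega) (q.nzP o hg' (a := n - 2) (by omega) (by omega))
      (o.anti (by omega)) fun w hw v hv => o.toCH.up (o.cm0 _ _ w hw v hv) (by omega)
  · exact q.nzk o hg' (a := n - 3) (by omega) (by omega) (le_nz_bot _ (mem_top g)) bot_le
      fun w hw v hv => o.toCH.eq_one (by omega) (o.cm0 _ _ w hw v hv)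

end fc

theorem exR (o : FC F p n P t lc) (x : EX p n P) (hE : F.Ess (RR n P)) : ∃ r, RE n P (RR n P) 2 r := by
  obtain ⟨k, r, q⟩ := exRE o x hE le_rfl fun h => nm o le_rfl
    (le_antisymm (fun u hu => R1 o.toCH x (h hu) hu) (R2 o.toCH) ▸ hE)
  have := o.toCH.idx (a := 2) (b := k) (by have := o.four; omega) fun u hu =>
    q.mk' o (R2 o.toCH hu) (o.toCH.up hu (by omega))
  exact ⟨r, (le_antisymm this q.two) ▸ q⟩

end

theorem rs : RS.{u} := by
  intro Γ _ _ p n hp F P t lc o x hE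
  obtain ⟨r, q⟩ := exR o x hE
  by_contra h
  exact q.big o x hE (.inl (by have := x.six; omega))

theorem rc : RC.{u} := by
  intro Γ _ _ p n hp F P t lc E o x hE lt h1 hc
  have := x.six
  have := x.le
  obtain ⟨k, r, q⟩ := exRE o x hE lt.le h1
  have := q.two
  have := q.top
  have l := lc_of_ess o.sat hE
  obtain ⟨e1, c1⟩ := eqE o.toCH (q.lS o) q.eq q.mem q.nm
  have k3 : 3 ≤ k := by
    by_contra e
    have c2 := card_mul_le_lt o.pg inf_le_left lt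
    have c3 := card_mul_le_lt o.pg le_rfl (lt_of_le_of_ne (inf_le_left : RR n P ≤ P 0) fun e =>
      o.toCH.nm (a := 1) (by omega) (R1 o.toCH x (o.mem 1) (e.ge (o.toCH.le _ (o.mem 1)))))
    have := (Nat.mul_le_mul_right p c2).trans c3
    rw [c1, o.card k (by omega), o.card 0 (by omega), ← pow_succ, ← pow_succ, ← pow_succ] at this
    have := pw_le this
    omega
  by_cases e2 : k + 2 = n
  · refine ab o x hE (by rw [c1, o.card k (by omega), ← pow_succ, show n - k + 1 = 3 by omega]) ?_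
    have := comm_gen (U := P k) (c := r) (K := ⊥) (le_nz_bot _)
      (fun u hu v hv => o.toCH.eq_one (by omega) (o.cm0 _ _ u hu v hv)) fun u hu =>
      cm_one (comm_one (q.le q.mem).2 (by rwa [show n - 2 = k by omega]))
    rw [e1] at this
    exact fun a ha b hb => commutatorElement_eq_one_iff_mul_comm.1 (this a ha b hb)
  by_cases e3 : k + 4 ≤ n
  · exact q.big o x hE (by omega)
  have e4 : n - 2 = k + 1 := by omega
  have c4 : Nat.card E = p ^ 4 := by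
    rw [c1, o.card k (by omega), ← pow_succ, show n - k + 1 = 4 by omega]
  by_cases hR : F.Ess (RR n P)
  · obtain ⟨r0, q0⟩ := exR o x hR
    have n6 := rs o x hR
    obtain rfl : k = 3 := by omega
    obtain ⟨a, ha, ha'⟩ := SetLike.not_le_iff_exists.1 (q0.inv o x hR (by omega))
    have aR := F.A_le_nz _ ha
    have a3 : a ∈ nz (P 3) := q0.nzP o aR (by omega) (by omega)
    have l1 : cj a (P 2) ≤ RR n P := (cj_mono a (R2 o.toCH)).trans (cj_eq_of_mem_nz aR).le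
    obtain ⟨v, hv, v1⟩ : ∃ v ∈ cj a (P 2), v ∉ P 1 := SetLike.not_le_iff_exists.1 fun h =>
      ha' (mem_nz_of_le fun w hw => q0.mk' o (l1 hw) (h hw))
    obtain ⟨m, m1, -⟩ := o.toCH.dec (l1 hv).1 v1 (q.lS o q.mem)
    have m2 : v ^ m * r⁻¹ ∈ P 2 := by
      simpa using inv_mem (q0.mk' o (mul_mem (q.le q.mem) (inv_mem (pow_mem (l1 hv) m))) m1)
    obtain ⟨y, hy, y1⟩ : ∃ y ∈ P 1, lc 2 ⁅y, r⁆ = lc 2 (v ^ m * r⁻¹) := by
      refine ⟨t 1 ^ (lc 2 (v ^ m * r⁻¹) / lc 0 r).val, pow_mem (o.mem 1) _, ?_⟩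
      rw [o.toCH.stepg o.toCH.trm (by omega) le_rfl (by omega) (pow_mem (o.mem 1) _) (q.lS o q.mem),
        (o.add 1).pow (o.mem 1), o.one 1 (by omega), ZMod.natCast_zmod_val, mul_one,
        div_mul_cancel₀ _ (o.toCH.ne (q.lS o q.mem) q.nm)]
    have y2 := o.toCH.mq (a := 2) (by omega) (o.act 1 y hy r (q.lS o q.mem)) m2 y1
    have l2 : P 3 ≤ cj a (P 2) := (cj_eq_of_mem_nz a3).ge.trans (cj_mono a (o.anti (by omega)))
    have l3 : cj (a⁻¹ * y) E ≤ P 2 := by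
      rw [← cj_cj, cj_le_iff, inv_inv, ← e1, cj_sup, cj_eq_of_mem_nz (o.toCH.nzb 1 3 hy), cj_zpowers]
      refine sup_le l2 (zpowers_le.2 ?_)
      convert mul_mem (l2 y2) (pow_mem hv m) using 1
      simp only [commutatorElement_def]; group
    have yS : y ∈ F.S := o.P0 ▸ o.toCH.le 1 hy
    have H : F.T E (a⁻¹ * y) := (F.of_mem hE.le yS).mul' (T_of_mem_A hR.le (inv_mem ha))
      ((cj_mono y lt.le).trans (cj_eq_of_mem_nz (nzR o.toCH (le_nz_self _ (o.toCH.le 1 hy)))).le)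
    have c5 := hE.fn.2 _ H
    rw [eq_of_le_of_card_le l3 (by rw [card_cj, c4, o.card 2 (by omega), n6]),
      Neq o (o.toCH.nz0 2), o.P0] at c5
    have t1 : t 1 ∈ F.N E := (eq_of_le_of_card_le inf_le_left c5).ge (o.P0 ▸ o.toCH.le 1 (o.mem 1))
    exact o.toCH.nm (a := 1) (by omega) (dn o.toCH (q.lS o q.mem) q.nm (o.mem 1) (by omega)
      (q.mk' o (comm_mem_r t1.2 q.mem) (o.act 0 _ (o.toCH.le 1 (o.mem 1)) r (q.lS o q.mem))))
  have ex := extH o.sat (E := E) (fun Q => ¬ Q ≤ P 1 ∧ Nat.card E < Nat.card Q)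
    (fun Q g hg i => ⟨cj_nle (o.chr 1 (AS o hg)) i.1, by rw [card_cj]; exact i.2⟩)
    (fun Q hQ X hX i => by
      have c := i.2.trans_le (card_le_of_le hX)
      rcases hc Q hQ c with ⟨-, -, e | ⟨e, -⟩⟩ | e | e
      · rw [c4, e] at c; have := pw_le c.le; omega
      · rw [c4, e] at c; have := pw_le c.le; omega
      · exact i.1 (e ▸ hX)
      · exact hR (e ▸ hQ))
    fun Q hQ => ⟨fun h => h1 (hQ.le.trans h), H25.card_lt_of_lt hQ⟩
  refine line l (Y := P (k + 1)) ⟨q.kE o (by omega), ?_, fun w hw => ?_⟩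
    (fun g hg => q.nzP o (l.An hg) (by omega) (by omega)) (q.xN o) (q.xn o)
    (q.kE o (by omega) (o.toCH.pw1 (o.mem _))) (e4 ▸ (R2 o.toCH (o.toCH.up (o.mem _) (by omega))).2)
    (q.kE o le_rfl (o.mem k)) (o.toCH.sup (o.mem k) (o.toCH.nm (by omega)))
    (fun w hw => q.xE o (q.lS o hw)) (fun w hw => o.toCH.act' hw (o.toCH.le _ (o.mem _)))
    (e := k) (fun h hh hY => ?_) (by omega) (by omega)
  · rw [← e1]
    exact comm_gen (e1.le.trans ((q.lS o).trans (o.toCH.nz0 _)))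
      (fun u hu v hv => o.act _ u hu v (o.toCH.le _ hv)) fun u hu => o.act _ u hu r (q.lS o q.mem)
  · by_cases e : w ∈ P 1
    · exact o.toCH.pw1 (q.mk' o hw e)
    · exact dn o.toCH (q.lS o hw) e (o.toCH.pw1 (q.lS o hw)) (by omega) (by
        rw [commutatorElement_eq_one_iff_commute.2 ((Commute.refl w).pow_left p)]; exact one_mem _)
  obtain ⟨-, g, hg, ag⟩ := ex hh
  have g0 := AS o hg
  have gY : g ∈ cz (P (k + 1)) := (ag.mono (q.kE o (by omega))).symm.mem_of_cz_le le_rfl hY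
  have w1 := o.toCH.chi_one (by omega) gY
  have w2 := o.toCH.chi_one (a := n - 1) (by omega) (cz_anti (o.anti (by omega)) gY)
  have w3 := o.toCH.pairw x (o.toCH.fl0 g0) (a := 1) (b := k + 1) le_rfl (by omega) (by omega)
  rw [w1, w2, mul_one] at w3
  have w4 := wts o.toCH g0 (a := k) (by omega)
  have w5 := wts o.toCH g0 (a := k - 1) (by omega)
  rw [add_comm, w1, ← w3, one_mul] at w4
  rw [show 1 + (k - 1) = k by omega, ← w3, one_mul] at w5
  exact eigk o.toCH (q.kE o le_rfl) (by omega) g0 ag (by rw [w5, ← pow_mul, mul_comm, pow_mul, ← w4, one_pow])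

theorem px : PX.{u} := by
  intro Γ _ _ p n hp F P t lc E o x hc hE c
  have := x.six
  have := x.le
  have l := lc_of_ess o.sat hE
  have nc := ab o x hE c
  have ES := leS o hE
  have big : ∀ Q : Subgroup Γ, P 2 ≤ Q → p ^ 3 < Nat.card Q := fun Q h =>
    lt_of_lt_of_le (by rw [o.card 2 (by omega)]; exact Nat.pow_lt_pow_right hp.out.one_lt (by omega))
      (card_le_of_le h)
  obtain ⟨h1, h2, -⟩ | e | e := hc E hE
  rotate_left
  · exact (big E (e ▸ o.anti (by omega))).ne' c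
  · exact (big E (e ▸ R2 o.toCH)).ne' c
  obtain ⟨r, hr, r1, r2⟩ := out2 h1 h2
  obtain ⟨k, k1, k2, e⟩ := exk o hE hr r1
  obtain ⟨e1, c1⟩ := eqE o.toCH ES e hr r1
  rw [c, o.card k (by omega), ← pow_succ] at c1
  have k3 : k + 2 = n := by have := pw_le c1.le; have := pw_le c1.ge; omega
  have e4 : n - 1 = k + 1 := by omega
  have kE : P k ≤ E := e ▸ inf_le_left
  have ZE : P (k + 1) ≤ E := e4 ▸ zle o hE
  have eZ : P (k + 1) = E ⊓ cz E := e4 ▸ eq_of_le_of_card_le (le_inf (zle o hE) (zcz o.toCH ES))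
    ((cen_cube c nc).trans (cardZ o.toCH).ge)
  have xE : ∀ w ∈ P 0, ⁅t (k - 1), w⁆ ∈ P k := fun w hw =>
    o.toCH.up (o.act _ _ (o.mem _) w hw) (by omega)
  have ex := extH o.sat (E := E) (fun Q => ¬ Q ≤ P 1 ∧ ¬ Q ≤ RR n P ∧ p ^ 3 < Nat.card Q)
    (fun Q g hg i => ⟨cj_nle (o.chr 1 (AS o hg)) i.1, cj_nle (nzR o.toCH (AS o hg)) i.2.1,
      by rw [card_cj]; exact i.2.2⟩)
    (fun Q hQ X hX i => by
      have c := i.2.2.trans_le (card_le_of_le hX)
      rcases hc Q hQ with ⟨-, -, e | ⟨e, -⟩⟩ | e | e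
      · rw [e] at c; have := pw_le c.le; omega
      · exact c.ne' e
      · exact i.1 (e ▸ hX)
      · exact i.2.1 (e ▸ hX))
    fun Q hQ => ⟨fun h => h1 (hQ.le.trans h), fun h => h2 (hQ.le.trans h), c ▸ H25.card_lt_of_lt hQ⟩
  refine line l (Y := P (k + 1)) ⟨ZE, ?_, fun w hw => ?_⟩
    (fun g hg => eZ ▸ mem_nz_inf (l.An hg) (mem_nz_cz (l.An hg)))
    (memN o (o.toCH.le _ (o.mem (k - 1))) (nz_of_comm fun w hw => kE (xE w (ES hw))))
    (fun h => o.toCH.nm (a := k - 1) (by omega) (o.toCH.up (e.le ⟨h, o.toCH.up (o.mem _) (by omega)⟩)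
      (by omega)))
    (kE (o.toCH.up (o.toCH.pw1 (o.mem _)) (by omega)))
    (e4 ▸ le_cz_comm.1 (zcz o.toCH le_rfl) (o.toCH.le _ (o.mem _)))
    (kE (o.mem k)) (o.toCH.sup (o.mem k) (o.toCH.nm (by omega)))
    (fun w hw => xE w (ES hw)) (fun w hw => o.toCH.act' hw (o.toCH.le _ (o.mem _)))
    (e := (k + 1).gcd (p - 1)) (fun h hh hY => ?_) (Nat.gcd_pos_of_pos_left _ (by omega)) ?_
  · rw [← e1]
    exact comm_gen (e1.le.trans (ES.trans (o.toCH.nz0 _)))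
      (fun u hu v hv => o.act _ u hu v (o.toCH.le _ hv)) fun u hu => o.act _ u hu r (ES hr)
  · rw [H24.NE.exp_of_ess o.sat (by omega) hE c nc hw]; exact one_mem _
  swap
  · refine lt_of_le_of_ne (Nat.gcd_le_right _ (by omega)) fun h => ?_
    obtain ⟨j, hj⟩ := h ▸ Nat.gcd_dvd_left (k + 1) (p - 1)
    obtain ⟨a, ha⟩ := hp.out.even_sub_one (by omega)
    have j1 : j = 1 := by
      rcases j with _ | _ | j
      · omega
      · rfl
      · have : (p - 1) * 2 ≤ (p - 1) * (j + 1 + 1) := Nat.mul_le_mul_left _ (by omega)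
        omega
    subst j1
    rcases x.pair a a (by omega) (by omega) (by omega) _ (o.mem a) _ (o.mem a) (by simp) with e | e <;>
      exact o.toCH.nm (by omega) e
  obtain ⟨hn, g, hg, ag⟩ := ex hh
  have g0 := AS o hg
  have gE : g ∈ nz E := ag.symm.mem_nz hn
  have gY : g ∈ cz (P (k + 1)) := (ag.mono ZE).symm.mem_of_cz_le le_rfl hY
  have w1 := o.toCH.chi_one (by omega) gY
  have w0 := o.toCH.chi_ne (a := k) (by omega) (o.chr _ g0) (o.chr _ g0)
  have w3 := o.toCH.pairw x (o.toCH.fl0 g0) (a := 1) (b := k) le_rfl (by omega) (by omega)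
  rw [e4, w1] at w3
  have w4 := wts o.toCH g0 (a := k - 1) (by omega)
  rw [show 1 + (k - 1) = k by omega] at w4
  have hu := conj_mem_of_mem_nz (o.chr k g0) (o.mem k)
  have hv := conj_mem_of_mem_nz gE hr
  obtain ⟨m, m1, m2⟩ := o.toCH.dec (ES hr) r1 (ES hv)
  rw [o.toCH.chi_eq (by omega) g0 (o.chr 1 g0) (ES hr), mul_comm] at m2
  have m3 := mul_right_cancel₀ (o.toCH.ne (ES hr) r1) m2
  have aR := o.toCH.adR (b := k + 1) (g := g * t k * g⁻¹) (by omega) ES fun v hv =>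
    o.act _ _ hu v (ES hv)
  have aL := o.toCH.adL (b := k + 1) (g := r) (by omega) (o.toCH.le k) fun v hv => o.act _ v hv r (ES hr)
  have b0 : lc (k + 1) ⁅t k, r⁆ ≠ 0 := o.toCH.ne (o.act _ _ (o.mem k) r (ES hr)) fun h =>
    o.toCH.nm (a := k) (by omega) (e4 ▸ cen_un o.toCH (ES hr) r1 r2 (o.toCH.up (o.mem k) k1)
      (o.toCH.eq_one (by omega) h))
  have b1 : lc (k + 1) ⁅g * t k * g⁻¹, g * r * g⁻¹⁆ = lc (k + 1) ⁅t k, r⁆ := by
    rw [← conjugate_commutatorElement, mem_cz.1 gY _ (o.act _ _ (o.mem k) r (ES hr))]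
  rw [aR.eq (B := P k) (fun v hv => o.toCH.zero (by omega)
      (o.toCH.up (o.cm0 _ _ _ hu v hv) (by omega))) hv (pow_mem hr m)
      (e.le ⟨E.mul_mem hv (E.inv_mem (E.pow_mem hr m)), m1⟩), aR.pow hr,
    o.toCH.lin (by omega) aL (fun v hv => o.toCH.zero (by omega) (o.act _ v hv r (ES hr))) hu,
    ← mul_assoc, ← m3] at b1
  have b2 : chi t lc 0 g * chi t lc k g = 1 := mul_right_cancel₀ b0 (b1.trans (one_mul _).symm)
  have b3 : chi t lc 1 g = chi t lc 0 g := mul_right_cancel₀ w0 (w3.symm.trans b2.symm)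
  rw [b3, ← pow_succ', show k - 1 + 1 = k by omega] at w4
  rw [w4, ← pow_succ'] at b2
  refine eigk o.toCH kE (by omega) g0 ag (pow_gcd_eq_one.2 ⟨?_, ZMod.pow_card_sub_one_eq_one w0⟩)
  rw [w4, ← pow_mul, mul_comm, pow_mul, b2, one_pow]

end H2.GP
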