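import Cfsg.Agent.H0.TRX
import Cfsg.Agent.H16.P.HeL

/-! Generated by tools/h15/ic/ic.py (kit tools/h0/tr). -/

set_option maxRecDepth 100000
set_option maxHeartbeats 0

namespace H2.KBg
open H16 H0.TR
open scoped commutatorElement Pointwise

noncomputable def p5t_W : List (List ℕ) := [[nat_lit 0, nat_lit 4, nat_lit 0, nat_lit 4, nat_lit 1, nat_lit 0, nat_lit 2, nat_lit 6, nat_lit 4, nat_lit 0, nat_lit 5, nat_lit 4, nat_lit 6, nat_lit 2, nat_lit 5, nat_lit 0, nat_lit 4, nat_lit 5, nat_lit 1, nat_lit 0, nat_lit 4, nat_lit 1, nat_lit 3, nat_lit 5, nat_lit 4, nat_lit 0, nat_lit 5, nat_lit 1, nat_lit 4, nat_lit 0, nat_lit 4, nat_lit 0, nat_lit 6, nat_lit 4, nat_lit 0, nat_lit 2, nat_lit 0, nat_lit 4, nat_lit 5, nat_lit 6, nat_lit 0, nat_lit 3, nat_lit 4, nat_lit 0, nat_lit 1],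
  [nat_lit 1, nat_lit 4, nat_lit 0, nat_lit 4, nat_lit 0, nat_lit 2, nat_lit 6, nat_lit 4, nat_lit 0, nat_lit 5, nat_lit 4, nat_lit 6, nat_lit 2, nat_lit 0, nat_lit 4, nat_lit 3, nat_lit 0, nat_lit 4, nat_lit 0, nat_lit 4, nat_lit 5, nat_lit 3, nat_lit 1, nat_lit 0, nat_lit 4, nat_lit 0, nat_lit 5, nat_lit 1, nat_lit 4, nat_lit 0, nat_lit 4, nat_lit 0, nat_lit 6, nat_lit 4, nat_lit 0, nat_lit 2, nat_lit 0, nat_lit 4, nat_lit 5, nat_lit 6, nat_lit 0, nat_lit 4, nat_lit 0, nat_lit 3, nat_lit 5, nat_lit 4, nat_lit 0, nat_lit 3, nat_lit 4, nat_lit 0, nat_lit 1, nat_lit 3]]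
noncomputable def p5t_P : ℕ → ℕ → ℕ := wdsP H16.PHe.P p5t_W
noncomputable def p5Pd : List ℕ := [nat_lit 0x204b9519f3d92f213aa3323d09b11cbf8b05dc89d3e1b46cd5c375cc169c6484f283eb17a340ad8b33a94da64e89529483058d2c4098f340ca051c10502241cb9810644910c54080,
  nat_lit 0x24cc8ae67cd7b1ddc0970e8467539e428929f5182fe4376ae1a36466ce2442754a75a7d72044c58284cc95253cbd5b35814394240cb0220606062a4c78910385910828c9a1a5c080]
noncomputable def p5P (k u : ℕ) : ℕ := Nat.land (Nat.shiftRight (nth (nat_lit 0) p5Pd k) (Nat.mul u (nat_lit 7))) (nat_lit 127)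
noncomputable def p5Ed : ℕ := nat_lit 0x3095e0abd269e8b13600bbd72ac24e89c8f39d7396718d892f25c4ac9512824c3085ec192623005f87ae9d88b0fe14c07802844a891f1f63ac698cedf97aaf05dab91371de39e4b43d84b095fbb9d49490d1ce343db63cc6987b0960cbf94f2333d678cef9d63aa74ce41290f012415800
noncomputable def p5E (u : ℕ) : ℕ := Nat.land (Nat.shiftRight p5Ed (Nat.mul u (nat_lit 11))) (nat_lit 2047)
noncomputable def p5Id : BT := (.node (.node (.leaf (nat_lit 0x16000008a0000014000001280000000000088203800c000003e00000860000501080000000000000000000000000000000000208000000000000000000000000000000000000000000000000000000000000000000000000000000000000000000000000000000000000000000000000000000000000000000000000000000000000000000000000000000000000000000000000000000000000000000000000000001b8080fcf007cf423c00ec00000000000000000000000000000000000000000000000000000000000000000000000000000000000000000000000000000000000000000000000000000000000000000000000000000000000000000000000000000e80366a01c8000000000000000000000000000000000000000000000000000000000000000000000000000000000000000000000000000000000000000003ad000300000000000000000000000000000000000000000000000000000000000000000000000000000386c100000000000000000000000000000000000000000000000000002000000000000000000000000000000000000000000000000000000000000000000000000000))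 (.leaf (nat_lit 0x5000000000000000000000000000000000000000000000000000000000000000000000000000000000000000000000000000000000000000000000000000000000000000000000000000000000000000000000000000000000000000000000000000000000000000000000000000000000013c00000000000000000000000000000000000000000000000000000000000000000000000000000000000000000000000000000000000000000000000000000000000000000000000000002d00000000000000000000000000000000000000000000000000000000000000000000000000000000000000000000000000000000000000000000000000000000000000000000000000000000000000000000002c00000000000000000000001380000000018000000056000000000000005c00000000000001500000000000014802c00000000000000014154e000000000000000000000000000000000000000000000000000000000000000000000000000000000000000000000000000000000000000000000000000000000000001c00000000000000000000000000000000000000000000))) (.node (.leaf (nat_lit 0x28000000000000000268000000000000000000000000000000000000000000000000000000000000000000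000000000000000000000000000000000000000000000000000000000000000000000000000009800000000000000000000000000000000000000000000000000000000000000000000000000000000000000000000000000000000000000000000000000000000000000000000000000000000000000000000004c00000480000000000980000022000000000800003c000000004b00380000000000000128000000249401180000000000024a2000000000000000000000000000000000000000000000000000000000120000000000000000000000000000000000000000000000000000000000000034000000000000000000000000000000000000000000000000000000000000000000000004701180000084000000000000000000000000000000000000000000000000000000000000000000000000000000000000000000000000000001800000000000000000000000000000000000000000000000000000000000000000000000000000000000000000)) (.leaf (nat_lit 0x6800000000000000000000000000000000000000000000000000000000000000000000000000000000000000000000000000000000000000000000000000000000000000000000000000000000000000000000000000000000000000000000000000000000000000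000000000000000000000000000000000000000000000000000000000000000000000000cc0000000000000000000000000000000006400000000000000000000000000000000000000000000000000000000000000000000000000000000000000000000000000000000000000000000000000000000000000000000000000000000000000000000000000000000000000000000000000000000000000000000000000000000000000000000000000000000000000000000000000000000000000000000000000000000000000000000000000000000000000000000000000000000000000000000000000000000000000000000000000000000000000000000000000000000000000000000000000000000000000000000000000000000000000000000000000000000c800062000000000000000003001440000000000000000000000005e0002e))))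
noncomputable def p5I (u : ℕ) : ℕ := H16.force (Nat.shiftRight u (nat_lit 9)) fun j => Nat.land (Nat.shiftRight (p5Id.get j) (Nat.mul (Nat.land u (nat_lit 511)) (nat_lit 7))) (nat_lit 127)
noncomputable def p5B : List ℕ := [nat_lit 0, nat_lit 1, nat_lit 52, nat_lit 21, nat_lit 64, nat_lit 27, nat_lit 28]
noncomputable def p5C : List (List (List ℕ)) := [[[],
  []], [[],
  []]]
noncomputable def p5e : List (List ℕ) := [[],
  [nat_lit 0],
  [nat_lit 0, nat_lit 1]]
noncomputable def p5l0Dd : ℕ := nat_lit 0x447cedab258a53234074d17284498e16284050808080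
noncomputable def p5l0D (u : ℕ) : ℕ := Nat.land (Nat.shiftRight p5l0Dd (Nat.mul u (nat_lit 7))) (nat_lit 127)
noncomputable def p5l0Pd : ℕ := nat_lit 0x102e52b45e58b506d79aaa74ce4d4582
noncomputable def p5l0P (u : ℕ) : ℕ := Nat.land (Nat.shiftRight p5l0Pd (Nat.mul u (nat_lit 5))) (nat_lit 31)
noncomputable def p5l0Qd : ℕ := nat_lit 0xed093d2e3445859d81a22b32aae468000
noncomputable def p5l0Q (u : ℕ) : ℕ := Nat.land (Nat.shiftRight p5l0Qd (Nat.mul u (nat_lit 5))) (nat_lit 31)
noncomputable def p5l0 : H16.Lev := ⟨25, 3, p5l0D, p5l0P, p5l0Q⟩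
noncomputable def covr_W : List (List ℕ) := [[nat_lit 0, nat_lit 4, nat_lit 0, nat_lit 4, nat_lit 1, nat_lit 0, nat_lit 2, nat_lit 6, nat_lit 4, nat_lit 0, nat_lit 5, nat_lit 4, nat_lit 6, nat_lit 2, nat_lit 5, nat_lit 0, nat_lit 4, nat_lit 5, nat_lit 1, nat_lit 0, nat_lit 4, nat_lit 1, nat_lit 3, nat_lit 5, nat_lit 4, nat_lit 0, nat_lit 5, nat_lit 1, nat_lit 4, nat_lit 0, nat_lit 4, nat_lit 0, nat_lit 6, nat_lit 4, nat_lit 0, nat_lit 2, nat_lit 0, nat_lit 4, nat_lit 5, nat_lit 6, nat_lit 0, nat_lit 3, nat_lit 4, nat_lit 0, nat_lit 1]]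
noncomputable def covr_P : ℕ → ℕ → ℕ := wdsP H16.PHe.P covr_W
noncomputable def covT0 : H0.TR.CT := (.split (.more (.split (.more .one (.more (.leaf (nat_lit 0) []) (.more (.leaf (nat_lit 0) [nat_lit 1, nat_lit 2, nat_lit 6, nat_lit 5, nat_lit 6, nat_lit 4, nat_lit 0, nat_lit 4, nat_lit 0, nat_lit 1, nat_lit 0, nat_lit 4, nat_lit 0, nat_lit 4, nat_lit 3, nat_lit 4, nat_lit 0, nat_lit 2, nat_lit 0, nat_lit 4, nat_lit 2, nat_lit 1, nat_lit 6, nat_lit 4, nat_lit 0, nat_lit 4, nat_lit 6, nat_lit 2, nat_lit 0, nat_lit 3]) (.more (.leaf (nat_lit 0) [nat_lit 0, nat_lit 2, nat_lit 0, nat_lit 1, nat_lit 3, nat_lit 5, nat_lit 6, nat_lit 5, nat_lit 6, nat_lit 4, nat_lit 0, nat_lit 1, nat_lit 5, nat_lit 4, nat_lit 0, nat_lit 4, nat_lit 6, nat_lit 4, nat_lit 0, nat_lit 4, nat_lit 2, nat_lit 0, nat_lit 1, nat_lit 0, nat_lit 6, nat_lit 4, nat_lit 0, nat_lit 3]) (.more (.leaf (nat_lit 0) [nat_lit 4, nat_lit 0, nat_lit 4, nat_lit 0, nat_lit 1, nat_lit 0, nat_lit 4, nat_lit 0, nat_lit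 4, nat_lit 5, nat_lit 2, nat_lit 6, nat_lit 4, nat_lit 0, nat_lit 4, nat_lit 6, nat_lit 2, nat_lit 4, nat_lit 0, nat_lit 1, nat_lit 4, nat_lit 0, nat_lit 4, nat_lit 5, nat_lit 1, nat_lit 0, nat_lit 4, nat_lit 1, nat_lit 0, nat_lit 4, nat_lit 0, nat_lit 1, nat_lit 3, nat_lit 0, nat_lit 1, nat_lit 4, nat_lit 0, nat_lit 3]) .one)))))) (.more (.split (.more (.leaf (nat_lit 0) [nat_lit 1, nat_lit 3, nat_lit 5, nat_lit 0, nat_lit 4, nat_lit 6, nat_lit 5, nat_lit 6, nat_lit 4, nat_lit 1]) (.more (.leaf (nat_lit 0) [nat_lit 1, nat_lit 6, nat_lit 4, nat_lit 0, nat_lit 6, nat_lit 4, nat_lit 0, nat_lit 2, nat_lit 0, nat_lit 4, nat_lit 5, nat_lit 6, nat_lit 1, nat_lit 4, nat_lit 0, nat_lit 4, nat_lit 0, nat_lit 1, nat_lit 2, nat_lit 0, nat_lit 6, nat_lit 4, nat_lit 0, nat_lit 2, nat_lit 0, nat_lit 6, nat_lit 4, nat_lit 0, nat_lit 4, nat_lit 0, nat_lit 1, nat_lit 4, nat_lit 0, nat_lit 3]) (.more (.leaf (nat_lit 0) [nat_lit 3, nat_lit 0, nat_lit 3, nat_lit 4, nat_lit 0, nat_lit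 2, nat_lit 3, nat_lit 6, nat_lit 4, nat_lit 0, nat_lit 4, nat_lit 6, nat_lit 2, nat_lit 4, nat_lit 3, nat_lit 0, nat_lit 4, nat_lit 1, nat_lit 4, nat_lit 0, nat_lit 3, nat_lit 2, nat_lit 0, nat_lit 4, nat_lit 0, nat_lit 6, nat_lit 4, nat_lit 6, nat_lit 4, nat_lit 0]) (.more (.leaf (nat_lit 0) [nat_lit 2, nat_lit 5, nat_lit 3, nat_lit 6, nat_lit 5, nat_lit 6, nat_lit 4, nat_lit 0, nat_lit 3, nat_lit 4, nat_lit 0, nat_lit 2, nat_lit 3, nat_lit 6, nat_lit 4, nat_lit 0, nat_lit 4, nat_lit 6, nat_lit 2, nat_lit 1, nat_lit 2, nat_lit 0, nat_lit 3, nat_lit 6, nat_lit 4, nat_lit 1, nat_lit 0, nat_lit 2, nat_lit 6, nat_lit 4, nat_lit 0, nat_lit 4, nat_lit 6, nat_lit 3, nat_lit 2, nat_lit 1, nat_lit 4, nat_lit 0, nat_lit 1]) (.more (.leaf (nat_lit 0) [nat_lit 5, nat_lit 1, nat_lit 3, nat_lit 0, nat_lit 1, nat_lit 3, nat_lit 5, nat_lit 0, nat_lit 6, nat_lit 4, nat_lit 0, nat_lit 2, nat_lit 0, nat_lit 4, nat_lit 5, nat_lit 6, nat_lit 0, nat_lit 3, nat_lit 0, nat_lit 4, nat_lit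 1, nat_lit 0, nat_lit 3, nat_lit 1, nat_lit 0, nat_lit 4, nat_lit 0, nat_lit 1, nat_lit 2, nat_lit 6, nat_lit 4, nat_lit 0, nat_lit 4, nat_lit 0, nat_lit 4, nat_lit 0, nat_lit 2]) .one)))))) (.more (.split (.more (.leaf (nat_lit 0) [nat_lit 4, nat_lit 0, nat_lit 5, nat_lit 4, nat_lit 0, nat_lit 1, nat_lit 5, nat_lit 3, nat_lit 4, nat_lit 0, nat_lit 4, nat_lit 1, nat_lit 0, nat_lit 2, nat_lit 6, nat_lit 4, nat_lit 0, nat_lit 4, nat_lit 6, nat_lit 3, nat_lit 2, nat_lit 0, nat_lit 4, nat_lit 3, nat_lit 0, nat_lit 4, nat_lit 3, nat_lit 1, nat_lit 3, nat_lit 0, nat_lit 5, nat_lit 4, nat_lit 0, nat_lit 4, nat_lit 0, nat_lit 3]) (.more (.leaf (nat_lit 0) [nat_lit 0, nat_lit 3, nat_lit 2, nat_lit 0, nat_lit 4, nat_lit 6, nat_lit 5, nat_lit 6, nat_lit 0, nat_lit 4, nat_lit 0, nat_lit 2, nat_lit 0, nat_lit 3, nat_lit 6]) (.more (.leaf (nat_lit 0) [nat_lit 0, nat_lit 3, nat_lit 0, nat_lit 3, nat_lit 4, nat_lit 0, nat_lit 2, nat_lit 3, nat_lit 6, nat_lit 4, nat_lit 0, nat_lit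 4, nat_lit 6, nat_lit 2, nat_lit 4, nat_lit 3, nat_lit 0, nat_lit 4, nat_lit 1, nat_lit 0, nat_lit 4, nat_lit 5, nat_lit 3, nat_lit 1, nat_lit 4, nat_lit 6, nat_lit 5, nat_lit 6, nat_lit 4, nat_lit 1, nat_lit 2, nat_lit 6, nat_lit 0, nat_lit 4, nat_lit 0, nat_lit 2]) (.more (.leaf (nat_lit 0) [nat_lit 2, nat_lit 1, nat_lit 3, nat_lit 5, nat_lit 0, nat_lit 6, nat_lit 4, nat_lit 0, nat_lit 2, nat_lit 0, nat_lit 4, nat_lit 5, nat_lit 6, nat_lit 0, nat_lit 1, nat_lit 3, nat_lit 5, nat_lit 0, nat_lit 6, nat_lit 5, nat_lit 6, nat_lit 4, nat_lit 0, nat_lit 4, nat_lit 0, nat_lit 1, nat_lit 0, nat_lit 4, nat_lit 0, nat_lit 4, nat_lit 3, nat_lit 1, nat_lit 6, nat_lit 4, nat_lit 0, nat_lit 4]) (.more (.leaf (nat_lit 0) [nat_lit 6, nat_lit 0, nat_lit 2, nat_lit 0, nat_lit 1, nat_lit 4, nat_lit 0, nat_lit 3, nat_lit 0, nat_lit 1, nat_lit 3, nat_lit 6, nat_lit 4, nat_lit 0, nat_lit 4, nat_lit 2, nat_lit 0, nat_lit 1, nat_lit 6, nat_lit 4, nat_lit 2, nat_lit 0, nat_lit 3, nat_lit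 4, nat_lit 6, nat_lit 2, nat_lit 0, nat_lit 3, nat_lit 4, nat_lit 0]) .one)))))) (.more (.split (.more (.leaf (nat_lit 0) [nat_lit 5, nat_lit 1, nat_lit 3, nat_lit 5, nat_lit 4, nat_lit 0, nat_lit 1, nat_lit 4, nat_lit 0, nat_lit 1, nat_lit 4, nat_lit 0, nat_lit 4, nat_lit 0, nat_lit 3, nat_lit 1, nat_lit 6, nat_lit 4, nat_lit 0, nat_lit 2, nat_lit 0, nat_lit 4, nat_lit 0, nat_lit 6, nat_lit 3]) (.more (.leaf (nat_lit 0) [nat_lit 6, nat_lit 5, nat_lit 6, nat_lit 4, nat_lit 0, nat_lit 1, nat_lit 4, nat_lit 0, nat_lit 3, nat_lit 2, nat_lit 0, nat_lit 3, nat_lit 4, nat_lit 0, nat_lit 4, nat_lit 6, nat_lit 1]) (.more (.leaf (nat_lit 0) [nat_lit 4, nat_lit 0, nat_lit 1, nat_lit 4, nat_lit 0, nat_lit 1, nat_lit 4, nat_lit 0, nat_lit 4, nat_lit 0, nat_lit 3, nat_lit 1, nat_lit 4, nat_lit 0, nat_lit 3, nat_lit 4, nat_lit 0, nat_lit 1, nat_lit 4, nat_lit 0, nat_lit 6, nat_lit 4, nat_lit 0, nat_lit 3, nat_lit 0, nat_lit 2, nat_lit 6, nat_lit 4, nat_lit 0, nat_lit 4, nat_lit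 6, nat_lit 1, nat_lit 0, nat_lit 3, nat_lit 4, nat_lit 2, nat_lit 0, nat_lit 4, nat_lit 0, nat_lit 1]) (.more (.leaf (nat_lit 0) [nat_lit 2, nat_lit 0, nat_lit 6, nat_lit 4, nat_lit 0, nat_lit 6, nat_lit 5, nat_lit 6, nat_lit 1, nat_lit 0, nat_lit 2, nat_lit 0, nat_lit 1, nat_lit 2]) (.more (.leaf (nat_lit 0) [nat_lit 4, nat_lit 2, nat_lit 3, nat_lit 5, nat_lit 0, nat_lit 1, nat_lit 3, nat_lit 5, nat_lit 0, nat_lit 6, nat_lit 5, nat_lit 6, nat_lit 4, nat_lit 0, nat_lit 4, nat_lit 0, nat_lit 1, nat_lit 2, nat_lit 0, nat_lit 4, nat_lit 0, nat_lit 6, nat_lit 3, nat_lit 0, nat_lit 4, nat_lit 0, nat_lit 1, nat_lit 3, nat_lit 0, nat_lit 4, nat_lit 0, nat_lit 1]) .one)))))) (.more (.split (.more (.leaf (nat_lit 0) [nat_lit 3, nat_lit 4, nat_lit 0, nat_lit 6, nat_lit 4, nat_lit 0, nat_lit 2, nat_lit 0, nat_lit 4, nat_lit 5, nat_lit 6, nat_lit 0, nat_lit 3, nat_lit 0, nat_lit 4, nat_lit 0, nat_lit 1, nat_lit 3, nat_lit 0, nat_lit 4, nat_lit 0, nat_lit 1, nat_lit 4, nat_lit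 0, nat_lit 4, nat_lit 0, nat_lit 3]) (.more (.leaf (nat_lit 0) [nat_lit 6, nat_lit 4, nat_lit 0, nat_lit 1, nat_lit 5, nat_lit 4, nat_lit 0, nat_lit 4, nat_lit 3, nat_lit 0, nat_lit 4, nat_lit 1, nat_lit 2, nat_lit 0, nat_lit 1, nat_lit 4, nat_lit 6, nat_lit 4, nat_lit 0, nat_lit 4, nat_lit 2, nat_lit 0, nat_lit 6, nat_lit 4, nat_lit 0, nat_lit 3]) (.more (.leaf (nat_lit 0) [nat_lit 0, nat_lit 4, nat_lit 0, nat_lit 5, nat_lit 2, nat_lit 0, nat_lit 4, nat_lit 0, nat_lit 6, nat_lit 2]) (.more (.leaf (nat_lit 0) [nat_lit 3, nat_lit 0, nat_lit 4, nat_lit 0, nat_lit 4, nat_lit 1, nat_lit 0, nat_lit 2, nat_lit 6, nat_lit 4, nat_lit 0, nat_lit 5, nat_lit 4, nat_lit 6, nat_lit 2, nat_lit 5, nat_lit 0, nat_lit 4, nat_lit 5, nat_lit 1, nat_lit 0, nat_lit 4, nat_lit 0, nat_lit 1, nat_lit 3, nat_lit 5, nat_lit 0, nat_lit 6, nat_lit 5, nat_lit 6, nat_lit 4, nat_lit 0, nat_lit 3, nat_lit 4, nat_lit 0, nat_lit 4, nat_lit 1, nat_lit 2, nat_lit 0, nat_lit 4, nat_lit 0, nat_lit 6,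 nat_lit 2]) (.more (.leaf (nat_lit 0) [nat_lit 6, nat_lit 5, nat_lit 4, nat_lit 0, nat_lit 4, nat_lit 0, nat_lit 4, nat_lit 0, nat_lit 1, nat_lit 0, nat_lit 4, nat_lit 0, nat_lit 4, nat_lit 3, nat_lit 1, nat_lit 0, nat_lit 2, nat_lit 0, nat_lit 3, nat_lit 6, nat_lit 4, nat_lit 2, nat_lit 0, nat_lit 3, nat_lit 6, nat_lit 4, nat_lit 2, nat_lit 0, nat_lit 3, nat_lit 6, nat_lit 4]) .one)))))) .one))))))
noncomputable def s_W : List (List ℕ) := [[nat_lit 0, nat_lit 4, nat_lit 0, nat_lit 4, nat_lit 1, nat_lit 0, nat_lit 2, nat_lit 6, nat_lit 4, nat_lit 0, nat_lit 5, nat_lit 4, nat_lit 6, nat_lit 2, nat_lit 5, nat_lit 0, nat_lit 4, nat_lit 5, nat_lit 1, nat_lit 0, nat_lit 4, nat_lit 1, nat_lit 3, nat_lit 5, nat_lit 4, nat_lit 0, nat_lit 5, nat_lit 1, nat_lit 4, nat_lit 0, nat_lit 4, nat_lit 0, nat_lit 6, nat_lit 4, nat_lit 0, nat_lit 2, nat_lit 0, nat_lit 4, nat_lit 5, nat_lit 6, nat_lit 0, nat_lit 3, nat_lit 4, nat_lit 0, nat_lit 1],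
  [nat_lit 4, nat_lit 0, nat_lit 1, nat_lit 5, nat_lit 4, nat_lit 0, nat_lit 4, nat_lit 1, nat_lit 0, nat_lit 4]]
noncomputable def s_P : ℕ → ℕ → ℕ := wdsP H16.PHe.P s_W
noncomputable def p3t_W : List (List ℕ) := [[nat_lit 1, nat_lit 3, nat_lit 5, nat_lit 0, nat_lit 6, nat_lit 4, nat_lit 0, nat_lit 2, nat_lit 0, nat_lit 4, nat_lit 5, nat_lit 6, nat_lit 0, nat_lit 1, nat_lit 3, nat_lit 5, nat_lit 6, nat_lit 5, nat_lit 6, nat_lit 1, nat_lit 4, nat_lit 0, nat_lit 4, nat_lit 0, nat_lit 6, nat_lit 4, nat_lit 0, nat_lit 2, nat_lit 0, nat_lit 4, nat_lit 5, nat_lit 6, nat_lit 0, nat_lit 4, nat_lit 2, nat_lit 1, nat_lit 0, nat_lit 2, nat_lit 4, nat_lit 6, nat_lit 0, nat_lit 2, nat_lit 4, nat_lit 6, nat_lit 0, nat_lit 4, nat_lit 6, nat_lit 0, nat_lit 2, nat_lit 0, nat_lit 6, nat_lit 4],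
  [nat_lit 0, nat_lit 6, nat_lit 4, nat_lit 0, nat_lit 2, nat_lit 0, nat_lit 4, nat_lit 5, nat_lit 6, nat_lit 0, nat_lit 2, nat_lit 6, nat_lit 4, nat_lit 0, nat_lit 4, nat_lit 6, nat_lit 2, nat_lit 3, nat_lit 0, nat_lit 4, nat_lit 0, nat_lit 1, nat_lit 3, nat_lit 0, nat_lit 4, nat_lit 0, nat_lit 1, nat_lit 3, nat_lit 4, nat_lit 0, nat_lit 3, nat_lit 2, nat_lit 0, nat_lit 1, nat_lit 6, nat_lit 4, nat_lit 0, nat_lit 4, nat_lit 6, nat_lit 4, nat_lit 0, nat_lit 1, nat_lit 6, nat_lit 4, nat_lit 0],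
  [nat_lit 2, nat_lit 6, nat_lit 4, nat_lit 0, nat_lit 6, nat_lit 4, nat_lit 0, nat_lit 2, nat_lit 0, nat_lit 4, nat_lit 5, nat_lit 6, nat_lit 0, nat_lit 4, nat_lit 0, nat_lit 5, nat_lit 1, nat_lit 4, nat_lit 0, nat_lit 4, nat_lit 0, nat_lit 6, nat_lit 4, nat_lit 0, nat_lit 2, nat_lit 0, nat_lit 4, nat_lit 5, nat_lit 6, nat_lit 0, nat_lit 3, nat_lit 4, nat_lit 0, nat_lit 1, nat_lit 4, nat_lit 0, nat_lit 3, nat_lit 4, nat_lit 0, nat_lit 1, nat_lit 4, nat_lit 0, nat_lit 4, nat_lit 3, nat_lit 0, nat_lit 2, nat_lit 0, nat_lit 1, nat_lit 6, nat_lit 4, nat_lit 2, nat_lit 0, nat_lit 6, nat_lit 4, nat_lit 0]]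
noncomputable def p3t_P : ℕ → ℕ → ℕ := wdsP H16.PHe.P p3t_W
noncomputable def p3Pd : List ℕ := [nat_lit 0xb3b0a2afadbaa7a9b6a4b5a5a3a6a8abb1b8aeb2aab4b9acbcbbb79594999a8c9788938d8e8f9b908b9e8798a19c919f89a0929d968a826c7d807973727e7a7477857f86766e6d81847583706f717c787b675956635b645f53515e5d585a5c57626b65525561546069666a6839454046473b384a4e3a3d3c363e504448433f4d4f374c42494b41242a1b3420352523332921321e222f2827301d261c1f312c2e2b2d1413170d0e0f021107190103051810000b120409081606151a0c0a,
  nat_lit 0xafa5b0adb3bbaeb6aaa6b4a2acabb5a4babcb2a7a9a8b8b7b9b1a3889e899187909c989d94a18f969a8e9fa09b958b8c8a938d92979980867f7b72748573757e717981836e707c7d7a846c766d786f77825e5d60595c696b56525a63666765515f625b57646858535554616a4d3e4438454e4239413c493f4b473d37364c3a4a43404f4650483b262034312d223529322b1d1f2125302f24281e272e331b1c2c232a0010160e0f0d0a01020c0418030508120914111a131519170b0607,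
  nat_lit 0xb1b2a8b7b0aebcb8a4a5abb6b5bab9a3b4bba6adafb3a2a7aca9aa9e8a90999ba0988da19d94919a929f9789938b8c9588879c968e8f757a7774816d8471706e837e6f73798086767c787d6c7b8572827f51605b546865575f6959645c6152536a635d5862666b5e675a5556484d3a36423f373b475041463c4940454c384a443d43394e4b3e4f341d212329321b242b22252e262033312d2a301f271e2c28352f1c101709121a0a010d1918160b14070506041103130f0215000c0e08]
noncomputable def p3P (k u : ℕ) : ℕ := Nat.land (Nat.shiftRight (nth (nat_lit 0) p3Pd k) (Nat.mul u (nat_lit 8))) (nat_lit 255)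
noncomputable def p3Ed : ℕ := nat_lit 0x79de23bb339614bdb702c8565aa345e8acbc93b1a2233cc660bfd7bad9598a894c9562382d3ff788e7fbf353e81cc38f302df8bef7129bd1a7b8ea9bc3616a0b9d1520d3f4604a38b00f5f679270adcd9ba784cf93314616bbb760e118ea9150297ce61ac348660c59642784bc6b059c3d71aac549a7f3b25dc5e8a0f7dc935b6a4cf58bac858aa3933228438544758ac0d012c1b7bbf65d736b6b6d0f9931b62abc360ec0d69a2735a3144d6e8c1d7729a44a884cd0e61360aff67eaf79e4bbff41e17a3f38e50c5373eccce18f909a07b8368ac2578ad64e87cceb84a04dea3c7f64ea9cef6a6aec9d822b9c7f8d317dc137f6d4ce16ea3b3b074ce69c232237c4e800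
noncomputable def p3E (u : ℕ) : ℕ := Nat.land (Nat.shiftRight p3Ed (Nat.mul u (nat_lit 11))) (nat_lit 2047)
noncomputable def p3Id : BT := (.node (.node (.leaf (nat_lit 0x8b0000000000001e0000000000000000000000000000000000000000000000000000071d000000060000000000057500000000000000000004000000000000000000000000000000000000000000740000000000000073000000000000000000390072000000000000030000000000710000000000000000008a000000000000000000000000000000000000000000000000000000007000000000000000000000000000a4000000005600000000000000000089000000000000000000006f0000000000000000000000006e000000000000000000000000000000000000a30000000000000000000000000000000000000000000000000000000000000000000000000000000000000000000000005500000000380000000000000200000000000000006d000000000000000000000000000000000000000000000000000000000000000000a20000008800000054000000000000000000000000000001003700000000000000000000000000000000000000000000000000000000000000008700000000000000000000000000000000005300000000000000000000000000006c00000000000000000000000000521c00000000000000000000000000000000000000510000000000000000000036000000001b0000000000000000000000000000000000000000000000000000000000000000000000000000))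 (.leaf (nat_lit 0x9897000000000000000000b700000000000000000000004700000000000000000000000000000000002a00000000000000006a0096000000b60000000000000000000000000000000000000000000000000000000000000000000000000000290000000000000000b5000000000000000000000000460045000000000000000000000000001100000000000000000044000000b400000000000000000000000069000000000000b3000000000000006800000000000000000067000000000000009500000000000000000000000000000000000000000000000000000000940000b200b100430000000000000000000000000000000000000000000000000000000000000000000081000000660000000000000000000028000000000000000000004200000000000080000000000000000000000000000000000000b0650000000000000000000000000000000000000000000000000000000000af0000007f00000000000000000000000000000000000000000000000000100000270000000000000000000000000000000000000fae00000000004100000e640000000000000000000000007e63000040000000000000ad0000000000000000000000000000000000000000000000007d000000000000260000000000000000000000000000000000000000000025000000000000000000000000000000)))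 (.node (.leaf (nat_lit 0x62000093000000000000000000000000000000ac000000000000000000000000000000007c000000000000000000007b000000000092000000000000000000000000000000000000000000000061000000000000000000000000007a240d00000c000000000000910000003f0000000000000000000b00000000000000009000000000006000000000000000005f008f0000000000000000000023000000000000005e000000000a00000000000000ab0000000000000000000000000000000000007900000000005d0000000000000000000000000022003e00000000000000aa00000000000000a900000000002100003d0000000000008e00000000000000000009000000a8000020000000000000000000a70000005c00005b00000000000000000000000000000000000000000000000000000000000000000000a6000000000000003ca5000000000000007800005a000000000000000000000000770000000000000000000000001f000000000000000000000000005900000000000076000000000000000000000000000000000000000000000000000000000000000000000008000000000000000000000000000000008d005800003b0000003a000000005700000000000000000000000000008c00000000000000000000000000))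 (.leaf (nat_lit 0xa10000000000000000000000000000000000350034000000000000000000000000000000008600000000000000000000000000000000000000000000000000000000335000000000000000004f0000000000000000001a00000000000000000000bc0000000000000000000032000019000000000000a0000000000000000031000000000000000000000000000000000000000000000000000018000000000000004e000000000000001700000000000000000000000000000000000030009f000000160000000000000000000000000000000000000000000085000000000000000000000000000000000000bb00000000002f84000000000000000000000000009e000000000000000000000000000000ba0000000000830000000000000000000000000000004d001500000000000000000000000000000000000000000000000000000000004c00000000000000140000000000009d00000000000000000000000000000000000000000000002e000000000000004b00000000009c0000000000000000000000000000b92d0000820000000000000000004a00009b000000000000000000000000000000002c001300000000000000000000000000000000009a0000000000490000000000000000000000482b000000000000000000006b000000000000000000b80000000000000000000000120000990000000000))))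
noncomputable def p3I (u : ℕ) : ℕ := H16.force (Nat.shiftRight u (nat_lit 9)) fun j => Nat.land (Nat.shiftRight (p3Id.get j) (Nat.mul (Nat.land u (nat_lit 511)) (nat_lit 8))) (nat_lit 255)
noncomputable def p3B : List ℕ := [nat_lit 0, nat_lit 54, nat_lit 135, nat_lit 174, nat_lit 110, nat_lit 28, nat_lit 82]
noncomputable def p3C : List (List (List ℕ)) := [[[],
  [],
  []], [[],
  [],
  [nat_lit 0, nat_lit 0]], [[],
  [],
  []]]
noncomputable def p3e : List (List ℕ) := [[nat_lit 1],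
  [nat_lit 0, nat_lit 0, nat_lit 1],
  [nat_lit 1, nat_lit 2]]
noncomputable def p3l0Dd : ℕ := nat_lit 0x3be359a381685e61444d2923ce1c8106143042000
noncomputable def p3l0D (u : ℕ) : ℕ := Nat.land (Nat.shiftRight p3l0Dd (Nat.mul u (nat_lit 6))) (nat_lit 63)
noncomputable def p3l0Pd : ℕ := nat_lit 0x66226060bb14c442a437d5b34df07a3b40
noncomputable def p3l0P (u : ℕ) : ℕ := Nat.land (Nat.shiftRight p3l0Pd (Nat.mul u (nat_lit 5))) (nat_lit 31)
noncomputable def p3l0Qd : ℕ := nat_lit 0x74534d434373558937a38ef24650662c0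
noncomputable def p3l0Q (u : ℕ) : ℕ := Nat.land (Nat.shiftRight p3l0Qd (Nat.mul u (nat_lit 5))) (nat_lit 31)
noncomputable def p3l0 : H16.Lev := ⟨27, 3, p3l0D, p3l0P, p3l0Q⟩

theorem md_b : ltAll 2058 H16.PHe.B = 0 ∧ 4030387200 ≠ 0 := by decide +kernel
theorem p5t_lt : H16.allL (ltAll 7) p5t_W = true := by decide +kernel
theorem p5_r_a : allZ2 (resEnt p5t_P p5P p5E p5I (nat_lit 2058) (nat_lit 82)) (nat_lit 2) (nat_lit 82) = true := by decide +kernel
theorem p5_b : neL H16.PHe.B (p5B.map p5E) = 0 ∧ ltAll 82 p5B = 0 := by decide +kernel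
theorem p5_p : allZ2 (pcEnt p5P (nat_lit 5) p5B p5C) 2 2 = true := by decide +kernel
theorem p5_e : H16.allL (ltAll 2) p5e = true := by decide +kernel
theorem p5l0_e_0 : allZ (dent p5l0 (wdsP p5P p5e) (nat_lit 82)) (nat_lit 0) (nat_lit 24) = true := by decide +kernel
theorem p5l0_h : 0 < p5l0.n ∧ 0 < p5l0.K ∧ p5l0.Pt 0 < 82 ∧ p5l0.Q (p5l0.Pt 0) = 0 := by decide +kernel
theorem p5_f0 : (Nat.ble p5l0.K 3 && Nat.ble (topK []) p5l0.K && fixLetters (wdsP p5P p5e) (topK []) (p5l0.Pt 0)) = true := by decide +kernel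
theorem p5_c : chainCard [p5l0] = 5 ^ 2 ∧ ¬ 5 ^ (2 + 1) ∣ 4030387200 := by decide +kernel
theorem covr_lt : H16.allL (ltAll 7) covr_W = true := by decide +kernel
theorem cov_c0 : (Nat.ble 2 2 && Nat.beq (ltAll 2 []) 0 && Nat.beq (covT0.chk H16.PHe.P p5P covr_P p5E 7 2 5 25 1 p5B 2 [] 0) 0) = true := by decide +kernel
theorem s_lt : H16.allL (ltAll 7) s_W = true := by decide +kernel
theorem s_c_k : eqL s_P 2 H16.PHe.B [nat_lit 0, nat_lit 1] [nat_lit 1, nat_lit 0] = 0 := by decide +kernel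
theorem s_2_k : fixL s_P 2 H16.PHe.B (List.replicate 2 1) = 0 := by decide +kernel
theorem s_1_k : 122 < 2058 ∧ ltAll 2 (List.replicate 1 1) = 0 ∧ ltAll 2 [] = 0 ∧ apW s_P (List.replicate 1 1) 122 ≠ apW s_P [] 122 := by decide +kernel
theorem p3t_lt : H16.allL (ltAll 7) p3t_W = true := by decide +kernel
theorem p3_r_a : allZ2 (resEnt p3t_P p3P p3E p3I (nat_lit 2058) (nat_lit 189)) (nat_lit 3) (nat_lit 189) = true := by decide +kernel
theorem p3_b : neL H16.PHe.B (p3B.map p3E) = 0 ∧ ltAll 189 p3B = 0 := by decide +kernel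
theorem p3_p : allZ2 (pcEnt p3P (nat_lit 3) p3B p3C) 3 3 = true := by decide +kernel
theorem p3_e : H16.allL (ltAll 3) p3e = true := by decide +kernel
theorem p3l0_e_0 : allZ (dent p3l0 (wdsP p3P p3e) (nat_lit 189)) (nat_lit 0) (nat_lit 26) = true := by decide +kernel
theorem p3l0_h : 0 < p3l0.n ∧ 0 < p3l0.K ∧ p3l0.Pt 0 < 189 ∧ p3l0.Q (p3l0.Pt 0) = 0 := by decide +kernel
theorem p3_f0 : (Nat.ble p3l0.K 3 && Nat.ble (topK []) p3l0.K && fixLetters (wdsP p3P p3e) (topK []) (p3l0.Pt 0)) = true := by decide +kernel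
theorem p3_c : chainCard [p3l0] = 3 ^ 3 ∧ ¬ 3 ^ (3 + 1) ∣ 4030387200 := by decide +kernel
theorem n3_k : 0 < 2058 ∧ ltAll 3 [nat_lit 1, nat_lit 2] = 0 ∧ ltAll 3 [nat_lit 2, nat_lit 1] = 0 ∧ apW p3t_P [nat_lit 1, nat_lit 2] 0 ≠ apW p3t_P [nat_lit 2, nat_lit 1] 0 := by decide +kernel

theorem md {G : Type*} [Group G] (e : gen H16.PHe.g 7 ≃* G) :
    ∃ (_ : MulAction G (Fin 2058)) (g : ℕ → G), Md g (ptF 2058) H16.PHe.P 2058 7 H16.PHe.B 4030387200 ∧
      ∀ k < 7, (e.symm (g k)).1 = H16.PHe.g k :=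
  exists_md H16.PHe.act (ptF_inj 2058) H16.PHe.card H16.PHe.isBase md_b e
theorem p5t_act {G Ω : Type*} [Group G] [MulAction G Ω] {g : ℕ → G} {pt : ℕ → Ω}
    (M : Md g pt H16.PHe.P 2058 7 H16.PHe.B 4030387200) : Act (wds g p5t_W) pt p5t_P 2058 2 :=
  M.wact p5t_lt
theorem p5_r : ∀ k < 2, ∀ i < 82, (resEnt p5t_P p5P p5E p5I (nat_lit 2058) (nat_lit 82)) k i = 0 := allZ2_sound p5_r_a
theorem p5_sm {G Ω : Type*} [Group G] [MulAction G Ω] {g : ℕ → G} {pt : ℕ → Ω}
    (M : Md g pt H16.PHe.P 2058 7 H16.PHe.B 4030387200) : Sm (wds g p5t_W) (fun i => pt (p5E i)) p5P 82 2 p5B ∧ ∀ i < 82, p5E i < 2058 :=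
  M.res (p5t_act M) (by decide) p5_r p5_b
theorem p5l0_e : ∀ i < 24, (dent p5l0 (wdsP p5P p5e) (nat_lit 82)) i = 0 := allZ_sound0 p5l0_e_0
theorem p5l0_ok : DOK p5l0 (wdsP p5P p5e) 82 := ⟨p5l0_h, p5l0_e⟩
theorem p5_low {G Ω : Type*} [Group G] [MulAction G Ω] {g : ℕ → G} {pt : ℕ → Ω}
    (M : Md g pt H16.PHe.P 2058 7 H16.PHe.B 4030387200) : SLow (gi (wds (wds g p5t_W) p5e)) (fun i => pt (p5E i)) 82 [p5l0] :=
  (SLow.nil).cons p5l0_ok ((p5_sm M).1.act.wds p5_e 3) p5_f0
theorem p5_pc {G Ω : Type*} [Group G] [MulAction G Ω] {g : ℕ → G} {pt : ℕ → Ω}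
    (M : Md g pt H16.PHe.P 2058 7 H16.PHe.B 4030387200) : PC (wds g p5t_W) 2 5 :=
  have := M.fin
  ((p5_sm M).1.pc0 (by decide) p5_p).pc (p5_low M) (p5_sm M).1.inj
    (fun k => evA_mem_gen _ (nth_lt p5_e k)) M.card ⟨by decide, p5_c⟩
theorem covr_act {G Ω : Type*} [Group G] [MulAction G Ω] {g : ℕ → G} {pt : ℕ → Ω}
    (M : Md g pt H16.PHe.P 2058 7 H16.PHe.B 4030387200) : Act (wds g covr_W) pt covr_P 2058 1 :=
  M.wact covr_lt
theorem cov_0 {G Ω : Type*} [Group G] [MulAction G Ω] {g : ℕ → G} {pt : ℕ → Ω}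
    (M : Md g pt H16.PHe.P 2058 7 H16.PHe.B 4030387200) : H0.TR.Cov (wds g p5t_W) (wds g covr_W) 25 1 2 (evA (wds g p5t_W) []) :=
  have := M.fin
  covT0.cov M (p5_sm M).1 (p5_sm M).2 (covr_act M) (p5_pc M) _ _ cov_c0
theorem cov {G Ω : Type*} [Group G] [MulAction G Ω] {g : ℕ → G} {pt : ℕ → Ω}
    (M : Md g pt H16.PHe.P 2058 7 H16.PHe.B 4030387200) {y : G} {e : ℕ} (hy : y ^ 5 ^ e = 1) (hq : y ^ 25 = 1) : Good (wds g covr_W) 1 y :=
  have := M.fin
  H0.TR.Cov.all (p5_pc M) (cov_0 M) hy hq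
theorem s_act {G Ω : Type*} [Group G] [MulAction G Ω] {g : ℕ → G} {pt : ℕ → Ω}
    (M : Md g pt H16.PHe.P 2058 7 H16.PHe.B 4030387200) : Act (wds g s_W) pt s_P 2058 2 :=
  M.wact s_lt
theorem s_c {G Ω : Type*} [Group G] [MulAction G Ω] {g : ℕ → G} {pt : ℕ → Ω}
    (M : Md g pt H16.PHe.P 2058 7 H16.PHe.B 4030387200) : evA (wds g s_W) [0, 1] = evA (wds g s_W) [1, 0] :=
  M.eq_of (s_act M) s_c_k
theorem s_2 {G Ω : Type*} [Group G] [MulAction G Ω] {g : ℕ → G} {pt : ℕ → Ω}
    (M : Md g pt H16.PHe.P 2058 7 H16.PHe.B 4030387200) : (wds g s_W) 1 ^ 2 = 1 :=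
  M.pw (s_act M) s_2_k
theorem s_1 {G Ω : Type*} [Group G] [MulAction G Ω] {g : ℕ → G} {pt : ℕ → Ω}
    (M : Md g pt H16.PHe.P 2058 7 H16.PHe.B 4030387200) : (wds g s_W) 1 ^ 1 ≠ 1 :=
  M.npw (s_act M) _ s_1_k
theorem p3t_act {G Ω : Type*} [Group G] [MulAction G Ω] {g : ℕ → G} {pt : ℕ → Ω}
    (M : Md g pt H16.PHe.P 2058 7 H16.PHe.B 4030387200) : Act (wds g p3t_W) pt p3t_P 2058 3 :=
  M.wact p3t_lt
theorem p3_r : ∀ k < 3, ∀ i < 189, (resEnt p3t_P p3P p3E p3I (nat_lit 2058) (nat_lit 189)) k i = 0 := allZ2_sound p3_r_a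
theorem p3_sm {G Ω : Type*} [Group G] [MulAction G Ω] {g : ℕ → G} {pt : ℕ → Ω}
    (M : Md g pt H16.PHe.P 2058 7 H16.PHe.B 4030387200) : Sm (wds g p3t_W) (fun i => pt (p3E i)) p3P 189 3 p3B ∧ ∀ i < 189, p3E i < 2058 :=
  M.res (p3t_act M) (by decide) p3_r p3_b
theorem p3l0_e : ∀ i < 26, (dent p3l0 (wdsP p3P p3e) (nat_lit 189)) i = 0 := allZ_sound0 p3l0_e_0
theorem p3l0_ok : DOK p3l0 (wdsP p3P p3e) 189 := ⟨p3l0_h, p3l0_e⟩
theorem p3_low {G Ω : Type*} [Group G] [MulAction G Ω] {g : ℕ → G} {pt : ℕ → Ω}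
    (M : Md g pt H16.PHe.P 2058 7 H16.PHe.B 4030387200) : SLow (gi (wds (wds g p3t_W) p3e)) (fun i => pt (p3E i)) 189 [p3l0] :=
  (SLow.nil).cons p3l0_ok ((p3_sm M).1.act.wds p3_e 3) p3_f0
theorem p3_pc {G Ω : Type*} [Group G] [MulAction G Ω] {g : ℕ → G} {pt : ℕ → Ω}
    (M : Md g pt H16.PHe.P 2058 7 H16.PHe.B 4030387200) : PC (wds g p3t_W) 3 3 :=
  have := M.fin
  ((p3_sm M).1.pc0 (by decide) p3_p).pc (p3_low M) (p3_sm M).1.inj
    (fun k => evA_mem_gen _ (nth_lt p3_e k)) M.card ⟨by decide, p3_c⟩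
theorem n3 {G Ω : Type*} [Group G] [MulAction G Ω] {g : ℕ → G} {pt : ℕ → Ω}
    (M : Md g pt H16.PHe.P 2058 7 H16.PHe.B 4030387200) : evA (wds g p3t_W) [1, 2] ≠ evA (wds g p3t_W) [2, 1] :=
  M.nrel (p3t_act M) _ n3_k

end H2.KBg
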