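import Cfsg.Agent.H2.L0

/-! Generated: the normalizer of a three-cycle in the alternating group of degree eight. -/

set_option maxRecDepth 100000
set_option maxHeartbeats 4000000
set_option linter.unusedVariables false

open Subgroup
open scoped commutatorElement
namespace H2.L3
open H0 H0.PM H16 H19 H10.X

def NZ {G : Type*} [Group G] (z a b c d : G) : Prop :=
  z ^ 3 = 1 ∧
  a * a = 1 ∧
  b * b = 1 ∧
  c * c = 1 ∧
  d * d = 1 ∧
  (a * b) ^ 3 = 1 ∧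
  (b * c) ^ 3 = 1 ∧
  (c * d) ^ 3 = 1 ∧
  a * c = c * a ∧
  a * d = d * a ∧
  b * d = d * b ∧
  a * z * a⁻¹ = z⁻¹ ∧
  b * z * b⁻¹ = z⁻¹ ∧
  c * z * c⁻¹ = z⁻¹ ∧
  d * z * d⁻¹ = z⁻¹ ∧ True
theorem NZ.map {G G' : Type*} [Group G] [Group G'] {z a b c d : G} (h : NZ z a b c d) (f : G →* G') :
    NZ (f z) (f a) (f b) (f c) (f d) :=
  ⟨by simpa only [map_mul, map_pow, map_inv, map_one, map_commutatorElement] using congrArg f h.1,
   by simpa only [map_mul, map_pow, map_inv, map_one, map_commutatorElement] using congrArg f h.2.1,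
   by simpa only [map_mul, map_pow, map_inv, map_one, map_commutatorElement] using congrArg f h.2.2.1,
   by simpa only [map_mul, map_pow, map_inv, map_one, map_commutatorElement] using congrArg f h.2.2.2.1,
   by simpa only [map_mul, map_pow, map_inv, map_one, map_commutatorElement] using congrArg f h.2.2.2.2.1,
   by simpa only [map_mul, map_pow, map_inv, map_one, map_commutatorElement] using congrArg f h.2.2.2.2.2.1,
   by simpa only [map_mul, map_pow, map_inv, map_one, map_commutatorElement] using congrArg f h.2.2.2.2.2.2.1,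
   by simpa only [map_mul, map_pow, map_inv, map_one, map_commutatorElement] using congrArg f h.2.2.2.2.2.2.2.1,
   by simpa only [map_mul, map_pow, map_inv, map_one, map_commutatorElement] using congrArg f h.2.2.2.2.2.2.2.2.1,
   by simpa only [map_mul, map_pow, map_inv, map_one, map_commutatorElement] using congrArg f h.2.2.2.2.2.2.2.2.2.1,
   by simpa only [map_mul, map_pow, map_inv, map_one, map_commutatorElement] using congrArg f h.2.2.2.2.2.2.2.2.2.2.1,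
   by simpa only [map_mul, map_pow, map_inv, map_one, map_commutatorElement] using congrArg f h.2.2.2.2.2.2.2.2.2.2.2.1,
   by simpa only [map_mul, map_pow, map_inv, map_one, map_commutatorElement] using congrArg f h.2.2.2.2.2.2.2.2.2.2.2.2.1,
   by simpa only [map_mul, map_pow, map_inv, map_one, map_commutatorElement] using congrArg f h.2.2.2.2.2.2.2.2.2.2.2.2.2.1,
   by simpa only [map_mul, map_pow, map_inv, map_one, map_commutatorElement] using congrArg f h.2.2.2.2.2.2.2.2.2.2.2.2.2.2.1, trivial⟩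
theorem NZ.comap {G G' : Type*} [Group G] [Group G'] {z a b c d : G} {f : G →* G'} (hf : Function.Injective f)
    (h : NZ (f z) (f a) (f b) (f c) (f d)) : NZ z a b c d :=
  ⟨hf (by simpa only [map_mul, map_pow, map_inv, map_one, map_commutatorElement] using h.1),
   hf (by simpa only [map_mul, map_pow, map_inv, map_one, map_commutatorElement] using h.2.1),
   hf (by simpa only [map_mul, map_pow, map_inv, map_one, map_commutatorElement] using h.2.2.1),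
   hf (by simpa only [map_mul, map_pow, map_inv, map_one, map_commutatorElement] using h.2.2.2.1),
   hf (by simpa only [map_mul, map_pow, map_inv, map_one, map_commutatorElement] using h.2.2.2.2.1),
   hf (by simpa only [map_mul, map_pow, map_inv, map_one, map_commutatorElement] using h.2.2.2.2.2.1),
   hf (by simpa only [map_mul, map_pow, map_inv, map_one, map_commutatorElement] using h.2.2.2.2.2.2.1),
   hf (by simpa only [map_mul, map_pow, map_inv, map_one, map_commutatorElement] using h.2.2.2.2.2.2.2.1),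
   hf (by simpa only [map_mul, map_pow, map_inv, map_one, map_commutatorElement] using h.2.2.2.2.2.2.2.2.1),
   hf (by simpa only [map_mul, map_pow, map_inv, map_one, map_commutatorElement] using h.2.2.2.2.2.2.2.2.2.1),
   hf (by simpa only [map_mul, map_pow, map_inv, map_one, map_commutatorElement] using h.2.2.2.2.2.2.2.2.2.2.1),
   hf (by simpa only [map_mul, map_pow, map_inv, map_one, map_commutatorElement] using h.2.2.2.2.2.2.2.2.2.2.2.1),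
   hf (by simpa only [map_mul, map_pow, map_inv, map_one, map_commutatorElement] using h.2.2.2.2.2.2.2.2.2.2.2.2.1),
   hf (by simpa only [map_mul, map_pow, map_inv, map_one, map_commutatorElement] using h.2.2.2.2.2.2.2.2.2.2.2.2.2.1),
   hf (by simpa only [map_mul, map_pow, map_inv, map_one, map_commutatorElement] using h.2.2.2.2.2.2.2.2.2.2.2.2.2.2.1), trivial⟩
noncomputable def NZ_Rl : List (List ℕ) := [[0,1],
  [1,0],
  [2,2],
  [3,3],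
  [4,4],
  [5,5],
  [0,0,0],
  [3,2,3,2,3,2],
  [4,3,4,3,4,3],
  [5,4,5,4,5,4],
  [4,2,4,2],
  [5,2,5,2],
  [5,3,5,3],
  [0,2,0,2],
  [0,3,0,3],
  [0,4,0,4],
  [0,5,0,5]]
theorem NZ_r {G : Type*} [Group G] {z a b c d : G}
    (h : NZ z a b c d) :
    Rels (nthG [z, z⁻¹, a, b, c, d]) NZ_Rl :=
  rels_of_eqs ((InvI.cons h.2.1 (InvI.cons h.2.2.1 (InvI.cons h.2.2.2.1 (InvI.cons h.2.2.2.2.1 InvI.nil)))) : InvI [z, a, b, c, d] [(nat_lit 1), (nat_lit 2), (nat_lit 3), (nat_lit 4)])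
    (show AllEq [z, a, b, c, d] [((.pw (.v (nat_lit 0)) (nat_lit 3)), .one), ((.mul (.v (nat_lit 1)) (.v (nat_lit 1))), .one), ((.mul (.v (nat_lit 2)) (.v (nat_lit 2))), .one), ((.mul (.v (nat_lit 3)) (.v (nat_lit 3))), .one), ((.mul (.v (nat_lit 4)) (.v (nat_lit 4))), .one), ((.pw (.mul (.v (nat_lit 1)) (.v (nat_lit 2))) (nat_lit 3)), .one), ((.pw (.mul (.v (nat_lit 2)) (.v (nat_lit 3))) (nat_lit 3)), .one), ((.pw (.mul (.v (nat_lit 3)) (.v (nat_lit 4))) (nat_lit 3)), .one), ((.mul (.v (nat_lit 1)) (.v (nat_lit 3))), (.mul (.v (nat_lit 3)) (.v (nat_lit 1)))), ((.mul (.v (nat_lit 1)) (.v (nat_lit 4))), (.mul (.v (nat_lit 4)) (.v (nat_lit 1)))), ((.mul (.v (nat_lit 2)) (.v (nat_lit 4))), (.mul (.v (nat_lit 4)) (.v (nat_lit 2)))), ((.mul (.mul (.v (nat_lit 1)) (.v (nat_lit 0))) (.inv (.v (nat_lit 1)))), (.inv (.v (nat_lit 0)))), ((.mul (.mul (.v (nat_lit 2)) (.v (nat_lit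 0))) (.inv (.v (nat_lit 2)))), (.inv (.v (nat_lit 0)))), ((.mul (.mul (.v (nat_lit 3)) (.v (nat_lit 0))) (.inv (.v (nat_lit 3)))), (.inv (.v (nat_lit 0)))), ((.mul (.mul (.v (nat_lit 4)) (.v (nat_lit 0))) (.inv (.v (nat_lit 4)))), (.inv (.v (nat_lit 0))))] from h)
    [(.v (nat_lit 0)), (.inv (.v (nat_lit 0))), (.v (nat_lit 1)), (.v (nat_lit 2)), (.v (nat_lit 3)), (.v (nat_lit 4))] (by decide +kernel)
noncomputable abbrev NZ_o : Ops := pops (nat_lit 8) (nat_lit 3) (nat_lit 7) (nat_lit 0xfac688)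
noncomputable def NZ_cs : List ℕ := [(nat_lit 0xfac611), (nat_lit 0xfac642), (nat_lit 0xfab881), (nat_lit 0xfa5681), (nat_lit 0xf74681), (nat_lit 0xdec681)]
noncomputable def NZ_L : List (List ℕ) := [[(nat_lit 0xfac688), (nat_lit 0xfab881), (nat_lit 0xfa3a88), (nat_lit 0xf63c81), (nat_lit 0xd63e88)],
  [(nat_lit 0xfac688), (nat_lit 0xfa5681), (nat_lit 0xf66688), (nat_lit 0xd67681)],
  [(nat_lit 0xfac688), (nat_lit 0xfac611), (nat_lit 0xfac642)],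
  [(nat_lit 0xfac688), (nat_lit 0xf74650), (nat_lit 0xd7c688)],
  [(nat_lit 0xfac688), (nat_lit 0xdec650)]]
noncomputable def NZ_WW : List (List (List ℕ)) := [[[],
  [(nat_lit 2)],
  [(nat_lit 2), (nat_lit 3)],
  [(nat_lit 2), (nat_lit 3), (nat_lit 4)],
  [(nat_lit 2), (nat_lit 3), (nat_lit 4), (nat_lit 5)]],
  [[],
  [(nat_lit 3)],
  [(nat_lit 3), (nat_lit 4)],
  [(nat_lit 3), (nat_lit 4), (nat_lit 5)]],
  [[],
  [(nat_lit 0)],
  [(nat_lit 1)]],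
  [[],
  [(nat_lit 0), (nat_lit 4)],
  [(nat_lit 4), (nat_lit 5)]],
  [[],
  [(nat_lit 0), (nat_lit 5)]]]
noncomputable def NZ_b3_S0 : List ℕ := [nat_lit 0xb000007008006, nat_lit 0x1300000f00000700c008, nat_lit 0x1700000b000010008008, nat_lit 0x13000009008006]
noncomputable def NZ_b3_S : List (List ℕ) := [NZ_b3_S0]
noncomputable def NZ_b3_defs : List ℕ := [(nat_lit 0x2000020000000300200001000000010000000000000000)]
noncomputable def NZ_b3_recs : List ℕ := [(nat_lit 0x500004000000300005020000000004000000000002)]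
noncomputable def NZ_b3_L0 : List ℕ := [nat_lit 0x7000001000002000002000006000004, nat_lit 0xb00000200000800000000000f000003, nat_lit 0x100000000000c000001000017000005, nat_lit 0x1300000400000a000005000010000001, nat_lit 0xd000005000014000003000005000000, nat_lit 0x900000300000e000004000018000002]
noncomputable def NZ_b3_L : List (List ℕ) := [NZ_b3_L0]
noncomputable def NZ_b3_V : List ℕ := [(nat_lit 0x50000000400000003000000020000000100000000)]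
noncomputable def NZ_b3_D : H26.Dag := ⟨[1,0,2], [[0,1],
  [1,0],
  [2,2],
  [0,0,0],
  [0,2,0,2]], [], NZ_b3_defs, NZ_b3_recs⟩
theorem NZ_b3_c : NZ_b3_D.checkTab NZ_b3_S 6 3 NZ_b3_V NZ_b3_L = true := by decide +kernel
theorem NZ_b3 : Bound NZ_Rl 3 6 :=
  bound_dag (Bound.zero NZ_Rl) (K := 3) (J := [0,1,2,6,13]) (by decide +kernel) NZ_b3_c (by decide +kernel)
noncomputable def NZ_b4_S0 : List ℕ := [nat_lit 0x1, nat_lit 0x1, nat_lit 0x700000100000800800c, nat_lit 0xb00000900000c00800a, nat_lit 0xb00000700000500000800000c008008]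
noncomputable def NZ_b4_S : List (List ℕ) := [NZ_b4_S0]
noncomputable def NZ_b4_defs : List ℕ := [(nat_lit 0x2000010030000000000000)]
noncomputable def NZ_b4_recs : List ℕ := [(nat_lit 0x30000200002000000200002000000100001020000000000000000000000)]
noncomputable def NZ_b4_L0 : List ℕ := [nat_lit 0x1000000000002000000000005000000000007000001, nat_lit 0x900000100000a00000100000b000002000008000000, nat_lit 0xd00000200000e00000200000c000001000011000002]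
noncomputable def NZ_b4_L : List (List ℕ) := [NZ_b4_L0]
noncomputable def NZ_b4_V : List ℕ := [(nat_lit 0x20000000100000000)]
noncomputable def NZ_b4_D : H26.Dag := ⟨[1,0,2,3], [[0,1],
  [1,0],
  [2,2],
  [3,3],
  [3,2,3,2,3,2],
  [0,2,0,2],
  [0,3,0,3]], [0,1,2], NZ_b4_defs, NZ_b4_recs⟩
theorem NZ_b4_c : NZ_b4_D.checkTab NZ_b4_S 3 4 NZ_b4_V NZ_b4_L = true := by decide +kernel
theorem NZ_b4 : Bound NZ_Rl 4 18 :=
  bound_dag NZ_b3 (K := 4) (J := [0,1,2,3,7,13,14]) (by decide +kernel) NZ_b4_c (by decide +kernel)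
noncomputable def NZ_b5_S0 : List ℕ := [nat_lit 0x1, nat_lit 0x1, nat_lit 0x1, nat_lit 0x700000500000800400e, nat_lit 0x7000001000008008014, nat_lit 0xb00001100000c008012, nat_lit 0xb00000700000900000800000c00800c, nat_lit 0xf00001900001000800e, nat_lit 0xf000015000010008010, nat_lit 0xf00000b00000d00000c00001000800a]
noncomputable def NZ_b5_S : List (List ℕ) := [NZ_b5_S0]
noncomputable def NZ_b5_defs : List ℕ := [(nat_lit 0x200002003000010040000000000000)]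
noncomputable def NZ_b5_recs : List ℕ := [(nat_lit 0x30000300003000000300003040000300003040000200002000000200002000000100001020000100001030000000000020000000000000000000000)]
noncomputable def NZ_b5_L0 : List ℕ := [nat_lit 0x1000000000002000000000005000000000009000000000007000001, nat_lit 0x1100000100001200000100000d00000100000b000002000008000000, nat_lit 0x1500000200001600000200000f00000300000c000001000019000002, nat_lit 0x2100000300002200000300001000000200002500000300001d000003]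
noncomputable def NZ_b5_L : List (List ℕ) := [NZ_b5_L0]
noncomputable def NZ_b5_V : List ℕ := [(nat_lit 0x3000000020000000100000000)]
noncomputable def NZ_b5_D : H26.Dag := ⟨[1,0,2,3,4], [[0,1],
  [1,0],
  [2,2],
  [3,3],
  [4,4],
  [3,2,3,2,3,2],
  [4,3,4,3,4,3],
  [4,2,4,2],
  [0,2,0,2],
  [0,3,0,3],
  [0,4,0,4]], [0,1,2,3], NZ_b5_defs, NZ_b5_recs⟩
theorem NZ_b5_c : NZ_b5_D.checkTab NZ_b5_S 4 5 NZ_b5_V NZ_b5_L = true := by decide +kernel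
theorem NZ_b5 : Bound NZ_Rl 5 72 :=
  bound_dag NZ_b4 (K := 5) (J := [0,1,2,3,4,7,8,10,13,14,15]) (by decide +kernel) NZ_b5_c (by decide +kernel)
noncomputable def NZ_b6_S0 : List ℕ := [nat_lit 0x1, nat_lit 0x1, nat_lit 0x1, nat_lit 0x1, nat_lit 0x7000005000008004014, nat_lit 0x7000009000008004016, nat_lit 0x700000100000800801e, nat_lit 0xb00001100000c004012, nat_lit 0xb00001900000c00801c, nat_lit 0xb00000700000d00000800000c008010, nat_lit 0xf000025000010008016, nat_lit 0xf00002100001000801a, nat_lit 0xf00000b00001500000c00001000800e, nat_lit 0x13000031000014008012, nat_lit 0x13000029000014008014, nat_lit 0x1300002d000014008018, nat_lit 0x1300000f00001d00001000001400800c]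
noncomputable def NZ_b6_S : List (List ℕ) := [NZ_b6_S0]
noncomputable def NZ_b6_defs : List ℕ := [(nat_lit 0x20000300300002004000010050000000000000)]
noncomputable def NZ_b6_recs : List ℕ := [(nat_lit 0x30000400004000000400004050000400004040000400004040000300003000000300003050000300003050000200002000000200002020000200002000000100001030000100001020000100001040000000000030000000000020000000000000000000000)]
noncomputable def NZ_b6_L0 : List ℕ := [nat_lit 0x100000000000200000000000500000000000900000000000d000000000007000001, nat_lit 0x1900000100001a00000100001100000100001500000100000b000002000008000000, nat_lit 0x2100000200002200000200001d00000200000f00000300000c000001000025000002, nat_lit 0x2d00000300002e000003000013000004000010000002000031000003000029000003, nat_lit 0x3d00000400003e000004000014000003000041000004000035000004000039000004]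
noncomputable def NZ_b6_L : List (List ℕ) := [NZ_b6_L0]
noncomputable def NZ_b6_V : List ℕ := [(nat_lit 0x400000003000000020000000100000000)]
noncomputable def NZ_b6_D : H26.Dag := ⟨[1,0,2,3,4,5], [[0,1],
  [1,0],
  [2,2],
  [3,3],
  [4,4],
  [5,5],
  [3,2,3,2,3,2],
  [4,3,4,3,4,3],
  [5,4,5,4,5,4],
  [4,2,4,2],
  [5,2,5,2],
  [5,3,5,3],
  [0,2,0,2],
  [0,3,0,3],
  [0,4,0,4],
  [0,5,0,5]], [0,1,2,3,4], NZ_b6_defs, NZ_b6_recs⟩
theorem NZ_b6_c : NZ_b6_D.checkTab NZ_b6_S 5 6 NZ_b6_V NZ_b6_L = true := by decide +kernel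
theorem NZ_b6 : Bound NZ_Rl 6 360 :=
  bound_dag NZ_b5 (K := 6) (J := [0,1,2,3,4,5,7,8,9,10,11,12,13,14,15,16]) (by decide +kernel) NZ_b6_c (by decide +kernel)
theorem NZ_P : PModel (nat_lit 8) (nat_lit 3) (nat_lit 7) (nat_lit 0xfac688) NZ_cs NZ_Rl NZ_L 360 :=
  ⟨PkOK.of (by decide +kernel), by decide +kernel, by decide +kernel, NZ_b6, ⟨NZ_WW, by decide +kernel⟩,
    ⟨fun c => Nat.mod c (nat_lit 11335), by decide +kernel⟩⟩
noncomputable def NZ_soc_t0 : ST := (.node (nat_lit 10150) (.node (nat_lit 5748) (.node (nat_lit 2970) (.node (nat_lit 1272) (.node (nat_lit 815) (.node (nat_lit 355) (.node (nat_lit 178) (.node (nat_lit 71) (.leaf (nat_lit 120)) (.leaf (nat_lit 195))) (.node (nat_lit 231) (.leaf (nat_lit 305)) (.node (nat_lit 304) (.leaf (nat_lit 10)) (.leaf (nat_lit 195))))) (.node (nat_lit 470) (.node (nat_lit 464) (.leaf (nat_lit 5)) (.leaf (nat_lit 10))) (.node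 (nat_lit 582) (.leaf (nat_lit 240)) (.node (nat_lit 732) (.leaf (nat_lit 0)) (.leaf (nat_lit 120)))))) (.node (nat_lit 1046) (.node (nat_lit 915) (.node (nat_lit 856) (.leaf (nat_lit 180)) (.leaf (nat_lit 0))) (.node (nat_lit 947) (.leaf (nat_lit 240)) (.node (nat_lit 1016) (.leaf (nat_lit 180)) (.leaf (nat_lit 1))))) (.node (nat_lit 1107) (.node (nat_lit 1078) (.leaf (nat_lit 195)) (.leaf (nat_lit 240))) (.node (nat_lit 1148) (.leaf (nat_lit 180)) (.node (nat_lit 1240) (.leaf (nat_lit 240)) (.leaf (nat_lit 241))))))) (.node (nat_lit 2040) (.node (nat_lit 1730) (.node (nat_lit 1400) (.node (nat_lit 1340) (.leaf (nat_lit 120)) (.leaf (nat_lit 1))) (.node (nat_lit 1556) (.leaf (nat_lit 120)) (.node (nat_lit 1647) (.leaf (nat_lit 1)) (.leaf (nat_lit 180))))) (.node (nat_lit 1854) (.node (nat_lit 1807) (.leaf (nat_lit 240)) (.leaf (nat_lit 180))) (.node (nat_lit 1890) (.leaf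 (nat_lit 1)) (.node (nat_lit 2014) (.leaf (nat_lit 0)) (.leaf (nat_lit 5)))))) (.node (nat_lit 2702) (.node (nat_lit 2391) (.node (nat_lit 2362) (.leaf (nat_lit 6)) (.leaf (nat_lit 195))) (.node (nat_lit 2470) (.leaf (nat_lit 180)) (.node (nat_lit 2595) (.leaf (nat_lit 10)) (.leaf (nat_lit 195))))) (.node (nat_lit 2846) (.node (nat_lit 2707) (.leaf (nat_lit 0)) (.leaf (nat_lit 180))) (.node (nat_lit 2912) (.leaf (nat_lit 10)) (.node (nat_lit 2940) (.leaf (nat_lit 195)) (.leaf (nat_lit 6)))))))) (.node (nat_lit 4171) (.node (nat_lit 3622) (.node (nat_lit 3392) (.node (nat_lit 3130) (.node (nat_lit 3114) (.leaf (nat_lit 10)) (.leaf (nat_lit 120))) (.node (nat_lit 3295) (.leaf (nat_lit 0)) (.node (nat_lit 3347) (.leaf (nat_lit 180)) (.leaf (nat_lit 120))))) (.node (nat_lit 3455) (.node (nat_lit 3396) (.leaf (nat_lit 0)) (.leaf (nat_lit 10))) (.node (nat_lit 3471) (.leaf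 (nat_lit 195)) (.node (nat_lit 3530) (.leaf (nat_lit 180)) (.leaf (nat_lit 240)))))) (.node (nat_lit 3782) (.node (nat_lit 3654) (.node (nat_lit 3631) (.leaf (nat_lit 241)) (.leaf (nat_lit 180))) (.node (nat_lit 3670) (.leaf (nat_lit 120)) (.node (nat_lit 3688) (.leaf (nat_lit 10)) (.leaf (nat_lit 195))))) (.node (nat_lit 3995) (.node (nat_lit 3936) (.leaf (nat_lit 120)) (.leaf (nat_lit 131))) (.node (nat_lit 4015) (.leaf (nat_lit 195)) (.node (nat_lit 4096) (.leaf (nat_lit 120)) (.leaf (nat_lit 240))))))) (.node (nat_lit 5010) (.node (nat_lit 4580) (.node (nat_lit 4228) (.node (nat_lit 4187) (.leaf (nat_lit 180)) (.leaf (nat_lit 240))) (.node (nat_lit 4307) (.leaf (nat_lit 195)) (.node (nat_lit 4420) (.leaf (nat_lit 0)) (.leaf (nat_lit 240))))) (.node (nat_lit 4871) (.node (nat_lit 4747) (.leaf (nat_lit 246)) (.leaf (nat_lit 120))) (.node (nat_lit 4972) (.leaf (nat_lit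 180)) (.node (nat_lit 4980) (.leaf (nat_lit 6)) (.leaf (nat_lit 120)))))) (.node (nat_lit 5294) (.node (nat_lit 5104) (.node (nat_lit 5031) (.leaf (nat_lit 0)) (.leaf (nat_lit 180))) (.node (nat_lit 5247) (.leaf (nat_lit 0)) (.node (nat_lit 5278) (.leaf (nat_lit 180)) (.leaf (nat_lit 0))))) (.node (nat_lit 5511) (.node (nat_lit 5480) (.leaf (nat_lit 195)) (.node (nat_lit 5506) (.leaf (nat_lit 0)) (.leaf (nat_lit 240)))) (.node (nat_lit 5585) (.leaf (nat_lit 180)) (.node (nat_lit 5614) (.leaf (nat_lit 0)) (.leaf (nat_lit 65))))))))) (.node (nat_lit 7644) (.node (nat_lit 6620) (.node (nat_lit 6007) (.node (nat_lit 5908) (.node (nat_lit 5795) (.node (nat_lit 5778) (.leaf (nat_lit 11)) (.leaf (nat_lit 10))) (.node (nat_lit 5872) (.leaf (nat_lit 5)) (.node (nat_lit 5896) (.leaf (nat_lit 6)) (.leaf (nat_lit 240))))) (.node (nat_lit 5955) (.node (nat_lit 5910) (.leaf (nat_lit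 1)) (.leaf (nat_lit 0))) (.node (nat_lit 5987) (.leaf (nat_lit 120)) (.node (nat_lit 5992) (.leaf (nat_lit 240)) (.leaf (nat_lit 246)))))) (.node (nat_lit 6371) (.node (nat_lit 6070) (.node (nat_lit 6011) (.leaf (nat_lit 180)) (.leaf (nat_lit 10))) (.node (nat_lit 6188) (.leaf (nat_lit 195)) (.node (nat_lit 6220) (.leaf (nat_lit 120)) (.leaf (nat_lit 240))))) (.node (nat_lit 6457) (.node (nat_lit 6427) (.leaf (nat_lit 180)) (.leaf (nat_lit 5))) (.node (nat_lit 6495) (.leaf (nat_lit 240)) (.node (nat_lit 6610) (.leaf (nat_lit 120)) (.leaf (nat_lit 195))))))) (.node (nat_lit 7247) (.node (nat_lit 6894) (.node (nat_lit 6711) (.node (nat_lit 6655) (.leaf (nat_lit 10)) (.leaf (nat_lit 5))) (.node (nat_lit 6728) (.leaf (nat_lit 240)) (.node (nat_lit 6802) (.leaf (nat_lit 120)) (.leaf (nat_lit 240))))) (.node (nat_lit 7086) (.node (nat_lit 6920) (.leaf (nat_lit 10)) (.leaf (nat_lit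 241))) (.node (nat_lit 7214) (.leaf (nat_lit 240)) (.node (nat_lit 7218) (.leaf (nat_lit 65)) (.leaf (nat_lit 10)))))) (.node (nat_lit 7463) (.node (nat_lit 7362) (.node (nat_lit 7303) (.leaf (nat_lit 240)) (.leaf (nat_lit 5))) (.node (nat_lit 7378) (.leaf (nat_lit 120)) (.node (nat_lit 7411) (.leaf (nat_lit 0)) (.leaf (nat_lit 10))))) (.node (nat_lit 7520) (.node (nat_lit 7480) (.leaf (nat_lit 5)) (.node (nat_lit 7508) (.leaf (nat_lit 240)) (.leaf (nat_lit 6)))) (.node (nat_lit 7555) (.leaf (nat_lit 195)) (.node (nat_lit 7587) (.leaf (nat_lit 5)) (.leaf (nat_lit 180)))))))) (.node (nat_lit 8992) (.node (nat_lit 8412) (.node (nat_lit 8102) (.node (nat_lit 7932) (.node (nat_lit 7768) (.leaf (nat_lit 10)) (.leaf (nat_lit 61))) (.node (nat_lit 7968) (.leaf (nat_lit 195)) (.node (nat_lit 7986) (.leaf (nat_lit 251)) (.leaf (nat_lit 120))))) (.node (nat_lit 8278) (.node (nat_lit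 8248) (.leaf (nat_lit 5)) (.leaf (nat_lit 1))) (.node (nat_lit 8365) (.leaf (nat_lit 240)) (.node (nat_lit 8408) (.leaf (nat_lit 120)) (.leaf (nat_lit 6)))))) (.node (nat_lit 8523) (.node (nat_lit 8491) (.node (nat_lit 8487) (.leaf (nat_lit 0)) (.leaf (nat_lit 180))) (.node (nat_lit 8496) (.leaf (nat_lit 10)) (.node (nat_lit 8511) (.leaf (nat_lit 6)) (.leaf (nat_lit 240))))) (.node (nat_lit 8602) (.node (nat_lit 8570) (.leaf (nat_lit 180)) (.leaf (nat_lit 120))) (.node (nat_lit 8724) (.leaf (nat_lit 240)) (.node (nat_lit 8986) (.leaf (nat_lit 10)) (.leaf (nat_lit 0))))))) (.node (nat_lit 9787) (.node (nat_lit 9538) (.node (nat_lit 9110) (.node (nat_lit 9002) (.leaf (nat_lit 240)) (.leaf (nat_lit 10))) (.node (nat_lit 9268) (.leaf (nat_lit 120)) (.node (nat_lit 9532) (.leaf (nat_lit 180)) (.leaf (nat_lit 10))))) (.node (nat_lit 9728) (.node (nat_lit 9696) (.leaf (nat_lit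 240)) (.leaf (nat_lit 195))) (.node (nat_lit 9771) (.leaf (nat_lit 120)) (.node (nat_lit 9783) (.leaf (nat_lit 240)) (.leaf (nat_lit 5)))))) (.node (nat_lit 10020) (.node (nat_lit 9862) (.node (nat_lit 9803) (.leaf (nat_lit 195)) (.leaf (nat_lit 5))) (.node (nat_lit 9902) (.leaf (nat_lit 240)) (.node (nat_lit 10012) (.leaf (nat_lit 195)) (.leaf (nat_lit 1))))) (.node (nat_lit 10067) (.node (nat_lit 10026) (.leaf (nat_lit 195)) (.node (nat_lit 10042) (.leaf (nat_lit 10)) (.leaf (nat_lit 65)))) (.node (nat_lit 10071) (.leaf (nat_lit 180)) (.node (nat_lit 10103) (.leaf (nat_lit 5)) (.leaf (nat_lit 180)))))))))) (.node (nat_lit 15871) (.node (nat_lit 12968) (.node (nat_lit 12036) (.node (nat_lit 10863) (.node (nat_lit 10547) (.node (nat_lit 10300) (.node (nat_lit 10168) (.leaf (nat_lit 61)) (.leaf (nat_lit 10))) (.node (nat_lit 10314) (.leaf (nat_lit 6)) (.node (nat_lit 10336)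 (.leaf (nat_lit 195)) (.leaf (nat_lit 1))))) (.node (nat_lit 10756) (.node (nat_lit 10725) (.leaf (nat_lit 195)) (.leaf (nat_lit 0))) (.node (nat_lit 10788) (.leaf (nat_lit 120)) (.node (nat_lit 10831) (.leaf (nat_lit 240)) (.leaf (nat_lit 5)))))) (.node (nat_lit 11822) (.node (nat_lit 11528) (.node (nat_lit 11106) (.leaf (nat_lit 180)) (.leaf (nat_lit 10))) (.node (nat_lit 11563) (.leaf (nat_lit 241)) (.node (nat_lit 11620) (.leaf (nat_lit 5)) (.leaf (nat_lit 10))))) (.node (nat_lit 11914) (.node (nat_lit 11883) (.leaf (nat_lit 65)) (.leaf (nat_lit 180))) (.node (nat_lit 11918) (.leaf (nat_lit 10)) (.node (nat_lit 12016) (.leaf (nat_lit 0)) (.leaf (nat_lit 61))))))) (.node (nat_lit 12343) (.node (nat_lit 12126) (.node (nat_lit 12078) (.node (nat_lit 12048) (.leaf (nat_lit 195)) (.leaf (nat_lit 240))) (.node (nat_lit 12088) (.leaf (nat_lit 195)) (.node (nat_lit 12110)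 (.leaf (nat_lit 180)) (.leaf (nat_lit 120))))) (.node (nat_lit 12147) (.node (nat_lit 12127) (.leaf (nat_lit 305)) (.leaf (nat_lit 195))) (.node (nat_lit 12151) (.leaf (nat_lit 10)) (.node (nat_lit 12311) (.leaf (nat_lit 180)) (.leaf (nat_lit 195)))))) (.node (nat_lit 12530) (.node (nat_lit 12411) (.node (nat_lit 12376) (.leaf (nat_lit 120)) (.leaf (nat_lit 195))) (.node (nat_lit 12414) (.leaf (nat_lit 5)) (.node (nat_lit 12418) (.leaf (nat_lit 120)) (.leaf (nat_lit 240))))) (.node (nat_lit 12818) (.node (nat_lit 12607) (.leaf (nat_lit 5)) (.node (nat_lit 12704) (.leaf (nat_lit 180)) (.leaf (nat_lit 240)))) (.node (nat_lit 12824) (.leaf (nat_lit 0)) (.node (nat_lit 12840) (.leaf (nat_lit 311)) (.leaf (nat_lit 0)))))))) (.node (nat_lit 14496) (.node (nat_lit 13858) (.node (nat_lit 13132) (.node (nat_lit 13051) (.node (nat_lit 12988) (.leaf (nat_lit 60)) (.leaf (nat_lit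 10))) (.node (nat_lit 13096) (.leaf (nat_lit 180)) (.node (nat_lit 13108) (.leaf (nat_lit 120)) (.leaf (nat_lit 191))))) (.node (nat_lit 13170) (.node (nat_lit 13138) (.leaf (nat_lit 71)) (.leaf (nat_lit 120))) (.node (nat_lit 13371) (.leaf (nat_lit 240)) (.node (nat_lit 13403) (.leaf (nat_lit 120)) (.leaf (nat_lit 240)))))) (.node (nat_lit 14398) (.node (nat_lit 14103) (.node (nat_lit 13907) (.leaf (nat_lit 180)) (.leaf (nat_lit 10))) (.node (nat_lit 14140) (.leaf (nat_lit 120)) (.node (nat_lit 14387) (.leaf (nat_lit 10)) (.leaf (nat_lit 180))))) (.node (nat_lit 14430) (.node (nat_lit 14418) (.leaf (nat_lit 61)) (.leaf (nat_lit 195))) (.node (nat_lit 14454) (.leaf (nat_lit 240)) (.node (nat_lit 14470) (.leaf (nat_lit 0)) (.leaf (nat_lit 120))))))) (.node (nat_lit 14971) (.node (nat_lit 14651) (.node (nat_lit 14552) (.node (nat_lit 14548) (.leaf (nat_lit 246)) (.leaf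 (nat_lit 0))) (.node (nat_lit 14620) (.leaf (nat_lit 10)) (.node (nat_lit 14631) (.leaf (nat_lit 1)) (.leaf (nat_lit 180))))) (.node (nat_lit 14687) (.node (nat_lit 14663) (.leaf (nat_lit 195)) (.leaf (nat_lit 240))) (.node (nat_lit 14742) (.leaf (nat_lit 180)) (.node (nat_lit 14951) (.leaf (nat_lit 195)) (.leaf (nat_lit 120)))))) (.node (nat_lit 15245) (.node (nat_lit 15127) (.node (nat_lit 15048) (.leaf (nat_lit 5)) (.leaf (nat_lit 6))) (.node (nat_lit 15132) (.leaf (nat_lit 180)) (.node (nat_lit 15184) (.leaf (nat_lit 66)) (.leaf (nat_lit 120))))) (.node (nat_lit 15478) (.node (nat_lit 15354) (.leaf (nat_lit 311)) (.node (nat_lit 15370) (.leaf (nat_lit 0)) (.leaf (nat_lit 10)))) (.node (nat_lit 15587) (.leaf (nat_lit 120)) (.node (nat_lit 15711) (.leaf (nat_lit 180)) (.leaf (nat_lit 120))))))))) (.node (nat_lit 18256) (.node (nat_lit 16960) (.node (nat_lit 16662) (.node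 (nat_lit 16443) (.node (nat_lit 16388) (.node (nat_lit 16230) (.leaf (nat_lit 5)) (.leaf (nat_lit 240))) (.node (nat_lit 16404) (.leaf (nat_lit 195)) (.node (nat_lit 16411) (.leaf (nat_lit 240)) (.leaf (nat_lit 195))))) (.node (nat_lit 16463) (.node (nat_lit 16447) (.leaf (nat_lit 120)) (.leaf (nat_lit 180))) (.node (nat_lit 16522) (.leaf (nat_lit 240)) (.node (nat_lit 16644) (.leaf (nat_lit 10)) (.leaf (nat_lit 195)))))) (.node (nat_lit 16734) (.node (nat_lit 16718) (.node (nat_lit 16696) (.leaf (nat_lit 120)) (.leaf (nat_lit 180))) (.node (nat_lit 16727) (.leaf (nat_lit 120)) (.node (nat_lit 16731) (.leaf (nat_lit 180)) (.leaf (nat_lit 5))))) (.node (nat_lit 16924) (.node (nat_lit 16898) (.leaf (nat_lit 305)) (.leaf (nat_lit 1))) (.node (nat_lit 16928) (.leaf (nat_lit 61)) (.node (nat_lit 16934) (.leaf (nat_lit 195)) (.leaf (nat_lit 10))))))) (.node (nat_lit 17663)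 (.node (nat_lit 17167) (.node (nat_lit 17072) (.node (nat_lit 17058) (.leaf (nat_lit 1)) (.leaf (nat_lit 5))) (.node (nat_lit 17162) (.leaf (nat_lit 10)) (.node (nat_lit 17163) (.leaf (nat_lit 305)) (.leaf (nat_lit 180))))) (.node (nat_lit 17379) (.node (nat_lit 17246) (.leaf (nat_lit 10)) (.leaf (nat_lit 0))) (.node (nat_lit 17474) (.leaf (nat_lit 5)) (.node (nat_lit 17566) (.leaf (nat_lit 0)) (.leaf (nat_lit 120)))))) (.node (nat_lit 17821) (.node (nat_lit 17672) (.node (nat_lit 17670) (.leaf (nat_lit 180)) (.leaf (nat_lit 195))) (.node (nat_lit 17690) (.leaf (nat_lit 1)) (.node (nat_lit 17803) (.leaf (nat_lit 180)) (.leaf (nat_lit 5))))) (.node (nat_lit 18168) (.node (nat_lit 17964) (.leaf (nat_lit 0)) (.node (nat_lit 18023) (.leaf (nat_lit 1)) (.leaf (nat_lit 180)))) (.node (nat_lit 18179) (.leaf (nat_lit 10)) (.node (nat_lit 18224) (.leaf (nat_lit 0)) (.leaf (nat_lit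 241)))))))) (.node (nat_lit 19687) (.node (nat_lit 19159) (.node (nat_lit 19058) (.node (nat_lit 18786) (.node (nat_lit 18770) (.leaf (nat_lit 0)) (.leaf (nat_lit 195))) (.node (nat_lit 18959) (.leaf (nat_lit 240)) (.node (nat_lit 19003) (.leaf (nat_lit 5)) (.leaf (nat_lit 195))))) (.node (nat_lit 19074) (.node (nat_lit 19062) (.leaf (nat_lit 120)) (.leaf (nat_lit 0))) (.node (nat_lit 19078) (.leaf (nat_lit 10)) (.node (nat_lit 19103) (.leaf (nat_lit 120)) (.leaf (nat_lit 180)))))) (.node (nat_lit 19326) (.node (nat_lit 19267) (.node (nat_lit 19243) (.leaf (nat_lit 5)) (.leaf (nat_lit 180))) (.node (nat_lit 19287) (.leaf (nat_lit 240)) (.node (nat_lit 19310) (.leaf (nat_lit 5)) (.leaf (nat_lit 195))))) (.node (nat_lit 19454) (.node (nat_lit 19344) (.leaf (nat_lit 0)) (.leaf (nat_lit 241))) (.node (nat_lit 19543) (.leaf (nat_lit 10)) (.node (nat_lit 19613) (.leaf (nat_lit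 195)) (.leaf (nat_lit 0))))))) (.node (nat_lit 20376) (.node (nat_lit 19984) (.node (nat_lit 19798) (.node (nat_lit 19744) (.leaf (nat_lit 10)) (.leaf (nat_lit 6))) (.node (nat_lit 19827) (.leaf (nat_lit 0)) (.node (nat_lit 19866) (.leaf (nat_lit 5)) (.leaf (nat_lit 180))))) (.node (nat_lit 20143) (.node (nat_lit 20019) (.leaf (nat_lit 246)) (.leaf (nat_lit 5))) (.node (nat_lit 20308) (.leaf (nat_lit 180)) (.node (nat_lit 20370) (.leaf (nat_lit 241)) (.leaf (nat_lit 240)))))) (.node (nat_lit 20606) (.node (nat_lit 20550) (.node (nat_lit 20527) (.leaf (nat_lit 6)) (.leaf (nat_lit 240))) (.node (nat_lit 20559) (.leaf (nat_lit 10)) (.node (nat_lit 20579) (.leaf (nat_lit 5)) (.leaf (nat_lit 180))))) (.node (nat_lit 21188) (.node (nat_lit 20760) (.leaf (nat_lit 241)) (.node (nat_lit 20783) (.leaf (nat_lit 240)) (.leaf (nat_lit 10)))) (.node (nat_lit 21267) (.leaf (nat_lit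 0)) (.node (nat_lit 21392) (.leaf (nat_lit 10)) (.leaf (nat_lit 195)))))))))))
noncomputable def NZ_soc_t1 : ST := (.node (nat_lit 4205) (.node (nat_lit 2598) (.node (nat_lit 1185) (.node (nat_lit 608) (.node (nat_lit 191) (.node (nat_lit 139) (.node (nat_lit 106) (.leaf (nat_lit 180)) (.leaf (nat_lit 240))) (.node (nat_lit 142) (.leaf (nat_lit 60)) (.node (nat_lit 176) (.leaf (nat_lit 180)) (.leaf (nat_lit 60))))) (.node (nat_lit 261) (.node (nat_lit 209) (.leaf (nat_lit 120)) (.leaf (nat_lit 180))) (.node (nat_lit 289) (.leaf (nat_lit 0)) (.node (nat_lit 566) (.leaf (nat_lit 180)) (.leaf (nat_lit 60)))))) (.node (nat_lit 779) (.node (nat_lit 660) (.node (nat_lit 657) (.leaf (nat_lit 180)) (.leaf (nat_lit 60))) (.node (nat_lit 727) (.leaf (nat_lit 180)) (.node (nat_lit 749) (.leaf (nat_lit 60)) (.leaf (nat_lit 180))))) (.node (nat_lit 1001) (.node (nat_lit 963) (.leaf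 (nat_lit 0)) (.node (nat_lit 985) (.leaf (nat_lit 180)) (.leaf (nat_lit 240)))) (.node (nat_lit 1012) (.leaf (nat_lit 20)) (.node (nat_lit 1055) (.leaf (nat_lit 120)) (.leaf (nat_lit 180))))))) (.node (nat_lit 2134) (.node (nat_lit 1584) (.node (nat_lit 1461) (.node (nat_lit 1188) (.leaf (nat_lit 0)) (.leaf (nat_lit 180))) (.node (nat_lit 1531) (.leaf (nat_lit 60)) (.node (nat_lit 1580) (.leaf (nat_lit 20)) (.leaf (nat_lit 180))))) (.node (nat_lit 1907) (.node (nat_lit 1756) (.leaf (nat_lit 0)) (.leaf (nat_lit 180))) (.node (nat_lit 1977) (.leaf (nat_lit 60)) (.node (nat_lit 2133) (.leaf (nat_lit 180)) (.leaf (nat_lit 300)))))) (.node (nat_lit 2230) (.node (nat_lit 2165) (.node (nat_lit 2160) (.leaf (nat_lit 60)) (.leaf (nat_lit 240))) (.node (nat_lit 2166) (.leaf (nat_lit 180)) (.node (nat_lit 2204) (.leaf (nat_lit 60)) (.leaf (nat_lit 180))))) (.node (nat_lit 2415)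 (.node (nat_lit 2235) (.leaf (nat_lit 0)) (.node (nat_lit 2385) (.leaf (nat_lit 180)) (.leaf (nat_lit 60)))) (.node (nat_lit 2455) (.leaf (nat_lit 180)) (.node (nat_lit 2464) (.leaf (nat_lit 60)) (.leaf (nat_lit 180)))))))) (.node (nat_lit 3340) (.node (nat_lit 2956) (.node (nat_lit 2825) (.node (nat_lit 2740) (.node (nat_lit 2641) (.leaf (nat_lit 0)) (.leaf (nat_lit 180))) (.node (nat_lit 2743) (.leaf (nat_lit 300)) (.node (nat_lit 2755) (.leaf (nat_lit 60)) (.leaf (nat_lit 180))))) (.node (nat_lit 2883) (.node (nat_lit 2834) (.leaf (nat_lit 0)) (.leaf (nat_lit 180))) (.node (nat_lit 2886) (.leaf (nat_lit 300)) (.node (nat_lit 2953) (.leaf (nat_lit 180)) (.leaf (nat_lit 5)))))) (.node (nat_lit 3115) (.node (nat_lit 2996) (.node (nat_lit 2970) (.leaf (nat_lit 180)) (.leaf (nat_lit 60))) (.node (nat_lit 3040) (.leaf (nat_lit 300)) (.node (nat_lit 3110) (.leaf (nat_lit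 180)) (.leaf (nat_lit 240))))) (.node (nat_lit 3229) (.node (nat_lit 3180) (.leaf (nat_lit 180)) (.node (nat_lit 3212) (.leaf (nat_lit 240)) (.leaf (nat_lit 180)))) (.node (nat_lit 3291) (.leaf (nat_lit 60)) (.node (nat_lit 3331) (.leaf (nat_lit 180)) (.leaf (nat_lit 60))))))) (.node (nat_lit 3838) (.node (nat_lit 3661) (.node (nat_lit 3432) (.node (nat_lit 3431) (.leaf (nat_lit 180)) (.leaf (nat_lit 20))) (.node (nat_lit 3434) (.leaf (nat_lit 180)) (.node (nat_lit 3442) (.leaf (nat_lit 60)) (.leaf (nat_lit 180))))) (.node (nat_lit 3719) (.node (nat_lit 3668) (.leaf (nat_lit 60)) (.node (nat_lit 3717) (.leaf (nat_lit 180)) (.leaf (nat_lit 300)))) (.node (nat_lit 3787) (.leaf (nat_lit 120)) (.node (nat_lit 3789) (.leaf (nat_lit 180)) (.leaf (nat_lit 60)))))) (.node (nat_lit 4016) (.node (nat_lit 3955) (.node (nat_lit 3946) (.leaf (nat_lit 180)) (.leaf (nat_lit 300))) (.node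 (nat_lit 3973) (.leaf (nat_lit 180)) (.node (nat_lit 3982) (.leaf (nat_lit 240)) (.leaf (nat_lit 60))))) (.node (nat_lit 4052) (.node (nat_lit 4025) (.leaf (nat_lit 20)) (.node (nat_lit 4043) (.leaf (nat_lit 180)) (.leaf (nat_lit 240)))) (.node (nat_lit 4065) (.leaf (nat_lit 5)) (.node (nat_lit 4177) (.leaf (nat_lit 180)) (.leaf (nat_lit 60))))))))) (.node (nat_lit 6252) (.node (nat_lit 5517) (.node (nat_lit 4905) (.node (nat_lit 4641) (.node (nat_lit 4273) (.node (nat_lit 4247) (.leaf (nat_lit 180)) (.leaf (nat_lit 0))) (.node (nat_lit 4564) (.leaf (nat_lit 180)) (.node (nat_lit 4592) (.leaf (nat_lit 0)) (.leaf (nat_lit 180))))) (.node (nat_lit 4786) (.node (nat_lit 4684) (.leaf (nat_lit 65)) (.leaf (nat_lit 180))) (.node (nat_lit 4856) (.leaf (nat_lit 60)) (.node (nat_lit 4888) (.leaf (nat_lit 180)) (.leaf (nat_lit 60)))))) (.node (nat_lit 5304) (.node (nat_lit 5104)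 (.node (nat_lit 5077) (.leaf (nat_lit 180)) (.leaf (nat_lit 60))) (.node (nat_lit 5147) (.leaf (nat_lit 180)) (.node (nat_lit 5153) (.leaf (nat_lit 60)) (.leaf (nat_lit 180))))) (.node (nat_lit 5418) (.node (nat_lit 5369) (.leaf (nat_lit 60)) (.node (nat_lit 5374) (.leaf (nat_lit 180)) (.leaf (nat_lit 60)))) (.node (nat_lit 5432) (.leaf (nat_lit 180)) (.node (nat_lit 5468) (.leaf (nat_lit 240)) (.leaf (nat_lit 180))))))) (.node (nat_lit 5846) (.node (nat_lit 5763) (.node (nat_lit 5659) (.node (nat_lit 5551) (.leaf (nat_lit 300)) (.leaf (nat_lit 180))) (.node (nat_lit 5662) (.leaf (nat_lit 120)) (.node (nat_lit 5714) (.leaf (nat_lit 60)) (.leaf (nat_lit 180))))) (.node (nat_lit 5776) (.node (nat_lit 5768) (.leaf (nat_lit 305)) (.node (nat_lit 5773) (.leaf (nat_lit 180)) (.leaf (nat_lit 300)))) (.node (nat_lit 5778) (.leaf (nat_lit 60)) (.node (nat_lit 5843) (.leaf (nat_lit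 180)) (.leaf (nat_lit 60)))))) (.node (nat_lit 6027) (.node (nat_lit 5865) (.node (nat_lit 5859) (.leaf (nat_lit 0)) (.leaf (nat_lit 180))) (.node (nat_lit 5881) (.leaf (nat_lit 0)) (.node (nat_lit 5993) (.leaf (nat_lit 180)) (.leaf (nat_lit 60))))) (.node (nat_lit 6097) (.node (nat_lit 6063) (.leaf (nat_lit 180)) (.node (nat_lit 6095) (.leaf (nat_lit 0)) (.leaf (nat_lit 60)))) (.node (nat_lit 6123) (.leaf (nat_lit 180)) (.node (nat_lit 6146) (.leaf (nat_lit 60)) (.leaf (nat_lit 180)))))))) (.node (nat_lit 6757) (.node (nat_lit 6452) (.node (nat_lit 6353) (.node (nat_lit 6322) (.node (nat_lit 6280) (.leaf (nat_lit 60)) (.leaf (nat_lit 180))) (.node (nat_lit 6331) (.leaf (nat_lit 60)) (.node (nat_lit 6350) (.leaf (nat_lit 180)) (.leaf (nat_lit 20))))) (.node (nat_lit 6382) (.node (nat_lit 6380) (.leaf (nat_lit 60)) (.leaf (nat_lit 300))) (.node (nat_lit 6399) (.leaf (nat_lit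 240)) (.node (nat_lit 6450) (.leaf (nat_lit 180)) (.leaf (nat_lit 0)))))) (.node (nat_lit 6638) (.node (nat_lit 6586) (.node (nat_lit 6501) (.leaf (nat_lit 240)) (.leaf (nat_lit 180))) (.node (nat_lit 6607) (.leaf (nat_lit 60)) (.node (nat_lit 6622) (.leaf (nat_lit 240)) (.leaf (nat_lit 180))))) (.node (nat_lit 6677) (.node (nat_lit 6656) (.leaf (nat_lit 240)) (.node (nat_lit 6671) (.leaf (nat_lit 180)) (.leaf (nat_lit 60)))) (.node (nat_lit 6708) (.leaf (nat_lit 180)) (.node (nat_lit 6741) (.leaf (nat_lit 240)) (.leaf (nat_lit 0))))))) (.node (nat_lit 7502) (.node (nat_lit 7298) (.node (nat_lit 7114) (.node (nat_lit 7071) (.leaf (nat_lit 180)) (.leaf (nat_lit 65))) (.node (nat_lit 7245) (.leaf (nat_lit 180)) (.node (nat_lit 7281) (.leaf (nat_lit 300)) (.leaf (nat_lit 180))))) (.node (nat_lit 7364) (.node (nat_lit 7315) (.leaf (nat_lit 60)) (.node (nat_lit 7330) (.leaf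 (nat_lit 180)) (.leaf (nat_lit 240)))) (.node (nat_lit 7400) (.leaf (nat_lit 180)) (.node (nat_lit 7453) (.leaf (nat_lit 60)) (.leaf (nat_lit 180)))))) (.node (nat_lit 8019) (.node (nat_lit 7572) (.node (nat_lit 7562) (.leaf (nat_lit 60)) (.leaf (nat_lit 180))) (.node (nat_lit 7632) (.leaf (nat_lit 0)) (.node (nat_lit 8017) (.leaf (nat_lit 180)) (.leaf (nat_lit 60))))) (.node (nat_lit 8090) (.node (nat_lit 8020) (.leaf (nat_lit 180)) (.node (nat_lit 8022) (.leaf (nat_lit 60)) (.leaf (nat_lit 180)))) (.node (nat_lit 8092) (.leaf (nat_lit 60)) (.node (nat_lit 8193) (.leaf (nat_lit 180)) (.leaf (nat_lit 0))))))))))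
noncomputable def NZ_soc_F : Fm := (.all NZ_L (.or (.qf (.eq (.v (nat_lit 0)) .one)) (.exF NZ_L (fun cs => NZ_soc_t1.find (Nat.mod (nth (nat_lit 0) cs (nat_lit 0)) (nat_lit 8287))) (.exF NZ_L (fun cs => NZ_soc_t0.find (Nat.mod (Nat.add (nth (nat_lit 0) cs (nat_lit 0)) (Nat.mul (nat_lit 7919) (nth (nat_lit 0) cs (nat_lit 1)))) (nat_lit 21412))) (.qf (.or (.eq (.mul (.mul (.v (nat_lit 0)) (.v (nat_lit 2))) (.inv (.v (nat_lit 0)))) (.v (nat_lit 3))) (.or (.eq (.mul (.mul (.v (nat_lit 0)) (.v (nat_lit 2))) (.inv (.v (nat_lit 0)))) (.mul (.v (nat_lit 6)) (.v (nat_lit 8)))) (.or (.eq (.mul (.mul (.v (nat_lit 0)) (.mul (.mul (.mul (.v (nat_lit 2)) (.v (nat_lit 1))) (.inv (.v (nat_lit 2)))) (.inv (.v (nat_lit 1))))) (.inv (.v (nat_lit 0)))) (.v (nat_lit 3))) (.or (.eq (.mul (.mul (.v (nat_lit 0)) (.mul (.mul (.mul (.v (nat_lit 2)) (.v (nat_lit 1))) (.inv (.v (nat_lit 2)))) (.inv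 (.v (nat_lit 1))))) (.inv (.v (nat_lit 0)))) (.mul (.v (nat_lit 6)) (.v (nat_lit 8)))) (.or (.eq (.mul (.mul (.mul (.mul (.mul (.mul (.v (nat_lit 2)) (.v (nat_lit 1))) (.inv (.v (nat_lit 2)))) (.inv (.v (nat_lit 1)))) (.v (nat_lit 0))) (.inv (.mul (.mul (.mul (.v (nat_lit 2)) (.v (nat_lit 1))) (.inv (.v (nat_lit 2)))) (.inv (.v (nat_lit 1)))))) (.inv (.v (nat_lit 0)))) (.v (nat_lit 3))) (.eq (.mul (.mul (.mul (.mul (.mul (.mul (.v (nat_lit 2)) (.v (nat_lit 1))) (.inv (.v (nat_lit 2)))) (.inv (.v (nat_lit 1)))) (.v (nat_lit 0))) (.inv (.mul (.mul (.mul (.v (nat_lit 2)) (.v (nat_lit 1))) (.inv (.v (nat_lit 2)))) (.inv (.v (nat_lit 1)))))) (.inv (.v (nat_lit 0)))) (.mul (.v (nat_lit 6)) (.v (nat_lit 8))))))))))))))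
theorem NZ_soc_chk : Fm.chk NZ_o NZ_soc_F NZ_cs = true := by decide +kernel
theorem NZ_soc {G : Type*} [Group G] {R : ℕ → G → Prop} {z z_i a b c d : G} {H : Subgroup G}
    (M : Mdl NZ_o NZ_cs NZ_L R [z, z_i, a, b, c, d] H) :
    ∀ y_ ∈ H, y_ = 1 ∨ (∃ q_ ∈ H, ∃ k_ ∈ H, k_ * y_ * k_⁻¹ = z ∨ k_ * y_ * k_⁻¹ = b * d ∨ k_ * ⁅y_, q_⁆ * k_⁻¹ = z ∨ k_ * ⁅y_, q_⁆ * k_⁻¹ = b * d ∨ ⁅⁅y_, q_⁆, k_⁆ = z ∨ ⁅⁅y_, q_⁆, k_⁆ = b * d) :=
  have h : ∀ y_, InL NZ_o R NZ_L y_ → y_ = 1 ∨ (Good NZ_o R NZ_L → prods NZ_o NZ_L NZ_o.one ≠ [] → ∃ q_, InL NZ_o R NZ_L q_ ∧ (Good NZ_o R NZ_L → prods NZ_o NZ_L NZ_o.one ≠ [] → ∃ k_, InL NZ_o R NZ_L k_ ∧ (k_ * y_ * k_⁻¹ = z ∨ k_ * y_ * k_⁻¹ = b * d ∨ k_ * ⁅y_, q_⁆ * k_⁻¹ = z ∨ k_ * ⁅y_, q_⁆ * k_⁻¹ = b * d ∨ ⁅⁅y_, q_⁆, k_⁆ = z ∨ ⁅⁅y_, q_⁆, k_⁆ = b * d))) :=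
    Fm.sound M.μ NZ_soc_F NZ_soc_chk M.reps
  (fun y_ h0 => (Or.imp (fun h1 => h1) (fun h1 => (Exists.imp (fun q_ h2 => ⟨M.H.iff.1 h2.1, (Exists.imp (fun k_ h3 => ⟨M.H.iff.1 h3.1, h3.2⟩) (h2.2 M.H.good M.H.ne))⟩) (h1 M.H.good M.H.ne))) (h y_ (M.H.iff.2 h0))))
theorem NZ_mdl {G : Type*} [Group G] {z a b c d : G}
    (h : NZ z a b c d)
    (n1 : z ≠ 1) (n2 : b * d ≠ 1) :
    ∃ R, Mdl NZ_o NZ_cs NZ_L R [z, z⁻¹, a, b, c, d] (sp [z, z⁻¹, a, b, c, d]) ∧ #(sp [z, z⁻¹, a, b, c, d]) = 360 :=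
  mdl_of NZ_P rfl (NZ_r h) (.v (nat_lit 0)) (.mul (.v (nat_lit 3)) (.v (nat_lit 5))) n1 n2
    fun _ ms _ M hl => match ms, M, (hl : ms.length = 6) with
      | [_, _, _, _, _, _], M, _ => NZ_soc M
noncomputable def NX_cs : List ℕ := [(nat_lit 0xfac611), (nat_lit 0xfac642), (nat_lit 0xfab881), (nat_lit 0xfa5681), (nat_lit 0xf74681), (nat_lit 0xdec681), (nat_lit 0xbf4688), (nat_lit 0xde5688), (nat_lit 0xb3e688), (nat_lit 0xdeb888), (nat_lit 0xbf4611), (nat_lit 0xddca88)]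
theorem NX_ext {G : Type*} [Group G] {R : ℕ → G → Prop} {z a b c d : G} {H : Subgroup G}
    (M : Mdl NZ_o NZ_cs NZ_L R [z, z⁻¹, a, b, c, d] H) :
    Mdl NZ_o NX_cs NZ_L R [z, z⁻¹, a, b, c, d, c * d, b * d, c * d * (b * d) * (c * d)⁻¹, a * d, z * (c * d), a * d * (b * d) * (a * d)⁻¹] H :=
  ⟨M.μ, M.reps.tms M.μ.1 [(.v (nat_lit 0)), (.v (nat_lit 1)), (.v (nat_lit 2)), (.v (nat_lit 3)), (.v (nat_lit 4)), (.v (nat_lit 5)), (.mul (.v (nat_lit 4)) (.v (nat_lit 5))), (.mul (.v (nat_lit 3)) (.v (nat_lit 5))), (.mul (.mul (.mul (.v (nat_lit 4)) (.v (nat_lit 5))) (.mul (.v (nat_lit 3)) (.v (nat_lit 5)))) (.inv (.mul (.v (nat_lit 4)) (.v (nat_lit 5))))), (.mul (.v (nat_lit 2)) (.v (nat_lit 5))), (.mul (.v (nat_lit 0)) (.mul (.v (nat_lit 4)) (.v (nat_lit 5)))), (.mul (.mul (.mul (.v (nat_lit 2)) (.v (nat_lit 5))) (.mul (.v (nat_lit 3)) (.v (nat_lit 5)))) (.inv (.mul (.v (nat_lit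 2)) (.v (nat_lit 5)))))] (cs' := NX_cs) (by decide +kernel),
    tms_mem M.le [(.v (nat_lit 0)), (.v (nat_lit 1)), (.v (nat_lit 2)), (.v (nat_lit 3)), (.v (nat_lit 4)), (.v (nat_lit 5)), (.mul (.v (nat_lit 4)) (.v (nat_lit 5))), (.mul (.v (nat_lit 3)) (.v (nat_lit 5))), (.mul (.mul (.mul (.v (nat_lit 4)) (.v (nat_lit 5))) (.mul (.v (nat_lit 3)) (.v (nat_lit 5)))) (.inv (.mul (.v (nat_lit 4)) (.v (nat_lit 5))))), (.mul (.v (nat_lit 2)) (.v (nat_lit 5))), (.mul (.v (nat_lit 0)) (.mul (.v (nat_lit 4)) (.v (nat_lit 5)))), (.mul (.mul (.mul (.v (nat_lit 2)) (.v (nat_lit 5))) (.mul (.v (nat_lit 3)) (.v (nat_lit 5)))) (.inv (.mul (.v (nat_lit 2)) (.v (nat_lit 5)))))], M.H⟩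
noncomputable def NX_r_f_F : Fm := (.qf (.and (.eq (.pw (.v (nat_lit 0)) (nat_lit 3)) .one) (.and (.eq (.mul (.v (nat_lit 2)) (.v (nat_lit 2))) .one) (.and (.eq (.mul (.v (nat_lit 3)) (.v (nat_lit 3))) .one) (.and (.eq (.mul (.v (nat_lit 4)) (.v (nat_lit 4))) .one) (.and (.eq (.mul (.v (nat_lit 5)) (.v (nat_lit 5))) .one) (.and (.eq (.pw (.mul (.v (nat_lit 2)) (.v (nat_lit 3))) (nat_lit 3)) .one) (.and (.eq (.pw (.mul (.v (nat_lit 3)) (.v (nat_lit 4))) (nat_lit 3)) .one) (.and (.eq (.pw (.mul (.v (nat_lit 4)) (.v (nat_lit 5))) (nat_lit 3)) .one) (.and (.eq (.mul (.v (nat_lit 2)) (.v (nat_lit 4))) (.mul (.v (nat_lit 4)) (.v (nat_lit 2)))) (.and (.eq (.mul (.v (nat_lit 2)) (.v (nat_lit 5))) (.mul (.v (nat_lit 5)) (.v (nat_lit 2)))) (.and (.eq (.mul (.v (nat_lit 3)) (.v (nat_lit 5))) (.mul (.v (nat_lit 5)) (.v (nat_lit 3)))) (.and (.eq (.mul (.mul (.v (nat_lit 2)) (.v (nat_lit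 0))) (.inv (.v (nat_lit 2)))) (.inv (.v (nat_lit 0)))) (.and (.eq (.mul (.mul (.v (nat_lit 3)) (.v (nat_lit 0))) (.inv (.v (nat_lit 3)))) (.inv (.v (nat_lit 0)))) (.and (.eq (.mul (.mul (.v (nat_lit 4)) (.v (nat_lit 0))) (.inv (.v (nat_lit 4)))) (.inv (.v (nat_lit 0)))) (.eq (.mul (.mul (.v (nat_lit 5)) (.v (nat_lit 0))) (.inv (.v (nat_lit 5)))) (.inv (.v (nat_lit 0)))))))))))))))))))
theorem NX_r_f_chk : Fm.chk NZ_o NX_r_f_F NX_cs = true := by decide +kernel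
theorem NX_r_f {G : Type*} [Group G] {R : ℕ → G → Prop} {z a b c d w v u e y p : G} {H : Subgroup G}
    (M : Mdl NZ_o NX_cs NZ_L R [z, z⁻¹, a, b, c, d, w, v, u, e, y, p] H) :
    z ^ 3 = 1 ∧ a * a = 1 ∧ b * b = 1 ∧ c * c = 1 ∧ d * d = 1 ∧ (a * b) ^ 3 = 1 ∧ (b * c) ^ 3 = 1 ∧ (c * d) ^ 3 = 1 ∧ a * c = c * a ∧ a * d = d * a ∧ b * d = d * b ∧ a * z * a⁻¹ = z⁻¹ ∧ b * z * b⁻¹ = z⁻¹ ∧ c * z * c⁻¹ = z⁻¹ ∧ d * z * d⁻¹ = z⁻¹ :=
  Fm.sound M.μ NX_r_f_F NX_r_f_chk M.reps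
theorem NX_r {G : Type*} [Group G] {R : ℕ → G → Prop} {z a b c d w v u e y p : G} {H : Subgroup G}
    (M : Mdl NZ_o NX_cs NZ_L R [z, z⁻¹, a, b, c, d, w, v, u, e, y, p] H) :
    NZ z a b c d :=
  have h := NX_r_f M
  ⟨h.1, h.2.1, h.2.2.1, h.2.2.2.1, h.2.2.2.2.1, h.2.2.2.2.2.1, h.2.2.2.2.2.2.1, h.2.2.2.2.2.2.2.1, h.2.2.2.2.2.2.2.2.1, h.2.2.2.2.2.2.2.2.2.1, h.2.2.2.2.2.2.2.2.2.2.1, h.2.2.2.2.2.2.2.2.2.2.2.1, h.2.2.2.2.2.2.2.2.2.2.2.2.1, h.2.2.2.2.2.2.2.2.2.2.2.2.2.1, h.2.2.2.2.2.2.2.2.2.2.2.2.2.2, trivial⟩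
noncomputable def NX_lD : List ℕ := [(nat_lit 0xfac688), (nat_lit 0xfac611), (nat_lit 0xbf4688), (nat_lit 0xfac642), (nat_lit 0xbf4611), (nat_lit 0xd7c688), (nat_lit 0xbf4642), (nat_lit 0xd7c611), (nat_lit 0xd7c642)]
noncomputable def NX_lD_W : List (List ℕ) := [[],
  [(nat_lit 0)],
  [(nat_lit 1)],
  [(nat_lit 0), (nat_lit 0)],
  [(nat_lit 0), (nat_lit 1)],
  [(nat_lit 1), (nat_lit 1)],
  [(nat_lit 0), (nat_lit 0), (nat_lit 1)],
  [(nat_lit 0), (nat_lit 1), (nat_lit 1)],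
  [(nat_lit 0), (nat_lit 0), (nat_lit 1), (nat_lit 1)]]
noncomputable def NX_lD_h (c : ℕ) : ℕ := Nat.mod c (nat_lit 12)
theorem NX_lD_E {G : Type*} [Group G] {R : ℕ → G → Prop} {z a b c d w v u e y p : G} {H : Subgroup G}
    (M : Mdl NZ_o NX_cs NZ_L R [z, z⁻¹, a, b, c, d, w, v, u, e, y, p] H) :
    EnumS R NX_lD (sp [z, w]) :=
  enumS_sp M.μ.1 (M.reps.tms M.μ.1 [(.v (nat_lit 0)), (.v (nat_lit 6))] (cs' := [(nat_lit 0xfac611), (nat_lit 0xbf4688)]) (by decide +kernel))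
    (Ws := NX_lD_W) (by decide +kernel) (by decide +kernel)
theorem NX_lD_c {G : Type*} [Group G] {R : ℕ → G → Prop} {z a b c d w v u e y p : G} {H : Subgroup G}
    (M : Mdl NZ_o NX_cs NZ_L R [z, z⁻¹, a, b, c, d, w, v, u, e, y, p] H) :
    #(sp [z, w]) = 9 :=
  (NX_lD_E M).card M.μ (h := NX_lD_h) (by decide +kernel)
noncomputable def NX_lV : List ℕ := [(nat_lit 0xfac688), (nat_lit 0xde5688), (nat_lit 0xb3e688), (nat_lit 0x977688)]
noncomputable def NX_lV_W : List (List ℕ) := [[],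
  [(nat_lit 0)],
  [(nat_lit 1)],
  [(nat_lit 0), (nat_lit 1)]]
noncomputable def NX_lV_h (c : ℕ) : ℕ := Nat.mod c (nat_lit 11)
theorem NX_lV_E {G : Type*} [Group G] {R : ℕ → G → Prop} {z a b c d w v u e y p : G} {H : Subgroup G}
    (M : Mdl NZ_o NX_cs NZ_L R [z, z⁻¹, a, b, c, d, w, v, u, e, y, p] H) :
    EnumS R NX_lV (sp [v, u]) :=
  enumS_sp M.μ.1 (M.reps.tms M.μ.1 [(.v (nat_lit 7)), (.v (nat_lit 8))] (cs' := [(nat_lit 0xde5688), (nat_lit 0xb3e688)]) (by decide +kernel))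
    (Ws := NX_lV_W) (by decide +kernel) (by decide +kernel)
theorem NX_lV_c {G : Type*} [Group G] {R : ℕ → G → Prop} {z a b c d w v u e y p : G} {H : Subgroup G}
    (M : Mdl NZ_o NX_cs NZ_L R [z, z⁻¹, a, b, c, d, w, v, u, e, y, p] H) :
    #(sp [v, u]) = 4 :=
  (NX_lV_E M).card M.μ (h := NX_lV_h) (by decide +kernel)
noncomputable def NX_lW : List ℕ := [(nat_lit 0xfac688), (nat_lit 0xddca88), (nat_lit 0xafcc88), (nat_lit 0x774e88)]
noncomputable def NX_lW_W : List (List ℕ) := [[],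
  [(nat_lit 0)],
  [(nat_lit 1)],
  [(nat_lit 0), (nat_lit 1)]]
noncomputable def NX_lW_h (c : ℕ) : ℕ := Nat.mod c (nat_lit 11)
theorem NX_lW_E {G : Type*} [Group G] {R : ℕ → G → Prop} {z a b c d w v u e y p : G} {H : Subgroup G}
    (M : Mdl NZ_o NX_cs NZ_L R [z, z⁻¹, a, b, c, d, w, v, u, e, y, p] H) :
    EnumS R NX_lW (sp [p, w * p * w⁻¹]) :=
  enumS_sp M.μ.1 (M.reps.tms M.μ.1 [(.v (nat_lit 11)), (.mul (.mul (.v (nat_lit 6)) (.v (nat_lit 11))) (.inv (.v (nat_lit 6))))] (cs' := [(nat_lit 0xddca88), (nat_lit 0xafcc88)]) (by decide +kernel))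
    (Ws := NX_lW_W) (by decide +kernel) (by decide +kernel)
theorem NX_lW_c {G : Type*} [Group G] {R : ℕ → G → Prop} {z a b c d w v u e y p : G} {H : Subgroup G}
    (M : Mdl NZ_o NX_cs NZ_L R [z, z⁻¹, a, b, c, d, w, v, u, e, y, p] H) :
    #(sp [p, w * p * w⁻¹]) = 4 :=
  (NX_lW_E M).card M.μ (h := NX_lW_h) (by decide +kernel)
noncomputable def NX_lT : List ℕ := [(nat_lit 0xfac688), (nat_lit 0xde5688), (nat_lit 0xb3e688), (nat_lit 0xfa5681), (nat_lit 0x977688), (nat_lit 0xdec681), (nat_lit 0x97e681), (nat_lit 0xb37681)]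
noncomputable def NX_lT_W : List (List ℕ) := [[],
  [(nat_lit 0)],
  [(nat_lit 1)],
  [(nat_lit 2)],
  [(nat_lit 0), (nat_lit 1)],
  [(nat_lit 0), (nat_lit 2)],
  [(nat_lit 1), (nat_lit 2)],
  [(nat_lit 2), (nat_lit 1)]]
noncomputable def NX_lT_h (c : ℕ) : ℕ := Nat.mod c (nat_lit 23)
theorem NX_lT_E {G : Type*} [Group G] {R : ℕ → G → Prop} {z a b c d w v u e y p : G} {H : Subgroup G}
    (M : Mdl NZ_o NX_cs NZ_L R [z, z⁻¹, a, b, c, d, w, v, u, e, y, p] H) :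
    EnumS R NX_lT (sp [v, u, b]) :=
  enumS_sp M.μ.1 (M.reps.tms M.μ.1 [(.v (nat_lit 7)), (.v (nat_lit 8)), (.v (nat_lit 3))] (cs' := [(nat_lit 0xde5688), (nat_lit 0xb3e688), (nat_lit 0xfa5681)]) (by decide +kernel))
    (Ws := NX_lT_W) (by decide +kernel) (by decide +kernel)
theorem NX_lT_c {G : Type*} [Group G] {R : ℕ → G → Prop} {z a b c d w v u e y p : G} {H : Subgroup G}
    (M : Mdl NZ_o NX_cs NZ_L R [z, z⁻¹, a, b, c, d, w, v, u, e, y, p] H) :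
    #(sp [v, u, b]) = 8 :=
  (NX_lT_E M).card M.μ (h := NX_lT_h) (by decide +kernel)
noncomputable def NX_lR : List ℕ := [(nat_lit 0xfac688), (nat_lit 0xfab881), (nat_lit 0xdec681), (nat_lit 0xdeb888)]
noncomputable def NX_lR_W : List (List ℕ) := [[],
  [(nat_lit 0)],
  [(nat_lit 1)],
  [(nat_lit 0), (nat_lit 1)]]
noncomputable def NX_lR_h (c : ℕ) : ℕ := Nat.mod c (nat_lit 10)
theorem NX_lR_E {G : Type*} [Group G] {R : ℕ → G → Prop} {z a b c d w v u e y p : G} {H : Subgroup G}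
    (M : Mdl NZ_o NX_cs NZ_L R [z, z⁻¹, a, b, c, d, w, v, u, e, y, p] H) :
    EnumS R NX_lR (sp [a, d]) :=
  enumS_sp M.μ.1 (M.reps.tms M.μ.1 [(.v (nat_lit 2)), (.v (nat_lit 5))] (cs' := [(nat_lit 0xfab881), (nat_lit 0xdec681)]) (by decide +kernel))
    (Ws := NX_lR_W) (by decide +kernel) (by decide +kernel)
theorem NX_lR_c {G : Type*} [Group G] {R : ℕ → G → Prop} {z a b c d w v u e y p : G} {H : Subgroup G}
    (M : Mdl NZ_o NX_cs NZ_L R [z, z⁻¹, a, b, c, d, w, v, u, e, y, p] H) :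
    #(sp [a, d]) = 4 :=
  (NX_lR_E M).card M.μ (h := NX_lR_h) (by decide +kernel)
noncomputable def NX_lVp : List ℕ := [(nat_lit 0xfac688), (nat_lit 0xde5688), (nat_lit 0xfa5681), (nat_lit 0xdec681)]
noncomputable def NX_lVp_W : List (List ℕ) := [[],
  [(nat_lit 0)],
  [(nat_lit 1)],
  [(nat_lit 0), (nat_lit 1)]]
noncomputable def NX_lVp_h (c : ℕ) : ℕ := Nat.mod c (nat_lit 11)
theorem NX_lVp_E {G : Type*} [Group G] {R : ℕ → G → Prop} {z a b c d w v u e y p : G} {H : Subgroup G}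
    (M : Mdl NZ_o NX_cs NZ_L R [z, z⁻¹, a, b, c, d, w, v, u, e, y, p] H) :
    EnumS R NX_lVp (sp [v, b]) :=
  enumS_sp M.μ.1 (M.reps.tms M.μ.1 [(.v (nat_lit 7)), (.v (nat_lit 3))] (cs' := [(nat_lit 0xde5688), (nat_lit 0xfa5681)]) (by decide +kernel))
    (Ws := NX_lVp_W) (by decide +kernel) (by decide +kernel)
theorem NX_lVp_c {G : Type*} [Group G] {R : ℕ → G → Prop} {z a b c d w v u e y p : G} {H : Subgroup G}
    (M : Mdl NZ_o NX_cs NZ_L R [z, z⁻¹, a, b, c, d, w, v, u, e, y, p] H) :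
    #(sp [v, b]) = 4 :=
  (NX_lVp_E M).card M.μ (h := NX_lVp_h) (by decide +kernel)
noncomputable def NX_nz_F : Fm := (.all NZ_L (.qf (.or (.eq (.mul (.mul (.v (nat_lit 0)) (.v (nat_lit 1))) (.inv (.v (nat_lit 0)))) (.v (nat_lit 1))) (.eq (.mul (.mul (.v (nat_lit 0)) (.v (nat_lit 1))) (.inv (.v (nat_lit 0)))) (.inv (.v (nat_lit 1)))))))
theorem NX_nz_chk : Fm.chk NZ_o NX_nz_F NX_cs = true := by decide +kernel
theorem NX_nz {G : Type*} [Group G] {R : ℕ → G → Prop} {z a b c d w v u e y p : G} {H : Subgroup G}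
    (M : Mdl NZ_o NX_cs NZ_L R [z, z⁻¹, a, b, c, d, w, v, u, e, y, p] H) :
    ∀ m ∈ H, m * z * m⁻¹ = z ∨ m * z * m⁻¹ = z⁻¹ :=
  have h : ∀ m, InL NZ_o R NZ_L m → m * z * m⁻¹ = z ∨ m * z * m⁻¹ = z⁻¹ :=
    Fm.sound M.μ NX_nz_F NX_nz_chk M.reps
  (fun m h0 => (h m (M.H.iff.2 h0)))
noncomputable def NX_e_F : Fm := (.qf (.and (.eq (.pw (.v (nat_lit 6)) (nat_lit 3)) .one) (.and (.not (.eq (.v (nat_lit 6)) .one)) (.and (.eq (.mul (.v (nat_lit 0)) (.v (nat_lit 6))) (.mul (.v (nat_lit 6)) (.v (nat_lit 0)))) (.and (.eq (.pw (.v (nat_lit 10)) (nat_lit 3)) .one) (.and (.not (.eq (.v (nat_lit 10)) .one)) (.and (.eq (.mul (.v (nat_lit 7)) (.v (nat_lit 0))) (.mul (.v (nat_lit 0)) (.v (nat_lit 7)))) (.and (.eq (.mul (.v (nat_lit 8)) (.v (nat_lit 0))) (.mul (.v (nat_lit 0)) (.v (nat_lit 8)))) (.and (.eq (.mul (.v (nat_lit 9)) (.v (nat_lit 0))) (.mul (.v (nat_lit 0)) (.v (nat_lit 9))))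 (.and (.eq (.mul (.mul (.v (nat_lit 6)) (.v (nat_lit 8))) (.inv (.v (nat_lit 6)))) (.mul (.v (nat_lit 7)) (.v (nat_lit 8)))) (.and (.eq (.mul (.v (nat_lit 7)) (.v (nat_lit 7))) .one) (.and (.eq (.mul (.v (nat_lit 8)) (.v (nat_lit 8))) .one) (.and (.eq (.mul (.v (nat_lit 7)) (.v (nat_lit 8))) (.mul (.v (nat_lit 8)) (.v (nat_lit 7)))) (.and (.eq (.mul (.v (nat_lit 2)) (.v (nat_lit 6))) (.mul (.v (nat_lit 6)) (.v (nat_lit 2)))) (.and (.eq (.mul (.mul (.v (nat_lit 9)) (.v (nat_lit 6))) (.inv (.v (nat_lit 9)))) (.inv (.v (nat_lit 6)))) (.and (.not (.eq (.v (nat_lit 8)) .one)) (.and (.not (.eq (.v (nat_lit 7)) (.v (nat_lit 8)))) (.and (.not (.eq (.v (nat_lit 6)) (.v (nat_lit 0)))) (.not (.eq (.v (nat_lit 6)) (.inv (.v (nat_lit 0)))))))))))))))))))))))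
theorem NX_e_chk : Fm.chk NZ_o NX_e_F NX_cs = true := by decide +kernel
theorem NX_e {G : Type*} [Group G] {R : ℕ → G → Prop} {z a b c d w v u e y p : G} {H : Subgroup G}
    (M : Mdl NZ_o NX_cs NZ_L R [z, z⁻¹, a, b, c, d, w, v, u, e, y, p] H) :
    w ^ 3 = 1 ∧ w ≠ 1 ∧ z * w = w * z ∧ y ^ 3 = 1 ∧ y ≠ 1 ∧ v * z = z * v ∧ u * z = z * u ∧ e * z = z * e ∧ w * u * w⁻¹ = v * u ∧ v * v = 1 ∧ u * u = 1 ∧ v * u = u * v ∧ a * w = w * a ∧ e * w * e⁻¹ = w⁻¹ ∧ u ≠ 1 ∧ v ≠ u ∧ w ≠ z ∧ w ≠ z⁻¹ :=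
  Fm.sound M.μ NX_e_F NX_e_chk M.reps
noncomputable def NX_z_F : Fm := (.qf (.and (.eq (.pw (.v (nat_lit 0)) (nat_lit 3)) .one) (.and (.not (.eq (.v (nat_lit 0)) .one)) (.and (.not (.eq (.v (nat_lit 7)) .one)) (.and (.eq (.mul (.mul (.v (nat_lit 2)) (.v (nat_lit 0))) (.inv (.v (nat_lit 2)))) (.inv (.v (nat_lit 0)))) (.and (.eq (.mul (.v (nat_lit 2)) (.v (nat_lit 2))) .one) (.and (.eq (.mul (.v (nat_lit 9)) (.v (nat_lit 9))) .one) (.and (.eq (.mul (.v (nat_lit 5)) (.v (nat_lit 5))) .one) (.and (.eq (.v (nat_lit 5)) (.mul (.v (nat_lit 9)) (.v (nat_lit 2)))) (.eq (.mul (.v (nat_lit 3)) (.v (nat_lit 3))) .one))))))))))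
theorem NX_z_chk : Fm.chk NZ_o NX_z_F NX_cs = true := by decide +kernel
theorem NX_z {G : Type*} [Group G] {R : ℕ → G → Prop} {z a b c d w v u e y p : G} {H : Subgroup G}
    (M : Mdl NZ_o NX_cs NZ_L R [z, z⁻¹, a, b, c, d, w, v, u, e, y, p] H) :
    z ^ 3 = 1 ∧ z ≠ 1 ∧ v ≠ 1 ∧ a * z * a⁻¹ = z⁻¹ ∧ a * a = 1 ∧ e * e = 1 ∧ d * d = 1 ∧ d = e * a ∧ b * b = 1 :=
  Fm.sound M.μ NX_z_F NX_z_chk M.reps
noncomputable def NX_ny1_F : Fm := (.all NZ_L (.imp (.eq (.mul (.v (nat_lit 0)) (.v (nat_lit 1))) (.mul (.v (nat_lit 1)) (.v (nat_lit 0)))) (.imp (.eq (.pw (.v (nat_lit 0)) (nat_lit 3)) .one) (.imp (.eq (.mul (.v (nat_lit 0)) (.mul (.mul (.v (nat_lit 8)) (.v (nat_lit 0))) (.inv (.v (nat_lit 8))))) (.mul (.mul (.mul (.v (nat_lit 8)) (.v (nat_lit 0))) (.inv (.v (nat_lit 8)))) (.v (nat_lit 0)))) (.imp (.eq (.mul (.v (nat_lit 0)) (.mul (.mul (.v (nat_lit 10)) (.v (nat_lit 0))) (.inv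 (.v (nat_lit 10))))) (.mul (.mul (.mul (.v (nat_lit 10)) (.v (nat_lit 0))) (.inv (.v (nat_lit 10)))) (.v (nat_lit 0)))) (.imp (.eq (.mul (.v (nat_lit 0)) (.mul (.mul (.v (nat_lit 9)) (.v (nat_lit 0))) (.inv (.v (nat_lit 9))))) (.mul (.mul (.mul (.v (nat_lit 9)) (.v (nat_lit 0))) (.inv (.v (nat_lit 9)))) (.v (nat_lit 0)))) (.qf (.or (.eq (.v (nat_lit 0)) .one) (.or (.eq (.v (nat_lit 0)) (.v (nat_lit 1))) (.eq (.v (nat_lit 0)) (.inv (.v (nat_lit 1)))))))))))))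
theorem NX_ny1_chk : Fm.chk NZ_o NX_ny1_F NX_cs = true := by decide +kernel
theorem NX_ny1 {G : Type*} [Group G] {R : ℕ → G → Prop} {z a b c d w v u e y p : G} {H : Subgroup G}
    (M : Mdl NZ_o NX_cs NZ_L R [z, z⁻¹, a, b, c, d, w, v, u, e, y, p] H) :
    ∀ t ∈ H, t * z = z * t → t ^ 3 = 1 → t * (v * t * v⁻¹) = v * t * v⁻¹ * t → t * (e * t * e⁻¹) = e * t * e⁻¹ * t → t * (u * t * u⁻¹) = u * t * u⁻¹ * t → t = 1 ∨ t = z ∨ t = z⁻¹ :=
  have h : ∀ t, InL NZ_o R NZ_L t → t * z = z * t → t ^ 3 = 1 → t * (v * t * v⁻¹) = v * t * v⁻¹ * t → t * (e * t * e⁻¹) = e * t * e⁻¹ * t → t * (u * t * u⁻¹) = u * t * u⁻¹ * t → t = 1 ∨ t = z ∨ t = z⁻¹ :=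
    Fm.sound M.μ NX_ny1_F NX_ny1_chk M.reps
  (fun t h0 => (h t (M.H.iff.2 h0)))
noncomputable def NX_ny2_F : Fm := (.all NZ_L (.qf (.not (.eq (.mul (.mul (.v (nat_lit 0)) (.v (nat_lit 1))) (.inv (.v (nat_lit 0)))) (.v (nat_lit 11))))))
theorem NX_ny2_chk : Fm.chk NZ_o NX_ny2_F NX_cs = true := by decide +kernel
theorem NX_ny2 {G : Type*} [Group G] {R : ℕ → G → Prop} {z a b c d w v u e y p : G} {H : Subgroup G}
    (M : Mdl NZ_o NX_cs NZ_L R [z, z⁻¹, a, b, c, d, w, v, u, e, y, p] H) :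
    ∀ t ∈ H, t * z * t⁻¹ ≠ y :=
  have h : ∀ t, InL NZ_o R NZ_L t → t * z * t⁻¹ ≠ y :=
    Fm.sound M.μ NX_ny2_F NX_ny2_chk M.reps
  (fun t h0 => (h t (M.H.iff.2 h0)))
noncomputable def NX_D_t0 : ST := (.node (nat_lit 19) (.node (nat_lit 18) (.leaf (nat_lit 180)) (.leaf (nat_lit 1))) (.node (nat_lit 23) (.leaf (nat_lit 181)) (.leaf (nat_lit 0))))
noncomputable def NX_D_F : Fm := (.allS NX_lD (.or (.qf (.eq (.v (nat_lit 0)) .one)) (.or (.qf (.eq (.v (nat_lit 0)) (.v (nat_lit 1)))) (.or (.qf (.eq (.v (nat_lit 0)) (.inv (.v (nat_lit 1))))) (.or (.qf (.eq (.v (nat_lit 0)) (.v (nat_lit 7)))) (.or (.qf (.eq (.v (nat_lit 0)) (.inv (.v (nat_lit 7))))) (.exF NZ_L (fun cs => NX_D_t0.find (Nat.mod (nth (nat_lit 0) cs (nat_lit 0)) (nat_lit 27))) (.qf (.and (.eq (.mul (.mul (.v (nat_lit 0)) (.v (nat_lit 1))) (.inv (.v (nat_lit 0)))) (.v (nat_lit 12))) (.and (.mem (.mul (.mul (.inv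 (.v (nat_lit 0))) (.v (nat_lit 2))) (.v (nat_lit 0))) NX_lD) (.mem (.mul (.mul (.inv (.v (nat_lit 0))) (.v (nat_lit 8))) (.v (nat_lit 0))) NX_lD)))))))))))
theorem NX_D_chk : Fm.chk NZ_o NX_D_F NX_cs = true := by decide +kernel
theorem NX_D {G : Type*} [Group G] {R : ℕ → G → Prop} {z a b c d w v u e y p : G} {H : Subgroup G}
    (M : Mdl NZ_o NX_cs NZ_L R [z, z⁻¹, a, b, c, d, w, v, u, e, y, p] H) :
    ∀ t ∈ sp [z, w], t = 1 ∨ t = z ∨ t = z⁻¹ ∨ t = w ∨ t = w⁻¹ ∨ (∃ m ∈ H, m * t * m⁻¹ = y ∧ m⁻¹ * z * m ∈ sp [z, w] ∧ m⁻¹ * w * m ∈ sp [z, w]) :=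
  have h : ∀ t, InS R NX_lD t → t = 1 ∨ t = z ∨ t = z⁻¹ ∨ t = w ∨ t = w⁻¹ ∨ (Good NZ_o R NZ_L → prods NZ_o NZ_L NZ_o.one ≠ [] → ∃ m, InL NZ_o R NZ_L m ∧ m * t * m⁻¹ = y ∧ InS R NX_lD (m⁻¹ * z * m) ∧ InS R NX_lD (m⁻¹ * w * m)) :=
    Fm.sound M.μ NX_D_F NX_D_chk M.reps
  (fun t h0 => (Or.imp (fun h1 => h1) (fun h1 => (Or.imp (fun h2 => h2) (fun h2 => (Or.imp (fun h3 => h3) (fun h3 => (Or.imp (fun h4 => h4) (fun h4 => (Or.imp (fun h5 => h5) (fun h5 => (Exists.imp (fun m h6 => ⟨M.H.iff.1 h6.1, ((and_congr Iff.rfl (and_congr (NX_lD_E M).iff (NX_lD_E M).iff)).1 h6.2)⟩) (h5 M.H.good M.H.ne))) h4)) h3)) h2)) h1)) (h t ((NX_lD_E M).iff.2 h0))))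
noncomputable def NX_D3_F : Fm := (.allS NX_lD (.qf (.and (.eq (.pw (.v (nat_lit 0)) (nat_lit 3)) .one) (.and (.eq (.mul (.v (nat_lit 0)) (.v (nat_lit 1))) (.mul (.v (nat_lit 1)) (.v (nat_lit 0)))) (.eq (.mul (.v (nat_lit 0)) (.v (nat_lit 7))) (.mul (.v (nat_lit 7)) (.v (nat_lit 0))))))))
theorem NX_D3_chk : Fm.chk NZ_o NX_D3_F NX_cs = true := by decide +kernel
theorem NX_D3 {G : Type*} [Group G] {R : ℕ → G → Prop} {z a b c d w v u e y p : G} {H : Subgroup G}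
    (M : Mdl NZ_o NX_cs NZ_L R [z, z⁻¹, a, b, c, d, w, v, u, e, y, p] H) :
    ∀ t ∈ sp [z, w], t ^ 3 = 1 ∧ t * z = z * t ∧ t * w = w * t :=
  have h : ∀ t, InS R NX_lD t → t ^ 3 = 1 ∧ t * z = z * t ∧ t * w = w * t :=
    Fm.sound M.μ NX_D3_F NX_D3_chk M.reps
  (fun t h0 => (h t ((NX_lD_E M).iff.2 h0)))
noncomputable def NX_cD_F : Fm := (.all NZ_L (.imp (.eq (.mul (.v (nat_lit 0)) (.v (nat_lit 11))) (.mul (.v (nat_lit 11)) (.v (nat_lit 0)))) (.qf (.mem (.v (nat_lit 0)) NX_lD))))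
theorem NX_cD_chk : Fm.chk NZ_o NX_cD_F NX_cs = true := by decide +kernel
theorem NX_cD {G : Type*} [Group G] {R : ℕ → G → Prop} {z a b c d w v u e y p : G} {H : Subgroup G}
    (M : Mdl NZ_o NX_cs NZ_L R [z, z⁻¹, a, b, c, d, w, v, u, e, y, p] H) :
    ∀ g ∈ H, g * y = y * g → g ∈ sp [z, w] :=
  have h : ∀ g, InL NZ_o R NZ_L g → g * y = y * g → InS R NX_lD (g) :=
    Fm.sound M.μ NX_cD_F NX_cD_chk M.reps
  (fun g h0 => (fun h1 => ((NX_lD_E M).iff.1 ((h g (M.H.iff.2 h0)) h1))))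
noncomputable def NX_cv_F : Fm := (.all NZ_L (.imp (.eq (.mul (.v (nat_lit 0)) (.v (nat_lit 1))) (.mul (.v (nat_lit 1)) (.v (nat_lit 0)))) (.imp (.eq (.mul (.v (nat_lit 0)) (.v (nat_lit 8))) (.mul (.v (nat_lit 8)) (.v (nat_lit 0)))) (.qf (.or (.eq (.pw (.v (nat_lit 0)) (nat_lit 4)) .one) (.or (.eq (.pw (.v (nat_lit 0)) (nat_lit 4)) (.v (nat_lit 1))) (.eq (.pw (.v (nat_lit 0)) (nat_lit 4)) (.inv (.v (nat_lit 1))))))))))
theorem NX_cv_chk : Fm.chk NZ_o NX_cv_F NX_cs = true := by decide +kernel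
theorem NX_cv {G : Type*} [Group G] {R : ℕ → G → Prop} {z a b c d w v u e y p : G} {H : Subgroup G}
    (M : Mdl NZ_o NX_cs NZ_L R [z, z⁻¹, a, b, c, d, w, v, u, e, y, p] H) :
    ∀ k ∈ H, k * z = z * k → k * v = v * k → k ^ 4 = 1 ∨ k ^ 4 = z ∨ k ^ 4 = z⁻¹ :=
  have h : ∀ k, InL NZ_o R NZ_L k → k * z = z * k → k * v = v * k → k ^ 4 = 1 ∨ k ^ 4 = z ∨ k ^ 4 = z⁻¹ :=
    Fm.sound M.μ NX_cv_F NX_cv_chk M.reps
  (fun k h0 => (h k (M.H.iff.2 h0)))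
noncomputable def NX_cV_F : Fm := (.all NZ_L (.imp (.eq (.mul (.v (nat_lit 0)) (.v (nat_lit 8))) (.mul (.v (nat_lit 8)) (.v (nat_lit 0)))) (.imp (.eq (.mul (.v (nat_lit 0)) (.v (nat_lit 9))) (.mul (.v (nat_lit 9)) (.v (nat_lit 0)))) (.qf (.and (.eq (.mul (.v (nat_lit 0)) (.v (nat_lit 1))) (.mul (.v (nat_lit 1)) (.v (nat_lit 0)))) (.and (.or (.mem (.v (nat_lit 0)) NX_lV) (.or (.eq (.pw (.v (nat_lit 0)) (nat_lit 4)) (.v (nat_lit 1))) (.eq (.pw (.v (nat_lit 0)) (nat_lit 4)) (.inv (.v (nat_lit 1)))))) (.or (.not (.eq (.pw (.v (nat_lit 0)) (nat_lit 3)) .one)) (.or (.eq (.v (nat_lit 0)) .one) (.or (.eq (.v (nat_lit 0)) (.v (nat_lit 1))) (.eq (.v (nat_lit 0)) (.inv (.v (nat_lit 1)))))))))))))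
theorem NX_cV_chk : Fm.chk NZ_o NX_cV_F NX_cs = true := by decide +kernel
theorem NX_cV {G : Type*} [Group G] {R : ℕ → G → Prop} {z a b c d w v u e y p : G} {H : Subgroup G}
    (M : Mdl NZ_o NX_cs NZ_L R [z, z⁻¹, a, b, c, d, w, v, u, e, y, p] H) :
    ∀ k ∈ H, k * v = v * k → k * u = u * k → k * z = z * k ∧ (k ∈ sp [v, u] ∨ k ^ 4 = z ∨ k ^ 4 = z⁻¹) ∧ (k ^ 3 ≠ 1 ∨ k = 1 ∨ k = z ∨ k = z⁻¹) :=
  have h : ∀ k, InL NZ_o R NZ_L k → k * v = v * k → k * u = u * k → k * z = z * k ∧ (InS R NX_lV (k) ∨ k ^ 4 = z ∨ k ^ 4 = z⁻¹) ∧ (k ^ 3 ≠ 1 ∨ k = 1 ∨ k = z ∨ k = z⁻¹) :=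
    Fm.sound M.μ NX_cV_F NX_cV_chk M.reps
  (fun k h0 => (fun h1 => (fun h2 => ((and_congr Iff.rfl (and_congr (or_congr (NX_lV_E M).iff Iff.rfl) Iff.rfl)).1 (((h k (M.H.iff.2 h0)) h1) h2)))))
noncomputable def NX_c10_F : Fm := (.all NZ_L (.imp (.eq (.mul (.v (nat_lit 0)) (.v (nat_lit 1))) (.mul (.v (nat_lit 1)) (.v (nat_lit 0)))) (.qf (.or (.eq (.pw (.v (nat_lit 0)) (nat_lit 10)) .one) (.and (.eq (.pw (.pw (.v (nat_lit 0)) (nat_lit 10)) (nat_lit 3)) .one) (.not (.eq (.pw (.v (nat_lit 0)) (nat_lit 10)) .one)))))))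
theorem NX_c10_chk : Fm.chk NZ_o NX_c10_F NX_cs = true := by decide +kernel
theorem NX_c10 {G : Type*} [Group G] {R : ℕ → G → Prop} {z a b c d w v u e y p : G} {H : Subgroup G}
    (M : Mdl NZ_o NX_cs NZ_L R [z, z⁻¹, a, b, c, d, w, v, u, e, y, p] H) :
    ∀ n ∈ H, n * z = z * n → n ^ 10 = 1 ∨ (n ^ 10) ^ 3 = 1 ∧ n ^ 10 ≠ 1 :=
  have h : ∀ n, InL NZ_o R NZ_L n → n * z = z * n → n ^ 10 = 1 ∨ (n ^ 10) ^ 3 = 1 ∧ n ^ 10 ≠ 1 :=
    Fm.sound M.μ NX_c10_F NX_c10_chk M.reps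
  (fun n h0 => (h n (M.H.iff.2 h0)))
noncomputable def NX_U1_F : Fm := (.all NZ_L (.imp (.eq (.mul (.v (nat_lit 0)) (.v (nat_lit 1))) (.mul (.v (nat_lit 1)) (.v (nat_lit 0)))) (.imp (.eq (.pw (.v (nat_lit 0)) (nat_lit 10)) .one) (.imp (.eq (.pw (.mul (.v (nat_lit 0)) (.mul (.mul (.v (nat_lit 7)) (.v (nat_lit 0))) (.inv (.v (nat_lit 7))))) (nat_lit 10)) .one) (.imp (.eq (.pw (.mul (.mul (.mul (.mul (.v (nat_lit 0)) (.mul (.mul (.v (nat_lit 7)) (.v (nat_lit 0))) (.inv (.v (nat_lit 7))))) (.v (nat_lit 0))) (.mul (.mul (.v (nat_lit 7)) (.v (nat_lit 0))) (.inv (.v (nat_lit 7))))) (.mul (.mul (.inv (.v (nat_lit 7))) (.v (nat_lit 0))) (.v (nat_lit 7)))) (nat_lit 10)) .one) (.imp (.eq (.pw (.mul (.mul (.mul (.mul (.v (nat_lit 0)) (.mul (.mul (.v (nat_lit 7)) (.v (nat_lit 0))) (.inv (.v (nat_lit 7))))) (.v (nat_lit 0))) (.mul (.mul (.inv (.v (nat_lit 7))) (.v (nat_lit 0))) (.v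 (nat_lit 7)))) (.mul (.mul (.v (nat_lit 7)) (.v (nat_lit 0))) (.inv (.v (nat_lit 7))))) (nat_lit 10)) .one) (.qf (.or (.mem (.v (nat_lit 0)) NX_lV) (.mem (.v (nat_lit 0)) NX_lW)))))))))
theorem NX_U1_chk : Fm.chk NZ_o NX_U1_F NX_cs = true := by decide +kernel
theorem NX_U1 {G : Type*} [Group G] {R : ℕ → G → Prop} {z a b c d w v u e y p : G} {H : Subgroup G}
    (M : Mdl NZ_o NX_cs NZ_L R [z, z⁻¹, a, b, c, d, w, v, u, e, y, p] H) :
    ∀ n ∈ H, n * z = z * n → n ^ 10 = 1 → (n * (w * n * w⁻¹)) ^ 10 = 1 → (n * (w * n * w⁻¹) * n * (w * n * w⁻¹) * (w⁻¹ * n * w)) ^ 10 = 1 → (n * (w * n * w⁻¹) * n * (w⁻¹ * n * w) * (w * n * w⁻¹)) ^ 10 = 1 → n ∈ sp [v, u] ∨ n ∈ sp [p, w * p * w⁻¹] :=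
  have h : ∀ n, InL NZ_o R NZ_L n → n * z = z * n → n ^ 10 = 1 → (n * (w * n * w⁻¹)) ^ 10 = 1 → (n * (w * n * w⁻¹) * n * (w * n * w⁻¹) * (w⁻¹ * n * w)) ^ 10 = 1 → (n * (w * n * w⁻¹) * n * (w⁻¹ * n * w) * (w * n * w⁻¹)) ^ 10 = 1 → InS R NX_lV (n) ∨ InS R NX_lW (n) :=
    Fm.sound M.μ NX_U1_F NX_U1_chk M.reps
  (fun n h0 => (fun h1 => (fun h2 => (fun h3 => (fun h4 => (fun h5 => ((or_congr (NX_lV_E M).iff (NX_lW_E M).iff).1 ((((((h n (M.H.iff.2 h0)) h1) h2) h3) h4) h5))))))))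
noncomputable def NX_U2_F : Fm := (.allS NX_lV (.allS NX_lW (.imp (.eq (.pw (.mul (.v (nat_lit 1)) (.v (nat_lit 0))) (nat_lit 10)) .one) (.imp (.eq (.pw (.mul (.v (nat_lit 1)) (.mul (.mul (.v (nat_lit 8)) (.v (nat_lit 0))) (.inv (.v (nat_lit 8))))) (nat_lit 10)) .one) (.imp (.eq (.pw (.mul (.v (nat_lit 1)) (.mul (.mul (.inv (.v (nat_lit 8))) (.v (nat_lit 0))) (.v (nat_lit 8)))) (nat_lit 10)) .one) (.qf (.or (.eq (.v (nat_lit 1)) .one) (.eq (.v (nat_lit 0)) .one))))))))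
theorem NX_U2_chk : Fm.chk NZ_o NX_U2_F NX_cs = true := by decide +kernel
theorem NX_U2 {G : Type*} [Group G] {R : ℕ → G → Prop} {z a b c d w v u e y p : G} {H : Subgroup G}
    (M : Mdl NZ_o NX_cs NZ_L R [z, z⁻¹, a, b, c, d, w, v, u, e, y, p] H) :
    ∀ n ∈ sp [v, u], ∀ m ∈ sp [p, w * p * w⁻¹], (n * m) ^ 10 = 1 → (n * (w * m * w⁻¹)) ^ 10 = 1 → (n * (w⁻¹ * m * w)) ^ 10 = 1 → n = 1 ∨ m = 1 :=
  have h : ∀ n, InS R NX_lV n → ∀ m, InS R NX_lW m → (n * m) ^ 10 = 1 → (n * (w * m * w⁻¹)) ^ 10 = 1 → (n * (w⁻¹ * m * w)) ^ 10 = 1 → n = 1 ∨ m = 1 :=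
    Fm.sound M.μ NX_U2_F NX_U2_chk M.reps
  (fun n h0 => (fun m h1 => ((h n ((NX_lV_E M).iff.2 h0)) m ((NX_lW_E M).iff.2 h1))))
noncomputable def NX_U3_F : Fm := (.allS NX_lV (.qf (.or (.eq (.v (nat_lit 0)) .one) (.or (.eq (.v (nat_lit 0)) (.v (nat_lit 8))) (.or (.eq (.mul (.mul (.v (nat_lit 7)) (.v (nat_lit 0))) (.inv (.v (nat_lit 7)))) (.v (nat_lit 8))) (.eq (.mul (.mul (.inv (.v (nat_lit 7))) (.v (nat_lit 0))) (.v (nat_lit 7))) (.v (nat_lit 8))))))))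
theorem NX_U3_chk : Fm.chk NZ_o NX_U3_F NX_cs = true := by decide +kernel
theorem NX_U3 {G : Type*} [Group G] {R : ℕ → G → Prop} {z a b c d w v u e y p : G} {H : Subgroup G}
    (M : Mdl NZ_o NX_cs NZ_L R [z, z⁻¹, a, b, c, d, w, v, u, e, y, p] H) :
    ∀ n ∈ sp [v, u], n = 1 ∨ n = v ∨ w * n * w⁻¹ = v ∨ w⁻¹ * n * w = v :=
  have h : ∀ n, InS R NX_lV n → n = 1 ∨ n = v ∨ w * n * w⁻¹ = v ∨ w⁻¹ * n * w = v :=
    Fm.sound M.μ NX_U3_F NX_U3_chk M.reps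
  (fun n h0 => (h n ((NX_lV_E M).iff.2 h0)))
noncomputable def NX_U4_F : Fm := (.allS NX_lW (.qf (.or (.eq (.v (nat_lit 0)) .one) (.or (.eq (.v (nat_lit 0)) (.v (nat_lit 12))) (.or (.eq (.mul (.mul (.v (nat_lit 7)) (.v (nat_lit 0))) (.inv (.v (nat_lit 7)))) (.v (nat_lit 12))) (.eq (.mul (.mul (.inv (.v (nat_lit 7))) (.v (nat_lit 0))) (.v (nat_lit 7))) (.v (nat_lit 12))))))))
theorem NX_U4_chk : Fm.chk NZ_o NX_U4_F NX_cs = true := by decide +kernel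
theorem NX_U4 {G : Type*} [Group G] {R : ℕ → G → Prop} {z a b c d w v u e y p : G} {H : Subgroup G}
    (M : Mdl NZ_o NX_cs NZ_L R [z, z⁻¹, a, b, c, d, w, v, u, e, y, p] H) :
    ∀ n ∈ sp [p, w * p * w⁻¹], n = 1 ∨ n = p ∨ w * n * w⁻¹ = p ∨ w⁻¹ * n * w = p :=
  have h : ∀ n, InS R NX_lW n → n = 1 ∨ n = p ∨ w * n * w⁻¹ = p ∨ w⁻¹ * n * w = p :=
    Fm.sound M.μ NX_U4_F NX_U4_chk M.reps
  (fun n h0 => (h n ((NX_lW_E M).iff.2 h0)))
def PX {G : Type*} [Group G] (z w e d p : G) : Prop :=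
  p * p = 1 ∧
  (w * p) ^ 3 = 1 ∧
  (p * e) ^ 3 = 1 ∧
  p * d = d * p ∧
  p * z = z * p ∧ True
def AE {G : Type*} [Group G] (z x a b c d : G) : Prop :=
  x * x = 1 ∧
  (z * x) ^ 3 = 1 ∧
  (x * a) ^ 3 = 1 ∧
  x * b = b * x ∧
  x * c = c * x ∧
  x * d = d * x ∧ True
noncomputable def NX_p1_f_F : Fm := (.qf (.and (.eq (.mul (.v (nat_lit 7)) (.v (nat_lit 7))) .one) (.and (.eq (.pw (.mul (.v (nat_lit 6)) (.v (nat_lit 7))) (nat_lit 3)) .one) (.and (.eq (.pw (.mul (.v (nat_lit 7)) (.v (nat_lit 9))) (nat_lit 3)) .one) (.and (.eq (.mul (.v (nat_lit 7)) (.v (nat_lit 5))) (.mul (.v (nat_lit 5)) (.v (nat_lit 7)))) (.eq (.mul (.v (nat_lit 7)) (.v (nat_lit 0))) (.mul (.v (nat_lit 0)) (.v (nat_lit 7)))))))))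
theorem NX_p1_f_chk : Fm.chk NZ_o NX_p1_f_F NX_cs = true := by decide +kernel
theorem NX_p1_f {G : Type*} [Group G] {R : ℕ → G → Prop} {z a b c d w v u e y p : G} {H : Subgroup G}
    (M : Mdl NZ_o NX_cs NZ_L R [z, z⁻¹, a, b, c, d, w, v, u, e, y, p] H) :
    v * v = 1 ∧ (w * v) ^ 3 = 1 ∧ (v * e) ^ 3 = 1 ∧ v * d = d * v ∧ v * z = z * v :=
  Fm.sound M.μ NX_p1_f_F NX_p1_f_chk M.reps
theorem NX_p1 {G : Type*} [Group G] {R : ℕ → G → Prop} {z a b c d w v u e y p : G} {H : Subgroup G}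
    (M : Mdl NZ_o NX_cs NZ_L R [z, z⁻¹, a, b, c, d, w, v, u, e, y, p] H) :
    PX z w e d v :=
  have h := NX_p1_f M
  ⟨h.1, h.2.1, h.2.2.1, h.2.2.2.1, h.2.2.2.2, trivial⟩
noncomputable def NX_p2_f_F : Fm := (.qf (.and (.eq (.mul (.v (nat_lit 11)) (.v (nat_lit 11))) .one) (.and (.eq (.pw (.mul (.v (nat_lit 6)) (.v (nat_lit 11))) (nat_lit 3)) .one) (.and (.eq (.pw (.mul (.v (nat_lit 11)) (.v (nat_lit 9))) (nat_lit 3)) .one) (.and (.eq (.mul (.v (nat_lit 11)) (.v (nat_lit 5))) (.mul (.v (nat_lit 5)) (.v (nat_lit 11)))) (.eq (.mul (.v (nat_lit 11)) (.v (nat_lit 0))) (.mul (.v (nat_lit 0)) (.v (nat_lit 11)))))))))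
theorem NX_p2_f_chk : Fm.chk NZ_o NX_p2_f_F NX_cs = true := by decide +kernel
theorem NX_p2_f {G : Type*} [Group G] {R : ℕ → G → Prop} {z a b c d w v u e y p : G} {H : Subgroup G}
    (M : Mdl NZ_o NX_cs NZ_L R [z, z⁻¹, a, b, c, d, w, v, u, e, y, p] H) :
    p * p = 1 ∧ (w * p) ^ 3 = 1 ∧ (p * e) ^ 3 = 1 ∧ p * d = d * p ∧ p * z = z * p :=
  Fm.sound M.μ NX_p2_f_F NX_p2_f_chk M.reps
theorem NX_p2 {G : Type*} [Group G] {R : ℕ → G → Prop} {z a b c d w v u e y p : G} {H : Subgroup G}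
    (M : Mdl NZ_o NX_cs NZ_L R [z, z⁻¹, a, b, c, d, w, v, u, e, y, p] H) :
    PX z w e d p :=
  have h := NX_p2_f M
  ⟨h.1, h.2.1, h.2.2.1, h.2.2.2.1, h.2.2.2.2, trivial⟩
noncomputable def NX_df_F : Fm := (.qf (.and (.eq (.v (nat_lit 6)) (.mul (.v (nat_lit 4)) (.v (nat_lit 5)))) (.and (.eq (.v (nat_lit 7)) (.mul (.v (nat_lit 3)) (.v (nat_lit 5)))) (.and (.eq (.v (nat_lit 8)) (.mul (.mul (.v (nat_lit 6)) (.v (nat_lit 7))) (.inv (.v (nat_lit 6))))) (.and (.eq (.v (nat_lit 9)) (.mul (.v (nat_lit 2)) (.v (nat_lit 5)))) (.and (.eq (.v (nat_lit 10)) (.mul (.v (nat_lit 0)) (.v (nat_lit 6)))) (.and (.eq (.v (nat_lit 4)) (.mul (.v (nat_lit 6)) (.v (nat_lit 5)))) (.and (.eq (.v (nat_lit 3)) (.mul (.v (nat_lit 7)) (.v (nat_lit 5)))) (.eq (.v (nat_lit 5)) (.mul (.v (nat_lit 2)) (.v (nat_lit 9))))))))))))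
theorem NX_df_chk : Fm.chk NZ_o NX_df_F NX_cs = true := by decide +kernel
theorem NX_df {G : Type*} [Group G] {R : ℕ → G → Prop} {z a b c d w v u e y p : G} {H : Subgroup G}
    (M : Mdl NZ_o NX_cs NZ_L R [z, z⁻¹, a, b, c, d, w, v, u, e, y, p] H) :
    w = c * d ∧ v = b * d ∧ u = w * v * w⁻¹ ∧ e = a * d ∧ y = z * w ∧ c = w * d ∧ b = v * d ∧ d = a * e :=
  Fm.sound M.μ NX_df_F NX_df_chk M.reps
noncomputable def NX_inv_t0 : ST := (.node (nat_lit 157) (.node (nat_lit 59) (.node (nat_lit 43) (.node (nat_lit 26) (.node (nat_lit 25) (.leaf (nat_lit 6)) (.leaf (nat_lit 52))) (.node (nat_lit 39) (.leaf (nat_lit 66)) (.node (nat_lit 41) (.leaf (nat_lit 125)) (.leaf (nat_lit 5))))) (.node (nat_lit 55) (.node (nat_lit 46) (.leaf (nat_lit 282)) (.node (nat_lit 54) (.leaf (nat_lit 245)) (.leaf (nat_lit 172)))) (.node (nat_lit 56) (.leaf (nat_lit 42)) (.node (nat_lit 57) (.leaf (nat_lit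 180)) (.leaf (nat_lit 232)))))) (.node (nat_lit 106) (.node (nat_lit 92) (.node (nat_lit 74) (.leaf (nat_lit 102)) (.leaf (nat_lit 12))) (.node (nat_lit 103) (.leaf (nat_lit 242)) (.node (nat_lit 104) (.leaf (nat_lit 132)) (.leaf (nat_lit 2))))) (.node (nat_lit 134) (.node (nat_lit 108) (.leaf (nat_lit 252)) (.node (nat_lit 126) (.leaf (nat_lit 122)) (.leaf (nat_lit 40)))) (.node (nat_lit 145) (.leaf (nat_lit 241)) (.node (nat_lit 147) (.leaf (nat_lit 11)) (.leaf (nat_lit 71))))))) (.node (nat_lit 221) (.node (nat_lit 168) (.node (nat_lit 159) (.node (nat_lit 158) (.leaf (nat_lit 311)) (.leaf (nat_lit 1))) (.node (nat_lit 163) (.leaf (nat_lit 61)) (.node (nat_lit 164) (.leaf (nat_lit 251)) (.leaf (nat_lit 131))))) (.node (nat_lit 189) (.node (nat_lit 175) (.leaf (nat_lit 191)) (.node (nat_lit 180) (.leaf (nat_lit 0)) (.leaf (nat_lit 240)))) (.node (nat_lit 191) (.leaf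 (nat_lit 65)) (.node (nat_lit 196) (.leaf (nat_lit 185)) (.leaf (nat_lit 305)))))) (.node (nat_lit 256) (.node (nat_lit 242) (.node (nat_lit 224) (.leaf (nat_lit 0)) (.node (nat_lit 228) (.leaf (nat_lit 72)) (.leaf (nat_lit 60)))) (.node (nat_lit 253) (.leaf (nat_lit 302)) (.node (nat_lit 254) (.leaf (nat_lit 312)) (.leaf (nat_lit 182))))) (.node (nat_lit 261) (.node (nat_lit 258) (.leaf (nat_lit 192)) (.node (nat_lit 259) (.leaf (nat_lit 62)) (.leaf (nat_lit 105)))) (.node (nat_lit 263) (.leaf (nat_lit 45)) (.node (nat_lit 266) (.leaf (nat_lit 246)) (.leaf (nat_lit 285))))))))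
noncomputable def NX_inv_F : Fm := (.all NZ_L (.imp (.eq (.mul (.v (nat_lit 0)) (.v (nat_lit 0))) .one) (.or (.qf (.eq (.v (nat_lit 0)) .one)) (.exF NZ_L (fun cs => NX_inv_t0.find (Nat.mod (nth (nat_lit 0) cs (nat_lit 0)) (nat_lit 269))) (.qf (.or (.eq (.mul (.mul (.v (nat_lit 0)) (.v (nat_lit 1))) (.inv (.v (nat_lit 0)))) (.v (nat_lit 9))) (.eq (.mul (.mul (.v (nat_lit 0)) (.v (nat_lit 1))) (.inv (.v (nat_lit 0)))) (.v (nat_lit 4)))))))))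
theorem NX_inv_chk : Fm.chk NZ_o NX_inv_F NX_cs = true := by decide +kernel
theorem NX_inv {G : Type*} [Group G] {R : ℕ → G → Prop} {z a b c d w v u e y p : G} {H : Subgroup G}
    (M : Mdl NZ_o NX_cs NZ_L R [z, z⁻¹, a, b, c, d, w, v, u, e, y, p] H) :
    ∀ g ∈ H, g * g = 1 → g = 1 ∨ (∃ m ∈ H, m * g * m⁻¹ = v ∨ m * g * m⁻¹ = a) :=
  have h : ∀ g, InL NZ_o R NZ_L g → g * g = 1 → g = 1 ∨ (Good NZ_o R NZ_L → prods NZ_o NZ_L NZ_o.one ≠ [] → ∃ m, InL NZ_o R NZ_L m ∧ (m * g * m⁻¹ = v ∨ m * g * m⁻¹ = a)) :=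
    Fm.sound M.μ NX_inv_F NX_inv_chk M.reps
  (fun g h0 => (fun h1 => (Or.imp (fun h2 => h2) (fun h2 => (Exists.imp (fun m h3 => ⟨M.H.iff.1 h3.1, h3.2⟩) (h2 M.H.good M.H.ne))) ((h g (M.H.iff.2 h0)) h1))))
noncomputable def NX_ev_F : Fm := (.exF NZ_L (fun _ => (nat_lit 6)) (.qf (.eq (.mul (.mul (.v (nat_lit 0)) (.v (nat_lit 10))) (.inv (.v (nat_lit 0)))) (.v (nat_lit 8)))))
theorem NX_ev_chk : Fm.chk NZ_o NX_ev_F NX_cs = true := by decide +kernel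
theorem NX_ev {G : Type*} [Group G] {R : ℕ → G → Prop} {z a b c d w v u e y p : G} {H : Subgroup G}
    (M : Mdl NZ_o NX_cs NZ_L R [z, z⁻¹, a, b, c, d, w, v, u, e, y, p] H) :
    ∃ m ∈ H, m * e * m⁻¹ = v :=
  have h : (Good NZ_o R NZ_L → prods NZ_o NZ_L NZ_o.one ≠ [] → ∃ m, InL NZ_o R NZ_L m ∧ m * e * m⁻¹ = v) :=
    Fm.sound M.μ NX_ev_F NX_ev_chk M.reps
  (Exists.imp (fun m h0 => ⟨M.H.iff.1 h0.1, h0.2⟩) (h M.H.good M.H.ne))
noncomputable def NX_T4_F : Fm := (.allS NX_lT (.qf (.eq (.pw (.v (nat_lit 0)) (nat_lit 4)) .one)))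
theorem NX_T4_chk : Fm.chk NZ_o NX_T4_F NX_cs = true := by decide +kernel
theorem NX_T4 {G : Type*} [Group G] {R : ℕ → G → Prop} {z a b c d w v u e y p : G} {H : Subgroup G}
    (M : Mdl NZ_o NX_cs NZ_L R [z, z⁻¹, a, b, c, d, w, v, u, e, y, p] H) :
    ∀ g ∈ sp [v, u, b], g ^ 4 = 1 :=
  have h : ∀ g, InS R NX_lT g → g ^ 4 = 1 :=
    Fm.sound M.μ NX_T4_F NX_T4_chk M.reps
  (fun g h0 => (h g ((NX_lT_E M).iff.2 h0)))
noncomputable def NX_nT_F : Fm := (.all NZ_L (.imp (.mem (.mul (.mul (.v (nat_lit 0)) (.v (nat_lit 8))) (.inv (.v (nat_lit 0)))) NX_lT) (.imp (.mem (.mul (.mul (.v (nat_lit 0)) (.v (nat_lit 9))) (.inv (.v (nat_lit 0)))) NX_lT) (.imp (.mem (.mul (.mul (.v (nat_lit 0)) (.v (nat_lit 4))) (.inv (.v (nat_lit 0)))) NX_lT) (.qf (.mem (.v (nat_lit 0)) NX_lT))))))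
theorem NX_nT_chk : Fm.chk NZ_o NX_nT_F NX_cs = true := by decide +kernel
theorem NX_nT {G : Type*} [Group G] {R : ℕ → G → Prop} {z a b c d w v u e y p : G} {H : Subgroup G}
    (M : Mdl NZ_o NX_cs NZ_L R [z, z⁻¹, a, b, c, d, w, v, u, e, y, p] H) :
    ∀ g ∈ H, g * v * g⁻¹ ∈ sp [v, u, b] → g * u * g⁻¹ ∈ sp [v, u, b] → g * b * g⁻¹ ∈ sp [v, u, b] → g ∈ sp [v, u, b] :=
  have h : ∀ g, InL NZ_o R NZ_L g → InS R NX_lT (g * v * g⁻¹) → InS R NX_lT (g * u * g⁻¹) → InS R NX_lT (g * b * g⁻¹) → InS R NX_lT (g) :=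
    Fm.sound M.μ NX_nT_F NX_nT_chk M.reps
  (fun g h0 => (fun h1 => (fun h2 => (fun h3 => ((NX_lT_E M).iff.1 ((((h g (M.H.iff.2 h0)) ((NX_lT_E M).iff.2 h1)) ((NX_lT_E M).iff.2 h2)) ((NX_lT_E M).iff.2 h3)))))))
noncomputable def NX_T2_F : Fm := (.allS NX_lT (.allS NX_lT (.imp (.eq (.mul (.v (nat_lit 1)) (.v (nat_lit 1))) .one) (.imp (.eq (.mul (.v (nat_lit 0)) (.v (nat_lit 0))) .one) (.imp (.eq (.mul (.v (nat_lit 1)) (.v (nat_lit 0))) (.mul (.v (nat_lit 0)) (.v (nat_lit 1)))) (.imp (.not (.eq (.v (nat_lit 1)) .one)) (.imp (.not (.eq (.v (nat_lit 0)) .one)) (.imp (.not (.eq (.v (nat_lit 1)) (.v (nat_lit 0)))) (.qf (.or (.and (.mem (.v (nat_lit 1)) NX_lV) (.mem (.v (nat_lit 0)) NX_lV)) (.and (.mem (.v (nat_lit 1)) NX_lVp) (.mem (.v (nat_lit 0)) NX_lVp))))))))))))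
theorem NX_T2_chk : Fm.chk NZ_o NX_T2_F NX_cs = true := by decide +kernel
theorem NX_T2 {G : Type*} [Group G] {R : ℕ → G → Prop} {z a b c d w v u e y p : G} {H : Subgroup G}
    (M : Mdl NZ_o NX_cs NZ_L R [z, z⁻¹, a, b, c, d, w, v, u, e, y, p] H) :
    ∀ k ∈ sp [v, u, b], ∀ q ∈ sp [v, u, b], k * k = 1 → q * q = 1 → k * q = q * k → k ≠ 1 → q ≠ 1 → k ≠ q → k ∈ sp [v, u] ∧ q ∈ sp [v, u] ∨ k ∈ sp [v, b] ∧ q ∈ sp [v, b] :=
  have h : ∀ k, InS R NX_lT k → ∀ q, InS R NX_lT q → k * k = 1 → q * q = 1 → k * q = q * k → k ≠ 1 → q ≠ 1 → k ≠ q → InS R NX_lV (k) ∧ InS R NX_lV (q) ∨ InS R NX_lVp (k) ∧ InS R NX_lVp (q) :=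
    Fm.sound M.μ NX_T2_F NX_T2_chk M.reps
  (fun k h0 => (fun q h1 => (fun h2 => (fun h3 => (fun h4 => (fun h5 => (fun h6 => (fun h7 => ((or_congr (and_congr (NX_lV_E M).iff (NX_lV_E M).iff) (and_congr (NX_lVp_E M).iff (NX_lVp_E M).iff)).1 ((((((((h k ((NX_lT_E M).iff.2 h0)) q ((NX_lT_E M).iff.2 h1)) h2) h3) h4) h5) h6) h7))))))))))
noncomputable def NX_R_F : Fm := (.exF NZ_L (fun _ => (nat_lit 2)) (.qf (.and (.mem (.mul (.mul (.v (nat_lit 0)) (.v (nat_lit 8))) (.inv (.v (nat_lit 0)))) NX_lR) (.mem (.mul (.mul (.v (nat_lit 0)) (.v (nat_lit 4))) (.inv (.v (nat_lit 0)))) NX_lR))))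
theorem NX_R_chk : Fm.chk NZ_o NX_R_F NX_cs = true := by decide +kernel
theorem NX_R {G : Type*} [Group G] {R : ℕ → G → Prop} {z a b c d w v u e y p : G} {H : Subgroup G}
    (M : Mdl NZ_o NX_cs NZ_L R [z, z⁻¹, a, b, c, d, w, v, u, e, y, p] H) :
    ∃ m ∈ H, m * v * m⁻¹ ∈ sp [a, d] ∧ m * b * m⁻¹ ∈ sp [a, d] :=
  have h : (Good NZ_o R NZ_L → prods NZ_o NZ_L NZ_o.one ≠ [] → ∃ m, InL NZ_o R NZ_L m ∧ InS R NX_lR (m * v * m⁻¹) ∧ InS R NX_lR (m * b * m⁻¹)) :=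
    Fm.sound M.μ NX_R_F NX_R_chk M.reps
  (Exists.imp (fun m h0 => ⟨M.H.iff.1 h0.1, ((and_congr (NX_lR_E M).iff (NX_lR_E M).iff).1 h0.2)⟩) (h M.H.good M.H.ne))
noncomputable def NX_Vz_F : Fm := (.allS NX_lV (.qf (.eq (.mul (.v (nat_lit 0)) (.v (nat_lit 1))) (.mul (.v (nat_lit 1)) (.v (nat_lit 0))))))
theorem NX_Vz_chk : Fm.chk NZ_o NX_Vz_F NX_cs = true := by decide +kernel
theorem NX_Vz {G : Type*} [Group G] {R : ℕ → G → Prop} {z a b c d w v u e y p : G} {H : Subgroup G}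
    (M : Mdl NZ_o NX_cs NZ_L R [z, z⁻¹, a, b, c, d, w, v, u, e, y, p] H) :
    ∀ k ∈ sp [v, u], k * z = z * k :=
  have h : ∀ k, InS R NX_lV k → k * z = z * k :=
    Fm.sound M.μ NX_Vz_F NX_Vz_chk M.reps
  (fun k h0 => (h k ((NX_lV_E M).iff.2 h0)))
noncomputable def NX_sa_F : Fm := (.all NZ_L (.imp (.eq (.mul (.v (nat_lit 0)) (.v (nat_lit 0))) .one) (.imp (.eq (.mul (.v (nat_lit 0)) (.v (nat_lit 1))) (.mul (.v (nat_lit 1)) (.v (nat_lit 0)))) (.imp (.eq (.mul (.mul (.v (nat_lit 0)) (.v (nat_lit 7))) (.inv (.v (nat_lit 0)))) (.inv (.v (nat_lit 7)))) (.qf (.or (.eq (.v (nat_lit 0)) (.v (nat_lit 10))) (.or (.eq (.v (nat_lit 0)) (.mul (.v (nat_lit 7)) (.v (nat_lit 10)))) (.eq (.v (nat_lit 0)) (.mul (.inv (.v (nat_lit 7))) (.v (nat_lit 10)))))))))))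
theorem NX_sa_chk : Fm.chk NZ_o NX_sa_F NX_cs = true := by decide +kernel
theorem NX_sa {G : Type*} [Group G] {R : ℕ → G → Prop} {z a b c d w v u e y p : G} {H : Subgroup G}
    (M : Mdl NZ_o NX_cs NZ_L R [z, z⁻¹, a, b, c, d, w, v, u, e, y, p] H) :
    ∀ g ∈ H, g * g = 1 → g * z = z * g → g * w * g⁻¹ = w⁻¹ → g = e ∨ g = w * e ∨ g = w⁻¹ * e :=
  have h : ∀ g, InL NZ_o R NZ_L g → g * g = 1 → g * z = z * g → g * w * g⁻¹ = w⁻¹ → g = e ∨ g = w * e ∨ g = w⁻¹ * e :=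
    Fm.sound M.μ NX_sa_F NX_sa_chk M.reps
  (fun g h0 => (h g (M.H.iff.2 h0)))
noncomputable def NX_sw_F : Fm := (.allS NX_lD (.allS NX_lD (.imp (.or (.eq (.v (nat_lit 1)) (.v (nat_lit 8))) (.eq (.v (nat_lit 1)) (.inv (.v (nat_lit 8))))) (.imp (.or (.eq (.v (nat_lit 0)) (.v (nat_lit 2))) (.eq (.v (nat_lit 0)) (.inv (.v (nat_lit 2))))) (.exS NX_lR (.qf (.and (.eq (.mul (.mul (.v (nat_lit 0)) (.v (nat_lit 2))) (.inv (.v (nat_lit 0)))) (.v (nat_lit 9))) (.eq (.mul (.mul (.v (nat_lit 0)) (.v (nat_lit 1))) (.inv (.v (nat_lit 0)))) (.v (nat_lit 3))))))))))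
theorem NX_sw_chk : Fm.chk NZ_o NX_sw_F NX_cs = true := by decide +kernel
theorem NX_sw {G : Type*} [Group G] {R : ℕ → G → Prop} {z a b c d w v u e y p : G} {H : Subgroup G}
    (M : Mdl NZ_o NX_cs NZ_L R [z, z⁻¹, a, b, c, d, w, v, u, e, y, p] H) :
    ∀ t ∈ sp [z, w], ∀ r ∈ sp [z, w], t = w ∨ t = w⁻¹ → r = z ∨ r = z⁻¹ → (∃ m ∈ sp [a, d], m * t * m⁻¹ = w ∧ m * r * m⁻¹ = z) :=
  have h : ∀ t, InS R NX_lD t → ∀ r, InS R NX_lD r → t = w ∨ t = w⁻¹ → r = z ∨ r = z⁻¹ → (GoodS R NX_lR → ∃ m, InS R NX_lR m ∧ m * t * m⁻¹ = w ∧ m * r * m⁻¹ = z) :=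
    Fm.sound M.μ NX_sw_F NX_sw_chk M.reps
  (fun t h0 => (fun r h1 => (fun h2 => (fun h3 => (Exists.imp (fun m h4 => ⟨(NX_lR_E M).iff.1 h4.1, h4.2⟩) (((((h t ((NX_lD_E M).iff.2 h0)) r ((NX_lD_E M).iff.2 h1)) h2) h3) (NX_lR_E M).good))))))
noncomputable def NX_cD2_F : Fm := (.all NZ_L (.imp (.eq (.mul (.v (nat_lit 0)) (.v (nat_lit 1))) (.mul (.v (nat_lit 1)) (.v (nat_lit 0)))) (.imp (.eq (.mul (.v (nat_lit 0)) (.v (nat_lit 7))) (.mul (.v (nat_lit 7)) (.v (nat_lit 0)))) (.qf (.mem (.v (nat_lit 0)) NX_lD)))))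
theorem NX_cD2_chk : Fm.chk NZ_o NX_cD2_F NX_cs = true := by decide +kernel
theorem NX_cD2 {G : Type*} [Group G] {R : ℕ → G → Prop} {z a b c d w v u e y p : G} {H : Subgroup G}
    (M : Mdl NZ_o NX_cs NZ_L R [z, z⁻¹, a, b, c, d, w, v, u, e, y, p] H) :
    ∀ g ∈ H, g * z = z * g → g * w = w * g → g ∈ sp [z, w] :=
  have h : ∀ g, InL NZ_o R NZ_L g → g * z = z * g → g * w = w * g → InS R NX_lD (g) :=
    Fm.sound M.μ NX_cD2_F NX_cD2_chk M.reps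
  (fun g h0 => (fun h1 => (fun h2 => ((NX_lD_E M).iff.1 (((h g (M.H.iff.2 h0)) h1) h2)))))
noncomputable def NX_nD_F : Fm := (.all NZ_L (.imp (.mem (.mul (.mul (.v (nat_lit 0)) (.v (nat_lit 7))) (.inv (.v (nat_lit 0)))) NX_lD) (.qf (.mem (.pw (.v (nat_lit 0)) (nat_lit 4)) NX_lD))))
theorem NX_nD_chk : Fm.chk NZ_o NX_nD_F NX_cs = true := by decide +kernel
theorem NX_nD {G : Type*} [Group G] {R : ℕ → G → Prop} {z a b c d w v u e y p : G} {H : Subgroup G}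
    (M : Mdl NZ_o NX_cs NZ_L R [z, z⁻¹, a, b, c, d, w, v, u, e, y, p] H) :
    ∀ g ∈ H, g * w * g⁻¹ ∈ sp [z, w] → g ^ 4 ∈ sp [z, w] :=
  have h : ∀ g, InL NZ_o R NZ_L g → InS R NX_lD (g * w * g⁻¹) → InS R NX_lD (g ^ 4) :=
    Fm.sound M.μ NX_nD_F NX_nD_chk M.reps
  (fun g h0 => (fun h1 => ((NX_lD_E M).iff.1 ((h g (M.H.iff.2 h0)) ((NX_lD_E M).iff.2 h1)))))
noncomputable def NX_lB : List ℕ := [(nat_lit 0xfac688), (nat_lit 0xfac611), (nat_lit 0xbf4688), (nat_lit 0xfab881), (nat_lit 0xdec681), (nat_lit 0xfac642), (nat_lit 0xbf4611), (nat_lit 0xfab850), (nat_lit 0xdec650), (nat_lit 0xd7c688), (nat_lit 0xbf3881), (nat_lit 0xbbc681), (nat_lit 0xfab80a), (nat_lit 0xdeb888), (nat_lit 0xdec60a), (nat_lit 0xf74681), (nat_lit 0xbf4642), (nat_lit 0xd7c611), (nat_lit 0xbf3850), (nat_lit 0xbbc650), (nat_lit 0xdeb811), (nat_lit 0xf74650), (nat_lit 0xd7b881), (nat_lit 0xbf380a), (nat_lit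 0xbbb888), (nat_lit 0xbbc60a), (nat_lit 0xdeb842), (nat_lit 0xf73888), (nat_lit 0xf7460a), (nat_lit 0xd7c642), (nat_lit 0xd7b850), (nat_lit 0xbbb811), (nat_lit 0xf73811), (nat_lit 0xd7b80a), (nat_lit 0xbbb842), (nat_lit 0xf73842)]
noncomputable def NX_lB_W : List (List ℕ) := [[],
  [(nat_lit 0)],
  [(nat_lit 1)],
  [(nat_lit 2)],
  [(nat_lit 3)],
  [(nat_lit 0), (nat_lit 0)],
  [(nat_lit 0), (nat_lit 1)],
  [(nat_lit 0), (nat_lit 2)],
  [(nat_lit 0), (nat_lit 3)],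
  [(nat_lit 1), (nat_lit 1)],
  [(nat_lit 1), (nat_lit 2)],
  [(nat_lit 1), (nat_lit 3)],
  [(nat_lit 2), (nat_lit 0)],
  [(nat_lit 2), (nat_lit 3)],
  [(nat_lit 3), (nat_lit 0)],
  [(nat_lit 3), (nat_lit 1)],
  [(nat_lit 0), (nat_lit 0), (nat_lit 1)],
  [(nat_lit 0), (nat_lit 1), (nat_lit 1)],
  [(nat_lit 0), (nat_lit 1), (nat_lit 2)],
  [(nat_lit 0), (nat_lit 1), (nat_lit 3)],
  [(nat_lit 0), (nat_lit 2), (nat_lit 3)],
  [(nat_lit 0), (nat_lit 3), (nat_lit 1)],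
  [(nat_lit 1), (nat_lit 1), (nat_lit 2)],
  [(nat_lit 1), (nat_lit 2), (nat_lit 0)],
  [(nat_lit 1), (nat_lit 2), (nat_lit 3)],
  [(nat_lit 1), (nat_lit 3), (nat_lit 0)],
  [(nat_lit 2), (nat_lit 0), (nat_lit 3)],
  [(nat_lit 2), (nat_lit 3), (nat_lit 1)],
  [(nat_lit 3), (nat_lit 0), (nat_lit 1)],
  [(nat_lit 0), (nat_lit 0), (nat_lit 1), (nat_lit 1)],
  [(nat_lit 0), (nat_lit 1), (nat_lit 1), (nat_lit 2)],
  [(nat_lit 0), (nat_lit 1), (nat_lit 2), (nat_lit 3)],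
  [(nat_lit 0), (nat_lit 2), (nat_lit 3), (nat_lit 1)],
  [(nat_lit 1), (nat_lit 1), (nat_lit 2), (nat_lit 0)],
  [(nat_lit 1), (nat_lit 2), (nat_lit 0), (nat_lit 3)],
  [(nat_lit 2), (nat_lit 0), (nat_lit 3), (nat_lit 1)]]
noncomputable def NX_lB_h (c : ℕ) : ℕ := Nat.mod c (nat_lit 138)
theorem NX_lB_E {G : Type*} [Group G] {R : ℕ → G → Prop} {z a b c d w v u e y p : G} {H : Subgroup G}
    (M : Mdl NZ_o NX_cs NZ_L R [z, z⁻¹, a, b, c, d, w, v, u, e, y, p] H) :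
    EnumS R NX_lB (sp [z, w, a, d]) :=
  enumS_sp M.μ.1 (M.reps.tms M.μ.1 [(.v (nat_lit 0)), (.v (nat_lit 6)), (.v (nat_lit 2)), (.v (nat_lit 5))] (cs' := [(nat_lit 0xfac611), (nat_lit 0xbf4688), (nat_lit 0xfab881), (nat_lit 0xdec681)]) (by decide +kernel))
    (Ws := NX_lB_W) (by decide +kernel) (by decide +kernel)
theorem NX_lB_c {G : Type*} [Group G] {R : ℕ → G → Prop} {z a b c d w v u e y p : G} {H : Subgroup G}
    (M : Mdl NZ_o NX_cs NZ_L R [z, z⁻¹, a, b, c, d, w, v, u, e, y, p] H) :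
    #(sp [z, w, a, d]) = 36 :=
  (NX_lB_E M).card M.μ (h := NX_lB_h) (by decide +kernel)
noncomputable def NX_B_F : Fm := (.all NZ_L (.imp (.mem (.mul (.mul (.v (nat_lit 0)) (.v (nat_lit 7))) (.inv (.v (nat_lit 0)))) NX_lD) (.qf (.mem (.v (nat_lit 0)) NX_lB))))
theorem NX_B_chk : Fm.chk NZ_o NX_B_F NX_cs = true := by decide +kernel
theorem NX_B {G : Type*} [Group G] {R : ℕ → G → Prop} {z a b c d w v u e y p : G} {H : Subgroup G}
    (M : Mdl NZ_o NX_cs NZ_L R [z, z⁻¹, a, b, c, d, w, v, u, e, y, p] H) :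
    ∀ g ∈ H, g * w * g⁻¹ ∈ sp [z, w] → g ∈ sp [z, w, a, d] :=
  have h : ∀ g, InL NZ_o R NZ_L g → InS R NX_lD (g * w * g⁻¹) → InS R NX_lB (g) :=
    Fm.sound M.μ NX_B_F NX_B_chk M.reps
  (fun g h0 => (fun h1 => ((NX_lB_E M).iff.1 ((h g (M.H.iff.2 h0)) ((NX_lD_E M).iff.2 h1)))))
noncomputable def NX_B2_F : Fm := (.allS NX_lB (.qf (.and (.mem (.mul (.mul (.v (nat_lit 0)) (.v (nat_lit 1))) (.inv (.v (nat_lit 0)))) NX_lD) (.mem (.mul (.mul (.v (nat_lit 0)) (.v (nat_lit 7))) (.inv (.v (nat_lit 0)))) NX_lD))))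
theorem NX_B2_chk : Fm.chk NZ_o NX_B2_F NX_cs = true := by decide +kernel
theorem NX_B2 {G : Type*} [Group G] {R : ℕ → G → Prop} {z a b c d w v u e y p : G} {H : Subgroup G}
    (M : Mdl NZ_o NX_cs NZ_L R [z, z⁻¹, a, b, c, d, w, v, u, e, y, p] H) :
    ∀ g ∈ sp [z, w, a, d], g * z * g⁻¹ ∈ sp [z, w] ∧ g * w * g⁻¹ ∈ sp [z, w] :=
  have h : ∀ g, InS R NX_lB g → InS R NX_lD (g * z * g⁻¹) ∧ InS R NX_lD (g * w * g⁻¹) :=
    Fm.sound M.μ NX_B2_F NX_B2_chk M.reps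
  (fun g h0 => ((and_congr (NX_lD_E M).iff (NX_lD_E M).iff).1 (h g ((NX_lB_E M).iff.2 h0))))
noncomputable def NX_Da_F : Fm := (.allS NX_lD (.imp (.or (.eq (.mul (.mul (.v (nat_lit 3)) (.v (nat_lit 0))) (.inv (.v (nat_lit 3)))) (.v (nat_lit 0))) (.eq (.mul (.mul (.v (nat_lit 3)) (.v (nat_lit 0))) (.inv (.v (nat_lit 3)))) (.inv (.v (nat_lit 0))))) (.qf (.or (.eq (.v (nat_lit 0)) .one) (.or (.or (.eq (.v (nat_lit 0)) (.v (nat_lit 1))) (.eq (.v (nat_lit 0)) (.inv (.v (nat_lit 1))))) (.or (.eq (.v (nat_lit 0)) (.v (nat_lit 7))) (.eq (.v (nat_lit 0)) (.inv (.v (nat_lit 7))))))))))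
theorem NX_Da_chk : Fm.chk NZ_o NX_Da_F NX_cs = true := by decide +kernel
theorem NX_Da {G : Type*} [Group G] {R : ℕ → G → Prop} {z a b c d w v u e y p : G} {H : Subgroup G}
    (M : Mdl NZ_o NX_cs NZ_L R [z, z⁻¹, a, b, c, d, w, v, u, e, y, p] H) :
    ∀ t ∈ sp [z, w], a * t * a⁻¹ = t ∨ a * t * a⁻¹ = t⁻¹ → t = 1 ∨ (t = z ∨ t = z⁻¹) ∨ t = w ∨ t = w⁻¹ :=
  have h : ∀ t, InS R NX_lD t → a * t * a⁻¹ = t ∨ a * t * a⁻¹ = t⁻¹ → t = 1 ∨ (t = z ∨ t = z⁻¹) ∨ t = w ∨ t = w⁻¹ :=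
    Fm.sound M.μ NX_Da_F NX_Da_chk M.reps
  (fun t h0 => (h t ((NX_lD_E M).iff.2 h0)))
noncomputable def NX_zz_F : Fm := (.all NZ_L (.imp (.eq (.pw (.v (nat_lit 0)) (nat_lit 3)) .one) (.imp (.not (.eq (.v (nat_lit 0)) .one)) (.imp (.or (.eq (.mul (.mul (.v (nat_lit 3)) (.v (nat_lit 0))) (.inv (.v (nat_lit 3)))) (.v (nat_lit 0))) (.eq (.mul (.mul (.v (nat_lit 3)) (.v (nat_lit 0))) (.inv (.v (nat_lit 3)))) (.inv (.v (nat_lit 0))))) (.imp (.or (.eq (.mul (.mul (.v (nat_lit 4)) (.v (nat_lit 0))) (.inv (.v (nat_lit 4)))) (.v (nat_lit 0))) (.eq (.mul (.mul (.v (nat_lit 4)) (.v (nat_lit 0))) (.inv (.v (nat_lit 4)))) (.inv (.v (nat_lit 0))))) (.imp (.or (.eq (.mul (.mul (.v (nat_lit 5)) (.v (nat_lit 0))) (.inv (.v (nat_lit 5)))) (.v (nat_lit 0))) (.eq (.mul (.mul (.v (nat_lit 5)) (.v (nat_lit 0))) (.inv (.v (nat_lit 5)))) (.inv (.v (nat_lit 0))))) (.imp (.or (.eq (.mul (.mul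 (.v (nat_lit 6)) (.v (nat_lit 0))) (.inv (.v (nat_lit 6)))) (.v (nat_lit 0))) (.eq (.mul (.mul (.v (nat_lit 6)) (.v (nat_lit 0))) (.inv (.v (nat_lit 6)))) (.inv (.v (nat_lit 0))))) (.qf (.or (.eq (.v (nat_lit 0)) (.v (nat_lit 1))) (.eq (.v (nat_lit 0)) (.inv (.v (nat_lit 1)))))))))))))
theorem NX_zz_chk : Fm.chk NZ_o NX_zz_F NX_cs = true := by decide +kernel
theorem NX_zz {G : Type*} [Group G] {R : ℕ → G → Prop} {z a b c d w v u e y p : G} {H : Subgroup G}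
    (M : Mdl NZ_o NX_cs NZ_L R [z, z⁻¹, a, b, c, d, w, v, u, e, y, p] H) :
    ∀ t ∈ H, t ^ 3 = 1 → t ≠ 1 → a * t * a⁻¹ = t ∨ a * t * a⁻¹ = t⁻¹ → b * t * b⁻¹ = t ∨ b * t * b⁻¹ = t⁻¹ → c * t * c⁻¹ = t ∨ c * t * c⁻¹ = t⁻¹ → d * t * d⁻¹ = t ∨ d * t * d⁻¹ = t⁻¹ → t = z ∨ t = z⁻¹ :=
  have h : ∀ t, InL NZ_o R NZ_L t → t ^ 3 = 1 → t ≠ 1 → a * t * a⁻¹ = t ∨ a * t * a⁻¹ = t⁻¹ → b * t * b⁻¹ = t ∨ b * t * b⁻¹ = t⁻¹ → c * t * c⁻¹ = t ∨ c * t * c⁻¹ = t⁻¹ → d * t * d⁻¹ = t ∨ d * t * d⁻¹ = t⁻¹ → t = z ∨ t = z⁻¹ :=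
    Fm.sound M.μ NX_zz_F NX_zz_chk M.reps
  (fun t h0 => (h t (M.H.iff.2 h0)))
noncomputable def NX_ri_f_F : Fm := (.qf (.and (.eq (.pw (.inv (.v (nat_lit 0))) (nat_lit 3)) .one) (.and (.eq (.mul (.v (nat_lit 2)) (.v (nat_lit 2))) .one) (.and (.eq (.mul (.v (nat_lit 3)) (.v (nat_lit 3))) .one) (.and (.eq (.mul (.v (nat_lit 4)) (.v (nat_lit 4))) .one) (.and (.eq (.mul (.v (nat_lit 5)) (.v (nat_lit 5))) .one) (.and (.eq (.pw (.mul (.v (nat_lit 2)) (.v (nat_lit 3))) (nat_lit 3)) .one) (.and (.eq (.pw (.mul (.v (nat_lit 3)) (.v (nat_lit 4))) (nat_lit 3)) .one) (.and (.eq (.pw (.mul (.v (nat_lit 4)) (.v (nat_lit 5))) (nat_lit 3)) .one) (.and (.eq (.mul (.v (nat_lit 2)) (.v (nat_lit 4))) (.mul (.v (nat_lit 4)) (.v (nat_lit 2)))) (.and (.eq (.mul (.v (nat_lit 2)) (.v (nat_lit 5))) (.mul (.v (nat_lit 5)) (.v (nat_lit 2)))) (.and (.eq (.mul (.v (nat_lit 3)) (.v (nat_lit 5))) (.mul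 (.v (nat_lit 5)) (.v (nat_lit 3)))) (.and (.eq (.mul (.mul (.v (nat_lit 2)) (.inv (.v (nat_lit 0)))) (.inv (.v (nat_lit 2)))) (.inv (.inv (.v (nat_lit 0))))) (.and (.eq (.mul (.mul (.v (nat_lit 3)) (.inv (.v (nat_lit 0)))) (.inv (.v (nat_lit 3)))) (.inv (.inv (.v (nat_lit 0))))) (.and (.eq (.mul (.mul (.v (nat_lit 4)) (.inv (.v (nat_lit 0)))) (.inv (.v (nat_lit 4)))) (.inv (.inv (.v (nat_lit 0))))) (.eq (.mul (.mul (.v (nat_lit 5)) (.inv (.v (nat_lit 0)))) (.inv (.v (nat_lit 5)))) (.inv (.inv (.v (nat_lit 0))))))))))))))))))))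
theorem NX_ri_f_chk : Fm.chk NZ_o NX_ri_f_F NX_cs = true := by decide +kernel
theorem NX_ri_f {G : Type*} [Group G] {R : ℕ → G → Prop} {z a b c d w v u e y p : G} {H : Subgroup G}
    (M : Mdl NZ_o NX_cs NZ_L R [z, z⁻¹, a, b, c, d, w, v, u, e, y, p] H) :
    z⁻¹ ^ 3 = 1 ∧ a * a = 1 ∧ b * b = 1 ∧ c * c = 1 ∧ d * d = 1 ∧ (a * b) ^ 3 = 1 ∧ (b * c) ^ 3 = 1 ∧ (c * d) ^ 3 = 1 ∧ a * c = c * a ∧ a * d = d * a ∧ b * d = d * b ∧ a * z⁻¹ * a⁻¹ = z⁻¹⁻¹ ∧ b * z⁻¹ * b⁻¹ = z⁻¹⁻¹ ∧ c * z⁻¹ * c⁻¹ = z⁻¹⁻¹ ∧ d * z⁻¹ * d⁻¹ = z⁻¹⁻¹ :=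
  Fm.sound M.μ NX_ri_f_F NX_ri_f_chk M.reps
theorem NX_ri {G : Type*} [Group G] {R : ℕ → G → Prop} {z a b c d w v u e y p : G} {H : Subgroup G}
    (M : Mdl NZ_o NX_cs NZ_L R [z, z⁻¹, a, b, c, d, w, v, u, e, y, p] H) :
    NZ z⁻¹ a b c d :=
  have h := NX_ri_f M
  ⟨h.1, h.2.1, h.2.2.1, h.2.2.2.1, h.2.2.2.2.1, h.2.2.2.2.2.1, h.2.2.2.2.2.2.1, h.2.2.2.2.2.2.2.1, h.2.2.2.2.2.2.2.2.1, h.2.2.2.2.2.2.2.2.2.1, h.2.2.2.2.2.2.2.2.2.2.1, h.2.2.2.2.2.2.2.2.2.2.2.1, h.2.2.2.2.2.2.2.2.2.2.2.2.1, h.2.2.2.2.2.2.2.2.2.2.2.2.2.1, h.2.2.2.2.2.2.2.2.2.2.2.2.2.2, trivial⟩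

end H2.L3
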