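import Cfsg.Agent.H2.LA1

/-! Generated: the alternating group of degree eight from three-local data. -/

set_option maxRecDepth 100000
set_option maxHeartbeats 4000000
set_option linter.unusedVariables false

open Subgroup
open scoped commutatorElement
namespace H2.L3
open H0 H0.PM H16 H19 H10.X

noncomputable def A8_Rl : List (List ℕ) := [[0,1],
  [1,0],
  [2,2],
  [3,3],
  [4,4],
  [5,5],
  [6,6],
  [0,0,0],
  [4,3,4,3,4,3],
  [5,4,5,4,5,4],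
  [6,5,6,5,6,5],
  [5,3,5,3],
  [6,3,6,3],
  [6,4,6,4],
  [0,3,0,3],
  [0,4,0,4],
  [0,5,0,5],
  [0,6,0,6],
  [2,0,2,0,2,0],
  [3,2,3,2,3,2],
  [4,2,4,2],
  [5,2,5,2],
  [6,2,6,2]]
theorem A8_r {G : Type*} [Group G] {z x a b c d : G}
    (h : NZ z a b c d)
    (k : AE z x a b c d) :
    Rels (nthG [z, z⁻¹, x, a, b, c, d]) A8_Rl :=
  rels_of_eqs ((InvI.cons k.1 (InvI.cons h.2.1 (InvI.cons h.2.2.1 (InvI.cons h.2.2.2.1 (InvI.cons h.2.2.2.2.1 InvI.nil))))) : InvI [z, x, a, b, c, d] [(nat_lit 1), (nat_lit 2), (nat_lit 3), (nat_lit 4), (nat_lit 5)])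
    (AllEq.append (show AllEq [z, x, a, b, c, d] [((.pw (.v (nat_lit 0)) (nat_lit 3)), .one), ((.mul (.v (nat_lit 2)) (.v (nat_lit 2))), .one), ((.mul (.v (nat_lit 3)) (.v (nat_lit 3))), .one), ((.mul (.v (nat_lit 4)) (.v (nat_lit 4))), .one), ((.mul (.v (nat_lit 5)) (.v (nat_lit 5))), .one), ((.pw (.mul (.v (nat_lit 2)) (.v (nat_lit 3))) (nat_lit 3)), .one), ((.pw (.mul (.v (nat_lit 3)) (.v (nat_lit 4))) (nat_lit 3)), .one), ((.pw (.mul (.v (nat_lit 4)) (.v (nat_lit 5))) (nat_lit 3)), .one), ((.mul (.v (nat_lit 2)) (.v (nat_lit 4))), (.mul (.v (nat_lit 4)) (.v (nat_lit 2)))), ((.mul (.v (nat_lit 2)) (.v (nat_lit 5))), (.mul (.v (nat_lit 5)) (.v (nat_lit 2)))), ((.mul (.v (nat_lit 3)) (.v (nat_lit 5))), (.mul (.v (nat_lit 5)) (.v (nat_lit 3)))), ((.mul (.mul (.v (nat_lit 2)) (.v (nat_lit 0))) (.inv (.v (nat_lit 2)))), (.inv (.v (nat_lit 0)))), ((.mul (.mul (.v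 (nat_lit 3)) (.v (nat_lit 0))) (.inv (.v (nat_lit 3)))), (.inv (.v (nat_lit 0)))), ((.mul (.mul (.v (nat_lit 4)) (.v (nat_lit 0))) (.inv (.v (nat_lit 4)))), (.inv (.v (nat_lit 0)))), ((.mul (.mul (.v (nat_lit 5)) (.v (nat_lit 0))) (.inv (.v (nat_lit 5)))), (.inv (.v (nat_lit 0))))] from h)
    (show AllEq [z, x, a, b, c, d] [((.mul (.v (nat_lit 1)) (.v (nat_lit 1))), .one), ((.pw (.mul (.v (nat_lit 0)) (.v (nat_lit 1))) (nat_lit 3)), .one), ((.pw (.mul (.v (nat_lit 1)) (.v (nat_lit 2))) (nat_lit 3)), .one), ((.mul (.v (nat_lit 1)) (.v (nat_lit 3))), (.mul (.v (nat_lit 3)) (.v (nat_lit 1)))), ((.mul (.v (nat_lit 1)) (.v (nat_lit 4))), (.mul (.v (nat_lit 4)) (.v (nat_lit 1)))), ((.mul (.v (nat_lit 1)) (.v (nat_lit 5))), (.mul (.v (nat_lit 5)) (.v (nat_lit 1))))] from k))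
    [(.v (nat_lit 0)), (.inv (.v (nat_lit 0))), (.v (nat_lit 1)), (.v (nat_lit 2)), (.v (nat_lit 3)), (.v (nat_lit 4)), (.v (nat_lit 5))] (by decide +kernel)
noncomputable abbrev A8_o : Ops := pops (nat_lit 8) (nat_lit 3) (nat_lit 7) (nat_lit 0xfac688)
noncomputable def A8_cs : List ℕ := [(nat_lit 0xfac611), (nat_lit 0xfac642), (nat_lit 0xfac4c1), (nat_lit 0xfab881), (nat_lit 0xfa5681), (nat_lit 0xf74681), (nat_lit 0xdec681)]
noncomputable def A8_b2_S0 : List ℕ := [nat_lit 0xb000008006004]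
noncomputable def A8_b2_S : List (List ℕ) := [A8_b2_S0]
noncomputable def A8_b2_defs : List ℕ := [(nat_lit 0x1000000000000000000000)]
noncomputable def A8_b2_recs : List ℕ := [(nat_lit 0x10000100002)]
noncomputable def A8_b2_L0 : List ℕ := [nat_lit 0x700000100000b000002, nat_lit 0x2000002000008000000, nat_lit 0xc000000000001000001]
noncomputable def A8_b2_L : List (List ℕ) := [A8_b2_L0]
noncomputable def A8_b2_V : List ℕ := [(nat_lit 0x20000000100000000)]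
noncomputable def A8_b2_D : H26.Dag := ⟨[1,0], [[0,1],
  [1,0],
  [0,0,0]], [], A8_b2_defs, A8_b2_recs⟩
theorem A8_b2_c : A8_b2_D.checkTab A8_b2_S 3 2 A8_b2_V A8_b2_L = true := by decide +kernel
theorem A8_b2 : Bound A8_Rl 2 3 :=
  bound_dag (Bound.zero A8_Rl) (K := 2) (J := [0,1,7]) (by decide +kernel) A8_b2_c (by decide +kernel)
noncomputable def A8_b3_S0 : List ℕ := [nat_lit 0x1, nat_lit 0xf00000c006006, nat_lit 0xf00000700000200000800000c006008]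
noncomputable def A8_b3_S : List (List ℕ) := [A8_b3_S0]
noncomputable def A8_b3_defs : List ℕ := [(nat_lit 0x100001000000010020000000000000)]
noncomputable def A8_b3_recs : List ℕ := [(nat_lit 0x20000200003010000200003000000000000)]
noncomputable def A8_b3_L0 : List ℕ := [nat_lit 0x1000000000002000000000007000001, nat_lit 0xb00000200000f000003000008000000, nat_lit 0x600000300000c00000100000a000003, nat_lit 0x10000001000005000002000009000002]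
noncomputable def A8_b3_L : List (List ℕ) := [A8_b3_L0]
noncomputable def A8_b3_V : List ℕ := [(nat_lit 0x3000000020000000100000000)]
noncomputable def A8_b3_D : H26.Dag := ⟨[1,0,2], [[0,1],
  [1,0],
  [2,2],
  [0,0,0],
  [2,0,2,0,2,0]], [0,1], A8_b3_defs, A8_b3_recs⟩
theorem A8_b3_c : A8_b3_D.checkTab A8_b3_S 4 3 A8_b3_V A8_b3_L = true := by decide +kernel
theorem A8_b3 : Bound A8_Rl 3 12 :=
  bound_dag A8_b2 (K := 3) (J := [0,1,2,7,18]) (by decide +kernel) A8_b3_c (by decide +kernel)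
noncomputable def A8_b4_S0 : List ℕ := [nat_lit 0x1, nat_lit 0x1, nat_lit 0x700000100000800800a, nat_lit 0xb00000700000500000800000c00800e, nat_lit 0x13000010006008, nat_lit 0x1300000d00001000a00a, nat_lit 0x1300000b00000a00000c00001000600c]
noncomputable def A8_b4_S : List (List ℕ) := [A8_b4_S0]
noncomputable def A8_b4_defs : List ℕ := [(nat_lit 0x10000200000002002000010030000000000000)]
noncomputable def A8_b4_recs : List ℕ := [(nat_lit 0x20000300004030000300004010000300004030000200002000000100001020000000000000000000000)]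
noncomputable def A8_b4_L0 : List ℕ := [nat_lit 0x1000000000002000000000005000000000007000001, nat_lit 0x900000100000a00000100000b000002000008000000, nat_lit 0xf00000300001300000400000c00000100000d000002, nat_lit 0x1200000400001000000200001a000004000016000004, nat_lit 0x14000002000011000003000019000003000015000003]
noncomputable def A8_b4_L : List (List ℕ) := [A8_b4_L0]
noncomputable def A8_b4_V : List ℕ := [(nat_lit 0x400000003000000020000000100000000)]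
noncomputable def A8_b4_D : H26.Dag := ⟨[1,0,2,3], [[0,1],
  [1,0],
  [2,2],
  [3,3],
  [0,0,0],
  [0,3,0,3],
  [2,0,2,0,2,0],
  [3,2,3,2,3,2]], [0,1,2], A8_b4_defs, A8_b4_recs⟩
theorem A8_b4_c : A8_b4_D.checkTab A8_b4_S 5 4 A8_b4_V A8_b4_L = true := by decide +kernel
theorem A8_b4 : Bound A8_Rl 4 60 :=
  bound_dag A8_b3 (K := 4) (J := [0,1,2,3,7,14,18,19]) (by decide +kernel) A8_b4_c (by decide +kernel)
noncomputable def A8_b5_S0 : List ℕ := [nat_lit 0x1, nat_lit 0x1, nat_lit 0x1, nat_lit 0x7000001000008008010, nat_lit 0x7000005000008004016, nat_lit 0xb00000d00000c00800e, nat_lit 0xb00000700000900000800000c00800c, nat_lit 0xf000019000010008016, nat_lit 0xf00000b00001100000c000010008014, nat_lit 0x1700001400600a, nat_lit 0x1700002100001400a00e, nat_lit 0x1700001d00001400a010, nat_lit 0x1700000f000016000010000014006012]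
noncomputable def A8_b5_S : List (List ℕ) := [A8_b5_S0]
noncomputable def A8_b5_defs : List ℕ := [(nat_lit 0x1000030000000300200002003000010040000000000000)]
noncomputable def A8_b5_recs : List ℕ := [(nat_lit 0x20000400005040000400005030000400005010000400005030000300003040000300003040000200002000000200002020000100001000000100001030000000000020000000000000000000000)]
noncomputable def A8_b5_L0 : List ℕ := [nat_lit 0x1000000000002000000000005000000000009000000000007000001, nat_lit 0xd00000100000e00000100001100000100000b000002000008000000, nat_lit 0x1500000200001600000200000f00000300000c000001000019000002, nat_lit 0x1300000400001700000500001000000200002100000300001d000003, nat_lit 0x2600000500001400000300003200000500002a00000500002e000005, nat_lit 0x1800000300002500000400003100000400002900000400002d000004]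
noncomputable def A8_b5_L : List (List ℕ) := [A8_b5_L0]
noncomputable def A8_b5_V : List ℕ := [(nat_lit 0x50000000400000003000000020000000100000000)]
noncomputable def A8_b5_D : H26.Dag := ⟨[1,0,2,3,4], [[0,1],
  [1,0],
  [2,2],
  [3,3],
  [4,4],
  [0,0,0],
  [4,3,4,3,4,3],
  [0,3,0,3],
  [0,4,0,4],
  [2,0,2,0,2,0],
  [3,2,3,2,3,2],
  [4,2,4,2]], [0,1,2,3], A8_b5_defs, A8_b5_recs⟩
theorem A8_b5_c : A8_b5_D.checkTab A8_b5_S 6 5 A8_b5_V A8_b5_L = true := by decide +kernel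
theorem A8_b5 : Bound A8_Rl 5 360 :=
  bound_dag A8_b4 (K := 5) (J := [0,1,2,3,4,7,8,14,15,18,19,20]) (by decide +kernel) A8_b5_c (by decide +kernel)
noncomputable def A8_b6_S0 : List ℕ := [nat_lit 0x1, nat_lit 0x1, nat_lit 0x1, nat_lit 0x1, nat_lit 0x7000009000008004012, nat_lit 0x7000001000008008018, nat_lit 0x7000005000008004020, nat_lit 0xb00001500000c008016, nat_lit 0xb00001900000c00401e, nat_lit 0xb00000700000d00000800000c008010, nat_lit 0xf000025000010008012, nat_lit 0xf00001d000010008014, nat_lit 0xf00000b00001100000c00001000800e, nat_lit 0x1300003100001400801e, nat_lit 0x13000029000014008020, nat_lit 0x1300000f00002100001000001400801c, nat_lit 0x1b00001800600c, nat_lit 0x1b00003d00001800a014, nat_lit 0x1b00003500001800a016, nat_lit 0x1b00003900001800a018, nat_lit 0x1b00001300002e00001400001800601a]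
noncomputable def A8_b6_S : List (List ℕ) := [A8_b6_S0]
noncomputable def A8_b6_defs : List ℕ := [(nat_lit 0x100004000000040020000300300002004000010050000000000000)]
noncomputable def A8_b6_recs : List ℕ := [(nat_lit 0x20000500006050000500006040000500006030000500006010000500006030000400004050000400004040000400004040000300003000000300003050000300003050000200002020000200002000000200002020000100001000000100001030000100001040000000000030000000000020000000000000000000000)]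
noncomputable def A8_b6_L0 : List ℕ := [nat_lit 0x100000000000200000000000500000000000900000000000d000000000007000001, nat_lit 0x1500000100001600000100001900000100001100000100000b000002000008000000, nat_lit 0x1d00000200001e00000200002100000200000f00000300000c000001000025000002, nat_lit 0x2d00000300002e000003000013000004000010000002000031000003000029000003, nat_lit 0x1700000500001b00000600001400000300003d000004000035000004000039000004, nat_lit 0x4200000600001800000400005200000600004600000600004a00000600004e000006, nat_lit 0x1c00000400004100000500005100000500004500000500004900000500004d000005]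
noncomputable def A8_b6_L : List (List ℕ) := [A8_b6_L0]
noncomputable def A8_b6_V : List ℕ := [(nat_lit 0x6000000050000000400000003000000020000000100000000)]
noncomputable def A8_b6_D : H26.Dag := ⟨[1,0,2,3,4,5], [[0,1],
  [1,0],
  [2,2],
  [3,3],
  [4,4],
  [5,5],
  [0,0,0],
  [4,3,4,3,4,3],
  [5,4,5,4,5,4],
  [5,3,5,3],
  [0,3,0,3],
  [0,4,0,4],
  [0,5,0,5],
  [2,0,2,0,2,0],
  [3,2,3,2,3,2],
  [4,2,4,2],
  [5,2,5,2]], [0,1,2,3,4], A8_b6_defs, A8_b6_recs⟩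
theorem A8_b6_c : A8_b6_D.checkTab A8_b6_S 7 6 A8_b6_V A8_b6_L = true := by decide +kernel
theorem A8_b6 : Bound A8_Rl 6 2520 :=
  bound_dag A8_b5 (K := 6) (J := [0,1,2,3,4,5,7,8,9,11,14,15,16,18,19,20,21]) (by decide +kernel) A8_b6_c (by decide +kernel)
noncomputable def A8_b7_S0 : List ℕ := [nat_lit 0x1, nat_lit 0x1, nat_lit 0x1, nat_lit 0x1, nat_lit 0x1, nat_lit 0x7000009000008004018, nat_lit 0x700000d00000800401a, nat_lit 0x7000001000008008022, nat_lit 0x700000500000800402c, nat_lit 0xb00001500000c004016, nat_lit 0xb00001d00000c008020, nat_lit 0xb00002100000c00402a, nat_lit 0xb00000700001100000800000c008014, nat_lit 0xf00003100001000801a, nat_lit 0xf00002900001000801e, nat_lit 0xf00002d000010004028, nat_lit 0xf00000b00001900000c000010008012, nat_lit 0x13000041000014008016, nat_lit 0x13000035000014008018, nat_lit 0x1300003900001400801c, nat_lit 0x1300000f000025000010000014008010,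 nat_lit 0x17000051000018008028, nat_lit 0x1700004500001800802a, nat_lit 0x1700004900001800802c, nat_lit 0x1700001300003d000014000018008026, nat_lit 0x1f00001c00600e, nat_lit 0x1f00006100001c00a01c, nat_lit 0x1f00005500001c00a01e, nat_lit 0x1f00005900001c00a020, nat_lit 0x1f00005d00001c00a022, nat_lit 0x1f00001700004e00001800001c006024]
noncomputable def A8_b7_S : List (List ℕ) := [A8_b7_S0]
noncomputable def A8_b7_defs : List ℕ := [(nat_lit 0x10000500000005002000040030000300400002005000010060000000000000)]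
noncomputable def A8_b7_recs : List ℕ := [(nat_lit 0x20000600007060000600007050000600007040000600007030000600007010000600007030000500005060000500005050000500005040000500005040000400004000000400004060000400004050000400004050000300003020000300003000000300003060000300003060000200002020000200002000000200002030000200002020000100001000000100001040000100001030000100001050000000000040000000000030000000000020000000000000000000000)]
noncomputable def A8_b7_L0 : List ℕ := [nat_lit 0x100000000000200000000000500000000000900000000000d000000000011000000000007000001, nat_lit 0x1d00000100001e00000100002100000100001500000100001900000100000b000002000008000000, nat_lit 0x2900000200002a00000200002d00000200002500000200000f00000300000c000001000031000002, nat_lit 0x3900000300003a00000300003d000003000013000004000010000002000041000003000035000003, nat_lit 0x4d00000400004e000004000017000005000014000003000051000004000045000004000049000004,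 nat_lit 0x1b00000600001f00000700001800000400006100000500005500000500005900000500005d000005, nat_lit 0x6600000700001c00000500007a00000700006a00000700006e000007000072000007000076000007, nat_lit 0x2000000500006500000600007900000600006900000600006d000006000071000006000075000006]
noncomputable def A8_b7_L : List (List ℕ) := [A8_b7_L0]
noncomputable def A8_b7_V : List ℕ := [(nat_lit 0x700000006000000050000000400000003000000020000000100000000)]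
noncomputable def A8_b7_D : H26.Dag := ⟨[1,0,2,3,4,5,6], [[0,1],
  [1,0],
  [2,2],
  [3,3],
  [4,4],
  [5,5],
  [6,6],
  [0,0,0],
  [4,3,4,3,4,3],
  [5,4,5,4,5,4],
  [6,5,6,5,6,5],
  [5,3,5,3],
  [6,3,6,3],
  [6,4,6,4],
  [0,3,0,3],
  [0,4,0,4],
  [0,5,0,5],
  [0,6,0,6],
  [2,0,2,0,2,0],
  [3,2,3,2,3,2],
  [4,2,4,2],
  [5,2,5,2],
  [6,2,6,2]], [0,1,2,3,4,5], A8_b7_defs, A8_b7_recs⟩
theorem A8_b7_c : A8_b7_D.checkTab A8_b7_S 8 7 A8_b7_V A8_b7_L = true := by decide +kernel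
theorem A8_b7 : Bound A8_Rl 7 20160 :=
  bound_dag A8_b6 (K := 7) (J := [0,1,2,3,4,5,6,7,8,9,10,11,12,13,14,15,16,17,18,19,20,21,22]) (by decide +kernel) A8_b7_c (by decide +kernel)
theorem A8_mdl {G : Type*} [Group G] {z x a b c d : G}
    (h : NZ z a b c d)
    (k : AE z x a b c d)
    (n1 : z ≠ 1) :
    ∃ R, Md0 A8_o A8_cs R [z, z⁻¹, x, a, b, c, d] ∧ Nonempty (alternatingGroup (Fin 8) ≃* sp [z, z⁻¹, x, a, b, c, d]) :=
  mod_alt (d := (nat_lit 8)) (d' := 8) (n := 3) (w := (nat_lit 3)) (m := (nat_lit 7)) (e := (nat_lit 0xfac688))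
    (cs := A8_cs) rfl rfl (PkOK.of (by decide +kernel)) (by decide +kernel) (by decide +kernel) A8_b7 (by decide)
    (Ws := [[],
  [(nat_lit 0)],
  [(nat_lit 2)],
  [(nat_lit 3)],
  [(nat_lit 4)],
  [(nat_lit 5)],
  [(nat_lit 6)]]) (by decide +kernel) rfl (A8_r h k) (k := 0) (by decide) n1
noncomputable def AX_cs : List ℕ := [(nat_lit 0xfac611), (nat_lit 0xfac642), (nat_lit 0xfac4c1), (nat_lit 0xfab881), (nat_lit 0xfa5681), (nat_lit 0xf74681), (nat_lit 0xdec681), (nat_lit 0xbf4688), (nat_lit 0xde5688), (nat_lit 0xb3e688), (nat_lit 0xbf4611)]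
theorem AX_ext {G : Type*} [Group G] {R : ℕ → G → Prop} {z x a b c d : G}
    (M : Md0 A8_o A8_cs R [z, z⁻¹, x, a, b, c, d]) :
    Md0 A8_o AX_cs R [z, z⁻¹, x, a, b, c, d, c * d, b * d, c * d * (b * d) * (c * d)⁻¹, z * (c * d)] :=
  ⟨M.μ, M.reps.tms M.μ.1 [(.v (nat_lit 0)), (.v (nat_lit 1)), (.v (nat_lit 2)), (.v (nat_lit 3)), (.v (nat_lit 4)), (.v (nat_lit 5)), (.v (nat_lit 6)), (.mul (.v (nat_lit 5)) (.v (nat_lit 6))), (.mul (.v (nat_lit 4)) (.v (nat_lit 6))), (.mul (.mul (.mul (.v (nat_lit 5)) (.v (nat_lit 6))) (.mul (.v (nat_lit 4)) (.v (nat_lit 6)))) (.inv (.mul (.v (nat_lit 5)) (.v (nat_lit 6))))), (.mul (.v (nat_lit 0)) (.mul (.v (nat_lit 5)) (.v (nat_lit 6))))] (cs' := AX_cs) (by decide +kernel)⟩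
noncomputable def AY_cs : List ℕ := [(nat_lit 0xfac611), (nat_lit 0xfac642), (nat_lit 0xfac4c1), (nat_lit 0xfab881), (nat_lit 0xfa5681), (nat_lit 0xf74681), (nat_lit 0xdec681), (nat_lit 0xbf4688), (nat_lit 0xde5688), (nat_lit 0xb3e688), (nat_lit 0xbf4611), (nat_lit 0xde54c1), (nat_lit 0xb3e21a), (nat_lit 0xb3e053), (nat_lit 0x21ab3e), (nat_lit 371511), (nat_lit 0xb1af88), (nat_lit 0x4439f5), (nat_lit 0xbd8394), (nat_lit 0xb1af88), (nat_lit 0xf74650), (nat_lit 0xf7460a), (nat_lit 0xdec681), (nat_lit 0x4c8fa5), (nat_lit 0x688b3e), (nat_lit 0x681b37), (nat_lit 0x688fac)]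
theorem AY_ext {G : Type*} [Group G] {R : ℕ → G → Prop} {z x a b c d w v u y : G}
    (M : Md0 A8_o AX_cs R [z, z⁻¹, x, a, b, c, d, w, v, u, y]) :
    ∃ s U V A B X r k l f g q q1 q2 q3 n : G, Md0 A8_o AY_cs R [z, z⁻¹, x, a, b, c, d, w, v, u, y, s, U, V, A, B, X, r, k, l, f, g, q, q1, q2, q3, n] ∧ ∀ y_ ∈ [s, U, V, A, B, X, r, k, l, f, g, q, q1, q2, q3, n], y_ ∈ sp [z, z⁻¹, x, a, b, c, d, w, v, u, y] :=
  ⟨Tm.sem [z, z⁻¹, x, a, b, c, d, w, v, u, y] (.mul (.v (nat_lit 8)) (.v (nat_lit 2))), Tm.sem [z, z⁻¹, x, a, b, c, d, w, v, u, y] (.mul (.mul (.mul (.v (nat_lit 9)) (.v (nat_lit 1))) (.v (nat_lit 2))) (.v (nat_lit 0))), Tm.sem [z, z⁻¹, x, a, b, c, d, w, v, u, y] (.mul (.mul (.mul (.v (nat_lit 9)) (.v (nat_lit 0))) (.v (nat_lit 2))) (.v (nat_lit 1))), Tm.sem [z, z⁻¹, x, a, b, c, d, w, v, u, y] (.mul (.mul (.mul (.mul (.mul (.mul (.mul (.mul (.mul (.mul (.mul (.mul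 (.mul (.v (nat_lit 3)) (.v (nat_lit 9))) (.v (nat_lit 0))) (.v (nat_lit 2))) (.v (nat_lit 3))) (.v (nat_lit 8))) (.v (nat_lit 0))) (.v (nat_lit 2))) (.v (nat_lit 3))) (.v (nat_lit 9))) (.v (nat_lit 0))) (.v (nat_lit 2))) (.v (nat_lit 3))) (.v (nat_lit 0))), Tm.sem [z, z⁻¹, x, a, b, c, d, w, v, u, y] (.mul (.mul (.mul (.mul (.mul (.mul (.mul (.mul (.mul (.mul (.mul (.mul (.mul (.v (nat_lit 10)) (.v (nat_lit 3))) (.v (nat_lit 2))) (.v (nat_lit 10))) (.v (nat_lit 8))) (.v (nat_lit 3))) (.v (nat_lit 2))) (.v (nat_lit 10))) (.v (nat_lit 4))) (.v (nat_lit 3))) (.v (nat_lit 9))) (.v (nat_lit 2))) (.v (nat_lit 3))) (.v (nat_lit 0))), Tm.sem [z, z⁻¹, x, a, b, c, d, w, v, u, y] (.mul (.mul (.mul (.mul (.v (nat_lit 9)) (.v (nat_lit 3))) (.v (nat_lit 4))) (.v (nat_lit 2))) (.v (nat_lit 3))), Tm.sem [z, z⁻¹, x, a, b, c, d, w, v, u, y] (.mul (.mul (.mul (.mul (.mul (.mul (.mul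 (.mul (.mul (.mul (.mul (.mul (.mul (.v (nat_lit 4)) (.v (nat_lit 3))) (.v (nat_lit 9))) (.v (nat_lit 2))) (.v (nat_lit 3))) (.v (nat_lit 8))) (.v (nat_lit 1))) (.v (nat_lit 2))) (.v (nat_lit 3))) (.v (nat_lit 9))) (.v (nat_lit 1))) (.v (nat_lit 2))) (.v (nat_lit 3))) (.v (nat_lit 4))), Tm.sem [z, z⁻¹, x, a, b, c, d, w, v, u, y] (.mul (.mul (.mul (.mul (.mul (.mul (.v (nat_lit 10)) (.v (nat_lit 3))) (.v (nat_lit 4))) (.v (nat_lit 2))) (.v (nat_lit 3))) (.v (nat_lit 0))) (.v (nat_lit 2))), Tm.sem [z, z⁻¹, x, a, b, c, d, w, v, u, y] (.mul (.mul (.mul (.mul (.v (nat_lit 9)) (.v (nat_lit 3))) (.v (nat_lit 4))) (.v (nat_lit 2))) (.v (nat_lit 3))), Tm.sem [z, z⁻¹, x, a, b, c, d, w, v, u, y] (.mul (.v (nat_lit 5)) (.v (nat_lit 0))), Tm.sem [z, z⁻¹, x, a, b, c, d, w, v, u, y] (.mul (.v (nat_lit 5)) (.v (nat_lit 1))), Tm.sem [z, z⁻¹, x, a, b, c, d, w, v, u, y] (.v (nat_lit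 6)), Tm.sem [z, z⁻¹, x, a, b, c, d, w, v, u, y] (.mul (.mul (.mul (.mul (.mul (.mul (.mul (.mul (.mul (.mul (.mul (.v (nat_lit 3)) (.v (nat_lit 4))) (.v (nat_lit 2))) (.v (nat_lit 3))) (.v (nat_lit 9))) (.v (nat_lit 1))) (.v (nat_lit 2))) (.v (nat_lit 3))) (.v (nat_lit 8))) (.v (nat_lit 1))) (.v (nat_lit 2))) (.v (nat_lit 3))), Tm.sem [z, z⁻¹, x, a, b, c, d, w, v, u, y] (.mul (.mul (.mul (.mul (.mul (.mul (.mul (.mul (.mul (.mul (.mul (.mul (.v (nat_lit 3)) (.v (nat_lit 9))) (.v (nat_lit 2))) (.v (nat_lit 3))) (.v (nat_lit 8))) (.v (nat_lit 10))) (.v (nat_lit 2))) (.v (nat_lit 3))) (.v (nat_lit 8))) (.v (nat_lit 0))) (.v (nat_lit 2))) (.v (nat_lit 3))) (.v (nat_lit 0))), Tm.sem [z, z⁻¹, x, a, b, c, d, w, v, u, y] (.mul (.mul (.mul (.mul (.mul (.mul (.mul (.mul (.mul (.mul (.mul (.mul (.v (nat_lit 3)) (.v (nat_lit 2))) (.v (nat_lit 10))) (.v (nat_lit 9))) (.v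 (nat_lit 3))) (.v (nat_lit 2))) (.v (nat_lit 10))) (.v (nat_lit 9))) (.v (nat_lit 3))) (.v (nat_lit 4))) (.v (nat_lit 2))) (.v (nat_lit 3))) (.v (nat_lit 0))), Tm.sem [z, z⁻¹, x, a, b, c, d, w, v, u, y] (.mul (.mul (.mul (.mul (.mul (.mul (.mul (.mul (.mul (.mul (.mul (.v (nat_lit 3)) (.v (nat_lit 4))) (.v (nat_lit 2))) (.v (nat_lit 3))) (.v (nat_lit 9))) (.v (nat_lit 1))) (.v (nat_lit 2))) (.v (nat_lit 3))) (.v (nat_lit 4))) (.v (nat_lit 0))) (.v (nat_lit 2))) (.v (nat_lit 3))), ⟨M.μ, M.reps.tms M.μ.1 [(.v (nat_lit 0)), (.v (nat_lit 1)), (.v (nat_lit 2)), (.v (nat_lit 3)), (.v (nat_lit 4)), (.v (nat_lit 5)), (.v (nat_lit 6)), (.v (nat_lit 7)), (.v (nat_lit 8)), (.v (nat_lit 9)), (.v (nat_lit 10)), (.mul (.v (nat_lit 8)) (.v (nat_lit 2))), (.mul (.mul (.mul (.v (nat_lit 9)) (.v (nat_lit 1))) (.v (nat_lit 2))) (.v (nat_lit 0))), (.mul (.mul (.mul (.v (nat_lit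 9)) (.v (nat_lit 0))) (.v (nat_lit 2))) (.v (nat_lit 1))), (.mul (.mul (.mul (.mul (.mul (.mul (.mul (.mul (.mul (.mul (.mul (.mul (.mul (.v (nat_lit 3)) (.v (nat_lit 9))) (.v (nat_lit 0))) (.v (nat_lit 2))) (.v (nat_lit 3))) (.v (nat_lit 8))) (.v (nat_lit 0))) (.v (nat_lit 2))) (.v (nat_lit 3))) (.v (nat_lit 9))) (.v (nat_lit 0))) (.v (nat_lit 2))) (.v (nat_lit 3))) (.v (nat_lit 0))), (.mul (.mul (.mul (.mul (.mul (.mul (.mul (.mul (.mul (.mul (.mul (.mul (.mul (.v (nat_lit 10)) (.v (nat_lit 3))) (.v (nat_lit 2))) (.v (nat_lit 10))) (.v (nat_lit 8))) (.v (nat_lit 3))) (.v (nat_lit 2))) (.v (nat_lit 10))) (.v (nat_lit 4))) (.v (nat_lit 3))) (.v (nat_lit 9))) (.v (nat_lit 2))) (.v (nat_lit 3))) (.v (nat_lit 0))), (.mul (.mul (.mul (.mul (.v (nat_lit 9)) (.v (nat_lit 3))) (.v (nat_lit 4))) (.v (nat_lit 2))) (.v (nat_lit 3))), (.mul (.mul (.mul (.mul (.mul (.mul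 (.mul (.mul (.mul (.mul (.mul (.mul (.mul (.v (nat_lit 4)) (.v (nat_lit 3))) (.v (nat_lit 9))) (.v (nat_lit 2))) (.v (nat_lit 3))) (.v (nat_lit 8))) (.v (nat_lit 1))) (.v (nat_lit 2))) (.v (nat_lit 3))) (.v (nat_lit 9))) (.v (nat_lit 1))) (.v (nat_lit 2))) (.v (nat_lit 3))) (.v (nat_lit 4))), (.mul (.mul (.mul (.mul (.mul (.mul (.v (nat_lit 10)) (.v (nat_lit 3))) (.v (nat_lit 4))) (.v (nat_lit 2))) (.v (nat_lit 3))) (.v (nat_lit 0))) (.v (nat_lit 2))), (.mul (.mul (.mul (.mul (.v (nat_lit 9)) (.v (nat_lit 3))) (.v (nat_lit 4))) (.v (nat_lit 2))) (.v (nat_lit 3))), (.mul (.v (nat_lit 5)) (.v (nat_lit 0))), (.mul (.v (nat_lit 5)) (.v (nat_lit 1))), (.v (nat_lit 6)), (.mul (.mul (.mul (.mul (.mul (.mul (.mul (.mul (.mul (.mul (.mul (.v (nat_lit 3)) (.v (nat_lit 4))) (.v (nat_lit 2))) (.v (nat_lit 3))) (.v (nat_lit 9))) (.v (nat_lit 1))) (.v (nat_lit 2))) (.v (nat_lit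 3))) (.v (nat_lit 8))) (.v (nat_lit 1))) (.v (nat_lit 2))) (.v (nat_lit 3))), (.mul (.mul (.mul (.mul (.mul (.mul (.mul (.mul (.mul (.mul (.mul (.mul (.v (nat_lit 3)) (.v (nat_lit 9))) (.v (nat_lit 2))) (.v (nat_lit 3))) (.v (nat_lit 8))) (.v (nat_lit 10))) (.v (nat_lit 2))) (.v (nat_lit 3))) (.v (nat_lit 8))) (.v (nat_lit 0))) (.v (nat_lit 2))) (.v (nat_lit 3))) (.v (nat_lit 0))), (.mul (.mul (.mul (.mul (.mul (.mul (.mul (.mul (.mul (.mul (.mul (.mul (.v (nat_lit 3)) (.v (nat_lit 2))) (.v (nat_lit 10))) (.v (nat_lit 9))) (.v (nat_lit 3))) (.v (nat_lit 2))) (.v (nat_lit 10))) (.v (nat_lit 9))) (.v (nat_lit 3))) (.v (nat_lit 4))) (.v (nat_lit 2))) (.v (nat_lit 3))) (.v (nat_lit 0))), (.mul (.mul (.mul (.mul (.mul (.mul (.mul (.mul (.mul (.mul (.mul (.v (nat_lit 3)) (.v (nat_lit 4))) (.v (nat_lit 2))) (.v (nat_lit 3))) (.v (nat_lit 9))) (.v (nat_lit 1))) (.v (nat_lit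 2))) (.v (nat_lit 3))) (.v (nat_lit 4))) (.v (nat_lit 0))) (.v (nat_lit 2))) (.v (nat_lit 3)))] (cs' := AY_cs) (by decide +kernel)⟩,
    tms_mem (xs := [z, z⁻¹, x, a, b, c, d, w, v, u, y]) (fun _ => mem_sp) [(.mul (.v (nat_lit 8)) (.v (nat_lit 2))), (.mul (.mul (.mul (.v (nat_lit 9)) (.v (nat_lit 1))) (.v (nat_lit 2))) (.v (nat_lit 0))), (.mul (.mul (.mul (.v (nat_lit 9)) (.v (nat_lit 0))) (.v (nat_lit 2))) (.v (nat_lit 1))), (.mul (.mul (.mul (.mul (.mul (.mul (.mul (.mul (.mul (.mul (.mul (.mul (.mul (.v (nat_lit 3)) (.v (nat_lit 9))) (.v (nat_lit 0))) (.v (nat_lit 2))) (.v (nat_lit 3))) (.v (nat_lit 8))) (.v (nat_lit 0))) (.v (nat_lit 2))) (.v (nat_lit 3))) (.v (nat_lit 9))) (.v (nat_lit 0))) (.v (nat_lit 2))) (.v (nat_lit 3))) (.v (nat_lit 0))), (.mul (.mul (.mul (.mul (.mul (.mul (.mul (.mul (.mul (.mul (.mul (.mul (.mul (.v (nat_lit 10)) (.v (nat_lit 3)))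 (.v (nat_lit 2))) (.v (nat_lit 10))) (.v (nat_lit 8))) (.v (nat_lit 3))) (.v (nat_lit 2))) (.v (nat_lit 10))) (.v (nat_lit 4))) (.v (nat_lit 3))) (.v (nat_lit 9))) (.v (nat_lit 2))) (.v (nat_lit 3))) (.v (nat_lit 0))), (.mul (.mul (.mul (.mul (.v (nat_lit 9)) (.v (nat_lit 3))) (.v (nat_lit 4))) (.v (nat_lit 2))) (.v (nat_lit 3))), (.mul (.mul (.mul (.mul (.mul (.mul (.mul (.mul (.mul (.mul (.mul (.mul (.mul (.v (nat_lit 4)) (.v (nat_lit 3))) (.v (nat_lit 9))) (.v (nat_lit 2))) (.v (nat_lit 3))) (.v (nat_lit 8))) (.v (nat_lit 1))) (.v (nat_lit 2))) (.v (nat_lit 3))) (.v (nat_lit 9))) (.v (nat_lit 1))) (.v (nat_lit 2))) (.v (nat_lit 3))) (.v (nat_lit 4))), (.mul (.mul (.mul (.mul (.mul (.mul (.v (nat_lit 10)) (.v (nat_lit 3))) (.v (nat_lit 4))) (.v (nat_lit 2))) (.v (nat_lit 3))) (.v (nat_lit 0))) (.v (nat_lit 2))), (.mul (.mul (.mul (.mul (.v (nat_lit 9)) (.v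 (nat_lit 3))) (.v (nat_lit 4))) (.v (nat_lit 2))) (.v (nat_lit 3))), (.mul (.v (nat_lit 5)) (.v (nat_lit 0))), (.mul (.v (nat_lit 5)) (.v (nat_lit 1))), (.v (nat_lit 6)), (.mul (.mul (.mul (.mul (.mul (.mul (.mul (.mul (.mul (.mul (.mul (.v (nat_lit 3)) (.v (nat_lit 4))) (.v (nat_lit 2))) (.v (nat_lit 3))) (.v (nat_lit 9))) (.v (nat_lit 1))) (.v (nat_lit 2))) (.v (nat_lit 3))) (.v (nat_lit 8))) (.v (nat_lit 1))) (.v (nat_lit 2))) (.v (nat_lit 3))), (.mul (.mul (.mul (.mul (.mul (.mul (.mul (.mul (.mul (.mul (.mul (.mul (.v (nat_lit 3)) (.v (nat_lit 9))) (.v (nat_lit 2))) (.v (nat_lit 3))) (.v (nat_lit 8))) (.v (nat_lit 10))) (.v (nat_lit 2))) (.v (nat_lit 3))) (.v (nat_lit 8))) (.v (nat_lit 0))) (.v (nat_lit 2))) (.v (nat_lit 3))) (.v (nat_lit 0))), (.mul (.mul (.mul (.mul (.mul (.mul (.mul (.mul (.mul (.mul (.mul (.mul (.v (nat_lit 3)) (.v (nat_lit 2))) (.v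 (nat_lit 10))) (.v (nat_lit 9))) (.v (nat_lit 3))) (.v (nat_lit 2))) (.v (nat_lit 10))) (.v (nat_lit 9))) (.v (nat_lit 3))) (.v (nat_lit 4))) (.v (nat_lit 2))) (.v (nat_lit 3))) (.v (nat_lit 0))), (.mul (.mul (.mul (.mul (.mul (.mul (.mul (.mul (.mul (.mul (.mul (.v (nat_lit 3)) (.v (nat_lit 4))) (.v (nat_lit 2))) (.v (nat_lit 3))) (.v (nat_lit 9))) (.v (nat_lit 1))) (.v (nat_lit 2))) (.v (nat_lit 3))) (.v (nat_lit 4))) (.v (nat_lit 0))) (.v (nat_lit 2))) (.v (nat_lit 3)))]⟩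
noncomputable def AY_Q_f_F : Fm := (.qf (.and (.eq (.mul (.v (nat_lit 11)) (.v (nat_lit 11))) .one) (.and (.eq (.mul (.v (nat_lit 12)) (.v (nat_lit 12))) .one) (.and (.eq (.mul (.v (nat_lit 13)) (.v (nat_lit 13))) .one) (.and (.eq (.mul (.v (nat_lit 14)) (.v (nat_lit 14))) .one) (.and (.eq (.mul (.v (nat_lit 15)) (.v (nat_lit 15))) .one) (.and (.eq (.pw (.v (nat_lit 16)) (nat_lit 3)) .one) (.and (.eq (.mul (.mul (.v (nat_lit 16)) (.v (nat_lit 12))) (.inv (.v (nat_lit 16)))) (.v (nat_lit 14))) (.and (.eq (.mul (.mul (.v (nat_lit 16)) (.v (nat_lit 13))) (.inv (.v (nat_lit 16)))) (.v (nat_lit 15))) (.and (.eq (.pw (.mul (.v (nat_lit 12)) (.v (nat_lit 16))) (nat_lit 3)) .one) (.and (.eq (.pw (.mul (.v (nat_lit 13)) (.v (nat_lit 16))) (nat_lit 3)) .one) (.and (.eq (.mul (.v (nat_lit 12)) (.v (nat_lit 13))) (.mul (.v (nat_lit 13)) (.v (nat_lit 12)))) (.and (.eq (.mul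 (.mul (.mul (.v (nat_lit 12)) (.v (nat_lit 15))) (.inv (.v (nat_lit 12)))) (.inv (.v (nat_lit 15)))) (.v (nat_lit 11))) (.and (.eq (.mul (.v (nat_lit 11)) (.v (nat_lit 16))) (.mul (.v (nat_lit 16)) (.v (nat_lit 11)))) (.and (.eq (.mul (.v (nat_lit 11)) (.v (nat_lit 12))) (.mul (.v (nat_lit 12)) (.v (nat_lit 11)))) (.eq (.mul (.v (nat_lit 11)) (.v (nat_lit 13))) (.mul (.v (nat_lit 13)) (.v (nat_lit 11)))))))))))))))))))
theorem AY_Q_f_chk : Fm.chk A8_o AY_Q_f_F AY_cs = true := by decide +kernel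
theorem AY_Q_f {G : Type*} [Group G] {R : ℕ → G → Prop} {z x a b c d w v u y s U V A B X r k l f g q q1 q2 q3 n : G}
    (M : Md0 A8_o AY_cs R [z, z⁻¹, x, a, b, c, d, w, v, u, y, s, U, V, A, B, X, r, k, l, f, g, q, q1, q2, q3, n]) :
    s * s = 1 ∧ U * U = 1 ∧ V * V = 1 ∧ A * A = 1 ∧ B * B = 1 ∧ X ^ 3 = 1 ∧ X * U * X⁻¹ = A ∧ X * V * X⁻¹ = B ∧ (U * X) ^ 3 = 1 ∧ (V * X) ^ 3 = 1 ∧ U * V = V * U ∧ ⁅U, B⁆ = s ∧ s * X = X * s ∧ s * U = U * s ∧ s * V = V * s :=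
  Fm.sound M.μ AY_Q_f_F AY_Q_f_chk M.reps
theorem AY_Q {G : Type*} [Group G] {R : ℕ → G → Prop} {z x a b c d w v u y s U V A B X r k l f g q q1 q2 q3 n : G}
    (M : Md0 A8_o AY_cs R [z, z⁻¹, x, a, b, c, d, w, v, u, y, s, U, V, A, B, X, r, k, l, f, g, q, q1, q2, q3, n]) :
    Q3 s U V A B X :=
  have h := AY_Q_f M
  ⟨h.1, h.2.1, h.2.2.1, h.2.2.2.1, h.2.2.2.2.1, h.2.2.2.2.2.1, h.2.2.2.2.2.2.1, h.2.2.2.2.2.2.2.1, h.2.2.2.2.2.2.2.2.1, h.2.2.2.2.2.2.2.2.2.1, h.2.2.2.2.2.2.2.2.2.2.1, h.2.2.2.2.2.2.2.2.2.2.2.1, h.2.2.2.2.2.2.2.2.2.2.2.2.1, h.2.2.2.2.2.2.2.2.2.2.2.2.2.1, h.2.2.2.2.2.2.2.2.2.2.2.2.2.2, trivial⟩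
noncomputable def AY_R_f_F : Fm := (.qf (.and (.eq (.mul (.v (nat_lit 9)) (.v (nat_lit 9))) .one) (.and (.eq (.mul (.mul (.v (nat_lit 9)) (.v (nat_lit 16))) (.inv (.v (nat_lit 9)))) (.inv (.v (nat_lit 16)))) (.and (.eq (.mul (.v (nat_lit 9)) (.v (nat_lit 12))) (.mul (.v (nat_lit 12)) (.v (nat_lit 9)))) (.and (.eq (.mul (.mul (.v (nat_lit 9)) (.v (nat_lit 13))) (.inv (.v (nat_lit 9)))) (.v (nat_lit 13))) (.eq (.mul (.v (nat_lit 9)) (.v (nat_lit 11))) (.mul (.v (nat_lit 11)) (.v (nat_lit 9)))))))))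
theorem AY_R_f_chk : Fm.chk A8_o AY_R_f_F AY_cs = true := by decide +kernel
theorem AY_R_f {G : Type*} [Group G] {R : ℕ → G → Prop} {z x a b c d w v u y s U V A B X r k l f g q q1 q2 q3 n : G}
    (M : Md0 A8_o AY_cs R [z, z⁻¹, x, a, b, c, d, w, v, u, y, s, U, V, A, B, X, r, k, l, f, g, q, q1, q2, q3, n]) :
    u * u = 1 ∧ u * X * u⁻¹ = X⁻¹ ∧ u * U = U * u ∧ u * V * u⁻¹ = V ∧ u * s = s * u :=
  Fm.sound M.μ AY_R_f_F AY_R_f_chk M.reps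
theorem AY_R {G : Type*} [Group G] {R : ℕ → G → Prop} {z x a b c d w v u y s U V A B X r k l f g q q1 q2 q3 n : G}
    (M : Md0 A8_o AY_cs R [z, z⁻¹, x, a, b, c, d, w, v, u, y, s, U, V, A, B, X, r, k, l, f, g, q, q1, q2, q3, n]) :
    RA s U V u X :=
  have h := AY_R_f M
  ⟨h.1, h.2.1, h.2.2.1, h.2.2.2.1, h.2.2.2.2, trivial⟩
noncomputable def AY_lCV : List ℕ := [(nat_lit 0xfac688), (nat_lit 0xde5688), (nat_lit 0xb3e688), (nat_lit 0xfac4c1), (nat_lit 0xfac611), (nat_lit 0x977688), (nat_lit 0xde54c1), (nat_lit 0xde5611), (nat_lit 0xb3e4c1), (nat_lit 0xb3e611), (nat_lit 0xfac0ca), (nat_lit 0xfac458), (nat_lit 0xfac642), (nat_lit 0x9774c1), (nat_lit 0x977611), (nat_lit 0xde50ca), (nat_lit 0xde5458), (nat_lit 0xde5642), (nat_lit 0xb3e0ca), (nat_lit 0xb3e458), (nat_lit 0xb3e642), (nat_lit 0xfac283), (nat_lit 0xfac2d0), (nat_lit 0xfac099), (nat_lit 0xfac40b), (nat_lit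 0x9770ca), (nat_lit 0x977458), (nat_lit 0x977642), (nat_lit 0xde5283), (nat_lit 0xde52d0), (nat_lit 0xde5099), (nat_lit 0xde540b), (nat_lit 0xb3e283), (nat_lit 0xb3e2d0), (nat_lit 0xb3e099), (nat_lit 0xb3e40b), (nat_lit 0xfac21a), (nat_lit 0xfac053), (nat_lit 0x977283), (nat_lit 0x9772d0), (nat_lit 0x977099), (nat_lit 0x97740b), (nat_lit 0xde521a), (nat_lit 0xde5053), (nat_lit 0xb3e21a), (nat_lit 0xb3e053), (nat_lit 0x97721a), (nat_lit 0x977053)]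
noncomputable def AY_lCV_W : List (List ℕ) := [[],
  [(nat_lit 0)],
  [(nat_lit 1)],
  [(nat_lit 2)],
  [(nat_lit 3)],
  [(nat_lit 0), (nat_lit 1)],
  [(nat_lit 0), (nat_lit 2)],
  [(nat_lit 0), (nat_lit 3)],
  [(nat_lit 1), (nat_lit 2)],
  [(nat_lit 1), (nat_lit 3)],
  [(nat_lit 2), (nat_lit 3)],
  [(nat_lit 3), (nat_lit 2)],
  [(nat_lit 3), (nat_lit 3)],
  [(nat_lit 0), (nat_lit 1), (nat_lit 2)],
  [(nat_lit 0), (nat_lit 1), (nat_lit 3)],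
  [(nat_lit 0), (nat_lit 2), (nat_lit 3)],
  [(nat_lit 0), (nat_lit 3), (nat_lit 2)],
  [(nat_lit 0), (nat_lit 3), (nat_lit 3)],
  [(nat_lit 1), (nat_lit 2), (nat_lit 3)],
  [(nat_lit 1), (nat_lit 3), (nat_lit 2)],
  [(nat_lit 1), (nat_lit 3), (nat_lit 3)],
  [(nat_lit 2), (nat_lit 3), (nat_lit 2)],
  [(nat_lit 2), (nat_lit 3), (nat_lit 3)],
  [(nat_lit 3), (nat_lit 2), (nat_lit 3)],
  [(nat_lit 3), (nat_lit 3), (nat_lit 2)],
  [(nat_lit 0), (nat_lit 1), (nat_lit 2), (nat_lit 3)],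
  [(nat_lit 0), (nat_lit 1), (nat_lit 3), (nat_lit 2)],
  [(nat_lit 0), (nat_lit 1), (nat_lit 3), (nat_lit 3)],
  [(nat_lit 0), (nat_lit 2), (nat_lit 3), (nat_lit 2)],
  [(nat_lit 0), (nat_lit 2), (nat_lit 3), (nat_lit 3)],
  [(nat_lit 0), (nat_lit 3), (nat_lit 2), (nat_lit 3)],
  [(nat_lit 0), (nat_lit 3), (nat_lit 3), (nat_lit 2)],
  [(nat_lit 1), (nat_lit 2), (nat_lit 3), (nat_lit 2)],
  [(nat_lit 1), (nat_lit 2), (nat_lit 3), (nat_lit 3)],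
  [(nat_lit 1), (nat_lit 3), (nat_lit 2), (nat_lit 3)],
  [(nat_lit 1), (nat_lit 3), (nat_lit 3), (nat_lit 2)],
  [(nat_lit 3), (nat_lit 2), (nat_lit 3), (nat_lit 3)],
  [(nat_lit 3), (nat_lit 3), (nat_lit 2), (nat_lit 3)],
  [(nat_lit 0), (nat_lit 1), (nat_lit 2), (nat_lit 3), (nat_lit 2)],
  [(nat_lit 0), (nat_lit 1), (nat_lit 2), (nat_lit 3), (nat_lit 3)],
  [(nat_lit 0), (nat_lit 1), (nat_lit 3), (nat_lit 2), (nat_lit 3)],
  [(nat_lit 0), (nat_lit 1), (nat_lit 3), (nat_lit 3), (nat_lit 2)],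
  [(nat_lit 0), (nat_lit 3), (nat_lit 2), (nat_lit 3), (nat_lit 3)],
  [(nat_lit 0), (nat_lit 3), (nat_lit 3), (nat_lit 2), (nat_lit 3)],
  [(nat_lit 1), (nat_lit 3), (nat_lit 2), (nat_lit 3), (nat_lit 3)],
  [(nat_lit 1), (nat_lit 3), (nat_lit 3), (nat_lit 2), (nat_lit 3)],
  [(nat_lit 0), (nat_lit 1), (nat_lit 3), (nat_lit 2), (nat_lit 3), (nat_lit 3)],
  [(nat_lit 0), (nat_lit 1), (nat_lit 3), (nat_lit 3), (nat_lit 2), (nat_lit 3)]]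
noncomputable def AY_lCV_h (c : ℕ) : ℕ := Nat.mod c (nat_lit 164)
theorem AY_lCV_E {G : Type*} [Group G] {R : ℕ → G → Prop} {z x a b c d w v u y s U V A B X r k l f g q q1 q2 q3 n : G}
    (M : Md0 A8_o AY_cs R [z, z⁻¹, x, a, b, c, d, w, v, u, y, s, U, V, A, B, X, r, k, l, f, g, q, q1, q2, q3, n]) :
    EnumS R AY_lCV (sp [v, u, x, z]) :=
  enumS_sp M.μ.1 (M.reps.tms M.μ.1 [(.v (nat_lit 8)), (.v (nat_lit 9)), (.v (nat_lit 2)), (.v (nat_lit 0))] (cs' := [(nat_lit 0xde5688), (nat_lit 0xb3e688), (nat_lit 0xfac4c1), (nat_lit 0xfac611)]) (by decide +kernel))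
    (Ws := AY_lCV_W) (by decide +kernel) (by decide +kernel)
theorem AY_lCV_c {G : Type*} [Group G] {R : ℕ → G → Prop} {z x a b c d w v u y s U V A B X r k l f g q q1 q2 q3 n : G}
    (M : Md0 A8_o AY_cs R [z, z⁻¹, x, a, b, c, d, w, v, u, y, s, U, V, A, B, X, r, k, l, f, g, q, q1, q2, q3, n]) :
    #(sp [v, u, x, z]) = 48 :=
  (AY_lCV_E M).card M.μ (h := AY_lCV_h) (by decide +kernel)
noncomputable def AY_lS : List ℕ := [(nat_lit 0xfac688), (nat_lit 0xde54c1), (nat_lit 0xb3e21a), (nat_lit 0xb3e053), (nat_lit 0x21ab3e), (nat_lit 371511), (nat_lit 0xb3e688), (nat_lit 0x977053), (nat_lit 0x97721a), (nat_lit 342391), (nat_lit 0x21397e), (nat_lit 0x9774c1), (nat_lit 0xfac4c1), (nat_lit 0x688fac), (nat_lit 0x681dec), (nat_lit 0xfac21a), (nat_lit 0x688de5), (nat_lit 0x681fa5), (nat_lit 0xfac053), (nat_lit 0x4c1fac), (nat_lit 0xdec681), (nat_lit 0x21afac), (nat_lit 0x4c8fa5),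 (nat_lit 372645), (nat_lit 0x688b3e), (nat_lit 0x681b37), (nat_lit 0xde5688), (nat_lit 0x4c1de5), (nat_lit 0xde5053), (nat_lit 0x4c8dec), (nat_lit 0xde521a), (nat_lit 0xfa54c8), (nat_lit 343525), (nat_lit 0x213dec), (nat_lit 0x4c1977), (nat_lit 0x4c897e), (nat_lit 0x21a977), (nat_lit 371070), (nat_lit 0xb3e4c1), (nat_lit 342846), (nat_lit 0xb3705a), (nat_lit 0x68197e), (nat_lit 372204), (nat_lit 0xb37213), (nat_lit 0x688977), (nat_lit 0x213b37), (nat_lit 0x21ade5), (nat_lit 0x97e05a), (nat_lit 0x4c1b3e), (nat_lit 0x97e213), (nat_lit 0x97e681), (nat_lit 0xdec05a), (nat_lit 0x4c8b37), (nat_lit 0xdec213), (nat_lit 343980), (nat_lit 0xb37681), (nat_lit 0x213fa5), (nat_lit 0x977688), (nat_lit 0xb374c8), (nat_lit 0xfa5213), (nat_lit 0xfa505a), (nat_lit 0x97e4c8), (nat_lit 0xdec4c8), (nat_lit 0xfa5681)]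
noncomputable def AY_lS_W : List (List ℕ) := [[],
  [(nat_lit 0)],
  [(nat_lit 1)],
  [(nat_lit 2)],
  [(nat_lit 3)],
  [(nat_lit 4)],
  [(nat_lit 5)],
  [(nat_lit 0), (nat_lit 1)],
  [(nat_lit 0), (nat_lit 2)],
  [(nat_lit 0), (nat_lit 3)],
  [(nat_lit 0), (nat_lit 4)],
  [(nat_lit 0), (nat_lit 5)],
  [(nat_lit 1), (nat_lit 2)],
  [(nat_lit 1), (nat_lit 3)],
  [(nat_lit 1), (nat_lit 4)],
  [(nat_lit 1), (nat_lit 5)],
  [(nat_lit 2), (nat_lit 3)],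
  [(nat_lit 2), (nat_lit 4)],
  [(nat_lit 2), (nat_lit 5)],
  [(nat_lit 3), (nat_lit 2)],
  [(nat_lit 3), (nat_lit 4)],
  [(nat_lit 3), (nat_lit 5)],
  [(nat_lit 4), (nat_lit 1)],
  [(nat_lit 4), (nat_lit 5)],
  [(nat_lit 5), (nat_lit 3)],
  [(nat_lit 5), (nat_lit 4)],
  [(nat_lit 0), (nat_lit 1), (nat_lit 2)],
  [(nat_lit 0), (nat_lit 1), (nat_lit 3)],
  [(nat_lit 0), (nat_lit 1), (nat_lit 5)],
  [(nat_lit 0), (nat_lit 2), (nat_lit 4)],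
  [(nat_lit 0), (nat_lit 2), (nat_lit 5)],
  [(nat_lit 0), (nat_lit 3), (nat_lit 4)],
  [(nat_lit 0), (nat_lit 3), (nat_lit 5)],
  [(nat_lit 0), (nat_lit 4), (nat_lit 5)],
  [(nat_lit 0), (nat_lit 5), (nat_lit 3)],
  [(nat_lit 0), (nat_lit 5), (nat_lit 4)],
  [(nat_lit 1), (nat_lit 2), (nat_lit 3)],
  [(nat_lit 1), (nat_lit 2), (nat_lit 4)],
  [(nat_lit 1), (nat_lit 2), (nat_lit 5)],
  [(nat_lit 1), (nat_lit 3), (nat_lit 2)],
  [(nat_lit 1), (nat_lit 3), (nat_lit 4)],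
  [(nat_lit 1), (nat_lit 4), (nat_lit 5)],
  [(nat_lit 1), (nat_lit 5), (nat_lit 4)],
  [(nat_lit 2), (nat_lit 3), (nat_lit 4)],
  [(nat_lit 2), (nat_lit 3), (nat_lit 5)],
  [(nat_lit 2), (nat_lit 4), (nat_lit 1)],
  [(nat_lit 2), (nat_lit 5), (nat_lit 3)],
  [(nat_lit 3), (nat_lit 2), (nat_lit 4)],
  [(nat_lit 3), (nat_lit 2), (nat_lit 5)],
  [(nat_lit 3), (nat_lit 4), (nat_lit 1)],
  [(nat_lit 3), (nat_lit 4), (nat_lit 5)],
  [(nat_lit 3), (nat_lit 5), (nat_lit 4)],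
  [(nat_lit 4), (nat_lit 1), (nat_lit 5)],
  [(nat_lit 4), (nat_lit 5), (nat_lit 3)],
  [(nat_lit 5), (nat_lit 3), (nat_lit 2)],
  [(nat_lit 5), (nat_lit 3), (nat_lit 4)],
  [(nat_lit 5), (nat_lit 4), (nat_lit 1)],
  [(nat_lit 0), (nat_lit 1), (nat_lit 2), (nat_lit 5)],
  [(nat_lit 0), (nat_lit 3), (nat_lit 4), (nat_lit 5)],
  [(nat_lit 0), (nat_lit 3), (nat_lit 5), (nat_lit 4)],
  [(nat_lit 0), (nat_lit 4), (nat_lit 5), (nat_lit 3)],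
  [(nat_lit 0), (nat_lit 5), (nat_lit 3), (nat_lit 4)],
  [(nat_lit 1), (nat_lit 2), (nat_lit 3), (nat_lit 4)],
  [(nat_lit 1), (nat_lit 3), (nat_lit 2), (nat_lit 4)]]
noncomputable def AY_lS_h (c : ℕ) : ℕ := Nat.mod c (nat_lit 197)
theorem AY_lS_E {G : Type*} [Group G] {R : ℕ → G → Prop} {z x a b c d w v u y s U V A B X r k l f g q q1 q2 q3 n : G}
    (M : Md0 A8_o AY_cs R [z, z⁻¹, x, a, b, c, d, w, v, u, y, s, U, V, A, B, X, r, k, l, f, g, q, q1, q2, q3, n]) :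
    EnumS R AY_lS (sp [s, U, V, A, B, u]) :=
  enumS_sp M.μ.1 (M.reps.tms M.μ.1 [(.v (nat_lit 11)), (.v (nat_lit 12)), (.v (nat_lit 13)), (.v (nat_lit 14)), (.v (nat_lit 15)), (.v (nat_lit 9))] (cs' := [(nat_lit 0xde54c1), (nat_lit 0xb3e21a), (nat_lit 0xb3e053), (nat_lit 0x21ab3e), (nat_lit 371511), (nat_lit 0xb3e688)]) (by decide +kernel))
    (Ws := AY_lS_W) (by decide +kernel) (by decide +kernel)
theorem AY_lS_c {G : Type*} [Group G] {R : ℕ → G → Prop} {z x a b c d w v u y s U V A B X r k l f g q q1 q2 q3 n : G}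
    (M : Md0 A8_o AY_cs R [z, z⁻¹, x, a, b, c, d, w, v, u, y, s, U, V, A, B, X, r, k, l, f, g, q, q1, q2, q3, n]) :
    #(sp [s, U, V, A, B, u]) = 64 :=
  (AY_lS_E M).card M.μ (h := AY_lS_h) (by decide +kernel)
noncomputable def AY_lN : List ℕ := [(nat_lit 0xfac688), (nat_lit 0xde5688), (nat_lit 0xb3e688), (nat_lit 0xfac4c1), (nat_lit 0xfac611), (nat_lit 0xfa5681), (nat_lit 0x688fac), (nat_lit 0x977688), (nat_lit 0xde54c1), (nat_lit 0xde5611), (nat_lit 0xdec681), (nat_lit 0x4c1fac), (nat_lit 0xb3e4c1), (nat_lit 0xb3e611), (nat_lit 0x97e681), (nat_lit 0x21afac), (nat_lit 0xfac0ca), (nat_lit 0xfa54c8), (nat_lit 0x688de5), (nat_lit 0xfac458), (nat_lit 0xfac642), (nat_lit 0xfa5650), (nat_lit 0x688f35), (nat_lit 0xb37681), (nat_lit 0xfa560a), (nat_lit 0x681fa5), (nat_lit 0x688b3e), (nat_lit 0x611fac), (nat_lit 0x9774c1), (nat_lit 0x977611), (nat_lit 343980), (nat_lit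 0xde50ca), (nat_lit 0xdec4c8), (nat_lit 0x4c1de5), (nat_lit 0xde5458), (nat_lit 0xde5642), (nat_lit 0xdec650), (nat_lit 0x4c1f35), (nat_lit 0xdec60a), (nat_lit 0x4c8fa5), (nat_lit 0x4c1b3e), (nat_lit 831404), (nat_lit 0xb3e0ca), (nat_lit 0x97e4c8), (nat_lit 0x21ade5), (nat_lit 0xb3e458), (nat_lit 0xb3e642), (nat_lit 0x97e650), (nat_lit 0x21af35), (nat_lit 0x97e60a), (nat_lit 372645), (nat_lit 0x21ab3e), (nat_lit 0x458fac), (nat_lit 0xfac283), (nat_lit 0xfac2d0), (nat_lit 0xfa52c2), (nat_lit 0x6889ee), (nat_lit 0xb374c8), (nat_lit 0xfa50d1), (nat_lit 0x681dec), (nat_lit 0x688977), (nat_lit 0x611de5), (nat_lit 0xfac099), (nat_lit 0xfa5419), (nat_lit 0x688d7c), (nat_lit 0xfac40b), (nat_lit 0x688f66), (nat_lit 0xb37650), (nat_lit 0x681f74), (nat_lit 0x688ba7), (nat_lit 0x611f35), (nat_lit 0xb3760a), (nat_lit 0x213fa5), (nat_lit 0xfa5443), (nat_lit 0x681f2e), (nat_lit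 0x681b37), (nat_lit 0x60afa5), (nat_lit 0x611b3e), (nat_lit 0x68197e), (nat_lit 0xfac21a), (nat_lit 0x642fac), (nat_lit 0x650fa5), (nat_lit 0xf35688), (nat_lit 0x9770ca), (nat_lit 343525), (nat_lit 0x977458), (nat_lit 0x977642), (nat_lit 343861), (nat_lit 342846), (nat_lit 0x283fac), (nat_lit 0xde5283), (nat_lit 0xde52d0), (nat_lit 0xdec2c2), (nat_lit 0x4c19ee), (nat_lit 0xdec0d1), (nat_lit 0x4c8dec), (nat_lit 0x4c1977), (nat_lit 830949), (nat_lit 0xde5099), (nat_lit 0xdec419), (nat_lit 0x4c1d7c), (nat_lit 0xde540b), (nat_lit 0x4c1f66), (nat_lit 0x4c8f74), (nat_lit 0x4c1ba7), (nat_lit 831285), (nat_lit 0xdec443), (nat_lit 0x4c8f2e), (nat_lit 0x4c8b37), (nat_lit 860069), (nat_lit 830270), (nat_lit 0x4c897e), (nat_lit 0xde521a), (nat_lit 0x2d0fac), (nat_lit 0x2c2fa5), (nat_lit 0x9ee688), (nat_lit 0xb3e283), (nat_lit 0xb3e2d0), (nat_lit 0x97e2c2), (nat_lit 0x21a9ee),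 (nat_lit 0x97e0d1), (nat_lit 372204), (nat_lit 0x21a977), (nat_lit 0x458de5), (nat_lit 0xb3e099), (nat_lit 0x97e419), (nat_lit 0x21ad7c), (nat_lit 0xb3e40b), (nat_lit 0x21af66), (nat_lit 372596), (nat_lit 0x21aba7), (nat_lit 0x458f35), (nat_lit 0x97e443), (nat_lit 372526), (nat_lit 371511), (nat_lit 0x298fa5), (nat_lit 0x458b3e), (nat_lit 371070), (nat_lit 0xb3e21a), (nat_lit 630700), (nat_lit 0x419fa5), (nat_lit 0xd7c688), (nat_lit 0xfa508b), (nat_lit 0x688bf4), (nat_lit 0xb372c2), (nat_lit 0x681be6), (nat_lit 0x6119ee), (nat_lit 0xb370d1), (nat_lit 0x213dec), (nat_lit 0xfa5298), (nat_lit 0x6819f5), (nat_lit 0x60adec), (nat_lit 0x611977), (nat_lit 0xfac053), (nat_lit 0x642de5), (nat_lit 0x650dec), (nat_lit 0xf354c1), (nat_lit 0x6889bd), (nat_lit 0xb37419), (nat_lit 0xfa505a), (nat_lit 0x681d3d), (nat_lit 0x611d7c), (nat_lit 0x688d2f), (nat_lit 0x611f66), (nat_lit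 0x213f74), (nat_lit 0x60af74), (nat_lit 0x611ba7), (nat_lit 0x6819af), (nat_lit 0x642f35), (nat_lit 0x650f74), (nat_lit 0xf35611), (nat_lit 0xb37443), (nat_lit 0x213f2e), (nat_lit 0x213b37), (nat_lit 0x443fa5), (nat_lit 0x681d67), (nat_lit 0x681bbc), (nat_lit 0x60af2e), (nat_lit 0x60ab37), (nat_lit 0xfa5213), (nat_lit 0xf2e681), (nat_lit 0x642b3e), (nat_lit 0x65097e), (nat_lit 0xf3521a), (nat_lit 0x60a97e), (nat_lit 0x40bfac), (nat_lit 0xf66688), (nat_lit 0x650b37), (nat_lit 0xf74681), (nat_lit 0xba7688), (nat_lit 0x977283), (nat_lit 0x9772d0), (nat_lit 342510), (nat_lit 342391), (nat_lit 0x283de5), (nat_lit 0x977099), (nat_lit 343420), (nat_lit 0x97740b), (nat_lit 343910), (nat_lit 342951), (nat_lit 0x283f35), (nat_lit 0x283b3e), (nat_lit 0x21397e), (nat_lit 0x97721a), (nat_lit 573349), (nat_lit 0xdec08b), (nat_lit 0x4c1bf4), (nat_lit 0x4c8be6), (nat_lit 829934),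 (nat_lit 0xdec298), (nat_lit 0x4c89f5), (nat_lit 859628), (nat_lit 829815), (nat_lit 0xde5053), (nat_lit 0x2d0de5), (nat_lit 0x2c2dec), (nat_lit 0x9ee4c1), (nat_lit 0x4c19bd), (nat_lit 0xdec05a), (nat_lit 0x4c8d3d), (nat_lit 830844), (nat_lit 0x4c1d2f), (nat_lit 831334), (nat_lit 860020), (nat_lit 830375), (nat_lit 0x4c89af), (nat_lit 0x2d0f35), (nat_lit 0x2c2f74), (nat_lit 0x9ee611), (nat_lit 0x4c8d67), (nat_lit 0x4c8bbc), (nat_lit 859950), (nat_lit 858935), (nat_lit 0xdec213), (nat_lit 0x9f5681), (nat_lit 0x2d0b3e), (nat_lit 0x2c297e), (nat_lit 0x9ee21a), (nat_lit 858494), (nat_lit 0xbf4688), (nat_lit 0x2c2b37), (nat_lit 0xbe6681), (nat_lit 0x97e08b), (nat_lit 0x21abf4), (nat_lit 371686), (nat_lit 0x4589ee), (nat_lit 0x97e298), (nat_lit 371189), (nat_lit 0x298dec), (nat_lit 0x458977), (nat_lit 0xb3e053), (nat_lit 630245), (nat_lit 0x419dec), (nat_lit 0xd7c4c1),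 (nat_lit 0x21a9bd), (nat_lit 0x97e05a), (nat_lit 372029), (nat_lit 0x458d7c), (nat_lit 0x21ad2f), (nat_lit 0x458f66), (nat_lit 0x298f74), (nat_lit 0x458ba7), (nat_lit 371119), (nat_lit 630581), (nat_lit 0x419f74), (nat_lit 0xd7c611), (nat_lit 372071), (nat_lit 371644), (nat_lit 0x298f2e), (nat_lit 0x298b37), (nat_lit 0x97e213), (nat_lit 0xbbc681), (nat_lit 629566), (nat_lit 0x41997e), (nat_lit 0xd7c21a), (nat_lit 0x29897e), (nat_lit 0x9bd688), (nat_lit 0x419b37), (nat_lit 0xd3d681), (nat_lit 0xb3708b), (nat_lit 0x611bf4), (nat_lit 0x213be6), (nat_lit 0x60abe6), (nat_lit 0x6429ee), (nat_lit 0x650be6), (nat_lit 0xf350ca), (nat_lit 0xb37298), (nat_lit 0x2139f5), (nat_lit 0x443dec), (nat_lit 0x60a9f5), (nat_lit 0xf2e4c8), (nat_lit 0x642977), (nat_lit 0xf35053), (nat_lit 0x40bde5), (nat_lit 0xf664c1), (nat_lit 0xf744c8), (nat_lit 0xba74c1), (nat_lit 0x6119bd), (nat_lit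 0xb3705a), (nat_lit 0x213d3d), (nat_lit 0x60ad3d), (nat_lit 0x642d7c), (nat_lit 0x650d3d), (nat_lit 0xf35458), (nat_lit 0x611d2f), (nat_lit 0x642f66), (nat_lit 0x650f2e), (nat_lit 0xf35642), (nat_lit 0x443f74), (nat_lit 0xf2e650), (nat_lit 0x642ba7), (nat_lit 0x6509af), (nat_lit 0xf35283), (nat_lit 0x60a9af), (nat_lit 0x40bf35), (nat_lit 0xf66611), (nat_lit 0xf74650), (nat_lit 0xba7611), (nat_lit 0x213d67), (nat_lit 0x213bbc), (nat_lit 0x443f2e), (nat_lit 0x443b37), (nat_lit 0xb37213), (nat_lit 0xd67681), (nat_lit 0x60ad67), (nat_lit 0x60abbc), (nat_lit 0xf2e60a), (nat_lit 0xf2e213), (nat_lit 0x40bb3e), (nat_lit 0xf6621a), (nat_lit 0xf7405a), (nat_lit 0xba721a), (nat_lit 0x44397e), (nat_lit 0xf2e05a), (nat_lit 0xd2f688), (nat_lit 0xf74213), (nat_lit 0xf7460a), (nat_lit 0x9af681), (nat_lit 343028), (nat_lit 0x2839ee), (nat_lit 0x283977), (nat_lit 0x977053), (nat_lit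 572908), (nat_lit 342461), (nat_lit 0x283d7c), (nat_lit 343343), (nat_lit 0x283f66), (nat_lit 0x283ba7), (nat_lit 0x2139af), (nat_lit 573300), (nat_lit 571774), (nat_lit 572215), (nat_lit 830452), (nat_lit 859110), (nat_lit 0x2d09ee), (nat_lit 0x2c2be6), (nat_lit 0x9ee0ca), (nat_lit 858613), (nat_lit 0x9f54c8), (nat_lit 0x2d0977), (nat_lit 0x9ee053), (nat_lit 0xbf44c1), (nat_lit 0xbe64c8), (nat_lit 829885), (nat_lit 859453), (nat_lit 0x2d0d7c), (nat_lit 0x2c2d3d), (nat_lit 0x9ee458), (nat_lit 830767), (nat_lit 0x2d0f66), (nat_lit 0x2c2f2e), (nat_lit 0x9ee642), (nat_lit 0x9f5650), (nat_lit 0x2d0ba7), (nat_lit 0x2c29af), (nat_lit 0x9ee283), (nat_lit 858543), (nat_lit 0xbf4611), (nat_lit 0xbe6650), (nat_lit 859495), (nat_lit 859068), (nat_lit 0x9f560a), (nat_lit 0x9f5213), (nat_lit 0xbf421a), (nat_lit 0xbe605a), (nat_lit 0x9f505a), (nat_lit 0xbe6213), (nat_lit 0xbe660a),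 (nat_lit 0x458bf4), (nat_lit 0x298be6), (nat_lit 629230), (nat_lit 0x419be6), (nat_lit 0xd7c0ca), (nat_lit 0x2989f5), (nat_lit 0xbbc4c8), (nat_lit 629111), (nat_lit 0xd7c053), (nat_lit 0x9bd4c1), (nat_lit 0xd3d4c8), (nat_lit 0x4589bd), (nat_lit 0x298d3d), (nat_lit 630140), (nat_lit 0x419d3d), (nat_lit 0xd7c458), (nat_lit 0x458d2f), (nat_lit 630630), (nat_lit 0x419f2e), (nat_lit 0xd7c642), (nat_lit 0xbbc650), (nat_lit 629671), (nat_lit 0x4199af), (nat_lit 0xd7c283), (nat_lit 0x2989af), (nat_lit 0x9bd611), (nat_lit 0xd3d650), (nat_lit 0x298d67), (nat_lit 0x298bbc), (nat_lit 0xbbc60a), (nat_lit 0xbbc213), (nat_lit 0x9bd21a), (nat_lit 0xd3d05a), (nat_lit 0xbbc05a), (nat_lit 0xd3d213), (nat_lit 0xd3d60a), (nat_lit 0x642bf4), (nat_lit 0x6509f5), (nat_lit 0xf352d0), (nat_lit 0x443be6), (nat_lit 0xf2e2c2), (nat_lit 0x40b9ee), (nat_lit 0xf660ca), (nat_lit 0xf742c2), (nat_lit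 0xba70ca), (nat_lit 0x4439f5), (nat_lit 0xd674c8), (nat_lit 0xf2e0d1), (nat_lit 0x40b977), (nat_lit 0xf66053), (nat_lit 0xba7053), (nat_lit 0xd2f4c1), (nat_lit 0xf740d1), (nat_lit 0x9af4c8), (nat_lit 0x6429bd), (nat_lit 0x650bbc), (nat_lit 0xf35099), (nat_lit 0x443d3d), (nat_lit 0xf2e419), (nat_lit 0x40bd7c), (nat_lit 0xf66458), (nat_lit 0xf74419), (nat_lit 0xba7458), (nat_lit 0x642d2f), (nat_lit 0x650d67), (nat_lit 0xf3540b), (nat_lit 0x40bf66), (nat_lit 0xf66642), (nat_lit 0xba7642), (nat_lit 0xd67650), (nat_lit 0x40bba7), (nat_lit 0xf66283), (nat_lit 0xf7408b), (nat_lit 0xba7283), (nat_lit 0x4439af), (nat_lit 0xf2e08b), (nat_lit 0xd2f611), (nat_lit 0x9af650), (nat_lit 0x443d67), (nat_lit 0x443bbc), (nat_lit 573230), (nat_lit 0xd6760a), (nat_lit 0xd67213), (nat_lit 0xf2e443), (nat_lit 0xf2e298), (nat_lit 0xd2f21a), (nat_lit 0xf74298), (nat_lit 0x9af05a), (nat_lit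 0xd6705a), (nat_lit 0xf74443), (nat_lit 0x9af60a), (nat_lit 0x283bf4), (nat_lit 572390), (nat_lit 0x2839bd), (nat_lit 572733), (nat_lit 0x283d2f), (nat_lit 571823), (nat_lit 0x9af213), (nat_lit 0x2d0bf4), (nat_lit 0x2c29f5), (nat_lit 0x9ee2d0), (nat_lit 0x9f52c2), (nat_lit 0xbf40ca), (nat_lit 0xbe62c2), (nat_lit 0x9f50d1), (nat_lit 0xbf4053), (nat_lit 0xbe60d1), (nat_lit 0x2d09bd), (nat_lit 0x2c2bbc), (nat_lit 0x9ee099), (nat_lit 0x9f5419), (nat_lit 0xbf4458), (nat_lit 0xbe6419), (nat_lit 0x2d0d2f), (nat_lit 0x2c2d67), (nat_lit 0x9ee40b), (nat_lit 0xbf4642), (nat_lit 0xbf4283), (nat_lit 0xbe608b), (nat_lit 0x9f508b), (nat_lit 0x9f5443), (nat_lit 0x9f5298), (nat_lit 0xbe6298), (nat_lit 0xbe6443), (nat_lit 629748), (nat_lit 0x4199f5), (nat_lit 0xd7c2d0), (nat_lit 0xbbc2c2), (nat_lit 0x9bd0ca), (nat_lit 0xd3d2c2), (nat_lit 0xbbc0d1), (nat_lit 0x9bd053), (nat_lit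 0xd3d0d1), (nat_lit 629181), (nat_lit 0x419bbc), (nat_lit 0xd7c099), (nat_lit 0xbbc419), (nat_lit 0x9bd458), (nat_lit 0xd3d419), (nat_lit 630063), (nat_lit 0x419d67), (nat_lit 0xd7c40b), (nat_lit 0x9bd642), (nat_lit 0x9bd283), (nat_lit 0xd3d08b), (nat_lit 0xbbc08b), (nat_lit 0xbbc443), (nat_lit 0xbbc298), (nat_lit 0xd3d298), (nat_lit 0xd3d443), (nat_lit 0x40bbf4), (nat_lit 0xf662d0), (nat_lit 0xba72d0), (nat_lit 0xd672c2), (nat_lit 0xd2f0ca), (nat_lit 0x9af2c2), (nat_lit 571893), (nat_lit 0xd670d1), (nat_lit 0xd2f053), (nat_lit 0x9af0d1), (nat_lit 0x40b9bd), (nat_lit 0xf66099), (nat_lit 0xba7099), (nat_lit 0xd67419), (nat_lit 0xd2f458), (nat_lit 0x9af419), (nat_lit 0x40bd2f), (nat_lit 0xf6640b), (nat_lit 0xba740b), (nat_lit 0xd2f642), (nat_lit 0xd2f283), (nat_lit 0x9af08b), (nat_lit 0xd6708b), (nat_lit 572775), (nat_lit 0xd67443), (nat_lit 572348), (nat_lit 0xd67298),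 (nat_lit 0x9af298), (nat_lit 0x9af443), (nat_lit 0xbf42d0), (nat_lit 0xbf4099), (nat_lit 0xbf440b), (nat_lit 0x9bd2d0), (nat_lit 0x9bd099), (nat_lit 0x9bd40b), (nat_lit 0xd2f2d0), (nat_lit 0xd2f099), (nat_lit 0xd2f40b)]
noncomputable def AY_lN_W : List (List ℕ) := [[],
  [(nat_lit 0)],
  [(nat_lit 1)],
  [(nat_lit 2)],
  [(nat_lit 3)],
  [(nat_lit 4)],
  [(nat_lit 5)],
  [(nat_lit 0), (nat_lit 1)],
  [(nat_lit 0), (nat_lit 2)],
  [(nat_lit 0), (nat_lit 3)],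
  [(nat_lit 0), (nat_lit 4)],
  [(nat_lit 0), (nat_lit 5)],
  [(nat_lit 1), (nat_lit 2)],
  [(nat_lit 1), (nat_lit 3)],
  [(nat_lit 1), (nat_lit 4)],
  [(nat_lit 1), (nat_lit 5)],
  [(nat_lit 2), (nat_lit 3)],
  [(nat_lit 2), (nat_lit 4)],
  [(nat_lit 2), (nat_lit 5)],
  [(nat_lit 3), (nat_lit 2)],
  [(nat_lit 3), (nat_lit 3)],
  [(nat_lit 3), (nat_lit 4)],
  [(nat_lit 3), (nat_lit 5)],
  [(nat_lit 4), (nat_lit 1)],
  [(nat_lit 4), (nat_lit 3)],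
  [(nat_lit 4), (nat_lit 5)],
  [(nat_lit 5), (nat_lit 1)],
  [(nat_lit 5), (nat_lit 3)],
  [(nat_lit 0), (nat_lit 1), (nat_lit 2)],
  [(nat_lit 0), (nat_lit 1), (nat_lit 3)],
  [(nat_lit 0), (nat_lit 1), (nat_lit 5)],
  [(nat_lit 0), (nat_lit 2), (nat_lit 3)],
  [(nat_lit 0), (nat_lit 2), (nat_lit 4)],
  [(nat_lit 0), (nat_lit 2), (nat_lit 5)],
  [(nat_lit 0), (nat_lit 3), (nat_lit 2)],
  [(nat_lit 0), (nat_lit 3), (nat_lit 3)],
  [(nat_lit 0), (nat_lit 3), (nat_lit 4)],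
  [(nat_lit 0), (nat_lit 3), (nat_lit 5)],
  [(nat_lit 0), (nat_lit 4), (nat_lit 3)],
  [(nat_lit 0), (nat_lit 4), (nat_lit 5)],
  [(nat_lit 0), (nat_lit 5), (nat_lit 1)],
  [(nat_lit 0), (nat_lit 5), (nat_lit 3)],
  [(nat_lit 1), (nat_lit 2), (nat_lit 3)],
  [(nat_lit 1), (nat_lit 2), (nat_lit 4)],
  [(nat_lit 1), (nat_lit 2), (nat_lit 5)],
  [(nat_lit 1), (nat_lit 3), (nat_lit 2)],
  [(nat_lit 1), (nat_lit 3), (nat_lit 3)],
  [(nat_lit 1), (nat_lit 3), (nat_lit 4)],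
  [(nat_lit 1), (nat_lit 3), (nat_lit 5)],
  [(nat_lit 1), (nat_lit 4), (nat_lit 3)],
  [(nat_lit 1), (nat_lit 4), (nat_lit 5)],
  [(nat_lit 1), (nat_lit 5), (nat_lit 1)],
  [(nat_lit 1), (nat_lit 5), (nat_lit 3)],
  [(nat_lit 2), (nat_lit 3), (nat_lit 2)],
  [(nat_lit 2), (nat_lit 3), (nat_lit 3)],
  [(nat_lit 2), (nat_lit 3), (nat_lit 4)],
  [(nat_lit 2), (nat_lit 3), (nat_lit 5)],
  [(nat_lit 2), (nat_lit 4), (nat_lit 1)],
  [(nat_lit 2), (nat_lit 4), (nat_lit 3)],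
  [(nat_lit 2), (nat_lit 4), (nat_lit 5)],
  [(nat_lit 2), (nat_lit 5), (nat_lit 1)],
  [(nat_lit 2), (nat_lit 5), (nat_lit 3)],
  [(nat_lit 3), (nat_lit 2), (nat_lit 3)],
  [(nat_lit 3), (nat_lit 2), (nat_lit 4)],
  [(nat_lit 3), (nat_lit 2), (nat_lit 5)],
  [(nat_lit 3), (nat_lit 3), (nat_lit 2)],
  [(nat_lit 3), (nat_lit 3), (nat_lit 5)],
  [(nat_lit 3), (nat_lit 4), (nat_lit 1)],
  [(nat_lit 3), (nat_lit 4), (nat_lit 5)],
  [(nat_lit 3), (nat_lit 5), (nat_lit 1)],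
  [(nat_lit 3), (nat_lit 5), (nat_lit 3)],
  [(nat_lit 4), (nat_lit 1), (nat_lit 3)],
  [(nat_lit 4), (nat_lit 1), (nat_lit 5)],
  [(nat_lit 4), (nat_lit 3), (nat_lit 2)],
  [(nat_lit 4), (nat_lit 3), (nat_lit 5)],
  [(nat_lit 4), (nat_lit 5), (nat_lit 1)],
  [(nat_lit 4), (nat_lit 5), (nat_lit 3)],
  [(nat_lit 5), (nat_lit 1), (nat_lit 3)],
  [(nat_lit 5), (nat_lit 1), (nat_lit 4)],
  [(nat_lit 5), (nat_lit 1), (nat_lit 5)],
  [(nat_lit 5), (nat_lit 3), (nat_lit 3)],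
  [(nat_lit 5), (nat_lit 3), (nat_lit 4)],
  [(nat_lit 5), (nat_lit 3), (nat_lit 5)],
  [(nat_lit 0), (nat_lit 1), (nat_lit 2), (nat_lit 3)],
  [(nat_lit 0), (nat_lit 1), (nat_lit 2), (nat_lit 5)],
  [(nat_lit 0), (nat_lit 1), (nat_lit 3), (nat_lit 2)],
  [(nat_lit 0), (nat_lit 1), (nat_lit 3), (nat_lit 3)],
  [(nat_lit 0), (nat_lit 1), (nat_lit 3), (nat_lit 5)],
  [(nat_lit 0), (nat_lit 1), (nat_lit 5), (nat_lit 1)],
  [(nat_lit 0), (nat_lit 1), (nat_lit 5), (nat_lit 3)],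
  [(nat_lit 0), (nat_lit 2), (nat_lit 3), (nat_lit 2)],
  [(nat_lit 0), (nat_lit 2), (nat_lit 3), (nat_lit 3)],
  [(nat_lit 0), (nat_lit 2), (nat_lit 3), (nat_lit 4)],
  [(nat_lit 0), (nat_lit 2), (nat_lit 3), (nat_lit 5)],
  [(nat_lit 0), (nat_lit 2), (nat_lit 4), (nat_lit 3)],
  [(nat_lit 0), (nat_lit 2), (nat_lit 4), (nat_lit 5)],
  [(nat_lit 0), (nat_lit 2), (nat_lit 5), (nat_lit 1)],
  [(nat_lit 0), (nat_lit 2), (nat_lit 5), (nat_lit 3)],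
  [(nat_lit 0), (nat_lit 3), (nat_lit 2), (nat_lit 3)],
  [(nat_lit 0), (nat_lit 3), (nat_lit 2), (nat_lit 4)],
  [(nat_lit 0), (nat_lit 3), (nat_lit 2), (nat_lit 5)],
  [(nat_lit 0), (nat_lit 3), (nat_lit 3), (nat_lit 2)],
  [(nat_lit 0), (nat_lit 3), (nat_lit 3), (nat_lit 5)],
  [(nat_lit 0), (nat_lit 3), (nat_lit 4), (nat_lit 5)],
  [(nat_lit 0), (nat_lit 3), (nat_lit 5), (nat_lit 1)],
  [(nat_lit 0), (nat_lit 3), (nat_lit 5), (nat_lit 3)],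
  [(nat_lit 0), (nat_lit 4), (nat_lit 3), (nat_lit 2)],
  [(nat_lit 0), (nat_lit 4), (nat_lit 3), (nat_lit 5)],
  [(nat_lit 0), (nat_lit 4), (nat_lit 5), (nat_lit 1)],
  [(nat_lit 0), (nat_lit 4), (nat_lit 5), (nat_lit 3)],
  [(nat_lit 0), (nat_lit 5), (nat_lit 1), (nat_lit 3)],
  [(nat_lit 0), (nat_lit 5), (nat_lit 1), (nat_lit 4)],
  [(nat_lit 0), (nat_lit 5), (nat_lit 1), (nat_lit 5)],
  [(nat_lit 0), (nat_lit 5), (nat_lit 3), (nat_lit 3)],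
  [(nat_lit 0), (nat_lit 5), (nat_lit 3), (nat_lit 4)],
  [(nat_lit 0), (nat_lit 5), (nat_lit 3), (nat_lit 5)],
  [(nat_lit 1), (nat_lit 2), (nat_lit 3), (nat_lit 2)],
  [(nat_lit 1), (nat_lit 2), (nat_lit 3), (nat_lit 3)],
  [(nat_lit 1), (nat_lit 2), (nat_lit 3), (nat_lit 4)],
  [(nat_lit 1), (nat_lit 2), (nat_lit 3), (nat_lit 5)],
  [(nat_lit 1), (nat_lit 2), (nat_lit 4), (nat_lit 3)],
  [(nat_lit 1), (nat_lit 2), (nat_lit 4), (nat_lit 5)],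
  [(nat_lit 1), (nat_lit 2), (nat_lit 5), (nat_lit 1)],
  [(nat_lit 1), (nat_lit 2), (nat_lit 5), (nat_lit 3)],
  [(nat_lit 1), (nat_lit 3), (nat_lit 2), (nat_lit 3)],
  [(nat_lit 1), (nat_lit 3), (nat_lit 2), (nat_lit 4)],
  [(nat_lit 1), (nat_lit 3), (nat_lit 2), (nat_lit 5)],
  [(nat_lit 1), (nat_lit 3), (nat_lit 3), (nat_lit 2)],
  [(nat_lit 1), (nat_lit 3), (nat_lit 3), (nat_lit 5)],
  [(nat_lit 1), (nat_lit 3), (nat_lit 4), (nat_lit 5)],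
  [(nat_lit 1), (nat_lit 3), (nat_lit 5), (nat_lit 1)],
  [(nat_lit 1), (nat_lit 3), (nat_lit 5), (nat_lit 3)],
  [(nat_lit 1), (nat_lit 4), (nat_lit 3), (nat_lit 2)],
  [(nat_lit 1), (nat_lit 4), (nat_lit 3), (nat_lit 5)],
  [(nat_lit 1), (nat_lit 4), (nat_lit 5), (nat_lit 1)],
  [(nat_lit 1), (nat_lit 4), (nat_lit 5), (nat_lit 3)],
  [(nat_lit 1), (nat_lit 5), (nat_lit 1), (nat_lit 3)],
  [(nat_lit 1), (nat_lit 5), (nat_lit 1), (nat_lit 4)],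
  [(nat_lit 1), (nat_lit 5), (nat_lit 1), (nat_lit 5)],
  [(nat_lit 1), (nat_lit 5), (nat_lit 3), (nat_lit 3)],
  [(nat_lit 1), (nat_lit 5), (nat_lit 3), (nat_lit 4)],
  [(nat_lit 1), (nat_lit 5), (nat_lit 3), (nat_lit 5)],
  [(nat_lit 2), (nat_lit 3), (nat_lit 2), (nat_lit 4)],
  [(nat_lit 2), (nat_lit 3), (nat_lit 3), (nat_lit 5)],
  [(nat_lit 2), (nat_lit 3), (nat_lit 4), (nat_lit 1)],
  [(nat_lit 2), (nat_lit 3), (nat_lit 4), (nat_lit 5)],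
  [(nat_lit 2), (nat_lit 3), (nat_lit 5), (nat_lit 3)],
  [(nat_lit 2), (nat_lit 4), (nat_lit 1), (nat_lit 3)],
  [(nat_lit 2), (nat_lit 4), (nat_lit 1), (nat_lit 5)],
  [(nat_lit 2), (nat_lit 4), (nat_lit 3), (nat_lit 2)],
  [(nat_lit 2), (nat_lit 4), (nat_lit 3), (nat_lit 5)],
  [(nat_lit 2), (nat_lit 4), (nat_lit 5), (nat_lit 3)],
  [(nat_lit 2), (nat_lit 5), (nat_lit 1), (nat_lit 3)],
  [(nat_lit 2), (nat_lit 5), (nat_lit 1), (nat_lit 5)],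
  [(nat_lit 2), (nat_lit 5), (nat_lit 3), (nat_lit 3)],
  [(nat_lit 2), (nat_lit 5), (nat_lit 3), (nat_lit 4)],
  [(nat_lit 2), (nat_lit 5), (nat_lit 3), (nat_lit 5)],
  [(nat_lit 3), (nat_lit 2), (nat_lit 3), (nat_lit 5)],
  [(nat_lit 3), (nat_lit 2), (nat_lit 4), (nat_lit 1)],
  [(nat_lit 3), (nat_lit 2), (nat_lit 4), (nat_lit 3)],
  [(nat_lit 3), (nat_lit 2), (nat_lit 4), (nat_lit 5)],
  [(nat_lit 3), (nat_lit 2), (nat_lit 5), (nat_lit 3)],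
  [(nat_lit 3), (nat_lit 3), (nat_lit 2), (nat_lit 5)],
  [(nat_lit 3), (nat_lit 3), (nat_lit 5), (nat_lit 3)],
  [(nat_lit 3), (nat_lit 4), (nat_lit 1), (nat_lit 5)],
  [(nat_lit 3), (nat_lit 4), (nat_lit 5), (nat_lit 3)],
  [(nat_lit 3), (nat_lit 5), (nat_lit 1), (nat_lit 3)],
  [(nat_lit 3), (nat_lit 5), (nat_lit 1), (nat_lit 4)],
  [(nat_lit 3), (nat_lit 5), (nat_lit 3), (nat_lit 3)],
  [(nat_lit 3), (nat_lit 5), (nat_lit 3), (nat_lit 4)],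
  [(nat_lit 3), (nat_lit 5), (nat_lit 3), (nat_lit 5)],
  [(nat_lit 4), (nat_lit 1), (nat_lit 3), (nat_lit 2)],
  [(nat_lit 4), (nat_lit 1), (nat_lit 3), (nat_lit 5)],
  [(nat_lit 4), (nat_lit 1), (nat_lit 5), (nat_lit 1)],
  [(nat_lit 4), (nat_lit 1), (nat_lit 5), (nat_lit 3)],
  [(nat_lit 4), (nat_lit 3), (nat_lit 2), (nat_lit 5)],
  [(nat_lit 4), (nat_lit 3), (nat_lit 5), (nat_lit 1)],
  [(nat_lit 4), (nat_lit 3), (nat_lit 5), (nat_lit 3)],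
  [(nat_lit 4), (nat_lit 5), (nat_lit 1), (nat_lit 3)],
  [(nat_lit 4), (nat_lit 5), (nat_lit 1), (nat_lit 5)],
  [(nat_lit 4), (nat_lit 5), (nat_lit 3), (nat_lit 5)],
  [(nat_lit 5), (nat_lit 1), (nat_lit 3), (nat_lit 3)],
  [(nat_lit 5), (nat_lit 1), (nat_lit 3), (nat_lit 4)],
  [(nat_lit 5), (nat_lit 1), (nat_lit 3), (nat_lit 5)],
  [(nat_lit 5), (nat_lit 1), (nat_lit 4), (nat_lit 3)],
  [(nat_lit 5), (nat_lit 3), (nat_lit 3), (nat_lit 2)],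
  [(nat_lit 5), (nat_lit 3), (nat_lit 3), (nat_lit 5)],
  [(nat_lit 5), (nat_lit 3), (nat_lit 4), (nat_lit 1)],
  [(nat_lit 5), (nat_lit 3), (nat_lit 4), (nat_lit 5)],
  [(nat_lit 5), (nat_lit 3), (nat_lit 5), (nat_lit 1)],
  [(nat_lit 0), (nat_lit 1), (nat_lit 2), (nat_lit 3), (nat_lit 2)],
  [(nat_lit 0), (nat_lit 1), (nat_lit 2), (nat_lit 3), (nat_lit 3)],
  [(nat_lit 0), (nat_lit 1), (nat_lit 2), (nat_lit 3), (nat_lit 5)],
  [(nat_lit 0), (nat_lit 1), (nat_lit 2), (nat_lit 5), (nat_lit 1)],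
  [(nat_lit 0), (nat_lit 1), (nat_lit 2), (nat_lit 5), (nat_lit 3)],
  [(nat_lit 0), (nat_lit 1), (nat_lit 3), (nat_lit 2), (nat_lit 3)],
  [(nat_lit 0), (nat_lit 1), (nat_lit 3), (nat_lit 2), (nat_lit 5)],
  [(nat_lit 0), (nat_lit 1), (nat_lit 3), (nat_lit 3), (nat_lit 2)],
  [(nat_lit 0), (nat_lit 1), (nat_lit 3), (nat_lit 3), (nat_lit 5)],
  [(nat_lit 0), (nat_lit 1), (nat_lit 3), (nat_lit 5), (nat_lit 1)],
  [(nat_lit 0), (nat_lit 1), (nat_lit 3), (nat_lit 5), (nat_lit 3)],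
  [(nat_lit 0), (nat_lit 1), (nat_lit 5), (nat_lit 1), (nat_lit 3)],
  [(nat_lit 0), (nat_lit 1), (nat_lit 5), (nat_lit 1), (nat_lit 4)],
  [(nat_lit 0), (nat_lit 1), (nat_lit 5), (nat_lit 1), (nat_lit 5)],
  [(nat_lit 0), (nat_lit 1), (nat_lit 5), (nat_lit 3), (nat_lit 4)],
  [(nat_lit 0), (nat_lit 2), (nat_lit 3), (nat_lit 2), (nat_lit 4)],
  [(nat_lit 0), (nat_lit 2), (nat_lit 3), (nat_lit 3), (nat_lit 5)],
  [(nat_lit 0), (nat_lit 2), (nat_lit 3), (nat_lit 4), (nat_lit 5)],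
  [(nat_lit 0), (nat_lit 2), (nat_lit 3), (nat_lit 5), (nat_lit 3)],
  [(nat_lit 0), (nat_lit 2), (nat_lit 4), (nat_lit 3), (nat_lit 2)],
  [(nat_lit 0), (nat_lit 2), (nat_lit 4), (nat_lit 3), (nat_lit 5)],
  [(nat_lit 0), (nat_lit 2), (nat_lit 4), (nat_lit 5), (nat_lit 3)],
  [(nat_lit 0), (nat_lit 2), (nat_lit 5), (nat_lit 1), (nat_lit 3)],
  [(nat_lit 0), (nat_lit 2), (nat_lit 5), (nat_lit 1), (nat_lit 5)],
  [(nat_lit 0), (nat_lit 2), (nat_lit 5), (nat_lit 3), (nat_lit 3)],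
  [(nat_lit 0), (nat_lit 2), (nat_lit 5), (nat_lit 3), (nat_lit 4)],
  [(nat_lit 0), (nat_lit 2), (nat_lit 5), (nat_lit 3), (nat_lit 5)],
  [(nat_lit 0), (nat_lit 3), (nat_lit 2), (nat_lit 3), (nat_lit 5)],
  [(nat_lit 0), (nat_lit 3), (nat_lit 2), (nat_lit 4), (nat_lit 3)],
  [(nat_lit 0), (nat_lit 3), (nat_lit 2), (nat_lit 4), (nat_lit 5)],
  [(nat_lit 0), (nat_lit 3), (nat_lit 2), (nat_lit 5), (nat_lit 3)],
  [(nat_lit 0), (nat_lit 3), (nat_lit 3), (nat_lit 2), (nat_lit 5)],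
  [(nat_lit 0), (nat_lit 3), (nat_lit 3), (nat_lit 5), (nat_lit 3)],
  [(nat_lit 0), (nat_lit 3), (nat_lit 4), (nat_lit 5), (nat_lit 3)],
  [(nat_lit 0), (nat_lit 3), (nat_lit 5), (nat_lit 1), (nat_lit 3)],
  [(nat_lit 0), (nat_lit 3), (nat_lit 5), (nat_lit 1), (nat_lit 4)],
  [(nat_lit 0), (nat_lit 3), (nat_lit 5), (nat_lit 3), (nat_lit 3)],
  [(nat_lit 0), (nat_lit 3), (nat_lit 5), (nat_lit 3), (nat_lit 4)],
  [(nat_lit 0), (nat_lit 3), (nat_lit 5), (nat_lit 3), (nat_lit 5)],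
  [(nat_lit 0), (nat_lit 4), (nat_lit 3), (nat_lit 2), (nat_lit 5)],
  [(nat_lit 0), (nat_lit 4), (nat_lit 3), (nat_lit 5), (nat_lit 1)],
  [(nat_lit 0), (nat_lit 4), (nat_lit 3), (nat_lit 5), (nat_lit 3)],
  [(nat_lit 0), (nat_lit 4), (nat_lit 5), (nat_lit 1), (nat_lit 3)],
  [(nat_lit 0), (nat_lit 4), (nat_lit 5), (nat_lit 1), (nat_lit 5)],
  [(nat_lit 0), (nat_lit 4), (nat_lit 5), (nat_lit 3), (nat_lit 5)],
  [(nat_lit 0), (nat_lit 5), (nat_lit 1), (nat_lit 3), (nat_lit 3)],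
  [(nat_lit 0), (nat_lit 5), (nat_lit 1), (nat_lit 3), (nat_lit 4)],
  [(nat_lit 0), (nat_lit 5), (nat_lit 1), (nat_lit 3), (nat_lit 5)],
  [(nat_lit 0), (nat_lit 5), (nat_lit 1), (nat_lit 4), (nat_lit 3)],
  [(nat_lit 0), (nat_lit 5), (nat_lit 3), (nat_lit 3), (nat_lit 5)],
  [(nat_lit 0), (nat_lit 5), (nat_lit 3), (nat_lit 4), (nat_lit 1)],
  [(nat_lit 0), (nat_lit 5), (nat_lit 3), (nat_lit 4), (nat_lit 5)],
  [(nat_lit 1), (nat_lit 2), (nat_lit 3), (nat_lit 2), (nat_lit 4)],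
  [(nat_lit 1), (nat_lit 2), (nat_lit 3), (nat_lit 3), (nat_lit 5)],
  [(nat_lit 1), (nat_lit 2), (nat_lit 3), (nat_lit 4), (nat_lit 5)],
  [(nat_lit 1), (nat_lit 2), (nat_lit 3), (nat_lit 5), (nat_lit 3)],
  [(nat_lit 1), (nat_lit 2), (nat_lit 4), (nat_lit 3), (nat_lit 2)],
  [(nat_lit 1), (nat_lit 2), (nat_lit 4), (nat_lit 3), (nat_lit 5)],
  [(nat_lit 1), (nat_lit 2), (nat_lit 4), (nat_lit 5), (nat_lit 3)],
  [(nat_lit 1), (nat_lit 2), (nat_lit 5), (nat_lit 1), (nat_lit 3)],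
  [(nat_lit 1), (nat_lit 2), (nat_lit 5), (nat_lit 1), (nat_lit 5)],
  [(nat_lit 1), (nat_lit 2), (nat_lit 5), (nat_lit 3), (nat_lit 3)],
  [(nat_lit 1), (nat_lit 2), (nat_lit 5), (nat_lit 3), (nat_lit 4)],
  [(nat_lit 1), (nat_lit 2), (nat_lit 5), (nat_lit 3), (nat_lit 5)],
  [(nat_lit 1), (nat_lit 3), (nat_lit 2), (nat_lit 3), (nat_lit 5)],
  [(nat_lit 1), (nat_lit 3), (nat_lit 2), (nat_lit 4), (nat_lit 3)],
  [(nat_lit 1), (nat_lit 3), (nat_lit 2), (nat_lit 4), (nat_lit 5)],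
  [(nat_lit 1), (nat_lit 3), (nat_lit 2), (nat_lit 5), (nat_lit 3)],
  [(nat_lit 1), (nat_lit 3), (nat_lit 3), (nat_lit 2), (nat_lit 5)],
  [(nat_lit 1), (nat_lit 3), (nat_lit 3), (nat_lit 5), (nat_lit 3)],
  [(nat_lit 1), (nat_lit 3), (nat_lit 4), (nat_lit 5), (nat_lit 3)],
  [(nat_lit 1), (nat_lit 3), (nat_lit 5), (nat_lit 1), (nat_lit 3)],
  [(nat_lit 1), (nat_lit 3), (nat_lit 5), (nat_lit 1), (nat_lit 4)],
  [(nat_lit 1), (nat_lit 3), (nat_lit 5), (nat_lit 3), (nat_lit 3)],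
  [(nat_lit 1), (nat_lit 3), (nat_lit 5), (nat_lit 3), (nat_lit 4)],
  [(nat_lit 1), (nat_lit 3), (nat_lit 5), (nat_lit 3), (nat_lit 5)],
  [(nat_lit 1), (nat_lit 4), (nat_lit 3), (nat_lit 2), (nat_lit 5)],
  [(nat_lit 1), (nat_lit 4), (nat_lit 3), (nat_lit 5), (nat_lit 1)],
  [(nat_lit 1), (nat_lit 4), (nat_lit 3), (nat_lit 5), (nat_lit 3)],
  [(nat_lit 1), (nat_lit 4), (nat_lit 5), (nat_lit 1), (nat_lit 3)],
  [(nat_lit 1), (nat_lit 4), (nat_lit 5), (nat_lit 1), (nat_lit 5)],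
  [(nat_lit 1), (nat_lit 4), (nat_lit 5), (nat_lit 3), (nat_lit 5)],
  [(nat_lit 1), (nat_lit 5), (nat_lit 1), (nat_lit 3), (nat_lit 3)],
  [(nat_lit 1), (nat_lit 5), (nat_lit 1), (nat_lit 3), (nat_lit 4)],
  [(nat_lit 1), (nat_lit 5), (nat_lit 1), (nat_lit 3), (nat_lit 5)],
  [(nat_lit 1), (nat_lit 5), (nat_lit 1), (nat_lit 4), (nat_lit 3)],
  [(nat_lit 1), (nat_lit 5), (nat_lit 3), (nat_lit 3), (nat_lit 5)],
  [(nat_lit 1), (nat_lit 5), (nat_lit 3), (nat_lit 4), (nat_lit 1)],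
  [(nat_lit 1), (nat_lit 5), (nat_lit 3), (nat_lit 4), (nat_lit 5)],
  [(nat_lit 2), (nat_lit 3), (nat_lit 2), (nat_lit 4), (nat_lit 1)],
  [(nat_lit 2), (nat_lit 3), (nat_lit 3), (nat_lit 5), (nat_lit 3)],
  [(nat_lit 2), (nat_lit 3), (nat_lit 4), (nat_lit 1), (nat_lit 5)],
  [(nat_lit 2), (nat_lit 3), (nat_lit 4), (nat_lit 5), (nat_lit 3)],
  [(nat_lit 2), (nat_lit 3), (nat_lit 5), (nat_lit 3), (nat_lit 3)],
  [(nat_lit 2), (nat_lit 3), (nat_lit 5), (nat_lit 3), (nat_lit 4)],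
  [(nat_lit 2), (nat_lit 3), (nat_lit 5), (nat_lit 3), (nat_lit 5)],
  [(nat_lit 2), (nat_lit 4), (nat_lit 1), (nat_lit 3), (nat_lit 2)],
  [(nat_lit 2), (nat_lit 4), (nat_lit 1), (nat_lit 3), (nat_lit 5)],
  [(nat_lit 2), (nat_lit 4), (nat_lit 1), (nat_lit 5), (nat_lit 3)],
  [(nat_lit 2), (nat_lit 4), (nat_lit 3), (nat_lit 5), (nat_lit 3)],
  [(nat_lit 2), (nat_lit 4), (nat_lit 5), (nat_lit 3), (nat_lit 5)],
  [(nat_lit 2), (nat_lit 5), (nat_lit 1), (nat_lit 3), (nat_lit 3)],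
  [(nat_lit 2), (nat_lit 5), (nat_lit 1), (nat_lit 3), (nat_lit 5)],
  [(nat_lit 2), (nat_lit 5), (nat_lit 3), (nat_lit 3), (nat_lit 2)],
  [(nat_lit 2), (nat_lit 5), (nat_lit 3), (nat_lit 3), (nat_lit 5)],
  [(nat_lit 2), (nat_lit 5), (nat_lit 3), (nat_lit 4), (nat_lit 5)],
  [(nat_lit 2), (nat_lit 5), (nat_lit 3), (nat_lit 5), (nat_lit 1)],
  [(nat_lit 3), (nat_lit 2), (nat_lit 3), (nat_lit 5), (nat_lit 3)],
  [(nat_lit 3), (nat_lit 2), (nat_lit 4), (nat_lit 1), (nat_lit 3)],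
  [(nat_lit 3), (nat_lit 2), (nat_lit 4), (nat_lit 1), (nat_lit 5)],
  [(nat_lit 3), (nat_lit 2), (nat_lit 4), (nat_lit 5), (nat_lit 3)],
  [(nat_lit 3), (nat_lit 2), (nat_lit 5), (nat_lit 3), (nat_lit 3)],
  [(nat_lit 3), (nat_lit 2), (nat_lit 5), (nat_lit 3), (nat_lit 4)],
  [(nat_lit 3), (nat_lit 2), (nat_lit 5), (nat_lit 3), (nat_lit 5)],
  [(nat_lit 3), (nat_lit 3), (nat_lit 2), (nat_lit 5), (nat_lit 3)],
  [(nat_lit 3), (nat_lit 3), (nat_lit 5), (nat_lit 3), (nat_lit 3)],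
  [(nat_lit 3), (nat_lit 3), (nat_lit 5), (nat_lit 3), (nat_lit 4)],
  [(nat_lit 3), (nat_lit 3), (nat_lit 5), (nat_lit 3), (nat_lit 5)],
  [(nat_lit 3), (nat_lit 4), (nat_lit 1), (nat_lit 5), (nat_lit 3)],
  [(nat_lit 3), (nat_lit 4), (nat_lit 5), (nat_lit 3), (nat_lit 5)],
  [(nat_lit 3), (nat_lit 5), (nat_lit 1), (nat_lit 3), (nat_lit 3)],
  [(nat_lit 3), (nat_lit 5), (nat_lit 1), (nat_lit 3), (nat_lit 4)],
  [(nat_lit 3), (nat_lit 5), (nat_lit 1), (nat_lit 3), (nat_lit 5)],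
  [(nat_lit 3), (nat_lit 5), (nat_lit 1), (nat_lit 4), (nat_lit 3)],
  [(nat_lit 3), (nat_lit 5), (nat_lit 3), (nat_lit 3), (nat_lit 2)],
  [(nat_lit 3), (nat_lit 5), (nat_lit 3), (nat_lit 3), (nat_lit 5)],
  [(nat_lit 3), (nat_lit 5), (nat_lit 3), (nat_lit 4), (nat_lit 5)],
  [(nat_lit 3), (nat_lit 5), (nat_lit 3), (nat_lit 5), (nat_lit 1)],
  [(nat_lit 4), (nat_lit 1), (nat_lit 3), (nat_lit 2), (nat_lit 5)],
  [(nat_lit 4), (nat_lit 1), (nat_lit 3), (nat_lit 5), (nat_lit 1)],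
  [(nat_lit 4), (nat_lit 1), (nat_lit 3), (nat_lit 5), (nat_lit 3)],
  [(nat_lit 4), (nat_lit 1), (nat_lit 5), (nat_lit 1), (nat_lit 3)],
  [(nat_lit 4), (nat_lit 1), (nat_lit 5), (nat_lit 1), (nat_lit 5)],
  [(nat_lit 4), (nat_lit 1), (nat_lit 5), (nat_lit 3), (nat_lit 5)],
  [(nat_lit 4), (nat_lit 3), (nat_lit 2), (nat_lit 5), (nat_lit 3)],
  [(nat_lit 4), (nat_lit 3), (nat_lit 5), (nat_lit 1), (nat_lit 3)],
  [(nat_lit 4), (nat_lit 3), (nat_lit 5), (nat_lit 3), (nat_lit 5)],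
  [(nat_lit 4), (nat_lit 5), (nat_lit 1), (nat_lit 3), (nat_lit 5)],
  [(nat_lit 5), (nat_lit 1), (nat_lit 3), (nat_lit 3), (nat_lit 2)],
  [(nat_lit 5), (nat_lit 1), (nat_lit 3), (nat_lit 3), (nat_lit 5)],
  [(nat_lit 5), (nat_lit 1), (nat_lit 3), (nat_lit 4), (nat_lit 5)],
  [(nat_lit 5), (nat_lit 1), (nat_lit 3), (nat_lit 5), (nat_lit 1)],
  [(nat_lit 5), (nat_lit 1), (nat_lit 4), (nat_lit 3), (nat_lit 2)],
  [(nat_lit 5), (nat_lit 1), (nat_lit 4), (nat_lit 3), (nat_lit 5)],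
  [(nat_lit 5), (nat_lit 3), (nat_lit 3), (nat_lit 2), (nat_lit 5)],
  [(nat_lit 5), (nat_lit 3), (nat_lit 4), (nat_lit 1), (nat_lit 5)],
  [(nat_lit 5), (nat_lit 3), (nat_lit 4), (nat_lit 5), (nat_lit 3)],
  [(nat_lit 5), (nat_lit 3), (nat_lit 5), (nat_lit 1), (nat_lit 4)],
  [(nat_lit 0), (nat_lit 1), (nat_lit 2), (nat_lit 3), (nat_lit 3), (nat_lit 5)],
  [(nat_lit 0), (nat_lit 1), (nat_lit 2), (nat_lit 3), (nat_lit 5), (nat_lit 3)],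
  [(nat_lit 0), (nat_lit 1), (nat_lit 2), (nat_lit 5), (nat_lit 1), (nat_lit 3)],
  [(nat_lit 0), (nat_lit 1), (nat_lit 2), (nat_lit 5), (nat_lit 1), (nat_lit 5)],
  [(nat_lit 0), (nat_lit 1), (nat_lit 2), (nat_lit 5), (nat_lit 3), (nat_lit 4)],
  [(nat_lit 0), (nat_lit 1), (nat_lit 3), (nat_lit 2), (nat_lit 3), (nat_lit 5)],
  [(nat_lit 0), (nat_lit 1), (nat_lit 3), (nat_lit 2), (nat_lit 5), (nat_lit 3)],
  [(nat_lit 0), (nat_lit 1), (nat_lit 3), (nat_lit 3), (nat_lit 2), (nat_lit 5)],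
  [(nat_lit 0), (nat_lit 1), (nat_lit 3), (nat_lit 3), (nat_lit 5), (nat_lit 3)],
  [(nat_lit 0), (nat_lit 1), (nat_lit 3), (nat_lit 5), (nat_lit 1), (nat_lit 3)],
  [(nat_lit 0), (nat_lit 1), (nat_lit 3), (nat_lit 5), (nat_lit 1), (nat_lit 4)],
  [(nat_lit 0), (nat_lit 1), (nat_lit 3), (nat_lit 5), (nat_lit 3), (nat_lit 4)],
  [(nat_lit 0), (nat_lit 1), (nat_lit 5), (nat_lit 1), (nat_lit 3), (nat_lit 4)],
  [(nat_lit 0), (nat_lit 1), (nat_lit 5), (nat_lit 3), (nat_lit 4), (nat_lit 1)],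
  [(nat_lit 0), (nat_lit 2), (nat_lit 3), (nat_lit 3), (nat_lit 5), (nat_lit 3)],
  [(nat_lit 0), (nat_lit 2), (nat_lit 3), (nat_lit 4), (nat_lit 5), (nat_lit 3)],
  [(nat_lit 0), (nat_lit 2), (nat_lit 3), (nat_lit 5), (nat_lit 3), (nat_lit 3)],
  [(nat_lit 0), (nat_lit 2), (nat_lit 3), (nat_lit 5), (nat_lit 3), (nat_lit 4)],
  [(nat_lit 0), (nat_lit 2), (nat_lit 3), (nat_lit 5), (nat_lit 3), (nat_lit 5)],
  [(nat_lit 0), (nat_lit 2), (nat_lit 4), (nat_lit 3), (nat_lit 5), (nat_lit 3)],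
  [(nat_lit 0), (nat_lit 2), (nat_lit 4), (nat_lit 5), (nat_lit 3), (nat_lit 5)],
  [(nat_lit 0), (nat_lit 2), (nat_lit 5), (nat_lit 1), (nat_lit 3), (nat_lit 3)],
  [(nat_lit 0), (nat_lit 2), (nat_lit 5), (nat_lit 1), (nat_lit 3), (nat_lit 5)],
  [(nat_lit 0), (nat_lit 2), (nat_lit 5), (nat_lit 3), (nat_lit 3), (nat_lit 5)],
  [(nat_lit 0), (nat_lit 2), (nat_lit 5), (nat_lit 3), (nat_lit 4), (nat_lit 5)],
  [(nat_lit 0), (nat_lit 3), (nat_lit 2), (nat_lit 3), (nat_lit 5), (nat_lit 3)],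
  [(nat_lit 0), (nat_lit 3), (nat_lit 2), (nat_lit 4), (nat_lit 5), (nat_lit 3)],
  [(nat_lit 0), (nat_lit 3), (nat_lit 2), (nat_lit 5), (nat_lit 3), (nat_lit 3)],
  [(nat_lit 0), (nat_lit 3), (nat_lit 2), (nat_lit 5), (nat_lit 3), (nat_lit 4)],
  [(nat_lit 0), (nat_lit 3), (nat_lit 2), (nat_lit 5), (nat_lit 3), (nat_lit 5)],
  [(nat_lit 0), (nat_lit 3), (nat_lit 3), (nat_lit 2), (nat_lit 5), (nat_lit 3)],
  [(nat_lit 0), (nat_lit 3), (nat_lit 3), (nat_lit 5), (nat_lit 3), (nat_lit 3)],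
  [(nat_lit 0), (nat_lit 3), (nat_lit 3), (nat_lit 5), (nat_lit 3), (nat_lit 4)],
  [(nat_lit 0), (nat_lit 3), (nat_lit 3), (nat_lit 5), (nat_lit 3), (nat_lit 5)],
  [(nat_lit 0), (nat_lit 3), (nat_lit 4), (nat_lit 5), (nat_lit 3), (nat_lit 5)],
  [(nat_lit 0), (nat_lit 3), (nat_lit 5), (nat_lit 1), (nat_lit 3), (nat_lit 3)],
  [(nat_lit 0), (nat_lit 3), (nat_lit 5), (nat_lit 1), (nat_lit 3), (nat_lit 4)],
  [(nat_lit 0), (nat_lit 3), (nat_lit 5), (nat_lit 1), (nat_lit 3), (nat_lit 5)],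
  [(nat_lit 0), (nat_lit 3), (nat_lit 5), (nat_lit 1), (nat_lit 4), (nat_lit 3)],
  [(nat_lit 0), (nat_lit 3), (nat_lit 5), (nat_lit 3), (nat_lit 3), (nat_lit 5)],
  [(nat_lit 0), (nat_lit 3), (nat_lit 5), (nat_lit 3), (nat_lit 4), (nat_lit 5)],
  [(nat_lit 0), (nat_lit 4), (nat_lit 3), (nat_lit 2), (nat_lit 5), (nat_lit 3)],
  [(nat_lit 0), (nat_lit 4), (nat_lit 3), (nat_lit 5), (nat_lit 1), (nat_lit 3)],
  [(nat_lit 0), (nat_lit 4), (nat_lit 3), (nat_lit 5), (nat_lit 3), (nat_lit 5)],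
  [(nat_lit 0), (nat_lit 4), (nat_lit 5), (nat_lit 1), (nat_lit 3), (nat_lit 5)],
  [(nat_lit 0), (nat_lit 5), (nat_lit 1), (nat_lit 3), (nat_lit 3), (nat_lit 5)],
  [(nat_lit 0), (nat_lit 5), (nat_lit 1), (nat_lit 3), (nat_lit 4), (nat_lit 5)],
  [(nat_lit 0), (nat_lit 5), (nat_lit 1), (nat_lit 4), (nat_lit 3), (nat_lit 5)],
  [(nat_lit 0), (nat_lit 5), (nat_lit 3), (nat_lit 4), (nat_lit 1), (nat_lit 5)],
  [(nat_lit 0), (nat_lit 5), (nat_lit 3), (nat_lit 4), (nat_lit 5), (nat_lit 3)],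
  [(nat_lit 1), (nat_lit 2), (nat_lit 3), (nat_lit 3), (nat_lit 5), (nat_lit 3)],
  [(nat_lit 1), (nat_lit 2), (nat_lit 3), (nat_lit 4), (nat_lit 5), (nat_lit 3)],
  [(nat_lit 1), (nat_lit 2), (nat_lit 3), (nat_lit 5), (nat_lit 3), (nat_lit 3)],
  [(nat_lit 1), (nat_lit 2), (nat_lit 3), (nat_lit 5), (nat_lit 3), (nat_lit 4)],
  [(nat_lit 1), (nat_lit 2), (nat_lit 3), (nat_lit 5), (nat_lit 3), (nat_lit 5)],
  [(nat_lit 1), (nat_lit 2), (nat_lit 4), (nat_lit 3), (nat_lit 5), (nat_lit 3)],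
  [(nat_lit 1), (nat_lit 2), (nat_lit 4), (nat_lit 5), (nat_lit 3), (nat_lit 5)],
  [(nat_lit 1), (nat_lit 2), (nat_lit 5), (nat_lit 1), (nat_lit 3), (nat_lit 3)],
  [(nat_lit 1), (nat_lit 2), (nat_lit 5), (nat_lit 1), (nat_lit 3), (nat_lit 5)],
  [(nat_lit 1), (nat_lit 2), (nat_lit 5), (nat_lit 3), (nat_lit 3), (nat_lit 5)],
  [(nat_lit 1), (nat_lit 2), (nat_lit 5), (nat_lit 3), (nat_lit 4), (nat_lit 5)],
  [(nat_lit 1), (nat_lit 3), (nat_lit 2), (nat_lit 3), (nat_lit 5), (nat_lit 3)],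
  [(nat_lit 1), (nat_lit 3), (nat_lit 2), (nat_lit 4), (nat_lit 5), (nat_lit 3)],
  [(nat_lit 1), (nat_lit 3), (nat_lit 2), (nat_lit 5), (nat_lit 3), (nat_lit 3)],
  [(nat_lit 1), (nat_lit 3), (nat_lit 2), (nat_lit 5), (nat_lit 3), (nat_lit 4)],
  [(nat_lit 1), (nat_lit 3), (nat_lit 2), (nat_lit 5), (nat_lit 3), (nat_lit 5)],
  [(nat_lit 1), (nat_lit 3), (nat_lit 3), (nat_lit 2), (nat_lit 5), (nat_lit 3)],
  [(nat_lit 1), (nat_lit 3), (nat_lit 3), (nat_lit 5), (nat_lit 3), (nat_lit 3)],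
  [(nat_lit 1), (nat_lit 3), (nat_lit 3), (nat_lit 5), (nat_lit 3), (nat_lit 4)],
  [(nat_lit 1), (nat_lit 3), (nat_lit 3), (nat_lit 5), (nat_lit 3), (nat_lit 5)],
  [(nat_lit 1), (nat_lit 3), (nat_lit 4), (nat_lit 5), (nat_lit 3), (nat_lit 5)],
  [(nat_lit 1), (nat_lit 3), (nat_lit 5), (nat_lit 1), (nat_lit 3), (nat_lit 3)],
  [(nat_lit 1), (nat_lit 3), (nat_lit 5), (nat_lit 1), (nat_lit 3), (nat_lit 4)],
  [(nat_lit 1), (nat_lit 3), (nat_lit 5), (nat_lit 1), (nat_lit 3), (nat_lit 5)],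
  [(nat_lit 1), (nat_lit 3), (nat_lit 5), (nat_lit 1), (nat_lit 4), (nat_lit 3)],
  [(nat_lit 1), (nat_lit 3), (nat_lit 5), (nat_lit 3), (nat_lit 3), (nat_lit 5)],
  [(nat_lit 1), (nat_lit 3), (nat_lit 5), (nat_lit 3), (nat_lit 4), (nat_lit 5)],
  [(nat_lit 1), (nat_lit 4), (nat_lit 3), (nat_lit 2), (nat_lit 5), (nat_lit 3)],
  [(nat_lit 1), (nat_lit 4), (nat_lit 3), (nat_lit 5), (nat_lit 1), (nat_lit 3)],
  [(nat_lit 1), (nat_lit 4), (nat_lit 3), (nat_lit 5), (nat_lit 3), (nat_lit 5)],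
  [(nat_lit 1), (nat_lit 4), (nat_lit 5), (nat_lit 1), (nat_lit 3), (nat_lit 5)],
  [(nat_lit 1), (nat_lit 5), (nat_lit 1), (nat_lit 3), (nat_lit 3), (nat_lit 5)],
  [(nat_lit 1), (nat_lit 5), (nat_lit 1), (nat_lit 3), (nat_lit 4), (nat_lit 5)],
  [(nat_lit 1), (nat_lit 5), (nat_lit 1), (nat_lit 4), (nat_lit 3), (nat_lit 5)],
  [(nat_lit 1), (nat_lit 5), (nat_lit 3), (nat_lit 4), (nat_lit 1), (nat_lit 5)],
  [(nat_lit 1), (nat_lit 5), (nat_lit 3), (nat_lit 4), (nat_lit 5), (nat_lit 3)],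
  [(nat_lit 2), (nat_lit 3), (nat_lit 3), (nat_lit 5), (nat_lit 3), (nat_lit 3)],
  [(nat_lit 2), (nat_lit 3), (nat_lit 3), (nat_lit 5), (nat_lit 3), (nat_lit 4)],
  [(nat_lit 2), (nat_lit 3), (nat_lit 3), (nat_lit 5), (nat_lit 3), (nat_lit 5)],
  [(nat_lit 2), (nat_lit 3), (nat_lit 4), (nat_lit 1), (nat_lit 5), (nat_lit 3)],
  [(nat_lit 2), (nat_lit 3), (nat_lit 4), (nat_lit 5), (nat_lit 3), (nat_lit 5)],
  [(nat_lit 2), (nat_lit 3), (nat_lit 5), (nat_lit 3), (nat_lit 3), (nat_lit 2)],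
  [(nat_lit 2), (nat_lit 3), (nat_lit 5), (nat_lit 3), (nat_lit 3), (nat_lit 5)],
  [(nat_lit 2), (nat_lit 3), (nat_lit 5), (nat_lit 3), (nat_lit 4), (nat_lit 5)],
  [(nat_lit 2), (nat_lit 3), (nat_lit 5), (nat_lit 3), (nat_lit 5), (nat_lit 1)],
  [(nat_lit 2), (nat_lit 4), (nat_lit 1), (nat_lit 3), (nat_lit 5), (nat_lit 3)],
  [(nat_lit 2), (nat_lit 4), (nat_lit 1), (nat_lit 5), (nat_lit 3), (nat_lit 5)],
  [(nat_lit 2), (nat_lit 4), (nat_lit 3), (nat_lit 5), (nat_lit 3), (nat_lit 5)],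
  [(nat_lit 2), (nat_lit 5), (nat_lit 1), (nat_lit 3), (nat_lit 3), (nat_lit 2)],
  [(nat_lit 2), (nat_lit 5), (nat_lit 1), (nat_lit 3), (nat_lit 3), (nat_lit 5)],
  [(nat_lit 2), (nat_lit 5), (nat_lit 1), (nat_lit 3), (nat_lit 5), (nat_lit 1)],
  [(nat_lit 2), (nat_lit 5), (nat_lit 3), (nat_lit 3), (nat_lit 2), (nat_lit 5)],
  [(nat_lit 2), (nat_lit 5), (nat_lit 3), (nat_lit 4), (nat_lit 5), (nat_lit 3)],
  [(nat_lit 2), (nat_lit 5), (nat_lit 3), (nat_lit 5), (nat_lit 1), (nat_lit 4)],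
  [(nat_lit 3), (nat_lit 2), (nat_lit 3), (nat_lit 5), (nat_lit 3), (nat_lit 3)],
  [(nat_lit 3), (nat_lit 2), (nat_lit 3), (nat_lit 5), (nat_lit 3), (nat_lit 4)],
  [(nat_lit 3), (nat_lit 2), (nat_lit 3), (nat_lit 5), (nat_lit 3), (nat_lit 5)],
  [(nat_lit 3), (nat_lit 2), (nat_lit 4), (nat_lit 1), (nat_lit 5), (nat_lit 3)],
  [(nat_lit 3), (nat_lit 2), (nat_lit 4), (nat_lit 5), (nat_lit 3), (nat_lit 5)],
  [(nat_lit 3), (nat_lit 2), (nat_lit 5), (nat_lit 3), (nat_lit 3), (nat_lit 2)],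
  [(nat_lit 3), (nat_lit 2), (nat_lit 5), (nat_lit 3), (nat_lit 3), (nat_lit 5)],
  [(nat_lit 3), (nat_lit 2), (nat_lit 5), (nat_lit 3), (nat_lit 4), (nat_lit 5)],
  [(nat_lit 3), (nat_lit 2), (nat_lit 5), (nat_lit 3), (nat_lit 5), (nat_lit 1)],
  [(nat_lit 3), (nat_lit 3), (nat_lit 2), (nat_lit 5), (nat_lit 3), (nat_lit 3)],
  [(nat_lit 3), (nat_lit 3), (nat_lit 2), (nat_lit 5), (nat_lit 3), (nat_lit 4)],
  [(nat_lit 3), (nat_lit 3), (nat_lit 2), (nat_lit 5), (nat_lit 3), (nat_lit 5)],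
  [(nat_lit 3), (nat_lit 3), (nat_lit 5), (nat_lit 3), (nat_lit 3), (nat_lit 2)],
  [(nat_lit 3), (nat_lit 3), (nat_lit 5), (nat_lit 3), (nat_lit 3), (nat_lit 5)],
  [(nat_lit 3), (nat_lit 3), (nat_lit 5), (nat_lit 3), (nat_lit 5), (nat_lit 1)],
  [(nat_lit 3), (nat_lit 4), (nat_lit 1), (nat_lit 5), (nat_lit 3), (nat_lit 5)],
  [(nat_lit 3), (nat_lit 5), (nat_lit 1), (nat_lit 3), (nat_lit 3), (nat_lit 2)],
  [(nat_lit 3), (nat_lit 5), (nat_lit 1), (nat_lit 3), (nat_lit 3), (nat_lit 5)],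
  [(nat_lit 3), (nat_lit 5), (nat_lit 1), (nat_lit 3), (nat_lit 4), (nat_lit 5)],
  [(nat_lit 3), (nat_lit 5), (nat_lit 1), (nat_lit 3), (nat_lit 5), (nat_lit 1)],
  [(nat_lit 3), (nat_lit 5), (nat_lit 1), (nat_lit 4), (nat_lit 3), (nat_lit 2)],
  [(nat_lit 3), (nat_lit 5), (nat_lit 1), (nat_lit 4), (nat_lit 3), (nat_lit 5)],
  [(nat_lit 3), (nat_lit 5), (nat_lit 3), (nat_lit 3), (nat_lit 2), (nat_lit 5)],
  [(nat_lit 3), (nat_lit 5), (nat_lit 3), (nat_lit 5), (nat_lit 1), (nat_lit 4)],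
  [(nat_lit 4), (nat_lit 1), (nat_lit 3), (nat_lit 2), (nat_lit 5), (nat_lit 3)],
  [(nat_lit 4), (nat_lit 1), (nat_lit 3), (nat_lit 5), (nat_lit 1), (nat_lit 3)],
  [(nat_lit 4), (nat_lit 1), (nat_lit 3), (nat_lit 5), (nat_lit 3), (nat_lit 3)],
  [(nat_lit 4), (nat_lit 1), (nat_lit 3), (nat_lit 5), (nat_lit 3), (nat_lit 5)],
  [(nat_lit 4), (nat_lit 1), (nat_lit 5), (nat_lit 1), (nat_lit 3), (nat_lit 5)],
  [(nat_lit 4), (nat_lit 3), (nat_lit 2), (nat_lit 5), (nat_lit 3), (nat_lit 5)],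
  [(nat_lit 4), (nat_lit 3), (nat_lit 5), (nat_lit 1), (nat_lit 3), (nat_lit 5)],
  [(nat_lit 5), (nat_lit 1), (nat_lit 3), (nat_lit 3), (nat_lit 2), (nat_lit 5)],
  [(nat_lit 5), (nat_lit 1), (nat_lit 3), (nat_lit 4), (nat_lit 5), (nat_lit 3)],
  [(nat_lit 5), (nat_lit 1), (nat_lit 3), (nat_lit 5), (nat_lit 1), (nat_lit 4)],
  [(nat_lit 5), (nat_lit 1), (nat_lit 4), (nat_lit 3), (nat_lit 2), (nat_lit 5)],
  [(nat_lit 5), (nat_lit 3), (nat_lit 4), (nat_lit 1), (nat_lit 5), (nat_lit 3)],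
  [(nat_lit 5), (nat_lit 3), (nat_lit 5), (nat_lit 1), (nat_lit 4), (nat_lit 3)],
  [(nat_lit 0), (nat_lit 1), (nat_lit 2), (nat_lit 3), (nat_lit 3), (nat_lit 5), (nat_lit 3)],
  [(nat_lit 0), (nat_lit 1), (nat_lit 2), (nat_lit 3), (nat_lit 5), (nat_lit 3), (nat_lit 4)],
  [(nat_lit 0), (nat_lit 1), (nat_lit 3), (nat_lit 2), (nat_lit 3), (nat_lit 5), (nat_lit 3)],
  [(nat_lit 0), (nat_lit 1), (nat_lit 3), (nat_lit 2), (nat_lit 5), (nat_lit 3), (nat_lit 4)],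
  [(nat_lit 0), (nat_lit 1), (nat_lit 3), (nat_lit 3), (nat_lit 2), (nat_lit 5), (nat_lit 3)],
  [(nat_lit 0), (nat_lit 1), (nat_lit 3), (nat_lit 5), (nat_lit 1), (nat_lit 3), (nat_lit 4)],
  [(nat_lit 0), (nat_lit 1), (nat_lit 5), (nat_lit 3), (nat_lit 4), (nat_lit 1), (nat_lit 5)],
  [(nat_lit 0), (nat_lit 2), (nat_lit 3), (nat_lit 3), (nat_lit 5), (nat_lit 3), (nat_lit 3)],
  [(nat_lit 0), (nat_lit 2), (nat_lit 3), (nat_lit 3), (nat_lit 5), (nat_lit 3), (nat_lit 4)],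
  [(nat_lit 0), (nat_lit 2), (nat_lit 3), (nat_lit 3), (nat_lit 5), (nat_lit 3), (nat_lit 5)],
  [(nat_lit 0), (nat_lit 2), (nat_lit 3), (nat_lit 4), (nat_lit 5), (nat_lit 3), (nat_lit 5)],
  [(nat_lit 0), (nat_lit 2), (nat_lit 3), (nat_lit 5), (nat_lit 3), (nat_lit 3), (nat_lit 5)],
  [(nat_lit 0), (nat_lit 2), (nat_lit 3), (nat_lit 5), (nat_lit 3), (nat_lit 4), (nat_lit 5)],
  [(nat_lit 0), (nat_lit 2), (nat_lit 4), (nat_lit 3), (nat_lit 5), (nat_lit 3), (nat_lit 5)],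
  [(nat_lit 0), (nat_lit 2), (nat_lit 5), (nat_lit 1), (nat_lit 3), (nat_lit 3), (nat_lit 5)],
  [(nat_lit 0), (nat_lit 2), (nat_lit 5), (nat_lit 3), (nat_lit 4), (nat_lit 5), (nat_lit 3)],
  [(nat_lit 0), (nat_lit 3), (nat_lit 2), (nat_lit 3), (nat_lit 5), (nat_lit 3), (nat_lit 3)],
  [(nat_lit 0), (nat_lit 3), (nat_lit 2), (nat_lit 3), (nat_lit 5), (nat_lit 3), (nat_lit 4)],
  [(nat_lit 0), (nat_lit 3), (nat_lit 2), (nat_lit 3), (nat_lit 5), (nat_lit 3), (nat_lit 5)],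
  [(nat_lit 0), (nat_lit 3), (nat_lit 2), (nat_lit 4), (nat_lit 5), (nat_lit 3), (nat_lit 5)],
  [(nat_lit 0), (nat_lit 3), (nat_lit 2), (nat_lit 5), (nat_lit 3), (nat_lit 3), (nat_lit 5)],
  [(nat_lit 0), (nat_lit 3), (nat_lit 2), (nat_lit 5), (nat_lit 3), (nat_lit 4), (nat_lit 5)],
  [(nat_lit 0), (nat_lit 3), (nat_lit 3), (nat_lit 2), (nat_lit 5), (nat_lit 3), (nat_lit 3)],
  [(nat_lit 0), (nat_lit 3), (nat_lit 3), (nat_lit 2), (nat_lit 5), (nat_lit 3), (nat_lit 4)],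
  [(nat_lit 0), (nat_lit 3), (nat_lit 3), (nat_lit 2), (nat_lit 5), (nat_lit 3), (nat_lit 5)],
  [(nat_lit 0), (nat_lit 3), (nat_lit 3), (nat_lit 5), (nat_lit 3), (nat_lit 3), (nat_lit 5)],
  [(nat_lit 0), (nat_lit 3), (nat_lit 5), (nat_lit 1), (nat_lit 3), (nat_lit 3), (nat_lit 5)],
  [(nat_lit 0), (nat_lit 3), (nat_lit 5), (nat_lit 1), (nat_lit 3), (nat_lit 4), (nat_lit 5)],
  [(nat_lit 0), (nat_lit 3), (nat_lit 5), (nat_lit 1), (nat_lit 4), (nat_lit 3), (nat_lit 5)],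
  [(nat_lit 0), (nat_lit 4), (nat_lit 3), (nat_lit 2), (nat_lit 5), (nat_lit 3), (nat_lit 5)],
  [(nat_lit 0), (nat_lit 4), (nat_lit 3), (nat_lit 5), (nat_lit 1), (nat_lit 3), (nat_lit 5)],
  [(nat_lit 0), (nat_lit 5), (nat_lit 1), (nat_lit 3), (nat_lit 4), (nat_lit 5), (nat_lit 3)],
  [(nat_lit 0), (nat_lit 5), (nat_lit 3), (nat_lit 4), (nat_lit 1), (nat_lit 5), (nat_lit 3)],
  [(nat_lit 1), (nat_lit 2), (nat_lit 3), (nat_lit 3), (nat_lit 5), (nat_lit 3), (nat_lit 3)],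
  [(nat_lit 1), (nat_lit 2), (nat_lit 3), (nat_lit 3), (nat_lit 5), (nat_lit 3), (nat_lit 4)],
  [(nat_lit 1), (nat_lit 2), (nat_lit 3), (nat_lit 3), (nat_lit 5), (nat_lit 3), (nat_lit 5)],
  [(nat_lit 1), (nat_lit 2), (nat_lit 3), (nat_lit 4), (nat_lit 5), (nat_lit 3), (nat_lit 5)],
  [(nat_lit 1), (nat_lit 2), (nat_lit 3), (nat_lit 5), (nat_lit 3), (nat_lit 3), (nat_lit 5)],
  [(nat_lit 1), (nat_lit 2), (nat_lit 3), (nat_lit 5), (nat_lit 3), (nat_lit 4), (nat_lit 5)],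
  [(nat_lit 1), (nat_lit 2), (nat_lit 4), (nat_lit 3), (nat_lit 5), (nat_lit 3), (nat_lit 5)],
  [(nat_lit 1), (nat_lit 2), (nat_lit 5), (nat_lit 1), (nat_lit 3), (nat_lit 3), (nat_lit 5)],
  [(nat_lit 1), (nat_lit 2), (nat_lit 5), (nat_lit 3), (nat_lit 4), (nat_lit 5), (nat_lit 3)],
  [(nat_lit 1), (nat_lit 3), (nat_lit 2), (nat_lit 3), (nat_lit 5), (nat_lit 3), (nat_lit 3)],
  [(nat_lit 1), (nat_lit 3), (nat_lit 2), (nat_lit 3), (nat_lit 5), (nat_lit 3), (nat_lit 4)],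
  [(nat_lit 1), (nat_lit 3), (nat_lit 2), (nat_lit 3), (nat_lit 5), (nat_lit 3), (nat_lit 5)],
  [(nat_lit 1), (nat_lit 3), (nat_lit 2), (nat_lit 4), (nat_lit 5), (nat_lit 3), (nat_lit 5)],
  [(nat_lit 1), (nat_lit 3), (nat_lit 2), (nat_lit 5), (nat_lit 3), (nat_lit 3), (nat_lit 5)],
  [(nat_lit 1), (nat_lit 3), (nat_lit 2), (nat_lit 5), (nat_lit 3), (nat_lit 4), (nat_lit 5)],
  [(nat_lit 1), (nat_lit 3), (nat_lit 3), (nat_lit 2), (nat_lit 5), (nat_lit 3), (nat_lit 3)],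
  [(nat_lit 1), (nat_lit 3), (nat_lit 3), (nat_lit 2), (nat_lit 5), (nat_lit 3), (nat_lit 4)],
  [(nat_lit 1), (nat_lit 3), (nat_lit 3), (nat_lit 2), (nat_lit 5), (nat_lit 3), (nat_lit 5)],
  [(nat_lit 1), (nat_lit 3), (nat_lit 3), (nat_lit 5), (nat_lit 3), (nat_lit 3), (nat_lit 5)],
  [(nat_lit 1), (nat_lit 3), (nat_lit 5), (nat_lit 1), (nat_lit 3), (nat_lit 3), (nat_lit 5)],
  [(nat_lit 1), (nat_lit 3), (nat_lit 5), (nat_lit 1), (nat_lit 3), (nat_lit 4), (nat_lit 5)],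
  [(nat_lit 1), (nat_lit 3), (nat_lit 5), (nat_lit 1), (nat_lit 4), (nat_lit 3), (nat_lit 5)],
  [(nat_lit 1), (nat_lit 4), (nat_lit 3), (nat_lit 2), (nat_lit 5), (nat_lit 3), (nat_lit 5)],
  [(nat_lit 1), (nat_lit 4), (nat_lit 3), (nat_lit 5), (nat_lit 1), (nat_lit 3), (nat_lit 5)],
  [(nat_lit 1), (nat_lit 5), (nat_lit 1), (nat_lit 3), (nat_lit 4), (nat_lit 5), (nat_lit 3)],
  [(nat_lit 1), (nat_lit 5), (nat_lit 3), (nat_lit 4), (nat_lit 1), (nat_lit 5), (nat_lit 3)],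
  [(nat_lit 2), (nat_lit 3), (nat_lit 3), (nat_lit 5), (nat_lit 3), (nat_lit 3), (nat_lit 2)],
  [(nat_lit 2), (nat_lit 3), (nat_lit 3), (nat_lit 5), (nat_lit 3), (nat_lit 3), (nat_lit 5)],
  [(nat_lit 2), (nat_lit 3), (nat_lit 3), (nat_lit 5), (nat_lit 3), (nat_lit 5), (nat_lit 1)],
  [(nat_lit 2), (nat_lit 3), (nat_lit 4), (nat_lit 1), (nat_lit 5), (nat_lit 3), (nat_lit 5)],
  [(nat_lit 2), (nat_lit 3), (nat_lit 5), (nat_lit 3), (nat_lit 3), (nat_lit 2), (nat_lit 5)],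
  [(nat_lit 2), (nat_lit 3), (nat_lit 5), (nat_lit 3), (nat_lit 5), (nat_lit 1), (nat_lit 4)],
  [(nat_lit 2), (nat_lit 4), (nat_lit 1), (nat_lit 3), (nat_lit 5), (nat_lit 3), (nat_lit 3)],
  [(nat_lit 2), (nat_lit 4), (nat_lit 1), (nat_lit 3), (nat_lit 5), (nat_lit 3), (nat_lit 5)],
  [(nat_lit 2), (nat_lit 5), (nat_lit 1), (nat_lit 3), (nat_lit 3), (nat_lit 2), (nat_lit 5)],
  [(nat_lit 2), (nat_lit 5), (nat_lit 3), (nat_lit 5), (nat_lit 1), (nat_lit 4), (nat_lit 3)],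
  [(nat_lit 3), (nat_lit 2), (nat_lit 3), (nat_lit 5), (nat_lit 3), (nat_lit 3), (nat_lit 2)],
  [(nat_lit 3), (nat_lit 2), (nat_lit 3), (nat_lit 5), (nat_lit 3), (nat_lit 3), (nat_lit 5)],
  [(nat_lit 3), (nat_lit 2), (nat_lit 3), (nat_lit 5), (nat_lit 3), (nat_lit 5), (nat_lit 1)],
  [(nat_lit 3), (nat_lit 2), (nat_lit 4), (nat_lit 1), (nat_lit 5), (nat_lit 3), (nat_lit 5)],
  [(nat_lit 3), (nat_lit 2), (nat_lit 5), (nat_lit 3), (nat_lit 3), (nat_lit 2), (nat_lit 5)],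
  [(nat_lit 3), (nat_lit 2), (nat_lit 5), (nat_lit 3), (nat_lit 5), (nat_lit 1), (nat_lit 4)],
  [(nat_lit 3), (nat_lit 3), (nat_lit 2), (nat_lit 5), (nat_lit 3), (nat_lit 3), (nat_lit 2)],
  [(nat_lit 3), (nat_lit 3), (nat_lit 2), (nat_lit 5), (nat_lit 3), (nat_lit 3), (nat_lit 5)],
  [(nat_lit 3), (nat_lit 3), (nat_lit 2), (nat_lit 5), (nat_lit 3), (nat_lit 5), (nat_lit 1)],
  [(nat_lit 3), (nat_lit 3), (nat_lit 5), (nat_lit 3), (nat_lit 3), (nat_lit 2), (nat_lit 5)],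
  [(nat_lit 3), (nat_lit 5), (nat_lit 1), (nat_lit 3), (nat_lit 3), (nat_lit 2), (nat_lit 5)],
  [(nat_lit 3), (nat_lit 5), (nat_lit 1), (nat_lit 3), (nat_lit 5), (nat_lit 1), (nat_lit 4)],
  [(nat_lit 3), (nat_lit 5), (nat_lit 1), (nat_lit 4), (nat_lit 3), (nat_lit 2), (nat_lit 5)],
  [(nat_lit 4), (nat_lit 1), (nat_lit 3), (nat_lit 2), (nat_lit 5), (nat_lit 3), (nat_lit 3)],
  [(nat_lit 4), (nat_lit 1), (nat_lit 3), (nat_lit 2), (nat_lit 5), (nat_lit 3), (nat_lit 5)],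
  [(nat_lit 4), (nat_lit 1), (nat_lit 3), (nat_lit 5), (nat_lit 1), (nat_lit 3), (nat_lit 3)],
  [(nat_lit 4), (nat_lit 1), (nat_lit 3), (nat_lit 5), (nat_lit 1), (nat_lit 3), (nat_lit 5)],
  [(nat_lit 5), (nat_lit 1), (nat_lit 3), (nat_lit 5), (nat_lit 1), (nat_lit 4), (nat_lit 3)],
  [(nat_lit 5), (nat_lit 3), (nat_lit 5), (nat_lit 1), (nat_lit 4), (nat_lit 3), (nat_lit 2)],
  [(nat_lit 0), (nat_lit 2), (nat_lit 3), (nat_lit 3), (nat_lit 5), (nat_lit 3), (nat_lit 3), (nat_lit 5)],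
  [(nat_lit 0), (nat_lit 3), (nat_lit 2), (nat_lit 3), (nat_lit 5), (nat_lit 3), (nat_lit 3), (nat_lit 5)],
  [(nat_lit 0), (nat_lit 3), (nat_lit 3), (nat_lit 2), (nat_lit 5), (nat_lit 3), (nat_lit 3), (nat_lit 5)],
  [(nat_lit 1), (nat_lit 2), (nat_lit 3), (nat_lit 3), (nat_lit 5), (nat_lit 3), (nat_lit 3), (nat_lit 5)],
  [(nat_lit 1), (nat_lit 3), (nat_lit 2), (nat_lit 3), (nat_lit 5), (nat_lit 3), (nat_lit 3), (nat_lit 5)],
  [(nat_lit 1), (nat_lit 3), (nat_lit 3), (nat_lit 2), (nat_lit 5), (nat_lit 3), (nat_lit 3), (nat_lit 5)],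
  [(nat_lit 2), (nat_lit 3), (nat_lit 3), (nat_lit 5), (nat_lit 3), (nat_lit 3), (nat_lit 2), (nat_lit 5)],
  [(nat_lit 3), (nat_lit 2), (nat_lit 3), (nat_lit 5), (nat_lit 3), (nat_lit 3), (nat_lit 2), (nat_lit 5)],
  [(nat_lit 3), (nat_lit 3), (nat_lit 2), (nat_lit 5), (nat_lit 3), (nat_lit 3), (nat_lit 2), (nat_lit 5)]]
noncomputable def AY_lN_h (c : ℕ) : ℕ := Nat.mod c (nat_lit 14778)
theorem AY_lN_E {G : Type*} [Group G] {R : ℕ → G → Prop} {z x a b c d w v u y s U V A B X r k l f g q q1 q2 q3 n : G}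
    (M : Md0 A8_o AY_cs R [z, z⁻¹, x, a, b, c, d, w, v, u, y, s, U, V, A, B, X, r, k, l, f, g, q, q1, q2, q3, n]) :
    EnumS R AY_lN (sp [v, u, x, z, b, n]) :=
  enumS_sp M.μ.1 (M.reps.tms M.μ.1 [(.v (nat_lit 8)), (.v (nat_lit 9)), (.v (nat_lit 2)), (.v (nat_lit 0)), (.v (nat_lit 4)), (.v (nat_lit 26))] (cs' := [(nat_lit 0xde5688), (nat_lit 0xb3e688), (nat_lit 0xfac4c1), (nat_lit 0xfac611), (nat_lit 0xfa5681), (nat_lit 0x688fac)]) (by decide +kernel))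
    (Ws := AY_lN_W) (by decide +kernel) (by decide +kernel)
theorem AY_lN_c {G : Type*} [Group G] {R : ℕ → G → Prop} {z x a b c d w v u y s U V A B X r k l f g q q1 q2 q3 n : G}
    (M : Md0 A8_o AY_cs R [z, z⁻¹, x, a, b, c, d, w, v, u, y, s, U, V, A, B, X, r, k, l, f, g, q, q1, q2, q3, n]) :
    #(sp [v, u, x, z, b, n]) = 576 :=
  (AY_lN_E M).card M.μ (h := AY_lN_h) (by decide +kernel)
noncomputable def AY_lC : List ℕ := [(nat_lit 0xfac688), (nat_lit 0xfac611), (nat_lit 0xbf4688), (nat_lit 0x4439f5), (nat_lit 0xfac642), (nat_lit 0xbf4611), (nat_lit 0x44397e), (nat_lit 0xd7c688), (nat_lit 571893), (nat_lit 0xbf4642), (nat_lit 0x4439af), (nat_lit 0xd7c611), (nat_lit 571774), (nat_lit 0x2139f5), (nat_lit 0xd7c642), (nat_lit 571823), (nat_lit 0x21397e), (nat_lit 0x2139af)]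
noncomputable def AY_lC_W : List (List ℕ) := [[],
  [(nat_lit 0)],
  [(nat_lit 1)],
  [(nat_lit 2)],
  [(nat_lit 0), (nat_lit 0)],
  [(nat_lit 0), (nat_lit 1)],
  [(nat_lit 0), (nat_lit 2)],
  [(nat_lit 1), (nat_lit 1)],
  [(nat_lit 1), (nat_lit 2)],
  [(nat_lit 0), (nat_lit 0), (nat_lit 1)],
  [(nat_lit 0), (nat_lit 0), (nat_lit 2)],
  [(nat_lit 0), (nat_lit 1), (nat_lit 1)],
  [(nat_lit 0), (nat_lit 1), (nat_lit 2)],
  [(nat_lit 1), (nat_lit 1), (nat_lit 2)],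
  [(nat_lit 0), (nat_lit 0), (nat_lit 1), (nat_lit 1)],
  [(nat_lit 0), (nat_lit 0), (nat_lit 1), (nat_lit 2)],
  [(nat_lit 0), (nat_lit 1), (nat_lit 1), (nat_lit 2)],
  [(nat_lit 0), (nat_lit 0), (nat_lit 1), (nat_lit 1), (nat_lit 2)]]
noncomputable def AY_lC_h (c : ℕ) : ℕ := Nat.mod c (nat_lit 24)
theorem AY_lC_E {G : Type*} [Group G] {R : ℕ → G → Prop} {z x a b c d w v u y s U V A B X r k l f g q q1 q2 q3 n : G}
    (M : Md0 A8_o AY_cs R [z, z⁻¹, x, a, b, c, d, w, v, u, y, s, U, V, A, B, X, r, k, l, f, g, q, q1, q2, q3, n]) :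
    EnumS R AY_lC (sp [z, w, r]) :=
  enumS_sp M.μ.1 (M.reps.tms M.μ.1 [(.v (nat_lit 0)), (.v (nat_lit 7)), (.v (nat_lit 17))] (cs' := [(nat_lit 0xfac611), (nat_lit 0xbf4688), (nat_lit 0x4439f5)]) (by decide +kernel))
    (Ws := AY_lC_W) (by decide +kernel) (by decide +kernel)
theorem AY_lC_c {G : Type*} [Group G] {R : ℕ → G → Prop} {z x a b c d w v u y s U V A B X r k l f g q q1 q2 q3 n : G}
    (M : Md0 A8_o AY_cs R [z, z⁻¹, x, a, b, c, d, w, v, u, y, s, U, V, A, B, X, r, k, l, f, g, q, q1, q2, q3, n]) :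
    #(sp [z, w, r]) = 18 :=
  (AY_lC_E M).card M.μ (h := AY_lC_h) (by decide +kernel)
noncomputable def AY_lV : List ℕ := [(nat_lit 0xfac688), (nat_lit 0xde5688), (nat_lit 0xb3e688), (nat_lit 0x977688)]
noncomputable def AY_lV_W : List (List ℕ) := [[],
  [(nat_lit 0)],
  [(nat_lit 1)],
  [(nat_lit 0), (nat_lit 1)]]
noncomputable def AY_lV_h (c : ℕ) : ℕ := Nat.mod c (nat_lit 15)
theorem AY_lV_E {G : Type*} [Group G] {R : ℕ → G → Prop} {z x a b c d w v u y s U V A B X r k l f g q q1 q2 q3 n : G}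
    (M : Md0 A8_o AY_cs R [z, z⁻¹, x, a, b, c, d, w, v, u, y, s, U, V, A, B, X, r, k, l, f, g, q, q1, q2, q3, n]) :
    EnumS R AY_lV (sp [v, u]) :=
  enumS_sp M.μ.1 (M.reps.tms M.μ.1 [(.v (nat_lit 8)), (.v (nat_lit 9))] (cs' := [(nat_lit 0xde5688), (nat_lit 0xb3e688)]) (by decide +kernel))
    (Ws := AY_lV_W) (by decide +kernel) (by decide +kernel)
theorem AY_lV_c {G : Type*} [Group G] {R : ℕ → G → Prop} {z x a b c d w v u y s U V A B X r k l f g q q1 q2 q3 n : G}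
    (M : Md0 A8_o AY_cs R [z, z⁻¹, x, a, b, c, d, w, v, u, y, s, U, V, A, B, X, r, k, l, f, g, q, q1, q2, q3, n]) :
    #(sp [v, u]) = 4 :=
  (AY_lV_E M).card M.μ (h := AY_lV_h) (by decide +kernel)
noncomputable def AY_lU : List ℕ := [(nat_lit 0xfac688), (nat_lit 0xfac4c1), (nat_lit 0xfac053), (nat_lit 0xfac21a)]
noncomputable def AY_lU_W : List (List ℕ) := [[],
  [(nat_lit 0)],
  [(nat_lit 1)],
  [(nat_lit 0), (nat_lit 1)]]
noncomputable def AY_lU_h (c : ℕ) : ℕ := Nat.mod c (nat_lit 4)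
theorem AY_lU_E {G : Type*} [Group G] {R : ℕ → G → Prop} {z x a b c d w v u y s U V A B X r k l f g q q1 q2 q3 n : G}
    (M : Md0 A8_o AY_cs R [z, z⁻¹, x, a, b, c, d, w, v, u, y, s, U, V, A, B, X, r, k, l, f, g, q, q1, q2, q3, n]) :
    EnumS R AY_lU (sp [x, z * x * z⁻¹]) :=
  enumS_sp M.μ.1 (M.reps.tms M.μ.1 [(.v (nat_lit 2)), (.mul (.mul (.v (nat_lit 0)) (.v (nat_lit 2))) (.inv (.v (nat_lit 0))))] (cs' := [(nat_lit 0xfac4c1), (nat_lit 0xfac053)]) (by decide +kernel))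
    (Ws := AY_lU_W) (by decide +kernel) (by decide +kernel)
theorem AY_lU_c {G : Type*} [Group G] {R : ℕ → G → Prop} {z x a b c d w v u y s U V A B X r k l f g q q1 q2 q3 n : G}
    (M : Md0 A8_o AY_cs R [z, z⁻¹, x, a, b, c, d, w, v, u, y, s, U, V, A, B, X, r, k, l, f, g, q, q1, q2, q3, n]) :
    #(sp [x, z * x * z⁻¹]) = 4 :=
  (AY_lU_E M).card M.μ (h := AY_lU_h) (by decide +kernel)
noncomputable def AY_e_F : Fm := (.qf (.and (.eq (.mul (.mul (.v (nat_lit 17)) (.v (nat_lit 0))) (.inv (.v (nat_lit 17)))) (.v (nat_lit 7))) (.and (.eq (.mul (.mul (.v (nat_lit 17)) (.v (nat_lit 7))) (.inv (.v (nat_lit 17)))) (.v (nat_lit 0))) (.and (.eq (.mul (.mul (.v (nat_lit 18)) (.v (nat_lit 10))) (.inv (.v (nat_lit 18)))) (.v (nat_lit 16))) (.and (.eq (.mul (.v (nat_lit 19)) (.v (nat_lit 11))) (.mul (.v (nat_lit 11)) (.v (nat_lit 19)))) (.and (.eq (.mul (.v (nat_lit 9)) (.mul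 (.mul (.v (nat_lit 19)) (.v (nat_lit 9))) (.inv (.v (nat_lit 19))))) (.v (nat_lit 16))) (.and (.eq (.mul (.mul (.v (nat_lit 20)) (.v (nat_lit 11))) (.inv (.v (nat_lit 20)))) (.v (nat_lit 12))) (.and (.eq (.mul (.mul (.v (nat_lit 21)) (.v (nat_lit 11))) (.inv (.v (nat_lit 21)))) (.v (nat_lit 13))) (.and (.eq (.mul (.v (nat_lit 22)) (.v (nat_lit 11))) (.mul (.v (nat_lit 11)) (.v (nat_lit 22)))) (.and (.eq (.mul (.mul (.mul (.v (nat_lit 22)) (.v (nat_lit 16))) (.inv (.v (nat_lit 22)))) (.inv (.v (nat_lit 16)))) (.v (nat_lit 8))) (.and (.eq (.mul (.v (nat_lit 16)) (.v (nat_lit 11))) (.mul (.v (nat_lit 11)) (.v (nat_lit 16)))) (.and (.not (.eq (.v (nat_lit 11)) .one)) (.and (.not (.eq (.v (nat_lit 16)) .one)) (.and (.eq (.mul (.v (nat_lit 9)) (.v (nat_lit 11))) (.mul (.v (nat_lit 11)) (.v (nat_lit 9)))) (.and (.mem (.v (nat_lit 23)) AY_lS) (.and (.mem (.v (nat_lit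 24)) AY_lS) (.and (.mem (.v (nat_lit 25)) AY_lS) (.mem (.v (nat_lit 8)) AY_lS))))))))))))))))))
theorem AY_e_chk : Fm.chk A8_o AY_e_F AY_cs = true := by decide +kernel
theorem AY_e {G : Type*} [Group G] {R : ℕ → G → Prop} {z x a b c d w v u y s U V A B X r k l f g q q1 q2 q3 n : G}
    (M : Md0 A8_o AY_cs R [z, z⁻¹, x, a, b, c, d, w, v, u, y, s, U, V, A, B, X, r, k, l, f, g, q, q1, q2, q3, n]) :
    r * z * r⁻¹ = w ∧ r * w * r⁻¹ = z ∧ k * y * k⁻¹ = X ∧ l * s = s * l ∧ u * (l * u * l⁻¹) = X ∧ f * s * f⁻¹ = U ∧ g * s * g⁻¹ = V ∧ q * s = s * q ∧ ⁅q, X⁆ = v ∧ X * s = s * X ∧ s ≠ 1 ∧ X ≠ 1 ∧ u * s = s * u ∧ q1 ∈ sp [s, U, V, A, B, u] ∧ q2 ∈ sp [s, U, V, A, B, u] ∧ q3 ∈ sp [s, U, V, A, B, u] ∧ v ∈ sp [s, U, V, A, B, u] :=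
  have h : r * z * r⁻¹ = w ∧ r * w * r⁻¹ = z ∧ k * y * k⁻¹ = X ∧ l * s = s * l ∧ u * (l * u * l⁻¹) = X ∧ f * s * f⁻¹ = U ∧ g * s * g⁻¹ = V ∧ q * s = s * q ∧ ⁅q, X⁆ = v ∧ X * s = s * X ∧ s ≠ 1 ∧ X ≠ 1 ∧ u * s = s * u ∧ InS R AY_lS (q1) ∧ InS R AY_lS (q2) ∧ InS R AY_lS (q3) ∧ InS R AY_lS (v) :=
    Fm.sound M.μ AY_e_F AY_e_chk M.reps
  ((and_congr Iff.rfl (and_congr Iff.rfl (and_congr Iff.rfl (and_congr Iff.rfl (and_congr Iff.rfl (and_congr Iff.rfl (and_congr Iff.rfl (and_congr Iff.rfl (and_congr Iff.rfl (and_congr Iff.rfl (and_congr Iff.rfl (and_congr Iff.rfl (and_congr Iff.rfl (and_congr (AY_lS_E M).iff (and_congr (AY_lS_E M).iff (and_congr (AY_lS_E M).iff (AY_lS_E M).iff)))))))))))))))).1 h)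
noncomputable def AY_cX_F : Fm := (.allS AY_lC (.imp (.eq (.mul (.mul (.mul (.v (nat_lit 19)) (.v (nat_lit 0))) (.inv (.v (nat_lit 19)))) (.v (nat_lit 12))) (.mul (.v (nat_lit 12)) (.mul (.mul (.v (nat_lit 19)) (.v (nat_lit 0))) (.inv (.v (nat_lit 19)))))) (.qf (.or (.eq (.mul (.mul (.v (nat_lit 19)) (.v (nat_lit 0))) (.inv (.v (nat_lit 19)))) .one) (.or (.eq (.mul (.mul (.v (nat_lit 19)) (.v (nat_lit 0))) (.inv (.v (nat_lit 19)))) (.v (nat_lit 17))) (.or (.eq (.mul (.mul (.v (nat_lit 19)) (.v (nat_lit 0))) (.inv (.v (nat_lit 19)))) (.inv (.v (nat_lit 17)))) (.or (.eq (.mul (.mul (.v (nat_lit 19)) (.v (nat_lit 0))) (.inv (.v (nat_lit 19)))) (.v (nat_lit 12))) (.or (.eq (.mul (.mul (.v (nat_lit 19)) (.v (nat_lit 0))) (.inv (.v (nat_lit 19)))) (.mul (.v (nat_lit 12)) (.v (nat_lit 17)))) (.eq (.mul (.mul (.v (nat_lit 19)) (.v (nat_lit 0))) (.inv (.v (nat_lit 19))))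 (.mul (.v (nat_lit 12)) (.inv (.v (nat_lit 17)))))))))))))
theorem AY_cX_chk : Fm.chk A8_o AY_cX_F AY_cs = true := by decide +kernel
theorem AY_cX {G : Type*} [Group G] {R : ℕ → G → Prop} {z x a b c d w v u y s U V A B X r k l f g q q1 q2 q3 n : G}
    (M : Md0 A8_o AY_cs R [z, z⁻¹, x, a, b, c, d, w, v, u, y, s, U, V, A, B, X, r, k, l, f, g, q, q1, q2, q3, n]) :
    ∀ j ∈ sp [z, w, r], k * j * k⁻¹ * s = s * (k * j * k⁻¹) → k * j * k⁻¹ = 1 ∨ k * j * k⁻¹ = X ∨ k * j * k⁻¹ = X⁻¹ ∨ k * j * k⁻¹ = s ∨ k * j * k⁻¹ = s * X ∨ k * j * k⁻¹ = s * X⁻¹ :=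
  have h : ∀ j, InS R AY_lC j → k * j * k⁻¹ * s = s * (k * j * k⁻¹) → k * j * k⁻¹ = 1 ∨ k * j * k⁻¹ = X ∨ k * j * k⁻¹ = X⁻¹ ∨ k * j * k⁻¹ = s ∨ k * j * k⁻¹ = s * X ∨ k * j * k⁻¹ = s * X⁻¹ :=
    Fm.sound M.μ AY_cX_F AY_cX_chk M.reps
  (fun j h0 => (h j ((AY_lC_E M).iff.2 h0)))
noncomputable def AY_S_F : Fm := (.allS AY_lS (.qf (.and (.eq (.mul (.v (nat_lit 9)) (.mul (.v (nat_lit 0)) (.v (nat_lit 0)))) (.mul (.mul (.v (nat_lit 0)) (.v (nat_lit 0))) (.v (nat_lit 9)))) (.and (.eq (.mul (.v (nat_lit 10)) (.mul (.v (nat_lit 0)) (.v (nat_lit 0)))) (.mul (.mul (.v (nat_lit 0)) (.v (nat_lit 0))) (.v (nat_lit 10)))) (.and (.eq (.mul (.v (nat_lit 0)) (.v (nat_lit 12))) (.mul (.v (nat_lit 12)) (.v (nat_lit 0)))) (.and (.mem (.v (nat_lit 0)) AY_lN) (.eq (.pw (.v (nat_lit 0)) (nat_lit 4)) .one)))))))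
theorem AY_S_chk : Fm.chk A8_o AY_S_F AY_cs = true := by decide +kernel
theorem AY_S {G : Type*} [Group G] {R : ℕ → G → Prop} {z x a b c d w v u y s U V A B X r k l f g q q1 q2 q3 n : G}
    (M : Md0 A8_o AY_cs R [z, z⁻¹, x, a, b, c, d, w, v, u, y, s, U, V, A, B, X, r, k, l, f, g, q, q1, q2, q3, n]) :
    ∀ j ∈ sp [s, U, V, A, B, u], v * (j * j) = j * j * v ∧ u * (j * j) = j * j * u ∧ j * s = s * j ∧ j ∈ sp [v, u, x, z, b, n] ∧ j ^ 4 = 1 :=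
  have h : ∀ j, InS R AY_lS j → v * (j * j) = j * j * v ∧ u * (j * j) = j * j * u ∧ j * s = s * j ∧ InS R AY_lN (j) ∧ j ^ 4 = 1 :=
    Fm.sound M.μ AY_S_F AY_S_chk M.reps
  (fun j h0 => ((and_congr Iff.rfl (and_congr Iff.rfl (and_congr Iff.rfl (and_congr (AY_lN_E M).iff Iff.rfl)))).1 (h j ((AY_lS_E M).iff.2 h0))))
noncomputable def AY_A_t0 : ST := (.node (nat_lit 10) (.node (nat_lit 5) (.node (nat_lit 3) (.leaf (nat_lit 165)) (.leaf (nat_lit 177))) (.node (nat_lit 7) (.leaf (nat_lit 27)) (.leaf (nat_lit 0)))) (.node (nat_lit 12) (.node (nat_lit 11) (.leaf (nat_lit 70)) (.leaf (nat_lit 163))) (.node (nat_lit 13) (.leaf (nat_lit 4)) (.node (nat_lit 16) (.leaf (nat_lit 20)) (.leaf (nat_lit 76))))))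
noncomputable def AY_A_F : Fm := (.allS AY_lS (.imp (.eq (.mul (.v (nat_lit 0)) (.mul (.v (nat_lit 24)) (.v (nat_lit 24)))) (.mul (.mul (.v (nat_lit 24)) (.v (nat_lit 24))) (.v (nat_lit 0)))) (.imp (.eq (.mul (.v (nat_lit 0)) (.mul (.v (nat_lit 25)) (.v (nat_lit 25)))) (.mul (.mul (.v (nat_lit 25)) (.v (nat_lit 25))) (.v (nat_lit 0)))) (.imp (.eq (.mul (.v (nat_lit 0)) (.mul (.v (nat_lit 26)) (.v (nat_lit 26)))) (.mul (.mul (.v (nat_lit 26)) (.v (nat_lit 26))) (.v (nat_lit 0)))) (.or (.qf (.or (.mem (.v (nat_lit 0)) AY_lV) (.mem (.v (nat_lit 0)) AY_lU))) (.exG AY_lN (fun cs => AY_A_t0.find (Nat.mod (nth (nat_lit 0) cs (nat_lit 0)) (nat_lit 19))) (.qf (.eq (.mul (.mul (.v (nat_lit 0)) (.v (nat_lit 1))) (.inv (.v (nat_lit 0)))) (.v (nat_lit 13))))))))))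
theorem AY_A_chk : Fm.chk A8_o AY_A_F AY_cs = true := by decide +kernel
theorem AY_A {G : Type*} [Group G] {R : ℕ → G → Prop} {z x a b c d w v u y s U V A B X r k l f g q q1 q2 q3 n : G}
    (M : Md0 A8_o AY_cs R [z, z⁻¹, x, a, b, c, d, w, v, u, y, s, U, V, A, B, X, r, k, l, f, g, q, q1, q2, q3, n]) :
    ∀ j ∈ sp [s, U, V, A, B, u], j * (q1 * q1) = q1 * q1 * j → j * (q2 * q2) = q2 * q2 * j → j * (q3 * q3) = q3 * q3 * j → (j ∈ sp [v, u] ∨ j ∈ sp [x, z * x * z⁻¹]) ∨ (∃ m ∈ sp [v, u, x, z, b, n], m * j * m⁻¹ = s) :=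
  have h : ∀ j, InS R AY_lS j → j * (q1 * q1) = q1 * q1 * j → j * (q2 * q2) = q2 * q2 * j → j * (q3 * q3) = q3 * q3 * j → (InS R AY_lV (j) ∨ InS R AY_lU (j)) ∨ (GoodS R AY_lN → AY_lN ≠ [] → ∃ m, InS R AY_lN m ∧ m * j * m⁻¹ = s) :=
    Fm.sound M.μ AY_A_F AY_A_chk M.reps
  (fun j h0 => (fun h1 => (fun h2 => (fun h3 => (Or.imp (fun h4 => ((or_congr (AY_lV_E M).iff (AY_lU_E M).iff).1 h4)) (fun h4 => (Exists.imp (fun m h5 => ⟨(AY_lN_E M).iff.1 h5.1, h5.2⟩) (h4 (AY_lN_E M).good (AY_lN_E M).ne))) ((((h j ((AY_lS_E M).iff.2 h0)) h1) h2) h3))))))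
noncomputable def AY_P_t0 : ST := (.node (nat_lit 14) (.node (nat_lit 7) (.node (nat_lit 1) (.leaf (nat_lit 80)) (.node (nat_lit 4) (.leaf (nat_lit 5)) (.leaf (nat_lit 81)))) (.node (nat_lit 12) (.leaf (nat_lit 82)) (.node (nat_lit 13) (.leaf (nat_lit 6)) (.leaf (nat_lit 186))))) (.node (nat_lit 28) (.node (nat_lit 20) (.leaf (nat_lit 27)) (.node (nat_lit 25) (.leaf (nat_lit 180)) (.leaf (nat_lit 76)))) (.node (nat_lit 29) (.leaf (nat_lit 25)) (.node (nat_lit 30) (.leaf (nat_lit 188)) (.leaf (nat_lit 0))))))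
noncomputable def AY_P_F : Fm := (.allS AY_lS (.imp (.or (.mem (.v (nat_lit 0)) AY_lV) (.mem (.v (nat_lit 0)) AY_lU)) (.imp (.not (.eq (.v (nat_lit 0)) .one)) (.allS AY_lS (.imp (.or (.mem (.v (nat_lit 0)) AY_lV) (.mem (.v (nat_lit 0)) AY_lU)) (.imp (.not (.eq (.v (nat_lit 0)) .one)) (.imp (.or (.mem (.mul (.v (nat_lit 1)) (.v (nat_lit 0))) AY_lV) (.mem (.mul (.v (nat_lit 1)) (.v (nat_lit 0))) AY_lU)) (.imp (.not (.eq (.v (nat_lit 1)) (.v (nat_lit 0)))) (.exG AY_lN (fun cs => AY_P_t0.find (Nat.mod (Nat.add (nth (nat_lit 0) cs (nat_lit 1)) (Nat.mul (nat_lit 7919) (nth (nat_lit 0) cs (nat_lit 0)))) (nat_lit 31))) (.qf (.and (.eq (.mul (.mul (.v (nat_lit 0)) (.v (nat_lit 11))) (.inv (.v (nat_lit 0)))) (.v (nat_lit 2))) (.eq (.mul (.mul (.v (nat_lit 0)) (.v (nat_lit 12))) (.inv (.v (nat_lit 0)))) (.v (nat_lit 1))))))))))))))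
theorem AY_P_chk : Fm.chk A8_o AY_P_F AY_cs = true := by decide +kernel
theorem AY_P {G : Type*} [Group G] {R : ℕ → G → Prop} {z x a b c d w v u y s U V A B X r k l f g q q1 q2 q3 n : G}
    (M : Md0 A8_o AY_cs R [z, z⁻¹, x, a, b, c, d, w, v, u, y, s, U, V, A, B, X, r, k, l, f, g, q, q1, q2, q3, n]) :
    ∀ i ∈ sp [s, U, V, A, B, u], i ∈ sp [v, u] ∨ i ∈ sp [x, z * x * z⁻¹] → i ≠ 1 → (∀ j ∈ sp [s, U, V, A, B, u], j ∈ sp [v, u] ∨ j ∈ sp [x, z * x * z⁻¹] → j ≠ 1 → i * j ∈ sp [v, u] ∨ i * j ∈ sp [x, z * x * z⁻¹] → i ≠ j → (∃ m ∈ sp [v, u, x, z, b, n], m * v * m⁻¹ = i ∧ m * u * m⁻¹ = j)) :=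
  have h : ∀ i, InS R AY_lS i → InS R AY_lV (i) ∨ InS R AY_lU (i) → i ≠ 1 → (∀ j, InS R AY_lS j → InS R AY_lV (j) ∨ InS R AY_lU (j) → j ≠ 1 → InS R AY_lV (i * j) ∨ InS R AY_lU (i * j) → i ≠ j → (GoodS R AY_lN → AY_lN ≠ [] → ∃ m, InS R AY_lN m ∧ m * v * m⁻¹ = i ∧ m * u * m⁻¹ = j)) :=
    Fm.sound M.μ AY_P_F AY_P_chk M.reps
  (fun i h0 => (fun h1 => (fun h2 => (fun j h3 => (fun h4 => (fun h5 => (fun h6 => (fun h7 => (Exists.imp (fun m h8 => ⟨(AY_lN_E M).iff.1 h8.1, h8.2⟩) (((((((((h i ((AY_lS_E M).iff.2 h0)) ((or_congr (AY_lV_E M).iff (AY_lU_E M).iff).2 h1)) h2) j ((AY_lS_E M).iff.2 h3)) ((or_congr (AY_lV_E M).iff (AY_lU_E M).iff).2 h4)) h5) ((or_congr (AY_lV_E M).iff (AY_lU_E M).iff).2 h6)) h7) (AY_lN_E M).good (AY_lN_E M).ne))))))))))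
noncomputable def AY_CV_F : Fm := (.allS AY_lCV (.qf (.and (.mem (.v (nat_lit 0)) AY_lN) (.eq (.pw (.v (nat_lit 0)) (nat_lit 12)) .one))))
theorem AY_CV_chk : Fm.chk A8_o AY_CV_F AY_cs = true := by decide +kernel
theorem AY_CV {G : Type*} [Group G] {R : ℕ → G → Prop} {z x a b c d w v u y s U V A B X r k l f g q q1 q2 q3 n : G}
    (M : Md0 A8_o AY_cs R [z, z⁻¹, x, a, b, c, d, w, v, u, y, s, U, V, A, B, X, r, k, l, f, g, q, q1, q2, q3, n]) :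
    ∀ j ∈ sp [v, u, x, z], j ∈ sp [v, u, x, z, b, n] ∧ j ^ 12 = 1 :=
  have h : ∀ j, InS R AY_lCV j → InS R AY_lN (j) ∧ j ^ 12 = 1 :=
    Fm.sound M.μ AY_CV_F AY_CV_chk M.reps
  (fun j h0 => ((and_congr (AY_lN_E M).iff Iff.rfl).1 (h j ((AY_lCV_E M).iff.2 h0))))

end H2.L3
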