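import Cfsg.Agent.H2.L1

/-! Generated: the three-local amalgam of PSp4(3). -/

set_option maxRecDepth 100000
set_option maxHeartbeats 4000000
set_option linter.unusedVariables false

open Subgroup
open scoped commutatorElement
namespace H2.L3
open H0 H0.PM H16 H19 H10.X

def B1 {G : Type*} [Group G] (a b e x t : G) : Prop :=
  a ^ 3 = 1 ∧
  b ^ 3 = 1 ∧
  e ^ 3 = 1 ∧
  a * b = b * a ∧
  a * e = e * a ∧
  b * e = e * b ∧
  x ^ 3 = 1 ∧
  x * e * x⁻¹ = a ∧
  x * a * x⁻¹ = b ∧
  x * b * x⁻¹ = e ∧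
  t * t = 1 ∧
  t * x * t⁻¹ = x⁻¹ ∧
  t * e = e * t ∧
  t * a * t⁻¹ = b ∧ True
def C1 {G : Type*} [Group G] (a b e x t c : G) : Prop :=
  c * c = 1 ∧
  t * c = c * t ∧
  c * e = e * c ∧
  c * a * c⁻¹ = a⁻¹ ∧
  c * b * c⁻¹ = b⁻¹ ∧
  (c * x) ^ 3 = 1 ∧ True
def Q1 {G : Type*} [Group G] (a b e x t q : G) : Prop :=
  q * q = t ∧
  q * (a * b * e) = a * b * e * q ∧
  (q * e⁻¹) ^ 3 = 1 ∧
  q * x * q⁻¹ = (a * b⁻¹)⁻¹ ∧
  q * (a * b⁻¹) * q⁻¹ = x ∧ True
def B0 {G : Type*} [Group G] (a b e x : G) : Prop :=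
  a ^ 3 = 1 ∧
  b ^ 3 = 1 ∧
  e ^ 3 = 1 ∧
  a * b = b * a ∧
  a * e = e * a ∧
  b * e = e * b ∧
  x ^ 3 = 1 ∧
  x * e * x⁻¹ = a ∧
  x * a * x⁻¹ = b ∧
  x * b * x⁻¹ = e ∧ True
noncomputable def e_neg_Rl : List (List ℕ) := [[0,0],
  [1,2],
  [2,1],
  [3,4],
  [4,3],
  [5,6],
  [6,5],
  [7,8],
  [8,7],
  [1,1,1],
  [3,3,3],
  [5,5,5],
  [4,2,3,1],
  [6,2,5,1],
  [6,4,5,3],
  [7,7,7],
  [2,8,5,7],
  [4,8,1,7],
  [6,8,3,7],
  [7,0,7,0],
  [0,5,0,5],
  [0,2,4,6,0,5,3,1]]
theorem e_neg_r {G : Type*} [Group G] {t a b e x : G}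
    (h : B0 a b e x)
    (tt : t * t = 1)
    (tx : t * x * t⁻¹ = x⁻¹)
    (te : e * (t * e * t⁻¹) = 1)
    (tz : a * b * e * t = t * (a * b * e)) :
    Rels (nthG [t, a, a⁻¹, b, b⁻¹, e, e⁻¹, x, x⁻¹]) e_neg_Rl :=
  rels_of_eqs ((InvI.cons tt InvI.nil) : InvI [t, a, b, e, x] [(nat_lit 0)])
    (AllEq.append (show AllEq [t, a, b, e, x] [((.pw (.v (nat_lit 1)) (nat_lit 3)), .one), ((.pw (.v (nat_lit 2)) (nat_lit 3)), .one), ((.pw (.v (nat_lit 3)) (nat_lit 3)), .one), ((.mul (.v (nat_lit 1)) (.v (nat_lit 2))), (.mul (.v (nat_lit 2)) (.v (nat_lit 1)))), ((.mul (.v (nat_lit 1)) (.v (nat_lit 3))), (.mul (.v (nat_lit 3)) (.v (nat_lit 1)))), ((.mul (.v (nat_lit 2)) (.v (nat_lit 3))), (.mul (.v (nat_lit 3)) (.v (nat_lit 2)))), ((.pw (.v (nat_lit 4)) (nat_lit 3)), .one), ((.mul (.mul (.v (nat_lit 4)) (.v (nat_lit 3))) (.inv (.v (nat_lit 4)))), (.v (nat_lit 1))), ((.mul (.mul (.v (nat_lit 4)) (.v (nat_lit 1))) (.inv (.v (nat_lit 4)))), (.v (nat_lit 2))), ((.mul (.mul (.v (nat_lit 4))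 (.v (nat_lit 2))) (.inv (.v (nat_lit 4)))), (.v (nat_lit 3)))] from h)
    (AllEq.append (show AllEq [t, a, b, e, x] [((.mul (.v (nat_lit 0)) (.v (nat_lit 0))), .one)] from ⟨tt, trivial⟩)
    (AllEq.append (show AllEq [t, a, b, e, x] [((.mul (.mul (.v (nat_lit 0)) (.v (nat_lit 4))) (.inv (.v (nat_lit 0)))), (.inv (.v (nat_lit 4))))] from ⟨tx, trivial⟩)
    (AllEq.append (show AllEq [t, a, b, e, x] [((.mul (.v (nat_lit 3)) (.mul (.mul (.v (nat_lit 0)) (.v (nat_lit 3))) (.inv (.v (nat_lit 0))))), .one)] from ⟨te, trivial⟩)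
    (show AllEq [t, a, b, e, x] [((.mul (.mul (.mul (.v (nat_lit 1)) (.v (nat_lit 2))) (.v (nat_lit 3))) (.v (nat_lit 0))), (.mul (.v (nat_lit 0)) (.mul (.mul (.v (nat_lit 1)) (.v (nat_lit 2))) (.v (nat_lit 3)))))] from ⟨tz, trivial⟩)))))
    [(.v (nat_lit 0)), (.v (nat_lit 1)), (.inv (.v (nat_lit 1))), (.v (nat_lit 2)), (.inv (.v (nat_lit 2))), (.v (nat_lit 3)), (.inv (.v (nat_lit 3))), (.v (nat_lit 4)), (.inv (.v (nat_lit 4)))] (by decide +kernel)
noncomputable def e_neg_0_S0 : List ℕ := [nat_lit 0xf00000c006012, nat_lit 0x17000014006014, nat_lit 0x2b000028006012, nat_lit 0x33000007000024004022, nat_lit 0x3700000700002000a022, nat_lit 0x3b00000b000018004018, nat_lit 0x4300000f00002400801e, nat_lit 0x4b00001300001c00201c, nat_lit 0x4f00004c006016, nat_lit 0x5700000600005000401c, nat_lit 0x5b000006000054000020, nat_lit 0x5b00001700002000e020, nat_lit 0x5f00002700003800601e, nat_lit 0x2e00001100003100e024, nat_lit 0x6700002b00003000c018, nat_lit 0x6f00000a00006000601e, nat_lit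 0x2900003600003d00e024, nat_lit 0x63000070000041000053000022, nat_lit 0x47000045000063000000, nat_lit 0x49000047000000, nat_lit 0x4b00004d00006c008024, nat_lit 0x7300003900006700006c000051000021000025004026, nat_lit 0x1600005800005500001a, nat_lit 0x7700002f000034000020, nat_lit 0x1a00000d00005d00e024, nat_lit 0x7300007800006100004300e022, nat_lit 0x1000065000056000002, nat_lit 0x3f00006500005900000c, nat_lit 0x3b00006a000026000006, nat_lit 0x6d00003f00000c, nat_lit 0x7500007200002200000a, nat_lit 0x7a00001e000008]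
noncomputable def e_neg_0_S : List (List ℕ) := [e_neg_0_S0]
noncomputable def e_neg_0_defs : List ℕ := [(nat_lit 0x70000b0000000b0080000a0060000a0030000a0000000a008000090070000500600005007000040060000400500004000000040080000300500003004000020080000100700001003000010020000100100001008000000070000000500000004000000030000000200000001000000000000000000000)]
noncomputable def e_neg_0_recs : List ℕ := [(nat_lit 0x40000600003ff000120000306000030000eff000130000eff0000e0000fff0001500002ff000030001c000001d00010060000c0001d060001c0000e02000150001c000001a0001200000040000aff0000a00011ff0000400018000001b0001406000170001b010000b00019000001700016060000d0001705000070001606000140001604000130001506000120001304000060001205000080001002000050000e00000070000d00000080000c02000090000a040000400005020000200003)]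
noncomputable def e_neg_0_T : List (List ℕ × ℕ) := [([5,3,1], (nat_lit 0x1000007e00001b))]
noncomputable def e_neg_0_D : H26.Dag := ⟨[0,2,1,4,3,6,5,8,7], [[0,0],
  [1,2],
  [2,1],
  [3,4],
  [4,3],
  [5,6],
  [6,5],
  [7,8],
  [8,7],
  [1,1,1],
  [3,3,3],
  [5,5,5],
  [4,2,3,1],
  [6,2,5,1],
  [6,4,5,3],
  [2,8,5,7],
  [6,8,3,7],
  [7,0,7,0],
  [0,5,0,5],
  [0,2,4,6,0,5,3,1]], [], e_neg_0_defs, e_neg_0_recs⟩
theorem e_neg_0_c : e_neg_0_D.check e_neg_0_S e_neg_0_T = true := by decide +kernel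
theorem e_neg_0 {G : Type*} [Group G] {g : ℕ → G} (hR : Rels g e_neg_Rl) {H : Subgroup G}
    (hH : ∀ k ∈ [], g k ∈ H) : evA g [5,3,1] ∈ H :=
  mem_dag (K := 9) (J := [0,1,2,3,4,5,6,7,8,9,10,11,12,13,14,16,18,19,20,21]) (D := e_neg_0_D) (by decide +kernel) e_neg_0_c (by decide +kernel) hR hH
theorem e_neg {G : Type*} [Group G] {t a b e x : G}
    (h : B0 a b e x)
    (tt : t * t = 1)
    (tx : t * x * t⁻¹ = x⁻¹)
    (te : e * (t * e * t⁻¹) = 1)
    (tz : a * b * e * t = t * (a * b * e)) :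
    a * b * e = 1 :=
  mul_inv_eq_one.1 ((evA_eq_tm ((InvI.cons tt InvI.nil) : InvI [t, a, b, e, x] [(nat_lit 0)]) [(.v (nat_lit 0)), (.v (nat_lit 1)), (.inv (.v (nat_lit 1))), (.v (nat_lit 2)), (.inv (.v (nat_lit 2))), (.v (nat_lit 3)), (.inv (.v (nat_lit 3))), (.v (nat_lit 4)), (.inv (.v (nat_lit 4)))] [5,3,1] (.mul (.mul (.mul (.v (nat_lit 1)) (.v (nat_lit 2))) (.v (nat_lit 3))) (.inv .one)) (by decide +kernel)).symm.trans (Subgroup.mem_bot.1 (e_neg_0 (e_neg_r h tt tx te tz) (H := ⊥) (List.forall_mem_nil _))))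
noncomputable def e_pos_Rl : List (List ℕ) := [[0,0],
  [1,2],
  [2,1],
  [3,4],
  [4,3],
  [5,6],
  [6,5],
  [7,8],
  [8,7],
  [1,1,1],
  [3,3,3],
  [5,5,5],
  [4,2,3,1],
  [6,2,5,1],
  [6,4,5,3],
  [7,7,7],
  [2,8,5,7],
  [4,8,1,7],
  [6,8,3,7],
  [7,0,7,0],
  [6,0,5,0]]
theorem e_pos_r {G : Type*} [Group G] {t a b e x : G}
    (h : B0 a b e x)
    (tt : t * t = 1)
    (tx : t * x * t⁻¹ = x⁻¹)
    (te : t * e = e * t) :
    Rels (nthG [t, a, a⁻¹, b, b⁻¹, e, e⁻¹, x, x⁻¹]) e_pos_Rl :=
  rels_of_eqs ((InvI.cons tt InvI.nil) : InvI [t, a, b, e, x] [(nat_lit 0)])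
    (AllEq.append (show AllEq [t, a, b, e, x] [((.pw (.v (nat_lit 1)) (nat_lit 3)), .one), ((.pw (.v (nat_lit 2)) (nat_lit 3)), .one), ((.pw (.v (nat_lit 3)) (nat_lit 3)), .one), ((.mul (.v (nat_lit 1)) (.v (nat_lit 2))), (.mul (.v (nat_lit 2)) (.v (nat_lit 1)))), ((.mul (.v (nat_lit 1)) (.v (nat_lit 3))), (.mul (.v (nat_lit 3)) (.v (nat_lit 1)))), ((.mul (.v (nat_lit 2)) (.v (nat_lit 3))), (.mul (.v (nat_lit 3)) (.v (nat_lit 2)))), ((.pw (.v (nat_lit 4)) (nat_lit 3)), .one), ((.mul (.mul (.v (nat_lit 4)) (.v (nat_lit 3))) (.inv (.v (nat_lit 4)))), (.v (nat_lit 1))), ((.mul (.mul (.v (nat_lit 4)) (.v (nat_lit 1))) (.inv (.v (nat_lit 4)))), (.v (nat_lit 2))), ((.mul (.mul (.v (nat_lit 4)) (.v (nat_lit 2))) (.inv (.v (nat_lit 4)))), (.v (nat_lit 3)))] from h)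
    (AllEq.append (show AllEq [t, a, b, e, x] [((.mul (.v (nat_lit 0)) (.v (nat_lit 0))), .one)] from ⟨tt, trivial⟩)
    (AllEq.append (show AllEq [t, a, b, e, x] [((.mul (.mul (.v (nat_lit 0)) (.v (nat_lit 4))) (.inv (.v (nat_lit 0)))), (.inv (.v (nat_lit 4))))] from ⟨tx, trivial⟩)
    (show AllEq [t, a, b, e, x] [((.mul (.v (nat_lit 0)) (.v (nat_lit 3))), (.mul (.v (nat_lit 3)) (.v (nat_lit 0))))] from ⟨te, trivial⟩))))
    [(.v (nat_lit 0)), (.v (nat_lit 1)), (.inv (.v (nat_lit 1))), (.v (nat_lit 2)), (.inv (.v (nat_lit 2))), (.v (nat_lit 3)), (.inv (.v (nat_lit 3))), (.v (nat_lit 4)), (.inv (.v (nat_lit 4)))] (by decide +kernel)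
noncomputable def e_pos_0_S0 : List ℕ := [nat_lit 0xf00000c006014, nat_lit 0x1b000018006012, nat_lit 0x1f00000700001400a01a, nat_lit 0x2300000b000014000018, nat_lit 0x2b000002000024000018, nat_lit 0x2f000017000020006016, nat_lit 0xe00000900001500c01c, nat_lit 0x37000006000030006016, nat_lit 0x1200001a00001d00c01c, nat_lit 0x3300003800002100002b00001a, nat_lit 0x27000025000033000000, nat_lit 0x29000027000000]
noncomputable def e_pos_0_S : List (List ℕ) := [e_pos_0_S0]
noncomputable def e_pos_0_defs : List ℕ := [(nat_lit 0x80000600000006008000050070000300000003007000020080000100200001001000010070000000400000003000000000000000000000)]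
noncomputable def e_pos_0_recs : List ℕ := [(nat_lit 0x300006ff0000600009ff000030000c000000d0000a060000b0000d000000b0000806000070000b06000080000a060000400008000000400007020000500006040000200003)]
noncomputable def e_pos_0_T : List (List ℕ × ℕ) := [([4,0,1,0], (nat_lit 0x800001c00002e00000f))]
noncomputable def e_pos_0_D : H26.Dag := ⟨[0,2,1,4,3,6,5,8,7], [[0,0],
  [1,2],
  [2,1],
  [3,4],
  [4,3],
  [5,6],
  [6,5],
  [7,8],
  [8,7],
  [1,1,1],
  [3,3,3],
  [2,8,5,7],
  [6,8,3,7],
  [7,0,7,0],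
  [6,0,5,0]], [], e_pos_0_defs, e_pos_0_recs⟩
theorem e_pos_0_c : e_pos_0_D.check e_pos_0_S e_pos_0_T = true := by decide +kernel
theorem e_pos_0 {G : Type*} [Group G] {g : ℕ → G} (hR : Rels g e_pos_Rl) {H : Subgroup G}
    (hH : ∀ k ∈ [], g k ∈ H) : evA g [4,0,1,0] ∈ H :=
  mem_dag (K := 9) (J := [0,1,2,3,4,5,6,7,8,9,10,16,18,19,20]) (D := e_pos_0_D) (by decide +kernel) e_pos_0_c (by decide +kernel) hR hH
theorem e_pos {G : Type*} [Group G] {t a b e x : G}
    (h : B0 a b e x)
    (tt : t * t = 1)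
    (tx : t * x * t⁻¹ = x⁻¹)
    (te : t * e = e * t) :
    t * a * t⁻¹ = b :=
  mul_inv_eq_one.1 ((evA_eq_tm ((InvI.cons tt InvI.nil) : InvI [t, a, b, e, x] [(nat_lit 0)]) [(.v (nat_lit 0)), (.v (nat_lit 1)), (.inv (.v (nat_lit 1))), (.v (nat_lit 2)), (.inv (.v (nat_lit 2))), (.v (nat_lit 3)), (.inv (.v (nat_lit 3))), (.v (nat_lit 4)), (.inv (.v (nat_lit 4)))] [4,0,1,0] (.mul (.mul (.mul (.v (nat_lit 0)) (.v (nat_lit 1))) (.inv (.v (nat_lit 0)))) (.inv (.v (nat_lit 2)))) (by decide +kernel)).symm.trans (Subgroup.mem_bot.1 (e_pos_0 (e_pos_r h tt tx te) (H := ⊥) (List.forall_mem_nil _))))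
noncomputable def e_fix_Rl : List (List ℕ) := [[0,1],
  [1,0],
  [2,3],
  [3,2],
  [4,5],
  [5,4],
  [6,7],
  [7,6],
  [0,0,0],
  [2,2,2],
  [4,4,4],
  [3,1,2,0],
  [5,1,4,0],
  [5,3,4,2],
  [6,6,6],
  [1,7,4,6],
  [3,7,0,6],
  [5,7,2,6]]
theorem e_fix_r {G : Type*} [Group G] {a b e x : G}
    (h : B0 a b e x) :
    Rels (nthG [a, a⁻¹, b, b⁻¹, e, e⁻¹, x, x⁻¹]) e_fix_Rl :=
  rels_of_eqs (InvI.nil : InvI [a, b, e, x] [])
    (show AllEq [a, b, e, x] [((.pw (.v (nat_lit 0)) (nat_lit 3)), .one), ((.pw (.v (nat_lit 1)) (nat_lit 3)), .one), ((.pw (.v (nat_lit 2)) (nat_lit 3)), .one), ((.mul (.v (nat_lit 0)) (.v (nat_lit 1))), (.mul (.v (nat_lit 1)) (.v (nat_lit 0)))), ((.mul (.v (nat_lit 0)) (.v (nat_lit 2))), (.mul (.v (nat_lit 2)) (.v (nat_lit 0)))), ((.mul (.v (nat_lit 1)) (.v (nat_lit 2))), (.mul (.v (nat_lit 2)) (.v (nat_lit 1)))), ((.pw (.v (nat_lit 3)) (nat_lit 3)), .one), ((.mul (.mul (.v (nat_lit 3)) (.v (nat_lit 2))) (.inv (.v (nat_lit 3)))), (.v (nat_lit 0))), ((.mul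 (.mul (.v (nat_lit 3)) (.v (nat_lit 0))) (.inv (.v (nat_lit 3)))), (.v (nat_lit 1))), ((.mul (.mul (.v (nat_lit 3)) (.v (nat_lit 1))) (.inv (.v (nat_lit 3)))), (.v (nat_lit 2)))] from h)
    [(.v (nat_lit 0)), (.inv (.v (nat_lit 0))), (.v (nat_lit 1)), (.inv (.v (nat_lit 1))), (.v (nat_lit 2)), (.inv (.v (nat_lit 2))), (.v (nat_lit 3)), (.inv (.v (nat_lit 3)))] (by decide +kernel)
noncomputable def e_fix_0_S0 : List ℕ := [nat_lit 0x1300000700000c00a010, nat_lit 0x1b00000b000010008016, nat_lit 0x1f00000200001800a012, nat_lit 0x2300001700001c008018, nat_lit 0x2700000a000024008014]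
noncomputable def e_fix_0_S : List (List ℕ) := [e_fix_0_S0]
noncomputable def e_fix_0_defs : List ℕ := [(nat_lit 0x700007007000050050000400700002005000020030000100700000003000000010000000000000)]
noncomputable def e_fix_0_recs : List ℕ := [(nat_lit 0x40000800009020000600008000000500007000000300006000000200004)]
noncomputable def e_fix_0_T : List (List ℕ × ℕ) := [([7,1,3,5,6,4,2,0], (nat_lit 0x800001400002000002800001200000e00000600000f))]
noncomputable def e_fix_0_D : H26.Dag := ⟨[1,0,3,2,5,4,7,6], [[0,1],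
  [1,0],
  [2,3],
  [3,2],
  [4,5],
  [5,4],
  [6,7],
  [7,6],
  [3,1,2,0],
  [5,1,4,0],
  [1,7,4,6],
  [3,7,0,6],
  [5,7,2,6]], [], e_fix_0_defs, e_fix_0_recs⟩
theorem e_fix_0_c : e_fix_0_D.check e_fix_0_S e_fix_0_T = true := by decide +kernel
theorem e_fix_0 {G : Type*} [Group G] {g : ℕ → G} (hR : Rels g e_fix_Rl) {H : Subgroup G}
    (hH : ∀ k ∈ [], g k ∈ H) : evA g [7,1,3,5,6,4,2,0] ∈ H :=
  mem_dag (K := 8) (J := [0,1,2,3,4,5,6,7,11,12,15,16,17]) (D := e_fix_0_D) (by decide +kernel) e_fix_0_c (by decide +kernel) hR hH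
theorem e_fix {G : Type*} [Group G] {a b e x : G}
    (h : B0 a b e x) :
    a * b * e * x = x * (a * b * e) :=
  mul_inv_eq_one.1 ((evA_eq_tm (InvI.nil : InvI [a, b, e, x] []) [(.v (nat_lit 0)), (.inv (.v (nat_lit 0))), (.v (nat_lit 1)), (.inv (.v (nat_lit 1))), (.v (nat_lit 2)), (.inv (.v (nat_lit 2))), (.v (nat_lit 3)), (.inv (.v (nat_lit 3)))] [7,1,3,5,6,4,2,0] (.mul (.mul (.mul (.mul (.v (nat_lit 0)) (.v (nat_lit 1))) (.v (nat_lit 2))) (.v (nat_lit 3))) (.inv (.mul (.v (nat_lit 3)) (.mul (.mul (.v (nat_lit 0)) (.v (nat_lit 1))) (.v (nat_lit 2)))))) (by decide +kernel)).symm.trans (Subgroup.mem_bot.1 (e_fix_0 (e_fix_r h) (H := ⊥) (List.forall_mem_nil _))))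
noncomputable def e_one_Rl : List (List ℕ) := [[0,1],
  [1,0],
  [2,3],
  [3,2],
  [4,5],
  [5,4],
  [6,7],
  [7,6],
  [8,9],
  [9,8],
  [2,2,2],
  [4,4,4],
  [6,6,6],
  [5,3,4,2],
  [7,3,6,2],
  [7,5,6,4],
  [8,8,8],
  [3,9,6,8],
  [5,9,2,8],
  [7,9,4,8],
  [7,1,6,0],
  [2,1,2,0],
  [4,1,4,0],
  [6,4,2]]
theorem e_one_r {G : Type*} [Group G] {c a b e x : G}
    (h : B0 a b e x)
    (c1 : c * e = e * c)
    (c2 : c * a * c⁻¹ = a⁻¹)
    (c3 : c * b * c⁻¹ = b⁻¹)
    (z : a * b * e = 1) :
    Rels (nthG [c, c⁻¹, a, a⁻¹, b, b⁻¹, e, e⁻¹, x, x⁻¹]) e_one_Rl :=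
  rels_of_eqs (InvI.nil : InvI [c, a, b, e, x] [])
    (AllEq.append (show AllEq [c, a, b, e, x] [((.pw (.v (nat_lit 1)) (nat_lit 3)), .one), ((.pw (.v (nat_lit 2)) (nat_lit 3)), .one), ((.pw (.v (nat_lit 3)) (nat_lit 3)), .one), ((.mul (.v (nat_lit 1)) (.v (nat_lit 2))), (.mul (.v (nat_lit 2)) (.v (nat_lit 1)))), ((.mul (.v (nat_lit 1)) (.v (nat_lit 3))), (.mul (.v (nat_lit 3)) (.v (nat_lit 1)))), ((.mul (.v (nat_lit 2)) (.v (nat_lit 3))), (.mul (.v (nat_lit 3)) (.v (nat_lit 2)))), ((.pw (.v (nat_lit 4)) (nat_lit 3)), .one), ((.mul (.mul (.v (nat_lit 4)) (.v (nat_lit 3))) (.inv (.v (nat_lit 4)))), (.v (nat_lit 1))), ((.mul (.mul (.v (nat_lit 4)) (.v (nat_lit 1))) (.inv (.v (nat_lit 4)))), (.v (nat_lit 2))), ((.mul (.mul (.v (nat_lit 4)) (.v (nat_lit 2))) (.inv (.v (nat_lit 4)))), (.v (nat_lit 3)))] from h)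
    (AllEq.append (show AllEq [c, a, b, e, x] [((.mul (.v (nat_lit 0)) (.v (nat_lit 3))), (.mul (.v (nat_lit 3)) (.v (nat_lit 0))))] from ⟨c1, trivial⟩)
    (AllEq.append (show AllEq [c, a, b, e, x] [((.mul (.mul (.v (nat_lit 0)) (.v (nat_lit 1))) (.inv (.v (nat_lit 0)))), (.inv (.v (nat_lit 1))))] from ⟨c2, trivial⟩)
    (AllEq.append (show AllEq [c, a, b, e, x] [((.mul (.mul (.v (nat_lit 0)) (.v (nat_lit 2))) (.inv (.v (nat_lit 0)))), (.inv (.v (nat_lit 2))))] from ⟨c3, trivial⟩)
    (show AllEq [c, a, b, e, x] [((.mul (.mul (.v (nat_lit 1)) (.v (nat_lit 2))) (.v (nat_lit 3))), .one)] from ⟨z, trivial⟩)))))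
    [(.v (nat_lit 0)), (.inv (.v (nat_lit 0))), (.v (nat_lit 1)), (.inv (.v (nat_lit 1))), (.v (nat_lit 2)), (.inv (.v (nat_lit 2))), (.v (nat_lit 3)), (.inv (.v (nat_lit 3))), (.v (nat_lit 4)), (.inv (.v (nat_lit 4)))] (by decide +kernel)
noncomputable def e_one_0_S0 : List ℕ := [nat_lit 0xb000007008014, nat_lit 0x1300000f008016, nat_lit 0x17000006000001008018, nat_lit 0x1000009008020, nat_lit 0x1f00001b00000600c01a, nat_lit 0x2300000d00001100801c, nat_lit 0x2300001700001c00601e, nat_lit 0x1900001600a020, nat_lit 0x1d00002000001d002016, nat_lit 0x1c000021000012000002, nat_lit 0xf00002500000600000e, nat_lit 0x2900000f00000e]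
noncomputable def e_one_0_S : List (List ℕ) := [e_one_0_S0]
noncomputable def e_one_0_defs : List ℕ := [(nat_lit 0x1000050060000600100004005000040060000300600000004000010040000000000000)]
noncomputable def e_one_0_recs : List ℕ := [(nat_lit 0x70000000000ff0000000003ff0000000004ff0000600007070000700006050000600008020000700008000000000007020000500000060000200005060000000004040000000002)]
noncomputable def e_one_0_T : List (List ℕ × ℕ) := [([6], (nat_lit 0x2e))]
noncomputable def e_one_0_D : H26.Dag := ⟨[1,0,3,2,5,4,7,6,9,8], [[0,1],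
  [1,0],
  [2,3],
  [3,2],
  [4,5],
  [5,4],
  [6,7],
  [7,6],
  [8,9],
  [9,8],
  [4,4,4],
  [6,6,6],
  [7,5,6,4],
  [7,1,6,0],
  [2,1,2,0],
  [4,1,4,0],
  [6,4,2]], [], e_one_0_defs, e_one_0_recs⟩
theorem e_one_0_c : e_one_0_D.check e_one_0_S e_one_0_T = true := by decide +kernel
theorem e_one_0 {G : Type*} [Group G] {g : ℕ → G} (hR : Rels g e_one_Rl) {H : Subgroup G}
    (hH : ∀ k ∈ [], g k ∈ H) : evA g [6] ∈ H :=
  mem_dag (K := 10) (J := [0,1,2,3,4,5,6,7,8,9,11,12,15,20,21,22,23]) (D := e_one_0_D) (by decide +kernel) e_one_0_c (by decide +kernel) hR hH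
theorem e_one {G : Type*} [Group G] {c a b e x : G}
    (h : B0 a b e x)
    (c1 : c * e = e * c)
    (c2 : c * a * c⁻¹ = a⁻¹)
    (c3 : c * b * c⁻¹ = b⁻¹)
    (z : a * b * e = 1) :
    e = 1 :=
  mul_inv_eq_one.1 ((evA_eq_tm (InvI.nil : InvI [c, a, b, e, x] []) [(.v (nat_lit 0)), (.inv (.v (nat_lit 0))), (.v (nat_lit 1)), (.inv (.v (nat_lit 1))), (.v (nat_lit 2)), (.inv (.v (nat_lit 2))), (.v (nat_lit 3)), (.inv (.v (nat_lit 3))), (.v (nat_lit 4)), (.inv (.v (nat_lit 4)))] [6] (.mul (.v (nat_lit 3)) (.inv .one)) (by decide +kernel)).symm.trans (Subgroup.mem_bot.1 (e_one_0 (e_one_r h c1 c2 c3 z) (H := ⊥) (List.forall_mem_nil _))))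
noncomputable def c_f_Rl : List (List ℕ) := [[0,0],
  [1,1],
  [2,3],
  [3,2],
  [2,0,2,0],
  [1,0,1,0],
  [2,2,2]]
theorem c_f_r {G : Type*} [Group G] {t c x : G}
    (tt : t * t = 1)
    (tx : t * x * t⁻¹ = x⁻¹)
    (cc : c * c = 1)
    (tc : t * c = c * t)
    (x3 : x ^ 3 = 1) :
    Rels (nthG [t, c, x, x⁻¹]) c_f_Rl :=
  rels_of_eqs ((InvI.cons tt (InvI.cons cc InvI.nil)) : InvI [t, c, x] [(nat_lit 0), (nat_lit 1)])
    (AllEq.append (show AllEq [t, c, x] [((.mul (.v (nat_lit 0)) (.v (nat_lit 0))), .one)] from ⟨tt, trivial⟩)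
    (AllEq.append (show AllEq [t, c, x] [((.mul (.mul (.v (nat_lit 0)) (.v (nat_lit 2))) (.inv (.v (nat_lit 0)))), (.inv (.v (nat_lit 2))))] from ⟨tx, trivial⟩)
    (AllEq.append (show AllEq [t, c, x] [((.mul (.v (nat_lit 1)) (.v (nat_lit 1))), .one)] from ⟨cc, trivial⟩)
    (AllEq.append (show AllEq [t, c, x] [((.mul (.v (nat_lit 0)) (.v (nat_lit 1))), (.mul (.v (nat_lit 1)) (.v (nat_lit 0))))] from ⟨tc, trivial⟩)
    (show AllEq [t, c, x] [((.pw (.v (nat_lit 2)) (nat_lit 3)), .one)] from ⟨x3, trivial⟩)))))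
    [(.v (nat_lit 0)), (.v (nat_lit 1)), (.v (nat_lit 2)), (.inv (.v (nat_lit 2)))] (by decide +kernel)
noncomputable def c_f_0_S0 : List ℕ := [nat_lit 0x17000014006008]
noncomputable def c_f_0_S : List (List ℕ) := [c_f_0_S0]
noncomputable def c_f_0_defs : List ℕ := [(nat_lit 0x3000030020000300100002003000010010000000000000)]
noncomputable def c_f_0_recs : List ℕ := [(nat_lit 0x30000400005)]
noncomputable def c_f_0_T : List (List ℕ × ℕ) := [([1,3,1,3,3,3,1,2,1], (nat_lit 0x800000c00001000001400000100001700000f00000b000007))]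
noncomputable def c_f_0_D : H26.Dag := ⟨[0,1,3,2], [[0,0],
  [1,1],
  [2,3],
  [3,2],
  [2,2,2]], [], c_f_0_defs, c_f_0_recs⟩
theorem c_f_0_c : c_f_0_D.check c_f_0_S c_f_0_T = true := by decide +kernel
theorem c_f_0 {G : Type*} [Group G] {g : ℕ → G} (hR : Rels g c_f_Rl) {H : Subgroup G}
    (hH : ∀ k ∈ [], g k ∈ H) : evA g [1,3,1,3,3,3,1,2,1] ∈ H :=
  mem_dag (K := 4) (J := [0,1,2,3,6]) (D := c_f_0_D) (by decide +kernel) c_f_0_c (by decide +kernel) hR hH
noncomputable def c_f_1_S0 : List ℕ := [nat_lit 0x17000014006008, nat_lit 0x2b000028006008]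
noncomputable def c_f_1_S : List (List ℕ) := [c_f_1_S0]
noncomputable def c_f_1_defs : List ℕ := [(nat_lit 0x30000800200008001000070030000600100004003000030020000300100002003000010010000000000000)]
noncomputable def c_f_1_recs : List ℕ := [(nat_lit 0x3000090000a030000400005)]
noncomputable def c_f_1_T : List (List ℕ × ℕ) := [([1,3,1,3,3,1,3,1,3,3,3,1,2,1,3,1,2,1], (nat_lit 0x800000c00001000001400001c00002000002400002800000500002b00002300001f00001b00000100001700000f00000b000007))]
noncomputable def c_f_1_D : H26.Dag := ⟨[0,1,3,2], [[0,0],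
  [1,1],
  [2,3],
  [3,2],
  [2,2,2]], [], c_f_1_defs, c_f_1_recs⟩
theorem c_f_1_c : c_f_1_D.check c_f_1_S c_f_1_T = true := by decide +kernel
theorem c_f_1 {G : Type*} [Group G] {g : ℕ → G} (hR : Rels g c_f_Rl) {H : Subgroup G}
    (hH : ∀ k ∈ [], g k ∈ H) : evA g [1,3,1,3,3,1,3,1,3,3,3,1,2,1,3,1,2,1] ∈ H :=
  mem_dag (K := 4) (J := [0,1,2,3,6]) (D := c_f_1_D) (by decide +kernel) c_f_1_c (by decide +kernel) hR hH
noncomputable def c_f_2_S0 : List ℕ := [nat_lit 0xf00000700000c004008, nat_lit 0x1700000200001400400a, nat_lit 0x1f00000600001c00a008]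
noncomputable def c_f_2_S : List (List ℕ) := [c_f_2_S0]
noncomputable def c_f_2_defs : List ℕ := [(nat_lit 0x30000500200004001000030010000200200001003000000000000000000000)]
noncomputable def c_f_2_recs : List ℕ := [(nat_lit 0x600007000000400005000000200003)]
noncomputable def c_f_2_T : List (List ℕ × ℕ) := [([3,1,2,0,2,1,3,0], (nat_lit 0x800001000001800002000000a00001b00001300000b))]
noncomputable def c_f_2_D : H26.Dag := ⟨[0,1,3,2], [[0,0],
  [1,1],
  [2,3],
  [3,2],
  [2,0,2,0],
  [1,0,1,0]], [], c_f_2_defs, c_f_2_recs⟩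
theorem c_f_2_c : c_f_2_D.check c_f_2_S c_f_2_T = true := by decide +kernel
theorem c_f_2 {G : Type*} [Group G] {g : ℕ → G} (hR : Rels g c_f_Rl) {H : Subgroup G}
    (hH : ∀ k ∈ [], g k ∈ H) : evA g [3,1,2,0,2,1,3,0] ∈ H :=
  mem_dag (K := 4) (J := [0,1,2,3,4,5]) (D := c_f_2_D) (by decide +kernel) c_f_2_c (by decide +kernel) hR hH
noncomputable def c_f_3_S : List (List ℕ) := []
noncomputable def c_f_3_defs : List ℕ := [(nat_lit 0x0)]
noncomputable def c_f_3_recs : List ℕ := []
noncomputable def c_f_3_T : List (List ℕ × ℕ) := [([], (nat_lit 0x0))]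
noncomputable def c_f_3_D : H26.Dag := ⟨[0,1,3,2], [[0,0],
  [1,1],
  [2,3],
  [3,2]], [], c_f_3_defs, c_f_3_recs⟩
theorem c_f_3_c : c_f_3_D.check c_f_3_S c_f_3_T = true := by decide +kernel
theorem c_f_3 {G : Type*} [Group G] {g : ℕ → G} (hR : Rels g c_f_Rl) {H : Subgroup G}
    (hH : ∀ k ∈ [], g k ∈ H) : evA g [] ∈ H :=
  mem_dag (K := 4) (J := [0,1,2,3]) (D := c_f_3_D) (by decide +kernel) c_f_3_c (by decide +kernel) hR hH
noncomputable def c_f_4_S0 : List ℕ := [nat_lit 0xf00000700000c00a008, nat_lit 0x1700000200001400400a, nat_lit 0x1f00000600001c00a008, nat_lit 0x2700000a00002400400a, nat_lit 0x2f00000e00002c00a008, nat_lit 0x3700001200003400400a]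
noncomputable def c_f_4_S : List (List ℕ) := [c_f_4_S0]
noncomputable def c_f_4_defs : List ℕ := [(nat_lit 0x10000b0010000a003000090020000800100007001000060030000500200004001000030010000200300001002000000000000000000000)]
noncomputable def c_f_4_recs : List ℕ := [(nat_lit 0xc0000d000000a0000b000000800009000000600007000000400005000000200003)]
noncomputable def c_f_4_T : List (List ℕ × ℕ) := [([2,1,2,1,2,1,0,1,2,1,2,1,2,0], (nat_lit 0x800001000001800002000002800003000003800001600003300002b00002300001b00001300000b))]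
noncomputable def c_f_4_D : H26.Dag := ⟨[0,1,3,2], [[0,0],
  [1,1],
  [2,3],
  [3,2],
  [2,0,2,0],
  [1,0,1,0]], [], c_f_4_defs, c_f_4_recs⟩
theorem c_f_4_c : c_f_4_D.check c_f_4_S c_f_4_T = true := by decide +kernel
theorem c_f_4 {G : Type*} [Group G] {g : ℕ → G} (hR : Rels g c_f_Rl) {H : Subgroup G}
    (hH : ∀ k ∈ [], g k ∈ H) : evA g [2,1,2,1,2,1,0,1,2,1,2,1,2,0] ∈ H :=
  mem_dag (K := 4) (J := [0,1,2,3,4,5]) (D := c_f_4_D) (by decide +kernel) c_f_4_c (by decide +kernel) hR hH
theorem c_f {G : Type*} [Group G] {t c x : G}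
    (tt : t * t = 1)
    (tx : t * x * t⁻¹ = x⁻¹)
    (cc : c * c = 1)
    (tc : t * c = c * t)
    (x3 : x ^ 3 = 1) :
    c * (x * c * x⁻¹) * (x⁻¹ * c * x) = (c * x) ^ 3 ∧ (c * (x * c * x⁻¹)) ^ 2 = (c * x) ^ 3 * (x⁻¹ * c * x * (c * x) ^ 3 * (x⁻¹ * c * x)⁻¹) ∧ t * (x⁻¹ * c * x) * t⁻¹ = x * c * x⁻¹ ∧ x * (c * x) ^ 3 * x⁻¹ = c * (c * x) ^ 3 * c⁻¹ ∧ t * (c * (c * x) ^ 3 * c⁻¹) * t⁻¹ = ((c * x) ^ 3)⁻¹ :=
  ⟨mul_inv_eq_one.1 ((evA_eq_tm ((InvI.cons tt (InvI.cons cc InvI.nil)) : InvI [t, c, x] [(nat_lit 0), (nat_lit 1)]) [(.v (nat_lit 0)), (.v (nat_lit 1)), (.v (nat_lit 2)), (.inv (.v (nat_lit 2)))] [1,3,1,3,3,3,1,2,1] (.mul (.mul (.mul (.v (nat_lit 1)) (.mul (.mul (.v (nat_lit 2)) (.v (nat_lit 1))) (.inv (.v (nat_lit 2))))) (.mul (.mul (.inv (.v (nat_lit 2))) (.v (nat_lit 1))) (.v (nat_lit 2)))) (.inv (.pw (.mul (.v (nat_lit 1)) (.v (nat_lit 2))) (nat_lit 3)))) (by decide +kernel)).symm.trans (Subgroup.mem_bot.1 (c_f_0 (c_f_r tt tx cc tc x3) (H := ⊥) (List.forall_mem_nil _)))),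
   mul_inv_eq_one.1 ((evA_eq_tm ((InvI.cons tt (InvI.cons cc InvI.nil)) : InvI [t, c, x] [(nat_lit 0), (nat_lit 1)]) [(.v (nat_lit 0)), (.v (nat_lit 1)), (.v (nat_lit 2)), (.inv (.v (nat_lit 2)))] [1,3,1,3,3,1,3,1,3,3,3,1,2,1,3,1,2,1] (.mul (.pw (.mul (.v (nat_lit 1)) (.mul (.mul (.v (nat_lit 2)) (.v (nat_lit 1))) (.inv (.v (nat_lit 2))))) (nat_lit 2)) (.inv (.mul (.pw (.mul (.v (nat_lit 1)) (.v (nat_lit 2))) (nat_lit 3)) (.mul (.mul (.mul (.mul (.inv (.v (nat_lit 2))) (.v (nat_lit 1))) (.v (nat_lit 2))) (.pw (.mul (.v (nat_lit 1)) (.v (nat_lit 2))) (nat_lit 3))) (.inv (.mul (.mul (.inv (.v (nat_lit 2))) (.v (nat_lit 1))) (.v (nat_lit 2)))))))) (by decide +kernel)).symm.trans (Subgroup.mem_bot.1 (c_f_1 (c_f_r tt tx cc tc x3) (H := ⊥) (List.forall_mem_nil _)))),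
   mul_inv_eq_one.1 ((evA_eq_tm ((InvI.cons tt (InvI.cons cc InvI.nil)) : InvI [t, c, x] [(nat_lit 0), (nat_lit 1)]) [(.v (nat_lit 0)), (.v (nat_lit 1)), (.v (nat_lit 2)), (.inv (.v (nat_lit 2)))] [3,1,2,0,2,1,3,0] (.mul (.mul (.mul (.v (nat_lit 0)) (.mul (.mul (.inv (.v (nat_lit 2))) (.v (nat_lit 1))) (.v (nat_lit 2)))) (.inv (.v (nat_lit 0)))) (.inv (.mul (.mul (.v (nat_lit 2)) (.v (nat_lit 1))) (.inv (.v (nat_lit 2)))))) (by decide +kernel)).symm.trans (Subgroup.mem_bot.1 (c_f_2 (c_f_r tt tx cc tc x3) (H := ⊥) (List.forall_mem_nil _)))),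
   mul_inv_eq_one.1 ((evA_eq_tm ((InvI.cons tt (InvI.cons cc InvI.nil)) : InvI [t, c, x] [(nat_lit 0), (nat_lit 1)]) [(.v (nat_lit 0)), (.v (nat_lit 1)), (.v (nat_lit 2)), (.inv (.v (nat_lit 2)))] [] (.mul (.mul (.mul (.v (nat_lit 2)) (.pw (.mul (.v (nat_lit 1)) (.v (nat_lit 2))) (nat_lit 3))) (.inv (.v (nat_lit 2)))) (.inv (.mul (.mul (.v (nat_lit 1)) (.pw (.mul (.v (nat_lit 1)) (.v (nat_lit 2))) (nat_lit 3))) (.inv (.v (nat_lit 1)))))) (by decide +kernel)).symm.trans (Subgroup.mem_bot.1 (c_f_3 (c_f_r tt tx cc tc x3) (H := ⊥) (List.forall_mem_nil _)))),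
   mul_inv_eq_one.1 ((evA_eq_tm ((InvI.cons tt (InvI.cons cc InvI.nil)) : InvI [t, c, x] [(nat_lit 0), (nat_lit 1)]) [(.v (nat_lit 0)), (.v (nat_lit 1)), (.v (nat_lit 2)), (.inv (.v (nat_lit 2)))] [2,1,2,1,2,1,0,1,2,1,2,1,2,0] (.mul (.mul (.mul (.v (nat_lit 0)) (.mul (.mul (.v (nat_lit 1)) (.pw (.mul (.v (nat_lit 1)) (.v (nat_lit 2))) (nat_lit 3))) (.inv (.v (nat_lit 1))))) (.inv (.v (nat_lit 0)))) (.inv (.inv (.pw (.mul (.v (nat_lit 1)) (.v (nat_lit 2))) (nat_lit 3))))) (by decide +kernel)).symm.trans (Subgroup.mem_bot.1 (c_f_4 (c_f_r tt tx cc tc x3) (H := ⊥) (List.forall_mem_nil _))))⟩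
noncomputable def eig_Rl : List (List ℕ) := [[0,0],
  [1,1],
  [2,3],
  [3,2],
  [2,2,2],
  [3,0,1,0,1,2,1,0,1,0],
  [0,3,0,3,0,2,0,2],
  [1,3,1,3,1,2,1,2],
  [0,1,3,1,0,3,0,1,2,1,0,2],
  [1,3,1,0,3,0,1,2,1,0,2,0],
  [0,1,3,1,3,1,2,1,2,0],
  [0,1,3,1,0,1,3,1,0,1,2,1,0,1,2,1]]
theorem eig_r {G : Type*} [Group G] {c d j : G}
    (cc : c * c = 1)
    (dd : d * d = 1)
    (j3 : j ^ 3 = 1)
    (u0 : (c * d) ^ 2 * j = j * (c * d) ^ 2)
    (m01 : j * (c * j * c⁻¹) = c * j * c⁻¹ * j)
    (m02 : j * (d * j * d⁻¹) = d * j * d⁻¹ * j)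
    (m03 : j * (c * d * j * (c * d)⁻¹) = c * d * j * (c * d)⁻¹ * j)
    (m12 : c * j * c⁻¹ * (d * j * d⁻¹) = d * j * d⁻¹ * (c * j * c⁻¹))
    (m13 : c * j * c⁻¹ * (c * d * j * (c * d)⁻¹) = c * d * j * (c * d)⁻¹ * (c * j * c⁻¹))
    (m23 : d * j * d⁻¹ * (c * d * j * (c * d)⁻¹) = c * d * j * (c * d)⁻¹ * (d * j * d⁻¹)) :
    Rels (nthG [c, d, j, j⁻¹]) eig_Rl :=
  rels_of_eqs ((InvI.cons cc (InvI.cons dd InvI.nil)) : InvI [c, d, j] [(nat_lit 0), (nat_lit 1)])
    (AllEq.append (show AllEq [c, d, j] [((.mul (.v (nat_lit 0)) (.v (nat_lit 0))), .one)] from ⟨cc, trivial⟩)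
    (AllEq.append (show AllEq [c, d, j] [((.mul (.v (nat_lit 1)) (.v (nat_lit 1))), .one)] from ⟨dd, trivial⟩)
    (AllEq.append (show AllEq [c, d, j] [((.pw (.v (nat_lit 2)) (nat_lit 3)), .one)] from ⟨j3, trivial⟩)
    (AllEq.append (show AllEq [c, d, j] [((.mul (.pw (.mul (.v (nat_lit 0)) (.v (nat_lit 1))) (nat_lit 2)) (.v (nat_lit 2))), (.mul (.v (nat_lit 2)) (.pw (.mul (.v (nat_lit 0)) (.v (nat_lit 1))) (nat_lit 2))))] from ⟨u0, trivial⟩)
    (AllEq.append (show AllEq [c, d, j] [((.mul (.v (nat_lit 2)) (.mul (.mul (.v (nat_lit 0)) (.v (nat_lit 2))) (.inv (.v (nat_lit 0))))), (.mul (.mul (.mul (.v (nat_lit 0)) (.v (nat_lit 2))) (.inv (.v (nat_lit 0)))) (.v (nat_lit 2))))] from ⟨m01, trivial⟩)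
    (AllEq.append (show AllEq [c, d, j] [((.mul (.v (nat_lit 2)) (.mul (.mul (.v (nat_lit 1)) (.v (nat_lit 2))) (.inv (.v (nat_lit 1))))), (.mul (.mul (.mul (.v (nat_lit 1)) (.v (nat_lit 2))) (.inv (.v (nat_lit 1)))) (.v (nat_lit 2))))] from ⟨m02, trivial⟩)
    (AllEq.append (show AllEq [c, d, j] [((.mul (.v (nat_lit 2)) (.mul (.mul (.mul (.v (nat_lit 0)) (.v (nat_lit 1))) (.v (nat_lit 2))) (.inv (.mul (.v (nat_lit 0)) (.v (nat_lit 1)))))), (.mul (.mul (.mul (.mul (.v (nat_lit 0)) (.v (nat_lit 1))) (.v (nat_lit 2))) (.inv (.mul (.v (nat_lit 0)) (.v (nat_lit 1))))) (.v (nat_lit 2))))] from ⟨m03, trivial⟩)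
    (AllEq.append (show AllEq [c, d, j] [((.mul (.mul (.mul (.v (nat_lit 0)) (.v (nat_lit 2))) (.inv (.v (nat_lit 0)))) (.mul (.mul (.v (nat_lit 1)) (.v (nat_lit 2))) (.inv (.v (nat_lit 1))))), (.mul (.mul (.mul (.v (nat_lit 1)) (.v (nat_lit 2))) (.inv (.v (nat_lit 1)))) (.mul (.mul (.v (nat_lit 0)) (.v (nat_lit 2))) (.inv (.v (nat_lit 0))))))] from ⟨m12, trivial⟩)
    (AllEq.append (show AllEq [c, d, j] [((.mul (.mul (.mul (.v (nat_lit 0)) (.v (nat_lit 2))) (.inv (.v (nat_lit 0)))) (.mul (.mul (.mul (.v (nat_lit 0)) (.v (nat_lit 1))) (.v (nat_lit 2))) (.inv (.mul (.v (nat_lit 0)) (.v (nat_lit 1)))))), (.mul (.mul (.mul (.mul (.v (nat_lit 0)) (.v (nat_lit 1))) (.v (nat_lit 2))) (.inv (.mul (.v (nat_lit 0)) (.v (nat_lit 1))))) (.mul (.mul (.v (nat_lit 0)) (.v (nat_lit 2))) (.inv (.v (nat_lit 0))))))] from ⟨m13, trivial⟩)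
    (show AllEq [c, d, j] [((.mul (.mul (.mul (.v (nat_lit 1)) (.v (nat_lit 2))) (.inv (.v (nat_lit 1)))) (.mul (.mul (.mul (.v (nat_lit 0)) (.v (nat_lit 1))) (.v (nat_lit 2))) (.inv (.mul (.v (nat_lit 0)) (.v (nat_lit 1)))))), (.mul (.mul (.mul (.mul (.v (nat_lit 0)) (.v (nat_lit 1))) (.v (nat_lit 2))) (.inv (.mul (.v (nat_lit 0)) (.v (nat_lit 1))))) (.mul (.mul (.v (nat_lit 1)) (.v (nat_lit 2))) (.inv (.v (nat_lit 1))))))] from ⟨m23, trivial⟩))))))))))
    [(.v (nat_lit 0)), (.v (nat_lit 1)), (.v (nat_lit 2)), (.inv (.v (nat_lit 2)))] (by decide +kernel)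
noncomputable def eig_0_S0 : List ℕ := [nat_lit 0x27000024006008, nat_lit 0x7b000078006008, nat_lit 0x87000084006008, nat_lit 0x9700004300001b00000700001000002c00006400000c, nat_lit 0x9b00004300001b00000700001400003400007000800c, nat_lit 0xbb00005700002300000b00001400003800007800800e, nat_lit 0xc700005f0000020000580000bc00001600000500800e, nat_lit 0xe700007f00003b00001700000700001400003400006c0000d401600a, nat_lit 0xeb00008300003b00001700000700000c0000240000580000b800600a, nat_lit 0xf300008700003b00001700000700000c0000280000600000c400800a, nat_lit 0x103000100006008, nat_lit 0x10700008f00003f00001700000700000c0000200000500000ac02000a, nat_lit 0x10b00008f00003f00001700001c0000480000a400000e, nat_lit 0x10f00009300004300001b00000700000c00002000004c0000a800e00a, nat_lit 0x117000114006008, nat_lit 0x15f00015c006008, nat_lit 0x17f0000ef0000830000800000e800001e00015c00800e, nat_lit 0x1830000f300008700003b00004000008c00010401800c, nat_lit 0x1870000f700000a0000f000018000004200003d00800e,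 nat_lit 0x18b0000fb00008b00003f00003c0000800000e800001e0000d30000d800016400c010, nat_lit 0x19700002e0000ab00004f00001f00000b0000100000300000680000d000015402a010, nat_lit 0x19b00002e0000ab00004f00001f00000b0000140000380000740000e000016c00c010, nat_lit 0x1a30000360000a700004b0000500000b000013800000e, nat_lit 0x1a70001130001100000360000a700004b00001f0000240000540000b400013c004010, nat_lit 0x1ab0001a800005e00013b0000b30000530000580000b800014002400a, nat_lit 0x1af00003a0001a800005e00013b0000b300005300000100005c0000c0000144004010, nat_lit 0x1b30001b00000660001430000bf00005b0000600000c400014802400a, nat_lit 0x1b700011b00000e00006300002b0000300000680000cc00015000e00a, nat_lit 0x1bb00011f00001200006f0000330000380000740000dc00016800e00a, nat_lit 0x1c30001c0006008, nat_lit 0x1c700012300009f0000470000440000940001140001ac00006200600a, nat_lit 0x1cb00012700009f0000470000440000940001180001b400006a00800a, nat_lit 0x1d70001330000af0000ac00002d00019800005200015300015800200a, nat_lit 0x1db0001330000af0000ac00002d00019c00005600016b00017000400a,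 nat_lit 0x1e300014b0000c70000c40000250000f30000f800018800004a00c00a, nat_lit 0x1f30001f0006008, nat_lit 0x20700004600010300008b00009000010800002e0001300001d400c00a, nat_lit 0x20b00018f0000ff0000fc00018c00004e0001f000800e, nat_lit 0x20f00019300002a00019000020c00009600008d00800e, nat_lit 0x21300019f0000320000a30000470000440000940001100001a402400a, nat_lit 0x21b000218006008, nat_lit 0x2230001ab00011300009300009c0001200001c000800e, nat_lit 0x22700006a0001470000c30000c800014c0001e800800c, nat_lit 0x2270001b300003a0001ac0002240000a600007500800e, nat_lit 0x22b00006e00014f0000cb0000d00001580001ec00000e, nat_lit 0x22f0000720001670000db0000e00001700001f800000e, nat_lit 0x2330000ad0000aa0001e700014b00001a0000e40001740001fc00e00a, nat_lit 0x23b0001cb00012700009f0000a400012c0001d001800c, nat_lit 0x2430001df0001370001340001d80000820001ec00000c, nat_lit 0x247000244006008, nat_lit 0x2470001df0001370001340001dc0000860001f800800c, nat_lit 0x24b00008a00015f0000d30000d80001640001f401800c,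 nat_lit 0x25700020300017b00002200014000007900023800000e, nat_lit 0x25b00020700018300002600014800007d00023c00000e, nat_lit 0x25f00009e0001a300010f0001140001a800022000000c, nat_lit 0x263000260006008, nat_lit 0x26700021700021400009e00005a0001e00002440000c20000b101c00a, nat_lit 0x26b0000a20002680000e20000b20000c10000c50000ca0000b501c00a, nat_lit 0x26f0000ba0001fb00017300017800020000025400000e, nat_lit 0x27300023f00009100020700004600019400021000009a0000cd00800a, nat_lit 0x27b0000d200023700007a0000610001ab0001a80002200000d902000a, nat_lit 0x27f0000d60000be0001cf00012b0000310001a000021400026401000a, nat_lit 0x287000284006008, nat_lit 0x2870000e600022f0001bb0001c400023400027000800c]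
noncomputable def eig_0_S1 : List ℕ := [nat_lit 0x28b0000ee00024b0001e30001e800025000027800000e, nat_lit 0x28f0000f200025f00021300021c00026c00028400800e, nat_lit 0x29300027f00025b00009200024000027400028c00800c, nat_lit 0x2930000f60000de0000f10002900001060000f900800e]
noncomputable def eig_0_S : List (List ℕ) := [eig_0_S0, eig_0_S1]
noncomputable def eig_0_defs : List ℕ := [(nat_lit 0x20002200100022001000210000002100100020000000200030001f0000001e0020001c0010001c0020001a0000001a002000190010001900300017000000170010001600300015000000150010001400100013000000130020001200200011000000110030001000200010001000100010000f0000000f0030000e0020000e0010000e0030000d0020000d0000000d0020000c0010000c0000000b0020000a001000090000000900100008000000080020000700100007001000060000000600200005000000050010000400000004001000030000000300300002002000020000000200200001001000010030000000200000001000000000000000000000),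
  (nat_lit 0x10005d0020005c0020005b00300058002000580020005500200052001000520000004d0030004c0020004c0010004b0030004a0000004900000048003000470020004700000047000000460010004500000045001000440000004400200043000000420030004100200041001000400010003f0030003e0030003d0020003c0030003b0020003a002000380010003800100037000000370020003600000035003000340020003400100033000000330020003200000031002000300020002f0020002d0020002c0020002b0000002b0030002a0000002800300027002000270010002600100025003000240020002400000024002000230000002300300022),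
  (nat_lit 0x30009f0030009e0020009c0030009a0020009a0000009600000095002000930000008f0020008c0010008600100085003000840020008400200081002000800020007f00100079002000780030007700200077003000740020007200200071000000700020006e0020006d0030006c0030006a002000690030006700200067001000670030006400300063001000600010005e)]
noncomputable def eig_0_recs : List ℕ := [(nat_lit 0x9b000a103000a0000a101000980009f01000970009e01000920009c01000940009b000008b0009a000008a00099030009700098000008700097010008e00096010008d00095000007c00092000007d00091030009000091000007a0009000000730008e010007e0008c010007d0008b010007a0008a010007000089000007900089010006f00088030008500086000006800084010007c00083010007b00082000007400081030007b0007c000005700078000005b00076000005500075010005100072010004f00071030006f0007001000590006e01000530006d00000510006c01000500006b000004f0006a010004e00069010004d00068010005a0006601000540006501000580006201000570006100000400006001000560005f030005600057030004400045010002900043010002800042010002a00041030003f0004001000300003c010002d0003a010003400039010001e00031010001d0002e000001b00026000001800025030002000021030001d0001e030000800009),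
  (nat_lit 0x1000a1000a400000a2000a401000a0000a3010009d000a2)]
noncomputable def eig_0_T : List (List ℕ × ℕ) := [([3,1,3,1,0,2,1,2,1,0,1,0,1,3,1,3,0,1,2,1,2,1], (nat_lit 0xc0000280000600000c800001a0000e40001780002000002540000e90000fd00010d00010a00010200027700024f0001e700014b00001a00007b000037000013))]
noncomputable def eig_0_D : H26.Dag := ⟨[0,1,3,2], [[0,0],
  [1,1],
  [2,3],
  [3,2],
  [2,2,2],
  [3,0,1,0,1,2,1,0,1,0],
  [0,3,0,3,0,2,0,2],
  [1,3,1,3,1,2,1,2],
  [0,1,3,1,0,3,0,1,2,1,0,2]], [], eig_0_defs, eig_0_recs⟩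
theorem eig_0_c : eig_0_D.check eig_0_S eig_0_T = true := by decide +kernel
theorem eig_0 {G : Type*} [Group G] {g : ℕ → G} (hR : Rels g eig_Rl) {H : Subgroup G}
    (hH : ∀ k ∈ [], g k ∈ H) : evA g [3,1,3,1,0,2,1,2,1,0,1,0,1,3,1,3,0,1,2,1,2,1] ∈ H :=
  mem_dag (K := 4) (J := [0,1,2,3,4,5,6,7,8]) (D := eig_0_D) (by decide +kernel) eig_0_c (by decide +kernel) hR hH
noncomputable def eig_1_S0 : List ℕ := [nat_lit 0x2b000028006008, nat_lit 0x43000040006008, nat_lit 0x67000064006008, nat_lit 0x6f00006c006008, nat_lit 0x87000084006008, nat_lit 0x8f00004f00002300000f00000700000c00002000004c00008c00600a, nat_lit 0x9300005300002700000f00000700000c00001c00004000007402000a, nat_lit 0x9700005300002700000f00001800003800006400800e, nat_lit 0x9b00005700000200005400009400001a00007300000500007802000a, nat_lit 0x9f00005700000200005400009800001e00000900800e, nat_lit 0xa300005b00002f00001300000700000c00001c00003c00006c00e00a, nat_lit 0xab00005f00003300001700000700000c00001c00003c00007001000a,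 nat_lit 0xb300007300003f00001b00002000004800008400000c, nat_lit 0xb700007700004300001b00002000004800008801800c, nat_lit 0xbf0000bc006008, nat_lit 0xc70000c4006008, nat_lit 0xd30000d0006008, nat_lit 0xdb00002a00006b00003b00004400007c0000bc00800e, nat_lit 0xdf0000a70000a400002a00006b00003b00001b0000200000480000800000c4004010, nat_lit 0xe300002e00000e0000290000dc00004600003900800e, nat_lit 0xe70000af0000ac00002e00000e0000290000a30000a80000e000004a00003d004010, nat_lit 0xf70000f4006008, nat_lit 0xfb0000cf00001600008b00004b0000480000840000310000ec01c00a, nat_lit 0xff0000420000fc00005a0000eb0000320000110000350000f001c00a, nat_lit 0x1030000d700009f00009c00002200007700007c0000c000004d00c00a, nat_lit 0x10b00004a0000c300007f0000880000cc0000f400800e, nat_lit 0x10f00005200003e00004900010c00006600005500800e, nat_lit 0x1170000620000e30000ab0000b00000e800011001800c, nat_lit 0x11f00011300005e0000ef0000360000cc0000f800006900006d00800a, nat_lit 0x12700007200011700010300010800011c00012400000e]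
noncomputable def eig_1_S : List (List ℕ) := [eig_1_S0]
noncomputable def eig_1_defs : List ℕ := [(nat_lit 0x1000340010003300300032002000320010002d0010002c0000002b0030002a0000002900300028000000270030002300200023001000210030001f0020001f0030001e0020001e0020001d0020001c0020001700000017002000160000001600300015000000150030001400000014000000130000001200300011002000110010001100100010000000100000000f0030000e0020000e0030000d0020000d0010000c0010000b0010000a001000090020000800100007000000070030000600200006001000060010000500000005000000040030000300200003000000030020000200000002003000010020000100100001001000000000000000000000),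
  (nat_lit 0x200047002000460000004400100041002000400030003f00300039003000370020003500100035)]
noncomputable def eig_1_recs : List ℕ := [(nat_lit 0x10004800049010004500047000004300045010003d00043010003c00042000003800040000003b0003f000003a0003e030003c0003d010003100039010002f00038010003000037010002e00036030003300034030003000031030002e0002f00000210002d00000200002c010001b0002a010001a00028010001900027010001d00026010001800025010001c00024010002200023030002000021030001a0001b030001800019030000f0001003000090000a)]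
noncomputable def eig_1_T : List (List ℕ × ℕ) := [([0,1,3,1,3,0,1,2,1,2,1,3,1,3,0,1,2,1,2,0], (nat_lit 0x80000180000380000680000250000d800010800011c0001240000750001270000720001170001030000d700009f00005700002b00000f000007))]
noncomputable def eig_1_D : H26.Dag := ⟨[0,1,3,2], [[0,0],
  [1,1],
  [2,3],
  [3,2],
  [2,2,2],
  [3,0,1,0,1,2,1,0,1,0],
  [0,3,0,3,0,2,0,2],
  [1,3,1,3,1,2,1,2],
  [0,1,3,1,0,3,0,1,2,1,0,2]], [], eig_1_defs, eig_1_recs⟩
theorem eig_1_c : eig_1_D.check eig_1_S eig_1_T = true := by decide +kernel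
theorem eig_1 {G : Type*} [Group G] {g : ℕ → G} (hR : Rels g eig_Rl) {H : Subgroup G}
    (hH : ∀ k ∈ [], g k ∈ H) : evA g [0,1,3,1,3,0,1,2,1,2,1,3,1,3,0,1,2,1,2,0] ∈ H :=
  mem_dag (K := 4) (J := [0,1,2,3,4,5,6,7,8]) (D := eig_1_D) (by decide +kernel) eig_1_c (by decide +kernel) hR hH
noncomputable def eig_2_S0 : List ℕ := [nat_lit 0x2f00002c006008, nat_lit 0x77000074006008, nat_lit 0x8f00008c006008, nat_lit 0xa30000a0006008, nat_lit 0xa700005300002700001300000700001000002400005000009c01600a, nat_lit 0xab00005700002700001300000700000c00002000004c00009400600a, nat_lit 0xb700005f00002b00001300001800003800007400000e, nat_lit 0xc700006700002f00001300001800003800007801800e, nat_lit 0xcb00006b00003300001700000700000c00001c00003c00007c00e00a, nat_lit 0xd700007f00003f00001b00002000004800008c00000c, nat_lit 0xdb00008300004300001b00002000004800009001800c, nat_lit 0xff0000fc006008, nat_lit 0xff0000ab0000570000270000300000640000c000800c, nat_lit 0x1030000af0000570000540000a80000120000ec00800e,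 nat_lit 0x1070000b300005b00002b0000280000540000a800001200009b0000a00000f000c010, nat_lit 0x10f0000bb00006300000200005c0000b400010800003a0000ef00000d0000f400c010, nat_lit 0x1170000c30000670000640000bc00011000003e0000f30000f800400a, nat_lit 0x123000120006008, nat_lit 0x1270000cf0000cc00002200007b00003b00001b0000200000480000880000e0004010, nat_lit 0x12b00012800004a0000df00008700004700004c0000940000e402400a, nat_lit 0x12f0000d300006f00003700003400006c0000d000012c00004e00600a, nat_lit 0x13b0000e70000970000940000150000ab0000b000010400003600c00a, nat_lit 0x1470000fb00001600009300004b00004800008c00002500013401c00a, nat_lit 0x14b00002e00014800005a00013300002600000900002900013801c00a, nat_lit 0x14f00010b00001a00007300003700003400006c0000cc00012002400a, nat_lit 0x1530001130000bf0000bc00011000003e00014000800e, nat_lit 0x15700011b00001e00000600001900010c00015000006200004502400a, nat_lit 0x15b00011b0000c70000c400011800004200014400800c, nat_lit 0x163000160006008, nat_lit 0x16b000168006008,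 nat_lit 0x1730000560000eb00009b0000a40000f400014000800c, nat_lit 0x1770001470000fb0000160000e400005100016800000e, nat_lit 0x17b00014b0000ff0000160000e400005100016c01800e, nat_lit 0x17f00006200011f0000cb0000d000012800016000000c, nat_lit 0x18300006a0001230000cb0000d000012800016401800c, nat_lit 0x18b00016f00005d00014b00003200011400015400006600007900800a, nat_lit 0x18f00007e00016700005200004d00012b00012800016000008502000a, nat_lit 0x19300008200007600007d00019000009200008600007100008902000a, nat_lit 0x19f00019300017b00005e00017000018c00019c00800c, nat_lit 0x19f00009600018300015700015c00018800019800800e]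
noncomputable def eig_2_S : List (List ℕ) := [eig_2_S0]
noncomputable def eig_2_defs : List ℕ := [(nat_lit 0x30002a0020002a00100028000000280000002700200026000000250020002400200021002000200020001f0020001b0020001a0000001a0020001900000019002000180010001800200017001000160010001500000015003000140030001300200013000000130030001200000012003000110020001100100011000000100000000f0020000e0030000d0020000d0000000d0010000c0010000b0000000b0010000a0000000a00200009001000090010000800100007000000070030000600200006001000060010000500000005003000040020000400000004000000030020000200000002002000010010000100300000001000000000000000000000),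
  (nat_lit 0x30006400200062002000610000005e0000005d0000005b00100056002000550020005300200052002000510030004e0030004d0030004b0020004b0030004900200049003000460010004600300044001000420010003f0010003e0020003d0020003c001000390010003600100035000000340010003300000033003000320020003200000031003000300010002f0030002e0000002d0030002c0030002b)]
noncomputable def eig_2_recs : List ℕ := [(nat_lit 0x10006500067000006600067010006000064010005f00063010005c0006200000580006000000570005f010005a0005e01000590005d000004f0005c03000590005a030005700058000005000056000004800055010004f00054000004700053000004d00052000004c00051000003a0004e01000380004b00000380004a010003700049030004700048000003d00045010003c00043010003b00041010003a00040000002f0003f030003e0003f000002300036000002200035010001e00032010001d00031010001c0002d01000240002a010002600029030002700028030002200023030001c0001d030000a0000b)]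
noncomputable def eig_2_T : List (List ℕ × ℕ) := [([3,0,1,3,1,2,0,1,2,1,0,3,1,0,3,1,2,1,0,2,1,0], (nat_lit 0x80000140000300000640000bc00011000003e00014000007900008d00019c00009900009e00019700018700006e0001430000f70000a300004f00002300000f))]
noncomputable def eig_2_D : H26.Dag := ⟨[0,1,3,2], [[0,0],
  [1,1],
  [2,3],
  [3,2],
  [2,2,2],
  [3,0,1,0,1,2,1,0,1,0],
  [0,3,0,3,0,2,0,2],
  [1,3,1,3,1,2,1,2],
  [0,1,3,1,0,3,0,1,2,1,0,2]], [], eig_2_defs, eig_2_recs⟩
theorem eig_2_c : eig_2_D.check eig_2_S eig_2_T = true := by decide +kernel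
theorem eig_2 {G : Type*} [Group G] {g : ℕ → G} (hR : Rels g eig_Rl) {H : Subgroup G}
    (hH : ∀ k ∈ [], g k ∈ H) : evA g [3,0,1,3,1,2,0,1,2,1,0,3,1,0,3,1,2,1,0,2,1,0] ∈ H :=
  mem_dag (K := 4) (J := [0,1,2,3,4,5,6,7,8]) (D := eig_2_D) (by decide +kernel) eig_2_c (by decide +kernel) hR hH
noncomputable def eig_3_S0 : List ℕ := [nat_lit 0x27000024006008, nat_lit 0x6b000068006008, nat_lit 0x8f00008c006008, nat_lit 0x9b00005300002300000b00001000003000006800000e, nat_lit 0xa700005b00002700000b00001000003000006c01800e, nat_lit 0xb700006f00003300001300000700001000002c0000600000ac01800a, nat_lit 0xbb00007300003300001300000700000c00002800005c0000a400800a, nat_lit 0xc700007b00003700001300000700000c00002000004c00009402000a, nat_lit 0xcb00007f00003b00001700000700000c00002000004800008c00e00a, nat_lit 0xd30000d0006008, nat_lit 0xd700008300003f00001b00000700000c00002000004800009001000a, nat_lit 0xdf0000dc006008, nat_lit 0xf30000f0006008, nat_lit 0xff0000fc006008, nat_lit 0x107000104006008,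 nat_lit 0x113000110006008, nat_lit 0x1230000bb0000730000330000380000780000c401800c, nat_lit 0x1270000bf0000770000370000340000700000b80000160000ab0000b000011802a010, nat_lit 0x12b0000c700007b0000780000c000012800004600011700011c00200a, nat_lit 0x12b00001e00009300004b00001f00000b0000100000300000640000b400012002a010, nat_lit 0x12f0000cf0000cc00002200008b00004700001f0000240000500000980000f0004010, nat_lit 0x1330000260001300000520000ef00009700004f0000010000580000a00000fc004010, nat_lit 0x1370001340000560000fb00009f00005700005c0000a400010402400a, nat_lit 0x13b0000db0000d800002a00000a0000210000cb0000d0000130000052000031004010, nat_lit 0x13f00002e00013c00005e00003200005100012f000025000134000056000035004010, nat_lit 0x14300014000006200003600005500013300013800005a00003902400a, nat_lit 0x1470000e30000870000430000400000840000e000014400006600800a, nat_lit 0x1530000f700000e00006700002f00002c0000600000ac00011002400a, nat_lit 0x15700010b00001200000600000d0000f800015400006e00003d02400a,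 nat_lit 0x163000160006008, nat_lit 0x16b000168006008, nat_lit 0x16f0000420000c300007700007c0000c800001e0000ec00015000c00a, nat_lit 0x1730000660001070000a30000a800010c00015c01800c, nat_lit 0x17b00014b0000e700001d00012c00004e00016800000e, nat_lit 0x17f00014f0000eb00001d00012c00004e00016c01800e, nat_lit 0x18300006e00010f0000ab0000b000011800016000000c, nat_lit 0x1870000720001130000ab0000b000011800016401800c, nat_lit 0x18f00016f00012300001a00010800006900017800800e, nat_lit 0x19300008600016700004d00004a00011b00011800016000008d02000a, nat_lit 0x19700008a00007a00008500019400009a00008e00007500009102000a, nat_lit 0x1a300009e00018700015700015c00018c00019c00800e, nat_lit 0x1a700019f00018f00007e0001800001980001a401800c]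
noncomputable def eig_3_S : List (List ℕ) := [eig_3_S0]
noncomputable def eig_3_defs : List ℕ := [(nat_lit 0x300027002000270000002600300025002000250030002400200024003000210030002000200020000000200030001f0020001f0000001f0000001e0030001d0010001d0000001c0020001b0020001800200017000000170020001600000016001000150020001400100013000000120030001100200011000000100010000f0010000e0010000d0000000d0030000c0010000c0030000b0020000b0000000b0010000a0010000900000009001000080000000800200007001000070010000600000006000000050020000400000004001000030000000300300002002000020000000200300001002000010010000100200000001000000000000000000000),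
  (nat_lit 0x2000670030006500000063002000620000005f0000005e0030005b00100056002000550020005400200053002000520020005100200050001000480030004700200047003000450020004500300042001000420010003d0010003a0010003900000038001000370000003700000036001000340000003400000033002000310020002f0020002e0000002c0010002b0000002b0030002a0020002a000000290030002800200028)]
noncomputable def eig_3_recs : List ℕ := [(nat_lit 0x6800069010006600068010006100065010006000064010005d00063000005800061000005700060010005a0005f01000590005e00000560005c00000530005b03000590005a030005700058000004400055000004300054010004100051000004100050010003f0004f010003c0004e00000400004d010003e0004c010003b0004b01000470004a00000460004a010004500049000003000048030004300044030004000041030003e0003f030003b0003c03000360003701000230003503000330003401000220003201000240003101000280002e010002a0002d010001a0002901000190002603000220002303000190001a030000800009)]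
noncomputable def eig_3_T : List (List ℕ × ℕ) := [([1,3,1,0,3,1,2,1,0,2,0,1,3,1,0,3,1,2,1,0,2,0], (nat_lit 0x800001c0000400000840000e000014400017400008200018c00019c0000a10000a50001a700019f00009600017700006a0001070000a300005b00002700000b))]
noncomputable def eig_3_D : H26.Dag := ⟨[0,1,3,2], [[0,0],
  [1,1],
  [2,3],
  [3,2],
  [2,2,2],
  [3,0,1,0,1,2,1,0,1,0],
  [0,3,0,3,0,2,0,2],
  [1,3,1,3,1,2,1,2],
  [0,1,3,1,0,3,0,1,2,1,0,2]], [], eig_3_defs, eig_3_recs⟩
theorem eig_3_c : eig_3_D.check eig_3_S eig_3_T = true := by decide +kernel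
theorem eig_3 {G : Type*} [Group G] {g : ℕ → G} (hR : Rels g eig_Rl) {H : Subgroup G}
    (hH : ∀ k ∈ [], g k ∈ H) : evA g [1,3,1,0,3,1,2,1,0,2,0,1,3,1,0,3,1,2,1,0,2,0] ∈ H :=
  mem_dag (K := 4) (J := [0,1,2,3,4,5,6,7,8]) (D := eig_3_D) (by decide +kernel) eig_3_c (by decide +kernel) hR hH
noncomputable def eig_4_S0 : List ℕ := [nat_lit 0x2b000028006008, nat_lit 0x77000074006008, nat_lit 0x83000080006008, nat_lit 0x8f00008c006008, nat_lit 0xa300004b00001f00000700001000003000006c01800c, nat_lit 0xab0000a8006008, nat_lit 0xb700005b00002700000b00001000003400007400000e, nat_lit 0xbb00005b00002700000b00001400003c00008000800e, nat_lit 0xc700006300002b00000b00001000003400007801800e, nat_lit 0xcb00006300000200005c0000bc00001e00000900800e, nat_lit 0xe300008700003f0000170000070000100000300000680000d001800a, nat_lit 0xe700008700003f00001700000700001400003800007c0000dc01600a, nat_lit 0xef00008f00003f00001700000700000c00002c0000640000c400800a, nat_lit 0xff0000fc006008, nat_lit 0x10300009700004300001700000700000c0000240000540000b002000a,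 nat_lit 0x10700009b00004700001b00000700000c0000240000500000a800e00a, nat_lit 0x10f00010c006008, nat_lit 0x11300009f00004b00001f00000700000c0000240000500000ac01000a, nat_lit 0x11b000118006008, nat_lit 0x12f00012c006008, nat_lit 0x13b000138006008, nat_lit 0x143000140006008, nat_lit 0x153000150006008, nat_lit 0x167000164006008, nat_lit 0x16f0000eb00008b0000880000e800002e00016400800e, nat_lit 0x1730000ef00008f00003f00004400009400010001800c, nat_lit 0x1770000f300000e0000ec00017000006200005d00800e, nat_lit 0x17b0000f70000930000430000400000880000e400002a0000cf0000d400015802a010, nat_lit 0x17f0000f70000930000430000400000880000e800002e0000db0000e000016c00c010, nat_lit 0x18b0001030000970000940000f800017c00006e00015700015c00200a, nat_lit 0x18b00003a0000af00005300002300000b0000100000340000700000d800016002a010, nat_lit 0x18f00010b00010800003e0000a700004f0000230000280000580000b400012c004010, nat_lit 0x19300004200019000007e00012b0000b30000570000010000600000c0000138004010, nat_lit 0x1970001940000820001370000bf00005f0000640000c400014002400a,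 nat_lit 0x19b00011700011400004600001600003d00010700010c00019000007e00004d004010, nat_lit 0x19f00004a00019c00008a00004e00007d00018f000041000194000082000051004010, nat_lit 0x1a30001a000008e00005200008100019300019800008600005502400a, nat_lit 0x1b300013300001a0000730000330000300000680000d000015002400a, nat_lit 0x1b70001470000220000060000190001340001b400009600005902400a, nat_lit 0x1bf0001bc006008, nat_lit 0x1c300014b0000cb0000c40000310000ef0000f400017800006a00c00a, nat_lit 0x1cf0001cc006008, nat_lit 0x1d70001d4006008, nat_lit 0x1df0001dc006008, nat_lit 0x1e30000660000ff00009300009800010400003a0001280001b000c00a, nat_lit 0x1e70001830000fb0000f80001800000720001dc00800e, nat_lit 0x1eb0001870000360001840001e80000b60000ad00800e, nat_lit 0x1ef0000920001430000c30000c80001480001c001800c, nat_lit 0x1ef0001a300011b00009f0000a40001200001a801800e, nat_lit 0x1f30001ab00012300003900018c00007a0001d400000e, nat_lit 0x1f70001af00012700003900018c00007a0001d801800e, nat_lit 0x1ff00009600014f0000cf0000d40001580001cc00000c,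 nat_lit 0x20300009a0001530000cf0000d40001580001d001800c, nat_lit 0x20b0000a20001670000db0000e000016c0001e001800c, nat_lit 0x2170000c60001d300007900007600015b0001580001cc0000cd02000a, nat_lit 0x21b0000ca0000aa0000c50002180000da0000ce0000a50000d102000a, nat_lit 0x21f0001fb0000b10001e30000660001880001ec0000ba0000d500800a, nat_lit 0x22f0000de0002030001b70001bc00020800022400000e, nat_lit 0x2330000e200020b0001c30001c800021000022800000e, nat_lit 0x23700022b0002130000b20001f800021c00023000000c, nat_lit 0x23b000238006008, nat_lit 0x23b00022b0002130000b20001fc00022000023400800c]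
noncomputable def eig_4_S : List (List ℕ) := [eig_4_S0]
noncomputable def eig_4_defs : List ℕ := [(nat_lit 0x300024002000240010002400100023000000230010002200300021002000210020001e0000001e0020001b00200019000000190030001800200018000000180010001700300016002000160010001500000014003000130020001300200012001000120010001100100010000000100030000f0020000f0010000f0030000e0020000e0010000d0030000c0020000c0000000c0030000b0010000b0010000a0000000a0010000900000009002000080010000800000007000000060020000500000005001000040000000400100003000000030030000200200002000000020030000100200001001000010030000000200000001000000000000000000000),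
  (nat_lit 0x20006c0030006b0020006b0020006a0020006800300061003000600010005c0030005a0020005a0030005700200057003000550020005500200052001000520030005100200051001000510010004c001000490010004800300047001000460000004600000045001000430000004300000042002000400010003f0010003e0030003d0020003d0030003c0020003b0030003a0000003700300036002000360000003500100034000000340030003300200033000000320000003100300030002000300030002f0020002f0000002d0030002c0020002c0030002b0020002b0010002800300027002000270000002700300026002000260000002600000025),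
  (nat_lit 0x30008a0020008a00200087002000860000008400200083002000810000007e0000007d0000007c0020007800100071002000700010006e0020006d)]
noncomputable def eig_4_recs : List ℕ := [(nat_lit 0x8c0008e030008d0008e000008b0008d01000890008c01000880008b010008200087010008000086010007f0008500000770008200000730008000000720007f01000750007d01000740007c01000690007b000006f0007b01000770007a010007600079000006b00078030007600077030007400075030007200073000005900070030006e0006f00000540006d00000530006c000005000068010004e00067010004b00066000004f00065010004d00064010004a00063010005700062000005600062010005a0005f01000550005e01000590005d000003f0005c01000580005b030005800059030005300054030004f00050030004d0004e030004a0004b030004500046010002a00044030004200043010002900041010002b00040030003e0003f01000300003b010003600039010003300038010002000032010001d00031010001f0002e010001c0002d03000290002a000001a00028030002200023030001f00020030001c0001d03000090000a)]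
noncomputable def eig_4_T : List (List ℕ × ℕ) := [([2,0,3,0,1,3,1,0,3,1,2,1,0,2,0,1,3,1,3,0,1,2,1,2], (nat_lit 0x1400003c00008400002500014c0001c80002100002280000e90000f50000f20000ee0000e600022300020700009d0000bd0000c20001a700011f00001200006b00002f00000f))]
noncomputable def eig_4_D : H26.Dag := ⟨[0,1,3,2], [[0,0],
  [1,1],
  [2,3],
  [3,2],
  [2,2,2],
  [3,0,1,0,1,2,1,0,1,0],
  [0,3,0,3,0,2,0,2],
  [1,3,1,3,1,2,1,2],
  [0,1,3,1,0,3,0,1,2,1,0,2]], [], eig_4_defs, eig_4_recs⟩
theorem eig_4_c : eig_4_D.check eig_4_S eig_4_T = true := by decide +kernel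
theorem eig_4 {G : Type*} [Group G] {g : ℕ → G} (hR : Rels g eig_Rl) {H : Subgroup G}
    (hH : ∀ k ∈ [], g k ∈ H) : evA g [2,0,3,0,1,3,1,0,3,1,2,1,0,2,0,1,3,1,3,0,1,2,1,2] ∈ H :=
  mem_dag (K := 4) (J := [0,1,2,3,4,5,6,7,8]) (D := eig_4_D) (by decide +kernel) eig_4_c (by decide +kernel) hR hH
theorem eig {G : Type*} [Group G] {c d j : G}
    (cc : c * c = 1)
    (dd : d * d = 1)
    (j3 : j ^ 3 = 1)
    (u0 : (c * d) ^ 2 * j = j * (c * d) ^ 2)
    (m01 : j * (c * j * c⁻¹) = c * j * c⁻¹ * j)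
    (m02 : j * (d * j * d⁻¹) = d * j * d⁻¹ * j)
    (m03 : j * (c * d * j * (c * d)⁻¹) = c * d * j * (c * d)⁻¹ * j)
    (m12 : c * j * c⁻¹ * (d * j * d⁻¹) = d * j * d⁻¹ * (c * j * c⁻¹))
    (m13 : c * j * c⁻¹ * (c * d * j * (c * d)⁻¹) = c * d * j * (c * d)⁻¹ * (c * j * c⁻¹))
    (m23 : d * j * d⁻¹ * (c * d * j * (c * d)⁻¹) = c * d * j * (c * d)⁻¹ * (d * j * d⁻¹)) :
    d * (j * (d * j * d⁻¹) * (c * j * c⁻¹)⁻¹ * (c * d * j * (c * d)⁻¹)⁻¹) = j * (d * j * d⁻¹) * (c * j * c⁻¹)⁻¹ * (c * d * j * (c * d)⁻¹)⁻¹ * d ∧ c * (j * (d * j * d⁻¹) * (c * j * c⁻¹)⁻¹ * (c * d * j * (c * d)⁻¹)⁻¹) * c⁻¹ = (j * (d * j * d⁻¹) * (c * j * c⁻¹)⁻¹ * (c * d * j * (c * d)⁻¹)⁻¹)⁻¹ ∧ c * d * (j * (c * d * j * (c * d)⁻¹) * (c * j * c⁻¹)⁻¹ * (d * j * d⁻¹)⁻¹) = j * (c * d * j * (c * d)⁻¹) * (c * j * c⁻¹)⁻¹ * (d * j * d⁻¹)⁻¹ * (c * d) ∧ c * (j * (c * d * j * (c * d)⁻¹) * (c * j * c⁻¹)⁻¹ * (d * j * d⁻¹)⁻¹) * c⁻¹ = (j * (c * d * j * (c * d)⁻¹) * (c * j * c⁻¹)⁻¹ * (d * j * d⁻¹)⁻¹)⁻¹ ∧ j * (d * j * d⁻¹) * (c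 * j * c⁻¹)⁻¹ * (c * d * j * (c * d)⁻¹)⁻¹ * (j * (c * d * j * (c * d)⁻¹) * (c * j * c⁻¹)⁻¹ * (d * j * d⁻¹)⁻¹) = j⁻¹ * (c * j * c⁻¹) :=
  ⟨mul_inv_eq_one.1 ((evA_eq_tm ((InvI.cons cc (InvI.cons dd InvI.nil)) : InvI [c, d, j] [(nat_lit 0), (nat_lit 1)]) [(.v (nat_lit 0)), (.v (nat_lit 1)), (.v (nat_lit 2)), (.inv (.v (nat_lit 2)))] [3,1,3,1,0,2,1,2,1,0,1,0,1,3,1,3,0,1,2,1,2,1] (.mul (.mul (.v (nat_lit 1)) (.mul (.mul (.mul (.v (nat_lit 2)) (.mul (.mul (.v (nat_lit 1)) (.v (nat_lit 2))) (.inv (.v (nat_lit 1))))) (.inv (.mul (.mul (.v (nat_lit 0)) (.v (nat_lit 2))) (.inv (.v (nat_lit 0)))))) (.inv (.mul (.mul (.mul (.v (nat_lit 0)) (.v (nat_lit 1))) (.v (nat_lit 2))) (.inv (.mul (.v (nat_lit 0)) (.v (nat_lit 1)))))))) (.inv (.mul (.mul (.mul (.mul (.v (nat_lit 2)) (.mul (.mul (.v (nat_lit 1)) (.v (nat_lit 2))) (.inv (.v (nat_lit 1))))) (.inv (.mul (.mul (.v (nat_lit 0)) (.v (nat_lit 2))) (.inv (.v (nat_lit 0)))))) (.inv (.mul (.mul (.mul (.v (nat_lit 0)) (.v (nat_lit 1))) (.v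 (nat_lit 2))) (.inv (.mul (.v (nat_lit 0)) (.v (nat_lit 1))))))) (.v (nat_lit 1))))) (by decide +kernel)).symm.trans (Subgroup.mem_bot.1 (eig_0 (eig_r cc dd j3 u0 m01 m02 m03 m12 m13 m23) (H := ⊥) (List.forall_mem_nil _)))),
   mul_inv_eq_one.1 ((evA_eq_tm ((InvI.cons cc (InvI.cons dd InvI.nil)) : InvI [c, d, j] [(nat_lit 0), (nat_lit 1)]) [(.v (nat_lit 0)), (.v (nat_lit 1)), (.v (nat_lit 2)), (.inv (.v (nat_lit 2)))] [0,1,3,1,3,0,1,2,1,2,1,3,1,3,0,1,2,1,2,0] (.mul (.mul (.mul (.v (nat_lit 0)) (.mul (.mul (.mul (.v (nat_lit 2)) (.mul (.mul (.v (nat_lit 1)) (.v (nat_lit 2))) (.inv (.v (nat_lit 1))))) (.inv (.mul (.mul (.v (nat_lit 0)) (.v (nat_lit 2))) (.inv (.v (nat_lit 0)))))) (.inv (.mul (.mul (.mul (.v (nat_lit 0)) (.v (nat_lit 1))) (.v (nat_lit 2))) (.inv (.mul (.v (nat_lit 0)) (.v (nat_lit 1)))))))) (.inv (.v (nat_lit 0)))) (.inv (.inv (.mul (.mul (.mul (.v (nat_lit 2)) (.mul (.mul (.v (nat_lit 1)) (.v (nat_lit 2))) (.inv (.v (nat_lit 1))))) (.inv (.mul (.mul (.v (nat_lit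 0)) (.v (nat_lit 2))) (.inv (.v (nat_lit 0)))))) (.inv (.mul (.mul (.mul (.v (nat_lit 0)) (.v (nat_lit 1))) (.v (nat_lit 2))) (.inv (.mul (.v (nat_lit 0)) (.v (nat_lit 1)))))))))) (by decide +kernel)).symm.trans (Subgroup.mem_bot.1 (eig_1 (eig_r cc dd j3 u0 m01 m02 m03 m12 m13 m23) (H := ⊥) (List.forall_mem_nil _)))),
   mul_inv_eq_one.1 ((evA_eq_tm ((InvI.cons cc (InvI.cons dd InvI.nil)) : InvI [c, d, j] [(nat_lit 0), (nat_lit 1)]) [(.v (nat_lit 0)), (.v (nat_lit 1)), (.v (nat_lit 2)), (.inv (.v (nat_lit 2)))] [3,0,1,3,1,2,0,1,2,1,0,3,1,0,3,1,2,1,0,2,1,0] (.mul (.mul (.mul (.v (nat_lit 0)) (.v (nat_lit 1))) (.mul (.mul (.mul (.v (nat_lit 2)) (.mul (.mul (.mul (.v (nat_lit 0)) (.v (nat_lit 1))) (.v (nat_lit 2))) (.inv (.mul (.v (nat_lit 0)) (.v (nat_lit 1)))))) (.inv (.mul (.mul (.v (nat_lit 0)) (.v (nat_lit 2))) (.inv (.v (nat_lit 0)))))) (.inv (.mul (.mul (.v (nat_lit 1)) (.v (nat_lit 2))) (.inv (.v (nat_lit 1))))))) (.inv (.mul (.mul (.mul (.mul (.v (nat_lit 2)) (.mul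 (.mul (.mul (.v (nat_lit 0)) (.v (nat_lit 1))) (.v (nat_lit 2))) (.inv (.mul (.v (nat_lit 0)) (.v (nat_lit 1)))))) (.inv (.mul (.mul (.v (nat_lit 0)) (.v (nat_lit 2))) (.inv (.v (nat_lit 0)))))) (.inv (.mul (.mul (.v (nat_lit 1)) (.v (nat_lit 2))) (.inv (.v (nat_lit 1)))))) (.mul (.v (nat_lit 0)) (.v (nat_lit 1)))))) (by decide +kernel)).symm.trans (Subgroup.mem_bot.1 (eig_2 (eig_r cc dd j3 u0 m01 m02 m03 m12 m13 m23) (H := ⊥) (List.forall_mem_nil _)))),
   mul_inv_eq_one.1 ((evA_eq_tm ((InvI.cons cc (InvI.cons dd InvI.nil)) : InvI [c, d, j] [(nat_lit 0), (nat_lit 1)]) [(.v (nat_lit 0)), (.v (nat_lit 1)), (.v (nat_lit 2)), (.inv (.v (nat_lit 2)))] [1,3,1,0,3,1,2,1,0,2,0,1,3,1,0,3,1,2,1,0,2,0] (.mul (.mul (.mul (.v (nat_lit 0)) (.mul (.mul (.mul (.v (nat_lit 2)) (.mul (.mul (.mul (.v (nat_lit 0)) (.v (nat_lit 1))) (.v (nat_lit 2))) (.inv (.mul (.v (nat_lit 0)) (.v (nat_lit 1)))))) (.inv (.mul (.mul (.v (nat_lit 0)) (.v (nat_lit 2))) (.inv (.v (nat_lit 0)))))) (.inv (.mul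 (.mul (.v (nat_lit 1)) (.v (nat_lit 2))) (.inv (.v (nat_lit 1))))))) (.inv (.v (nat_lit 0)))) (.inv (.inv (.mul (.mul (.mul (.v (nat_lit 2)) (.mul (.mul (.mul (.v (nat_lit 0)) (.v (nat_lit 1))) (.v (nat_lit 2))) (.inv (.mul (.v (nat_lit 0)) (.v (nat_lit 1)))))) (.inv (.mul (.mul (.v (nat_lit 0)) (.v (nat_lit 2))) (.inv (.v (nat_lit 0)))))) (.inv (.mul (.mul (.v (nat_lit 1)) (.v (nat_lit 2))) (.inv (.v (nat_lit 1))))))))) (by decide +kernel)).symm.trans (Subgroup.mem_bot.1 (eig_3 (eig_r cc dd j3 u0 m01 m02 m03 m12 m13 m23) (H := ⊥) (List.forall_mem_nil _)))),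
   mul_inv_eq_one.1 ((evA_eq_tm ((InvI.cons cc (InvI.cons dd InvI.nil)) : InvI [c, d, j] [(nat_lit 0), (nat_lit 1)]) [(.v (nat_lit 0)), (.v (nat_lit 1)), (.v (nat_lit 2)), (.inv (.v (nat_lit 2)))] [2,0,3,0,1,3,1,0,3,1,2,1,0,2,0,1,3,1,3,0,1,2,1,2] (.mul (.mul (.mul (.mul (.mul (.v (nat_lit 2)) (.mul (.mul (.v (nat_lit 1)) (.v (nat_lit 2))) (.inv (.v (nat_lit 1))))) (.inv (.mul (.mul (.v (nat_lit 0)) (.v (nat_lit 2))) (.inv (.v (nat_lit 0)))))) (.inv (.mul (.mul (.mul (.v (nat_lit 0)) (.v (nat_lit 1))) (.v (nat_lit 2))) (.inv (.mul (.v (nat_lit 0)) (.v (nat_lit 1))))))) (.mul (.mul (.mul (.v (nat_lit 2)) (.mul (.mul (.mul (.v (nat_lit 0)) (.v (nat_lit 1))) (.v (nat_lit 2))) (.inv (.mul (.v (nat_lit 0)) (.v (nat_lit 1)))))) (.inv (.mul (.mul (.v (nat_lit 0)) (.v (nat_lit 2))) (.inv (.v (nat_lit 0)))))) (.inv (.mul (.mul (.v (nat_lit 1)) (.v (nat_lit 2))) (.inv (.v (nat_lit 1))))))) (.inv (.mul (.inv (.v (nat_lit 2))) (.mul (.mul (.v (nat_lit 0)) (.v (nat_lit 2))) (.inv (.v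 (nat_lit 0))))))) (by decide +kernel)).symm.trans (Subgroup.mem_bot.1 (eig_4 (eig_r cc dd j3 u0 m01 m02 m03 m12 m13 m23) (H := ⊥) (List.forall_mem_nil _))))⟩
noncomputable def q_a_Rl : List (List ℕ) := [[0,0],
  [1,2],
  [2,1],
  [3,4],
  [4,3],
  [5,6],
  [6,5],
  [7,8],
  [8,7],
  [9,10],
  [10,9],
  [1,1,1],
  [3,3,3],
  [5,5,5],
  [4,2,3,1],
  [6,2,5,1],
  [6,4,5,3],
  [7,7,7],
  [2,8,5,7],
  [4,8,1,7],
  [6,8,3,7],
  [7,0,7,0],
  [6,0,5,0],
  [4,0,1,0],
  [2,4,6,10,5,3,1,9],
  [4,1,10,7,9],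
  [8,10,4,1,9]]
theorem q_a_r {G : Type*} [Group G] {t a b e x q : G}
    (h : B1 a b e x t)
    (q1 : q * (a * b * e) = a * b * e * q)
    (q2 : q * x * q⁻¹ = (a * b⁻¹)⁻¹)
    (q3 : q * (a * b⁻¹) * q⁻¹ = x) :
    Rels (nthG [t, a, a⁻¹, b, b⁻¹, e, e⁻¹, x, x⁻¹, q, q⁻¹]) q_a_Rl :=
  rels_of_eqs ((InvI.cons h.2.2.2.2.2.2.2.2.2.2.1 InvI.nil) : InvI [t, a, b, e, x, q] [(nat_lit 0)])
    (AllEq.append (show AllEq [t, a, b, e, x, q] [((.pw (.v (nat_lit 1)) (nat_lit 3)), .one), ((.pw (.v (nat_lit 2)) (nat_lit 3)), .one), ((.pw (.v (nat_lit 3)) (nat_lit 3)), .one), ((.mul (.v (nat_lit 1)) (.v (nat_lit 2))), (.mul (.v (nat_lit 2)) (.v (nat_lit 1)))), ((.mul (.v (nat_lit 1)) (.v (nat_lit 3))), (.mul (.v (nat_lit 3)) (.v (nat_lit 1)))), ((.mul (.v (nat_lit 2)) (.v (nat_lit 3))), (.mul (.v (nat_lit 3)) (.v (nat_lit 2)))), ((.pw (.v (nat_lit 4)) (nat_lit 3)), .one), ((.mul (.mul (.v (nat_lit 4)) (.v (nat_lit 3))) (.inv (.v (nat_lit 4)))), (.v (nat_lit 1))), ((.mul (.mul (.v (nat_lit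 4)) (.v (nat_lit 1))) (.inv (.v (nat_lit 4)))), (.v (nat_lit 2))), ((.mul (.mul (.v (nat_lit 4)) (.v (nat_lit 2))) (.inv (.v (nat_lit 4)))), (.v (nat_lit 3))), ((.mul (.v (nat_lit 0)) (.v (nat_lit 0))), .one), ((.mul (.mul (.v (nat_lit 0)) (.v (nat_lit 4))) (.inv (.v (nat_lit 0)))), (.inv (.v (nat_lit 4)))), ((.mul (.v (nat_lit 0)) (.v (nat_lit 3))), (.mul (.v (nat_lit 3)) (.v (nat_lit 0)))), ((.mul (.mul (.v (nat_lit 0)) (.v (nat_lit 1))) (.inv (.v (nat_lit 0)))), (.v (nat_lit 2)))] from h)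
    (AllEq.append (show AllEq [t, a, b, e, x, q] [((.mul (.v (nat_lit 5)) (.mul (.mul (.v (nat_lit 1)) (.v (nat_lit 2))) (.v (nat_lit 3)))), (.mul (.mul (.mul (.v (nat_lit 1)) (.v (nat_lit 2))) (.v (nat_lit 3))) (.v (nat_lit 5))))] from ⟨q1, trivial⟩)
    (AllEq.append (show AllEq [t, a, b, e, x, q] [((.mul (.mul (.v (nat_lit 5)) (.v (nat_lit 4))) (.inv (.v (nat_lit 5)))), (.inv (.mul (.v (nat_lit 1)) (.inv (.v (nat_lit 2))))))] from ⟨q2, trivial⟩)
    (show AllEq [t, a, b, e, x, q] [((.mul (.mul (.v (nat_lit 5)) (.mul (.v (nat_lit 1)) (.inv (.v (nat_lit 2))))) (.inv (.v (nat_lit 5)))), (.v (nat_lit 4)))] from ⟨q3, trivial⟩))))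
    [(.v (nat_lit 0)), (.v (nat_lit 1)), (.inv (.v (nat_lit 1))), (.v (nat_lit 2)), (.inv (.v (nat_lit 2))), (.v (nat_lit 3)), (.inv (.v (nat_lit 3))), (.v (nat_lit 4)), (.inv (.v (nat_lit 4))), (.v (nat_lit 5)), (.inv (.v (nat_lit 5)))] (by decide +kernel)
noncomputable def q_a_0_S0 : List ℕ := [nat_lit 0x1300000700001000c01a, nat_lit 0x1f00000b00001000c016, nat_lit 0x23000013000018004016, nat_lit 0x2300000200000500401a, nat_lit 0x2b00001b00001800000900a01c, nat_lit 0x2f00002700002c004018, nat_lit 0x3b00003300003000003801201c]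
noncomputable def q_a_0_S : List (List ℕ) := [q_a_0_S0]
noncomputable def q_a_0_defs : List ℕ := [(nat_lit 0x20000c0090000b00900009007000090080000600000006004000040030000200a00001004000010010000100300000002000000000000000000000)]
noncomputable def q_a_0_recs : List ℕ := [(nat_lit 0x30000d0000e000000a0000b09000080000a000000700008020000500008010000300007000000300004)]
noncomputable def q_a_0_T : List (List ℕ × ℕ) := [([2,3,0,10,0,9,4,1,10,0,9,0], (nat_lit 0x800001c00002800003400003c00001a00003700001600001200000e00001f00000b))]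
noncomputable def q_a_0_D : H26.Dag := ⟨[0,2,1,4,3,6,5,8,7,10,9], [[0,0],
  [1,2],
  [2,1],
  [3,4],
  [4,3],
  [5,6],
  [6,5],
  [7,8],
  [8,7],
  [9,10],
  [10,9],
  [4,2,3,1],
  [7,0,7,0],
  [4,0,1,0],
  [4,1,10,7,9]], [], q_a_0_defs, q_a_0_recs⟩
theorem q_a_0_c : q_a_0_D.check q_a_0_S q_a_0_T = true := by decide +kernel
theorem q_a_0 {G : Type*} [Group G] {g : ℕ → G} (hR : Rels g q_a_Rl) {H : Subgroup G}
    (hH : ∀ k ∈ [], g k ∈ H) : evA g [2,3,0,10,0,9,4,1,10,0,9,0] ∈ H :=
  mem_dag (K := 11) (J := [0,1,2,3,4,5,6,7,8,9,10,14,21,23,25]) (D := q_a_0_D) (by decide +kernel) q_a_0_c (by decide +kernel) hR hH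
noncomputable def q_a_1_S0 : List ℕ := [nat_lit 0xf00000700000c004016, nat_lit 0x1f00001300001000001800c01a, nat_lit 0x2700001b00002000a018, nat_lit 0x23000005000009000018, nat_lit 0x2f00000e00002700002c01201a]
noncomputable def q_a_1_S : List (List ℕ) := [q_a_1_S0]
noncomputable def q_a_1_defs : List ℕ := [(nat_lit 0x900008009000060020000600000005004000040000000400a0000300a0000100700001008000000000000000000000)]
noncomputable def q_a_1_recs : List ℕ := [(nat_lit 0x70000a0000b040000900008000000700009010000500007000000200003)]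
noncomputable def q_a_1_T : List (List ℕ × ℕ) := [([8,0,10,0,9,7,10,0,9,0], (nat_lit 0x800001400001c00002c00001100002f00002300001700000200000b))]
noncomputable def q_a_1_D : H26.Dag := ⟨[0,2,1,4,3,6,5,8,7,10,9], [[0,0],
  [1,2],
  [2,1],
  [3,4],
  [4,3],
  [5,6],
  [6,5],
  [7,8],
  [8,7],
  [9,10],
  [10,9],
  [7,0,7,0],
  [4,0,1,0],
  [8,10,4,1,9]], [], q_a_1_defs, q_a_1_recs⟩
theorem q_a_1_c : q_a_1_D.check q_a_1_S q_a_1_T = true := by decide +kernel
theorem q_a_1 {G : Type*} [Group G] {g : ℕ → G} (hR : Rels g q_a_Rl) {H : Subgroup G}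
    (hH : ∀ k ∈ [], g k ∈ H) : evA g [8,0,10,0,9,7,10,0,9,0] ∈ H :=
  mem_dag (K := 11) (J := [0,1,2,3,4,5,6,7,8,9,10,21,23,26]) (D := q_a_1_D) (by decide +kernel) q_a_1_c (by decide +kernel) hR hH
noncomputable def q_a_2_S0 : List ℕ := [nat_lit 0x1300000b000008000010010018, nat_lit 0x2300001700001400001c00c01a, nat_lit 0x2b00001f00002400a016, nat_lit 0x27000005000009000016]
noncomputable def q_a_2_S : List (List ℕ) := [q_a_2_S0]
noncomputable def q_a_2_defs : List ℕ := [(nat_lit 0x20000700000006004000050000000500a0000400a00002007000020030000100a000000020000000000000)]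
noncomputable def q_a_2_recs : List ℕ := [(nat_lit 0x40000a0000900000080000a010000600008090000300004)]
noncomputable def q_a_2_T : List (List ℕ × ℕ) := [([2,3,10,10,0,4,1,0,9,9], (nat_lit 0xc00001800002000002c00000d00002700001b00000200000f000007))]
noncomputable def q_a_2_D : H26.Dag := ⟨[0,2,1,4,3,6,5,8,7,10,9], [[0,0],
  [1,2],
  [2,1],
  [3,4],
  [4,3],
  [5,6],
  [6,5],
  [7,8],
  [8,7],
  [9,10],
  [10,9],
  [4,0,1,0],
  [4,1,10,7,9],
  [8,10,4,1,9]], [], q_a_2_defs, q_a_2_recs⟩
theorem q_a_2_c : q_a_2_D.check q_a_2_S q_a_2_T = true := by decide +kernel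
theorem q_a_2 {G : Type*} [Group G] {g : ℕ → G} (hR : Rels g q_a_Rl) {H : Subgroup G}
    (hH : ∀ k ∈ [], g k ∈ H) : evA g [2,3,10,10,0,4,1,0,9,9] ∈ H :=
  mem_dag (K := 11) (J := [0,1,2,3,4,5,6,7,8,9,10,23,25,26]) (D := q_a_2_D) (by decide +kernel) q_a_2_c (by decide +kernel) hR hH
noncomputable def q_a_3_S0 : List ℕ := [nat_lit 0x1300000b00000800001000a01a, nat_lit 0x1b000001000013000018006018, nat_lit 0x23000006000020008016]
noncomputable def q_a_3_S : List (List ℕ) := [q_a_3_S0]
noncomputable def q_a_3_defs : List ℕ := [(nat_lit 0x60000000500a0000300a000020020000200a0000100a000000080000000000000)]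
noncomputable def q_a_3_recs : List ℕ := [(nat_lit 0x70000700008080000500006030000300004)]
noncomputable def q_a_3_T : List (List ℕ × ℕ) := [([8,10,10,0,7,0,9,9], (nat_lit 0xc00001800002000000900002300001b00000f000007))]
noncomputable def q_a_3_D : H26.Dag := ⟨[0,2,1,4,3,6,5,8,7,10,9], [[0,0],
  [1,2],
  [2,1],
  [3,4],
  [4,3],
  [5,6],
  [6,5],
  [7,8],
  [8,7],
  [9,10],
  [10,9],
  [7,0,7,0],
  [4,1,10,7,9],
  [8,10,4,1,9]], [], q_a_3_defs, q_a_3_recs⟩
theorem q_a_3_c : q_a_3_D.check q_a_3_S q_a_3_T = true := by decide +kernel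
theorem q_a_3 {G : Type*} [Group G] {g : ℕ → G} (hR : Rels g q_a_Rl) {H : Subgroup G}
    (hH : ∀ k ∈ [], g k ∈ H) : evA g [8,10,10,0,7,0,9,9] ∈ H :=
  mem_dag (K := 11) (J := [0,1,2,3,4,5,6,7,8,9,10,21,25,26]) (D := q_a_3_D) (by decide +kernel) q_a_3_c (by decide +kernel) hR hH
noncomputable def q_a_4_S0 : List ℕ := [nat_lit 0xb000008006016, nat_lit 0x2b00000700001000201c, nat_lit 0x2f00002c006018, nat_lit 0x2f00000700001400401c, nat_lit 0x3300000700001800201e, nat_lit 0x3700003400601a, nat_lit 0x3700000700001c00401e, nat_lit 0x3f00000b00001400a01c, nat_lit 0x4300000200003400201e, nat_lit 0x4b00000f000018002020, nat_lit 0x4f00000f00001c004020, nat_lit 0x5300001300001800c020, nat_lit 0x5b000013000024008026, nat_lit 0x6300001b00002000e024, nat_lit 0x73000070006016, nat_lit 0x7300002700002400006c00a02e, nat_lit 0x7700007400003e00201c, nat_lit 0x7b000078006018, nat_lit 0x7b00002700002000006800c02e, nat_lit 0x6f00007c00004a00001c, nat_lit 0x8300008000601a, nat_lit 0x8700002700000c00003c01002c,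 nat_lit 0x8b00002700001400000d00a02c, nat_lit 0x8f00000600004c00201e, nat_lit 0x8f00002b000034002020, nat_lit 0x9700002f00003800a020, nat_lit 0x9b00000e000058000026, nat_lit 0x9f00000a000094006026, nat_lit 0xa3000012000060000026, nat_lit 0xab0000160000a4000024, nat_lit 0xab00001a000064000026, nat_lit 0xaf0000ac006022, nat_lit 0xaf0000160000a8006028, nat_lit 0xb700003b000048006026, nat_lit 0xbb00001e00005400c01e, nat_lit 0xbb00003f00004400c020, nat_lit 0xbf000043000048006028, nat_lit 0xc700002a0000190000b400602c, nat_lit 0xcb000053000058000024, nat_lit 0xcb00002e00006000e028, nat_lit 0xcf00005300005c006028, nat_lit 0xd300008900008e0000c400c02c, nat_lit 0xd7000049004016, nat_lit 0xdf0000dc00601a, nat_lit 0xe300006700003500007901002c, nat_lit 0xeb00006b0000310000a101002c, nat_lit 0xef00004e0000e0004020, nat_lit 0xf300006f000088000026, nat_lit 0xf70000f4006022, nat_lit 0xf700004e0000e8006026, nat_lit 0xff00003a0000f000401e, nat_lit 0xff00007300008400a01e, nat_lit 0x10300007300008800e026,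 nat_lit 0x107000077000080002020, nat_lit 0x10b0000420000ec000026, nat_lit 0x10b000077000088000028, nat_lit 0x10f0000770000700000fc00602c, nat_lit 0x11300004a0000dc00c01e, nat_lit 0x11300007b00008000c020, nat_lit 0x113000046000108002020, nat_lit 0x11700011400601a, nat_lit 0x11b00004a0000e400e026, nat_lit 0x11b00004600010c000028, nat_lit 0x11b00007b00008800e028]
noncomputable def q_a_4_S1 : List ℕ := [nat_lit 0x11f00007b00008c008026, nat_lit 0x12300007f000088000024, nat_lit 0x12700007f00008c006028, nat_lit 0x12f000052000124000024, nat_lit 0x12f00008300008800e024, nat_lit 0x133000130006022, nat_lit 0x13300008300008c008028, nat_lit 0x1370000620000a8006026, nat_lit 0x13700008f000094006028, nat_lit 0x13b0000620000210000c400602c, nat_lit 0x13b00005e0000260000170000280000800000d500602a, nat_lit 0x13700013c00012a0000ed00402e, nat_lit 0xe50000ee00012900001c, nat_lit 0x13f0000660000b0008026, nat_lit 0x13f0000970000a0008028, nat_lit 0x14300009b00005900011900602e, nat_lit 0x14700006e00012100012e00c02c,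 nat_lit 0x14700009f00005900010100802e, nat_lit 0x10a00010100014500201c, nat_lit 0x14b00013500013a00014800c02c, nat_lit 0x14b00008200011d00012e00602c, nat_lit 0x14b00007e0000b10000f500602e, nat_lit 0x1060000fd00015500001e, nat_lit 0x153000150006016, nat_lit 0x1530000b30000b000014c00a02e, nat_lit 0x15500016100015e00601c, nat_lit 0x1650000f6006018, nat_lit 0x1650000fe0000d1008020, nat_lit 0x16500011b0000a9004026, nat_lit 0x15700015000016500c01c, nat_lit 0x15700015400016200201c, nat_lit 0x10e00015a00017900001e, nat_lit 0xf200015100017900c024, nat_lit 0x15b000158006018, nat_lit 0x15b00015000016a00a01c, nat_lit 0x15f00015800017d00c020, nat_lit 0xce00013000018d00a026, nat_lit 0x163000095006022, nat_lit 0x163000150000172008024, nat_lit 0x163000158000181008026, nat_lit 0x163000160000191008028, nat_lit 0x1670000b700005500011100802e, nat_lit 0xbe0001110001a500201c, nat_lit 0x16b00009200008500016800602c, nat_lit 0xc20001aa0001ad000026, nat_lit 0x1160001a50001ad00e028, nat_lit 0x16f00012500013100c026,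 nat_lit 0x1420000e60001b9008024, nat_lit 0xe70000dc0001b9008028, nat_lit 0x1730000c30000c000016c00a02e, nat_lit 0x1770001740001c600201c, nat_lit 0x13e0001b60001c900e01e, nat_lit 0x17b0001700001bd00a01e, nat_lit 0x17f000096000150002026, nat_lit 0x17f00019500019a00c028, nat_lit 0x183000096000154004026, nat_lit 0x14d0001610001dd000028, nat_lit 0x1870001840001e1002020, nat_lit 0x187000096000158002028, nat_lit 0x18b00009a00006900014400c02c, nat_lit 0x18b00009e0000710000750000b100018900018601002a, nat_lit 0xf90001750001f100401e, nat_lit 0x18f0000a600017800c026, nat_lit 0x1ee0001ce0001f9008028]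
noncomputable def q_a_4_S2 : List ℕ := [nat_lit 0x1930000d30000d00000b500a02e, nat_lit 0x19700019400020200201c, nat_lit 0x19b0000a600017c00a028, nat_lit 0x14e0001d1000209006024, nat_lit 0x19f00019c00020d002020, nat_lit 0x1a30000d700004d0000fc00c02c, nat_lit 0x1a70000e50000ea00012c00c02c, nat_lit 0x1b70001b4006016, nat_lit 0x1b70000fb0000f80001b000a02e, nat_lit 0x1bb0001b800022200201c, nat_lit 0x1bf0001bc006018, nat_lit 0x1bf0000fb0000f40001ac00c02e, nat_lit 0x1b30001c000022e00001c, nat_lit 0x1d30000e20001c4002024, nat_lit 0x1d70000e20001b4002026, nat_lit 0x1db00010f00010c0001d000c02e, nat_lit 0x1d30001dc00023e00001c, nat_lit 0x1df0000e20001bc002028, nat_lit 0x1e300019d0001a20001cc00c02c, nat_lit 0x1f300012b0001280001ec00a02e, nat_lit 0x1fb0001f8006018, nat_lit 0x1fb00012b0001240001e800c02e, nat_lit 0x1ef0001fc00025600001c, nat_lit 0x20300020000601a, nat_lit 0x20700016e0000d20001050001e800025500025201002a, nat_lit 0x2030001f800026100a020, nat_lit 0x20b00015700015000020800602c,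 nat_lit 0x20b00017d0001a50001a90001ac00022d00022a01002a, nat_lit 0x1c70001bc00026d00a020, nat_lit 0x20f0001c10000c50001b000602c, nat_lit 0x246000226000275000026, nat_lit 0x2130001ca0001b10001b000c02c, nat_lit 0x2170001d600020800026500602e, nat_lit 0x1ef00020400028100001e, nat_lit 0x21b0001e60001490001ec00602c, nat_lit 0x21b0001ea00020c00027100602e, nat_lit 0x1b30001c800028d00001e, nat_lit 0x21f0001fd0001f50001d000602c, nat_lit 0x2230002060000d90001d000c02c, nat_lit 0x22300019700019000022000602c, nat_lit 0x235000242000299006026, nat_lit 0x22700021200017900020c00602c, nat_lit 0x24600026d0002a5000024, nat_lit 0x22b0002160001bc00c026, nat_lit 0x27e0002250002ad008024, nat_lit 0x26900026e0002ad008028, nat_lit 0x2b5000265004018, nat_lit 0x2b500026200025100e020, nat_lit 0x2bd0002b100401a, nat_lit 0x2c10001fb00020000c020, nat_lit 0x22f0001a30001d900021800a02e, nat_lit 0x2590002860002c9006020, nat_lit 0x23300022c0002ba00c01c, nat_lit 0x2330002300002ca00201c, nat_lit 0x2330002160001c400c028,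 nat_lit 0x29d0002a10002d9008024, nat_lit 0x25d0002d10002dd00401e, nat_lit 0x2e10001ff0001f400601e, nat_lit 0x2370001a70001b900021000a02e, nat_lit 0x23b0002380002ea00201c, nat_lit 0x23b00021a00020000c028, nat_lit 0x2950002e10002f1008024, nat_lit 0x24300024000601a, nat_lit 0x24300023c0002f500a020]
noncomputable def q_a_4_S3 : List ℕ := [nat_lit 0x24700022d004016, nat_lit 0x24700023100021d00e01c, nat_lit 0x1e300011700007b0000700000fc0001b800030501002a, nat_lit 0x24f00021e00029200401e, nat_lit 0x24f000305000309004020, nat_lit 0x2530001bb0001b400024c00602c, nat_lit 0x25700030100030900401e, nat_lit 0x25700022a00026d004020, nat_lit 0x25f0001cb0000ca0000ba0000ae0001a800024000a02a, nat_lit 0x2fd0002fa000321000020, nat_lit 0x263000249000319002026, nat_lit 0x2a600031d00032900e028, nat_lit 0x26700026000032500201e, nat_lit 0x26b00026800601a, nat_lit 0x26b00026400032d00a020, nat_lit 0x2730001d70001d400027000602c, nat_lit 0x27b0002ce00401a, nat_lit 0x27b0002550002c200201e, nat_lit 0x27f00024d0002e5002020,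 nat_lit 0x27f00028900030d00c024, nat_lit 0x28b00023300022c00028800602c, nat_lit 0x28f0002ee00027900027800c02c, nat_lit 0x29300024b00023900027400c02e, nat_lit 0x29f000316000298002024, nat_lit 0x2a30002a0006016, nat_lit 0x2a30002530002ad00028800a02e, nat_lit 0x2a70002a400036600201c, nat_lit 0x2ab0002a8006018, nat_lit 0x2ab00025300024500027800c02e, nat_lit 0x29f0002ac00037200001c, nat_lit 0x35600037500035e008026, nat_lit 0x2af00031a00031100029c00c02c, nat_lit 0x2b700025b00023500027000c02e, nat_lit 0x2b30002b800038200001c, nat_lit 0x2bb00033200024100027000c02c, nat_lit 0x2bb00033500033a0002a900027800037100036e01002a, nat_lit 0x2bf00038900038e002024, nat_lit 0x35200036900039100e026, nat_lit 0x2c3000385006018, nat_lit 0x2c30002c000039500a01c, nat_lit 0x2c700033e000385002028, nat_lit 0x2cb00037500036100e01c, nat_lit 0x29b00024f0002220002250002540002a40003a501002a, nat_lit 0x2cf0002cc0003a900a01e, nat_lit 0x2d30003460002c600028400c02c, nat_lit 0x2d30003420002ca0002d500028c00039d00039a01002a,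 nat_lit 0x3a20003b50003b2000024, nat_lit 0x3b90002c700035900601e, nat_lit 0x2970002940003bd002020, nat_lit 0x2d700034a0002e100028400602c, nat_lit 0x2d700034e00029c0003ad00802e, nat_lit 0x2db0003c100037900801c, nat_lit 0x2db0003c50003ca00a026, nat_lit 0x37e0003ad0003d1006024, nat_lit 0x2df0002dc0003d500201e, nat_lit 0x2e30003cd0003d5002020]
noncomputable def q_a_4_S : List (List ℕ) := [q_a_4_S0, q_a_4_S1, q_a_4_S2, q_a_4_S3]
noncomputable def q_a_4_defs : List ℕ := [(nat_lit 0x60001c00a0001b0080001b0070001b0060001b0070001a008000190070001900600019005000190010001900a00014008000140070001400a0001300a00010008000100050000f0080000e00a0000d0080000d0070000d0080000c0070000c0080000b0070000b0060000b0080000a0050000a008000090070000900600009005000090040000900300009002000090010000900a0000800a0000700700006007000050080000400700004005000040060000300500003008000020050000200400002003000020060000100500001004000010030000100a00000008000000070000000600000005000000040000000300000002000000010000000000000),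
  (nat_lit 0x50004a0040004a0030004a0020004a0010004a00a0004900a0004800a000450050004300400043003000430010004300a0004200a0003f0060003e0050003e0040003e0030003e0020003e0010003e00a0003d00a0003c00a0003600a00035005000340040003400300034002000340010003400a000320050003100400031003000310060003000300030002000300010003000a0002f00a0002d0080002c0050002c0040002c0030002c0020002c0010002c00a0002b00a0002700a000260080002500a0002300800023008000200070002000a0001f0080001f0070001f0080001e0070001e0060001e0050001e00a0001d0070001d0050001d0070001c),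
  (nat_lit 0x5000a3005000a0002000a000a0009f00a0009e0060009d0010009d0050009c0040009b0010009b00a00099004000960010009600a000950040009400300094002000940010009400a00093005000920040009200a0008e00a0008c00a0008a00a0007f0050007a0050007900a0007700a0007500a000740060007200500072003000720020007200a000700060006f00a0006e0060006d00a0006c0010006a0060006900500069003000690020006900300068002000680010006800a0006700a0006500a0006300a0006100a0005f00a0005d00a0005b00a0005500a000530060004a)]
noncomputable def q_a_4_recs : List ℕ := [(nat_lit 0x50002100046060004200046030003800046060004400045040004100044030001f00044010003600044080003e00043060002100042040003a00042040001f0004103000210004001000200003f020003b0003f02000390003d080003c0003d04000210003c04000370003b09000330003a090002a00038060003600037010001e00035070003000034040001600033050001700032020001500032080002c0003104000110002f03000100002e01000140002e02000110002d04000290002b080002a0002b04000180002a02000280002a040001700028020002400027040001500026030000d00025040000c00023020001200023090000b00022090000e00021060001f0002004000190001b01000190001e040001d0001e020001a0001d030001a0001c020001b0001c010000700018010000800016030000500014040000600013040000500012020000c0001001000040000f02000060000d060000c0000d02000050000c02000040000b040000a0000b02000030000a020000100002),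
  (nat_lit 0x30006300062070005d0006302000620004205000550006207000500006208000550006104000510006106000600005108000540006007000350005f08000530005f01000510005e050005d00050020005a0005d030005a0005c030005b00039050005b0005107000360005b050005a0004c040005a0003d08000590005a02000590003c040004b00059030003f0005801000450005805000350005808000310005807000570003f030004b0005701000380005604000550005607000550004506000550004b020005200055010004600055080003500053050004000053040003800053040005300046030005200054020005300054060005200048020004600052080004400052070005100052020005100049040004700051070004400051020004c0005003000270004f010002b0004f040004e000360a000440004d02000410004e08000300004e04000240004d02000290004d03000220004c080004b0004c01000210004b02000480004b040002200049020002100048010002200047),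
  (nat_lit 0x30007300090060008f00090050008e00073070007f0008e02000830008e03000830008d060007c0008702000870007f050008c0008707000700008c02000850008c01000800008c060008b0007903000850008b030007f0008405000840007e050007e0008a03000800008a030008a00081050008a00084070006e0008a02000890007708000820008902000880007008000870008807000730008808000730008706000860006c020007100086080007a0008606000850007b020008000085070006b00084040008300077080006b00083030008200071050006e00082080008100082030008100080050007d00081060007f0008004000790007b01000790007e040007d0007e030007a0007c070007200078080006e00077040007300074010007300076080006c00075080007000074040006a0006c010006a0006f040006e0006f020006b0006e030006b0006d020006c0006d070004a00069070003e00068040005200067060006600052070005e00066020003a00065030003a00064),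
  (nat_lit 0x4000ab000b802000ab000b706000b6000ab07000b3000b603000a3000b604000b3000b508000a0000b504000a0000a506000a4000a002000a0000b105000ac000b407000a0000b401000a6000b305000b2000a603000a8000b208000ac000b101000a2000b004000ac000b003000af000a208000a9000af05000a9000ae070009b000ae040009b000ac010009b000ad07000a6000ab01000a5000a3040009d000a7010009d000aa04000a9000aa02000a1000a903000a1000a802000a7000a808000a5000a7010009c000a4070009d000a308000a1000a207000930009f04000870009f02000840009e050008b0009e080009b0009c03000890009a06000990009a020007300099050009800089080009500098060009700073040008f00097040008200095020007800095080009200094040007800093020008600093050009100078030006d00091010006f00091)]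
noncomputable def q_a_4_T : List (List ℕ × ℕ) := [([2,3,10,5,10,5,10,5,4,1,6,9,6,9,6,9], (nat_lit 0x2800008000012c0002000002840002e00003da0003dd0002e300028f0002f50001cf0000de00005600003b00000b))]
noncomputable def q_a_4_D : H26.Dag := ⟨[0,2,1,4,3,6,5,8,7,10,9], [[0,0],
  [1,2],
  [2,1],
  [3,4],
  [4,3],
  [5,6],
  [6,5],
  [7,8],
  [8,7],
  [9,10],
  [10,9],
  [1,1,1],
  [3,3,3],
  [5,5,5],
  [4,2,3,1],
  [6,2,5,1],
  [6,4,5,3],
  [7,7,7],
  [2,8,5,7],
  [4,8,1,7],
  [6,8,3,7],
  [2,4,6,10,5,3,1,9],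
  [4,1,10,7,9],
  [8,10,4,1,9]], [], q_a_4_defs, q_a_4_recs⟩
theorem q_a_4_c : q_a_4_D.check q_a_4_S q_a_4_T = true := by decide +kernel
theorem q_a_4 {G : Type*} [Group G] {g : ℕ → G} (hR : Rels g q_a_Rl) {H : Subgroup G}
    (hH : ∀ k ∈ [], g k ∈ H) : evA g [2,3,10,5,10,5,10,5,4,1,6,9,6,9,6,9] ∈ H :=
  mem_dag (K := 11) (J := [0,1,2,3,4,5,6,7,8,9,10,11,12,13,14,15,16,17,18,19,20,24,25,26]) (D := q_a_4_D) (by decide +kernel) q_a_4_c (by decide +kernel) hR hH
noncomputable def q_a_5_S0 : List ℕ := [nat_lit 0x2b00000700001000201c, nat_lit 0x2f00000700001400401c, nat_lit 0x3300000700001c00401e, nat_lit 0x3b00000f000018002020, nat_lit 0x3f00000f00001c004020, nat_lit 0x4300000f000020000028, nat_lit 0x4b000013000024008026, nat_lit 0x4f00001b00002000e024, nat_lit 0x5f00005c006016, nat_lit 0x5f00002700002400005800a02e, nat_lit 0x6300006000002600201c, nat_lit 0x6700002700002000005400c02e, nat_lit 0x5b00006800002e00001c, nat_lit 0x6f00006c00601a, nat_lit 0x7300002700000c00003801002c,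 nat_lit 0x7700002700001400000500a02c, nat_lit 0x7b00000200003c00201e, nat_lit 0x7f000002000044000026, nat_lit 0x8300002f00003400a020, nat_lit 0x8b00000a000050000026, nat_lit 0x8f00008c006022, nat_lit 0x9b00001200000900009400602c, nat_lit 0x9f00004700004c006028, nat_lit 0xaf00005300001d00004d01002c, nat_lit 0xb700005700001900005901002c, nat_lit 0xbb0000320000ac002020, nat_lit 0xbf00005b000074000026, nat_lit 0xcb0000220000bc00201e, nat_lit 0xcf00005f00007400e026, nat_lit 0xd300002a0000b400201e, nat_lit 0xd300006300006c002020, nat_lit 0xd700002a0000b8000026, nat_lit 0xdb00006300005c0000c800602c, nat_lit 0xe300002e0000b000e026, nat_lit 0xe300006700007400e028, nat_lit 0xe7000067000078008026, nat_lit 0xeb00006b000074000024, nat_lit 0xef00006b000078006028, nat_lit 0xf70000360000ec000024, nat_lit 0xf700006f00007400e024, nat_lit 0xfb00007b000080000024, nat_lit 0x6e0000660000ab0000530000150000450000a101c02a, nat_lit 0xff0000fc0000a500006e00802e, nat_lit 0xff00004200000e00001700002800006c00007900602a,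 nat_lit 0x750000ad00a016, nat_lit 0x10300004a000090008026, nat_lit 0x103000083000088008028, nat_lit 0x10700008700003d00008d00802e, nat_lit 0x9600008d0000bd00201c, nat_lit 0x10b0000b50000ba00010800c02c, nat_lit 0x10b00005200005d00008500602e, nat_lit 0x920000890000c900001e, nat_lit 0x113000110006016, nat_lit 0x11300009300009000010c00a02e, nat_lit 0xc90000d50000d200601c, nat_lit 0xd900008a000071008020, nat_lit 0x1170001140000d600201c, nat_lit 0x9a0000ce0000e100001e, nat_lit 0x11b00009700003900009d00802e, nat_lit 0x6a00009d0000e900201c, nat_lit 0x11f000056000114004026, nat_lit 0xc50000d50000f1000028, nat_lit 0x1230001200000f5002020, nat_lit 0x123000056000118002028]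
noncomputable def q_a_5_S1 : List ℕ := [nat_lit 0x12b0000a30000a000006100a02e, nat_lit 0x12f00012c00010200201c, nat_lit 0x1330000a70000310000c800c02c, nat_lit 0x147000144006016, nat_lit 0x1470000c70000c400014000a02e, nat_lit 0x14b00014800011200201c, nat_lit 0x14f00014c006018, nat_lit 0x14f0000c70000c000013c00c02e, nat_lit 0x14300015000011e00001c, nat_lit 0x15700015400601a, nat_lit 0x15f000082000154002024, nat_lit 0x1630000db0000d800015c00c02e, nat_lit 0x15f00016400012e00001c, nat_lit 0x16700008200014c002028, nat_lit 0x1770000f30000f000017400a02e, nat_lit 0x17f00017c006018, nat_lit 0x17f0000f30000ec00017000c02e, nat_lit 0x18700018400601a, nat_lit 0x18b0000de00007200009100017000014100013e01002a, nat_lit 0x18700017c00014900a020, nat_lit 0x18f00011700011000018c00602c, nat_lit 0x18f0000e50000e90000ed00013c00011d00011a01002a, nat_lit 0x15700014c00015500a020, nat_lit 0x1930000fa0000c100017400602c, nat_lit 0x1930000fe00019000015900602e, nat_lit 0x14300015800016100001e, nat_lit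 0x19b00010600007d00015c00c02c, nat_lit 0x19b00012f00012800019800602c, nat_lit 0x129000132000169006026, nat_lit 0x19f00010a00014c00c026, nat_lit 0x151000156000175008028, nat_lit 0x17900014d004018, nat_lit 0x1a30001a000017e00c01c, nat_lit 0x1a300010a00015400c028, nat_lit 0x16d000171000185008024, nat_lit 0x14500018100018900401e, nat_lit 0x18d00018300017800601e, nat_lit 0x1a70001370000b20000aa0000bb0000c800015400a02a, nat_lit 0x159000126000195000020, nat_lit 0x1ab0001a800019900201e, nat_lit 0x1af00011d004016, nat_lit 0x1af00012100010d00e01c, nat_lit 0x16b0000df00006700005c0000c80001480001a501002a, nat_lit 0x1b300010e00016600401e, nat_lit 0x1b30001a50001a9004020, nat_lit 0x1bb0001a10001a900401e, nat_lit 0x1bb00011a000155004020, nat_lit 0x1c3000139000191002020, nat_lit 0x1c300015d0001ad00c024, nat_lit 0x1d70001d4006016, nat_lit 0x1db0001b70001350001c000c02e, nat_lit 0x1d30001dc0001ca00001c, nat_lit 0x1df0001b60001b10001d000c02c, nat_lit 0x1df0001ba00019d0001cc00602c, nat_lit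 0x1e30001cd0001c500e01c, nat_lit 0x1cf0001b30001120001150001b80001d80001d901002a, nat_lit 0x1e70001e40001dd00a01e, nat_lit 0x1eb0001be00018d0001c800602c, nat_lit 0x1eb0001c20001d00001e100802e, nat_lit 0x1ef0001e50001ea00a026, nat_lit 0x1d20001e10001ed006024, nat_lit 0x1f30001f00001f100201e, nat_lit 0x1f70001d50001f500c024]
noncomputable def q_a_5_S : List (List ℕ) := [q_a_5_S0, q_a_5_S1]
noncomputable def q_a_5_defs : List ℕ := [(nat_lit 0xa0001e0070001e0070001b00a0001a0080001a0070001a00800019007000190060001900a000180070001800500018007000170050001700a00016008000160070001600500016007000150050001500700014005000140010001400a000110080001100a0000f0080000d00a0000c0080000c0070000c0080000b0060000b0070000a0050000a008000090070000900600009005000090040000900300009002000090010000900a0000800a000070070000600800004005000040070000300600003005000030030000200600001004000010030000100a00000008000000070000000600000005000000040000000300000002000000010000000000000),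
  (nat_lit 0x500072005000710020007100a000700060006f0010006f00a0006e0040006d0020006d0010006d00a0006c00a0006a00a000600050005c00a000590060005300a00052006000510010004e0050004d0020004d0030004c0010004c00a0004b00a0004900a0004800a0004500a000430060003c0050003c0040003c0030003c0020003c00a0003b00a0003a00a0003700500036004000360010003600a0003500600031005000310040003100300031002000310010003100a0003000a0002f00a0002c00a00029003000280020002800100028005000260040002600a0002500300024002000240010002400a0002300a0002100800020)]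
noncomputable def q_a_5_recs : List ℕ := [(nat_lit 0x8000450004804000410004806000470004108000440004702000460002f040003d0004606000450003d02000420004505000330004304000430003803000420004402000430004406000420003a02000380004207000410004202000410003b040003900041030002100040010002300040020003f0002c02000340003f040002e0003f090003e00032020001f0003e010001c0003d020003a0003d040001d0003b020001c0003a010001d00039050001c00038030002b00038080003100036040002d00035040001a00034020002c00034030001c00033020002e00032040001c0002f040002a0002e09000270002d09000220002b040001200027080002400026080002200023040001300022030000c0002004000100001f020000e0001e090000b0001d090000d0001c060001a0001b04000140001601000140001902000150001803000150001702000160001701000070001301000080001206000070001004000060000f04000050000e02000060000c02000040000b02000030000a),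
  (nat_lit 0x70007c0007d02000770007c060007b0007707000790007b04000790007a08000710007a010007300079050007800073030007500078080007200077070007300077040006f00074010006f00076020007400075070006c0007004000650007004000630006e020005a0006e040005a0006c02000640006c050006b0005a03000510006b01000530006b02000630006a060006900063040005400069060005d00065020006500060050006800065070005400068010006100068030006100067030006700062070005200067020006600054080006500066070005600066060006400050020005500064080005c00064030006300055050005200063080006200063030006200061050005e00062060006000061010005b0005f040005e0005f030005c0005d080005200059040005600057010005600058080005400057060005400055040004e00050010004e00053040005200053020004f00052030004f0005102000500005107000310004c020002d0004b030002d0004a)]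
noncomputable def q_a_5_T : List (List ℕ × ℕ) := [([8,10,5,10,5,10,5,7,6,9,6,9,6,9], (nat_lit 0x2800006c0000f40001840001c80001f40001f90001f70001cb0001ab0001370000b3000057000023))]
noncomputable def q_a_5_D : H26.Dag := ⟨[0,2,1,4,3,6,5,8,7,10,9], [[0,0],
  [1,2],
  [2,1],
  [3,4],
  [4,3],
  [5,6],
  [6,5],
  [7,8],
  [8,7],
  [9,10],
  [10,9],
  [1,1,1],
  [3,3,3],
  [5,5,5],
  [4,2,3,1],
  [6,2,5,1],
  [6,4,5,3],
  [7,7,7],
  [2,8,5,7],
  [4,8,1,7],
  [6,8,3,7],
  [2,4,6,10,5,3,1,9],
  [4,1,10,7,9],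
  [8,10,4,1,9]], [], q_a_5_defs, q_a_5_recs⟩
theorem q_a_5_c : q_a_5_D.check q_a_5_S q_a_5_T = true := by decide +kernel
theorem q_a_5 {G : Type*} [Group G] {g : ℕ → G} (hR : Rels g q_a_Rl) {H : Subgroup G}
    (hH : ∀ k ∈ [], g k ∈ H) : evA g [8,10,5,10,5,10,5,7,6,9,6,9,6,9] ∈ H :=
  mem_dag (K := 11) (J := [0,1,2,3,4,5,6,7,8,9,10,11,12,13,14,15,16,17,18,19,20,24,25,26]) (D := q_a_5_D) (by decide +kernel) q_a_5_c (by decide +kernel) hR hH
noncomputable def q_a_6_S0 : List ℕ := [nat_lit 0xb000008006016, nat_lit 0x2300000700001400401c, nat_lit 0x2b00000700001c000026, nat_lit 0x3700000200002800401e, nat_lit 0x3b00000f00000800003400602a, nat_lit 0x43000013000020008026, nat_lit 0x4700001700001c000024, nat_lit 0x4f00000600004000201e, nat_lit 0x5300005000601a, nat_lit 0x5300002300002800a020, nat_lit 0x5700002700002c00e024, nat_lit 0x6b000068006016, nat_lit 0x6b00003300003000006400a02c, nat_lit 0x6f00006c00003200201c, nat_lit 0x7300003300002c00006000c02c, nat_lit 0x6700007400003a00001c,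 nat_lit 0x7b00000e000058000026, nat_lit 0x7f00007c006022, nat_lit 0x7f00000e00005c006024, nat_lit 0x83000012000078002024, nat_lit 0x87000012000074004028, nat_lit 0x8b00003f000044006028, nat_lit 0x8f00001a00000900006000c02a, nat_lit 0x9300004b00004800009000c02c, nat_lit 0x9b00009800601a, nat_lit 0xa300001e00008c006024, nat_lit 0xa700002600005c008026, nat_lit 0xa70000220000a4006028, nat_lit 0xab00003d00002d00e01c, nat_lit 0x31000071008018, nat_lit 0xaf0000ac00007500a01c, nat_lit 0xaf00005900005d004026, nat_lit 0x9f00009400007d000028, nat_lit 0xb3000039000051000026, nat_lit 0xb300005f00002900004101002a, nat_lit 0xb700007900008100201e, nat_lit 0x970000a000008d00c024, nat_lit 0xbb0000360000b800201e, nat_lit 0xbb00006f000078002020, nat_lit 0x6200009200009500c024, nat_lit 0xbf00004d006022, nat_lit 0xbf00009900009d008026, nat_lit 0xc300004600008900008600602c, nat_lit 0x830000880000a900001e, nat_lit 0xc70000ae00401a, nat_lit 0xc70000a10000a600c024]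
noncomputable def q_a_6_S : List (List ℕ) := [q_a_6_S0]
noncomputable def q_a_6_defs : List ℕ := [(nat_lit 0x50002000a0001f0080001d0050001b0050001800700017004000170010001700800014008000130070001200600012005000120040001200a000110080000f0060000e0010000e0080000d0070000d0050000c0040000c0030000c0020000c0010000c00a0000b00a0000a0080000900700009006000080050000800a0000500700005008000040050000400a000030060000200a00001008000010070000100600001004000010080000000700000005000000040000000300000002000000010000000000000)]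
noncomputable def q_a_6_recs : List ℕ := [(nat_lit 0x7000260003105000300003106000300002002000210003001000260002f08000200002f070002e00026040001d0002e020002d0002e070002d0002502000270002d090001e0002c04000210002c060002b0002708000240002b01000180002b030002a00018030001a0002a040002800029010001600029060002200028060002500026010002300024070001700023040001000022080001c00021080001d0002006000160001f080001e0001f04000150001e04000170001901000170001c02000180001b03000180001a02000190001a010000a00015030000900014060001300014020000f00013020000600011010000700010080000c0000e02000090000d04000060000a020000400008020000100002)]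
noncomputable def q_a_6_T : List (List ℕ × ℕ) := [([8,2,3,5,3,1,5,10,6,7,5,9,6], (nat_lit 0x1800004c00009c0000b50000b20000c300004a00006900006e00006600005600001600001f))]
noncomputable def q_a_6_D : H26.Dag := ⟨[0,2,1,4,3,6,5,8,7,10,9], [[0,0],
  [1,2],
  [2,1],
  [3,4],
  [4,3],
  [5,6],
  [6,5],
  [7,8],
  [8,7],
  [9,10],
  [10,9],
  [1,1,1],
  [3,3,3],
  [5,5,5],
  [4,2,3,1],
  [6,2,5,1],
  [6,4,5,3],
  [7,7,7],
  [2,8,5,7],
  [4,8,1,7],
  [6,8,3,7],
  [4,1,10,7,9],
  [8,10,4,1,9]], [], q_a_6_defs, q_a_6_recs⟩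
theorem q_a_6_c : q_a_6_D.check q_a_6_S q_a_6_T = true := by decide +kernel
theorem q_a_6 {G : Type*} [Group G] {g : ℕ → G} (hR : Rels g q_a_Rl) {H : Subgroup G}
    (hH : ∀ k ∈ [], g k ∈ H) : evA g [8,2,3,5,3,1,5,10,6,7,5,9,6] ∈ H :=
  mem_dag (K := 11) (J := [0,1,2,3,4,5,6,7,8,9,10,11,12,13,14,15,16,17,18,19,20,25,26]) (D := q_a_6_D) (by decide +kernel) q_a_6_c (by decide +kernel) hR hH
noncomputable def q_a_7_S0 : List ℕ := [nat_lit 0x1300001000601a, nat_lit 0x1f00000700000c00401c, nat_lit 0x23000007000018000024, nat_lit 0x2f00000b00001000c020, nat_lit 0x3300003000601a, nat_lit 0x3700000f000018000022, nat_lit 0x4300001300001c008026, nat_lit 0x4300000200003c006026, nat_lit 0x4700000600003400401e, nat_lit 0x4b00001f000028008024, nat_lit 0x5b000058006016, nat_lit 0x5b00002b00002800005400a02c, nat_lit 0x5f00005c00002e00201c, nat_lit 0x6300002b00002400005000c02c, nat_lit 0x5700006400003600001c, nat_lit 0x6b00006800601a, nat_lit 0x6f00000e00003c008024, nat_lit 0x73000012000070006026,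 nat_lit 0x7700001600000900005000c02a, nat_lit 0x7f00003f00003800007800c02c, nat_lit 0x8700008400601a, nat_lit 0x8f000022000074006022, nat_lit 0x8f00004700004c008026, nat_lit 0x9300003900002900e01c, nat_lit 0x2d00005d008018, nat_lit 0x97000039006018, nat_lit 0x9700009400006100a01c, nat_lit 0x9700004900004d004024, nat_lit 0x8b00008000006d000026, nat_lit 0x9b00006900007100201e, nat_lit 0x8300008c00007500c022, nat_lit 0x9f00005700006c00401e, nat_lit 0x9f00006500006a000053000025000059000056012028, nat_lit 0x7b00004100004500008100c02a, nat_lit 0xa300003200009c00201e, nat_lit 0xa300005f000068002020, nat_lit 0x5200007a00008900c022, nat_lit 0xa700008d000091008024, nat_lit 0xab00007d000085008022, nat_lit 0xab00003e0000a8006026]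
noncomputable def q_a_7_S : List (List ℕ) := [q_a_7_S0]
noncomputable def q_a_7_defs : List ℕ := [(nat_lit 0x80001a008000190050001700600015005000140040001300100013008000110070000f0060000f0050000f0040000f00a0000e00a0000d0080000c0080000b0060000a0050000a0040000a0030000a0020000a0010000a00a0000900a0000800800007006000070080000400a000030080000300700003006000020050000200a0000100800001007000010040000100800000007000000060000000500000004000000010000000000000)]
noncomputable def q_a_7_recs : List ℕ := [(nat_lit 0x4000290002a050001e0002a01000210002907000280002104000190002802000260002807000270001e090001c00027020001a00027070002600020020002200026060002500022080001f00025010001400025040001500025030002400014030001600024030001200023060001c00023060002000021010001d0001f07000130001d040001b0001c010000e0001b06000190001a040001300015010001300018020001400017030001400016020001500016010000900012020000c00011040000e0001003000060001002000050000d060000b0000c03000030000b040000500008020000200007060000300004)]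
noncomputable def q_a_7_T : List (List ℕ × ℕ) := [([8,4,4,10,6,4,1,5,9,6], (nat_lit 0x1000004000008800009500009d00009a00007b00001d00001a00001b))]
noncomputable def q_a_7_D : H26.Dag := ⟨[0,2,1,4,3,6,5,8,7,10,9], [[0,0],
  [1,2],
  [2,1],
  [3,4],
  [4,3],
  [5,6],
  [6,5],
  [7,8],
  [8,7],
  [9,10],
  [10,9],
  [1,1,1],
  [3,3,3],
  [5,5,5],
  [4,2,3,1],
  [6,2,5,1],
  [6,4,5,3],
  [2,8,5,7],
  [4,8,1,7],
  [6,8,3,7],
  [2,4,6,10,5,3,1,9],
  [4,1,10,7,9],
  [8,10,4,1,9]], [], q_a_7_defs, q_a_7_recs⟩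
theorem q_a_7_c : q_a_7_D.check q_a_7_S q_a_7_T = true := by decide +kernel
theorem q_a_7 {G : Type*} [Group G] {g : ℕ → G} (hR : Rels g q_a_Rl) {H : Subgroup G}
    (hH : ∀ k ∈ [], g k ∈ H) : evA g [8,4,4,10,6,4,1,5,9,6] ∈ H :=
  mem_dag (K := 11) (J := [0,1,2,3,4,5,6,7,8,9,10,11,12,13,14,15,16,18,19,20,24,25,26]) (D := q_a_7_D) (by decide +kernel) q_a_7_c (by decide +kernel) hR hH
noncomputable def q_a_8_S0 : List ℕ := [nat_lit 0xb000008006016, nat_lit 0x1b000007000014000024, nat_lit 0x2700000200001800401c, nat_lit 0x2b00000f000014000022, nat_lit 0x3f00003c006016, nat_lit 0x3f00002300002000003800a02a, nat_lit 0x4300004000001600201c, nat_lit 0x4700002300001c00003400c02a, nat_lit 0x3b00004800001e00001c, nat_lit 0x4f00002300001800000900a028, nat_lit 0x5300000e00000500003400c028, nat_lit 0x5700002f00002c00005400c02a, nat_lit 0x5f00005c00601a, nat_lit 0x6700002100001100e01c, nat_lit 0x15000035008018, nat_lit 0x6b00006800003900a01c, nat_lit 0x6b00002900002d004024, nat_lit 0x63000058000041000026,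 nat_lit 0x6f00003d00004500201e, nat_lit 0x5b00006400004900c022, nat_lit 0x7300001a00007000201e, nat_lit 0x7300004300004c002020, nat_lit 0x3200004e00005100c022, nat_lit 0x77000055000059008024, nat_lit 0x7700004b000050006026]
noncomputable def q_a_8_S : List (List ℕ) := [q_a_8_S0]
noncomputable def q_a_8_defs : List ℕ := [(nat_lit 0x800012005000100050000d0040000c0010000c0070000b0060000b0050000b0040000b00a0000a00800008005000080040000800300008002000080010000800a0000700a0000600a00003007000030040000200a000010080000100700001004000010070000000500000002000000010000000000000)]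
noncomputable def q_a_8_recs : List ℕ := [(nat_lit 0x4000130001d01000170001d070001c0001704000120001c020001b0001c070001b0001602000180001b060001a0001808000150001a010000d0001a03000190000d030000f00019060001600017010001400015070000c00014090000900013040000c0000e010000c00011020000d00010030000d0000f020000e0000f02000040000a020000500009040000400006020000100002)]
noncomputable def q_a_8_T : List (List ℕ × ℕ) := [([2,4,10,3,1,5,9,6], (nat_lit 0x1000003000006000005d00006200002600002700000b))]
noncomputable def q_a_8_D : H26.Dag := ⟨[0,2,1,4,3,6,5,8,7,10,9], [[0,0],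
  [1,2],
  [2,1],
  [3,4],
  [4,3],
  [5,6],
  [6,5],
  [7,8],
  [8,7],
  [9,10],
  [10,9],
  [1,1,1],
  [3,3,3],
  [5,5,5],
  [4,2,3,1],
  [6,2,5,1],
  [6,4,5,3],
  [2,8,5,7],
  [4,8,1,7],
  [6,8,3,7],
  [4,1,10,7,9],
  [8,10,4,1,9]], [], q_a_8_defs, q_a_8_recs⟩
theorem q_a_8_c : q_a_8_D.check q_a_8_S q_a_8_T = true := by decide +kernel
theorem q_a_8 {G : Type*} [Group G] {g : ℕ → G} (hR : Rels g q_a_Rl) {H : Subgroup G}
    (hH : ∀ k ∈ [], g k ∈ H) : evA g [2,4,10,3,1,5,9,6] ∈ H :=
  mem_dag (K := 11) (J := [0,1,2,3,4,5,6,7,8,9,10,11,12,13,14,15,16,18,19,20,25,26]) (D := q_a_8_D) (by decide +kernel) q_a_8_c (by decide +kernel) hR hH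
noncomputable def q_a_9_S0 : List ℕ := [nat_lit 0xb000008006016, nat_lit 0x17000014006018, nat_lit 0x1700000700001000401a, nat_lit 0x1b00000200001400201a]
noncomputable def q_a_9_S : List (List ℕ) := [q_a_9_S0]
noncomputable def q_a_9_defs : List ℕ := [(nat_lit 0x300002004000010030000100400000002000000010000000000000)]
noncomputable def q_a_9_recs : List ℕ := [(nat_lit 0x20000400006020000300005040000400005020000100002)]
noncomputable def q_a_9_T : List (List ℕ × ℕ) := [([4,1,4,1,4,1], (nat_lit 0xc00001c00000e00000500000a00000f))]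
noncomputable def q_a_9_D : H26.Dag := ⟨[0,2,1,4,3,6,5,8,7,10,9], [[0,0],
  [1,2],
  [2,1],
  [3,4],
  [4,3],
  [5,6],
  [6,5],
  [7,8],
  [8,7],
  [9,10],
  [10,9],
  [1,1,1],
  [3,3,3],
  [4,2,3,1]], [], q_a_9_defs, q_a_9_recs⟩
theorem q_a_9_c : q_a_9_D.check q_a_9_S q_a_9_T = true := by decide +kernel
theorem q_a_9 {G : Type*} [Group G] {g : ℕ → G} (hR : Rels g q_a_Rl) {H : Subgroup G}
    (hH : ∀ k ∈ [], g k ∈ H) : evA g [4,1,4,1,4,1] ∈ H :=
  mem_dag (K := 11) (J := [0,1,2,3,4,5,6,7,8,9,10,11,12,14]) (D := q_a_9_D) (by decide +kernel) q_a_9_c (by decide +kernel) hR hH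
noncomputable def q_a_10_S0 : List ℕ := [nat_lit 0xb000008006016, nat_lit 0x1700000700001000201c, nat_lit 0x1b000018006018, nat_lit 0x1f00000200001c00401c, nat_lit 0x2300000f000014002020, nat_lit 0x2700000600002400201e, nat_lit 0x2b00002800601a, nat_lit 0x2f00000a00002c004020, nat_lit 0x3300000e00003000401e]
noncomputable def q_a_10_S : List (List ℕ) := [q_a_10_S0]
noncomputable def q_a_10_defs : List ℕ := [(nat_lit 0x600007006000060060000500500005005000030040000200400001003000010050000000300000002000000010000000000000)]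
noncomputable def q_a_10_recs : List ℕ := [(nat_lit 0x20000b0000c040000a0000b06000090000a020000800009040000400008020000600007040000500006020000300005020000100002)]
noncomputable def q_a_10_T : List (List ℕ × ℕ) := [([5,3,1,5,3,1,5,3,1], (nat_lit 0xc00002000003400002200001e00001a000016000012000013))]
noncomputable def q_a_10_D : H26.Dag := ⟨[0,2,1,4,3,6,5,8,7,10,9], [[0,0],
  [1,2],
  [2,1],
  [3,4],
  [4,3],
  [5,6],
  [6,5],
  [7,8],
  [8,7],
  [9,10],
  [10,9],
  [1,1,1],
  [3,3,3],
  [5,5,5],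
  [4,2,3,1],
  [6,2,5,1],
  [6,4,5,3]], [], q_a_10_defs, q_a_10_recs⟩
theorem q_a_10_c : q_a_10_D.check q_a_10_S q_a_10_T = true := by decide +kernel
theorem q_a_10 {G : Type*} [Group G] {g : ℕ → G} (hR : Rels g q_a_Rl) {H : Subgroup G}
    (hH : ∀ k ∈ [], g k ∈ H) : evA g [5,3,1,5,3,1,5,3,1] ∈ H :=
  mem_dag (K := 11) (J := [0,1,2,3,4,5,6,7,8,9,10,11,12,13,14,15,16]) (D := q_a_10_D) (by decide +kernel) q_a_10_c (by decide +kernel) hR hH
noncomputable def q_a_11_S0 : List ℕ := [nat_lit 0xf00000c006016, nat_lit 0x1b000002000014004018, nat_lit 0x1f00001300001800801c, nat_lit 0x2300000600002000601a]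
noncomputable def q_a_11_S : List (List ℕ) := [q_a_11_S0]
noncomputable def q_a_11_defs : List ℕ := [(nat_lit 0x8000060080000400600003008000020060000200400001003000010020000000000000)]
noncomputable def q_a_11_recs : List ℕ := [(nat_lit 0x20000700008030000500007040000400006040000200003)]
noncomputable def q_a_11_T : List (List ℕ × ℕ) := [([2,4,6,8,2,3,7,4,1], (nat_lit 0x800000c00001800000900000d00002300001b00000f000007))]
noncomputable def q_a_11_D : H26.Dag := ⟨[0,2,1,4,3,6,5,8,7,10,9], [[0,0],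
  [1,2],
  [2,1],
  [3,4],
  [4,3],
  [5,6],
  [6,5],
  [7,8],
  [8,7],
  [9,10],
  [10,9],
  [3,3,3],
  [6,4,5,3],
  [4,8,1,7],
  [6,8,3,7]], [], q_a_11_defs, q_a_11_recs⟩
theorem q_a_11_c : q_a_11_D.check q_a_11_S q_a_11_T = true := by decide +kernel
theorem q_a_11 {G : Type*} [Group G] {g : ℕ → G} (hR : Rels g q_a_Rl) {H : Subgroup G}
    (hH : ∀ k ∈ [], g k ∈ H) : evA g [2,4,6,8,2,3,7,4,1] ∈ H :=
  mem_dag (K := 11) (J := [0,1,2,3,4,5,6,7,8,9,10,12,16,19,20]) (D := q_a_11_D) (by decide +kernel) q_a_11_c (by decide +kernel) hR hH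
noncomputable def q_a_12_S0 : List ℕ := [nat_lit 0x1300000700000c00a016, nat_lit 0x1b00000b00001000801c, nat_lit 0x1f00000200001800a018, nat_lit 0x2300001700001c00801e, nat_lit 0x2700000a00002400801a]
noncomputable def q_a_12_S : List (List ℕ) := [q_a_12_S0]
noncomputable def q_a_12_defs : List ℕ := [(nat_lit 0x800007008000050060000400800002006000020040000100800000004000000020000000000000)]
noncomputable def q_a_12_recs : List ℕ := [(nat_lit 0x50000800009030000600008010000500007010000300006010000200004)]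
noncomputable def q_a_12_T : List (List ℕ × ℕ) := [([8,2,4,6,7,5,3,1], (nat_lit 0x800001400002000002800001200000e00000600000f))]
noncomputable def q_a_12_D : H26.Dag := ⟨[0,2,1,4,3,6,5,8,7,10,9], [[0,0],
  [1,2],
  [2,1],
  [3,4],
  [4,3],
  [5,6],
  [6,5],
  [7,8],
  [8,7],
  [9,10],
  [10,9],
  [4,2,3,1],
  [6,2,5,1],
  [2,8,5,7],
  [4,8,1,7],
  [6,8,3,7]], [], q_a_12_defs, q_a_12_recs⟩
theorem q_a_12_c : q_a_12_D.check q_a_12_S q_a_12_T = true := by decide +kernel
theorem q_a_12 {G : Type*} [Group G] {g : ℕ → G} (hR : Rels g q_a_Rl) {H : Subgroup G}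
    (hH : ∀ k ∈ [], g k ∈ H) : evA g [8,2,4,6,7,5,3,1] ∈ H :=
  mem_dag (K := 11) (J := [0,1,2,3,4,5,6,7,8,9,10,14,15,18,19,20]) (D := q_a_12_D) (by decide +kernel) q_a_12_c (by decide +kernel) hR hH
noncomputable def q_a_13_S0 : List ℕ := [nat_lit 0xb000008006016, nat_lit 0x1b000002000010002018, nat_lit 0x1f000002000014004018, nat_lit 0x2300001300001800a01c, nat_lit 0x2700000a00002400401a]
noncomputable def q_a_13_S : List (List ℕ) := [q_a_13_S0]
noncomputable def q_a_13_defs : List ℕ := [(nat_lit 0x600007006000040040000200300002006000010040000100300001002000000010000000000000)]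
noncomputable def q_a_13_recs : List ℕ := [(nat_lit 0x20000800009030000500008020000400007020000300006020000100002)]
noncomputable def q_a_13_T : List (List ℕ × ℕ) := [([2,3,2,4,6,4,1,5,3,1], (nat_lit 0xc00002000002800001200000e00001700001000000500001b00000b))]
noncomputable def q_a_13_D : H26.Dag := ⟨[0,2,1,4,3,6,5,8,7,10,9], [[0,0],
  [1,2],
  [2,1],
  [3,4],
  [4,3],
  [5,6],
  [6,5],
  [7,8],
  [8,7],
  [9,10],
  [10,9],
  [1,1,1],
  [4,2,3,1],
  [6,2,5,1],
  [6,4,5,3]], [], q_a_13_defs, q_a_13_recs⟩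
theorem q_a_13_c : q_a_13_D.check q_a_13_S q_a_13_T = true := by decide +kernel
theorem q_a_13 {G : Type*} [Group G] {g : ℕ → G} (hR : Rels g q_a_Rl) {H : Subgroup G}
    (hH : ∀ k ∈ [], g k ∈ H) : evA g [2,3,2,4,6,4,1,5,3,1] ∈ H :=
  mem_dag (K := 11) (J := [0,1,2,3,4,5,6,7,8,9,10,11,14,15,16]) (D := q_a_13_D) (by decide +kernel) q_a_13_c (by decide +kernel) hR hH
theorem q_a {G : Type*} [Group G] {t a b e x q : G}
    (h : B1 a b e x t)
    (q1 : q * (a * b * e) = a * b * e * q)
    (q2 : q * x * q⁻¹ = (a * b⁻¹)⁻¹)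
    (q3 : q * (a * b⁻¹) * q⁻¹ = x) :
    t * q * t⁻¹ * q⁻¹ * (a * b⁻¹) = a * b⁻¹ * (t * q * t⁻¹ * q⁻¹) ∧ t * q * t⁻¹ * q⁻¹ * x = x * (t * q * t⁻¹ * q⁻¹) ∧ q * q * t⁻¹ * (a * b⁻¹) = a * b⁻¹ * (q * q * t⁻¹) ∧ q * q * t⁻¹ * x = x * (q * q * t⁻¹) ∧ (q * e⁻¹) ^ 3 * (a * b⁻¹) = a * b⁻¹ * (q * e⁻¹) ^ 3 ∧ (q * e⁻¹) ^ 3 * x = x * (q * e⁻¹) ^ 3 ∧ e⁻¹ * q * e * x * (e⁻¹ * q * e)⁻¹ = x * (a * b⁻¹) * (a * b * e)⁻¹ ∧ e⁻¹ * q * e * (a * b⁻¹) * (e⁻¹ * q * e)⁻¹ = x * (a * b⁻¹)⁻¹ * (a * b * e) ∧ e⁻¹ * q * e * (a * b * e) = a * b * e * (e⁻¹ * q * e) ∧ (a * b⁻¹) ^ 3 = 1 ∧ (a * b * e) ^ 3 = 1 ∧ a * b⁻¹ * x = a * b * e * x * (a * b⁻¹) ∧ a * b * e * x = x * (a * b * e) ∧ a * b * e * (a * b⁻¹) = a * b⁻¹ * (a * b * e) :=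
  ⟨mul_inv_eq_one.1 ((evA_eq_tm ((InvI.cons h.2.2.2.2.2.2.2.2.2.2.1 InvI.nil) : InvI [t, a, b, e, x, q] [(nat_lit 0)]) [(.v (nat_lit 0)), (.v (nat_lit 1)), (.inv (.v (nat_lit 1))), (.v (nat_lit 2)), (.inv (.v (nat_lit 2))), (.v (nat_lit 3)), (.inv (.v (nat_lit 3))), (.v (nat_lit 4)), (.inv (.v (nat_lit 4))), (.v (nat_lit 5)), (.inv (.v (nat_lit 5)))] [2,3,0,10,0,9,4,1,10,0,9,0] (.mul (.mul (.mul (.mul (.mul (.v (nat_lit 0)) (.v (nat_lit 5))) (.inv (.v (nat_lit 0)))) (.inv (.v (nat_lit 5)))) (.mul (.v (nat_lit 1)) (.inv (.v (nat_lit 2))))) (.inv (.mul (.mul (.v (nat_lit 1)) (.inv (.v (nat_lit 2)))) (.mul (.mul (.mul (.v (nat_lit 0)) (.v (nat_lit 5))) (.inv (.v (nat_lit 0)))) (.inv (.v (nat_lit 5))))))) (by decide +kernel)).symm.trans (Subgroup.mem_bot.1 (q_a_0 (q_a_r h q1 q2 q3) (H := ⊥) (List.forall_mem_nil _)))),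
   mul_inv_eq_one.1 ((evA_eq_tm ((InvI.cons h.2.2.2.2.2.2.2.2.2.2.1 InvI.nil) : InvI [t, a, b, e, x, q] [(nat_lit 0)]) [(.v (nat_lit 0)), (.v (nat_lit 1)), (.inv (.v (nat_lit 1))), (.v (nat_lit 2)), (.inv (.v (nat_lit 2))), (.v (nat_lit 3)), (.inv (.v (nat_lit 3))), (.v (nat_lit 4)), (.inv (.v (nat_lit 4))), (.v (nat_lit 5)), (.inv (.v (nat_lit 5)))] [8,0,10,0,9,7,10,0,9,0] (.mul (.mul (.mul (.mul (.mul (.v (nat_lit 0)) (.v (nat_lit 5))) (.inv (.v (nat_lit 0)))) (.inv (.v (nat_lit 5)))) (.v (nat_lit 4))) (.inv (.mul (.v (nat_lit 4)) (.mul (.mul (.mul (.v (nat_lit 0)) (.v (nat_lit 5))) (.inv (.v (nat_lit 0)))) (.inv (.v (nat_lit 5))))))) (by decide +kernel)).symm.trans (Subgroup.mem_bot.1 (q_a_1 (q_a_r h q1 q2 q3) (H := ⊥) (List.forall_mem_nil _)))),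
   mul_inv_eq_one.1 ((evA_eq_tm ((InvI.cons h.2.2.2.2.2.2.2.2.2.2.1 InvI.nil) : InvI [t, a, b, e, x, q] [(nat_lit 0)]) [(.v (nat_lit 0)), (.v (nat_lit 1)), (.inv (.v (nat_lit 1))), (.v (nat_lit 2)), (.inv (.v (nat_lit 2))), (.v (nat_lit 3)), (.inv (.v (nat_lit 3))), (.v (nat_lit 4)), (.inv (.v (nat_lit 4))), (.v (nat_lit 5)), (.inv (.v (nat_lit 5)))] [2,3,10,10,0,4,1,0,9,9] (.mul (.mul (.mul (.mul (.v (nat_lit 5)) (.v (nat_lit 5))) (.inv (.v (nat_lit 0)))) (.mul (.v (nat_lit 1)) (.inv (.v (nat_lit 2))))) (.inv (.mul (.mul (.v (nat_lit 1)) (.inv (.v (nat_lit 2)))) (.mul (.mul (.v (nat_lit 5)) (.v (nat_lit 5))) (.inv (.v (nat_lit 0))))))) (by decide +kernel)).symm.trans (Subgroup.mem_bot.1 (q_a_2 (q_a_r h q1 q2 q3) (H := ⊥) (List.forall_mem_nil _)))),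
   mul_inv_eq_one.1 ((evA_eq_tm ((InvI.cons h.2.2.2.2.2.2.2.2.2.2.1 InvI.nil) : InvI [t, a, b, e, x, q] [(nat_lit 0)]) [(.v (nat_lit 0)), (.v (nat_lit 1)), (.inv (.v (nat_lit 1))), (.v (nat_lit 2)), (.inv (.v (nat_lit 2))), (.v (nat_lit 3)), (.inv (.v (nat_lit 3))), (.v (nat_lit 4)), (.inv (.v (nat_lit 4))), (.v (nat_lit 5)), (.inv (.v (nat_lit 5)))] [8,10,10,0,7,0,9,9] (.mul (.mul (.mul (.mul (.v (nat_lit 5)) (.v (nat_lit 5))) (.inv (.v (nat_lit 0)))) (.v (nat_lit 4))) (.inv (.mul (.v (nat_lit 4)) (.mul (.mul (.v (nat_lit 5)) (.v (nat_lit 5))) (.inv (.v (nat_lit 0))))))) (by decide +kernel)).symm.trans (Subgroup.mem_bot.1 (q_a_3 (q_a_r h q1 q2 q3) (H := ⊥) (List.forall_mem_nil _)))),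
   mul_inv_eq_one.1 ((evA_eq_tm ((InvI.cons h.2.2.2.2.2.2.2.2.2.2.1 InvI.nil) : InvI [t, a, b, e, x, q] [(nat_lit 0)]) [(.v (nat_lit 0)), (.v (nat_lit 1)), (.inv (.v (nat_lit 1))), (.v (nat_lit 2)), (.inv (.v (nat_lit 2))), (.v (nat_lit 3)), (.inv (.v (nat_lit 3))), (.v (nat_lit 4)), (.inv (.v (nat_lit 4))), (.v (nat_lit 5)), (.inv (.v (nat_lit 5)))] [2,3,10,5,10,5,10,5,4,1,6,9,6,9,6,9] (.mul (.mul (.pw (.mul (.v (nat_lit 5)) (.inv (.v (nat_lit 3)))) (nat_lit 3)) (.mul (.v (nat_lit 1)) (.inv (.v (nat_lit 2))))) (.inv (.mul (.mul (.v (nat_lit 1)) (.inv (.v (nat_lit 2)))) (.pw (.mul (.v (nat_lit 5)) (.inv (.v (nat_lit 3)))) (nat_lit 3))))) (by decide +kernel)).symm.trans (Subgroup.mem_bot.1 (q_a_4 (q_a_r h q1 q2 q3) (H := ⊥) (List.forall_mem_nil _)))),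
   mul_inv_eq_one.1 ((evA_eq_tm ((InvI.cons h.2.2.2.2.2.2.2.2.2.2.1 InvI.nil) : InvI [t, a, b, e, x, q] [(nat_lit 0)]) [(.v (nat_lit 0)), (.v (nat_lit 1)), (.inv (.v (nat_lit 1))), (.v (nat_lit 2)), (.inv (.v (nat_lit 2))), (.v (nat_lit 3)), (.inv (.v (nat_lit 3))), (.v (nat_lit 4)), (.inv (.v (nat_lit 4))), (.v (nat_lit 5)), (.inv (.v (nat_lit 5)))] [8,10,5,10,5,10,5,7,6,9,6,9,6,9] (.mul (.mul (.pw (.mul (.v (nat_lit 5)) (.inv (.v (nat_lit 3)))) (nat_lit 3)) (.v (nat_lit 4))) (.inv (.mul (.v (nat_lit 4)) (.pw (.mul (.v (nat_lit 5)) (.inv (.v (nat_lit 3)))) (nat_lit 3))))) (by decide +kernel)).symm.trans (Subgroup.mem_bot.1 (q_a_5 (q_a_r h q1 q2 q3) (H := ⊥) (List.forall_mem_nil _)))),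
   mul_inv_eq_one.1 ((evA_eq_tm ((InvI.cons h.2.2.2.2.2.2.2.2.2.2.1 InvI.nil) : InvI [t, a, b, e, x, q] [(nat_lit 0)]) [(.v (nat_lit 0)), (.v (nat_lit 1)), (.inv (.v (nat_lit 1))), (.v (nat_lit 2)), (.inv (.v (nat_lit 2))), (.v (nat_lit 3)), (.inv (.v (nat_lit 3))), (.v (nat_lit 4)), (.inv (.v (nat_lit 4))), (.v (nat_lit 5)), (.inv (.v (nat_lit 5)))] [8,2,3,5,3,1,5,10,6,7,5,9,6] (.mul (.mul (.mul (.mul (.mul (.inv (.v (nat_lit 3))) (.v (nat_lit 5))) (.v (nat_lit 3))) (.v (nat_lit 4))) (.inv (.mul (.mul (.inv (.v (nat_lit 3))) (.v (nat_lit 5))) (.v (nat_lit 3))))) (.inv (.mul (.mul (.v (nat_lit 4)) (.mul (.v (nat_lit 1)) (.inv (.v (nat_lit 2))))) (.inv (.mul (.mul (.v (nat_lit 1)) (.v (nat_lit 2))) (.v (nat_lit 3))))))) (by decide +kernel)).symm.trans (Subgroup.mem_bot.1 (q_a_6 (q_a_r h q1 q2 q3) (H := ⊥) (List.forall_mem_nil _)))),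
   mul_inv_eq_one.1 ((evA_eq_tm ((InvI.cons h.2.2.2.2.2.2.2.2.2.2.1 InvI.nil) : InvI [t, a, b, e, x, q] [(nat_lit 0)]) [(.v (nat_lit 0)), (.v (nat_lit 1)), (.inv (.v (nat_lit 1))), (.v (nat_lit 2)), (.inv (.v (nat_lit 2))), (.v (nat_lit 3)), (.inv (.v (nat_lit 3))), (.v (nat_lit 4)), (.inv (.v (nat_lit 4))), (.v (nat_lit 5)), (.inv (.v (nat_lit 5)))] [8,4,4,10,6,4,1,5,9,6] (.mul (.mul (.mul (.mul (.mul (.inv (.v (nat_lit 3))) (.v (nat_lit 5))) (.v (nat_lit 3))) (.mul (.v (nat_lit 1)) (.inv (.v (nat_lit 2))))) (.inv (.mul (.mul (.inv (.v (nat_lit 3))) (.v (nat_lit 5))) (.v (nat_lit 3))))) (.inv (.mul (.mul (.v (nat_lit 4)) (.inv (.mul (.v (nat_lit 1)) (.inv (.v (nat_lit 2)))))) (.mul (.mul (.v (nat_lit 1)) (.v (nat_lit 2))) (.v (nat_lit 3)))))) (by decide +kernel)).symm.trans (Subgroup.mem_bot.1 (q_a_7 (q_a_r h q1 q2 q3) (H := ⊥) (List.forall_mem_nil _)))),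
   mul_inv_eq_one.1 ((evA_eq_tm ((InvI.cons h.2.2.2.2.2.2.2.2.2.2.1 InvI.nil) : InvI [t, a, b, e, x, q] [(nat_lit 0)]) [(.v (nat_lit 0)), (.v (nat_lit 1)), (.inv (.v (nat_lit 1))), (.v (nat_lit 2)), (.inv (.v (nat_lit 2))), (.v (nat_lit 3)), (.inv (.v (nat_lit 3))), (.v (nat_lit 4)), (.inv (.v (nat_lit 4))), (.v (nat_lit 5)), (.inv (.v (nat_lit 5)))] [2,4,10,3,1,5,9,6] (.mul (.mul (.mul (.mul (.inv (.v (nat_lit 3))) (.v (nat_lit 5))) (.v (nat_lit 3))) (.mul (.mul (.v (nat_lit 1)) (.v (nat_lit 2))) (.v (nat_lit 3)))) (.inv (.mul (.mul (.mul (.v (nat_lit 1)) (.v (nat_lit 2))) (.v (nat_lit 3))) (.mul (.mul (.inv (.v (nat_lit 3))) (.v (nat_lit 5))) (.v (nat_lit 3)))))) (by decide +kernel)).symm.trans (Subgroup.mem_bot.1 (q_a_8 (q_a_r h q1 q2 q3) (H := ⊥) (List.forall_mem_nil _)))),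
   mul_inv_eq_one.1 ((evA_eq_tm ((InvI.cons h.2.2.2.2.2.2.2.2.2.2.1 InvI.nil) : InvI [t, a, b, e, x, q] [(nat_lit 0)]) [(.v (nat_lit 0)), (.v (nat_lit 1)), (.inv (.v (nat_lit 1))), (.v (nat_lit 2)), (.inv (.v (nat_lit 2))), (.v (nat_lit 3)), (.inv (.v (nat_lit 3))), (.v (nat_lit 4)), (.inv (.v (nat_lit 4))), (.v (nat_lit 5)), (.inv (.v (nat_lit 5)))] [4,1,4,1,4,1] (.mul (.pw (.mul (.v (nat_lit 1)) (.inv (.v (nat_lit 2)))) (nat_lit 3)) (.inv .one)) (by decide +kernel)).symm.trans (Subgroup.mem_bot.1 (q_a_9 (q_a_r h q1 q2 q3) (H := ⊥) (List.forall_mem_nil _)))),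
   mul_inv_eq_one.1 ((evA_eq_tm ((InvI.cons h.2.2.2.2.2.2.2.2.2.2.1 InvI.nil) : InvI [t, a, b, e, x, q] [(nat_lit 0)]) [(.v (nat_lit 0)), (.v (nat_lit 1)), (.inv (.v (nat_lit 1))), (.v (nat_lit 2)), (.inv (.v (nat_lit 2))), (.v (nat_lit 3)), (.inv (.v (nat_lit 3))), (.v (nat_lit 4)), (.inv (.v (nat_lit 4))), (.v (nat_lit 5)), (.inv (.v (nat_lit 5)))] [5,3,1,5,3,1,5,3,1] (.mul (.pw (.mul (.mul (.v (nat_lit 1)) (.v (nat_lit 2))) (.v (nat_lit 3))) (nat_lit 3)) (.inv .one)) (by decide +kernel)).symm.trans (Subgroup.mem_bot.1 (q_a_10 (q_a_r h q1 q2 q3) (H := ⊥) (List.forall_mem_nil _)))),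
   mul_inv_eq_one.1 ((evA_eq_tm ((InvI.cons h.2.2.2.2.2.2.2.2.2.2.1 InvI.nil) : InvI [t, a, b, e, x, q] [(nat_lit 0)]) [(.v (nat_lit 0)), (.v (nat_lit 1)), (.inv (.v (nat_lit 1))), (.v (nat_lit 2)), (.inv (.v (nat_lit 2))), (.v (nat_lit 3)), (.inv (.v (nat_lit 3))), (.v (nat_lit 4)), (.inv (.v (nat_lit 4))), (.v (nat_lit 5)), (.inv (.v (nat_lit 5)))] [2,4,6,8,2,3,7,4,1] (.mul (.mul (.mul (.v (nat_lit 1)) (.inv (.v (nat_lit 2)))) (.v (nat_lit 4))) (.inv (.mul (.mul (.mul (.mul (.v (nat_lit 1)) (.v (nat_lit 2))) (.v (nat_lit 3))) (.v (nat_lit 4))) (.mul (.v (nat_lit 1)) (.inv (.v (nat_lit 2))))))) (by decide +kernel)).symm.trans (Subgroup.mem_bot.1 (q_a_11 (q_a_r h q1 q2 q3) (H := ⊥) (List.forall_mem_nil _)))),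
   mul_inv_eq_one.1 ((evA_eq_tm ((InvI.cons h.2.2.2.2.2.2.2.2.2.2.1 InvI.nil) : InvI [t, a, b, e, x, q] [(nat_lit 0)]) [(.v (nat_lit 0)), (.v (nat_lit 1)), (.inv (.v (nat_lit 1))), (.v (nat_lit 2)), (.inv (.v (nat_lit 2))), (.v (nat_lit 3)), (.inv (.v (nat_lit 3))), (.v (nat_lit 4)), (.inv (.v (nat_lit 4))), (.v (nat_lit 5)), (.inv (.v (nat_lit 5)))] [8,2,4,6,7,5,3,1] (.mul (.mul (.mul (.mul (.v (nat_lit 1)) (.v (nat_lit 2))) (.v (nat_lit 3))) (.v (nat_lit 4))) (.inv (.mul (.v (nat_lit 4)) (.mul (.mul (.v (nat_lit 1)) (.v (nat_lit 2))) (.v (nat_lit 3)))))) (by decide +kernel)).symm.trans (Subgroup.mem_bot.1 (q_a_12 (q_a_r h q1 q2 q3) (H := ⊥) (List.forall_mem_nil _)))),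
   mul_inv_eq_one.1 ((evA_eq_tm ((InvI.cons h.2.2.2.2.2.2.2.2.2.2.1 InvI.nil) : InvI [t, a, b, e, x, q] [(nat_lit 0)]) [(.v (nat_lit 0)), (.v (nat_lit 1)), (.inv (.v (nat_lit 1))), (.v (nat_lit 2)), (.inv (.v (nat_lit 2))), (.v (nat_lit 3)), (.inv (.v (nat_lit 3))), (.v (nat_lit 4)), (.inv (.v (nat_lit 4))), (.v (nat_lit 5)), (.inv (.v (nat_lit 5)))] [2,3,2,4,6,4,1,5,3,1] (.mul (.mul (.mul (.mul (.v (nat_lit 1)) (.v (nat_lit 2))) (.v (nat_lit 3))) (.mul (.v (nat_lit 1)) (.inv (.v (nat_lit 2))))) (.inv (.mul (.mul (.v (nat_lit 1)) (.inv (.v (nat_lit 2)))) (.mul (.mul (.v (nat_lit 1)) (.v (nat_lit 2))) (.v (nat_lit 3)))))) (by decide +kernel)).symm.trans (Subgroup.mem_bot.1 (q_a_13 (q_a_r h q1 q2 q3) (H := ⊥) (List.forall_mem_nil _))))⟩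
noncomputable def q_d_Rl : List (List ℕ) := [[0,1],
  [1,0],
  [2,3],
  [3,2],
  [4,5],
  [5,4],
  [6,7],
  [7,6],
  [8,9],
  [9,8],
  [0,0,0],
  [2,2,2],
  [4,4,4],
  [5,1,3,0,2],
  [1,5,0,4],
  [3,5,2,4],
  [5,7,4,6],
  [2,7,0,6],
  [1,7,2,6],
  [5,9,4,8],
  [1,3,4,9,0,8],
  [1,2,5,9,2,8]]
theorem q_d_r {G : Type*} [Group G] {x y z q r : G}
    (x3 : x ^ 3 = 1)
    (y3 : y ^ 3 = 1)
    (z3 : z ^ 3 = 1)
    (yx : y * x = z * x * y)
    (zx : z * x = x * z)
    (zy : z * y = y * z)
    (q1 : q * z = z * q)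
    (q2 : q * x * q⁻¹ = y⁻¹)
    (q3 : q * y * q⁻¹ = x)
    (r1 : r * z = z * r)
    (r2 : r * x * r⁻¹ = x * y * z⁻¹)
    (r3 : r * y * r⁻¹ = x * y⁻¹ * z) :
    Rels (nthG [x, x⁻¹, y, y⁻¹, z, z⁻¹, q, q⁻¹, r, r⁻¹]) q_d_Rl :=
  rels_of_eqs (InvI.nil : InvI [x, y, z, q, r] [])
    (AllEq.append (show AllEq [x, y, z, q, r] [((.pw (.v (nat_lit 0)) (nat_lit 3)), .one)] from ⟨x3, trivial⟩)
    (AllEq.append (show AllEq [x, y, z, q, r] [((.pw (.v (nat_lit 1)) (nat_lit 3)), .one)] from ⟨y3, trivial⟩)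
    (AllEq.append (show AllEq [x, y, z, q, r] [((.pw (.v (nat_lit 2)) (nat_lit 3)), .one)] from ⟨z3, trivial⟩)
    (AllEq.append (show AllEq [x, y, z, q, r] [((.mul (.v (nat_lit 1)) (.v (nat_lit 0))), (.mul (.mul (.v (nat_lit 2)) (.v (nat_lit 0))) (.v (nat_lit 1))))] from ⟨yx, trivial⟩)
    (AllEq.append (show AllEq [x, y, z, q, r] [((.mul (.v (nat_lit 2)) (.v (nat_lit 0))), (.mul (.v (nat_lit 0)) (.v (nat_lit 2))))] from ⟨zx, trivial⟩)
    (AllEq.append (show AllEq [x, y, z, q, r] [((.mul (.v (nat_lit 2)) (.v (nat_lit 1))), (.mul (.v (nat_lit 1)) (.v (nat_lit 2))))] from ⟨zy, trivial⟩)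
    (AllEq.append (show AllEq [x, y, z, q, r] [((.mul (.v (nat_lit 3)) (.v (nat_lit 2))), (.mul (.v (nat_lit 2)) (.v (nat_lit 3))))] from ⟨q1, trivial⟩)
    (AllEq.append (show AllEq [x, y, z, q, r] [((.mul (.mul (.v (nat_lit 3)) (.v (nat_lit 0))) (.inv (.v (nat_lit 3)))), (.inv (.v (nat_lit 1))))] from ⟨q2, trivial⟩)
    (AllEq.append (show AllEq [x, y, z, q, r] [((.mul (.mul (.v (nat_lit 3)) (.v (nat_lit 1))) (.inv (.v (nat_lit 3)))), (.v (nat_lit 0)))] from ⟨q3, trivial⟩)
    (AllEq.append (show AllEq [x, y, z, q, r] [((.mul (.v (nat_lit 4)) (.v (nat_lit 2))), (.mul (.v (nat_lit 2)) (.v (nat_lit 4))))] from ⟨r1, trivial⟩)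
    (AllEq.append (show AllEq [x, y, z, q, r] [((.mul (.mul (.v (nat_lit 4)) (.v (nat_lit 0))) (.inv (.v (nat_lit 4)))), (.mul (.mul (.v (nat_lit 0)) (.v (nat_lit 1))) (.inv (.v (nat_lit 2)))))] from ⟨r2, trivial⟩)
    (show AllEq [x, y, z, q, r] [((.mul (.mul (.v (nat_lit 4)) (.v (nat_lit 1))) (.inv (.v (nat_lit 4)))), (.mul (.mul (.v (nat_lit 0)) (.inv (.v (nat_lit 1)))) (.v (nat_lit 2))))] from ⟨r3, trivial⟩))))))))))))
    [(.v (nat_lit 0)), (.inv (.v (nat_lit 0))), (.v (nat_lit 1)), (.inv (.v (nat_lit 1))), (.v (nat_lit 2)), (.inv (.v (nat_lit 2))), (.v (nat_lit 3)), (.inv (.v (nat_lit 3))), (.v (nat_lit 4)), (.inv (.v (nat_lit 4)))] (by decide +kernel)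
noncomputable def q_d_0_S0 : List ℕ := [nat_lit 0xb000008006014, nat_lit 0x2700000700001800001c, nat_lit 0x2b000028006018, nat_lit 0x37000034006016, nat_lit 0x3b00000b00001800e01c, nat_lit 0x3f00000b00001c00801c, nat_lit 0x4300000f00000800002401201a, nat_lit 0x2b00002400001900801e, nat_lit 0x47000044006014, nat_lit 0x4b00000f00001800001e, nat_lit 0x1200002500004b00004800a01a, nat_lit 0x2900003b00003400201e, nat_lit 0x5300001300001c00001500a01a, nat_lit 0x3700004000003100401e, nat_lit 0x5b000017000020006026, nat_lit 0x6300002300000100003401201a, nat_lit 0x3500000e00003d00601e, nat_lit 0x6700006400003e00e01c, nat_lit 0x6700002300002800001e, nat_lit 0x6b000027000030006026, nat_lit 0x6b00000600002500004b00005000602a, nat_lit 0x6f00002b000030008026, nat_lit 0x7300002f00002c00001e000021014028, nat_lit 0x7b00002d000059008026, nat_lit 0x7b00003d000041000053000058010028, nat_lit 0x7b00004500004a000009000070006028, nat_lit 0x7b00002d00002900001200005c01002a, nat_lit 0x8700003a000060006020,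 nat_lit 0x8f00004e000078006020, nat_lit 0x8f000052000080008022, nat_lit 0x93000056000078008020, nat_lit 0x9f00005e000098008020, nat_lit 0x9f00006a000088006022, nat_lit 0x9f000062000084008024, nat_lit 0x9f000066000094006024, nat_lit 0xab00006e00008c000026, nat_lit 0xb30000b0006014, nat_lit 0xbb0000b8006016, nat_lit 0xc300007200009c000026, nat_lit 0xc700007a00009c00e026, nat_lit 0xcf0000990000c30000760000a4016028, nat_lit 0xd300007e0000cc00e026, nat_lit 0xd30000820000ac00008e0000b8000028, nat_lit 0x960000a90000d300008a0000c800009e00802a, nat_lit 0xcf0000ad0000bb000006, nat_lit 0xaf0000b10000a2000002, nat_lit 0xb5000091000000, nat_lit 0xb50000af000002, nat_lit 0xa50000aa0000b70000bd00201a, nat_lit 0xb90000c10000a50000d30000860000a800202a, nat_lit 0xc50000b3000000, nat_lit 0xd70000ca0000c0008024]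
noncomputable def q_d_0_S : List (List ℕ) := [q_d_0_S0]
noncomputable def q_d_0_defs : List ℕ := [(nat_lit 0x7000290080002700200026008000250080002400800023007000220030002200200022001000220000002200800021008000200080001f0070001e0080001d0070001c0070001b0070001a008000170070001600700015007000130090000c0070000b0000000b0090000a009000090040000800000008007000070090000500900004001000040090000300400003001000030000000300500002004000020030000200200002009000010050000100400001002000010090000000500000004000000030000000200000001000000000000000000000)]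
noncomputable def q_d_0_recs : List ℕ := [(nat_lit 0x20002f00035000002200029ff000290002c030002800032010002200028000002c00028ff000280002bff0002200033ff000260002e010002d00034040003200034000002800033040002600031050002600030030002d0002e010002b0002c05000220002a030002400027020002000027010002100027040002500027040001d00024000001f00023050001d0002305000170002102000160001e010001b0001e00000150001e040001c0001e08000110001c040000b0001b03000130001a050000b0001a030000900019000000c00019030001800014040000c0001805000070001605000140000d020000f00014050000c0001102000110000e03000050001201000100001102000100000a04000080001000000060000f00000050000e030000c0000d05000090000a010000500009010000100002)]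
noncomputable def q_d_0_T : List (List ℕ × ℕ) := [([3,9,7,8,7,2,6,9,6,8], (nat_lit 0x2000006000008c0000c00000cd0000d70000a7000083000057000013))]
noncomputable def q_d_0_D : H26.Dag := ⟨[1,0,3,2,5,4,7,6,9,8], [[0,1],
  [1,0],
  [2,3],
  [3,2],
  [4,5],
  [5,4],
  [6,7],
  [7,6],
  [8,9],
  [9,8],
  [0,0,0],
  [2,2,2],
  [4,4,4],
  [5,1,3,0,2],
  [1,5,0,4],
  [3,5,2,4],
  [5,7,4,6],
  [2,7,0,6],
  [1,7,2,6],
  [5,9,4,8],
  [1,3,4,9,0,8],
  [1,2,5,9,2,8]], [], q_d_0_defs, q_d_0_recs⟩
theorem q_d_0_c : q_d_0_D.check q_d_0_S q_d_0_T = true := by decide +kernel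
theorem q_d_0 {G : Type*} [Group G] {g : ℕ → G} (hR : Rels g q_d_Rl) {H : Subgroup G}
    (hH : ∀ k ∈ [], g k ∈ H) : evA g [3,9,7,8,7,2,6,9,6,8] ∈ H :=
  mem_dag (K := 10) (J := [0,1,2,3,4,5,6,7,8,9,10,11,12,13,14,15,16,17,18,19,20,21]) (D := q_d_0_D) (by decide +kernel) q_d_0_c (by decide +kernel) hR hH
noncomputable def q_d_1_S0 : List ℕ := [nat_lit 0xb000008006014, nat_lit 0x17000014006018, nat_lit 0x27000024006018, nat_lit 0x3300000200002400001c, nat_lit 0x3300000b00001400e01c, nat_lit 0x3b00000f00000800002001201a, nat_lit 0x4300003c00001600e01c, nat_lit 0x4300000f00001400001e, nat_lit 0x1200001d00004300004000a01a, nat_lit 0x2100003300003000201e, nat_lit 0x4700001300001c006026, nat_lit 0x4b00001700001c008026, nat_lit 0x5300001f00000100003001201a, nat_lit 0x5700005400003200e01c, nat_lit 0x5700001f00002400001e, nat_lit 0x5b00001900001e00000500004c006028, nat_lit 0x5f00002700002c008026, nat_lit 0x6700003500003a000009000060006028, nat_lit 0x6700002500002100001200004801002a,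 nat_lit 0x6b000033000038006026, nat_lit 0x6b00000e00003900005700005c00602a, nat_lit 0x7300002a000050006020, nat_lit 0x7700002e000050008020, nat_lit 0x7f00003e000078006024, nat_lit 0x83000042000064008020, nat_lit 0x8b00004a000074006022, nat_lit 0x8b000046000084006024, nat_lit 0x8f00004e000070006020, nat_lit 0x8f000052000080008022, nat_lit 0x9700005600007c000026, nat_lit 0x9b00005a00007c00e026, nat_lit 0xa30000a0006016, nat_lit 0xab00005e00009c00007a0000a400002a, nat_lit 0xaf00006200008800e026, nat_lit 0xbb0000660000980000760000a0000028, nat_lit 0x7e0000890000bb00006a0000b000008600802a, nat_lit 0xb300008d000081000002, nat_lit 0xb700008d00007e000004, nat_lit 0x910000b3000002, nat_lit 0x950000b7000004, nat_lit 0xbf00006e000094000026, nat_lit 0xa10000bf0000720000ac00009a00009d012028, nat_lit 0xa600009f000006, nat_lit 0xc30000aa0000a8008022]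
noncomputable def q_d_1_S : List (List ℕ) := [q_d_1_S0]
noncomputable def q_d_1_defs : List ℕ := [(nat_lit 0x70002400800023008000220030002100000021008000200080001f0070001e0030001e0020001e0080001d0080001c0080001b0070001a007000190080001800700017007000160080001300700012007000110070000d0090000c0090000b0070000a009000090090000700400007000000070070000600900005009000040040000300100003000000030090000200400002002000020090000100500001004000010020000100900000005000000040000000200000001000000000000000000000)]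
noncomputable def q_d_1_recs : List ℕ := [(nat_lit 0x2900030030001e00024ff000270002405000240002f02000210002701000210002aff000270002dff0002a0002cff000210002801000270002e04000210002b01000280002a030002700028040001e00026050001e00025000001f00023050001b00023030002000022010001c00022040001800020030001d0001f04000130001d05000130001c03000160001a050000d0001a020001100019010001700019040000a00017010001200016030000800015000000b00015040000b00014040000600012050000600011050000b0000f020000f0000c03000040001000000070001004000070000e00000040000c01000080000c050000800009050000400005010000100002)]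
noncomputable def q_d_1_T : List (List ℕ × ℕ) := [([1,9,7,8,7,0,6,9,6,8], (nat_lit 0x1c00005000007c0000a80000ad0000c300009300006f00003700000b))]
noncomputable def q_d_1_D : H26.Dag := ⟨[1,0,3,2,5,4,7,6,9,8], [[0,1],
  [1,0],
  [2,3],
  [3,2],
  [4,5],
  [5,4],
  [6,7],
  [7,6],
  [8,9],
  [9,8],
  [0,0,0],
  [2,2,2],
  [4,4,4],
  [5,1,3,0,2],
  [1,5,0,4],
  [3,5,2,4],
  [5,7,4,6],
  [2,7,0,6],
  [1,7,2,6],
  [5,9,4,8],
  [1,3,4,9,0,8],
  [1,2,5,9,2,8]], [], q_d_1_defs, q_d_1_recs⟩
theorem q_d_1_c : q_d_1_D.check q_d_1_S q_d_1_T = true := by decide +kernel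
theorem q_d_1 {G : Type*} [Group G] {g : ℕ → G} (hR : Rels g q_d_Rl) {H : Subgroup G}
    (hH : ∀ k ∈ [], g k ∈ H) : evA g [1,9,7,8,7,0,6,9,6,8] ∈ H :=
  mem_dag (K := 10) (J := [0,1,2,3,4,5,6,7,8,9,10,11,12,13,14,15,16,17,18,19,20,21]) (D := q_d_1_D) (by decide +kernel) q_d_1_c (by decide +kernel) hR hH
theorem q_d {G : Type*} [Group G] {x y z q r : G}
    (x3 : x ^ 3 = 1)
    (y3 : y ^ 3 = 1)
    (z3 : z ^ 3 = 1)
    (yx : y * x = z * x * y)
    (zx : z * x = x * z)
    (zy : z * y = y * z)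
    (q1 : q * z = z * q)
    (q2 : q * x * q⁻¹ = y⁻¹)
    (q3 : q * y * q⁻¹ = x)
    (r1 : r * z = z * r)
    (r2 : r * x * r⁻¹ = x * y * z⁻¹)
    (r3 : r * y * r⁻¹ = x * y⁻¹ * z) :
    r * q * r⁻¹ * q * y = y * (r * q * r⁻¹ * q) ∧ r * q * r⁻¹ * q * x = x * (r * q * r⁻¹ * q) :=
  ⟨mul_inv_eq_one.1 ((evA_eq_tm (InvI.nil : InvI [x, y, z, q, r] []) [(.v (nat_lit 0)), (.inv (.v (nat_lit 0))), (.v (nat_lit 1)), (.inv (.v (nat_lit 1))), (.v (nat_lit 2)), (.inv (.v (nat_lit 2))), (.v (nat_lit 3)), (.inv (.v (nat_lit 3))), (.v (nat_lit 4)), (.inv (.v (nat_lit 4)))] [3,9,7,8,7,2,6,9,6,8] (.mul (.mul (.mul (.mul (.mul (.v (nat_lit 4)) (.v (nat_lit 3))) (.inv (.v (nat_lit 4)))) (.v (nat_lit 3))) (.v (nat_lit 1))) (.inv (.mul (.v (nat_lit 1)) (.mul (.mul (.mul (.v (nat_lit 4)) (.v (nat_lit 3))) (.inv (.v (nat_lit 4)))) (.v (nat_lit 3)))))) (by decide +kernel)).symm.trans (Subgroup.mem_bot.1 (q_d_0 (q_d_r x3 y3 z3 yx zx zy q1 q2 q3 r1 r2 r3) (H := ⊥) (List.forall_mem_nil _)))),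
   mul_inv_eq_one.1 ((evA_eq_tm (InvI.nil : InvI [x, y, z, q, r] []) [(.v (nat_lit 0)), (.inv (.v (nat_lit 0))), (.v (nat_lit 1)), (.inv (.v (nat_lit 1))), (.v (nat_lit 2)), (.inv (.v (nat_lit 2))), (.v (nat_lit 3)), (.inv (.v (nat_lit 3))), (.v (nat_lit 4)), (.inv (.v (nat_lit 4)))] [1,9,7,8,7,0,6,9,6,8] (.mul (.mul (.mul (.mul (.mul (.v (nat_lit 4)) (.v (nat_lit 3))) (.inv (.v (nat_lit 4)))) (.v (nat_lit 3))) (.v (nat_lit 0))) (.inv (.mul (.v (nat_lit 0)) (.mul (.mul (.mul (.v (nat_lit 4)) (.v (nat_lit 3))) (.inv (.v (nat_lit 4)))) (.v (nat_lit 3)))))) (by decide +kernel)).symm.trans (Subgroup.mem_bot.1 (q_d_1 (q_d_r x3 y3 z3 yx zx zy q1 q2 q3 r1 r2 r3) (H := ⊥) (List.forall_mem_nil _))))⟩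
noncomputable def q_b_Rl : List (List ℕ) := [[0,0],
  [1,2],
  [2,1],
  [3,4],
  [4,3],
  [5,6],
  [6,5],
  [7,8],
  [8,7],
  [1,1,1],
  [2,0,1,0],
  [0,3,3],
  [6,2,3,2,3,2,3],
  [8,3,1,4,2,3,1,3,2],
  [5,5,5],
  [7,7,7],
  [4,6,3,5],
  [4,8,3,7],
  [2,6,1,5],
  [2,8,1,7]]
theorem q_b_r {G : Type*} [Group G] {t e q u v : G}
    (tt : t * t = 1)
    (e3 : e ^ 3 = 1)
    (te : t * e = e * t)
    (qq : q * q = t)
    (h1 : (q * e⁻¹) ^ 3 = u)
    (h2 : e⁻¹ * q * e * q * (e⁻¹ * q * e)⁻¹ * q = v)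
    (u3 : u ^ 3 = 1)
    (v3 : v ^ 3 = 1)
    (uq : u * q = q * u)
    (vq : v * q = q * v)
    (ue : u * e = e * u)
    (ve : v * e = e * v) :
    Rels (nthG [t, e, e⁻¹, q, q⁻¹, u, u⁻¹, v, v⁻¹]) q_b_Rl :=
  rels_of_eqs ((InvI.cons tt InvI.nil) : InvI [t, e, q, u, v] [(nat_lit 0)])
    (AllEq.append (show AllEq [t, e, q, u, v] [((.mul (.v (nat_lit 0)) (.v (nat_lit 0))), .one)] from ⟨tt, trivial⟩)
    (AllEq.append (show AllEq [t, e, q, u, v] [((.pw (.v (nat_lit 1)) (nat_lit 3)), .one)] from ⟨e3, trivial⟩)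
    (AllEq.append (show AllEq [t, e, q, u, v] [((.mul (.v (nat_lit 0)) (.v (nat_lit 1))), (.mul (.v (nat_lit 1)) (.v (nat_lit 0))))] from ⟨te, trivial⟩)
    (AllEq.append (show AllEq [t, e, q, u, v] [((.mul (.v (nat_lit 2)) (.v (nat_lit 2))), (.v (nat_lit 0)))] from ⟨qq, trivial⟩)
    (AllEq.append (show AllEq [t, e, q, u, v] [((.pw (.mul (.v (nat_lit 2)) (.inv (.v (nat_lit 1)))) (nat_lit 3)), (.v (nat_lit 3)))] from ⟨h1, trivial⟩)
    (AllEq.append (show AllEq [t, e, q, u, v] [((.mul (.mul (.mul (.mul (.mul (.inv (.v (nat_lit 1))) (.v (nat_lit 2))) (.v (nat_lit 1))) (.v (nat_lit 2))) (.inv (.mul (.mul (.inv (.v (nat_lit 1))) (.v (nat_lit 2))) (.v (nat_lit 1))))) (.v (nat_lit 2))), (.v (nat_lit 4)))] from ⟨h2, trivial⟩)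
    (AllEq.append (show AllEq [t, e, q, u, v] [((.pw (.v (nat_lit 3)) (nat_lit 3)), .one)] from ⟨u3, trivial⟩)
    (AllEq.append (show AllEq [t, e, q, u, v] [((.pw (.v (nat_lit 4)) (nat_lit 3)), .one)] from ⟨v3, trivial⟩)
    (AllEq.append (show AllEq [t, e, q, u, v] [((.mul (.v (nat_lit 3)) (.v (nat_lit 2))), (.mul (.v (nat_lit 2)) (.v (nat_lit 3))))] from ⟨uq, trivial⟩)
    (AllEq.append (show AllEq [t, e, q, u, v] [((.mul (.v (nat_lit 4)) (.v (nat_lit 2))), (.mul (.v (nat_lit 2)) (.v (nat_lit 4))))] from ⟨vq, trivial⟩)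
    (AllEq.append (show AllEq [t, e, q, u, v] [((.mul (.v (nat_lit 3)) (.v (nat_lit 1))), (.mul (.v (nat_lit 1)) (.v (nat_lit 3))))] from ⟨ue, trivial⟩)
    (show AllEq [t, e, q, u, v] [((.mul (.v (nat_lit 4)) (.v (nat_lit 1))), (.mul (.v (nat_lit 1)) (.v (nat_lit 4))))] from ⟨ve, trivial⟩))))))))))))
    [(.v (nat_lit 0)), (.v (nat_lit 1)), (.inv (.v (nat_lit 1))), (.v (nat_lit 2)), (.inv (.v (nat_lit 2))), (.v (nat_lit 3)), (.inv (.v (nat_lit 3))), (.v (nat_lit 4)), (.inv (.v (nat_lit 4)))] (by decide +kernel)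
noncomputable def q_b_0_S0 : List ℕ := [nat_lit 0xf00000c006012, nat_lit 0x13000008008016, nat_lit 0x1700001400a016, nat_lit 0x1f00001c00601c, nat_lit 0x2300000700000c00c014, nat_lit 0x27000024006012, nat_lit 0x27000007000010004014, nat_lit 0x2f000011006016, nat_lit 0x3300000b00001c000024, nat_lit 0x3b000019008016, nat_lit 0x3f000019006016, nat_lit 0x43000002000034000024, nat_lit 0x4300000f00001c00e024, nat_lit 0x4700000f000020008024, nat_lit 0x47000002000038006024, nat_lit 0x4f00004c006012, nat_lit 0x5300001300001c000020, nat_lit 0x5700000a00004c00c014, nat_lit 0x6f000016000068000024, nat_lit 0x7300002700002c008024, nat_lit 0x7300001600006c006024, nat_lit 0x7700001e000068000020, nat_lit 0x7700002f00003400e020, nat_lit 0x7b00002f000038008020, nat_lit 0x7f000022000060006026, nat_lit 0x8700008400601e, nat_lit 0x8b00003b000044000020, nat_lit 0x8b00002600007000e020, nat_lit 0x8f000026000074008020, nat_lit 0x8f00003b000048006020, nat_lit 0x9300003f000048008020, nat_lit 0x9300002a000074006020,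 nat_lit 0x97000036000064008026, nat_lit 0x9700003a000088006026, nat_lit 0x9b000045008016, nat_lit 0x8f00003b00000f000018000058000089004018, nat_lit 0x9f00004b00000600002c00004d00007d00e018, nat_lit 0xa300004f00005400004200002100005900c018, nat_lit 0x950000a300003e0000a000009200007a00003a00005d00001a, nat_lit 0x550000950000a300003e00009c00008d00007200005202201a, nat_lit 0x5200009d000049002026, nat_lit 0x6e0000a100007100a022, nat_lit 0x970000750000a500006a008022, nat_lit 0x310000a9000082000004, nat_lit 0x2d0000a9000086000002, nat_lit 0x5b0000ae000063000010, nat_lit 0x7f0000b200006600000e, nat_lit 0xb500005b000010, nat_lit 0xba000083000010, nat_lit 0x5900009a00005e0000c1002022, nat_lit 0x210000c6000062000002, nat_lit 0xbe0000ca00005f000010, nat_lit 0xcd00000e0000cd00001f00000c, nat_lit 0xd100001b00000c]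
noncomputable def q_b_0_S : List (List ℕ) := [q_b_0_S0]
noncomputable def q_b_0_defs : List ℕ := [(nat_lit 0x3000130040001200300012008000110060000f0060000e0050000e0080000d0070000d0080000c0060000b0050000b0060000900500009006000080050000800800007008000060070000600100005005000040020000400100004006000030050000300400003003000030060000200500002004000020060000100200001001000010060000000500000004000000030000000200000001000000000000000000000)]
noncomputable def q_b_0_recs : List ℕ := [(nat_lit 0x60000000000ff0000000006ff0000600007ff0001700006ff0001f0000c080000d0001f080000600007ff000200001fff0000700016ff000210000cff0001800006ff0001000025070002300022080001b0001c070001a00019080001e0001d020001d00028010002400027020002600023030001500026020002100025010001800025040001c00024030001100024040001100023030001c00023030001b0002204000100002208000200002102000170001f030000d0001e030000c0001d04000190001d020001a0001c010000a0001c02000190001b000001200015040000600014020001200013020000d00011010000700011010000600010020000c0001004000090000f03000090000e02000060000c04000080000b000000300009020000800009000000200008060000600007000000400005030000100004020000200003)]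
noncomputable def q_b_0_T : List (List ℕ × ℕ) := [([5], (nat_lit 0xd6))]
noncomputable def q_b_0_D : H26.Dag := ⟨[0,2,1,4,3,6,5,8,7], [[0,0],
  [1,2],
  [2,1],
  [3,4],
  [4,3],
  [5,6],
  [6,5],
  [7,8],
  [8,7],
  [1,1,1],
  [2,0,1,0],
  [0,3,3],
  [6,2,3,2,3,2,3],
  [8,3,1,4,2,3,1,3,2],
  [5,5,5],
  [7,7,7],
  [4,6,3,5],
  [4,8,3,7],
  [2,6,1,5],
  [2,8,1,7]], [], q_b_0_defs, q_b_0_recs⟩
theorem q_b_0_c : q_b_0_D.check q_b_0_S q_b_0_T = true := by decide +kernel
theorem q_b_0 {G : Type*} [Group G] {g : ℕ → G} (hR : Rels g q_b_Rl) {H : Subgroup G}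
    (hH : ∀ k ∈ [], g k ∈ H) : evA g [5] ∈ H :=
  mem_dag (K := 9) (J := [0,1,2,3,4,5,6,7,8,9,10,11,12,13,14,15,16,17,18,19]) (D := q_b_0_D) (by decide +kernel) q_b_0_c (by decide +kernel) hR hH
theorem q_b {G : Type*} [Group G] {t e q u v : G}
    (tt : t * t = 1)
    (e3 : e ^ 3 = 1)
    (te : t * e = e * t)
    (qq : q * q = t)
    (h1 : (q * e⁻¹) ^ 3 = u)
    (h2 : e⁻¹ * q * e * q * (e⁻¹ * q * e)⁻¹ * q = v)
    (u3 : u ^ 3 = 1)
    (v3 : v ^ 3 = 1)
    (uq : u * q = q * u)
    (vq : v * q = q * v)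
    (ue : u * e = e * u)
    (ve : v * e = e * v) :
    u = 1 :=
  mul_inv_eq_one.1 ((evA_eq_tm ((InvI.cons tt InvI.nil) : InvI [t, e, q, u, v] [(nat_lit 0)]) [(.v (nat_lit 0)), (.v (nat_lit 1)), (.inv (.v (nat_lit 1))), (.v (nat_lit 2)), (.inv (.v (nat_lit 2))), (.v (nat_lit 3)), (.inv (.v (nat_lit 3))), (.v (nat_lit 4)), (.inv (.v (nat_lit 4)))] [5] (.mul (.v (nat_lit 3)) (.inv .one)) (by decide +kernel)).symm.trans (Subgroup.mem_bot.1 (q_b_0 (q_b_r tt e3 te qq h1 h2 u3 v3 uq vq ue ve) (H := ⊥) (List.forall_mem_nil _))))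
noncomputable def sl_f_Rl : List (List ℕ) := [[0,0],
  [1,2],
  [2,1],
  [3,4],
  [4,3],
  [1,1,1],
  [2,0,1,0],
  [0,3,3],
  [1,3,1,3,1,3]]
theorem sl_f_r {G : Type*} [Group G] {s b p : G}
    (b3 : b ^ 3 = 1)
    (ss : s * s = 1)
    (sb : s * b = b * s)
    (pp : p * p = s)
    (pb : (p * b) ^ 3 = 1) :
    Rels (nthG [s, b, b⁻¹, p, p⁻¹]) sl_f_Rl :=
  rels_of_eqs ((InvI.cons ss InvI.nil) : InvI [s, b, p] [(nat_lit 0)])
    (AllEq.append (show AllEq [s, b, p] [((.pw (.v (nat_lit 1)) (nat_lit 3)), .one)] from ⟨b3, trivial⟩)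
    (AllEq.append (show AllEq [s, b, p] [((.mul (.v (nat_lit 0)) (.v (nat_lit 0))), .one)] from ⟨ss, trivial⟩)
    (AllEq.append (show AllEq [s, b, p] [((.mul (.v (nat_lit 0)) (.v (nat_lit 1))), (.mul (.v (nat_lit 1)) (.v (nat_lit 0))))] from ⟨sb, trivial⟩)
    (AllEq.append (show AllEq [s, b, p] [((.mul (.v (nat_lit 2)) (.v (nat_lit 2))), (.v (nat_lit 0)))] from ⟨pp, trivial⟩)
    (show AllEq [s, b, p] [((.pw (.mul (.v (nat_lit 2)) (.v (nat_lit 1))) (nat_lit 3)), .one)] from ⟨pb, trivial⟩)))))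
    [(.v (nat_lit 0)), (.v (nat_lit 1)), (.inv (.v (nat_lit 1))), (.v (nat_lit 2)), (.inv (.v (nat_lit 2)))] (by decide +kernel)
noncomputable def sl_f_0_S0 : List ℕ := [nat_lit 0xf00000c00600a, nat_lit 0x1300000800800e, nat_lit 0x1700000800600e, nat_lit 0x1700001400a00e, nat_lit 0x1b00000700000c00c00c, nat_lit 0x1f00001c00600a, nat_lit 0x1f00000700001000400c, nat_lit 0x2300001100800e, nat_lit 0x2700001100600e, nat_lit 0x2b00001900800e, nat_lit 0x3300003000600a, nat_lit 0x3700000e00003000c00c, nat_lit 0x3f00002300000b00001800003c004010, nat_lit 0x4300002200001b000005000034004010, nat_lit 0x4700002600001f00000900003800a010, nat_lit 0x2d00003900200e]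
noncomputable def sl_f_0_S : List (List ℕ) := [sl_f_0_S0]
noncomputable def sl_f_0_defs : List ℕ := [(nat_lit 0x20000a0010000900100008002000050010000500200004001000040030000300400002003000020020000100100001004000000030000000200000001000000000000000000000)]
noncomputable def sl_f_0_recs : List ℕ := [(nat_lit 0x4000110000b040000d00011030000c00010030000e0000f000000b0000d020000b0000c03000070000a040000600009030000600008000000300007020000600007000000200006000000400005040000100005030000100004020000200003)]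
noncomputable def sl_f_0_T : List (List ℕ × ℕ) := [([4,2,4,2,3,1,4,2,3,1,4,2,3,1,1], (nat_lit 0x1000000200002800004400003600002a00003e00004700002600001600001d00004000003200003b000017))]
noncomputable def sl_f_0_D : H26.Dag := ⟨[0,2,1,4,3], [[0,0],
  [1,2],
  [2,1],
  [3,4],
  [4,3],
  [1,1,1],
  [2,0,1,0],
  [0,3,3],
  [1,3,1,3,1,3]], [], sl_f_0_defs, sl_f_0_recs⟩
theorem sl_f_0_c : sl_f_0_D.check sl_f_0_S sl_f_0_T = true := by decide +kernel
theorem sl_f_0 {G : Type*} [Group G] {g : ℕ → G} (hR : Rels g sl_f_Rl) {H : Subgroup G}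
    (hH : ∀ k ∈ [], g k ∈ H) : evA g [4,2,4,2,3,1,4,2,3,1,4,2,3,1,1] ∈ H :=
  mem_dag (K := 5) (J := [0,1,2,3,4,5,6,7,8]) (D := sl_f_0_D) (by decide +kernel) sl_f_0_c (by decide +kernel) hR hH
theorem sl_f {G : Type*} [Group G] {s b p : G}
    (b3 : b ^ 3 = 1)
    (ss : s * s = 1)
    (sb : s * b = b * s)
    (pp : p * p = s)
    (pb : (p * b) ^ 3 = 1) :
    ⁅b, b * p * b⁻¹⁆ ^ 3 = p :=
  mul_inv_eq_one.1 ((evA_eq_tm ((InvI.cons ss InvI.nil) : InvI [s, b, p] [(nat_lit 0)]) [(.v (nat_lit 0)), (.v (nat_lit 1)), (.inv (.v (nat_lit 1))), (.v (nat_lit 2)), (.inv (.v (nat_lit 2)))] [4,2,4,2,3,1,4,2,3,1,4,2,3,1,1] (.mul (.pw (.mul (.mul (.mul (.v (nat_lit 1)) (.mul (.mul (.v (nat_lit 1)) (.v (nat_lit 2))) (.inv (.v (nat_lit 1))))) (.inv (.v (nat_lit 1)))) (.inv (.mul (.mul (.v (nat_lit 1)) (.v (nat_lit 2))) (.inv (.v (nat_lit 1)))))) (nat_lit 3)) (.inv (.v (nat_lit 2)))) (by decide +kernel)).symm.trans (Subgroup.mem_bot.1 (sl_f_0 (sl_f_r b3 ss sb pp pb) (H := ⊥) (List.forall_mem_nil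 _))))
noncomputable def PB_Rl : List (List ℕ) := [[0,0],
  [1,2],
  [2,1],
  [3,4],
  [4,3],
  [5,6],
  [6,5],
  [7,8],
  [8,7],
  [1,1,1],
  [3,3,3],
  [5,5,5],
  [4,2,3,1],
  [6,2,5,1],
  [6,4,5,3],
  [7,7,7],
  [2,8,5,7],
  [4,8,1,7],
  [6,8,3,7],
  [7,0,7,0],
  [6,0,5,0],
  [4,0,1,0]]
theorem PB_r {G : Type*} [Group G] {t a b e x : G}
    (h : B1 a b e x t) :
    Rels (nthG [t, a, a⁻¹, b, b⁻¹, e, e⁻¹, x, x⁻¹]) PB_Rl :=
  rels_of_eqs ((InvI.cons h.2.2.2.2.2.2.2.2.2.2.1 InvI.nil) : InvI [t, a, b, e, x] [(nat_lit 0)])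
    (show AllEq [t, a, b, e, x] [((.pw (.v (nat_lit 1)) (nat_lit 3)), .one), ((.pw (.v (nat_lit 2)) (nat_lit 3)), .one), ((.pw (.v (nat_lit 3)) (nat_lit 3)), .one), ((.mul (.v (nat_lit 1)) (.v (nat_lit 2))), (.mul (.v (nat_lit 2)) (.v (nat_lit 1)))), ((.mul (.v (nat_lit 1)) (.v (nat_lit 3))), (.mul (.v (nat_lit 3)) (.v (nat_lit 1)))), ((.mul (.v (nat_lit 2)) (.v (nat_lit 3))), (.mul (.v (nat_lit 3)) (.v (nat_lit 2)))), ((.pw (.v (nat_lit 4)) (nat_lit 3)), .one), ((.mul (.mul (.v (nat_lit 4)) (.v (nat_lit 3))) (.inv (.v (nat_lit 4)))), (.v (nat_lit 1))), ((.mul (.mul (.v (nat_lit 4)) (.v (nat_lit 1))) (.inv (.v (nat_lit 4)))), (.v (nat_lit 2))), ((.mul (.mul (.v (nat_lit 4)) (.v (nat_lit 2))) (.inv (.v (nat_lit 4)))), (.v (nat_lit 3))), ((.mul (.v (nat_lit 0)) (.v (nat_lit 0))), .one), ((.mul (.mul (.v (nat_lit 0)) (.v (nat_lit 4))) (.inv (.v (nat_lit 0)))), (.inv (.v (nat_lit 4)))), ((.mul (.v (nat_lit 0)) (.v (nat_lit 3))), (.mul (.v (nat_lit 3)) (.v (nat_lit 0)))), ((.mul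 (.mul (.v (nat_lit 0)) (.v (nat_lit 1))) (.inv (.v (nat_lit 0)))), (.v (nat_lit 2)))] from h)
    [(.v (nat_lit 0)), (.v (nat_lit 1)), (.inv (.v (nat_lit 1))), (.v (nat_lit 2)), (.inv (.v (nat_lit 2))), (.v (nat_lit 3)), (.inv (.v (nat_lit 3))), (.v (nat_lit 4)), (.inv (.v (nat_lit 4)))] (by decide +kernel)
noncomputable abbrev PB_o : Ops := pops (nat_lit 9) (nat_lit 4) (nat_lit 15) (nat_lit 0x876543210)
noncomputable def PB_cs : List ℕ := [(nat_lit 0x876210543), (nat_lit 0x876543021), (nat_lit 0x876543102), (nat_lit 0x876354210), (nat_lit 0x876435210), (nat_lit 0x687543210), (nat_lit 0x768543210), (nat_lit 0x210876543), (nat_lit 0x543210876)]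
noncomputable def PB_L : List (List ℕ) := [[(nat_lit 0x876543210), (nat_lit 0x876210543), (nat_lit 0x876543021), (nat_lit 0x876543102), (nat_lit 0x543210876), (nat_lit 0x876210354), (nat_lit 0x876210435), (nat_lit 0x543210687), (nat_lit 0x543210768)],
  [(nat_lit 0x876543210), (nat_lit 0x876354210), (nat_lit 0x876435210), (nat_lit 0x543876210), (nat_lit 0x543687210), (nat_lit 0x543768210)],
  [(nat_lit 0x876543210), (nat_lit 0x687543210), (nat_lit 0x768543210)]]
noncomputable def PB_WW : List (List (List ℕ)) := [[[],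
  [(nat_lit 0)],
  [(nat_lit 1)],
  [(nat_lit 2)],
  [(nat_lit 8)],
  [(nat_lit 0), (nat_lit 3)],
  [(nat_lit 0), (nat_lit 4)],
  [(nat_lit 1), (nat_lit 8)],
  [(nat_lit 2), (nat_lit 8)]],
  [[],
  [(nat_lit 3)],
  [(nat_lit 4)],
  [(nat_lit 0), (nat_lit 8)],
  [(nat_lit 0), (nat_lit 1), (nat_lit 8)],
  [(nat_lit 0), (nat_lit 2), (nat_lit 8)]],
  [[],
  [(nat_lit 5)],
  [(nat_lit 6)]]]
noncomputable def PB_b7_S0 : List ℕ := [nat_lit 0xf00000c00600e, nat_lit 0x17000014006010, nat_lit 0x1f00001c006012, nat_lit 0x2300000700001400c01c, nat_lit 0x2700002400600e, nat_lit 0x2700000700001800a01c, nat_lit 0x2b00000700000c00201c, nat_lit 0x2f00002c006010, nat_lit 0x2f00000700001000401c, nat_lit 0x3300000700001c00c01a, nat_lit 0x37000034006012, nat_lit 0x3700000700002000401a, nat_lit 0x3b00000b000014002014, nat_lit 0x3f00003c006010, nat_lit 0x3f00000b000018004014, nat_lit 0x4300000b00001c002016, nat_lit 0x47000044006012, nat_lit 0x4700000b000020004016, nat_lit 0x4b00000f00001400c014,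 nat_lit 0x4b00000200003c002014, nat_lit 0x4f00004c006010, nat_lit 0x4f000002000040004014, nat_lit 0x4f00000f00001800a014, nat_lit 0x5300000f00001c00c016, nat_lit 0x53000002000044002016, nat_lit 0x57000054006012, nat_lit 0x57000002000048004016, nat_lit 0x5700000f00002000a016, nat_lit 0x5b00001300001c002018, nat_lit 0x5f00005c006012, nat_lit 0x5f000013000020004018, nat_lit 0x6300001700001c00c018, nat_lit 0x6300000600005c002018, nat_lit 0x67000064006012, nat_lit 0x67000006000060004018, nat_lit 0x6700001700002000a018, nat_lit 0x6b00002300002c002014, nat_lit 0x6b00000e00003100201c, nat_lit 0x6f00006c006010, nat_lit 0x6f000023000030004014, nat_lit 0x6f00000e00004900401c, nat_lit 0x73000023000034002016, nat_lit 0x7300000e00005c00c01a, nat_lit 0x77000074006012, nat_lit 0x77000023000038004016, nat_lit 0x7700000e00006000401a, nat_lit 0x7b00002700002c00c014, nat_lit 0x7b00001200006c002014, nat_lit 0x7b00001600003900201c, nat_lit 0x7f00007c006010, nat_lit 0x7f000012000070004014, nat_lit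 0x7f00002700003000a014, nat_lit 0x7f00001600005900401c, nat_lit 0x8300002700003400c016, nat_lit 0x83000012000074002016, nat_lit 0x8300001600006400c01a, nat_lit 0x87000084006012, nat_lit 0x87000012000078004016, nat_lit 0x8700002700003800a016, nat_lit 0x8700001600006800401a, nat_lit 0x8b00002b000034002018, nat_lit 0x8b00001a00004400c01a, nat_lit 0x8f00008c006012, nat_lit 0x8f00002b000038004018]
noncomputable def PB_b7_S1 : List ℕ := [nat_lit 0x8f00001a00004800401a, nat_lit 0x9300002f00003400c018, nat_lit 0x9300001e00008c002018, nat_lit 0x9300002200005400c01a, nat_lit 0x97000094006012, nat_lit 0x9700001e000090004018, nat_lit 0x9700002f00003800a018, nat_lit 0x9700002200005800401a, nat_lit 0x9b00003200005c002016, nat_lit 0x9b00003b000044002018, nat_lit 0x9f00009c006012, nat_lit 0x9f000032000060004016, nat_lit 0x9f00003b000048004018, nat_lit 0xa300003a000064002016, nat_lit 0xa300003f00004400c018, nat_lit 0xa300003600009c002018, nat_lit 0xa70000a4006012, nat_lit 0xa700003a000068004016,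 nat_lit 0xa70000360000a0004018, nat_lit 0xa700003f00004800a018, nat_lit 0xab00004a00005c00c016, nat_lit 0xab00004e00009c002016, nat_lit 0xab00004b000054002018, nat_lit 0xaf0000ac006012, nat_lit 0xaf00004e0000a0004016, nat_lit 0xaf00004a00006000a016, nat_lit 0xaf00004b000058004018, nat_lit 0xb300005a00006400c016, nat_lit 0xb30000560000a4002016, nat_lit 0xb300004f00005400c018, nat_lit 0xb30000520000ac002018, nat_lit 0xb70000b4006012, nat_lit 0xb70000560000a8004016, nat_lit 0xb700005a00006800a016, nat_lit 0xb70000520000b0004018, nat_lit 0xb700004f00005800a018, nat_lit 0xbb00009200008c002016, nat_lit 0xbb00006b000074002018, nat_lit 0xbb00009600009c00c01a, nat_lit 0xbf0000bc006012, nat_lit 0xbf000092000090004016, nat_lit 0xbf00006b000078004018, nat_lit 0xbf0000960000a000401a, nat_lit 0xc300009e000094002016, nat_lit 0xc300006f00007400c018, nat_lit 0xc300009a0000bc002018, nat_lit 0xc30000a20000ac00c01a, nat_lit 0xc70000c4006012, nat_lit 0xc700009e000098004016, nat_lit 0xc700009a0000c0004018,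 nat_lit 0xc700006f00007800a018, nat_lit 0xc70000a20000b000401a, nat_lit 0xcb0000ba00008c00c016, nat_lit 0xcb0000be0000bc002016, nat_lit 0xcb00007b000084002018, nat_lit 0xcb0000c20000a400c01a, nat_lit 0xcf0000cc006012, nat_lit 0xcf0000be0000c0004016, nat_lit 0xcf0000ba00009000a016, nat_lit 0xcf00007b000088004018, nat_lit 0xcf0000c20000a800401a, nat_lit 0xd30000ce00009400c016, nat_lit 0xd30000ca0000c4002016, nat_lit 0xd300007f00008400c018]
noncomputable def PB_b7_S2 : List ℕ := [nat_lit 0xd30000c60000cc002018, nat_lit 0xd30000d20000b400c01a, nat_lit 0xd70000d4006012, nat_lit 0xd70000ca0000c8004016, nat_lit 0xd70000ce00009800a016, nat_lit 0xd70000c60000d0004018, nat_lit 0xd700007f00008800a018, nat_lit 0xd70000d20000b800401a]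
noncomputable def PB_b7_S : List (List ℕ) := [PB_b7_S0, PB_b7_S1, PB_b7_S2]
noncomputable def PB_b7_defs : List ℕ := [(nat_lit 0x60001f0050001f0060001e0050001e0060001b0050001b0060001a0050001a006000130050001300600012005000120060000f0050000f0060000e0050000e0060000b0050000b0060000a0050000a00600009005000090040000900300009006000080050000800400008003000080060000500500005006000040050000400600003005000030040000300300003006000020050000200400002003000020060000100500001004000010030000100200001001000010060000000500000004000000030000000200000001000000000000000000000)]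
noncomputable def PB_b7_recs : List ℕ := [(nat_lit 0x40000d00023060002200023000001000022040000c00022000001900021010000d00021020001d00021060002000021000001800020020001c00020010000c0002000000130001f010000b0001f020001b0001f040001e0001f000000f0001e020001a0001e010000a0001e00000170001d020000d0001d060001c0001d00000160001c020000c0001c00000120001b020000b0001b040001a0001b000000e0001a020000a0001a030000700019040001700019060001800019040001600018030000600018040000700017060001600017040000600016010000700015020001100015060001400015020001000014010000600014010000500013020000f00013040001200013020000e0001201000040001202000070001106000100001102000060001002000050000f040000e0000f02000040000e00000070000d060000c0000d00000060000c00000030000b040000a0000b00000020000a000000500009020000800009000000400008060000600007040000400005020000200003),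
  (nat_lit 0x30002000034020003000034010002400034000002900033040002100033010002300033020002f00033060003200033000002800032040002000032020002e00032010002200032000002b00031030001d00031040002f00031020002500031060003000031000002a00030040002e00030030001c0003002000240003000000270002f040001d0002f02000230002f060002e0002f00000260002e040001c0002e02000220002e03000150002d040002b0002d01000190002d02000290002d060002c0002d040002a0002c03000140002c02000280002c01000180002c04000150002b01000170002b02000270002b060002a0002b04000140002a02000260002a01000160002a030001100029040002700029020001900029060002800029040002600028030001000028020001800028040001100027020001700027060002600027040001000026020001600026000001500025030000d00025040002300025060002400025000001400024040002200024030000c00024000001100023),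
  (nat_lit 0x2d00035030002100035040003300035010002500035020003100035060003400035000002c00034040003200034)]
noncomputable def PB_b7_L0 : List ℕ := [nat_lit 0x700000100000b00000200000f00000300001300000400001700000500001b00000600001f000007, nat_lit 0x800000000002300000800002700000900002b00000a00002f00000b00003300000c00003700000d, nat_lit 0x1a00000a00000200000300000c00000000003b00000e00003f00000f000043000010000047000011, nat_lit 0x2200000b00001000000000000100000200004b00001200004f000013000053000014000057000015, nat_lit 0xe00000800003200000e00004a00001200000600000500001400000000005b00001600005f000017, nat_lit 0x1600000900003a00000f00005a000013000018000000000005000004000063000018000067000019, nat_lit 0x2600000c00003e00001000005e00001400007200001600007e00001800000a00000700001c000000, nat_lit 0x2e00000d00004600001100006e00001500007a00001700008e000019000020000000000009000006, nat_lit 0xd00000400001200000900002400000100006b00001a00006f00001b00007300001c00007700001d, nat_lit 0x1500000500002800000100001100000800007b00001e00007f00001f000083000020000087000021,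 nat_lit 0x1900000200009200001a0000ba00001e00001e00000b00002c00000100008b00002200008f000023, nat_lit 0x2100000300009e00001b0000ce00001f00003000000100001d00000a000093000024000097000025, nat_lit 0x250000060000a600001c0000d60000200000f200002200010600002400002a00000d000034000001, nat_lit 0x2d0000070000b200001d0000ea0000210000fe00002300011a00002500003800000100002900000c, nat_lit 0x9600001a00004e00001200003100000400003600000f00003c00000200009b00002600009f000027, nat_lit 0xc200001e00005600001300003900000500004000000200003500000e0000a30000280000a7000029, nat_lit 0xf600002200006200001400003d00000600012600002600013a000028000042000011000044000002, nat_lit 0x10200002300006a00001500004500000700013200002700014e000029000048000002000041000010, nat_lit 0xa200001b00004900000400004d00000e00005200001300004c0000030000ab00002a0000af00002b, nat_lit 0xd200001f00005900000500005500000f0000500000030000510000120000b300002c0000b700002d, nat_lit 0x10e00002400005d00000600006100001000015a00002a00017600002c000066000015000054000003,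 nat_lit 0x11e00002500006d00000700006900001100016a00002b00018e00002d000058000003000065000014, nat_lit 0xaa00001c00012200002600015200002a00008200001800007100000600007600001700005c000004, nat_lit 0xb600001d00012e00002700016600002b00008a000019000079000007000060000004000075000016, nat_lit 0xde00002000013600002800016e00002c00007d000006000081000016000086000019000064000005, nat_lit 0xee00002100014600002900018600002d00008d000007000089000017000068000005000085000018, nat_lit 0x9500000e0000be00001e00009100000a00009a00001b00006c0000080000bb00002e0000bf00002f, nat_lit 0xa10000120000ca00001f00009d00000b00007000000800009900001a0000c30000300000c7000031, nat_lit 0xa90000160000da0000200000a500000c00019600002e0001b20000300000ae00001d000074000008, nat_lit 0xb50000170000e60000210000b100000d0001a600002f0001ca0000310000780000080000ad00001c, nat_lit 0xc100000f0000b900000a0000bd00001a0000c600001f00007c0000090000cb0000320000cf000033, nat_lit 0xd10000130000cd00000b0000c900001b0000800000090000c500001e0000d30000340000d7000035,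 nat_lit 0xdd0000180000d500000c0000d900001c0001da0000320001fe0000340000e2000021000084000009, nat_lit 0xed0000190000e900000d0000e500001d0001ee00003300021a0000350000880000090000e1000020, nat_lit 0xf500001000019200002e0001d200003200010a0000240000f100000c0000fa00002300008c00000a, nat_lit 0x1010000110001a200002f0001ea0000330001160000250000fd00000d00009000000a0000f9000022, nat_lit 0x10d0000140001ae0000300001f600003400010500000c00010900002200011200002500009400000b, nat_lit 0x11d0000150001c200003100021200003500011900000d00011500002300009800000b000111000024, nat_lit 0x19a00002e00015600002a00012100001600013e00002800012500001000012a00002700009c00000e, nat_lit 0x1aa00002f00016200002b00012d00001700014a0000290001310000110000a000000e000129000026, nat_lit 0x1de00003200017200002c00013500001800013900001000013d0000260001420000290000a400000f, nat_lit 0x1f200003300018200002d00014500001900014d0000110001490000270000a800000f000141000028, nat_lit 0x1ba00003000015100001600015500002600017a00002c00015900001400015e00002b0000ac000012,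 nat_lit 0x1ce00003100016500001700016100002700018a00002d0001690000150000b000001200015d00002a, nat_lit 0x20600003400016d00001800017100002800017500001400017900002a00017e00002d0000b4000013, nat_lit 0x21e00003500018500001900018100002900018d00001500018900002b0000b800001300017d00002c, nat_lit 0x1990000260001d60000320001910000220001b600003000019500001c00019e00002f0000bc00001a, nat_lit 0x1a90000270001e60000330001a10000230001c60000310001a500001d0000c000001a00019d00002e, nat_lit 0x1b900002a0001fa0000340001ad0000240001b100001c0001b500002e0001be0000310000c400001b, nat_lit 0x1cd00002b00020e0000350001c10000250001c900001d0001c500002f0000c800001b0001bd000030, nat_lit 0x1dd0000280001d10000220001d500002e0002020000340001d90000200001e20000330000cc00001e, nat_lit 0x1f10000290001e90000230001e500002f0002160000350001ed0000210000d000001e0001e1000032, nat_lit 0x20500002c0001f50000240001f90000300001fd00002000020100003200020a0000350000d400001f, nat_lit 0x21d00002d00021100002500020d0000310002190000210002150000330000d800001f000209000034]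
noncomputable def PB_b7_L : List (List ℕ) := [PB_b7_L0]
noncomputable def PB_b7_V : List ℕ := [(nat_lit 0x3500000034000000330000003200000031000000300000002f0000002e0000002d0000002c0000002b0000002a000000290000002800000027000000260000002500000024000000230000002200000021000000200000001f0000001e0000001d0000001c0000001b0000001a000000190000001800000017000000160000001500000014000000130000001200000011000000100000000f0000000e0000000d0000000c0000000b0000000a00000009000000080000000700000006000000050000000400000003000000020000000100000000)]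
noncomputable def PB_b7_D : H26.Dag := ⟨[0,2,1,4,3,6,5], [[0,0],
  [1,2],
  [2,1],
  [3,4],
  [4,3],
  [5,6],
  [6,5],
  [1,1,1],
  [3,3,3],
  [5,5,5],
  [4,2,3,1],
  [6,2,5,1],
  [6,4,5,3],
  [6,0,5,0],
  [4,0,1,0]], [], PB_b7_defs, PB_b7_recs⟩
theorem PB_b7_c : PB_b7_D.checkTab PB_b7_S 54 7 PB_b7_V PB_b7_L = true := by decide +kernel
theorem PB_b7 : Bound PB_Rl 7 54 :=
  bound_dag (Bound.zero PB_Rl) (K := 7) (J := [0,1,2,3,4,5,6,9,10,11,12,13,14,20,21]) (by decide +kernel) PB_b7_c (by decide +kernel)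
noncomputable def PB_b9_S0 : List ℕ := [nat_lit 0x1, nat_lit 0x1, nat_lit 0x1, nat_lit 0x1, nat_lit 0x700000d000008000014, nat_lit 0x7000005000008000016, nat_lit 0x7000009000008000018, nat_lit 0xb000008006012, nat_lit 0xb00000600000c008014, nat_lit 0xb00000a00000c008016, nat_lit 0xb00000e00000c008018, nat_lit 0xb00000100000800a01a]
noncomputable def PB_b9_S : List (List ℕ) := [PB_b9_S0]
noncomputable def PB_b9_defs : List ℕ := [(nat_lit 0x8000000070000000000000)]
noncomputable def PB_b9_recs : List ℕ := [(nat_lit 0x100002030000200002010000200002050000200002080000100002060000100001040000100001020000100001050000000000030000000000010000000000000000000000)]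
noncomputable def PB_b9_L0 : List ℕ := [nat_lit 0x100000000000500000000000600000000000900000000000a00000000000d00000000000e00000000000700000100000b000002, nat_lit 0x2e00000200001200000100001100000100001600000100001500000100001a00000100001900000100001e000002000008000000, nat_lit 0x2d00000100002500000200002600000200002900000200002a00000200002100000200002200000200000c00000000001d000001]
noncomputable def PB_b9_L : List (List ℕ) := [PB_b9_L0]
noncomputable def PB_b9_V : List ℕ := [(nat_lit 0x20000000100000000)]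
noncomputable def PB_b9_D : H26.Dag := ⟨[0,2,1,4,3,6,5,8,7], [[0,0],
  [1,2],
  [2,1],
  [3,4],
  [4,3],
  [5,6],
  [6,5],
  [7,8],
  [8,7],
  [7,7,7],
  [2,8,5,7],
  [4,8,1,7],
  [6,8,3,7],
  [7,0,7,0]], [0,1,2,3,4,5,6], PB_b9_defs, PB_b9_recs⟩
theorem PB_b9_c : PB_b9_D.checkTab PB_b9_S 3 9 PB_b9_V PB_b9_L = true := by decide +kernel
theorem PB_b9 : Bound PB_Rl 9 162 :=
  bound_dag PB_b7 (K := 9) (J := [0,1,2,3,4,5,6,7,8,15,16,17,18,19]) (by decide +kernel) PB_b9_c (by decide +kernel)
theorem PB_P : PModel (nat_lit 9) (nat_lit 4) (nat_lit 15) (nat_lit 0x876543210) PB_cs PB_Rl PB_L 162 :=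
  ⟨PkOK.of (by decide +kernel), by decide +kernel, by decide +kernel, PB_b9, ⟨PB_WW, by decide +kernel⟩,
    ⟨fun c => Nat.mod c (nat_lit 1157), by decide +kernel⟩⟩
noncomputable def PB_soc_t0 : ST := (.node (nat_lit 114) (.node (nat_lit 109) (.leaf (nat_lit 28)) (.leaf (nat_lit 0))) (.node (nat_lit 198) (.leaf (nat_lit 28)) (.node (nat_lit 199) (.leaf (nat_lit 0)) (.leaf (nat_lit 28)))))
noncomputable def PB_soc_t1 : ST := (.node (nat_lit 524) (.node (nat_lit 291) (.node (nat_lit 113) (.node (nat_lit 50) (.node (nat_lit 21) (.node (nat_lit 19) (.leaf (nat_lit 54)) (.leaf (nat_lit 9))) (.node (nat_lit 36) (.leaf (nat_lit 54)) (.leaf (nat_lit 9)))) (.node (nat_lit 78) (.node (nat_lit 64) (.leaf (nat_lit 27)) (.leaf (nat_lit 54))) (.node (nat_lit 81) (.leaf (nat_lit 27)) (.node (nat_lit 112) (.leaf (nat_lit 54)) (.leaf (nat_lit 27)))))) (.node (nat_lit 217) (.node (nat_lit 187) (.node (nat_lit 123) (.leaf (nat_lit 9)) (.leaf (nat_lit 54))) (.node (nat_lit 191) (.leaf (nat_lit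 9)) (.node (nat_lit 198) (.leaf (nat_lit 54)) (.leaf (nat_lit 9))))) (.node (nat_lit 260) (.node (nat_lit 232) (.leaf (nat_lit 27)) (.leaf (nat_lit 54))) (.node (nat_lit 262) (.leaf (nat_lit 9)) (.node (nat_lit 272) (.leaf (nat_lit 54)) (.leaf (nat_lit 9))))))) (.node (nat_lit 428) (.node (nat_lit 365) (.node (nat_lit 334) (.node (nat_lit 305) (.leaf (nat_lit 27)) (.leaf (nat_lit 54))) (.node (nat_lit 336) (.leaf (nat_lit 9)) (.node (nat_lit 348) (.leaf (nat_lit 54)) (.leaf (nat_lit 27))))) (.node (nat_lit 383) (.node (nat_lit 376) (.leaf (nat_lit 1)) (.leaf (nat_lit 54))) (.node (nat_lit 393) (.leaf (nat_lit 9)) (.node (nat_lit 423) (.leaf (nat_lit 54)) (.leaf (nat_lit 9)))))) (.node (nat_lit 485) (.node (nat_lit 450) (.node (nat_lit 442) (.leaf (nat_lit 54)) (.leaf (nat_lit 27))) (.node (nat_lit 457) (.leaf (nat_lit 54)) (.node (nat_lit 468) (.leaf (nat_lit 9)) (.leaf (nat_lit 54))))) (.node (nat_lit 497) (.node (nat_lit 487) (.leaf (nat_lit 9)) (.leaf (nat_lit 54)))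 (.node (nat_lit 502) (.leaf (nat_lit 9)) (.node (nat_lit 516) (.leaf (nat_lit 54)) (.leaf (nat_lit 27)))))))) (.node (nat_lit 755) (.node (nat_lit 590) (.node (nat_lit 559) (.node (nat_lit 530) (.node (nat_lit 527) (.leaf (nat_lit 54)) (.leaf (nat_lit 0))) (.node (nat_lit 531) (.leaf (nat_lit 54)) (.node (nat_lit 542) (.leaf (nat_lit 9)) (.leaf (nat_lit 54))))) (.node (nat_lit 570) (.node (nat_lit 561) (.leaf (nat_lit 9)) (.leaf (nat_lit 54))) (.node (nat_lit 572) (.leaf (nat_lit 9)) (.node (nat_lit 589) (.leaf (nat_lit 54)) (.leaf (nat_lit 1)))))) (.node (nat_lit 693) (.node (nat_lit 604) (.node (nat_lit 601) (.leaf (nat_lit 0)) (.leaf (nat_lit 27))) (.node (nat_lit 663) (.leaf (nat_lit 54)) (.node (nat_lit 686) (.leaf (nat_lit 27)) (.leaf (nat_lit 54))))) (.node (nat_lit 712) (.node (nat_lit 708) (.leaf (nat_lit 9)) (.leaf (nat_lit 54))) (.node (nat_lit 715) (.leaf (nat_lit 27)) (.node (nat_lit 752) (.leaf (nat_lit 54)) (.leaf (nat_lit 1))))))) (.node (nat_lit 829) (.node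 (nat_lit 795) (.node (nat_lit 767) (.node (nat_lit 757) (.leaf (nat_lit 9)) (.leaf (nat_lit 54))) (.node (nat_lit 786) (.leaf (nat_lit 9)) (.node (nat_lit 788) (.leaf (nat_lit 27)) (.leaf (nat_lit 54))))) (.node (nat_lit 814) (.node (nat_lit 797) (.leaf (nat_lit 9)) (.leaf (nat_lit 54))) (.node (nat_lit 822) (.leaf (nat_lit 1)) (.node (nat_lit 826) (.leaf (nat_lit 54)) (.leaf (nat_lit 27)))))) (.node (nat_lit 905) (.node (nat_lit 860) (.node (nat_lit 831) (.leaf (nat_lit 9)) (.leaf (nat_lit 54))) (.node (nat_lit 866) (.leaf (nat_lit 1)) (.node (nat_lit 888) (.leaf (nat_lit 54)) (.leaf (nat_lit 27))))) (.node (nat_lit 940) (.node (nat_lit 934) (.leaf (nat_lit 54)) (.leaf (nat_lit 9))) (.node (nat_lit 1008) (.leaf (nat_lit 54)) (.node (nat_lit 1022) (.leaf (nat_lit 9)) (.leaf (nat_lit 1)))))))))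
noncomputable def PB_soc_F : Fm := (.all PB_L (.or (.qf (.eq (.v (nat_lit 0)) .one)) (.exF PB_L (fun cs => PB_soc_t1.find (Nat.mod (nth (nat_lit 0) cs (nat_lit 0)) (nat_lit 1046))) (.exF PB_L (fun cs => PB_soc_t0.find (Nat.mod (Nat.add (nth (nat_lit 0) cs (nat_lit 0)) (Nat.mul (nat_lit 7919) (nth (nat_lit 0) cs (nat_lit 1)))) (nat_lit 254))) (.qf (.or (.eq (.mul (.mul (.v (nat_lit 0)) (.v (nat_lit 2))) (.inv (.v (nat_lit 0)))) (.mul (.mul (.v (nat_lit 4)) (.v (nat_lit 6))) (.v (nat_lit 8)))) (.or (.eq (.mul (.mul (.v (nat_lit 0)) (.v (nat_lit 2))) (.inv (.v (nat_lit 0)))) (.inv (.mul (.mul (.v (nat_lit 4)) (.v (nat_lit 6))) (.v (nat_lit 8))))) (.or (.eq (.mul (.mul (.v (nat_lit 0)) (.mul (.mul (.mul (.v (nat_lit 2)) (.v (nat_lit 1))) (.inv (.v (nat_lit 2)))) (.inv (.v (nat_lit 1))))) (.inv (.v (nat_lit 0)))) (.mul (.mul (.v (nat_lit 4)) (.v (nat_lit 6))) (.v (nat_lit 8)))) (.or (.eq (.mul (.mul (.v (nat_lit 0)) (.mul (.mul (.mul (.v (nat_lit 2)) (.v (nat_lit 1))) (.inv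 (.v (nat_lit 2)))) (.inv (.v (nat_lit 1))))) (.inv (.v (nat_lit 0)))) (.inv (.mul (.mul (.v (nat_lit 4)) (.v (nat_lit 6))) (.v (nat_lit 8))))) (.or (.eq (.mul (.mul (.mul (.mul (.mul (.mul (.v (nat_lit 2)) (.v (nat_lit 1))) (.inv (.v (nat_lit 2)))) (.inv (.v (nat_lit 1)))) (.v (nat_lit 0))) (.inv (.mul (.mul (.mul (.v (nat_lit 2)) (.v (nat_lit 1))) (.inv (.v (nat_lit 2)))) (.inv (.v (nat_lit 1)))))) (.inv (.v (nat_lit 0)))) (.mul (.mul (.v (nat_lit 4)) (.v (nat_lit 6))) (.v (nat_lit 8)))) (.eq (.mul (.mul (.mul (.mul (.mul (.mul (.v (nat_lit 2)) (.v (nat_lit 1))) (.inv (.v (nat_lit 2)))) (.inv (.v (nat_lit 1)))) (.v (nat_lit 0))) (.inv (.mul (.mul (.mul (.v (nat_lit 2)) (.v (nat_lit 1))) (.inv (.v (nat_lit 2)))) (.inv (.v (nat_lit 1)))))) (.inv (.v (nat_lit 0)))) (.inv (.mul (.mul (.v (nat_lit 4)) (.v (nat_lit 6))) (.v (nat_lit 8)))))))))))))))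
theorem PB_soc_chk : Fm.chk PB_o PB_soc_F PB_cs = true := by decide +kernel
theorem PB_soc {G : Type*} [Group G] {R : ℕ → G → Prop} {t a a_i b b_i e e_i x x_i : G} {H : Subgroup G}
    (M : Mdl PB_o PB_cs PB_L R [t, a, a_i, b, b_i, e, e_i, x, x_i] H) :
    ∀ y_ ∈ H, y_ = 1 ∨ (∃ q_ ∈ H, ∃ k_ ∈ H, k_ * y_ * k_⁻¹ = a * b * e ∨ k_ * y_ * k_⁻¹ = (a * b * e)⁻¹ ∨ k_ * ⁅y_, q_⁆ * k_⁻¹ = a * b * e ∨ k_ * ⁅y_, q_⁆ * k_⁻¹ = (a * b * e)⁻¹ ∨ ⁅⁅y_, q_⁆, k_⁆ = a * b * e ∨ ⁅⁅y_, q_⁆, k_⁆ = (a * b * e)⁻¹) :=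
  have h : ∀ y_, InL PB_o R PB_L y_ → y_ = 1 ∨ (Good PB_o R PB_L → prods PB_o PB_L PB_o.one ≠ [] → ∃ q_, InL PB_o R PB_L q_ ∧ (Good PB_o R PB_L → prods PB_o PB_L PB_o.one ≠ [] → ∃ k_, InL PB_o R PB_L k_ ∧ (k_ * y_ * k_⁻¹ = a * b * e ∨ k_ * y_ * k_⁻¹ = (a * b * e)⁻¹ ∨ k_ * ⁅y_, q_⁆ * k_⁻¹ = a * b * e ∨ k_ * ⁅y_, q_⁆ * k_⁻¹ = (a * b * e)⁻¹ ∨ ⁅⁅y_, q_⁆, k_⁆ = a * b * e ∨ ⁅⁅y_, q_⁆, k_⁆ = (a * b * e)⁻¹))) :=
    Fm.sound M.μ PB_soc_F PB_soc_chk M.reps
  (fun y_ h0 => (Or.imp (fun h1 => h1) (fun h1 => (Exists.imp (fun q_ h2 => ⟨M.H.iff.1 h2.1, (Exists.imp (fun k_ h3 => ⟨M.H.iff.1 h3.1, h3.2⟩) (h2.2 M.H.good M.H.ne))⟩) (h1 M.H.good M.H.ne))) (h y_ (M.H.iff.2 h0))))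
theorem PB_mdl {G : Type*} [Group G] {t a b e x : G}
    (h : B1 a b e x t)
    (n1 : a * b * e ≠ 1) (n2 : (a * b * e)⁻¹ ≠ 1) :
    ∃ R, Mdl PB_o PB_cs PB_L R [t, a, a⁻¹, b, b⁻¹, e, e⁻¹, x, x⁻¹] (sp [t, a, a⁻¹, b, b⁻¹, e, e⁻¹, x, x⁻¹]) ∧ #(sp [t, a, a⁻¹, b, b⁻¹, e, e⁻¹, x, x⁻¹]) = 162 :=
  mdl_of PB_P rfl (PB_r h) (.mul (.mul (.v (nat_lit 1)) (.v (nat_lit 3))) (.v (nat_lit 5))) (.inv (.mul (.mul (.v (nat_lit 1)) (.v (nat_lit 3))) (.v (nat_lit 5)))) n1 n2
    fun _ ms _ M hl => match ms, M, (hl : ms.length = 9) with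
      | [_, _, _, _, _, _, _, _, _], M, _ => PB_soc M
noncomputable def PB_lJ : List ℕ := [(nat_lit 0x876543210), (nat_lit 0x876543021), (nat_lit 0x876354210), (nat_lit 0x687543210), (nat_lit 0x876543102), (nat_lit 0x876354021), (nat_lit 0x687543021), (nat_lit 0x876435210), (nat_lit 0x687354210), (nat_lit 0x768543210), (nat_lit 0x876354102), (nat_lit 0x687543102), (nat_lit 0x876435021), (nat_lit 0x687354021), (nat_lit 0x768543021), (nat_lit 0x687435210), (nat_lit 0x768354210), (nat_lit 0x876435102), (nat_lit 0x687354102), (nat_lit 0x768543102), (nat_lit 0x687435021), (nat_lit 0x768354021), (nat_lit 0x768435210), (nat_lit 0x687435102), (nat_lit 0x768354102), (nat_lit 0x768435021), (nat_lit 0x768435102)]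
noncomputable def PB_lJ_W : List (List ℕ) := [[],
  [(nat_lit 0)],
  [(nat_lit 1)],
  [(nat_lit 2)],
  [(nat_lit 0), (nat_lit 0)],
  [(nat_lit 0), (nat_lit 1)],
  [(nat_lit 0), (nat_lit 2)],
  [(nat_lit 1), (nat_lit 1)],
  [(nat_lit 1), (nat_lit 2)],
  [(nat_lit 2), (nat_lit 2)],
  [(nat_lit 0), (nat_lit 0), (nat_lit 1)],
  [(nat_lit 0), (nat_lit 0), (nat_lit 2)],
  [(nat_lit 0), (nat_lit 1), (nat_lit 1)],
  [(nat_lit 0), (nat_lit 1), (nat_lit 2)],
  [(nat_lit 0), (nat_lit 2), (nat_lit 2)],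
  [(nat_lit 1), (nat_lit 1), (nat_lit 2)],
  [(nat_lit 1), (nat_lit 2), (nat_lit 2)],
  [(nat_lit 0), (nat_lit 0), (nat_lit 1), (nat_lit 1)],
  [(nat_lit 0), (nat_lit 0), (nat_lit 1), (nat_lit 2)],
  [(nat_lit 0), (nat_lit 0), (nat_lit 2), (nat_lit 2)],
  [(nat_lit 0), (nat_lit 1), (nat_lit 1), (nat_lit 2)],
  [(nat_lit 0), (nat_lit 1), (nat_lit 2), (nat_lit 2)],
  [(nat_lit 1), (nat_lit 1), (nat_lit 2), (nat_lit 2)],
  [(nat_lit 0), (nat_lit 0), (nat_lit 1), (nat_lit 1), (nat_lit 2)],
  [(nat_lit 0), (nat_lit 0), (nat_lit 1), (nat_lit 2), (nat_lit 2)],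
  [(nat_lit 0), (nat_lit 1), (nat_lit 1), (nat_lit 2), (nat_lit 2)],
  [(nat_lit 0), (nat_lit 0), (nat_lit 1), (nat_lit 1), (nat_lit 2), (nat_lit 2)]]
noncomputable def PB_lJ_h (c : ℕ) : ℕ := Nat.mod c (nat_lit 98)
theorem PB_lJ_E {G : Type*} [Group G] {R : ℕ → G → Prop} {t a b e x : G} {H : Subgroup G}
    (M : Mdl PB_o PB_cs PB_L R [t, a, a⁻¹, b, b⁻¹, e, e⁻¹, x, x⁻¹] H) :
    EnumS R PB_lJ (sp [a, b, e]) :=
  enumS_sp M.μ.1 (M.reps.tms M.μ.1 [(.v (nat_lit 1)), (.v (nat_lit 3)), (.v (nat_lit 5))] (cs' := [(nat_lit 0x876543021), (nat_lit 0x876354210), (nat_lit 0x687543210)]) (by decide +kernel))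
    (Ws := PB_lJ_W) (by decide +kernel) (by decide +kernel)
theorem PB_lJ_c {G : Type*} [Group G] {R : ℕ → G → Prop} {t a b e x : G} {H : Subgroup G}
    (M : Mdl PB_o PB_cs PB_L R [t, a, a⁻¹, b, b⁻¹, e, e⁻¹, x, x⁻¹] H) :
    #(sp [a, b, e]) = 27 :=
  (PB_lJ_E M).card M.μ (h := PB_lJ_h) (by decide +kernel)
noncomputable def PB_lU : List ℕ := [(nat_lit 0x876543210), (nat_lit 0x876543021), (nat_lit 0x876354210), (nat_lit 0x876543102), (nat_lit 0x876354021), (nat_lit 0x876435210), (nat_lit 0x876354102), (nat_lit 0x876435021), (nat_lit 0x876435102)]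
noncomputable def PB_lU_W : List (List ℕ) := [[],
  [(nat_lit 0)],
  [(nat_lit 1)],
  [(nat_lit 0), (nat_lit 0)],
  [(nat_lit 0), (nat_lit 1)],
  [(nat_lit 1), (nat_lit 1)],
  [(nat_lit 0), (nat_lit 0), (nat_lit 1)],
  [(nat_lit 0), (nat_lit 1), (nat_lit 1)],
  [(nat_lit 0), (nat_lit 0), (nat_lit 1), (nat_lit 1)]]
noncomputable def PB_lU_h (c : ℕ) : ℕ := Nat.mod c (nat_lit 28)
theorem PB_lU_E {G : Type*} [Group G] {R : ℕ → G → Prop} {t a b e x : G} {H : Subgroup G}
    (M : Mdl PB_o PB_cs PB_L R [t, a, a⁻¹, b, b⁻¹, e, e⁻¹, x, x⁻¹] H) :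
    EnumS R PB_lU (sp [a, b]) :=
  enumS_sp M.μ.1 (M.reps.tms M.μ.1 [(.v (nat_lit 1)), (.v (nat_lit 3))] (cs' := [(nat_lit 0x876543021), (nat_lit 0x876354210)]) (by decide +kernel))
    (Ws := PB_lU_W) (by decide +kernel) (by decide +kernel)
theorem PB_lU_c {G : Type*} [Group G] {R : ℕ → G → Prop} {t a b e x : G} {H : Subgroup G}
    (M : Mdl PB_o PB_cs PB_L R [t, a, a⁻¹, b, b⁻¹, e, e⁻¹, x, x⁻¹] H) :
    #(sp [a, b]) = 9 :=
  (PB_lU_E M).card M.μ (h := PB_lU_h) (by decide +kernel)
noncomputable def PB_lV : List ℕ := [(nat_lit 0x876543210), (nat_lit 0x687543210), (nat_lit 0x768543210)]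
noncomputable def PB_lV_W : List (List ℕ) := [[],
  [(nat_lit 0)],
  [(nat_lit 0), (nat_lit 0)]]
noncomputable def PB_lV_h (c : ℕ) : ℕ := Nat.mod c (nat_lit 7)
theorem PB_lV_E {G : Type*} [Group G] {R : ℕ → G → Prop} {t a b e x : G} {H : Subgroup G}
    (M : Mdl PB_o PB_cs PB_L R [t, a, a⁻¹, b, b⁻¹, e, e⁻¹, x, x⁻¹] H) :
    EnumS R PB_lV (sp [e]) :=
  enumS_sp M.μ.1 (M.reps.tms M.μ.1 [(.v (nat_lit 5))] (cs' := [(nat_lit 0x687543210)]) (by decide +kernel))
    (Ws := PB_lV_W) (by decide +kernel) (by decide +kernel)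
theorem PB_lV_c {G : Type*} [Group G] {R : ℕ → G → Prop} {t a b e x : G} {H : Subgroup G}
    (M : Mdl PB_o PB_cs PB_L R [t, a, a⁻¹, b, b⁻¹, e, e⁻¹, x, x⁻¹] H) :
    #(sp [e]) = 3 :=
  (PB_lV_E M).card M.μ (h := PB_lV_h) (by decide +kernel)
noncomputable def PB_j_t0 : ST := (.node (nat_lit 30) (.node (nat_lit 12) (.node (nat_lit 8) (.node (nat_lit 5) (.leaf (nat_lit 3)) (.node (nat_lit 6) (.leaf (nat_lit 0)) (.leaf (nat_lit 6)))) (.node (nat_lit 9) (.leaf (nat_lit 1)) (.node (nat_lit 10) (.leaf (nat_lit 2)) (.leaf (nat_lit 5))))) (.node (nat_lit 21) (.node (nat_lit 13) (.leaf (nat_lit 4)) (.node (nat_lit 17) (.leaf (nat_lit 7)) (.leaf (nat_lit 3)))) (.node (nat_lit 26) (.node (nat_lit 23) (.leaf (nat_lit 6)) (.leaf (nat_lit 0))) (.node (nat_lit 27) (.leaf (nat_lit 1)) (.leaf (nat_lit 2)))))) (.node (nat_lit 60) (.node (nat_lit 41) (.node (nat_lit 38) (.leaf (nat_lit 4)) (.node (nat_lit 39) (.leaf (nat_lit 0)) (.leaf (nat_lit 8)))) (.node (nat_lit 45) (.node (nat_lit 42)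 (.leaf (nat_lit 1)) (.leaf (nat_lit 2))) (.node (nat_lit 57) (.leaf (nat_lit 4)) (.leaf (nat_lit 8))))) (.node (nat_lit 71) (.node (nat_lit 63) (.leaf (nat_lit 5)) (.node (nat_lit 67) (.leaf (nat_lit 7)) (.leaf (nat_lit 3)))) (.node (nat_lit 78) (.node (nat_lit 72) (.leaf (nat_lit 6)) (.leaf (nat_lit 8))) (.node (nat_lit 81) (.leaf (nat_lit 5)) (.leaf (nat_lit 7)))))))
noncomputable def PB_j_F : Fm := (.allS PB_lJ (.exG PB_lU (fun cs => PB_j_t0.find (Nat.mod (nth (nat_lit 0) cs (nat_lit 0)) (nat_lit 83))) (.exS PB_lV (.qf (.and (.eq (.v (nat_lit 2)) (.mul (.v (nat_lit 1)) (.v (nat_lit 0)))) (.or (.not (.eq (.mul (.mul (.v (nat_lit 10)) (.v (nat_lit 2))) (.inv (.v (nat_lit 10)))) (.mul (.inv (.v (nat_lit 1))) (.v (nat_lit 0))))) (.or (.not (.eq (.mul (.mul (.v (nat_lit 3)) (.mul (.inv (.v (nat_lit 1))) (.v (nat_lit 0)))) (.inv (.v (nat_lit 3)))) (.inv (.v (nat_lit 2))))) (.eq (.v (nat_lit 2)) .one))))))))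
theorem PB_j_chk : Fm.chk PB_o PB_j_F PB_cs = true := by decide +kernel
theorem PB_j {G : Type*} [Group G] {R : ℕ → G → Prop} {t a b e x : G} {H : Subgroup G}
    (M : Mdl PB_o PB_cs PB_L R [t, a, a⁻¹, b, b⁻¹, e, e⁻¹, x, x⁻¹] H) :
    ∀ j ∈ sp [a, b, e], ∃ u ∈ sp [a, b], ∃ v ∈ sp [e], j = u * v ∧ (x * j * x⁻¹ ≠ u⁻¹ * v ∨ t * (u⁻¹ * v) * t⁻¹ ≠ j⁻¹ ∨ j = 1) :=
  have h : ∀ j, InS R PB_lJ j → (GoodS R PB_lU → PB_lU ≠ [] → ∃ u, InS R PB_lU u ∧ (GoodS R PB_lV → ∃ v, InS R PB_lV v ∧ j = u * v ∧ (x * j * x⁻¹ ≠ u⁻¹ * v ∨ t * (u⁻¹ * v) * t⁻¹ ≠ j⁻¹ ∨ j = 1))) :=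
    Fm.sound M.μ PB_j_F PB_j_chk M.reps
  (fun j h0 => (Exists.imp (fun u h1 => ⟨(PB_lU_E M).iff.1 h1.1, (Exists.imp (fun v h2 => ⟨(PB_lV_E M).iff.1 h2.1, h2.2⟩) (h1.2 (PB_lV_E M).good))⟩) ((h j ((PB_lJ_E M).iff.2 h0)) (PB_lU_E M).good (PB_lU_E M).ne)))
noncomputable def PB_e_F : Fm := (.qf (.and (.eq (.mul (.mul (.mul (.mul (.v (nat_lit 1)) (.inv (.v (nat_lit 3)))) (.v (nat_lit 7))) (.inv (.mul (.v (nat_lit 1)) (.inv (.v (nat_lit 3)))))) (.inv (.v (nat_lit 7)))) (.mul (.mul (.v (nat_lit 1)) (.v (nat_lit 3))) (.v (nat_lit 5)))) (.and (.eq (.mul (.mul (.mul (.v (nat_lit 7)) (.inv (.mul (.v (nat_lit 1)) (.inv (.v (nat_lit 3)))))) (.inv (.v (nat_lit 7)))) (.inv (.inv (.mul (.v (nat_lit 1)) (.inv (.v (nat_lit 3))))))) (.mul (.mul (.v (nat_lit 1)) (.v (nat_lit 3))) (.v (nat_lit 5)))) (.and (.eq (.mul (.v (nat_lit 1)) (.inv (.v (nat_lit 3)))) (.mul (.mul (.mul (.mul (.v (nat_lit 7)) (.v (nat_lit 5))) (.inv (.v (nat_lit 7)))) (.inv (.v (nat_lit 5)))) (.mul (.mul (.mul (.v (nat_lit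 5)) (.inv (.v (nat_lit 7)))) (.inv (.v (nat_lit 5)))) (.inv (.inv (.v (nat_lit 7))))))) (.and (.not (.eq (.v (nat_lit 5)) .one)) (.not (.eq (.mul (.v (nat_lit 1)) (.v (nat_lit 3))) .one)))))))
theorem PB_e_chk : Fm.chk PB_o PB_e_F PB_cs = true := by decide +kernel
theorem PB_e {G : Type*} [Group G] {R : ℕ → G → Prop} {t a b e x : G} {H : Subgroup G}
    (M : Mdl PB_o PB_cs PB_L R [t, a, a⁻¹, b, b⁻¹, e, e⁻¹, x, x⁻¹] H) :
    ⁅a * b⁻¹, x⁆ = a * b * e ∧ ⁅x, (a * b⁻¹)⁻¹⁆ = a * b * e ∧ a * b⁻¹ = ⁅x, e⁆ * ⁅e, x⁻¹⁆ ∧ e ≠ 1 ∧ a * b ≠ 1 :=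
  Fm.sound M.μ PB_e_F PB_e_chk M.reps
noncomputable def P1_Rl : List (List ℕ) := [[0,0],
  [1,1],
  [2,3],
  [3,2],
  [4,5],
  [5,4],
  [6,7],
  [7,6],
  [8,9],
  [9,8],
  [2,2,2],
  [4,4,4],
  [6,6,6],
  [5,3,4,2],
  [7,3,6,2],
  [7,5,6,4],
  [8,8,8],
  [3,9,6,8],
  [5,9,2,8],
  [7,9,4,8],
  [8,0,8,0],
  [7,0,6,0],
  [5,0,2,0],
  [1,0,1,0],
  [7,1,6,1],
  [2,1,2,1],
  [4,1,4,1],
  [8,1,8,1,8,1]]
theorem P1_r {G : Type*} [Group G] {t c a b e x : G}
    (h : B1 a b e x t)
    (k : C1 a b e x t c) :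
    Rels (nthG [t, c, a, a⁻¹, b, b⁻¹, e, e⁻¹, x, x⁻¹]) P1_Rl :=
  rels_of_eqs ((InvI.cons h.2.2.2.2.2.2.2.2.2.2.1 (InvI.cons k.1 InvI.nil)) : InvI [t, c, a, b, e, x] [(nat_lit 0), (nat_lit 1)])
    (AllEq.append (show AllEq [t, c, a, b, e, x] [((.pw (.v (nat_lit 2)) (nat_lit 3)), .one), ((.pw (.v (nat_lit 3)) (nat_lit 3)), .one), ((.pw (.v (nat_lit 4)) (nat_lit 3)), .one), ((.mul (.v (nat_lit 2)) (.v (nat_lit 3))), (.mul (.v (nat_lit 3)) (.v (nat_lit 2)))), ((.mul (.v (nat_lit 2)) (.v (nat_lit 4))), (.mul (.v (nat_lit 4)) (.v (nat_lit 2)))), ((.mul (.v (nat_lit 3)) (.v (nat_lit 4))), (.mul (.v (nat_lit 4)) (.v (nat_lit 3)))), ((.pw (.v (nat_lit 5)) (nat_lit 3)), .one), ((.mul (.mul (.v (nat_lit 5)) (.v (nat_lit 4))) (.inv (.v (nat_lit 5)))), (.v (nat_lit 2))), ((.mul (.mul (.v (nat_lit 5)) (.v (nat_lit 2))) (.inv (.v (nat_lit 5)))), (.v (nat_lit 3))), ((.mul (.mul (.v (nat_lit 5)) (.v (nat_lit 3))) (.inv (.v (nat_lit 5)))), (.v (nat_lit 4))), ((.mul (.v (nat_lit 0)) (.v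 (nat_lit 0))), .one), ((.mul (.mul (.v (nat_lit 0)) (.v (nat_lit 5))) (.inv (.v (nat_lit 0)))), (.inv (.v (nat_lit 5)))), ((.mul (.v (nat_lit 0)) (.v (nat_lit 4))), (.mul (.v (nat_lit 4)) (.v (nat_lit 0)))), ((.mul (.mul (.v (nat_lit 0)) (.v (nat_lit 2))) (.inv (.v (nat_lit 0)))), (.v (nat_lit 3)))] from h)
    (show AllEq [t, c, a, b, e, x] [((.mul (.v (nat_lit 1)) (.v (nat_lit 1))), .one), ((.mul (.v (nat_lit 0)) (.v (nat_lit 1))), (.mul (.v (nat_lit 1)) (.v (nat_lit 0)))), ((.mul (.v (nat_lit 1)) (.v (nat_lit 4))), (.mul (.v (nat_lit 4)) (.v (nat_lit 1)))), ((.mul (.mul (.v (nat_lit 1)) (.v (nat_lit 2))) (.inv (.v (nat_lit 1)))), (.inv (.v (nat_lit 2)))), ((.mul (.mul (.v (nat_lit 1)) (.v (nat_lit 3))) (.inv (.v (nat_lit 1)))), (.inv (.v (nat_lit 3)))), ((.pw (.mul (.v (nat_lit 1)) (.v (nat_lit 5))) (nat_lit 3)), .one)] from k))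
    [(.v (nat_lit 0)), (.v (nat_lit 1)), (.v (nat_lit 2)), (.inv (.v (nat_lit 2))), (.v (nat_lit 3)), (.inv (.v (nat_lit 3))), (.v (nat_lit 4)), (.inv (.v (nat_lit 4))), (.v (nat_lit 5)), (.inv (.v (nat_lit 5)))] (by decide +kernel)
noncomputable abbrev P1_o : Ops := pops (nat_lit 9) (nat_lit 4) (nat_lit 15) (nat_lit 0x876543210)
noncomputable def P1_cs : List ℕ := [(nat_lit 0x876210543), (nat_lit 0x876453120), (nat_lit 0x876543021), (nat_lit 0x876543102), (nat_lit 0x876354210), (nat_lit 0x876435210), (nat_lit 0x687543210), (nat_lit 0x768543210), (nat_lit 0x210876543), (nat_lit 0x543210876)]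
noncomputable def P1_L : List (List ℕ) := [[(nat_lit 0x876543210), (nat_lit 0x876210543), (nat_lit 0x876543021), (nat_lit 0x876543102), (nat_lit 0x543210876), (nat_lit 0x876210354), (nat_lit 0x876210435), (nat_lit 0x543210687), (nat_lit 0x543210768)],
  [(nat_lit 0x876543210), (nat_lit 0x876354210), (nat_lit 0x876435210), (nat_lit 0x543876210), (nat_lit 0x543687210), (nat_lit 0x543768210)],
  [(nat_lit 0x876543210), (nat_lit 0x687543210), (nat_lit 0x768543210)],
  [(nat_lit 0x876543210), (nat_lit 0x876453120)],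
  [(nat_lit 0x876543210), (nat_lit 0x786453210)]]
noncomputable def P1_WW : List (List (List ℕ)) := [[[],
  [(nat_lit 0)],
  [(nat_lit 2)],
  [(nat_lit 3)],
  [(nat_lit 9)],
  [(nat_lit 0), (nat_lit 4)],
  [(nat_lit 0), (nat_lit 5)],
  [(nat_lit 2), (nat_lit 9)],
  [(nat_lit 3), (nat_lit 9)]],
  [[],
  [(nat_lit 4)],
  [(nat_lit 5)],
  [(nat_lit 0), (nat_lit 9)],
  [(nat_lit 0), (nat_lit 2), (nat_lit 9)],
  [(nat_lit 0), (nat_lit 3), (nat_lit 9)]],
  [[],
  [(nat_lit 6)],
  [(nat_lit 7)]],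
  [[],
  [(nat_lit 1)]],
  [[],
  [(nat_lit 9), (nat_lit 1), (nat_lit 8)]]]
noncomputable def P1_b8_S0 : List ℕ := [nat_lit 0x13000010006010, nat_lit 0x1b000018006012, nat_lit 0x23000020006014, nat_lit 0x2700000700000c004020, nat_lit 0x2b00000700001800c01e, nat_lit 0x2f00002c006010, nat_lit 0x2f00000700001c00a01e, nat_lit 0x3300000700001000201e, nat_lit 0x37000034006012, nat_lit 0x3700000700001400401e, nat_lit 0x3b00000700002000c01c, nat_lit 0x3f00003c006014, nat_lit 0x3f00000700002400401c, nat_lit 0x4300000b000014004024, nat_lit 0x47000044006010, nat_lit 0x4700000b00001000a024, nat_lit 0x4b00000b00001c004026, nat_lit 0x4f00004c006012, nat_lit 0x4f00000b00001800a026, nat_lit 0x5300000b00002000c022, nat_lit 0x57000054006014, nat_lit 0x5700000b000024004022, nat_lit 0x5b00000f000018002016, nat_lit 0x5f00005c006012, nat_lit 0x5f00000f00001c004016, nat_lit 0x6300000f000020002018, nat_lit 0x67000064006014, nat_lit 0x6700000f000024004018, nat_lit 0x6b00001300001800c016, nat_lit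 0x6b00000200005c002016, nat_lit 0x6f00006c006012, nat_lit 0x6f000002000060004016, nat_lit 0x6f00001300001c00a016, nat_lit 0x7300001300002000c018, nat_lit 0x73000002000064002018, nat_lit 0x77000074006014, nat_lit 0x77000002000068004018, nat_lit 0x7700001300002400a018, nat_lit 0x7b00001700002000201a, nat_lit 0x7f00007c006014, nat_lit 0x7f00001700002400401a, nat_lit 0x8300001b00002000c01a, nat_lit 0x8300000600007c00201a, nat_lit 0x87000084006014, nat_lit 0x8700000600008000401a, nat_lit 0x8700001b00002400a01a, nat_lit 0x8b00000e00004c00c01e, nat_lit 0x8b000027000030004024, nat_lit 0x8f00008c006010, nat_lit 0x8f00000e00005000a01e, nat_lit 0x8f00002700002c00a024, nat_lit 0x9300000e00004400201e, nat_lit 0x93000027000038004026, nat_lit 0x97000094006012, nat_lit 0x9700000e00004800401e, nat_lit 0x9700002700003400a026, nat_lit 0x9b00000e00005400c01c, nat_lit 0x9b00002700003c00c022, nat_lit 0x9f00009c006014, nat_lit 0x9f00000e00005800401c, nat_lit 0x9f000027000040004022, nat_lit 0xa300002b000034002016,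 nat_lit 0xa300001200005900201e, nat_lit 0xa70000a4006012]
noncomputable def P1_b8_S1 : List ℕ := [nat_lit 0xa700002b000038004016, nat_lit 0xa700001200007100401e, nat_lit 0xab00002b00003c002018, nat_lit 0xab00001200007c00c01c, nat_lit 0xaf0000ac006014, nat_lit 0xaf00002b000040004018, nat_lit 0xaf00001200008000401c, nat_lit 0xb300002f00003400c016, nat_lit 0xb30000160000a4002016, nat_lit 0xb300001a00006100201e, nat_lit 0xb70000b4006012, nat_lit 0xb70000160000a8004016, nat_lit 0xb700002f00003800a016, nat_lit 0xb700001a00008100401e, nat_lit 0xbb00002f00003c00c018, nat_lit 0xbb0000160000ac002018, nat_lit 0xbb00001a00008400c01c, nat_lit 0xbf0000bc006014, nat_lit 0xbf0000160000b0004018, nat_lit 0xbf00002f00004000a018, nat_lit 0xbf00001a00008800401c, nat_lit 0xc300003300003c00201a, nat_lit 0xc300001e00006400c01c, nat_lit 0xc70000c4006014, nat_lit 0xc700003300004000401a, nat_lit 0xc700001e00006800401c, nat_lit 0xcb00003700003c00c01a, nat_lit 0xcb0000220000c400201a, nat_lit 0xcb00002600007400c01c,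 nat_lit 0xcf0000cc006014, nat_lit 0xcf0000220000c800401a, nat_lit 0xcf00003700004000a01a, nat_lit 0xcf00002600007800401c, nat_lit 0xd300004300004c002016, nat_lit 0xd3000036000070004026, nat_lit 0xd70000d4006012, nat_lit 0xd7000043000050004016, nat_lit 0xd700003600006c00a026, nat_lit 0xdb000043000054002018, nat_lit 0xdb00003600007400c022, nat_lit 0xdf0000dc006014, nat_lit 0xdf000043000058004018, nat_lit 0xdf000036000078004022, nat_lit 0xe300004700004c00c016, nat_lit 0xe300003a0000d4002016, nat_lit 0xe300003e000060004026, nat_lit 0xe70000e4006012, nat_lit 0xe700003a0000d8004016, nat_lit 0xe700004700005000a016, nat_lit 0xe700003e00005c00a026, nat_lit 0xeb00004700005400c018, nat_lit 0xeb00003a0000dc002018, nat_lit 0xeb00003e00006400c022, nat_lit 0xef0000ec006014, nat_lit 0xef00003a0000e0004018, nat_lit 0xef00004700005800a018, nat_lit 0xef00003e000068004022, nat_lit 0xf300004b00005400201a, nat_lit 0xf300004200008400c022, nat_lit 0xf70000f4006014, nat_lit 0xf700004b00005800401a,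 nat_lit 0xf7000042000088004022, nat_lit 0xfb00004f00005400c01a, nat_lit 0xfb0000460000f400201a]
noncomputable def P1_b8_S2 : List ℕ := [nat_lit 0xfb00004a00007c00c022, nat_lit 0xff0000fc006014, nat_lit 0xff0000460000f800401a, nat_lit 0xff00004f00005800a01a, nat_lit 0xff00004a000080004022, nat_lit 0x10300005a00007c002018, nat_lit 0x10300005b00006400201a, nat_lit 0x107000104006014, nat_lit 0x10700005a000080004018, nat_lit 0x10700005b00006800401a, nat_lit 0x10b000062000084002018, nat_lit 0x10b00005f00006400c01a, nat_lit 0x10b00005e00010400201a, nat_lit 0x10f00010c006014, nat_lit 0x10f000062000088004018, nat_lit 0x10f00005e00010800401a, nat_lit 0x10f00005f00006800a01a, nat_lit 0x11300007200007c00c018, nat_lit 0x113000076000104002018, nat_lit 0x11300006b00007400201a, nat_lit 0x117000114006014, nat_lit 0x117000076000108004018, nat_lit 0x11700007200008000a018, nat_lit 0x11700006b00007800401a, nat_lit 0x11b00008200008400c018, nat_lit 0x11b00007e00010c002018, nat_lit 0x11b00006f00007400c01a,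 nat_lit 0x11b00007a00011400201a, nat_lit 0x11f00011c006014, nat_lit 0x11f00007e000110004018, nat_lit 0x11f00008200008800a018, nat_lit 0x11f00007a00011800401a, nat_lit 0x11f00006f00007800a01a, nat_lit 0x12300008b000094002016, nat_lit 0x1230000ba00018500201e, nat_lit 0x1230000be0000b8004026, nat_lit 0x127000124006012, nat_lit 0x12700008b000098004016, nat_lit 0x1270000ba0001ad00401e, nat_lit 0x1270000be0000b400a026, nat_lit 0x12b00008b00009c002018, nat_lit 0x12b0000ba0000f400c01c, nat_lit 0x12b0000be0000bc00c022, nat_lit 0x12f00012c006014, nat_lit 0x12f00008b0000a0004018, nat_lit 0x12f0000ba0000f800401c, nat_lit 0x12f0000be0000c0004022, nat_lit 0x13300008f00009400c016, nat_lit 0x1330000c2000124002016, nat_lit 0x1330000c600019100201e, nat_lit 0x1330000ca0000a8004026, nat_lit 0x137000134006012, nat_lit 0x1370000c2000128004016, nat_lit 0x13700008f00009800a016, nat_lit 0x1370000c60001c100401e, nat_lit 0x1370000ca0000a400a026, nat_lit 0x13b00008f00009c00c018, nat_lit 0x13b0000c200012c002018,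 nat_lit 0x13b0000c60000fc00c01c, nat_lit 0x13b0000ca0000ac00c022, nat_lit 0x13f00013c006014, nat_lit 0x13f0000c2000130004018, nat_lit 0x13f00008f0000a000a018, nat_lit 0x13f0000c600010000401c]
noncomputable def P1_b8_S3 : List ℕ := [nat_lit 0x13f0000ca0000b0004022, nat_lit 0x14300009300009c00201a, nat_lit 0x1430000ce0000dc00c01c, nat_lit 0x1430000d20000cc00c022, nat_lit 0x147000144006014, nat_lit 0x1470000930000a000401a, nat_lit 0x1470000ce0000e000401c, nat_lit 0x1470000d20000d0004022, nat_lit 0x14b00009700009c00c01a, nat_lit 0x14b0000d600014400201a, nat_lit 0x14b0000da0000ec00c01c, nat_lit 0x14b0000de0000c400c022, nat_lit 0x14f00014c006014, nat_lit 0x14f0000d600014800401a, nat_lit 0x14f0000970000a000a01a, nat_lit 0x14f0000da0000f000401c, nat_lit 0x14f0000de0000c8004022, nat_lit 0x1530000f60000c4002018, nat_lit 0x1530000a30000ac00201a, nat_lit 0x1530000fa00010400c01c, nat_lit 0x157000154006014, nat_lit 0x1570000f60000c8004018, nat_lit 0x1570000a30000b000401a, nat_lit 0x1570000fa00010800401c,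 nat_lit 0x15b0001020000cc002018, nat_lit 0x15b0000a70000ac00c01a, nat_lit 0x15b0000fe00015400201a, nat_lit 0x15b00010600011400c01c, nat_lit 0x15f00015c006014, nat_lit 0x15f0001020000d0004018, nat_lit 0x15f0000fe00015800401a, nat_lit 0x15f0000a70000b000a01a, nat_lit 0x15f00010600011800401c, nat_lit 0x16300011e0000c400c018, nat_lit 0x163000122000154002018, nat_lit 0x1630000b30000bc00201a, nat_lit 0x16300012600010c00c01c, nat_lit 0x167000164006014, nat_lit 0x167000122000158004018, nat_lit 0x16700011e0000c800a018, nat_lit 0x1670000b30000c000401a, nat_lit 0x16700012600011000401c, nat_lit 0x16b0001320000cc00c018, nat_lit 0x16b00012e00015c002018, nat_lit 0x16b0000b70000bc00c01a, nat_lit 0x16b00012a00016400201a, nat_lit 0x16b00013600011c00c01c, nat_lit 0x16f00016c006014, nat_lit 0x16f00012e000160004018, nat_lit 0x16f0001320000d000a018, nat_lit 0x16f00012a00016800401a, nat_lit 0x16f0000b70000c000a01a, nat_lit 0x16f00013600012000401c, nat_lit 0x1730001860000f4002018, nat_lit 0x1730000d30000dc00201a,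 nat_lit 0x17300018a00011c00c022, nat_lit 0x177000174006014, nat_lit 0x1770001860000f8004018, nat_lit 0x1770000d30000e000401a, nat_lit 0x17700018a000120004022, nat_lit 0x17b0001920000fc002018, nat_lit 0x17b0000d70000dc00c01a, nat_lit 0x17b00018e00017400201a, nat_lit 0x17b00019600011400c022]
noncomputable def P1_b8_S4 : List ℕ := [nat_lit 0x17f00017c006014, nat_lit 0x17f000192000100004018, nat_lit 0x17f00018e00017800401a, nat_lit 0x17f0000d70000e000a01a, nat_lit 0x17f000196000118004022, nat_lit 0x1830001ae0000f400c018, nat_lit 0x1830001b2000174002018, nat_lit 0x1830000e30000ec00201a, nat_lit 0x1830001b600010c00c022, nat_lit 0x187000184006014, nat_lit 0x1870001b2000178004018, nat_lit 0x1870001ae0000f800a018, nat_lit 0x1870000e30000f000401a, nat_lit 0x1870001b6000110004022, nat_lit 0x18b0001c20000fc00c018, nat_lit 0x18b0001be00017c002018, nat_lit 0x18b0000e70000ec00c01a, nat_lit 0x18b0001ba00018400201a, nat_lit 0x18b0001c600010400c022, nat_lit 0x18f00018c006014, nat_lit 0x18f0001be000180004018,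 nat_lit 0x18f0001c200010000a018, nat_lit 0x18f0001ba00018800401a, nat_lit 0x18f0000e70000f000a01a, nat_lit 0x18f0001c6000108004022, nat_lit 0x193000286000144002018, nat_lit 0x19300012300012c00201a, nat_lit 0x19300028a00017400c01c, nat_lit 0x19300028e00016c00c022, nat_lit 0x197000194006014, nat_lit 0x197000286000148004018, nat_lit 0x19700012300013000401a, nat_lit 0x19700028a00017800401c, nat_lit 0x19700028e000170004022, nat_lit 0x19b00029600014c002018, nat_lit 0x19b00012700012c00c01a, nat_lit 0x19b00029200019400201a, nat_lit 0x19b00029a00018400c01c, nat_lit 0x19b00029e00016400c022, nat_lit 0x19f00019c006014, nat_lit 0x19f000296000150004018, nat_lit 0x19f00029200019800401a, nat_lit 0x19f00012700013000a01a, nat_lit 0x19f00029a00018800401c, nat_lit 0x19f00029e000168004022, nat_lit 0x1a30002be00014400c018, nat_lit 0x1a30002c2000194002018, nat_lit 0x1a300013300013c00201a, nat_lit 0x1a30002c600017c00c01c, nat_lit 0x1a30002ca00015c00c022, nat_lit 0x1a70001a4006014, nat_lit 0x1a70002c2000198004018,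 nat_lit 0x1a70002be00014800a018, nat_lit 0x1a700013300014000401a, nat_lit 0x1a70002c600018000401c, nat_lit 0x1a70002ca000160004022, nat_lit 0x1ab0002d600014c00c018, nat_lit 0x1ab0002d200019c002018, nat_lit 0x1ab00013700013c00c01a, nat_lit 0x1ab0002ce0001a400201a, nat_lit 0x1ab0002da00018c00c01c, nat_lit 0x1ab0002de00015400c022, nat_lit 0x1af0001ac006014, nat_lit 0x1af0002d20001a0004018]
noncomputable def P1_b8_S5 : List ℕ := [nat_lit 0x1af0002d600015000a018, nat_lit 0x1af0002ce0001a800401a, nat_lit 0x1af00013700014000a01a, nat_lit 0x1af0002da00019000401c, nat_lit 0x1af0002de000158004022]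
noncomputable def P1_b8_S : List (List ℕ) := [P1_b8_S0, P1_b8_S1, P1_b8_S2, P1_b8_S3, P1_b8_S4, P1_b8_S5]
noncomputable def P1_b8_defs : List ℕ := [(nat_lit 0x70001300600013007000120060001200700011006000110050001100400011007000100060001000500010004000100070000d0060000d0070000c0060000c0070000b0060000b0050000b0040000b0070000a0060000a0050000a0040000a00700009006000090050000900400009003000090020000900700006006000060070000500600005007000040060000400500004004000040070000300600003005000030040000300700002006000020050000200400002003000020020000200700001006000010050000100400001003000010020000100100001007000000060000000500000004000000030000000200000001000000000000000000000),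
  (nat_lit 0x70004d0060004d0070004c0060004c0070004900600049007000480060004800700039006000390070003800600038007000350060003500700034006000340070002d0060002d0070002c0060002c007000290060002900700028006000280070002500600025007000240060002400700023006000230050002300400023007000220060002200500022004000220070001b0060001b0070001a0060001a00700017006000170070001600600016)]
noncomputable def P1_b8_recs : List ℕ := [(nat_lit 0x50002800029000001600028030000c00028010000f00027000001500027070002600027010000e00026000001400026010000c00025000001100025050002400025010000d00024000001000024010000a00023000001300023030002200023010000b00022000001200022040000800021050001f00021070002000021050001e0002004000070002005000080001f070001e0001f05000070001e02000080001d03000190001d070001c0001d03000180001c02000070001c02000060001b03000170001b050001a0001b03000160001a02000050001a03000080001907000180001903000070001803000060001705000160001703000050001601000080001507000140001501000070001401000050001305000120001301000060001201000030001103000100001101000040001000000080000f070000e0000f00000070000e00000040000d050000c0000d00000030000c00000060000b030000a0000b00000050000a000000200009070000700008050000500006030000300004),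
  (nat_lit 0x50003c0003e04000140003e01000210003d05000150003d070003c0003d01000200003c05000140003c01000190003b02000150003b03000370003b070003a0003b01000180003a03000360003a02000140003a010001600039020001300039030003500039050003800039010001700038030003400038020001200038010001d00037030001500037070003600037010001c00036030001400036010001a00035030001300035050003400035010001b00034030001200034000001d00033040000f00033050003100033070003200033000001c00032050003000032040000e00032000001900031050000f00031070003000031000001800030050000e0003000000210002f020000f0002f030002b0002f070002e0002f00000200002e030002a0002e020000e0002e000001b0002d020000d0002d03000290002d050002c0002d00000170002c03000280002c020000c0002c000001f0002b030000f0002b070002a0002b000001e0002a030000e0002a000001a00029030000d00029),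
  (nat_lit 0x3f0004f02000270004f030004b0004f070004e0004f010002a0004e000003e0004e030004a0004e02000260004e01000280004d00000390004d02000250004d03000490004d050004c0004d01000290004c00000350004c03000480004c02000240004c010002f0004b000003d0004b03000270004b070004a0004b010002e0004a000003c0004a03000260004a010002c00049000003800049030002500049050004800049010002d00048000003400048030002400048040001d00047050004500047020002100047030004300047070004600047050004400046040001c00046030004200046020002000046050001d00045020001f00045030004100045070004400045050001c00044030004000044020001e00044040001900043050004100043030002100043070004200043050004000042040001800042030002000042050001900041030001f00041070004000041050001800040030001e00040010001f0003f04000150003f050003d0003f070003e0003f010001e0003e),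
  (nat_lit 0x1000440005e050005c0005e04000360005e030003e0005e01000470005d05000370005d030003d0005d070005c0005d01000460005c05000360005c030003c0005c00000470005b040002f0005b05000590005b02000330005b03000570005b070005a0005b00000460005a05000580005a040002e0005a03000560005a02000320005a000004300059050002f00059020003100059030005500059070005800059000004200058050002e00058030005400058020003000058000004500057040002b00057050005500057030003300057070005600057000004400056050005400056040002a00056030003200056000004100055050002b00055030003100055070005400055000004000054050002a00054030003000054010003100053000003b00053040002700053050005100053070005200053010003000052000003a00052050005000052040002600052010003300051000003700051050002700051070005000051010003200050000003600050050002600050010002b0004f),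
  (nat_lit 0x3000670006b070006a0006b01000540006a00000620006a05000680006a040004e0006a03000660006a02000520006a010005700069000005f00069050004f00069020005100069030006500069070006800069010005600068000005e00068050004e00068030006400068020005000068010005900067000006100067040004b00067050006500067030005300067070006600067010005800066000006000066050006400066040004a00066030005200066010005b00065000005d00065050004b00065030005100065070006400065010005a00064000005c00064050004a00064030005000064010004100063040003b00063050006100063020003f00063030005f00063070006200063010004000062050006000062040003a00062030005e00062020003e00062010004300061050003b00061020003d00061030005d00061070006000061010004200060050003a00060030005c00060020003c0006001000450005f04000370005f050005d0005f030003f0005f070005e0005f),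
  (nat_lit 0x1000550006b00000630006b040004f0006b05000690006b02000530006b)]
noncomputable def P1_b8_L0 : List ℕ := [nat_lit 0x700000100000b00000200000f00000300001300000400001700000500001b00000600001f000007000023000008, nat_lit 0x800000000002700000900002b00000a00002f00000b00003300000c00003700000d00003b00000e00003f00000f, nat_lit 0xe00000900000c00000000004300001000004700001100004b00001200004f000013000053000014000057000015, nat_lit 0x1e00000c00003e00001100000200000400001000000000005b00001600005f000017000063000018000067000019, nat_lit 0x2600000d00003600001000001400000000000100000300006b00001a00006f00001b00007300001c00007700001d, nat_lit 0x1200000a00004a00001300005a00001600007200001a00000600000600001800000000007b00001e00007f00001f, nat_lit 0x1a00000b00004200001200006200001700008200001b00001c000000000005000005000083000020000087000021, nat_lit 0x2a00000e00004e00001400006600001800008600001c00009a00001e0000a600002000000a000008000020000000, nat_lit 0x3200000f00005600001500006e00001900009600001d0000a200001f0000b6000021000024000000000009000007,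 nat_lit 0xd00000200002800000100008b00002200008f00002300009300002400009700002500009b00002600009f000027, nat_lit 0x110000050000ca00002300001600000b00002c0000010000a30000280000a70000290000ab00002a0000af00002b, nat_lit 0x190000060000be00002200003000000100001500000a0000b300002c0000b700002d0000bb00002e0000bf00002f, nat_lit 0x1d0000030000de0000250000f600002800011e00002c00002200000d0000340000010000c30000300000c7000031, nat_lit 0x250000040000d200002400010200002900013200002d00003800000100002100000c0000cb0000320000cf000033, nat_lit 0x290000070000e600002600010a00002a00013a00002e00015600003000016a00003200002e00000f00003c000001, nat_lit 0x310000080000f200002700011600002b00014e00002f00016200003100017e00003300004000000100002d00000e, nat_lit 0xce00002400003500000400003a0000110000440000020000d30000340000d70000350000db0000360000df000037, nat_lit 0xda00002500003d0000030000480000020000390000100000e30000380000e70000390000eb00003a0000ef00003b, nat_lit 0xba0000220000410000060001860000340001ae00003800004600001300004c0000020000f300003c0000f700003d,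 nat_lit 0xc60000230000490000050001920000350001c20000390000500000020000450000120000fb00003e0000ff00003f, nat_lit 0xe200002600004d00000700019a0000360001ca00003a0001e600003c0001fa00003e000052000015000054000002, nat_lit 0xee0000270000550000080001a60000370001de00003b0001f200003d00020e00003f000058000002000051000014, nat_lit 0xfa0000280001c600003900007600001a00005900000500005e00001700005c000003000103000040000107000041, nat_lit 0x12600002c0001b600003800007e00001b00006100000600006000000300005d00001600010b00004200010f000043, nat_lit 0x15a0000300001d200003a00008a00001c00006500000700021a00004000022e00004200006a000019000064000003, nat_lit 0x1660000310001e200003b00009200001d00006d000008000226000041000242000043000068000003000069000018, nat_lit 0x10600002900019600003500007100000500007500001600007a00001b00006c000004000113000044000117000045, nat_lit 0x13600002d00018a00003400008100000600007d00001700007000000400007900001a00011b00004600011f000047, nat_lit 0x17200003200019e00003600008500000700008900001800024e00004400026a00004600008e00001d000074000004,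 nat_lit 0x1820000330001aa00003700009500000800009100001900025e00004500028200004700007800000400008d00001c, nat_lit 0x10e00002a00020200003e0002160000400002460000440000aa00002000009900000700009e00001f00007c000005, nat_lit 0x11a00002b00021200003f00022200004100025a0000450000b20000210000a100000800008000000500009d00001e, nat_lit 0x14200002e0001ea00003c00022a0000420002620000460000a50000070000a900001e0000ae000021000084000006, nat_lit 0x15200002f0001f600003d00023a00004300027a0000470000b50000080000b100001f0000880000060000ad000020, nat_lit 0xb90000120000bd00000b0000c200002300008c00000900012300004800012700004900012b00004a00012f00004b, nat_lit 0xc50000130000c900000a0000900000090000c100002200013300004c00013700004d00013b00004e00013f00004f, nat_lit 0xcd0000100000d100000d0002860000480002be00004c0000d6000025000094000009000143000050000147000051, nat_lit 0xd90000110000dd00000c0002960000490002d600004d0000980000090000d500002400014b00005200014f000053, nat_lit 0xe10000140000e500000e0002a200004a0002e200004e0003060000500003220000520000ea00002700009c000009,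 nat_lit 0xed0000150000f100000f0002b200004b0002fa00004f00031600005100033a0000530000a00000090000e9000026, nat_lit 0xf90000160002de00004d00012200002c0000f500000c0000fe0000290000a400000a000153000054000157000055, nat_lit 0x10500001a0002ca00004c00012e00002d00010100000d0000a800000a0000fd00002800015b00005600015f000057, nat_lit 0x10d00001e0002ee00004e00013e00002e00010900000e00034a00005400036600005600011200002b0000ac00000a, nat_lit 0x11900001f00030200004f00014a00002f00011500000f00035a00005500037e0000570000b000000a00011100002a, nat_lit 0x12500001700029e00004900011d00000c00012100002800012a00002d0000b400000b000163000058000167000059, nat_lit 0x13500001b00028e00004800013100000d00012d0000290000b800000b00012900002c00016b00005a00016f00005b, nat_lit 0x1410000200002aa00004a00013900000e00013d00002a00038e0000580003b200005a00014600002f0000bc00000b, nat_lit 0x1510000210002ba00004b00014d00000f00014900002b0003a20000590003ce00005b0000c000000b00014500002e, nat_lit 0x15900001800032e00005200034600005400038600005800016e00003200015500000e00015e0000310000c400000c,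 nat_lit 0x16500001900034200005300035600005500039e00005900017a00003300016100000f0000c800000c00015d000030, nat_lit 0x17100001c00030e0000500003620000560003aa00005a00016900000e00016d0000300001760000330000cc00000d, nat_lit 0x18100001d00031e0000510003760000570003c600005b00017d00000f0001790000310000d000000d000175000032, nat_lit 0x28a00004800018900001b0001b200003800018500001200018e0000350000d400001000017300005c00017700005d, nat_lit 0x2c600004c00019500001a0001be0000390001910000130000d800001000018d00003400017b00005e00017f00005f, nat_lit 0x30a00005000019d00001c0001ce00003a0001990000140003da00005c0003f600005e0001a20000370000dc000010, nat_lit 0x31a0000510001a900001d0001da00003b0001a50000150003ea00005d00040e00005f0000e00000100001a1000036, nat_lit 0x29a0000490001b50000170001ad0000120001b10000340001ba0000390000e4000011000183000060000187000061, nat_lit 0x2da00004d0001c50000160001c10000130001bd0000350000e80000110001b900003800018b00006200018f000063, nat_lit 0x32a0000520001d10000180001c90000140001cd00003600041e0000600004420000620001d600003b0000ec000011,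 nat_lit 0x33e0000530001e10000190001dd0000150001d900003700043200006100045e0000630000f00000110001d500003a, nat_lit 0x2a600004a0001e90000200003d600005c0004160000600001fe00003e0001e50000140001ee00003d0000f4000012, nat_lit 0x2b600004b0001f50000210003e600005d00042e00006100020a00003f0001f10000150000f80000120001ed00003c, nat_lit 0x2ea00004e00020100001e0003f200005e00043a0000620001f90000140001fd00003c00020600003f0000fc000013, nat_lit 0x2fe00004f00021100001f00040600005f00045600006300020d00001500020900003d00010000001300020500003e]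
noncomputable def P1_b8_L1 : List ℕ := [nat_lit 0x34e00005400044a00006200024a00004400021500001e00023200004200021900001800021e000041000104000016, nat_lit 0x35e00005500046200006300025600004500022100001f00023e00004300022500001900010800001600021d000040, nat_lit 0x39200005800042200006000026600004600022900002000022d00001800023100004000023600004300010c000017, nat_lit 0x3a600005900043600006100027600004700023900002100024100001900023d000041000110000017000235000042, nat_lit 0x36e0000560003fe00005e00024500001e00024900004000026e00004600024d00001c00025200004500011400001a, nat_lit 0x38200005700041200005f00025900001f00025500004100027e00004700025d00001d00011800001a000251000044, nat_lit 0x3ba00005a0003de00005c00026100002000026500004200026900001c00026d00004400027200004700011c00001b, nat_lit 0x3d200005b0003ee00005d00027900002100027500004300028100001d00027d00004500012000001b000271000046, nat_lit 0x28900003400028d00002d0002c200004c000285000024000292000049000124000022000193000064000197000065,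 nat_lit 0x29900003800029d00002c0002d200004d00029500002500012800002200029100004800019b00006600019f000067, nat_lit 0x2a500003c0002a900002e0002e600004e0002a100002600046a00006400048e0000660002ae00004b00012c000022, nat_lit 0x2b500003d0002b900002f0002f600004f0002b100002700047e0000650004aa0000670001300000220002ad00004a, nat_lit 0x2c50000350002c90000290002bd0000240002c10000480002ce00004d0001340000230001a30000680001a7000069, nat_lit 0x2d90000390002dd0000280002d50000250002d10000490001380000230002cd00004c0001ab00006a0001af00006b, nat_lit 0x2e900003e0002ed00002a0002e10000260002e500004a0004be0000680004ea00006a0002f200004f00013c000023, nat_lit 0x2fd00003f00030100002b0002f90000270002f500004b0004d600006900050a00006b0001400000230002f100004e, nat_lit 0x30900003600030d0000320004660000640004b6000068000326000052000305000026000312000051000144000024, nat_lit 0x31900003700031d00003300047a0000650004d2000069000336000053000315000027000148000024000311000050, nat_lit 0x32900003a00032d00003000048a0000660004e200006a00032100002600032500005000033200005300014c000025,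 nat_lit 0x33d00003b0003410000310004a200006700050200006b000339000027000335000051000150000025000331000052, nat_lit 0x34d0000400004f600006a00038a00005800034500003000036a00005600034900002a000352000055000154000028, nat_lit 0x35d00004100051200006b00039a00005900035500003100037a00005700035900002b000158000028000351000054, nat_lit 0x36d0000440004c60000680003ae00005a00036100003200036500002a00036900005400037200005700015c000029, nat_lit 0x3810000450004de0000690003c200005b00037500003300037d00002b000379000055000160000029000371000056, nat_lit 0x39100004200049a0000660003850000300003890000540003b600005a00038d00002e00039600005900016400002c, nat_lit 0x3a50000430004b200006700039d0000310003990000550003ca00005b0003a100002f00016800002c000395000058, nat_lit 0x3b90000460004720000640003a90000320003ad0000560003b100002e0003b50000580003be00005b00016c00002d, nat_lit 0x3d10000470004860000650003c50000330003c10000570003cd00002f0003c900005900017000002d0003bd00005a, nat_lit 0x46e0000640003dd00004600041a0000600003d500003c0003fa00005e0003d90000360003e200005d000174000034,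 nat_lit 0x4820000650003ed00004700042a0000610003e500003d00040a00005f0003e90000370001780000340003e100005c, nat_lit 0x4c20000680003fd00004400043e0000620003f100003e0003f50000360003f900005c00040200005f00017c000035, nat_lit 0x4da00006900041100004500045200006300040500003f00040d00003700040900005d00018000003500040100005e, nat_lit 0x49600006600042100004200041500003c00041900005c00044600006200041d00003a000426000061000184000038, nat_lit 0x4ae00006700043500004300042d00003d00042900005d00045a00006300043100003b000188000038000425000060, nat_lit 0x4f200006a00044900004000043900003e00043d00005e00044100003a00044500006000044e00006300018c000039, nat_lit 0x50e00006b00046100004100045500003f00045100005f00045d00003b00045900006100019000003900044d000062, nat_lit 0x46d00005c00047100005a0004ba00006800046500005000049200006600046900004a000476000065000194000048, nat_lit 0x48100005d00048500005b0004ce0000690004790000510004a600006700047d00004b000198000048000475000064, nat_lit 0x4950000600004990000580004e600006a00048900005200048d00004a00049100006400049e00006700019c000049,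 nat_lit 0x4ad0000610004b10000590004fe00006b0004a10000530004a900004b0004a50000650001a000004900049d000066, nat_lit 0x4c100005e0004c50000560004b50000500004b90000640004ee00006a0004bd00004e0004ca0000690001a400004c, nat_lit 0x4d900005f0004dd0000570004d10000510004cd00006500050600006b0004d500004f0001a800004c0004c9000068, nat_lit 0x4f10000620004f50000540004e10000520004e50000660004e900004e0004ed0000680004fa00006b0001ac00004d, nat_lit 0x50d0000630005110000550005010000530004fd00006700050900004f0005050000690001b000004d0004f900006a]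
noncomputable def P1_b8_L : List (List ℕ) := [P1_b8_L0, P1_b8_L1]
noncomputable def P1_b8_V : List ℕ := [(nat_lit 0x3f0000003e0000003d0000003c0000003b0000003a000000390000003800000037000000360000003500000034000000330000003200000031000000300000002f0000002e0000002d0000002c0000002b0000002a000000290000002800000027000000260000002500000024000000230000002200000021000000200000001f0000001e0000001d0000001c0000001b0000001a000000190000001800000017000000160000001500000014000000130000001200000011000000100000000f0000000e0000000d0000000c0000000b0000000a00000009000000080000000700000006000000050000000400000003000000020000000100000000),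
  (nat_lit 0x6b0000006a000000690000006800000067000000660000006500000064000000630000006200000061000000600000005f0000005e0000005d0000005c0000005b0000005a000000590000005800000057000000560000005500000054000000530000005200000051000000500000004f0000004e0000004d0000004c0000004b0000004a00000049000000480000004700000046000000450000004400000043000000420000004100000040)]
noncomputable def P1_b8_D : H26.Dag := ⟨[0,1,3,2,5,4,7,6], [[0,0],
  [1,1],
  [2,3],
  [3,2],
  [4,5],
  [5,4],
  [6,7],
  [7,6],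
  [2,2,2],
  [4,4,4],
  [6,6,6],
  [5,3,4,2],
  [7,3,6,2],
  [7,5,6,4],
  [7,0,6,0],
  [5,0,2,0],
  [1,0,1,0],
  [7,1,6,1],
  [2,1,2,1],
  [4,1,4,1]], [], P1_b8_defs, P1_b8_recs⟩
theorem P1_b8_c : P1_b8_D.checkTab P1_b8_S 108 8 P1_b8_V P1_b8_L = true := by decide +kernel
theorem P1_b8 : Bound P1_Rl 8 108 :=
  bound_dag (Bound.zero P1_Rl) (K := 8) (J := [0,1,2,3,4,5,6,7,10,11,12,13,14,15,21,22,23,24,25,26]) (by decide +kernel) P1_b8_c (by decide +kernel)
noncomputable def P1_b10_S0 : List ℕ := [nat_lit 0x1, nat_lit 0x1, nat_lit 0x1, nat_lit 0x1, nat_lit 0x1, nat_lit 0x7000011000008000016, nat_lit 0x7000009000008000018, nat_lit 0x700000d00000800001a, nat_lit 0xb000008006014, nat_lit 0xb00000a00000c008016, nat_lit 0xb00000e00000c008018, nat_lit 0xb00001200000c00801a, nat_lit 0xb00000100000800a01c, nat_lit 0xf00001d000010008020, nat_lit 0xf000016000010008022, nat_lit 0xf00001a000010008024, nat_lit 0x1300003200001000401e, nat_lit 0x13000026000014008020, nat_lit 0x13000029000014008022,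 nat_lit 0x1300002d000014008024, nat_lit 0x1300000b000005000008000010006026, nat_lit 0x17000051006014, nat_lit 0x1700003a000018008016, nat_lit 0x1700003e000018008018, nat_lit 0x1700003600001800801a, nat_lit 0x1700004100005500a01c, nat_lit 0x1700000f00002100001400005500a026]
noncomputable def P1_b10_S : List (List ℕ) := [P1_b10_S0]
noncomputable def P1_b10_defs : List ℕ := [(nat_lit 0x9000030010000200100001009000000080000000000000)]
noncomputable def P1_b10_recs : List ℕ := [(nat_lit 0x10000500005000000500005040000500005020000500005060000500005090000400005090000300004040000400004020000400004060000400004000000300004040000300003020000300003060000300003000000100002040000200002020000200002060000200002090000100002070000100001050000100001030000100001060000000000040000000000020000000000010000000000000000000000)]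
noncomputable def P1_b10_L0 : List ℕ := [nat_lit 0x100000000000500000000000900000000000a00000000000d00000000000e00000000001100000000001200000000000700000100000b000002, nat_lit 0x3200000200000f00000300001600000100001500000100001a00000100001900000100001e00000100001d000001000022000002000008000000, nat_lit 0x3100000100001300000400002900000200002a00000200002d00000200002e00000200002500000200002600000200000c000000000021000001, nat_lit 0x4200000400001000000100003900000300003a00000300003d00000300003e000003000035000003000036000003000052000004000017000005, nat_lit 0x4100000300001400000200004900000400004a00000400004d00000400004e000004000045000004000046000004000056000005000051000003, nat_lit 0x6500000500006900000500005d00000500005e00000500006100000500006200000500005900000500005a000005000018000003000055000004]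
noncomputable def P1_b10_L : List (List ℕ) := [P1_b10_L0]
noncomputable def P1_b10_V : List ℕ := [(nat_lit 0x50000000400000003000000020000000100000000)]
noncomputable def P1_b10_D : H26.Dag := ⟨[0,1,3,2,5,4,7,6,9,8], [[0,0],
  [1,1],
  [2,3],
  [3,2],
  [4,5],
  [5,4],
  [6,7],
  [7,6],
  [8,9],
  [9,8],
  [8,8,8],
  [3,9,6,8],
  [5,9,2,8],
  [7,9,4,8],
  [8,0,8,0],
  [1,0,1,0],
  [7,1,6,1],
  [2,1,2,1],
  [4,1,4,1],
  [8,1,8,1,8,1]], [0,1,2,3,4,5,6,7], P1_b10_defs, P1_b10_recs⟩
theorem P1_b10_c : P1_b10_D.checkTab P1_b10_S 6 10 P1_b10_V P1_b10_L = true := by decide +kernel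
theorem P1_b10 : Bound P1_Rl 10 648 :=
  bound_dag P1_b8 (K := 10) (J := [0,1,2,3,4,5,6,7,8,9,16,17,18,19,20,23,24,25,26,27]) (by decide +kernel) P1_b10_c (by decide +kernel)
theorem P1_P : PModel (nat_lit 9) (nat_lit 4) (nat_lit 15) (nat_lit 0x876543210) P1_cs P1_Rl P1_L 648 :=
  ⟨PkOK.of (by decide +kernel), by decide +kernel, by decide +kernel, P1_b10, ⟨P1_WW, by decide +kernel⟩,
    ⟨fun c => Nat.mod c (nat_lit 12316), by decide +kernel⟩⟩
noncomputable def P1_soc_t0 : ST := (.node (nat_lit 5006) (.node (nat_lit 1621) (.node (nat_lit 854) (.node (nat_lit 518) (.node (nat_lit 254) (.node (nat_lit 141) (.node (nat_lit 114) (.node (nat_lit 102) (.node (nat_lit 80) (.leaf (nat_lit 324)) (.leaf (nat_lit 54))) (.node (nat_lit 111) (.leaf (nat_lit 163)) (.leaf (nat_lit 166)))) (.node (nat_lit 122) (.node (nat_lit 117) (.leaf (nat_lit 324)) (.leaf (nat_lit 163))) (.node (nat_lit 128) (.leaf (nat_lit 189)) (.leaf (nat_lit 163))))) (.node (nat_lit 182) (.node (nat_lit 153) (.node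 (nat_lit 150) (.leaf (nat_lit 166)) (.leaf (nat_lit 54))) (.node (nat_lit 181) (.leaf (nat_lit 324)) (.leaf (nat_lit 486)))) (.node (nat_lit 223) (.node (nat_lit 211) (.leaf (nat_lit 54)) (.leaf (nat_lit 486))) (.node (nat_lit 242) (.leaf (nat_lit 351)) (.node (nat_lit 252) (.leaf (nat_lit 163)) (.leaf (nat_lit 54))))))) (.node (nat_lit 387) (.node (nat_lit 332) (.node (nat_lit 268) (.node (nat_lit 257) (.leaf (nat_lit 324)) (.leaf (nat_lit 11))) (.node (nat_lit 269) (.leaf (nat_lit 163)) (.leaf (nat_lit 324)))) (.node (nat_lit 382) (.node (nat_lit 371) (.leaf (nat_lit 163)) (.leaf (nat_lit 162))) (.node (nat_lit 386) (.leaf (nat_lit 163)) (.leaf (nat_lit 351))))) (.node (nat_lit 431) (.node (nat_lit 408) (.node (nat_lit 388) (.leaf (nat_lit 324)) (.leaf (nat_lit 27))) (.node (nat_lit 409) (.leaf (nat_lit 166)) (.leaf (nat_lit 171)))) (.node (nat_lit 457) (.node (nat_lit 456) (.leaf (nat_lit 54)) (.leaf (nat_lit 324))) (.node (nat_lit 472) (.leaf (nat_lit 351)) (.node (nat_lit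 478) (.leaf (nat_lit 163)) (.leaf (nat_lit 54)))))))) (.node (nat_lit 671) (.node (nat_lit 618) (.node (nat_lit 601) (.node (nat_lit 578) (.node (nat_lit 542) (.leaf (nat_lit 163)) (.leaf (nat_lit 166))) (.node (nat_lit 583) (.leaf (nat_lit 324)) (.leaf (nat_lit 54)))) (.node (nat_lit 610) (.node (nat_lit 605) (.leaf (nat_lit 166)) (.leaf (nat_lit 11))) (.node (nat_lit 612) (.leaf (nat_lit 27)) (.leaf (nat_lit 486))))) (.node (nat_lit 631) (.node (nat_lit 627) (.node (nat_lit 620) (.leaf (nat_lit 163)) (.leaf (nat_lit 11))) (.node (nat_lit 630) (.leaf (nat_lit 166)) (.leaf (nat_lit 324)))) (.node (nat_lit 651) (.node (nat_lit 636) (.leaf (nat_lit 11)) (.leaf (nat_lit 27))) (.node (nat_lit 658) (.leaf (nat_lit 54)) (.node (nat_lit 665) (.leaf (nat_lit 11)) (.leaf (nat_lit 54))))))) (.node (nat_lit 747) (.node (nat_lit 706) (.node (nat_lit 680) (.node (nat_lit 677) (.leaf (nat_lit 486)) (.leaf (nat_lit 54))) (.node (nat_lit 697) (.leaf (nat_lit 0)) (.leaf (nat_lit 486))))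 (.node (nat_lit 721) (.node (nat_lit 718) (.leaf (nat_lit 0)) (.leaf (nat_lit 324))) (.node (nat_lit 745) (.leaf (nat_lit 54)) (.leaf (nat_lit 163))))) (.node (nat_lit 771) (.node (nat_lit 760) (.node (nat_lit 758) (.leaf (nat_lit 54)) (.leaf (nat_lit 163))) (.node (nat_lit 770) (.leaf (nat_lit 11)) (.leaf (nat_lit 324)))) (.node (nat_lit 835) (.node (nat_lit 785) (.leaf (nat_lit 163)) (.leaf (nat_lit 324))) (.node (nat_lit 840) (.leaf (nat_lit 11)) (.node (nat_lit 848) (.leaf (nat_lit 27)) (.leaf (nat_lit 163))))))))) (.node (nat_lit 1323) (.node (nat_lit 1034) (.node (nat_lit 934) (.node (nat_lit 910) (.node (nat_lit 892) (.node (nat_lit 874) (.leaf (nat_lit 324)) (.leaf (nat_lit 166))) (.node (nat_lit 893) (.leaf (nat_lit 54)) (.leaf (nat_lit 486)))) (.node (nat_lit 922) (.node (nat_lit 921) (.leaf (nat_lit 0)) (.leaf (nat_lit 163))) (.node (nat_lit 925) (.leaf (nat_lit 54)) (.leaf (nat_lit 171))))) (.node (nat_lit 994) (.node (nat_lit 975) (.node (nat_lit 963) (.leaf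 (nat_lit 54)) (.leaf (nat_lit 486))) (.node (nat_lit 992) (.leaf (nat_lit 163)) (.leaf (nat_lit 54)))) (.node (nat_lit 1005) (.node (nat_lit 1004) (.leaf (nat_lit 171)) (.leaf (nat_lit 54))) (.node (nat_lit 1009) (.leaf (nat_lit 486)) (.node (nat_lit 1021) (.leaf (nat_lit 324)) (.leaf (nat_lit 11))))))) (.node (nat_lit 1161) (.node (nat_lit 1121) (.node (nat_lit 1084) (.node (nat_lit 1075) (.leaf (nat_lit 163)) (.leaf (nat_lit 166))) (.node (nat_lit 1099) (.leaf (nat_lit 324)) (.leaf (nat_lit 54)))) (.node (nat_lit 1128) (.node (nat_lit 1126) (.leaf (nat_lit 11)) (.leaf (nat_lit 27))) (.node (nat_lit 1149) (.leaf (nat_lit 486)) (.leaf (nat_lit 324))))) (.node (nat_lit 1224) (.node (nat_lit 1174) (.node (nat_lit 1167) (.leaf (nat_lit 11)) (.leaf (nat_lit 54))) (.node (nat_lit 1196) (.leaf (nat_lit 11)) (.leaf (nat_lit 0)))) (.node (nat_lit 1237) (.node (nat_lit 1234) (.leaf (nat_lit 171)) (.leaf (nat_lit 324))) (.node (nat_lit 1249) (.leaf (nat_lit 54)) (.node (nat_lit 1318)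 (.leaf (nat_lit 163)) (.leaf (nat_lit 324)))))))) (.node (nat_lit 1424) (.node (nat_lit 1360) (.node (nat_lit 1353) (.node (nat_lit 1341) (.node (nat_lit 1330) (.leaf (nat_lit 54)) (.leaf (nat_lit 171))) (.node (nat_lit 1351) (.leaf (nat_lit 163)) (.leaf (nat_lit 11)))) (.node (nat_lit 1356) (.node (nat_lit 1354) (.leaf (nat_lit 486)) (.leaf (nat_lit 0))) (.node (nat_lit 1357) (.leaf (nat_lit 27)) (.leaf (nat_lit 324))))) (.node (nat_lit 1389) (.node (nat_lit 1370) (.node (nat_lit 1367) (.leaf (nat_lit 171)) (.leaf (nat_lit 163))) (.node (nat_lit 1382) (.leaf (nat_lit 324)) (.leaf (nat_lit 54)))) (.node (nat_lit 1411) (.node (nat_lit 1391) (.leaf (nat_lit 163)) (.leaf (nat_lit 54))) (.node (nat_lit 1417) (.leaf (nat_lit 163)) (.node (nat_lit 1423) (.leaf (nat_lit 54)) (.leaf (nat_lit 486))))))) (.node (nat_lit 1497) (.node (nat_lit 1458) (.node (nat_lit 1437) (.node (nat_lit 1426) (.leaf (nat_lit 27)) (.leaf (nat_lit 0))) (.node (nat_lit 1452) (.leaf (nat_lit 163)) (.leaf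 (nat_lit 54)))) (.node (nat_lit 1470) (.node (nat_lit 1461) (.leaf (nat_lit 171)) (.leaf (nat_lit 54))) (.node (nat_lit 1478) (.leaf (nat_lit 324)) (.node (nat_lit 1491) (.leaf (nat_lit 54)) (.leaf (nat_lit 163)))))) (.node (nat_lit 1537) (.node (nat_lit 1510) (.node (nat_lit 1500) (.leaf (nat_lit 171)) (.leaf (nat_lit 324))) (.node (nat_lit 1525) (.leaf (nat_lit 171)) (.leaf (nat_lit 324)))) (.node (nat_lit 1578) (.node (nat_lit 1575) (.leaf (nat_lit 11)) (.leaf (nat_lit 171))) (.node (nat_lit 1587) (.leaf (nat_lit 351)) (.node (nat_lit 1614) (.leaf (nat_lit 324)) (.leaf (nat_lit 486)))))))))) (.node (nat_lit 2608) (.node (nat_lit 1990) (.node (nat_lit 1846) (.node (nat_lit 1752) (.node (nat_lit 1691) (.node (nat_lit 1674) (.node (nat_lit 1665) (.leaf (nat_lit 54)) (.leaf (nat_lit 324))) (.node (nat_lit 1677) (.leaf (nat_lit 162)) (.leaf (nat_lit 11)))) (.node (nat_lit 1727) (.node (nat_lit 1715) (.leaf (nat_lit 54)) (.leaf (nat_lit 324))) (.node (nat_lit 1744) (.leaf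 (nat_lit 171)) (.leaf (nat_lit 162))))) (.node (nat_lit 1821) (.node (nat_lit 1786) (.node (nat_lit 1761) (.leaf (nat_lit 11)) (.leaf (nat_lit 171))) (.node (nat_lit 1820) (.leaf (nat_lit 54)) (.leaf (nat_lit 171)))) (.node (nat_lit 1834) (.node (nat_lit 1827) (.leaf (nat_lit 324)) (.leaf (nat_lit 0))) (.node (nat_lit 1839) (.leaf (nat_lit 324)) (.node (nat_lit 1844) (.leaf (nat_lit 54)) (.leaf (nat_lit 0))))))) (.node (nat_lit 1914) (.node (nat_lit 1892) (.node (nat_lit 1870) (.node (nat_lit 1856) (.leaf (nat_lit 171)) (.leaf (nat_lit 54))) (.node (nat_lit 1873) (.leaf (nat_lit 0)) (.leaf (nat_lit 324)))) (.node (nat_lit 1901) (.node (nat_lit 1894) (.leaf (nat_lit 163)) (.leaf (nat_lit 54))) (.node (nat_lit 1907) (.leaf (nat_lit 324)) (.leaf (nat_lit 54))))) (.node (nat_lit 1961) (.node (nat_lit 1940) (.node (nat_lit 1920) (.leaf (nat_lit 27)) (.leaf (nat_lit 54))) (.node (nat_lit 1960) (.leaf (nat_lit 27)) (.leaf (nat_lit 324)))) (.node (nat_lit 1974) (.node (nat_lit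 1964) (.leaf (nat_lit 171)) (.leaf (nat_lit 54))) (.node (nat_lit 1977) (.leaf (nat_lit 171)) (.node (nat_lit 1986) (.leaf (nat_lit 54)) (.leaf (nat_lit 324)))))))) (.node (nat_lit 2231) (.node (nat_lit 2134) (.node (nat_lit 2091) (.node (nat_lit 2070) (.node (nat_lit 2013) (.leaf (nat_lit 54)) (.leaf (nat_lit 171))) (.node (nat_lit 2083) (.leaf (nat_lit 163)) (.leaf (nat_lit 351)))) (.node (nat_lit 2103) (.node (nat_lit 2093) (.leaf (nat_lit 171)) (.leaf (nat_lit 486))) (.node (nat_lit 2122) (.leaf (nat_lit 324)) (.leaf (nat_lit 54))))) (.node (nat_lit 2192) (.node (nat_lit 2153) (.node (nat_lit 2135) (.leaf (nat_lit 162)) (.leaf (nat_lit 54))) (.node (nat_lit 2163) (.leaf (nat_lit 324)) (.leaf (nat_lit 166)))) (.node (nat_lit 2205) (.node (nat_lit 2204) (.leaf (nat_lit 54)) (.leaf (nat_lit 162))) (.node (nat_lit 2210) (.leaf (nat_lit 54)) (.node (nat_lit 2218) (.leaf (nat_lit 11)) (.leaf (nat_lit 54))))))) (.node (nat_lit 2477) (.node (nat_lit 2289) (.node (nat_lit 2248)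 (.node (nat_lit 2243) (.leaf (nat_lit 324)) (.leaf (nat_lit 171))) (.node (nat_lit 2277) (.leaf (nat_lit 486)) (.leaf (nat_lit 171)))) (.node (nat_lit 2327) (.node (nat_lit 2318) (.leaf (nat_lit 54)) (.leaf (nat_lit 486))) (.node (nat_lit 2359) (.leaf (nat_lit 324)) (.node (nat_lit 2417) (.leaf (nat_lit 54)) (.leaf (nat_lit 324)))))) (.node (nat_lit 2560) (.node (nat_lit 2492) (.node (nat_lit 2480) (.leaf (nat_lit 171)) (.leaf (nat_lit 54))) (.node (nat_lit 2538) (.leaf (nat_lit 171)) (.leaf (nat_lit 54)))) (.node (nat_lit 2586) (.node (nat_lit 2573) (.leaf (nat_lit 163)) (.leaf (nat_lit 11))) (.node (nat_lit 2596) (.leaf (nat_lit 163)) (.node (nat_lit 2599) (.leaf (nat_lit 324)) (.leaf (nat_lit 351))))))))) (.node (nat_lit 4089) (.node (nat_lit 3070) (.node (nat_lit 2713) (.node (nat_lit 2669) (.node (nat_lit 2640) (.node (nat_lit 2632) (.leaf (nat_lit 54)) (.leaf (nat_lit 324))) (.node (nat_lit 2666) (.leaf (nat_lit 54)) (.leaf (nat_lit 351)))) (.node (nat_lit 2700) (.node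 (nat_lit 2695) (.leaf (nat_lit 324)) (.leaf (nat_lit 54))) (.node (nat_lit 2710) (.leaf (nat_lit 11)) (.leaf (nat_lit 54))))) (.node (nat_lit 2864) (.node (nat_lit 2726) (.node (nat_lit 2721) (.leaf (nat_lit 11)) (.leaf (nat_lit 54))) (.node (nat_lit 2843) (.leaf (nat_lit 11)) (.leaf (nat_lit 324)))) (.node (nat_lit 3029) (.node (nat_lit 2983) (.leaf (nat_lit 54)) (.leaf (nat_lit 324))) (.node (nat_lit 3041) (.leaf (nat_lit 162)) (.node (nat_lit 3063) (.leaf (nat_lit 54)) (.leaf (nat_lit 11))))))) (.node (nat_lit 3763) (.node (nat_lit 3203) (.node (nat_lit 3099) (.node (nat_lit 3089) (.leaf (nat_lit 324)) (.leaf (nat_lit 11))) (.node (nat_lit 3111) (.leaf (nat_lit 162)) (.leaf (nat_lit 54)))) (.node (nat_lit 3514) (.node (nat_lit 3377) (.leaf (nat_lit 11)) (.leaf (nat_lit 54))) (.node (nat_lit 3527) (.leaf (nat_lit 27)) (.leaf (nat_lit 166))))) (.node (nat_lit 4004) (.node (nat_lit 3781) (.node (nat_lit 3774) (.leaf (nat_lit 324)) (.leaf (nat_lit 166))) (.node (nat_lit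 3993) (.leaf (nat_lit 54)) (.leaf (nat_lit 166)))) (.node (nat_lit 4030) (.node (nat_lit 4019) (.leaf (nat_lit 163)) (.leaf (nat_lit 166))) (.node (nat_lit 4063) (.leaf (nat_lit 0)) (.node (nat_lit 4074) (.leaf (nat_lit 486)) (.leaf (nat_lit 54)))))))) (.node (nat_lit 4759) (.node (nat_lit 4486) (.node (nat_lit 4360) (.node (nat_lit 4266) (.node (nat_lit 4240) (.leaf (nat_lit 486)) (.leaf (nat_lit 163))) (.node (nat_lit 4279) (.leaf (nat_lit 4)) (.leaf (nat_lit 351)))) (.node (nat_lit 4397) (.node (nat_lit 4380) (.leaf (nat_lit 54)) (.leaf (nat_lit 163))) (.node (nat_lit 4467) (.leaf (nat_lit 486)) (.leaf (nat_lit 166))))) (.node (nat_lit 4626) (.node (nat_lit 4579) (.node (nat_lit 4509) (.leaf (nat_lit 324)) (.leaf (nat_lit 166))) (.node (nat_lit 4590) (.leaf (nat_lit 486)) (.leaf (nat_lit 54)))) (.node (nat_lit 4743) (.node (nat_lit 4641) (.leaf (nat_lit 324)) (.leaf (nat_lit 163))) (.node (nat_lit 4745) (.leaf (nat_lit 11)) (.node (nat_lit 4748) (.leaf (nat_lit 486))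 (.leaf (nat_lit 27))))))) (.node (nat_lit 4844) (.node (nat_lit 4800) (.node (nat_lit 4774) (.node (nat_lit 4770) (.leaf (nat_lit 163)) (.leaf (nat_lit 4))) (.node (nat_lit 4781) (.leaf (nat_lit 54)) (.leaf (nat_lit 163)))) (.node (nat_lit 4815) (.node (nat_lit 4803) (.leaf (nat_lit 54)) (.leaf (nat_lit 163))) (.node (nat_lit 4818) (.leaf (nat_lit 486)) (.node (nat_lit 4829) (.leaf (nat_lit 0)) (.leaf (nat_lit 163)))))) (.node (nat_lit 4970) (.node (nat_lit 4870) (.node (nat_lit 4856) (.leaf (nat_lit 54)) (.leaf (nat_lit 0))) (.node (nat_lit 4883) (.leaf (nat_lit 54)) (.leaf (nat_lit 163)))) (.node (nat_lit 4991) (.node (nat_lit 4983) (.leaf (nat_lit 351)) (.leaf (nat_lit 166))) (.node (nat_lit 4992) (.leaf (nat_lit 54)) (.node (nat_lit 4997) (.leaf (nat_lit 324)) (.leaf (nat_lit 513))))))))))) (.node (nat_lit 6522) (.node (nat_lit 5930) (.node (nat_lit 5495) (.node (nat_lit 5284) (.node (nat_lit 5219) (.node (nat_lit 5157) (.node (nat_lit 5132) (.node (nat_lit 5033) (.leaf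 (nat_lit 0)) (.leaf (nat_lit 163))) (.node (nat_lit 5144) (.leaf (nat_lit 171)) (.leaf (nat_lit 11)))) (.node (nat_lit 5209) (.node (nat_lit 5178) (.leaf (nat_lit 163)) (.leaf (nat_lit 54))) (.node (nat_lit 5212) (.leaf (nat_lit 486)) (.leaf (nat_lit 171))))) (.node (nat_lit 5248) (.node (nat_lit 5236) (.node (nat_lit 5226) (.leaf (nat_lit 0)) (.leaf (nat_lit 324))) (.node (nat_lit 5238) (.leaf (nat_lit 0)) (.leaf (nat_lit 171)))) (.node (nat_lit 5261) (.node (nat_lit 5249) (.leaf (nat_lit 54)) (.leaf (nat_lit 163))) (.node (nat_lit 5262) (.leaf (nat_lit 486)) (.node (nat_lit 5279) (.leaf (nat_lit 0)) (.leaf (nat_lit 486))))))) (.node (nat_lit 5360) (.node (nat_lit 5319) (.node (nat_lit 5297) (.node (nat_lit 5290) (.leaf (nat_lit 163)) (.leaf (nat_lit 54))) (.node (nat_lit 5306) (.leaf (nat_lit 163)) (.leaf (nat_lit 27)))) (.node (nat_lit 5332) (.node (nat_lit 5331) (.leaf (nat_lit 163)) (.leaf (nat_lit 486))) (.node (nat_lit 5352) (.leaf (nat_lit 27)) (.leaf (nat_lit 324)))))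 (.node (nat_lit 5466) (.node (nat_lit 5378) (.node (nat_lit 5366) (.leaf (nat_lit 54)) (.leaf (nat_lit 171))) (.node (nat_lit 5453) (.leaf (nat_lit 324)) (.leaf (nat_lit 171)))) (.node (nat_lit 5483) (.node (nat_lit 5479) (.leaf (nat_lit 0)) (.leaf (nat_lit 163))) (.node (nat_lit 5485) (.leaf (nat_lit 171)) (.node (nat_lit 5486) (.leaf (nat_lit 486)) (.leaf (nat_lit 351)))))))) (.node (nat_lit 5681) (.node (nat_lit 5555) (.node (nat_lit 5529) (.node (nat_lit 5522) (.node (nat_lit 5514) (.leaf (nat_lit 324)) (.leaf (nat_lit 54))) (.node (nat_lit 5526) (.leaf (nat_lit 27)) (.leaf (nat_lit 162)))) (.node (nat_lit 5540) (.node (nat_lit 5536) (.leaf (nat_lit 54)) (.leaf (nat_lit 27))) (.node (nat_lit 5549) (.leaf (nat_lit 54)) (.leaf (nat_lit 163))))) (.node (nat_lit 5599) (.node (nat_lit 5593) (.node (nat_lit 5584) (.leaf (nat_lit 166)) (.leaf (nat_lit 54))) (.node (nat_lit 5596) (.leaf (nat_lit 324)) (.leaf (nat_lit 162)))) (.node (nat_lit 5635) (.node (nat_lit 5623) (.leaf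 (nat_lit 54)) (.leaf (nat_lit 324))) (.node (nat_lit 5640) (.leaf (nat_lit 171)) (.node (nat_lit 5660) (.leaf (nat_lit 486)) (.leaf (nat_lit 11))))))) (.node (nat_lit 5785) (.node (nat_lit 5735) (.node (nat_lit 5728) (.node (nat_lit 5710) (.leaf (nat_lit 54)) (.leaf (nat_lit 486))) (.node (nat_lit 5729) (.leaf (nat_lit 171)) (.leaf (nat_lit 324)))) (.node (nat_lit 5752) (.node (nat_lit 5744) (.leaf (nat_lit 0)) (.leaf (nat_lit 54))) (.node (nat_lit 5764) (.leaf (nat_lit 0)) (.leaf (nat_lit 54))))) (.node (nat_lit 5822) (.node (nat_lit 5800) (.node (nat_lit 5795) (.leaf (nat_lit 166)) (.leaf (nat_lit 486))) (.node (nat_lit 5814) (.leaf (nat_lit 163)) (.leaf (nat_lit 54)))) (.node (nat_lit 5869) (.node (nat_lit 5868) (.leaf (nat_lit 27)) (.leaf (nat_lit 324))) (.node (nat_lit 5880) (.leaf (nat_lit 171)) (.node (nat_lit 5884) (.leaf (nat_lit 163)) (.leaf (nat_lit 171))))))))) (.node (nat_lit 6182) (.node (nat_lit 6031) (.node (nat_lit 5988) (.node (nat_lit 5961) (.node (nat_lit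 5949) (.node (nat_lit 5943) (.leaf (nat_lit 54)) (.leaf (nat_lit 171))) (.node (nat_lit 5950) (.leaf (nat_lit 486)) (.leaf (nat_lit 163)))) (.node (nat_lit 5978) (.node (nat_lit 5969) (.leaf (nat_lit 351)) (.leaf (nat_lit 171))) (.node (nat_lit 5982) (.leaf (nat_lit 163)) (.leaf (nat_lit 0))))) (.node (nat_lit 6001) (.node (nat_lit 5991) (.node (nat_lit 5990) (.leaf (nat_lit 324)) (.leaf (nat_lit 162))) (.node (nat_lit 6000) (.leaf (nat_lit 351)) (.leaf (nat_lit 54)))) (.node (nat_lit 6019) (.node (nat_lit 6017) (.leaf (nat_lit 486)) (.leaf (nat_lit 54))) (.node (nat_lit 6024) (.leaf (nat_lit 166)) (.node (nat_lit 6030) (.leaf (nat_lit 324)) (.leaf (nat_lit 54))))))) (.node (nat_lit 6071) (.node (nat_lit 6052) (.node (nat_lit 6042) (.node (nat_lit 6032) (.leaf (nat_lit 324)) (.leaf (nat_lit 54))) (.node (nat_lit 6043) (.leaf (nat_lit 162)) (.leaf (nat_lit 54)))) (.node (nat_lit 6060) (.node (nat_lit 6058) (.leaf (nat_lit 27)) (.leaf (nat_lit 351))) (.node (nat_lit 6061)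 (.leaf (nat_lit 162)) (.leaf (nat_lit 324))))) (.node (nat_lit 6100) (.node (nat_lit 6087) (.node (nat_lit 6083) (.leaf (nat_lit 166)) (.leaf (nat_lit 324))) (.node (nat_lit 6092) (.leaf (nat_lit 54)) (.leaf (nat_lit 11)))) (.node (nat_lit 6112) (.node (nat_lit 6109) (.leaf (nat_lit 54)) (.leaf (nat_lit 324))) (.node (nat_lit 6113) (.leaf (nat_lit 162)) (.node (nat_lit 6118) (.leaf (nat_lit 54)) (.leaf (nat_lit 11)))))))) (.node (nat_lit 6421) (.node (nat_lit 6288) (.node (nat_lit 6226) (.node (nat_lit 6206) (.node (nat_lit 6197) (.leaf (nat_lit 163)) (.leaf (nat_lit 54))) (.node (nat_lit 6218) (.leaf (nat_lit 166)) (.leaf (nat_lit 324)))) (.node (nat_lit 6247) (.node (nat_lit 6235) (.leaf (nat_lit 486)) (.leaf (nat_lit 324))) (.node (nat_lit 6276) (.leaf (nat_lit 54)) (.leaf (nat_lit 486))))) (.node (nat_lit 6330) (.node (nat_lit 6317) (.node (nat_lit 6301) (.leaf (nat_lit 351)) (.leaf (nat_lit 166))) (.node (nat_lit 6322) (.leaf (nat_lit 54)) (.leaf (nat_lit 11)))) (.node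 (nat_lit 6336) (.node (nat_lit 6333) (.leaf (nat_lit 54)) (.leaf (nat_lit 163))) (.node (nat_lit 6347) (.leaf (nat_lit 54)) (.node (nat_lit 6400) (.leaf (nat_lit 324)) (.leaf (nat_lit 171))))))) (.node (nat_lit 6477) (.node (nat_lit 6453) (.node (nat_lit 6451) (.node (nat_lit 6433) (.leaf (nat_lit 162)) (.leaf (nat_lit 54))) (.node (nat_lit 6452) (.leaf (nat_lit 351)) (.leaf (nat_lit 324)))) (.node (nat_lit 6462) (.node (nat_lit 6455) (.leaf (nat_lit 27)) (.leaf (nat_lit 11))) (.node (nat_lit 6465) (.leaf (nat_lit 324)) (.node (nat_lit 6468) (.leaf (nat_lit 486)) (.leaf (nat_lit 163)))))) (.node (nat_lit 6496) (.node (nat_lit 6487) (.node (nat_lit 6481) (.leaf (nat_lit 351)) (.leaf (nat_lit 11))) (.node (nat_lit 6491) (.leaf (nat_lit 171)) (.leaf (nat_lit 162)))) (.node (nat_lit 6506) (.node (nat_lit 6504) (.leaf (nat_lit 54)) (.leaf (nat_lit 324))) (.node (nat_lit 6516) (.leaf (nat_lit 162)) (.node (nat_lit 6521) (.leaf (nat_lit 54)) (.leaf (nat_lit 324)))))))))) (.node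 (nat_lit 7326) (.node (nat_lit 6838) (.node (nat_lit 6709) (.node (nat_lit 6603) (.node (nat_lit 6566) (.node (nat_lit 6535) (.node (nat_lit 6533) (.leaf (nat_lit 351)) (.leaf (nat_lit 54))) (.node (nat_lit 6540) (.leaf (nat_lit 166)) (.leaf (nat_lit 324)))) (.node (nat_lit 6576) (.node (nat_lit 6574) (.leaf (nat_lit 54)) (.leaf (nat_lit 351))) (.node (nat_lit 6595) (.leaf (nat_lit 162)) (.leaf (nat_lit 11))))) (.node (nat_lit 6685) (.node (nat_lit 6661) (.node (nat_lit 6608) (.leaf (nat_lit 54)) (.leaf (nat_lit 11))) (.node (nat_lit 6683) (.leaf (nat_lit 54)) (.leaf (nat_lit 163)))) (.node (nat_lit 6696) (.node (nat_lit 6695) (.leaf (nat_lit 11)) (.leaf (nat_lit 324))) (.node (nat_lit 6698) (.leaf (nat_lit 11)) (.node (nat_lit 6701) (.leaf (nat_lit 163)) (.leaf (nat_lit 27))))))) (.node (nat_lit 6792) (.node (nat_lit 6734) (.node (nat_lit 6725) (.node (nat_lit 6722) (.leaf (nat_lit 163)) (.leaf (nat_lit 166))) (.node (nat_lit 6730) (.leaf (nat_lit 27)) (.leaf (nat_lit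 54)))) (.node (nat_lit 6771) (.node (nat_lit 6742) (.leaf (nat_lit 324)) (.leaf (nat_lit 54))) (.node (nat_lit 6772) (.leaf (nat_lit 0)) (.leaf (nat_lit 54))))) (.node (nat_lit 6823) (.node (nat_lit 6804) (.node (nat_lit 6800) (.leaf (nat_lit 486)) (.leaf (nat_lit 54))) (.node (nat_lit 6812) (.leaf (nat_lit 351)) (.leaf (nat_lit 54)))) (.node (nat_lit 6833) (.node (nat_lit 6825) (.leaf (nat_lit 163)) (.leaf (nat_lit 11))) (.node (nat_lit 6835) (.leaf (nat_lit 54)) (.node (nat_lit 6836) (.leaf (nat_lit 324)) (.leaf (nat_lit 163)))))))) (.node (nat_lit 7038) (.node (nat_lit 6968) (.node (nat_lit 6852) (.node (nat_lit 6849) (.node (nat_lit 6839) (.leaf (nat_lit 11)) (.leaf (nat_lit 54))) (.node (nat_lit 6850) (.leaf (nat_lit 163)) (.leaf (nat_lit 324)))) (.node (nat_lit 6949) (.node (nat_lit 6937) (.leaf (nat_lit 54)) (.leaf (nat_lit 162))) (.node (nat_lit 6958) (.leaf (nat_lit 54)) (.leaf (nat_lit 486))))) (.node (nat_lit 6990) (.node (nat_lit 6978) (.node (nat_lit 6971)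 (.leaf (nat_lit 324)) (.leaf (nat_lit 11))) (.node (nat_lit 6987) (.leaf (nat_lit 324)) (.leaf (nat_lit 54)))) (.node (nat_lit 7007) (.node (nat_lit 6999) (.leaf (nat_lit 171)) (.leaf (nat_lit 54))) (.node (nat_lit 7012) (.leaf (nat_lit 162)) (.node (nat_lit 7028) (.leaf (nat_lit 54)) (.leaf (nat_lit 486))))))) (.node (nat_lit 7201) (.node (nat_lit 7123) (.node (nat_lit 7099) (.node (nat_lit 7057) (.leaf (nat_lit 351)) (.leaf (nat_lit 54))) (.node (nat_lit 7111) (.leaf (nat_lit 163)) (.leaf (nat_lit 11)))) (.node (nat_lit 7186) (.node (nat_lit 7164) (.leaf (nat_lit 166)) (.leaf (nat_lit 54))) (.node (nat_lit 7191) (.leaf (nat_lit 11)) (.node (nat_lit 7193) (.leaf (nat_lit 27)) (.leaf (nat_lit 486)))))) (.node (nat_lit 7243) (.node (nat_lit 7232) (.node (nat_lit 7217) (.leaf (nat_lit 11)) (.leaf (nat_lit 27))) (.node (nat_lit 7239) (.leaf (nat_lit 54)) (.leaf (nat_lit 11)))) (.node (nat_lit 7285) (.node (nat_lit 7261) (.leaf (nat_lit 54)) (.leaf (nat_lit 0))) (.node (nat_lit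 7287) (.leaf (nat_lit 54)) (.node (nat_lit 7302) (.leaf (nat_lit 0)) (.leaf (nat_lit 54))))))))) (.node (nat_lit 8475) (.node (nat_lit 7689) (.node (nat_lit 7482) (.node (nat_lit 7355) (.node (nat_lit 7341) (.node (nat_lit 7328) (.leaf (nat_lit 163)) (.leaf (nat_lit 54))) (.node (nat_lit 7352) (.leaf (nat_lit 11)) (.leaf (nat_lit 163)))) (.node (nat_lit 7435) (.node (nat_lit 7425) (.leaf (nat_lit 54)) (.leaf (nat_lit 171))) (.node (nat_lit 7474) (.leaf (nat_lit 324)) (.leaf (nat_lit 486))))) (.node (nat_lit 7573) (.node (nat_lit 7552) (.node (nat_lit 7544) (.leaf (nat_lit 54)) (.leaf (nat_lit 486))) (.node (nat_lit 7565) (.leaf (nat_lit 54)) (.leaf (nat_lit 324)))) (.node (nat_lit 7585) (.node (nat_lit 7575) (.leaf (nat_lit 54)) (.leaf (nat_lit 171))) (.node (nat_lit 7590) (.leaf (nat_lit 54)) (.node (nat_lit 7602) (.leaf (nat_lit 324)) (.leaf (nat_lit 11))))))) (.node (nat_lit 7941) (.node (nat_lit 7749) (.node (nat_lit 7739) (.node (nat_lit 7730) (.leaf (nat_lit 54))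 (.leaf (nat_lit 324))) (.node (nat_lit 7742) (.leaf (nat_lit 162)) (.leaf (nat_lit 11)))) (.node (nat_lit 7819) (.node (nat_lit 7809) (.leaf (nat_lit 54)) (.leaf (nat_lit 162))) (.node (nat_lit 7938) (.leaf (nat_lit 54)) (.leaf (nat_lit 324))))) (.node (nat_lit 8255) (.node (nat_lit 8078) (.node (nat_lit 7972) (.leaf (nat_lit 171)) (.leaf (nat_lit 54))) (.node (nat_lit 8081) (.leaf (nat_lit 171)) (.leaf (nat_lit 324)))) (.node (nat_lit 8383) (.node (nat_lit 8342) (.leaf (nat_lit 162)) (.leaf (nat_lit 171))) (.node (nat_lit 8389) (.leaf (nat_lit 54)) (.node (nat_lit 8402) (.leaf (nat_lit 351)) (.leaf (nat_lit 328)))))))) (.node (nat_lit 9645) (.node (nat_lit 9117) (.node (nat_lit 8871) (.node (nat_lit 8482) (.node (nat_lit 8478) (.leaf (nat_lit 54)) (.leaf (nat_lit 0))) (.node (nat_lit 8501) (.leaf (nat_lit 324)) (.leaf (nat_lit 54)))) (.node (nat_lit 8905) (.node (nat_lit 8899) (.leaf (nat_lit 163)) (.leaf (nat_lit 54))) (.node (nat_lit 8941) (.leaf (nat_lit 324)) (.leaf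 (nat_lit 163))))) (.node (nat_lit 9361) (.node (nat_lit 9335) (.node (nat_lit 9272) (.leaf (nat_lit 486)) (.leaf (nat_lit 163))) (.node (nat_lit 9342) (.leaf (nat_lit 171)) (.leaf (nat_lit 163)))) (.node (nat_lit 9444) (.node (nat_lit 9374) (.leaf (nat_lit 171)) (.leaf (nat_lit 0))) (.node (nat_lit 9475) (.leaf (nat_lit 27)) (.node (nat_lit 9623) (.leaf (nat_lit 324)) (.leaf (nat_lit 486))))))) (.node (nat_lit 9858) (.node (nat_lit 9739) (.node (nat_lit 9693) (.node (nat_lit 9652) (.leaf (nat_lit 490)) (.leaf (nat_lit 54))) (.node (nat_lit 9722) (.leaf (nat_lit 166)) (.leaf (nat_lit 54)))) (.node (nat_lit 9845) (.node (nat_lit 9843) (.leaf (nat_lit 324)) (.leaf (nat_lit 351))) (.node (nat_lit 9851) (.leaf (nat_lit 27)) (.node (nat_lit 9857) (.leaf (nat_lit 171)) (.leaf (nat_lit 486)))))) (.node (nat_lit 9913) (.node (nat_lit 9879) (.node (nat_lit 9869) (.leaf (nat_lit 163)) (.leaf (nat_lit 351))) (.node (nat_lit 9898) (.leaf (nat_lit 171)) (.leaf (nat_lit 162)))) (.node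 (nat_lit 9935) (.node (nat_lit 9927) (.leaf (nat_lit 324)) (.leaf (nat_lit 166))) (.node (nat_lit 9939) (.leaf (nat_lit 54)) (.node (nat_lit 9968) (.leaf (nat_lit 324)) (.leaf (nat_lit 162))))))))))))
noncomputable def P1_soc_t1 : ST := (.node (nat_lit 5847) (.node (nat_lit 3181) (.node (nat_lit 1797) (.node (nat_lit 427) (.node (nat_lit 208) (.node (nat_lit 184) (.leaf (nat_lit 324)) (.leaf (nat_lit 54))) (.node (nat_lit 409) (.leaf (nat_lit 324)) (.leaf (nat_lit 162)))) (.node (nat_lit 1312) (.node (nat_lit 1302) (.leaf (nat_lit 324)) (.leaf (nat_lit 162))) (.node (nat_lit 1572) (.leaf (nat_lit 324)) (.node (nat_lit 1576) (.leaf (nat_lit 162)) (.leaf (nat_lit 324)))))) (.node (nat_lit 2588) (.node (nat_lit 2424) (.node (nat_lit 1821) (.leaf (nat_lit 162)) (.leaf (nat_lit 324))) (.node (nat_lit 2435) (.leaf (nat_lit 0)) (.node (nat_lit 2569) (.leaf (nat_lit 324)) (.leaf (nat_lit 0))))) (.node (nat_lit 2858) (.node (nat_lit 2794) (.leaf (nat_lit 324)) (.leaf (nat_lit 0)))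 (.node (nat_lit 3064) (.leaf (nat_lit 324)) (.node (nat_lit 3083) (.leaf (nat_lit 0)) (.leaf (nat_lit 324))))))) (.node (nat_lit 4633) (.node (nat_lit 3676) (.node (nat_lit 3406) (.node (nat_lit 3203) (.leaf (nat_lit 0)) (.leaf (nat_lit 324))) (.node (nat_lit 3424) (.leaf (nat_lit 0)) (.leaf (nat_lit 324)))) (.node (nat_lit 4310) (.node (nat_lit 3700) (.leaf (nat_lit 0)) (.leaf (nat_lit 324))) (.node (nat_lit 4352) (.leaf (nat_lit 162)) (.node (nat_lit 4580) (.leaf (nat_lit 324)) (.leaf (nat_lit 9)))))) (.node (nat_lit 5558) (.node (nat_lit 4811) (.node (nat_lit 4805) (.leaf (nat_lit 324)) (.leaf (nat_lit 162))) (.node (nat_lit 5333) (.leaf (nat_lit 324)) (.node (nat_lit 5352) (.leaf (nat_lit 0)) (.leaf (nat_lit 324))))) (.node (nat_lit 5698) (.node (nat_lit 5622) (.leaf (nat_lit 0)) (.leaf (nat_lit 324))) (.node (nat_lit 5769) (.leaf (nat_lit 162)) (.node (nat_lit 5828) (.leaf (nat_lit 324)) (.leaf (nat_lit 0)))))))) (.node (nat_lit 8468) (.node (nat_lit 6810) (.node (nat_lit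 6039) (.node (nat_lit 5915) (.node (nat_lit 5900) (.leaf (nat_lit 324)) (.leaf (nat_lit 0))) (.node (nat_lit 5968) (.leaf (nat_lit 324)) (.leaf (nat_lit 162)))) (.node (nat_lit 6199) (.node (nat_lit 6193) (.leaf (nat_lit 324)) (.leaf (nat_lit 162))) (.node (nat_lit 6585) (.leaf (nat_lit 324)) (.node (nat_lit 6649) (.leaf (nat_lit 0)) (.leaf (nat_lit 324)))))) (.node (nat_lit 8035) (.node (nat_lit 7973) (.node (nat_lit 6828) (.leaf (nat_lit 0)) (.leaf (nat_lit 324))) (.node (nat_lit 7987) (.leaf (nat_lit 162)) (.node (nat_lit 7993) (.leaf (nat_lit 324)) (.leaf (nat_lit 162))))) (.node (nat_lit 8211) (.node (nat_lit 8198) (.leaf (nat_lit 324)) (.leaf (nat_lit 162))) (.node (nat_lit 8218) (.leaf (nat_lit 324)) (.node (nat_lit 8236) (.leaf (nat_lit 162)) (.leaf (nat_lit 324))))))) (.node (nat_lit 9646) (.node (nat_lit 8675) (.node (nat_lit 8512) (.node (nat_lit 8488) (.leaf (nat_lit 162)) (.leaf (nat_lit 54))) (.node (nat_lit 8664) (.leaf (nat_lit 324)) (.leaf (nat_lit 0))))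 (.node (nat_lit 9421) (.node (nat_lit 9381) (.leaf (nat_lit 324)) (.leaf (nat_lit 162))) (.node (nat_lit 9436) (.leaf (nat_lit 0)) (.node (nat_lit 9606) (.leaf (nat_lit 324)) (.leaf (nat_lit 162)))))) (.node (nat_lit 9931) (.node (nat_lit 9876) (.node (nat_lit 9664) (.leaf (nat_lit 0)) (.leaf (nat_lit 324))) (.node (nat_lit 9889) (.leaf (nat_lit 162)) (.node (nat_lit 9916) (.leaf (nat_lit 324)) (.leaf (nat_lit 0))))) (.node (nat_lit 10008) (.node (nat_lit 9984) (.leaf (nat_lit 324)) (.leaf (nat_lit 0))) (.node (nat_lit 10238) (.leaf (nat_lit 324)) (.node (nat_lit 10248) (.leaf (nat_lit 162)) (.leaf (nat_lit 324)))))))))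
noncomputable def P1_soc_F : Fm := (.all P1_L (.or (.qf (.eq (.v (nat_lit 0)) .one)) (.exF P1_L (fun cs => P1_soc_t1.find (Nat.mod (nth (nat_lit 0) cs (nat_lit 0)) (nat_lit 10324))) (.exF P1_L (fun cs => P1_soc_t0.find (Nat.mod (Nat.add (nth (nat_lit 0) cs (nat_lit 0)) (Nat.mul (nat_lit 7919) (nth (nat_lit 0) cs (nat_lit 1)))) (nat_lit 9973))) (.qf (.or (.eq (.mul (.mul (.v (nat_lit 0)) (.v (nat_lit 2))) (.inv (.v (nat_lit 0)))) (.v (nat_lit 9))) (.or (.eq (.mul (.mul (.v (nat_lit 0)) (.v (nat_lit 2))) (.inv (.v (nat_lit 0)))) (.mul (.v (nat_lit 5)) (.v (nat_lit 7)))) (.or (.eq (.mul (.mul (.v (nat_lit 0)) (.mul (.mul (.mul (.v (nat_lit 2)) (.v (nat_lit 1))) (.inv (.v (nat_lit 2)))) (.inv (.v (nat_lit 1))))) (.inv (.v (nat_lit 0)))) (.v (nat_lit 9))) (.or (.eq (.mul (.mul (.v (nat_lit 0)) (.mul (.mul (.mul (.v (nat_lit 2)) (.v (nat_lit 1))) (.inv (.v (nat_lit 2)))) (.inv (.v (nat_lit 1))))) (.inv (.v (nat_lit 0)))) (.mul (.v (nat_lit 5)) (.v (nat_lit 7)))) (.or (.eq (.mul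 (.mul (.mul (.mul (.mul (.mul (.v (nat_lit 2)) (.v (nat_lit 1))) (.inv (.v (nat_lit 2)))) (.inv (.v (nat_lit 1)))) (.v (nat_lit 0))) (.inv (.mul (.mul (.mul (.v (nat_lit 2)) (.v (nat_lit 1))) (.inv (.v (nat_lit 2)))) (.inv (.v (nat_lit 1)))))) (.inv (.v (nat_lit 0)))) (.v (nat_lit 9))) (.eq (.mul (.mul (.mul (.mul (.mul (.mul (.v (nat_lit 2)) (.v (nat_lit 1))) (.inv (.v (nat_lit 2)))) (.inv (.v (nat_lit 1)))) (.v (nat_lit 0))) (.inv (.mul (.mul (.mul (.v (nat_lit 2)) (.v (nat_lit 1))) (.inv (.v (nat_lit 2)))) (.inv (.v (nat_lit 1)))))) (.inv (.v (nat_lit 0)))) (.mul (.v (nat_lit 5)) (.v (nat_lit 7))))))))))))))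
theorem P1_soc_chk : Fm.chk P1_o P1_soc_F P1_cs = true := by decide +kernel
theorem P1_soc {G : Type*} [Group G] {R : ℕ → G → Prop} {t c a a_i b b_i e e_i x x_i : G} {H : Subgroup G}
    (M : Mdl P1_o P1_cs P1_L R [t, c, a, a_i, b, b_i, e, e_i, x, x_i] H) :
    ∀ y_ ∈ H, y_ = 1 ∨ (∃ q_ ∈ H, ∃ k_ ∈ H, k_ * y_ * k_⁻¹ = e ∨ k_ * y_ * k_⁻¹ = a * b ∨ k_ * ⁅y_, q_⁆ * k_⁻¹ = e ∨ k_ * ⁅y_, q_⁆ * k_⁻¹ = a * b ∨ ⁅⁅y_, q_⁆, k_⁆ = e ∨ ⁅⁅y_, q_⁆, k_⁆ = a * b) :=
  have h : ∀ y_, InL P1_o R P1_L y_ → y_ = 1 ∨ (Good P1_o R P1_L → prods P1_o P1_L P1_o.one ≠ [] → ∃ q_, InL P1_o R P1_L q_ ∧ (Good P1_o R P1_L → prods P1_o P1_L P1_o.one ≠ [] → ∃ k_, InL P1_o R P1_L k_ ∧ (k_ * y_ * k_⁻¹ = e ∨ k_ * y_ * k_⁻¹ = a * b ∨ k_ * ⁅y_, q_⁆ * k_⁻¹ = e ∨ k_ * ⁅y_, q_⁆ * k_⁻¹ = a * b ∨ ⁅⁅y_, q_⁆, k_⁆ = e ∨ ⁅⁅y_, q_⁆, k_⁆ = a * b))) :=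
    Fm.sound M.μ P1_soc_F P1_soc_chk M.reps
  (fun y_ h0 => (Or.imp (fun h1 => h1) (fun h1 => (Exists.imp (fun q_ h2 => ⟨M.H.iff.1 h2.1, (Exists.imp (fun k_ h3 => ⟨M.H.iff.1 h3.1, h3.2⟩) (h2.2 M.H.good M.H.ne))⟩) (h1 M.H.good M.H.ne))) (h y_ (M.H.iff.2 h0))))
theorem P1_mdl {G : Type*} [Group G] {t c a b e x : G}
    (h : B1 a b e x t)
    (k : C1 a b e x t c)
    (n1 : e ≠ 1) (n2 : a * b ≠ 1) :
    ∃ R, Mdl P1_o P1_cs P1_L R [t, c, a, a⁻¹, b, b⁻¹, e, e⁻¹, x, x⁻¹] (sp [t, c, a, a⁻¹, b, b⁻¹, e, e⁻¹, x, x⁻¹]) ∧ #(sp [t, c, a, a⁻¹, b, b⁻¹, e, e⁻¹, x, x⁻¹]) = 648 :=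
  mdl_of P1_P rfl (P1_r h k) (.v (nat_lit 6)) (.mul (.v (nat_lit 2)) (.v (nat_lit 4))) n1 n2
    fun _ ms _ M hl => match ms, M, (hl : ms.length = 10) with
      | [_, _, _, _, _, _, _, _, _, _], M, _ => P1_soc M
noncomputable def P1_lJ : List ℕ := [(nat_lit 0x876543210), (nat_lit 0x876543021), (nat_lit 0x876354210), (nat_lit 0x687543210), (nat_lit 0x876543102), (nat_lit 0x876354021), (nat_lit 0x687543021), (nat_lit 0x876435210), (nat_lit 0x687354210), (nat_lit 0x768543210), (nat_lit 0x876354102), (nat_lit 0x687543102), (nat_lit 0x876435021), (nat_lit 0x687354021), (nat_lit 0x768543021), (nat_lit 0x687435210), (nat_lit 0x768354210), (nat_lit 0x876435102), (nat_lit 0x687354102), (nat_lit 0x768543102), (nat_lit 0x687435021), (nat_lit 0x768354021), (nat_lit 0x768435210), (nat_lit 0x687435102), (nat_lit 0x768354102), (nat_lit 0x768435021), (nat_lit 0x768435102)]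
noncomputable def P1_lJ_W : List (List ℕ) := [[],
  [(nat_lit 0)],
  [(nat_lit 1)],
  [(nat_lit 2)],
  [(nat_lit 0), (nat_lit 0)],
  [(nat_lit 0), (nat_lit 1)],
  [(nat_lit 0), (nat_lit 2)],
  [(nat_lit 1), (nat_lit 1)],
  [(nat_lit 1), (nat_lit 2)],
  [(nat_lit 2), (nat_lit 2)],
  [(nat_lit 0), (nat_lit 0), (nat_lit 1)],
  [(nat_lit 0), (nat_lit 0), (nat_lit 2)],
  [(nat_lit 0), (nat_lit 1), (nat_lit 1)],
  [(nat_lit 0), (nat_lit 1), (nat_lit 2)],
  [(nat_lit 0), (nat_lit 2), (nat_lit 2)],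
  [(nat_lit 1), (nat_lit 1), (nat_lit 2)],
  [(nat_lit 1), (nat_lit 2), (nat_lit 2)],
  [(nat_lit 0), (nat_lit 0), (nat_lit 1), (nat_lit 1)],
  [(nat_lit 0), (nat_lit 0), (nat_lit 1), (nat_lit 2)],
  [(nat_lit 0), (nat_lit 0), (nat_lit 2), (nat_lit 2)],
  [(nat_lit 0), (nat_lit 1), (nat_lit 1), (nat_lit 2)],
  [(nat_lit 0), (nat_lit 1), (nat_lit 2), (nat_lit 2)],
  [(nat_lit 1), (nat_lit 1), (nat_lit 2), (nat_lit 2)],
  [(nat_lit 0), (nat_lit 0), (nat_lit 1), (nat_lit 1), (nat_lit 2)],
  [(nat_lit 0), (nat_lit 0), (nat_lit 1), (nat_lit 2), (nat_lit 2)],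
  [(nat_lit 0), (nat_lit 1), (nat_lit 1), (nat_lit 2), (nat_lit 2)],
  [(nat_lit 0), (nat_lit 0), (nat_lit 1), (nat_lit 1), (nat_lit 2), (nat_lit 2)]]
noncomputable def P1_lJ_h (c : ℕ) : ℕ := Nat.mod c (nat_lit 83)
theorem P1_lJ_E {G : Type*} [Group G] {R : ℕ → G → Prop} {t c a b e x : G} {H : Subgroup G}
    (M : Mdl P1_o P1_cs P1_L R [t, c, a, a⁻¹, b, b⁻¹, e, e⁻¹, x, x⁻¹] H) :
    EnumS R P1_lJ (sp [a, b, e]) :=
  enumS_sp M.μ.1 (M.reps.tms M.μ.1 [(.v (nat_lit 2)), (.v (nat_lit 4)), (.v (nat_lit 6))] (cs' := [(nat_lit 0x876543021), (nat_lit 0x876354210), (nat_lit 0x687543210)]) (by decide +kernel))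
    (Ws := P1_lJ_W) (by decide +kernel) (by decide +kernel)
theorem P1_lJ_c {G : Type*} [Group G] {R : ℕ → G → Prop} {t c a b e x : G} {H : Subgroup G}
    (M : Mdl P1_o P1_cs P1_L R [t, c, a, a⁻¹, b, b⁻¹, e, e⁻¹, x, x⁻¹] H) :
    #(sp [a, b, e]) = 27 :=
  (P1_lJ_E M).card M.μ (h := P1_lJ_h) (by decide +kernel)
noncomputable def P1_lJT : List ℕ := [(nat_lit 0x876543210), (nat_lit 0x876543021), (nat_lit 0x876354210), (nat_lit 0x687543210), (nat_lit 0x876210543), (nat_lit 0x876543102), (nat_lit 0x876354021), (nat_lit 0x687543021), (nat_lit 0x876210354), (nat_lit 0x876435210), (nat_lit 0x687354210), (nat_lit 0x876021543), (nat_lit 0x768543210), (nat_lit 0x687210543), (nat_lit 0x876354102), (nat_lit 0x687543102), (nat_lit 0x876210435), (nat_lit 0x876435021), (nat_lit 0x687354021), (nat_lit 0x876021354), (nat_lit 0x768543021), (nat_lit 0x687210354), (nat_lit 0x687435210), (nat_lit 0x876102543), (nat_lit 0x768354210), (nat_lit 0x687021543), (nat_lit 0x768210543), (nat_lit 0x876435102),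 (nat_lit 0x687354102), (nat_lit 0x876021435), (nat_lit 0x768543102), (nat_lit 0x687210435), (nat_lit 0x687435021), (nat_lit 0x876102354), (nat_lit 0x768354021), (nat_lit 0x687021354), (nat_lit 0x768210354), (nat_lit 0x768435210), (nat_lit 0x687102543), (nat_lit 0x768021543), (nat_lit 0x687435102), (nat_lit 0x876102435), (nat_lit 0x768354102), (nat_lit 0x687021435), (nat_lit 0x768210435), (nat_lit 0x768435021), (nat_lit 0x687102354), (nat_lit 0x768021354), (nat_lit 0x768102543), (nat_lit 0x768435102), (nat_lit 0x687102435), (nat_lit 0x768021435), (nat_lit 0x768102354), (nat_lit 0x768102435)]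
noncomputable def P1_lJT_W : List (List ℕ) := [[],
  [(nat_lit 0)],
  [(nat_lit 1)],
  [(nat_lit 2)],
  [(nat_lit 3)],
  [(nat_lit 0), (nat_lit 0)],
  [(nat_lit 0), (nat_lit 1)],
  [(nat_lit 0), (nat_lit 2)],
  [(nat_lit 0), (nat_lit 3)],
  [(nat_lit 1), (nat_lit 1)],
  [(nat_lit 1), (nat_lit 2)],
  [(nat_lit 1), (nat_lit 3)],
  [(nat_lit 2), (nat_lit 2)],
  [(nat_lit 2), (nat_lit 3)],
  [(nat_lit 0), (nat_lit 0), (nat_lit 1)],
  [(nat_lit 0), (nat_lit 0), (nat_lit 2)],
  [(nat_lit 0), (nat_lit 0), (nat_lit 3)],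
  [(nat_lit 0), (nat_lit 1), (nat_lit 1)],
  [(nat_lit 0), (nat_lit 1), (nat_lit 2)],
  [(nat_lit 0), (nat_lit 1), (nat_lit 3)],
  [(nat_lit 0), (nat_lit 2), (nat_lit 2)],
  [(nat_lit 0), (nat_lit 2), (nat_lit 3)],
  [(nat_lit 1), (nat_lit 1), (nat_lit 2)],
  [(nat_lit 1), (nat_lit 1), (nat_lit 3)],
  [(nat_lit 1), (nat_lit 2), (nat_lit 2)],
  [(nat_lit 1), (nat_lit 2), (nat_lit 3)],
  [(nat_lit 2), (nat_lit 2), (nat_lit 3)],
  [(nat_lit 0), (nat_lit 0), (nat_lit 1), (nat_lit 1)],
  [(nat_lit 0), (nat_lit 0), (nat_lit 1), (nat_lit 2)],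
  [(nat_lit 0), (nat_lit 0), (nat_lit 1), (nat_lit 3)],
  [(nat_lit 0), (nat_lit 0), (nat_lit 2), (nat_lit 2)],
  [(nat_lit 0), (nat_lit 0), (nat_lit 2), (nat_lit 3)],
  [(nat_lit 0), (nat_lit 1), (nat_lit 1), (nat_lit 2)],
  [(nat_lit 0), (nat_lit 1), (nat_lit 1), (nat_lit 3)],
  [(nat_lit 0), (nat_lit 1), (nat_lit 2), (nat_lit 2)],
  [(nat_lit 0), (nat_lit 1), (nat_lit 2), (nat_lit 3)],
  [(nat_lit 0), (nat_lit 2), (nat_lit 2), (nat_lit 3)],
  [(nat_lit 1), (nat_lit 1), (nat_lit 2), (nat_lit 2)],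
  [(nat_lit 1), (nat_lit 1), (nat_lit 2), (nat_lit 3)],
  [(nat_lit 1), (nat_lit 2), (nat_lit 2), (nat_lit 3)],
  [(nat_lit 0), (nat_lit 0), (nat_lit 1), (nat_lit 1), (nat_lit 2)],
  [(nat_lit 0), (nat_lit 0), (nat_lit 1), (nat_lit 1), (nat_lit 3)],
  [(nat_lit 0), (nat_lit 0), (nat_lit 1), (nat_lit 2), (nat_lit 2)],
  [(nat_lit 0), (nat_lit 0), (nat_lit 1), (nat_lit 2), (nat_lit 3)],
  [(nat_lit 0), (nat_lit 0), (nat_lit 2), (nat_lit 2), (nat_lit 3)],
  [(nat_lit 0), (nat_lit 1), (nat_lit 1), (nat_lit 2), (nat_lit 2)],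
  [(nat_lit 0), (nat_lit 1), (nat_lit 1), (nat_lit 2), (nat_lit 3)],
  [(nat_lit 0), (nat_lit 1), (nat_lit 2), (nat_lit 2), (nat_lit 3)],
  [(nat_lit 1), (nat_lit 1), (nat_lit 2), (nat_lit 2), (nat_lit 3)],
  [(nat_lit 0), (nat_lit 0), (nat_lit 1), (nat_lit 1), (nat_lit 2), (nat_lit 2)],
  [(nat_lit 0), (nat_lit 0), (nat_lit 1), (nat_lit 1), (nat_lit 2), (nat_lit 3)],
  [(nat_lit 0), (nat_lit 0), (nat_lit 1), (nat_lit 2), (nat_lit 2), (nat_lit 3)],
  [(nat_lit 0), (nat_lit 1), (nat_lit 1), (nat_lit 2), (nat_lit 2), (nat_lit 3)],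
  [(nat_lit 0), (nat_lit 0), (nat_lit 1), (nat_lit 1), (nat_lit 2), (nat_lit 2), (nat_lit 3)]]
noncomputable def P1_lJT_h (c : ℕ) : ℕ := Nat.mod c (nat_lit 152)
theorem P1_lJT_E {G : Type*} [Group G] {R : ℕ → G → Prop} {t c a b e x : G} {H : Subgroup G}
    (M : Mdl P1_o P1_cs P1_L R [t, c, a, a⁻¹, b, b⁻¹, e, e⁻¹, x, x⁻¹] H) :
    EnumS R P1_lJT (sp [a, b, e, t]) :=
  enumS_sp M.μ.1 (M.reps.tms M.μ.1 [(.v (nat_lit 2)), (.v (nat_lit 4)), (.v (nat_lit 6)), (.v (nat_lit 0))] (cs' := [(nat_lit 0x876543021), (nat_lit 0x876354210), (nat_lit 0x687543210), (nat_lit 0x876210543)]) (by decide +kernel))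
    (Ws := P1_lJT_W) (by decide +kernel) (by decide +kernel)
theorem P1_lJT_c {G : Type*} [Group G] {R : ℕ → G → Prop} {t c a b e x : G} {H : Subgroup G}
    (M : Mdl P1_o P1_cs P1_L R [t, c, a, a⁻¹, b, b⁻¹, e, e⁻¹, x, x⁻¹] H) :
    #(sp [a, b, e, t]) = 54 :=
  (P1_lJT_E M).card M.μ (h := P1_lJT_h) (by decide +kernel)
noncomputable def P1_lY : List ℕ := [(nat_lit 0x876543210), (nat_lit 0x876435021), (nat_lit 0x876354102)]
noncomputable def P1_lY_W : List (List ℕ) := [[],
  [(nat_lit 0)],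
  [(nat_lit 0), (nat_lit 0)]]
noncomputable def P1_lY_h (c : ℕ) : ℕ := Nat.mod c (nat_lit 4)
theorem P1_lY_E {G : Type*} [Group G] {R : ℕ → G → Prop} {t c a b e x : G} {H : Subgroup G}
    (M : Mdl P1_o P1_cs P1_L R [t, c, a, a⁻¹, b, b⁻¹, e, e⁻¹, x, x⁻¹] H) :
    EnumS R P1_lY (sp [a * b⁻¹]) :=
  enumS_sp M.μ.1 (M.reps.tms M.μ.1 [(.mul (.v (nat_lit 2)) (.inv (.v (nat_lit 4))))] (cs' := [(nat_lit 0x876435021)]) (by decide +kernel))
    (Ws := P1_lY_W) (by decide +kernel) (by decide +kernel)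
theorem P1_lY_c {G : Type*} [Group G] {R : ℕ → G → Prop} {t c a b e x : G} {H : Subgroup G}
    (M : Mdl P1_o P1_cs P1_L R [t, c, a, a⁻¹, b, b⁻¹, e, e⁻¹, x, x⁻¹] H) :
    #(sp [a * b⁻¹]) = 3 :=
  (P1_lY_E M).card M.μ (h := P1_lY_h) (by decide +kernel)
noncomputable def P1_lW : List ℕ := [(nat_lit 0x876543210), (nat_lit 0x876354021), (nat_lit 0x876435102)]
noncomputable def P1_lW_W : List (List ℕ) := [[],
  [(nat_lit 0)],
  [(nat_lit 0), (nat_lit 0)]]
noncomputable def P1_lW_h (c : ℕ) : ℕ := Nat.mod c (nat_lit 4)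
theorem P1_lW_E {G : Type*} [Group G] {R : ℕ → G → Prop} {t c a b e x : G} {H : Subgroup G}
    (M : Mdl P1_o P1_cs P1_L R [t, c, a, a⁻¹, b, b⁻¹, e, e⁻¹, x, x⁻¹] H) :
    EnumS R P1_lW (sp [a * b]) :=
  enumS_sp M.μ.1 (M.reps.tms M.μ.1 [(.mul (.v (nat_lit 2)) (.v (nat_lit 4)))] (cs' := [(nat_lit 0x876354021)]) (by decide +kernel))
    (Ws := P1_lW_W) (by decide +kernel) (by decide +kernel)
theorem P1_lW_c {G : Type*} [Group G] {R : ℕ → G → Prop} {t c a b e x : G} {H : Subgroup G}
    (M : Mdl P1_o P1_cs P1_L R [t, c, a, a⁻¹, b, b⁻¹, e, e⁻¹, x, x⁻¹] H) :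
    #(sp [a * b]) = 3 :=
  (P1_lW_E M).card M.μ (h := P1_lW_h) (by decide +kernel)
noncomputable def P1_lE : List ℕ := [(nat_lit 0x876543210), (nat_lit 0x876354021), (nat_lit 0x687543210), (nat_lit 0x876435102), (nat_lit 0x687354021), (nat_lit 0x768543210), (nat_lit 0x687435102), (nat_lit 0x768354021), (nat_lit 0x768435102)]
noncomputable def P1_lE_W : List (List ℕ) := [[],
  [(nat_lit 0)],
  [(nat_lit 1)],
  [(nat_lit 0), (nat_lit 0)],
  [(nat_lit 0), (nat_lit 1)],
  [(nat_lit 1), (nat_lit 1)],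
  [(nat_lit 0), (nat_lit 0), (nat_lit 1)],
  [(nat_lit 0), (nat_lit 1), (nat_lit 1)],
  [(nat_lit 0), (nat_lit 0), (nat_lit 1), (nat_lit 1)]]
noncomputable def P1_lE_h (c : ℕ) : ℕ := Nat.mod c (nat_lit 13)
theorem P1_lE_E {G : Type*} [Group G] {R : ℕ → G → Prop} {t c a b e x : G} {H : Subgroup G}
    (M : Mdl P1_o P1_cs P1_L R [t, c, a, a⁻¹, b, b⁻¹, e, e⁻¹, x, x⁻¹] H) :
    EnumS R P1_lE (sp [a * b, e]) :=
  enumS_sp M.μ.1 (M.reps.tms M.μ.1 [(.mul (.v (nat_lit 2)) (.v (nat_lit 4))), (.v (nat_lit 6))] (cs' := [(nat_lit 0x876354021), (nat_lit 0x687543210)]) (by decide +kernel))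
    (Ws := P1_lE_W) (by decide +kernel) (by decide +kernel)
theorem P1_lE_c {G : Type*} [Group G] {R : ℕ → G → Prop} {t c a b e x : G} {H : Subgroup G}
    (M : Mdl P1_o P1_cs P1_L R [t, c, a, a⁻¹, b, b⁻¹, e, e⁻¹, x, x⁻¹] H) :
    #(sp [a * b, e]) = 9 :=
  (P1_lE_E M).card M.μ (h := P1_lE_h) (by decide +kernel)
noncomputable def P1_lF : List ℕ := [(nat_lit 0x876543210), (nat_lit 0x876354021), (nat_lit 0x687543210), (nat_lit 0x876210543), (nat_lit 0x876453120), (nat_lit 0x876435102), (nat_lit 0x687354021), (nat_lit 0x876021354), (nat_lit 0x876345012), (nat_lit 0x768543210), (nat_lit 0x687210543), (nat_lit 0x687453120), (nat_lit 0x876120453), (nat_lit 0x876534201), (nat_lit 0x687435102), (nat_lit 0x876102435), (nat_lit 0x768354021), (nat_lit 0x687021354), (nat_lit 0x687345012), (nat_lit 0x876012345), (nat_lit 0x768210543), (nat_lit 0x768453120), (nat_lit 0x687120453), (nat_lit 0x687534201), (nat_lit 0x876201534), (nat_lit 0x768435102), (nat_lit 0x687102435), (nat_lit 0x768021354),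 (nat_lit 0x768345012), (nat_lit 0x687012345), (nat_lit 0x768120453), (nat_lit 0x768534201), (nat_lit 0x687201534), (nat_lit 0x768102435), (nat_lit 0x768012345), (nat_lit 0x768201534)]
noncomputable def P1_lF_W : List (List ℕ) := [[],
  [(nat_lit 0)],
  [(nat_lit 1)],
  [(nat_lit 2)],
  [(nat_lit 3)],
  [(nat_lit 0), (nat_lit 0)],
  [(nat_lit 0), (nat_lit 1)],
  [(nat_lit 0), (nat_lit 2)],
  [(nat_lit 0), (nat_lit 3)],
  [(nat_lit 1), (nat_lit 1)],
  [(nat_lit 1), (nat_lit 2)],
  [(nat_lit 1), (nat_lit 3)],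
  [(nat_lit 2), (nat_lit 3)],
  [(nat_lit 3), (nat_lit 0)],
  [(nat_lit 0), (nat_lit 0), (nat_lit 1)],
  [(nat_lit 0), (nat_lit 0), (nat_lit 2)],
  [(nat_lit 0), (nat_lit 1), (nat_lit 1)],
  [(nat_lit 0), (nat_lit 1), (nat_lit 2)],
  [(nat_lit 0), (nat_lit 1), (nat_lit 3)],
  [(nat_lit 0), (nat_lit 2), (nat_lit 3)],
  [(nat_lit 1), (nat_lit 1), (nat_lit 2)],
  [(nat_lit 1), (nat_lit 1), (nat_lit 3)],
  [(nat_lit 1), (nat_lit 2), (nat_lit 3)],
  [(nat_lit 1), (nat_lit 3), (nat_lit 0)],
  [(nat_lit 2), (nat_lit 3), (nat_lit 0)],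
  [(nat_lit 0), (nat_lit 0), (nat_lit 1), (nat_lit 1)],
  [(nat_lit 0), (nat_lit 0), (nat_lit 1), (nat_lit 2)],
  [(nat_lit 0), (nat_lit 1), (nat_lit 1), (nat_lit 2)],
  [(nat_lit 0), (nat_lit 1), (nat_lit 1), (nat_lit 3)],
  [(nat_lit 0), (nat_lit 1), (nat_lit 2), (nat_lit 3)],
  [(nat_lit 1), (nat_lit 1), (nat_lit 2), (nat_lit 3)],
  [(nat_lit 1), (nat_lit 1), (nat_lit 3), (nat_lit 0)],
  [(nat_lit 1), (nat_lit 2), (nat_lit 3), (nat_lit 0)],
  [(nat_lit 0), (nat_lit 0), (nat_lit 1), (nat_lit 1), (nat_lit 2)],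
  [(nat_lit 0), (nat_lit 1), (nat_lit 1), (nat_lit 2), (nat_lit 3)],
  [(nat_lit 1), (nat_lit 1), (nat_lit 2), (nat_lit 3), (nat_lit 0)]]
noncomputable def P1_lF_h (c : ℕ) : ℕ := Nat.mod c (nat_lit 134)
theorem P1_lF_E {G : Type*} [Group G] {R : ℕ → G → Prop} {t c a b e x : G} {H : Subgroup G}
    (M : Mdl P1_o P1_cs P1_L R [t, c, a, a⁻¹, b, b⁻¹, e, e⁻¹, x, x⁻¹] H) :
    EnumS R P1_lF (sp [a * b, e, t, c]) :=
  enumS_sp M.μ.1 (M.reps.tms M.μ.1 [(.mul (.v (nat_lit 2)) (.v (nat_lit 4))), (.v (nat_lit 6)), (.v (nat_lit 0)), (.v (nat_lit 1))] (cs' := [(nat_lit 0x876354021), (nat_lit 0x687543210), (nat_lit 0x876210543), (nat_lit 0x876453120)]) (by decide +kernel))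
    (Ws := P1_lF_W) (by decide +kernel) (by decide +kernel)
theorem P1_lF_c {G : Type*} [Group G] {R : ℕ → G → Prop} {t c a b e x : G} {H : Subgroup G}
    (M : Mdl P1_o P1_cs P1_L R [t, c, a, a⁻¹, b, b⁻¹, e, e⁻¹, x, x⁻¹] H) :
    #(sp [a * b, e, t, c]) = 36 :=
  (P1_lF_E M).card M.μ (h := P1_lF_h) (by decide +kernel)
noncomputable def P1_lB : List ℕ := [(nat_lit 0x876543210), (nat_lit 0x876543021), (nat_lit 0x876354210), (nat_lit 0x687543210), (nat_lit 0x210876543), (nat_lit 0x876210543), (nat_lit 0x876543102), (nat_lit 0x876354021), (nat_lit 0x687543021), (nat_lit 0x210876354), (nat_lit 0x876210354), (nat_lit 0x876435210), (nat_lit 0x687354210), (nat_lit 0x210687543), (nat_lit 0x876021543), (nat_lit 0x768543210), (nat_lit 0x21876543), (nat_lit 0x687210543), (nat_lit 0x543210876), (nat_lit 0x543876210), (nat_lit 0x210543876), (nat_lit 0x876354102), (nat_lit 0x687543102), (nat_lit 0x210876435), (nat_lit 0x876210435), (nat_lit 0x876435021), (nat_lit 0x687354021), (nat_lit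 0x210687354), (nat_lit 0x876021354), (nat_lit 0x768543021), (nat_lit 0x21876354), (nat_lit 0x687210354), (nat_lit 0x543210687), (nat_lit 0x543876021), (nat_lit 0x210543687), (nat_lit 0x687435210), (nat_lit 0x210768543), (nat_lit 0x876102543), (nat_lit 0x768354210), (nat_lit 0x21687543), (nat_lit 0x687021543), (nat_lit 0x543021876), (nat_lit 0x543687210), (nat_lit 0x210354876), (nat_lit 0x102876543), (nat_lit 0x768210543), (nat_lit 0x354210876), (nat_lit 0x354876210), (nat_lit 0x21543876), (nat_lit 0x876435102), (nat_lit 0x687354102), (nat_lit 0x210687435), (nat_lit 0x876021435), (nat_lit 0x768543102), (nat_lit 0x21876435), (nat_lit 0x687210435), (nat_lit 0x543210768), (nat_lit 0x543876102), (nat_lit 0x210543768), (nat_lit 0x687435021), (nat_lit 0x210768354), (nat_lit 0x876102354), (nat_lit 0x768354021), (nat_lit 0x21687354), (nat_lit 0x687021354), (nat_lit 0x543021687), (nat_lit 0x543687021), (nat_lit 0x210354687), (nat_lit 0x102876354), (nat_lit 0x768210354), (nat_lit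 0x354210687), (nat_lit 0x354876021), (nat_lit 0x21543687), (nat_lit 0x768435210), (nat_lit 0x21768543), (nat_lit 0x687102543), (nat_lit 0x543102876), (nat_lit 0x543768210), (nat_lit 0x210435876), (nat_lit 0x102687543), (nat_lit 0x768021543), (nat_lit 0x354021876), (nat_lit 0x354687210), (nat_lit 0x21354876), (nat_lit 0x435210876), (nat_lit 0x435876210), (nat_lit 0x102543876), (nat_lit 0x687435102), (nat_lit 0x210768435), (nat_lit 0x876102435), (nat_lit 0x768354102), (nat_lit 0x21687435), (nat_lit 0x687021435), (nat_lit 0x543021768), (nat_lit 0x543687102), (nat_lit 0x210354768), (nat_lit 0x102876435), (nat_lit 0x768210435), (nat_lit 0x354210768), (nat_lit 0x354876102), (nat_lit 0x21543768), (nat_lit 0x768435021), (nat_lit 0x21768354), (nat_lit 0x687102354), (nat_lit 0x543102687), (nat_lit 0x543768021), (nat_lit 0x210435687), (nat_lit 0x102687354), (nat_lit 0x768021354), (nat_lit 0x354021687), (nat_lit 0x354687021), (nat_lit 0x21354687), (nat_lit 0x435210687), (nat_lit 0x435876021),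 (nat_lit 0x102543687), (nat_lit 0x102768543), (nat_lit 0x768102543), (nat_lit 0x354102876), (nat_lit 0x354768210), (nat_lit 0x21435876), (nat_lit 0x435021876), (nat_lit 0x435687210), (nat_lit 0x102354876), (nat_lit 0x768435102), (nat_lit 0x21768435), (nat_lit 0x687102435), (nat_lit 0x543102768), (nat_lit 0x543768102), (nat_lit 0x210435768), (nat_lit 0x102687435), (nat_lit 0x768021435), (nat_lit 0x354021768), (nat_lit 0x354687102), (nat_lit 0x21354768), (nat_lit 0x435210768), (nat_lit 0x435876102), (nat_lit 0x102543768), (nat_lit 0x102768354), (nat_lit 0x768102354), (nat_lit 0x354102687), (nat_lit 0x354768021), (nat_lit 0x21435687), (nat_lit 0x435021687), (nat_lit 0x435687021), (nat_lit 0x102354687), (nat_lit 0x435102876), (nat_lit 0x435768210), (nat_lit 0x102435876), (nat_lit 0x102768435), (nat_lit 0x768102435), (nat_lit 0x354102768), (nat_lit 0x354768102), (nat_lit 0x21435768), (nat_lit 0x435021768), (nat_lit 0x435687102), (nat_lit 0x102354768), (nat_lit 0x435102687),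 (nat_lit 0x435768021), (nat_lit 0x102435687), (nat_lit 0x435102768), (nat_lit 0x435768102), (nat_lit 0x102435768)]
noncomputable def P1_lB_W : List (List ℕ) := [[],
  [(nat_lit 0)],
  [(nat_lit 1)],
  [(nat_lit 2)],
  [(nat_lit 3)],
  [(nat_lit 4)],
  [(nat_lit 0), (nat_lit 0)],
  [(nat_lit 0), (nat_lit 1)],
  [(nat_lit 0), (nat_lit 2)],
  [(nat_lit 0), (nat_lit 3)],
  [(nat_lit 0), (nat_lit 4)],
  [(nat_lit 1), (nat_lit 1)],
  [(nat_lit 1), (nat_lit 2)],
  [(nat_lit 1), (nat_lit 3)],
  [(nat_lit 1), (nat_lit 4)],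
  [(nat_lit 2), (nat_lit 2)],
  [(nat_lit 2), (nat_lit 3)],
  [(nat_lit 2), (nat_lit 4)],
  [(nat_lit 3), (nat_lit 3)],
  [(nat_lit 3), (nat_lit 4)],
  [(nat_lit 4), (nat_lit 3)],
  [(nat_lit 0), (nat_lit 0), (nat_lit 1)],
  [(nat_lit 0), (nat_lit 0), (nat_lit 2)],
  [(nat_lit 0), (nat_lit 0), (nat_lit 3)],
  [(nat_lit 0), (nat_lit 0), (nat_lit 4)],
  [(nat_lit 0), (nat_lit 1), (nat_lit 1)],
  [(nat_lit 0), (nat_lit 1), (nat_lit 2)],
  [(nat_lit 0), (nat_lit 1), (nat_lit 3)],
  [(nat_lit 0), (nat_lit 1), (nat_lit 4)],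
  [(nat_lit 0), (nat_lit 2), (nat_lit 2)],
  [(nat_lit 0), (nat_lit 2), (nat_lit 3)],
  [(nat_lit 0), (nat_lit 2), (nat_lit 4)],
  [(nat_lit 0), (nat_lit 3), (nat_lit 3)],
  [(nat_lit 0), (nat_lit 3), (nat_lit 4)],
  [(nat_lit 0), (nat_lit 4), (nat_lit 3)],
  [(nat_lit 1), (nat_lit 1), (nat_lit 2)],
  [(nat_lit 1), (nat_lit 1), (nat_lit 3)],
  [(nat_lit 1), (nat_lit 1), (nat_lit 4)],
  [(nat_lit 1), (nat_lit 2), (nat_lit 2)],
  [(nat_lit 1), (nat_lit 2), (nat_lit 3)],
  [(nat_lit 1), (nat_lit 2), (nat_lit 4)],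
  [(nat_lit 1), (nat_lit 3), (nat_lit 3)],
  [(nat_lit 1), (nat_lit 3), (nat_lit 4)],
  [(nat_lit 1), (nat_lit 4), (nat_lit 3)],
  [(nat_lit 2), (nat_lit 2), (nat_lit 3)],
  [(nat_lit 2), (nat_lit 2), (nat_lit 4)],
  [(nat_lit 2), (nat_lit 3), (nat_lit 3)],
  [(nat_lit 2), (nat_lit 3), (nat_lit 4)],
  [(nat_lit 2), (nat_lit 4), (nat_lit 3)],
  [(nat_lit 0), (nat_lit 0), (nat_lit 1), (nat_lit 1)],
  [(nat_lit 0), (nat_lit 0), (nat_lit 1), (nat_lit 2)],
  [(nat_lit 0), (nat_lit 0), (nat_lit 1), (nat_lit 3)],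
  [(nat_lit 0), (nat_lit 0), (nat_lit 1), (nat_lit 4)],
  [(nat_lit 0), (nat_lit 0), (nat_lit 2), (nat_lit 2)],
  [(nat_lit 0), (nat_lit 0), (nat_lit 2), (nat_lit 3)],
  [(nat_lit 0), (nat_lit 0), (nat_lit 2), (nat_lit 4)],
  [(nat_lit 0), (nat_lit 0), (nat_lit 3), (nat_lit 3)],
  [(nat_lit 0), (nat_lit 0), (nat_lit 3), (nat_lit 4)],
  [(nat_lit 0), (nat_lit 0), (nat_lit 4), (nat_lit 3)],
  [(nat_lit 0), (nat_lit 1), (nat_lit 1), (nat_lit 2)],
  [(nat_lit 0), (nat_lit 1), (nat_lit 1), (nat_lit 3)],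
  [(nat_lit 0), (nat_lit 1), (nat_lit 1), (nat_lit 4)],
  [(nat_lit 0), (nat_lit 1), (nat_lit 2), (nat_lit 2)],
  [(nat_lit 0), (nat_lit 1), (nat_lit 2), (nat_lit 3)],
  [(nat_lit 0), (nat_lit 1), (nat_lit 2), (nat_lit 4)],
  [(nat_lit 0), (nat_lit 1), (nat_lit 3), (nat_lit 3)],
  [(nat_lit 0), (nat_lit 1), (nat_lit 3), (nat_lit 4)],
  [(nat_lit 0), (nat_lit 1), (nat_lit 4), (nat_lit 3)],
  [(nat_lit 0), (nat_lit 2), (nat_lit 2), (nat_lit 3)],
  [(nat_lit 0), (nat_lit 2), (nat_lit 2), (nat_lit 4)],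
  [(nat_lit 0), (nat_lit 2), (nat_lit 3), (nat_lit 3)],
  [(nat_lit 0), (nat_lit 2), (nat_lit 3), (nat_lit 4)],
  [(nat_lit 0), (nat_lit 2), (nat_lit 4), (nat_lit 3)],
  [(nat_lit 1), (nat_lit 1), (nat_lit 2), (nat_lit 2)],
  [(nat_lit 1), (nat_lit 1), (nat_lit 2), (nat_lit 3)],
  [(nat_lit 1), (nat_lit 1), (nat_lit 2), (nat_lit 4)],
  [(nat_lit 1), (nat_lit 1), (nat_lit 3), (nat_lit 3)],
  [(nat_lit 1), (nat_lit 1), (nat_lit 3), (nat_lit 4)],
  [(nat_lit 1), (nat_lit 1), (nat_lit 4), (nat_lit 3)],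
  [(nat_lit 1), (nat_lit 2), (nat_lit 2), (nat_lit 3)],
  [(nat_lit 1), (nat_lit 2), (nat_lit 2), (nat_lit 4)],
  [(nat_lit 1), (nat_lit 2), (nat_lit 3), (nat_lit 3)],
  [(nat_lit 1), (nat_lit 2), (nat_lit 3), (nat_lit 4)],
  [(nat_lit 1), (nat_lit 2), (nat_lit 4), (nat_lit 3)],
  [(nat_lit 2), (nat_lit 2), (nat_lit 3), (nat_lit 3)],
  [(nat_lit 2), (nat_lit 2), (nat_lit 3), (nat_lit 4)],
  [(nat_lit 2), (nat_lit 2), (nat_lit 4), (nat_lit 3)],
  [(nat_lit 0), (nat_lit 0), (nat_lit 1), (nat_lit 1), (nat_lit 2)],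
  [(nat_lit 0), (nat_lit 0), (nat_lit 1), (nat_lit 1), (nat_lit 3)],
  [(nat_lit 0), (nat_lit 0), (nat_lit 1), (nat_lit 1), (nat_lit 4)],
  [(nat_lit 0), (nat_lit 0), (nat_lit 1), (nat_lit 2), (nat_lit 2)],
  [(nat_lit 0), (nat_lit 0), (nat_lit 1), (nat_lit 2), (nat_lit 3)],
  [(nat_lit 0), (nat_lit 0), (nat_lit 1), (nat_lit 2), (nat_lit 4)],
  [(nat_lit 0), (nat_lit 0), (nat_lit 1), (nat_lit 3), (nat_lit 3)],
  [(nat_lit 0), (nat_lit 0), (nat_lit 1), (nat_lit 3), (nat_lit 4)],
  [(nat_lit 0), (nat_lit 0), (nat_lit 1), (nat_lit 4), (nat_lit 3)],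
  [(nat_lit 0), (nat_lit 0), (nat_lit 2), (nat_lit 2), (nat_lit 3)],
  [(nat_lit 0), (nat_lit 0), (nat_lit 2), (nat_lit 2), (nat_lit 4)],
  [(nat_lit 0), (nat_lit 0), (nat_lit 2), (nat_lit 3), (nat_lit 3)],
  [(nat_lit 0), (nat_lit 0), (nat_lit 2), (nat_lit 3), (nat_lit 4)],
  [(nat_lit 0), (nat_lit 0), (nat_lit 2), (nat_lit 4), (nat_lit 3)],
  [(nat_lit 0), (nat_lit 1), (nat_lit 1), (nat_lit 2), (nat_lit 2)],
  [(nat_lit 0), (nat_lit 1), (nat_lit 1), (nat_lit 2), (nat_lit 3)],
  [(nat_lit 0), (nat_lit 1), (nat_lit 1), (nat_lit 2), (nat_lit 4)],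
  [(nat_lit 0), (nat_lit 1), (nat_lit 1), (nat_lit 3), (nat_lit 3)],
  [(nat_lit 0), (nat_lit 1), (nat_lit 1), (nat_lit 3), (nat_lit 4)],
  [(nat_lit 0), (nat_lit 1), (nat_lit 1), (nat_lit 4), (nat_lit 3)],
  [(nat_lit 0), (nat_lit 1), (nat_lit 2), (nat_lit 2), (nat_lit 3)],
  [(nat_lit 0), (nat_lit 1), (nat_lit 2), (nat_lit 2), (nat_lit 4)],
  [(nat_lit 0), (nat_lit 1), (nat_lit 2), (nat_lit 3), (nat_lit 3)],
  [(nat_lit 0), (nat_lit 1), (nat_lit 2), (nat_lit 3), (nat_lit 4)],
  [(nat_lit 0), (nat_lit 1), (nat_lit 2), (nat_lit 4), (nat_lit 3)],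
  [(nat_lit 0), (nat_lit 2), (nat_lit 2), (nat_lit 3), (nat_lit 3)],
  [(nat_lit 0), (nat_lit 2), (nat_lit 2), (nat_lit 3), (nat_lit 4)],
  [(nat_lit 0), (nat_lit 2), (nat_lit 2), (nat_lit 4), (nat_lit 3)],
  [(nat_lit 1), (nat_lit 1), (nat_lit 2), (nat_lit 2), (nat_lit 3)],
  [(nat_lit 1), (nat_lit 1), (nat_lit 2), (nat_lit 2), (nat_lit 4)],
  [(nat_lit 1), (nat_lit 1), (nat_lit 2), (nat_lit 3), (nat_lit 3)],
  [(nat_lit 1), (nat_lit 1), (nat_lit 2), (nat_lit 3), (nat_lit 4)],
  [(nat_lit 1), (nat_lit 1), (nat_lit 2), (nat_lit 4), (nat_lit 3)],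
  [(nat_lit 1), (nat_lit 2), (nat_lit 2), (nat_lit 3), (nat_lit 3)],
  [(nat_lit 1), (nat_lit 2), (nat_lit 2), (nat_lit 3), (nat_lit 4)],
  [(nat_lit 1), (nat_lit 2), (nat_lit 2), (nat_lit 4), (nat_lit 3)],
  [(nat_lit 0), (nat_lit 0), (nat_lit 1), (nat_lit 1), (nat_lit 2), (nat_lit 2)],
  [(nat_lit 0), (nat_lit 0), (nat_lit 1), (nat_lit 1), (nat_lit 2), (nat_lit 3)],
  [(nat_lit 0), (nat_lit 0), (nat_lit 1), (nat_lit 1), (nat_lit 2), (nat_lit 4)],
  [(nat_lit 0), (nat_lit 0), (nat_lit 1), (nat_lit 1), (nat_lit 3), (nat_lit 3)],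
  [(nat_lit 0), (nat_lit 0), (nat_lit 1), (nat_lit 1), (nat_lit 3), (nat_lit 4)],
  [(nat_lit 0), (nat_lit 0), (nat_lit 1), (nat_lit 1), (nat_lit 4), (nat_lit 3)],
  [(nat_lit 0), (nat_lit 0), (nat_lit 1), (nat_lit 2), (nat_lit 2), (nat_lit 3)],
  [(nat_lit 0), (nat_lit 0), (nat_lit 1), (nat_lit 2), (nat_lit 2), (nat_lit 4)],
  [(nat_lit 0), (nat_lit 0), (nat_lit 1), (nat_lit 2), (nat_lit 3), (nat_lit 3)],
  [(nat_lit 0), (nat_lit 0), (nat_lit 1), (nat_lit 2), (nat_lit 3), (nat_lit 4)],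
  [(nat_lit 0), (nat_lit 0), (nat_lit 1), (nat_lit 2), (nat_lit 4), (nat_lit 3)],
  [(nat_lit 0), (nat_lit 0), (nat_lit 2), (nat_lit 2), (nat_lit 3), (nat_lit 3)],
  [(nat_lit 0), (nat_lit 0), (nat_lit 2), (nat_lit 2), (nat_lit 3), (nat_lit 4)],
  [(nat_lit 0), (nat_lit 0), (nat_lit 2), (nat_lit 2), (nat_lit 4), (nat_lit 3)],
  [(nat_lit 0), (nat_lit 1), (nat_lit 1), (nat_lit 2), (nat_lit 2), (nat_lit 3)],
  [(nat_lit 0), (nat_lit 1), (nat_lit 1), (nat_lit 2), (nat_lit 2), (nat_lit 4)],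
  [(nat_lit 0), (nat_lit 1), (nat_lit 1), (nat_lit 2), (nat_lit 3), (nat_lit 3)],
  [(nat_lit 0), (nat_lit 1), (nat_lit 1), (nat_lit 2), (nat_lit 3), (nat_lit 4)],
  [(nat_lit 0), (nat_lit 1), (nat_lit 1), (nat_lit 2), (nat_lit 4), (nat_lit 3)],
  [(nat_lit 0), (nat_lit 1), (nat_lit 2), (nat_lit 2), (nat_lit 3), (nat_lit 3)],
  [(nat_lit 0), (nat_lit 1), (nat_lit 2), (nat_lit 2), (nat_lit 3), (nat_lit 4)],
  [(nat_lit 0), (nat_lit 1), (nat_lit 2), (nat_lit 2), (nat_lit 4), (nat_lit 3)],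
  [(nat_lit 1), (nat_lit 1), (nat_lit 2), (nat_lit 2), (nat_lit 3), (nat_lit 3)],
  [(nat_lit 1), (nat_lit 1), (nat_lit 2), (nat_lit 2), (nat_lit 3), (nat_lit 4)],
  [(nat_lit 1), (nat_lit 1), (nat_lit 2), (nat_lit 2), (nat_lit 4), (nat_lit 3)],
  [(nat_lit 0), (nat_lit 0), (nat_lit 1), (nat_lit 1), (nat_lit 2), (nat_lit 2), (nat_lit 3)],
  [(nat_lit 0), (nat_lit 0), (nat_lit 1), (nat_lit 1), (nat_lit 2), (nat_lit 2), (nat_lit 4)],
  [(nat_lit 0), (nat_lit 0), (nat_lit 1), (nat_lit 1), (nat_lit 2), (nat_lit 3), (nat_lit 3)],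
  [(nat_lit 0), (nat_lit 0), (nat_lit 1), (nat_lit 1), (nat_lit 2), (nat_lit 3), (nat_lit 4)],
  [(nat_lit 0), (nat_lit 0), (nat_lit 1), (nat_lit 1), (nat_lit 2), (nat_lit 4), (nat_lit 3)],
  [(nat_lit 0), (nat_lit 0), (nat_lit 1), (nat_lit 2), (nat_lit 2), (nat_lit 3), (nat_lit 3)],
  [(nat_lit 0), (nat_lit 0), (nat_lit 1), (nat_lit 2), (nat_lit 2), (nat_lit 3), (nat_lit 4)],
  [(nat_lit 0), (nat_lit 0), (nat_lit 1), (nat_lit 2), (nat_lit 2), (nat_lit 4), (nat_lit 3)],
  [(nat_lit 0), (nat_lit 1), (nat_lit 1), (nat_lit 2), (nat_lit 2), (nat_lit 3), (nat_lit 3)],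
  [(nat_lit 0), (nat_lit 1), (nat_lit 1), (nat_lit 2), (nat_lit 2), (nat_lit 3), (nat_lit 4)],
  [(nat_lit 0), (nat_lit 1), (nat_lit 1), (nat_lit 2), (nat_lit 2), (nat_lit 4), (nat_lit 3)],
  [(nat_lit 0), (nat_lit 0), (nat_lit 1), (nat_lit 1), (nat_lit 2), (nat_lit 2), (nat_lit 3), (nat_lit 3)],
  [(nat_lit 0), (nat_lit 0), (nat_lit 1), (nat_lit 1), (nat_lit 2), (nat_lit 2), (nat_lit 3), (nat_lit 4)],
  [(nat_lit 0), (nat_lit 0), (nat_lit 1), (nat_lit 1), (nat_lit 2), (nat_lit 2), (nat_lit 4), (nat_lit 3)]]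
noncomputable def P1_lB_h (c : ℕ) : ℕ := Nat.mod c (nat_lit 1157)
theorem P1_lB_E {G : Type*} [Group G] {R : ℕ → G → Prop} {t c a b e x : G} {H : Subgroup G}
    (M : Mdl P1_o P1_cs P1_L R [t, c, a, a⁻¹, b, b⁻¹, e, e⁻¹, x, x⁻¹] H) :
    EnumS R P1_lB (sp [a, b, e, x, t]) :=
  enumS_sp M.μ.1 (M.reps.tms M.μ.1 [(.v (nat_lit 2)), (.v (nat_lit 4)), (.v (nat_lit 6)), (.v (nat_lit 8)), (.v (nat_lit 0))] (cs' := [(nat_lit 0x876543021), (nat_lit 0x876354210), (nat_lit 0x687543210), (nat_lit 0x210876543), (nat_lit 0x876210543)]) (by decide +kernel))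
    (Ws := P1_lB_W) (by decide +kernel) (by decide +kernel)
theorem P1_lB_c {G : Type*} [Group G] {R : ℕ → G → Prop} {t c a b e x : G} {H : Subgroup G}
    (M : Mdl P1_o P1_cs P1_L R [t, c, a, a⁻¹, b, b⁻¹, e, e⁻¹, x, x⁻¹] H) :
    #(sp [a, b, e, x, t]) = 162 :=
  (P1_lB_E M).card M.μ (h := P1_lB_h) (by decide +kernel)
noncomputable def P1_D_F : Fm := (.all P1_L (.imp (.eq (.mul (.v (nat_lit 0)) (.v (nat_lit 3))) (.mul (.v (nat_lit 3)) (.v (nat_lit 0)))) (.imp (.eq (.mul (.v (nat_lit 0)) (.v (nat_lit 5))) (.mul (.v (nat_lit 5)) (.v (nat_lit 0)))) (.qf (.mem (.v (nat_lit 0)) P1_lJ)))))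
theorem P1_D_chk : Fm.chk P1_o P1_D_F P1_cs = true := by decide +kernel
theorem P1_D {G : Type*} [Group G] {R : ℕ → G → Prop} {t c a b e x : G} {H : Subgroup G}
    (M : Mdl P1_o P1_cs P1_L R [t, c, a, a⁻¹, b, b⁻¹, e, e⁻¹, x, x⁻¹] H) :
    ∀ k ∈ H, k * a = a * k → k * b = b * k → k ∈ sp [a, b, e] :=
  have h : ∀ k, InL P1_o R P1_L k → k * a = a * k → k * b = b * k → InS R P1_lJ (k) :=
    Fm.sound M.μ P1_D_F P1_D_chk M.reps
  (fun k h0 => (fun h1 => (fun h2 => ((P1_lJ_E M).iff.1 (((h k (M.H.iff.2 h0)) h1) h2)))))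
noncomputable def P1_Ly_F : Fm := (.all P1_L (.imp (.eq (.mul (.v (nat_lit 0)) (.mul (.v (nat_lit 3)) (.v (nat_lit 5)))) (.mul (.mul (.v (nat_lit 3)) (.v (nat_lit 5))) (.v (nat_lit 0)))) (.and (.qf (.mem (.v (nat_lit 0)) P1_lJT)) (.allS P1_lJ (.qf (.mem (.mul (.inv (.v (nat_lit 0))) (.mul (.mul (.v (nat_lit 1)) (.v (nat_lit 0))) (.inv (.v (nat_lit 1))))) P1_lY))))))
theorem P1_Ly_chk : Fm.chk P1_o P1_Ly_F P1_cs = true := by decide +kernel
theorem P1_Ly {G : Type*} [Group G] {R : ℕ → G → Prop} {t c a b e x : G} {H : Subgroup G}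
    (M : Mdl P1_o P1_cs P1_L R [t, c, a, a⁻¹, b, b⁻¹, e, e⁻¹, x, x⁻¹] H) :
    ∀ k ∈ H, k * (a * b) = a * b * k → k ∈ sp [a, b, e, t] ∧ (∀ j ∈ sp [a, b, e], j⁻¹ * (k * j * k⁻¹) ∈ sp [a * b⁻¹]) :=
  have h : ∀ k, InL P1_o R P1_L k → k * (a * b) = a * b * k → InS R P1_lJT (k) ∧ (∀ j, InS R P1_lJ j → InS R P1_lY (j⁻¹ * (k * j * k⁻¹))) :=
    Fm.sound M.μ P1_Ly_F P1_Ly_chk M.reps
  (fun k h0 => (fun h1 => (And.imp (fun h2 => ((P1_lJT_E M).iff.1 h2)) (fun h2 => (fun j h3 => ((P1_lY_E M).iff.1 (h2 j ((P1_lJ_E M).iff.2 h3))))) ((h k (M.H.iff.2 h0)) h1))))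
noncomputable def P1_JT_F : Fm := (.allS P1_lJT (.qf (.eq (.mul (.v (nat_lit 0)) (.mul (.v (nat_lit 3)) (.v (nat_lit 5)))) (.mul (.mul (.v (nat_lit 3)) (.v (nat_lit 5))) (.v (nat_lit 0))))))
theorem P1_JT_chk : Fm.chk P1_o P1_JT_F P1_cs = true := by decide +kernel
theorem P1_JT {G : Type*} [Group G] {R : ℕ → G → Prop} {t c a b e x : G} {H : Subgroup G}
    (M : Mdl P1_o P1_cs P1_L R [t, c, a, a⁻¹, b, b⁻¹, e, e⁻¹, x, x⁻¹] H) :
    ∀ k ∈ sp [a, b, e, t], k * (a * b) = a * b * k :=
  have h : ∀ k, InS R P1_lJT k → k * (a * b) = a * b * k :=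
    Fm.sound M.μ P1_JT_F P1_JT_chk M.reps
  (fun k h0 => (h k ((P1_lJT_E M).iff.2 h0)))
noncomputable def P1_J_F : Fm := (.allS P1_lJ (.qf (.and (.mem (.v (nat_lit 0)) P1_lJT) (.and (.eq (.pw (.v (nat_lit 0)) (nat_lit 3)) .one) (.and (.eq (.mul (.v (nat_lit 0)) (.v (nat_lit 3))) (.mul (.v (nat_lit 3)) (.v (nat_lit 0)))) (.and (.eq (.mul (.v (nat_lit 0)) (.v (nat_lit 5))) (.mul (.v (nat_lit 5)) (.v (nat_lit 0)))) (.eq (.mul (.v (nat_lit 0)) (.v (nat_lit 7))) (.mul (.v (nat_lit 7)) (.v (nat_lit 0))))))))))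
theorem P1_J_chk : Fm.chk P1_o P1_J_F P1_cs = true := by decide +kernel
theorem P1_J {G : Type*} [Group G] {R : ℕ → G → Prop} {t c a b e x : G} {H : Subgroup G}
    (M : Mdl P1_o P1_cs P1_L R [t, c, a, a⁻¹, b, b⁻¹, e, e⁻¹, x, x⁻¹] H) :
    ∀ j ∈ sp [a, b, e], j ∈ sp [a, b, e, t] ∧ j ^ 3 = 1 ∧ j * a = a * j ∧ j * b = b * j ∧ j * e = e * j :=
  have h : ∀ j, InS R P1_lJ j → InS R P1_lJT (j) ∧ j ^ 3 = 1 ∧ j * a = a * j ∧ j * b = b * j ∧ j * e = e * j :=
    Fm.sound M.μ P1_J_F P1_J_chk M.reps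
  (fun j h0 => ((and_congr (P1_lJT_E M).iff Iff.rfl).1 (h j ((P1_lJ_E M).iff.2 h0))))
noncomputable def P1_K_F : Fm := (.all P1_L (.imp (.eq (.mul (.v (nat_lit 0)) (.v (nat_lit 1))) (.mul (.v (nat_lit 1)) (.v (nat_lit 0)))) (.and (.qf (.mem (.v (nat_lit 0)) P1_lF)) (.and (.allS P1_lE (.qf (.mem (.mul (.inv (.v (nat_lit 0))) (.mul (.mul (.v (nat_lit 1)) (.v (nat_lit 0))) (.inv (.v (nat_lit 1))))) P1_lW))) (.qf (.or (.not (.eq (.mul (.v (nat_lit 0)) (.mul (.v (nat_lit 3)) (.v (nat_lit 5)))) (.mul (.mul (.v (nat_lit 3)) (.v (nat_lit 5))) (.v (nat_lit 0))))) (.or (.mem (.v (nat_lit 0)) P1_lE) (.mem (.mul (.v (nat_lit 0)) (.v (nat_lit 1))) P1_lE))))))))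
theorem P1_K_chk : Fm.chk P1_o P1_K_F P1_cs = true := by decide +kernel
theorem P1_K {G : Type*} [Group G] {R : ℕ → G → Prop} {t c a b e x : G} {H : Subgroup G}
    (M : Mdl P1_o P1_cs P1_L R [t, c, a, a⁻¹, b, b⁻¹, e, e⁻¹, x, x⁻¹] H) :
    ∀ k ∈ H, k * t = t * k → k ∈ sp [a * b, e, t, c] ∧ (∀ j ∈ sp [a * b, e], j⁻¹ * (k * j * k⁻¹) ∈ sp [a * b]) ∧ (k * (a * b) ≠ a * b * k ∨ k ∈ sp [a * b, e] ∨ k * t ∈ sp [a * b, e]) :=
  have h : ∀ k, InL P1_o R P1_L k → k * t = t * k → InS R P1_lF (k) ∧ (∀ j, InS R P1_lE j → InS R P1_lW (j⁻¹ * (k * j * k⁻¹))) ∧ (k * (a * b) ≠ a * b * k ∨ InS R P1_lE (k) ∨ InS R P1_lE (k * t)) :=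
    Fm.sound M.μ P1_K_F P1_K_chk M.reps
  (fun k h0 => (fun h1 => (And.imp (fun h2 => ((P1_lF_E M).iff.1 h2)) (fun h2 => (And.imp (fun h3 => (fun j h4 => ((P1_lW_E M).iff.1 (h3 j ((P1_lE_E M).iff.2 h4))))) (fun h3 => ((or_congr Iff.rfl (or_congr (P1_lE_E M).iff (P1_lE_E M).iff)).1 h3)) h2)) ((h k (M.H.iff.2 h0)) h1))))
noncomputable def P1_E_F : Fm := (.allS P1_lE (.qf (.and (.mem (.v (nat_lit 0)) P1_lF) (.and (.eq (.mul (.v (nat_lit 0)) (.mul (.v (nat_lit 3)) (.v (nat_lit 5)))) (.mul (.mul (.v (nat_lit 3)) (.v (nat_lit 5))) (.v (nat_lit 0)))) (.eq (.mul (.v (nat_lit 0)) (.v (nat_lit 7))) (.mul (.v (nat_lit 7)) (.v (nat_lit 0))))))))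
theorem P1_E_chk : Fm.chk P1_o P1_E_F P1_cs = true := by decide +kernel
theorem P1_E {G : Type*} [Group G] {R : ℕ → G → Prop} {t c a b e x : G} {H : Subgroup G}
    (M : Mdl P1_o P1_cs P1_L R [t, c, a, a⁻¹, b, b⁻¹, e, e⁻¹, x, x⁻¹] H) :
    ∀ j ∈ sp [a * b, e], j ∈ sp [a * b, e, t, c] ∧ j * (a * b) = a * b * j ∧ j * e = e * j :=
  have h : ∀ j, InS R P1_lE j → InS R P1_lF (j) ∧ j * (a * b) = a * b * j ∧ j * e = e * j :=
    Fm.sound M.μ P1_E_F P1_E_chk M.reps
  (fun j h0 => ((and_congr (P1_lF_E M).iff Iff.rfl).1 (h j ((P1_lE_E M).iff.2 h0))))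
noncomputable def P1_F_F : Fm := (.allS P1_lF (.qf (.eq (.mul (.v (nat_lit 0)) (.v (nat_lit 1))) (.mul (.v (nat_lit 1)) (.v (nat_lit 0))))))
theorem P1_F_chk : Fm.chk P1_o P1_F_F P1_cs = true := by decide +kernel
theorem P1_F {G : Type*} [Group G] {R : ℕ → G → Prop} {t c a b e x : G} {H : Subgroup G}
    (M : Mdl P1_o P1_cs P1_L R [t, c, a, a⁻¹, b, b⁻¹, e, e⁻¹, x, x⁻¹] H) :
    ∀ j ∈ sp [a * b, e, t, c], j * t = t * j :=
  have h : ∀ j, InS R P1_lF j → j * t = t * j :=
    Fm.sound M.μ P1_F_F P1_F_chk M.reps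
  (fun j h0 => (h j ((P1_lF_E M).iff.2 h0)))
noncomputable def P1_e_F : Fm := (.qf (.and (.not (.eq (.v (nat_lit 0)) .one)) (.and (.not (.eq (.v (nat_lit 1)) .one)) (.and (.not (.eq (.v (nat_lit 1)) (.v (nat_lit 0)))) (.and (.not (.eq (.mul (.v (nat_lit 2)) (.v (nat_lit 4))) .one)) (.and (.not (.eq (.mul (.v (nat_lit 2)) (.inv (.v (nat_lit 4)))) .one)) (.and (.eq (.pw (.mul (.v (nat_lit 2)) (.v (nat_lit 4))) (nat_lit 3)) .one) (.and (.eq (.pw (.mul (.v (nat_lit 2)) (.inv (.v (nat_lit 4)))) (nat_lit 3)) .one) (.and (.eq (.mul (.mul (.v (nat_lit 0)) (.mul (.v (nat_lit 2)) (.inv (.v (nat_lit 4))))) (.inv (.v (nat_lit 0)))) (.inv (.mul (.v (nat_lit 2)) (.inv (.v (nat_lit 4)))))) (.and (.eq (.mul (.mul (.v (nat_lit 1)) (.mul (.v (nat_lit 2)) (.v (nat_lit 4)))) (.inv (.v (nat_lit 1)))) (.inv (.mul (.v (nat_lit 2)) (.v (nat_lit 4))))) (.and (.eq (.mul (.v (nat_lit 0)) (.mul (.v (nat_lit 2)) (.v (nat_lit 4)))) (.mul (.mul (.v (nat_lit 2)) (.v (nat_lit 4))) (.v (nat_lit 0)))) (.and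 (.eq (.v (nat_lit 2)) (.pw (.mul (.mul (.v (nat_lit 2)) (.inv (.v (nat_lit 4)))) (.mul (.v (nat_lit 2)) (.v (nat_lit 4)))) (nat_lit 2))) (.and (.eq (.v (nat_lit 4)) (.pw (.mul (.mul (.v (nat_lit 2)) (.v (nat_lit 4))) (.inv (.mul (.v (nat_lit 2)) (.inv (.v (nat_lit 4)))))) (nat_lit 2))) (.and (.eq (.mul (.mul (.mul (.v (nat_lit 2)) (.v (nat_lit 4))) (.v (nat_lit 6))) (.v (nat_lit 0))) (.mul (.v (nat_lit 0)) (.mul (.mul (.v (nat_lit 2)) (.v (nat_lit 4))) (.v (nat_lit 6))))) (.and (.eq (.mul (.mul (.mul (.v (nat_lit 2)) (.v (nat_lit 4))) (.v (nat_lit 6))) (.mul (.v (nat_lit 2)) (.v (nat_lit 4)))) (.mul (.mul (.v (nat_lit 2)) (.v (nat_lit 4))) (.mul (.mul (.v (nat_lit 2)) (.v (nat_lit 4))) (.v (nat_lit 6))))) (.and (.eq (.mul (.mul (.v (nat_lit 2)) (.inv (.v (nat_lit 4)))) (.mul (.v (nat_lit 2)) (.v (nat_lit 4)))) (.mul (.mul (.v (nat_lit 2)) (.v (nat_lit 4))) (.mul (.v (nat_lit 2)) (.inv (.v (nat_lit 4)))))) (.eq (.pw (.mul (.mul (.v (nat_lit 2)) (.v (nat_lit 4))) (.v (nat_lit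 6))) (nat_lit 3)) .one)))))))))))))))))
theorem P1_e_chk : Fm.chk P1_o P1_e_F P1_cs = true := by decide +kernel
theorem P1_e {G : Type*} [Group G] {R : ℕ → G → Prop} {t c a b e x : G} {H : Subgroup G}
    (M : Mdl P1_o P1_cs P1_L R [t, c, a, a⁻¹, b, b⁻¹, e, e⁻¹, x, x⁻¹] H) :
    t ≠ 1 ∧ c ≠ 1 ∧ c ≠ t ∧ a * b ≠ 1 ∧ a * b⁻¹ ≠ 1 ∧ (a * b) ^ 3 = 1 ∧ (a * b⁻¹) ^ 3 = 1 ∧ t * (a * b⁻¹) * t⁻¹ = (a * b⁻¹)⁻¹ ∧ c * (a * b) * c⁻¹ = (a * b)⁻¹ ∧ t * (a * b) = a * b * t ∧ a = (a * b⁻¹ * (a * b)) ^ 2 ∧ b = (a * b * (a * b⁻¹)⁻¹) ^ 2 ∧ a * b * e * t = t * (a * b * e) ∧ a * b * e * (a * b) = a * b * (a * b * e) ∧ a * b⁻¹ * (a * b) = a * b * (a * b⁻¹) ∧ (a * b * e) ^ 3 = 1 :=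
  Fm.sound M.μ P1_e_F P1_e_chk M.reps
noncomputable def P2_Rl : List (List ℕ) := [[0,0],
  [1,2],
  [2,1],
  [3,4],
  [4,3],
  [5,6],
  [6,5],
  [7,8],
  [8,7],
  [9,10],
  [10,9],
  [1,1,1],
  [3,3,3],
  [5,5,5],
  [4,2,3,1],
  [6,2,5,1],
  [6,4,5,3],
  [7,7,7],
  [2,8,5,7],
  [4,8,1,7],
  [6,8,3,7],
  [7,0,7,0],
  [6,0,5,0],
  [4,0,1,0],
  [0,9,9],
  [2,4,6,10,5,3,1,9],
  [6,9,6,9,6,9],
  [4,1,10,7,9],
  [8,10,4,1,9]]
theorem P2_r {G : Type*} [Group G] {t a b e x q : G}
    (h : B1 a b e x t)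
    (l : Q1 a b e x t q) :
    Rels (nthG [t, a, a⁻¹, b, b⁻¹, e, e⁻¹, x, x⁻¹, q, q⁻¹]) P2_Rl :=
  rels_of_eqs ((InvI.cons h.2.2.2.2.2.2.2.2.2.2.1 InvI.nil) : InvI [t, a, b, e, x, q] [(nat_lit 0)])
    (AllEq.append (show AllEq [t, a, b, e, x, q] [((.pw (.v (nat_lit 1)) (nat_lit 3)), .one), ((.pw (.v (nat_lit 2)) (nat_lit 3)), .one), ((.pw (.v (nat_lit 3)) (nat_lit 3)), .one), ((.mul (.v (nat_lit 1)) (.v (nat_lit 2))), (.mul (.v (nat_lit 2)) (.v (nat_lit 1)))), ((.mul (.v (nat_lit 1)) (.v (nat_lit 3))), (.mul (.v (nat_lit 3)) (.v (nat_lit 1)))), ((.mul (.v (nat_lit 2)) (.v (nat_lit 3))), (.mul (.v (nat_lit 3)) (.v (nat_lit 2)))), ((.pw (.v (nat_lit 4)) (nat_lit 3)), .one), ((.mul (.mul (.v (nat_lit 4)) (.v (nat_lit 3))) (.inv (.v (nat_lit 4)))), (.v (nat_lit 1))), ((.mul (.mul (.v (nat_lit 4)) (.v (nat_lit 1))) (.inv (.v (nat_lit 4)))), (.v (nat_lit 2))), ((.mul (.mul (.v (nat_lit 4)) (.v (nat_lit 2))) (.inv (.v (nat_lit 4)))), (.v (nat_lit 3))), ((.mul (.v (nat_lit 0))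 (.v (nat_lit 0))), .one), ((.mul (.mul (.v (nat_lit 0)) (.v (nat_lit 4))) (.inv (.v (nat_lit 0)))), (.inv (.v (nat_lit 4)))), ((.mul (.v (nat_lit 0)) (.v (nat_lit 3))), (.mul (.v (nat_lit 3)) (.v (nat_lit 0)))), ((.mul (.mul (.v (nat_lit 0)) (.v (nat_lit 1))) (.inv (.v (nat_lit 0)))), (.v (nat_lit 2)))] from h)
    (show AllEq [t, a, b, e, x, q] [((.mul (.v (nat_lit 5)) (.v (nat_lit 5))), (.v (nat_lit 0))), ((.mul (.v (nat_lit 5)) (.mul (.mul (.v (nat_lit 1)) (.v (nat_lit 2))) (.v (nat_lit 3)))), (.mul (.mul (.mul (.v (nat_lit 1)) (.v (nat_lit 2))) (.v (nat_lit 3))) (.v (nat_lit 5)))), ((.pw (.mul (.v (nat_lit 5)) (.inv (.v (nat_lit 3)))) (nat_lit 3)), .one), ((.mul (.mul (.v (nat_lit 5)) (.v (nat_lit 4))) (.inv (.v (nat_lit 5)))), (.inv (.mul (.v (nat_lit 1)) (.inv (.v (nat_lit 2)))))), ((.mul (.mul (.v (nat_lit 5)) (.mul (.v (nat_lit 1)) (.inv (.v (nat_lit 2))))) (.inv (.v (nat_lit 5)))), (.v (nat_lit 4)))] from l))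
    [(.v (nat_lit 0)), (.v (nat_lit 1)), (.inv (.v (nat_lit 1))), (.v (nat_lit 2)), (.inv (.v (nat_lit 2))), (.v (nat_lit 3)), (.inv (.v (nat_lit 3))), (.v (nat_lit 4)), (.inv (.v (nat_lit 4))), (.v (nat_lit 5)), (.inv (.v (nat_lit 5)))] (by decide +kernel)
noncomputable abbrev P2_o : Ops := pops (nat_lit 27) (nat_lit 5) (nat_lit 31) (nat_lit 0x6b38bdab49ca307b9ac5a928398a418820)
noncomputable def P2_cs : List ℕ := [(nat_lit 0x45d5b5f094374f8664c52e93394c209060), (nat_lit 0x6b2f8dab49a5d045dab19cd8248aa60041), (nat_lit 0x6b2875ab499af0c45a36124f524a758402), (nat_lit 0x66d8bea05aca337ba8a38528119a022d83), (nat_lit 0x5b58be66d84a357b8a11312859a8301d44), (nat_lit 0x4272c55ba2ddf44a2cc5aa263bb2418820), (nat_lit 0x50b7936d0ce13a89aac5a9ee3a26418820), (nat_lit 0x624b65e2848d4f385d6d5482800d3cd1a5), (nat_lit 0x2c7ab3142266a783437c467479409921c6), (nat_lit 0x2672111ba756811a30c316393a977859e0), (nat_lit 0x510d20a51ce1230ceac29b4e3ad567de00)]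
noncomputable def P2_L : List (List ℕ) := [[(nat_lit 0x6b38bdab49ca307b9ac5a928398a418820), (nat_lit 0x6b2f8dab49a5d045dab19cd8248aa60041), (nat_lit 0x6b2875ab499af0c45a36124f524a758402), (nat_lit 0x66d8bea05aca337ba8a38528119a022d83), (nat_lit 0x5b58be66d84a357b8a11312859a8301d44), (nat_lit 0x624b65e2848d4f385d6d5482800d3cd1a5), (nat_lit 0x2c7ab3142266a783437c467479409921c6), (nat_lit 0x66cf8ea05aa5d345e87208d8049a150d6c), (nat_lit 0x5b4f8e66d825d545ca202cd81ca8c090ea), (nat_lit 0x624755e284902f131dacc00b98cd5b168d), (nat_lit 0x2c70ab14224da7a583893cba4e411b990e), (nat_lit 0x2663a11ba74501c8b0681d52bd565602cf), (nat_lit 0x510148a51cea63712a579d6db6146602f0), (nat_lit 0x66c876a05a9af3c46845024f0a5a23b06b), (nat_lit 0x5b487666d81af5c44a008e4f6268b12887), (nat_lit 0x62420de284818f5a9d9b4c67a90d0d34b4), (nat_lit 0x2c746b142216c7d5432ba7308cc0fc38c8), (nat_lit 0x2679411ba728419531065ea32c56733c16), (nat_lit 0x510e98a51cac836a6af65b01369472c017), (nat_lit 0x4aeb661e688d493851583482a01c59ead9),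 (nat_lit 0xd9ab2ce0566a4834517ba74414264e2f2), (nat_lit 0x5f0b6492e78d51384cda5882d01192c2b3), (nat_lit 0x317ab0c813e6aa8340e45e74c145233e29), (nat_lit 0x5f075492e79031130d42e80bc8d166ce15), (nat_lit 0x3170a8c813cdaaa5808360ba96457725f1), (nat_lit 0x4aa728a998dde3b3109984067414d22f58), (nat_lit 0x41c178b092d323312d389d756dd486025a)],
  [(nat_lit 0x6b38bdab49ca307b9ac5a928398a418820), (nat_lit 0x45d5b5f094374f8664c52e93394c209060), (nat_lit 0x2672111ba756811a30c316393a977859e0), (nat_lit 0x510d20a51ce1230ceac29b4e3ad567de00), (nat_lit 0x44b7112d04374119a4c765f33a978a5520), (nat_lit 0x3f38112b435a011baec44d253a972d3620), (nat_lit 0x68d620aef9ca23095accba083ad554e280), (nat_lit 0x41d520b092dde30e6cc9a2863ad4d8cb40)],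
  [(nat_lit 0x6b38bdab49ca307b9ac5a928398a418820), (nat_lit 0x4272c55ba2ddf44a2cc5aa263bb2418820), (nat_lit 0x50b7936d0ce13a89aac5a9ee3a26418820)]]
noncomputable def P2_WW : List (List (List ℕ)) := [[[],
  [(nat_lit 1)],
  [(nat_lit 2)],
  [(nat_lit 3)],
  [(nat_lit 4)],
  [(nat_lit 7)],
  [(nat_lit 8)],
  [(nat_lit 1), (nat_lit 3)],
  [(nat_lit 1), (nat_lit 4)],
  [(nat_lit 1), (nat_lit 7)],
  [(nat_lit 1), (nat_lit 8)],
  [(nat_lit 1), (nat_lit 9)],
  [(nat_lit 1), (nat_lit 10)],
  [(nat_lit 2), (nat_lit 3)],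
  [(nat_lit 2), (nat_lit 4)],
  [(nat_lit 2), (nat_lit 7)],
  [(nat_lit 2), (nat_lit 8)],
  [(nat_lit 2), (nat_lit 9)],
  [(nat_lit 2), (nat_lit 10)],
  [(nat_lit 3), (nat_lit 7)],
  [(nat_lit 3), (nat_lit 8)],
  [(nat_lit 4), (nat_lit 7)],
  [(nat_lit 4), (nat_lit 8)],
  [(nat_lit 1), (nat_lit 4), (nat_lit 7)],
  [(nat_lit 1), (nat_lit 4), (nat_lit 8)],
  [(nat_lit 1), (nat_lit 7), (nat_lit 9)],
  [(nat_lit 1), (nat_lit 10), (nat_lit 6)]],
  [[],
  [(nat_lit 0)],
  [(nat_lit 9)],
  [(nat_lit 10)],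
  [(nat_lit 9), (nat_lit 5)],
  [(nat_lit 9), (nat_lit 6)],
  [(nat_lit 10), (nat_lit 5)],
  [(nat_lit 10), (nat_lit 6)]],
  [[],
  [(nat_lit 5)],
  [(nat_lit 6)]]]
noncomputable def P2_b7_S0 : List ℕ := [nat_lit 0xf00000c00600e, nat_lit 0x17000014006010, nat_lit 0x1f00001c006012, nat_lit 0x2300000700001400c01c, nat_lit 0x2700002400600e, nat_lit 0x2700000700001800a01c, nat_lit 0x2b00000700000c00201c, nat_lit 0x2f00002c006010, nat_lit 0x2f00000700001000401c, nat_lit 0x3300000700001c00c01a, nat_lit 0x37000034006012, nat_lit 0x3700000700002000401a, nat_lit 0x3b00000b000014002014, nat_lit 0x3f00003c006010, nat_lit 0x3f00000b000018004014, nat_lit 0x4300000b00001c002016, nat_lit 0x47000044006012, nat_lit 0x4700000b000020004016, nat_lit 0x4b00000f00001400c014, nat_lit 0x4b00000200003c002014, nat_lit 0x4f00004c006010, nat_lit 0x4f000002000040004014, nat_lit 0x4f00000f00001800a014, nat_lit 0x5300000f00001c00c016, nat_lit 0x53000002000044002016, nat_lit 0x57000054006012, nat_lit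 0x57000002000048004016, nat_lit 0x5700000f00002000a016, nat_lit 0x5b00001300001c002018, nat_lit 0x5f00005c006012, nat_lit 0x5f000013000020004018, nat_lit 0x6300001700001c00c018, nat_lit 0x6300000600005c002018, nat_lit 0x67000064006012, nat_lit 0x67000006000060004018, nat_lit 0x6700001700002000a018, nat_lit 0x6b00002300002c002014, nat_lit 0x6b00000e00003100201c, nat_lit 0x6f00006c006010, nat_lit 0x6f000023000030004014, nat_lit 0x6f00000e00004900401c, nat_lit 0x73000023000034002016, nat_lit 0x7300000e00005c00c01a, nat_lit 0x77000074006012, nat_lit 0x77000023000038004016, nat_lit 0x7700000e00006000401a, nat_lit 0x7b00002700002c00c014, nat_lit 0x7b00001200006c002014, nat_lit 0x7b00001600003900201c, nat_lit 0x7f00007c006010, nat_lit 0x7f000012000070004014, nat_lit 0x7f00002700003000a014, nat_lit 0x7f00001600005900401c, nat_lit 0x8300002700003400c016, nat_lit 0x83000012000074002016, nat_lit 0x8300001600006400c01a, nat_lit 0x87000084006012, nat_lit 0x87000012000078004016, nat_lit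 0x8700002700003800a016, nat_lit 0x8700001600006800401a, nat_lit 0x8b00002b000034002018, nat_lit 0x8b00001a00004400c01a, nat_lit 0x8f00008c006012, nat_lit 0x8f00002b000038004018]
noncomputable def P2_b7_S1 : List ℕ := [nat_lit 0x8f00001a00004800401a, nat_lit 0x9300002f00003400c018, nat_lit 0x9300001e00008c002018, nat_lit 0x9300002200005400c01a, nat_lit 0x97000094006012, nat_lit 0x9700001e000090004018, nat_lit 0x9700002f00003800a018, nat_lit 0x9700002200005800401a, nat_lit 0x9b00003200005c002016, nat_lit 0x9b00003b000044002018, nat_lit 0x9f00009c006012, nat_lit 0x9f000032000060004016, nat_lit 0x9f00003b000048004018, nat_lit 0xa300003a000064002016, nat_lit 0xa300003f00004400c018, nat_lit 0xa300003600009c002018, nat_lit 0xa70000a4006012, nat_lit 0xa700003a000068004016, nat_lit 0xa70000360000a0004018, nat_lit 0xa700003f00004800a018, nat_lit 0xab00004a00005c00c016, nat_lit 0xab00004e00009c002016, nat_lit 0xab00004b000054002018, nat_lit 0xaf0000ac006012, nat_lit 0xaf00004e0000a0004016,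 nat_lit 0xaf00004a00006000a016, nat_lit 0xaf00004b000058004018, nat_lit 0xb300005a00006400c016, nat_lit 0xb30000560000a4002016, nat_lit 0xb300004f00005400c018, nat_lit 0xb30000520000ac002018, nat_lit 0xb70000b4006012, nat_lit 0xb70000560000a8004016, nat_lit 0xb700005a00006800a016, nat_lit 0xb70000520000b0004018, nat_lit 0xb700004f00005800a018, nat_lit 0xbb00009200008c002016, nat_lit 0xbb00006b000074002018, nat_lit 0xbb00009600009c00c01a, nat_lit 0xbf0000bc006012, nat_lit 0xbf000092000090004016, nat_lit 0xbf00006b000078004018, nat_lit 0xbf0000960000a000401a, nat_lit 0xc300009e000094002016, nat_lit 0xc300006f00007400c018, nat_lit 0xc300009a0000bc002018, nat_lit 0xc30000a20000ac00c01a, nat_lit 0xc70000c4006012, nat_lit 0xc700009e000098004016, nat_lit 0xc700009a0000c0004018, nat_lit 0xc700006f00007800a018, nat_lit 0xc70000a20000b000401a, nat_lit 0xcb0000ba00008c00c016, nat_lit 0xcb0000be0000bc002016, nat_lit 0xcb00007b000084002018, nat_lit 0xcb0000c20000a400c01a, nat_lit 0xcf0000cc006012,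 nat_lit 0xcf0000be0000c0004016, nat_lit 0xcf0000ba00009000a016, nat_lit 0xcf00007b000088004018, nat_lit 0xcf0000c20000a800401a, nat_lit 0xd30000ce00009400c016, nat_lit 0xd30000ca0000c4002016, nat_lit 0xd300007f00008400c018]
noncomputable def P2_b7_S2 : List ℕ := [nat_lit 0xd30000c60000cc002018, nat_lit 0xd30000d20000b400c01a, nat_lit 0xd70000d4006012, nat_lit 0xd70000ca0000c8004016, nat_lit 0xd70000ce00009800a016, nat_lit 0xd70000c60000d0004018, nat_lit 0xd700007f00008800a018, nat_lit 0xd70000d20000b800401a]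
noncomputable def P2_b7_S : List (List ℕ) := [P2_b7_S0, P2_b7_S1, P2_b7_S2]
noncomputable def P2_b7_defs : List ℕ := [(nat_lit 0x60001f0050001f0060001e0050001e0060001b0050001b0060001a0050001a006000130050001300600012005000120060000f0050000f0060000e0050000e0060000b0050000b0060000a0050000a00600009005000090040000900300009006000080050000800400008003000080060000500500005006000040050000400600003005000030040000300300003006000020050000200400002003000020060000100500001004000010030000100200001001000010060000000500000004000000030000000200000001000000000000000000000)]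
noncomputable def P2_b7_recs : List ℕ := [(nat_lit 0x40000d00023060002200023000001000022040000c00022000001900021010000d00021020001d00021060002000021000001800020020001c00020010000c0002000000130001f010000b0001f020001b0001f040001e0001f000000f0001e020001a0001e010000a0001e00000170001d020000d0001d060001c0001d00000160001c020000c0001c00000120001b020000b0001b040001a0001b000000e0001a020000a0001a030000700019040001700019060001800019040001600018030000600018040000700017060001600017040000600016010000700015020001100015060001400015020001000014010000600014010000500013020000f00013040001200013020000e0001201000040001202000070001106000100001102000060001002000050000f040000e0000f02000040000e00000070000d060000c0000d00000060000c00000030000b040000a0000b00000020000a000000500009020000800009000000400008060000600007040000400005020000200003),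
  (nat_lit 0x30002000034020003000034010002400034000002900033040002100033010002300033020002f00033060003200033000002800032040002000032020002e00032010002200032000002b00031030001d00031040002f00031020002500031060003000031000002a00030040002e00030030001c0003002000240003000000270002f040001d0002f02000230002f060002e0002f00000260002e040001c0002e02000220002e03000150002d040002b0002d01000190002d02000290002d060002c0002d040002a0002c03000140002c02000280002c01000180002c04000150002b01000170002b02000270002b060002a0002b04000140002a02000260002a01000160002a030001100029040002700029020001900029060002800029040002600028030001000028020001800028040001100027020001700027060002600027040001000026020001600026000001500025030000d00025040002300025060002400025000001400024040002200024030000c00024000001100023),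
  (nat_lit 0x2d00035030002100035040003300035010002500035020003100035060003400035000002c00034040003200034)]
noncomputable def P2_b7_L0 : List ℕ := [nat_lit 0x700000100000b00000200000f00000300001300000400001700000500001b00000600001f000007, nat_lit 0x800000000002300000800002700000900002b00000a00002f00000b00003300000c00003700000d, nat_lit 0x1a00000a00000200000300000c00000000003b00000e00003f00000f000043000010000047000011, nat_lit 0x2200000b00001000000000000100000200004b00001200004f000013000053000014000057000015, nat_lit 0xe00000800003200000e00004a00001200000600000500001400000000005b00001600005f000017, nat_lit 0x1600000900003a00000f00005a000013000018000000000005000004000063000018000067000019, nat_lit 0x2600000c00003e00001000005e00001400007200001600007e00001800000a00000700001c000000, nat_lit 0x2e00000d00004600001100006e00001500007a00001700008e000019000020000000000009000006, nat_lit 0xd00000400001200000900002400000100006b00001a00006f00001b00007300001c00007700001d, nat_lit 0x1500000500002800000100001100000800007b00001e00007f00001f000083000020000087000021,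 nat_lit 0x1900000200009200001a0000ba00001e00001e00000b00002c00000100008b00002200008f000023, nat_lit 0x2100000300009e00001b0000ce00001f00003000000100001d00000a000093000024000097000025, nat_lit 0x250000060000a600001c0000d60000200000f200002200010600002400002a00000d000034000001, nat_lit 0x2d0000070000b200001d0000ea0000210000fe00002300011a00002500003800000100002900000c, nat_lit 0x9600001a00004e00001200003100000400003600000f00003c00000200009b00002600009f000027, nat_lit 0xc200001e00005600001300003900000500004000000200003500000e0000a30000280000a7000029, nat_lit 0xf600002200006200001400003d00000600012600002600013a000028000042000011000044000002, nat_lit 0x10200002300006a00001500004500000700013200002700014e000029000048000002000041000010, nat_lit 0xa200001b00004900000400004d00000e00005200001300004c0000030000ab00002a0000af00002b, nat_lit 0xd200001f00005900000500005500000f0000500000030000510000120000b300002c0000b700002d, nat_lit 0x10e00002400005d00000600006100001000015a00002a00017600002c000066000015000054000003,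 nat_lit 0x11e00002500006d00000700006900001100016a00002b00018e00002d000058000003000065000014, nat_lit 0xaa00001c00012200002600015200002a00008200001800007100000600007600001700005c000004, nat_lit 0xb600001d00012e00002700016600002b00008a000019000079000007000060000004000075000016, nat_lit 0xde00002000013600002800016e00002c00007d000006000081000016000086000019000064000005, nat_lit 0xee00002100014600002900018600002d00008d000007000089000017000068000005000085000018, nat_lit 0x9500000e0000be00001e00009100000a00009a00001b00006c0000080000bb00002e0000bf00002f, nat_lit 0xa10000120000ca00001f00009d00000b00007000000800009900001a0000c30000300000c7000031, nat_lit 0xa90000160000da0000200000a500000c00019600002e0001b20000300000ae00001d000074000008, nat_lit 0xb50000170000e60000210000b100000d0001a600002f0001ca0000310000780000080000ad00001c, nat_lit 0xc100000f0000b900000a0000bd00001a0000c600001f00007c0000090000cb0000320000cf000033, nat_lit 0xd10000130000cd00000b0000c900001b0000800000090000c500001e0000d30000340000d7000035,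 nat_lit 0xdd0000180000d500000c0000d900001c0001da0000320001fe0000340000e2000021000084000009, nat_lit 0xed0000190000e900000d0000e500001d0001ee00003300021a0000350000880000090000e1000020, nat_lit 0xf500001000019200002e0001d200003200010a0000240000f100000c0000fa00002300008c00000a, nat_lit 0x1010000110001a200002f0001ea0000330001160000250000fd00000d00009000000a0000f9000022, nat_lit 0x10d0000140001ae0000300001f600003400010500000c00010900002200011200002500009400000b, nat_lit 0x11d0000150001c200003100021200003500011900000d00011500002300009800000b000111000024, nat_lit 0x19a00002e00015600002a00012100001600013e00002800012500001000012a00002700009c00000e, nat_lit 0x1aa00002f00016200002b00012d00001700014a0000290001310000110000a000000e000129000026, nat_lit 0x1de00003200017200002c00013500001800013900001000013d0000260001420000290000a400000f, nat_lit 0x1f200003300018200002d00014500001900014d0000110001490000270000a800000f000141000028, nat_lit 0x1ba00003000015100001600015500002600017a00002c00015900001400015e00002b0000ac000012,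 nat_lit 0x1ce00003100016500001700016100002700018a00002d0001690000150000b000001200015d00002a, nat_lit 0x20600003400016d00001800017100002800017500001400017900002a00017e00002d0000b4000013, nat_lit 0x21e00003500018500001900018100002900018d00001500018900002b0000b800001300017d00002c, nat_lit 0x1990000260001d60000320001910000220001b600003000019500001c00019e00002f0000bc00001a, nat_lit 0x1a90000270001e60000330001a10000230001c60000310001a500001d0000c000001a00019d00002e, nat_lit 0x1b900002a0001fa0000340001ad0000240001b100001c0001b500002e0001be0000310000c400001b, nat_lit 0x1cd00002b00020e0000350001c10000250001c900001d0001c500002f0000c800001b0001bd000030, nat_lit 0x1dd0000280001d10000220001d500002e0002020000340001d90000200001e20000330000cc00001e, nat_lit 0x1f10000290001e90000230001e500002f0002160000350001ed0000210000d000001e0001e1000032, nat_lit 0x20500002c0001f50000240001f90000300001fd00002000020100003200020a0000350000d400001f, nat_lit 0x21d00002d00021100002500020d0000310002190000210002150000330000d800001f000209000034]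
noncomputable def P2_b7_L : List (List ℕ) := [P2_b7_L0]
noncomputable def P2_b7_V : List ℕ := [(nat_lit 0x3500000034000000330000003200000031000000300000002f0000002e0000002d0000002c0000002b0000002a000000290000002800000027000000260000002500000024000000230000002200000021000000200000001f0000001e0000001d0000001c0000001b0000001a000000190000001800000017000000160000001500000014000000130000001200000011000000100000000f0000000e0000000d0000000c0000000b0000000a00000009000000080000000700000006000000050000000400000003000000020000000100000000)]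
noncomputable def P2_b7_D : H26.Dag := ⟨[0,2,1,4,3,6,5], [[0,0],
  [1,2],
  [2,1],
  [3,4],
  [4,3],
  [5,6],
  [6,5],
  [1,1,1],
  [3,3,3],
  [5,5,5],
  [4,2,3,1],
  [6,2,5,1],
  [6,4,5,3],
  [6,0,5,0],
  [4,0,1,0]], [], P2_b7_defs, P2_b7_recs⟩
theorem P2_b7_c : P2_b7_D.checkTab P2_b7_S 54 7 P2_b7_V P2_b7_L = true := by decide +kernel
theorem P2_b7 : Bound P2_Rl 7 54 :=
  bound_dag (Bound.zero P2_Rl) (K := 7) (J := [0,1,2,3,4,5,6,11,12,13,14,15,16,22,23]) (by decide +kernel) P2_b7_c (by decide +kernel)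
noncomputable def P2_b9_S0 : List ℕ := [nat_lit 0x1, nat_lit 0x1, nat_lit 0x1, nat_lit 0x1, nat_lit 0x700000d000008000014, nat_lit 0x7000005000008000016, nat_lit 0x7000009000008000018, nat_lit 0xb000008006012, nat_lit 0xb00000600000c008014, nat_lit 0xb00000a00000c008016, nat_lit 0xb00000e00000c008018, nat_lit 0xb00000100000800a01a]
noncomputable def P2_b9_S : List (List ℕ) := [P2_b9_S0]
noncomputable def P2_b9_defs : List ℕ := [(nat_lit 0x8000000070000000000000)]
noncomputable def P2_b9_recs : List ℕ := [(nat_lit 0x100002030000200002010000200002050000200002080000100002060000100001040000100001020000100001050000000000030000000000010000000000000000000000)]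
noncomputable def P2_b9_L0 : List ℕ := [nat_lit 0x100000000000500000000000600000000000900000000000a00000000000d00000000000e00000000000700000100000b000002, nat_lit 0x2e00000200001200000100001100000100001600000100001500000100001a00000100001900000100001e000002000008000000, nat_lit 0x2d00000100002500000200002600000200002900000200002a00000200002100000200002200000200000c00000000001d000001]
noncomputable def P2_b9_L : List (List ℕ) := [P2_b9_L0]
noncomputable def P2_b9_V : List ℕ := [(nat_lit 0x20000000100000000)]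
noncomputable def P2_b9_D : H26.Dag := ⟨[0,2,1,4,3,6,5,8,7], [[0,0],
  [1,2],
  [2,1],
  [3,4],
  [4,3],
  [5,6],
  [6,5],
  [7,8],
  [8,7],
  [7,7,7],
  [2,8,5,7],
  [4,8,1,7],
  [6,8,3,7],
  [7,0,7,0]], [0,1,2,3,4,5,6], P2_b9_defs, P2_b9_recs⟩
theorem P2_b9_c : P2_b9_D.checkTab P2_b9_S 3 9 P2_b9_V P2_b9_L = true := by decide +kernel
theorem P2_b9 : Bound P2_Rl 9 162 :=
  bound_dag P2_b7 (K := 9) (J := [0,1,2,3,4,5,6,7,8,17,18,19,20,21]) (by decide +kernel) P2_b9_c (by decide +kernel)
noncomputable def P2_b11_S0 : List ℕ := [nat_lit 0x1, nat_lit 0x1, nat_lit 0x1, nat_lit 0x1, nat_lit 0x1, nat_lit 0x7000001008024, nat_lit 0x7000015000024, nat_lit 0x700000500000a00000800002c, nat_lit 0xf00000c006016, nat_lit 0xf00000700001200000801202a, nat_lit 0x21000026000010008018, nat_lit 0x1000002600000c00e018, nat_lit 0x2600001e00001000401e, nat_lit 0x26000019000010004022, nat_lit 0x1600000e00000a000006000015000010000029010026, nat_lit 0x2200003900000c00001a, nat_lit 0xc00003900001000601a,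 nat_lit 0x3900001d00000c00c01c, nat_lit 0x3900001900003a00c020, nat_lit 0x3900001600000d00000800004200a028, nat_lit 0x4d000049006024]
noncomputable def P2_b11_S : List (List ℕ) := [P2_b11_S0]
noncomputable def P2_b11_defs : List ℕ := [(nat_lit 0x200001001000010090000000000000)]
noncomputable def P2_b11_recs : List ℕ := [(nat_lit 0xa00002000030a0000300002000000200002070000200002060000300001060000200003050000200001000000300003080000300003030000200001030000300002030000100003020000200003080000100001000000100001090000000001070000000000050000000000030000000000010000000000000000000000)]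
noncomputable def P2_b11_L0 : List ℕ := [nat_lit 0x100000000000500000000000600000000000900000000000a00000000000d00000000000e000000000011000000000012000000000007000001000016000001, nat_lit 0x1900000100000b00000200000f00000300002d00000200002600000300003900000200004100000300001e00000100001d000001000015000000000008000000, nat_lit 0x4900000200002200000300000c00000100002900000300002e00000100003e00000300003a00000100004500000200004600000200005200000300004d000003, nat_lit 0x3500000300001000000100002100000200002500000100002a00000200004200000100003d00000200003200000300003100000300004e000002000051000002]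
noncomputable def P2_b11_L : List (List ℕ) := [P2_b11_L0]
noncomputable def P2_b11_V : List ℕ := [(nat_lit 0x3000000020000000100000000)]
noncomputable def P2_b11_D : H26.Dag := ⟨[0,2,1,4,3,6,5,8,7,10,9], [[0,0],
  [1,2],
  [2,1],
  [3,4],
  [4,3],
  [5,6],
  [6,5],
  [7,8],
  [8,7],
  [9,10],
  [10,9],
  [1,1,1],
  [4,2,3,1],
  [6,2,5,1],
  [2,8,5,7],
  [4,8,1,7],
  [6,0,5,0],
  [4,0,1,0],
  [0,9,9],
  [2,4,6,10,5,3,1,9],
  [6,9,6,9,6,9],
  [4,1,10,7,9],
  [8,10,4,1,9]], [0,1,2,3,4,5,6,7,8], P2_b11_defs, P2_b11_recs⟩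
theorem P2_b11_c : P2_b11_D.checkTab P2_b11_S 4 11 P2_b11_V P2_b11_L = true := by decide +kernel
theorem P2_b11 : Bound P2_Rl 11 648 :=
  bound_dag P2_b9 (K := 11) (J := [0,1,2,3,4,5,6,7,8,9,10,11,14,15,18,19,22,23,24,25,26,27,28]) (by decide +kernel) P2_b11_c (by decide +kernel)
theorem P2_P : PModel (nat_lit 27) (nat_lit 5) (nat_lit 31) (nat_lit 0x6b38bdab49ca307b9ac5a928398a418820) P2_cs P2_Rl P2_L 648 :=
  ⟨PkOK.of (by decide +kernel), by decide +kernel, by decide +kernel, P2_b11, ⟨P2_WW, by decide +kernel⟩,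
    ⟨fun c => Nat.mod c (nat_lit 76918), by decide +kernel⟩⟩
noncomputable def P2_soc_t0 : ST := (.node (nat_lit 15049) (.node (nat_lit 8357) (.node (nat_lit 4543) (.node (nat_lit 1996) (.node (nat_lit 1051) (.node (nat_lit 596) (.node (nat_lit 319) (.node (nat_lit 73) (.leaf (nat_lit 5)) (.leaf (nat_lit 433))) (.node (nat_lit 513) (.leaf (nat_lit 5)) (.leaf (nat_lit 433)))) (.node (nat_lit 733) (.node (nat_lit 602) (.leaf (nat_lit 5)) (.leaf (nat_lit 433))) (.node (nat_lit 739) (.leaf (nat_lit 5)) (.node (nat_lit 751) (.leaf (nat_lit 433)) (.leaf (nat_lit 5)))))) (.node (nat_lit 1616) (.node (nat_lit 1428) (.node (nat_lit 1306) (.leaf (nat_lit 433)) (.leaf (nat_lit 5))) (.node (nat_lit 1583) (.leaf (nat_lit 433)) (.node (nat_lit 1589) (.leaf (nat_lit 5)) (.leaf (nat_lit 433))))) (.node (nat_lit 1784) (.node (nat_lit 1767) (.leaf (nat_lit 5)) (.leaf (nat_lit 433))) (.node (nat_lit 1891) (.leaf (nat_lit 5)) (.node (nat_lit 1959) (.leaf (nat_lit 433)) (.leaf (nat_lit 5)))))))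 (.node (nat_lit 3459) (.node (nat_lit 2802) (.node (nat_lit 2270) (.node (nat_lit 2150) (.leaf (nat_lit 433)) (.leaf (nat_lit 5))) (.node (nat_lit 2674) (.leaf (nat_lit 433)) (.leaf (nat_lit 5)))) (.node (nat_lit 3159) (.node (nat_lit 3040) (.leaf (nat_lit 433)) (.leaf (nat_lit 5))) (.node (nat_lit 3208) (.leaf (nat_lit 433)) (.node (nat_lit 3365) (.leaf (nat_lit 5)) (.leaf (nat_lit 433)))))) (.node (nat_lit 4042) (.node (nat_lit 3864) (.node (nat_lit 3525) (.leaf (nat_lit 5)) (.leaf (nat_lit 433))) (.node (nat_lit 3925) (.leaf (nat_lit 5)) (.node (nat_lit 4020) (.leaf (nat_lit 433)) (.leaf (nat_lit 5))))) (.node (nat_lit 4177) (.node (nat_lit 4161) (.leaf (nat_lit 433)) (.leaf (nat_lit 5))) (.node (nat_lit 4256) (.leaf (nat_lit 433)) (.node (nat_lit 4437) (.leaf (nat_lit 5)) (.leaf (nat_lit 433)))))))) (.node (nat_lit 6483) (.node (nat_lit 5838) (.node (nat_lit 5024) (.node (nat_lit 4848) (.node (nat_lit 4704) (.leaf (nat_lit 5)) (.leaf (nat_lit 433))) (.node (nat_lit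 4871) (.leaf (nat_lit 5)) (.leaf (nat_lit 433)))) (.node (nat_lit 5408) (.node (nat_lit 5269) (.leaf (nat_lit 5)) (.leaf (nat_lit 433))) (.node (nat_lit 5511) (.leaf (nat_lit 5)) (.node (nat_lit 5795) (.leaf (nat_lit 433)) (.leaf (nat_lit 5)))))) (.node (nat_lit 6302) (.node (nat_lit 5886) (.node (nat_lit 5847) (.leaf (nat_lit 433)) (.leaf (nat_lit 5))) (.node (nat_lit 5919) (.leaf (nat_lit 433)) (.node (nat_lit 5948) (.leaf (nat_lit 5)) (.leaf (nat_lit 433))))) (.node (nat_lit 6350) (.node (nat_lit 6310) (.leaf (nat_lit 5)) (.leaf (nat_lit 433))) (.node (nat_lit 6399) (.leaf (nat_lit 5)) (.node (nat_lit 6419) (.leaf (nat_lit 433)) (.leaf (nat_lit 5))))))) (.node (nat_lit 7315) (.node (nat_lit 6724) (.node (nat_lit 6612) (.node (nat_lit 6595) (.leaf (nat_lit 433)) (.leaf (nat_lit 5))) (.node (nat_lit 6617) (.leaf (nat_lit 433)) (.node (nat_lit 6674) (.leaf (nat_lit 5)) (.leaf (nat_lit 433))))) (.node (nat_lit 6911) (.node (nat_lit 6880) (.leaf (nat_lit 5)) (.leaf (nat_lit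 433))) (.node (nat_lit 7257) (.leaf (nat_lit 5)) (.node (nat_lit 7278) (.leaf (nat_lit 433)) (.leaf (nat_lit 5)))))) (.node (nat_lit 7650) (.node (nat_lit 7398) (.node (nat_lit 7387) (.leaf (nat_lit 433)) (.leaf (nat_lit 5))) (.node (nat_lit 7471) (.leaf (nat_lit 433)) (.node (nat_lit 7492) (.leaf (nat_lit 5)) (.leaf (nat_lit 433))))) (.node (nat_lit 8042) (.node (nat_lit 7672) (.leaf (nat_lit 5)) (.leaf (nat_lit 433))) (.node (nat_lit 8047) (.leaf (nat_lit 5)) (.node (nat_lit 8200) (.leaf (nat_lit 433)) (.leaf (nat_lit 5))))))))) (.node (nat_lit 10997) (.node (nat_lit 9892) (.node (nat_lit 9280) (.node (nat_lit 8738) (.node (nat_lit 8495) (.node (nat_lit 8470) (.leaf (nat_lit 433)) (.leaf (nat_lit 5))) (.node (nat_lit 8673) (.leaf (nat_lit 433)) (.leaf (nat_lit 5)))) (.node (nat_lit 8841) (.node (nat_lit 8781) (.leaf (nat_lit 433)) (.leaf (nat_lit 5))) (.node (nat_lit 9047) (.leaf (nat_lit 433)) (.node (nat_lit 9273) (.leaf (nat_lit 5)) (.leaf (nat_lit 433)))))) (.node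 (nat_lit 9614) (.node (nat_lit 9355) (.node (nat_lit 9337) (.leaf (nat_lit 5)) (.leaf (nat_lit 0))) (.node (nat_lit 9383) (.leaf (nat_lit 433)) (.node (nat_lit 9567) (.leaf (nat_lit 5)) (.leaf (nat_lit 433))))) (.node (nat_lit 9689) (.node (nat_lit 9652) (.leaf (nat_lit 5)) (.leaf (nat_lit 433))) (.node (nat_lit 9749) (.leaf (nat_lit 5)) (.node (nat_lit 9786) (.leaf (nat_lit 433)) (.leaf (nat_lit 5))))))) (.node (nat_lit 10597) (.node (nat_lit 10151) (.node (nat_lit 9983) (.node (nat_lit 9976) (.leaf (nat_lit 433)) (.leaf (nat_lit 5))) (.node (nat_lit 10067) (.leaf (nat_lit 433)) (.node (nat_lit 10104) (.leaf (nat_lit 5)) (.leaf (nat_lit 433))))) (.node (nat_lit 10394) (.node (nat_lit 10224) (.leaf (nat_lit 5)) (.leaf (nat_lit 433))) (.node (nat_lit 10444) (.leaf (nat_lit 5)) (.node (nat_lit 10591) (.leaf (nat_lit 433)) (.leaf (nat_lit 5)))))) (.node (nat_lit 10801) (.node (nat_lit 10631) (.node (nat_lit 10605) (.leaf (nat_lit 433)) (.leaf (nat_lit 5))) (.node (nat_lit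 10723) (.leaf (nat_lit 433)) (.node (nat_lit 10764) (.leaf (nat_lit 5)) (.leaf (nat_lit 433))))) (.node (nat_lit 10854) (.node (nat_lit 10805) (.leaf (nat_lit 5)) (.leaf (nat_lit 433))) (.node (nat_lit 10857) (.leaf (nat_lit 5)) (.node (nat_lit 10970) (.leaf (nat_lit 433)) (.leaf (nat_lit 5)))))))) (.node (nat_lit 13484) (.node (nat_lit 12272) (.node (nat_lit 11606) (.node (nat_lit 11534) (.node (nat_lit 11251) (.leaf (nat_lit 433)) (.leaf (nat_lit 5))) (.node (nat_lit 11587) (.leaf (nat_lit 433)) (.leaf (nat_lit 5)))) (.node (nat_lit 11837) (.node (nat_lit 11796) (.leaf (nat_lit 433)) (.leaf (nat_lit 5))) (.node (nat_lit 11889) (.leaf (nat_lit 433)) (.node (nat_lit 12195) (.leaf (nat_lit 5)) (.leaf (nat_lit 433)))))) (.node (nat_lit 12638) (.node (nat_lit 12310) (.node (nat_lit 12280) (.leaf (nat_lit 5)) (.leaf (nat_lit 433))) (.node (nat_lit 12521) (.leaf (nat_lit 5)) (.node (nat_lit 12530) (.leaf (nat_lit 433)) (.leaf (nat_lit 5))))) (.node (nat_lit 12719) (.node (nat_lit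 12642) (.leaf (nat_lit 433)) (.leaf (nat_lit 5))) (.node (nat_lit 13011) (.leaf (nat_lit 433)) (.node (nat_lit 13243) (.leaf (nat_lit 5)) (.leaf (nat_lit 433))))))) (.node (nat_lit 14001) (.node (nat_lit 13663) (.node (nat_lit 13538) (.node (nat_lit 13522) (.leaf (nat_lit 5)) (.leaf (nat_lit 433))) (.node (nat_lit 13544) (.leaf (nat_lit 5)) (.node (nat_lit 13662) (.leaf (nat_lit 433)) (.leaf (nat_lit 5))))) (.node (nat_lit 13851) (.node (nat_lit 13689) (.leaf (nat_lit 433)) (.leaf (nat_lit 5))) (.node (nat_lit 13909) (.leaf (nat_lit 433)) (.node (nat_lit 14000) (.leaf (nat_lit 5)) (.leaf (nat_lit 433)))))) (.node (nat_lit 14349) (.node (nat_lit 14125) (.node (nat_lit 14117) (.leaf (nat_lit 5)) (.leaf (nat_lit 433))) (.node (nat_lit 14178) (.leaf (nat_lit 5)) (.node (nat_lit 14314) (.leaf (nat_lit 433)) (.leaf (nat_lit 5))))) (.node (nat_lit 14780) (.node (nat_lit 14753) (.leaf (nat_lit 433)) (.leaf (nat_lit 5))) (.node (nat_lit 14841) (.leaf (nat_lit 433)) (.node (nat_lit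 14884) (.leaf (nat_lit 5)) (.leaf (nat_lit 433)))))))))) (.node (nat_lit 21246) (.node (nat_lit 18452) (.node (nat_lit 17215) (.node (nat_lit 15929) (.node (nat_lit 15626) (.node (nat_lit 15334) (.node (nat_lit 15139) (.leaf (nat_lit 5)) (.leaf (nat_lit 433))) (.node (nat_lit 15429) (.leaf (nat_lit 5)) (.leaf (nat_lit 433)))) (.node (nat_lit 15721) (.node (nat_lit 15654) (.leaf (nat_lit 5)) (.leaf (nat_lit 433))) (.node (nat_lit 15819) (.leaf (nat_lit 5)) (.node (nat_lit 15840) (.leaf (nat_lit 433)) (.leaf (nat_lit 5)))))) (.node (nat_lit 16291) (.node (nat_lit 16001) (.node (nat_lit 15988) (.leaf (nat_lit 433)) (.leaf (nat_lit 5))) (.node (nat_lit 16018) (.leaf (nat_lit 433)) (.node (nat_lit 16063) (.leaf (nat_lit 5)) (.leaf (nat_lit 433))))) (.node (nat_lit 16812) (.node (nat_lit 16509) (.leaf (nat_lit 5)) (.leaf (nat_lit 433))) (.node (nat_lit 16982) (.leaf (nat_lit 5)) (.node (nat_lit 17122) (.leaf (nat_lit 433)) (.leaf (nat_lit 5))))))) (.node (nat_lit 17537) (.node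 (nat_lit 17352) (.node (nat_lit 17327) (.node (nat_lit 17284) (.leaf (nat_lit 433)) (.leaf (nat_lit 5))) (.node (nat_lit 17339) (.leaf (nat_lit 433)) (.leaf (nat_lit 5)))) (.node (nat_lit 17434) (.node (nat_lit 17391) (.leaf (nat_lit 433)) (.leaf (nat_lit 5))) (.node (nat_lit 17491) (.leaf (nat_lit 433)) (.node (nat_lit 17507) (.leaf (nat_lit 5)) (.leaf (nat_lit 433)))))) (.node (nat_lit 17796) (.node (nat_lit 17608) (.node (nat_lit 17591) (.leaf (nat_lit 5)) (.leaf (nat_lit 433))) (.node (nat_lit 17609) (.leaf (nat_lit 5)) (.node (nat_lit 17790) (.leaf (nat_lit 433)) (.leaf (nat_lit 5))))) (.node (nat_lit 17881) (.node (nat_lit 17812) (.leaf (nat_lit 433)) (.leaf (nat_lit 5))) (.node (nat_lit 18355) (.leaf (nat_lit 433)) (.node (nat_lit 18367) (.leaf (nat_lit 5)) (.leaf (nat_lit 433)))))))) (.node (nat_lit 19523) (.node (nat_lit 18955) (.node (nat_lit 18663) (.node (nat_lit 18486) (.node (nat_lit 18466) (.leaf (nat_lit 5)) (.leaf (nat_lit 433))) (.node (nat_lit 18569)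 (.leaf (nat_lit 5)) (.leaf (nat_lit 433)))) (.node (nat_lit 18786) (.node (nat_lit 18733) (.leaf (nat_lit 0)) (.leaf (nat_lit 5))) (.node (nat_lit 18889) (.leaf (nat_lit 433)) (.node (nat_lit 18925) (.leaf (nat_lit 5)) (.leaf (nat_lit 433)))))) (.node (nat_lit 19239) (.node (nat_lit 18994) (.node (nat_lit 18983) (.leaf (nat_lit 5)) (.leaf (nat_lit 433))) (.node (nat_lit 19049) (.leaf (nat_lit 5)) (.node (nat_lit 19195) (.leaf (nat_lit 433)) (.leaf (nat_lit 5))))) (.node (nat_lit 19405) (.node (nat_lit 19393) (.leaf (nat_lit 433)) (.leaf (nat_lit 5))) (.node (nat_lit 19408) (.leaf (nat_lit 433)) (.node (nat_lit 19477) (.leaf (nat_lit 5)) (.leaf (nat_lit 433))))))) (.node (nat_lit 20411) (.node (nat_lit 20052) (.node (nat_lit 19739) (.node (nat_lit 19634) (.leaf (nat_lit 5)) (.leaf (nat_lit 433))) (.node (nat_lit 19869) (.leaf (nat_lit 5)) (.node (nat_lit 19951) (.leaf (nat_lit 433)) (.leaf (nat_lit 5))))) (.node (nat_lit 20179) (.node (nat_lit 20088) (.leaf (nat_lit 433))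 (.leaf (nat_lit 5))) (.node (nat_lit 20249) (.leaf (nat_lit 433)) (.node (nat_lit 20305) (.leaf (nat_lit 5)) (.leaf (nat_lit 433)))))) (.node (nat_lit 20720) (.node (nat_lit 20600) (.node (nat_lit 20451) (.leaf (nat_lit 5)) (.leaf (nat_lit 433))) (.node (nat_lit 20647) (.leaf (nat_lit 5)) (.node (nat_lit 20706) (.leaf (nat_lit 433)) (.leaf (nat_lit 5))))) (.node (nat_lit 21080) (.node (nat_lit 20743) (.leaf (nat_lit 433)) (.leaf (nat_lit 5))) (.node (nat_lit 21108) (.leaf (nat_lit 433)) (.node (nat_lit 21210) (.leaf (nat_lit 5)) (.leaf (nat_lit 433))))))))) (.node (nat_lit 24837) (.node (nat_lit 22906) (.node (nat_lit 21960) (.node (nat_lit 21529) (.node (nat_lit 21386) (.node (nat_lit 21324) (.leaf (nat_lit 5)) (.leaf (nat_lit 433))) (.node (nat_lit 21522) (.leaf (nat_lit 5)) (.leaf (nat_lit 433)))) (.node (nat_lit 21704) (.node (nat_lit 21594) (.leaf (nat_lit 5)) (.leaf (nat_lit 433))) (.node (nat_lit 21725) (.leaf (nat_lit 5)) (.node (nat_lit 21760) (.leaf (nat_lit 433))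 (.leaf (nat_lit 5)))))) (.node (nat_lit 22614) (.node (nat_lit 22242) (.node (nat_lit 22145) (.leaf (nat_lit 433)) (.leaf (nat_lit 5))) (.node (nat_lit 22477) (.leaf (nat_lit 433)) (.node (nat_lit 22583) (.leaf (nat_lit 5)) (.leaf (nat_lit 433))))) (.node (nat_lit 22818) (.node (nat_lit 22788) (.leaf (nat_lit 5)) (.leaf (nat_lit 433))) (.node (nat_lit 22829) (.leaf (nat_lit 5)) (.node (nat_lit 22874) (.leaf (nat_lit 433)) (.leaf (nat_lit 5))))))) (.node (nat_lit 23939) (.node (nat_lit 23351) (.node (nat_lit 23221) (.node (nat_lit 23037) (.leaf (nat_lit 433)) (.leaf (nat_lit 5))) (.node (nat_lit 23305) (.leaf (nat_lit 433)) (.node (nat_lit 23346) (.leaf (nat_lit 5)) (.leaf (nat_lit 433))))) (.node (nat_lit 23558) (.node (nat_lit 23358) (.leaf (nat_lit 5)) (.leaf (nat_lit 433))) (.node (nat_lit 23597) (.leaf (nat_lit 5)) (.node (nat_lit 23607) (.leaf (nat_lit 433)) (.leaf (nat_lit 5)))))) (.node (nat_lit 24287) (.node (nat_lit 24105) (.node (nat_lit 23982) (.leaf (nat_lit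 433)) (.leaf (nat_lit 5))) (.node (nat_lit 24226) (.leaf (nat_lit 433)) (.node (nat_lit 24265) (.leaf (nat_lit 5)) (.leaf (nat_lit 433))))) (.node (nat_lit 24429) (.node (nat_lit 24398) (.leaf (nat_lit 5)) (.leaf (nat_lit 433))) (.node (nat_lit 24444) (.leaf (nat_lit 5)) (.node (nat_lit 24549) (.leaf (nat_lit 433)) (.leaf (nat_lit 5)))))))) (.node (nat_lit 27200) (.node (nat_lit 25993) (.node (nat_lit 25454) (.node (nat_lit 25359) (.node (nat_lit 25306) (.leaf (nat_lit 433)) (.leaf (nat_lit 5))) (.node (nat_lit 25431) (.leaf (nat_lit 433)) (.leaf (nat_lit 5)))) (.node (nat_lit 25567) (.node (nat_lit 25465) (.leaf (nat_lit 433)) (.leaf (nat_lit 5))) (.node (nat_lit 25677) (.leaf (nat_lit 433)) (.node (nat_lit 25697) (.leaf (nat_lit 5)) (.leaf (nat_lit 433)))))) (.node (nat_lit 26488) (.node (nat_lit 26121) (.node (nat_lit 26035) (.leaf (nat_lit 5)) (.leaf (nat_lit 433))) (.node (nat_lit 26274) (.leaf (nat_lit 5)) (.node (nat_lit 26370) (.leaf (nat_lit 433)) (.leaf (nat_lit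 5))))) (.node (nat_lit 26956) (.node (nat_lit 26865) (.leaf (nat_lit 433)) (.leaf (nat_lit 5))) (.node (nat_lit 26971) (.leaf (nat_lit 433)) (.node (nat_lit 27123) (.leaf (nat_lit 5)) (.leaf (nat_lit 433))))))) (.node (nat_lit 28220) (.node (nat_lit 27677) (.node (nat_lit 27348) (.node (nat_lit 27270) (.leaf (nat_lit 5)) (.leaf (nat_lit 433))) (.node (nat_lit 27402) (.leaf (nat_lit 5)) (.node (nat_lit 27616) (.leaf (nat_lit 433)) (.leaf (nat_lit 5))))) (.node (nat_lit 28003) (.node (nat_lit 27732) (.leaf (nat_lit 433)) (.leaf (nat_lit 5))) (.node (nat_lit 28112) (.leaf (nat_lit 433)) (.node (nat_lit 28176) (.leaf (nat_lit 5)) (.leaf (nat_lit 433)))))) (.node (nat_lit 29010) (.node (nat_lit 28567) (.node (nat_lit 28335) (.leaf (nat_lit 5)) (.leaf (nat_lit 433))) (.node (nat_lit 28708) (.leaf (nat_lit 5)) (.node (nat_lit 28772) (.leaf (nat_lit 433)) (.leaf (nat_lit 5))))) (.node (nat_lit 29155) (.node (nat_lit 29122) (.leaf (nat_lit 433)) (.leaf (nat_lit 5))) (.node (nat_lit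 29198) (.leaf (nat_lit 433)) (.node (nat_lit 29539) (.leaf (nat_lit 5)) (.leaf (nat_lit 433)))))))))))
noncomputable def P2_soc_t1 : ST := (.node (nat_lit 19310) (.node (nat_lit 10349) (.node (nat_lit 5140) (.node (nat_lit 2817) (.node (nat_lit 1094) (.node (nat_lit 396) (.node (nat_lit 113) (.node (nat_lit 32) (.leaf (nat_lit 27)) (.leaf (nat_lit 433))) (.node (nat_lit 149) (.leaf (nat_lit 216)) (.leaf (nat_lit 27)))) (.node (nat_lit 717) (.node (nat_lit 514) (.leaf (nat_lit 433)) (.leaf (nat_lit 27))) (.node (nat_lit 769) (.leaf (nat_lit 216)) (.leaf (nat_lit 27))))) (.node (nat_lit 1967) (.node (nat_lit 1440) (.node (nat_lit 1187) (.leaf (nat_lit 216)) (.leaf (nat_lit 27))) (.node (nat_lit 1626) (.leaf (nat_lit 5)) (.leaf (nat_lit 27)))) (.node (nat_lit 2439) (.node (nat_lit 2005) (.leaf (nat_lit 216)) (.leaf (nat_lit 27))) (.node (nat_lit 2441) (.leaf (nat_lit 5)) (.node (nat_lit 2796) (.leaf (nat_lit 27)) (.leaf (nat_lit 0))))))) (.node (nat_lit 3939) (.node (nat_lit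 3663) (.node (nat_lit 3499) (.node (nat_lit 3497) (.leaf (nat_lit 27)) (.leaf (nat_lit 216))) (.node (nat_lit 3660) (.leaf (nat_lit 27)) (.leaf (nat_lit 433)))) (.node (nat_lit 3776) (.node (nat_lit 3765) (.leaf (nat_lit 27)) (.leaf (nat_lit 216))) (.node (nat_lit 3860) (.leaf (nat_lit 433)) (.node (nat_lit 3921) (.leaf (nat_lit 27)) (.leaf (nat_lit 216)))))) (.node (nat_lit 4534) (.node (nat_lit 4216) (.node (nat_lit 4147) (.leaf (nat_lit 27)) (.leaf (nat_lit 216))) (.node (nat_lit 4433) (.leaf (nat_lit 27)) (.leaf (nat_lit 216)))) (.node (nat_lit 4626) (.node (nat_lit 4621) (.leaf (nat_lit 27)) (.leaf (nat_lit 216))) (.node (nat_lit 4848) (.leaf (nat_lit 27)) (.node (nat_lit 5063) (.leaf (nat_lit 216)) (.leaf (nat_lit 433)))))))) (.node (nat_lit 8386) (.node (nat_lit 7310) (.node (nat_lit 6221) (.node (nat_lit 5977) (.node (nat_lit 5639) (.leaf (nat_lit 27)) (.leaf (nat_lit 433))) (.node (nat_lit 6037) (.leaf (nat_lit 27)) (.leaf (nat_lit 216)))) (.node (nat_lit 6626)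 (.node (nat_lit 6583) (.leaf (nat_lit 27)) (.leaf (nat_lit 216))) (.node (nat_lit 7207) (.leaf (nat_lit 27)) (.node (nat_lit 7300) (.leaf (nat_lit 433)) (.leaf (nat_lit 27)))))) (.node (nat_lit 7701) (.node (nat_lit 7471) (.node (nat_lit 7313) (.leaf (nat_lit 216)) (.leaf (nat_lit 27))) (.node (nat_lit 7479) (.leaf (nat_lit 216)) (.leaf (nat_lit 27)))) (.node (nat_lit 8278) (.node (nat_lit 7873) (.leaf (nat_lit 216)) (.leaf (nat_lit 27))) (.node (nat_lit 8337) (.leaf (nat_lit 216)) (.node (nat_lit 8352) (.leaf (nat_lit 27)) (.leaf (nat_lit 433))))))) (.node (nat_lit 9430) (.node (nat_lit 9201) (.node (nat_lit 8690) (.node (nat_lit 8626) (.leaf (nat_lit 27)) (.leaf (nat_lit 216))) (.node (nat_lit 9159) (.leaf (nat_lit 27)) (.leaf (nat_lit 433)))) (.node (nat_lit 9239) (.node (nat_lit 9216) (.leaf (nat_lit 216)) (.leaf (nat_lit 433))) (.node (nat_lit 9306) (.leaf (nat_lit 216)) (.node (nat_lit 9415) (.leaf (nat_lit 27)) (.leaf (nat_lit 433)))))) (.node (nat_lit 10060) (.node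 (nat_lit 9561) (.node (nat_lit 9542) (.leaf (nat_lit 27)) (.leaf (nat_lit 216))) (.node (nat_lit 10035) (.leaf (nat_lit 27)) (.leaf (nat_lit 216)))) (.node (nat_lit 10074) (.node (nat_lit 10068) (.leaf (nat_lit 433)) (.leaf (nat_lit 216))) (.node (nat_lit 10279) (.leaf (nat_lit 27)) (.node (nat_lit 10336) (.leaf (nat_lit 433)) (.leaf (nat_lit 1))))))))) (.node (nat_lit 15282) (.node (nat_lit 12204) (.node (nat_lit 11024) (.node (nat_lit 10580) (.node (nat_lit 10457) (.node (nat_lit 10445) (.leaf (nat_lit 27)) (.leaf (nat_lit 216))) (.node (nat_lit 10535) (.leaf (nat_lit 27)) (.leaf (nat_lit 433)))) (.node (nat_lit 10584) (.node (nat_lit 10581) (.leaf (nat_lit 216)) (.leaf (nat_lit 27))) (.node (nat_lit 10771) (.leaf (nat_lit 216)) (.leaf (nat_lit 27))))) (.node (nat_lit 11366) (.node (nat_lit 11096) (.node (nat_lit 11063) (.leaf (nat_lit 216)) (.leaf (nat_lit 27))) (.node (nat_lit 11296) (.leaf (nat_lit 216)) (.leaf (nat_lit 433)))) (.node (nat_lit 11522) (.node (nat_lit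 11512) (.leaf (nat_lit 27)) (.leaf (nat_lit 216))) (.node (nat_lit 11706) (.leaf (nat_lit 27)) (.node (nat_lit 11748) (.leaf (nat_lit 216)) (.leaf (nat_lit 27))))))) (.node (nat_lit 14579) (.node (nat_lit 13455) (.node (nat_lit 12474) (.node (nat_lit 12324) (.leaf (nat_lit 433)) (.leaf (nat_lit 27))) (.node (nat_lit 12618) (.leaf (nat_lit 216)) (.leaf (nat_lit 27)))) (.node (nat_lit 13678) (.node (nat_lit 13538) (.leaf (nat_lit 216)) (.leaf (nat_lit 27))) (.node (nat_lit 13722) (.leaf (nat_lit 216)) (.node (nat_lit 14540) (.leaf (nat_lit 27)) (.leaf (nat_lit 1)))))) (.node (nat_lit 14693) (.node (nat_lit 14647) (.node (nat_lit 14615) (.leaf (nat_lit 27)) (.leaf (nat_lit 216))) (.node (nat_lit 14673) (.leaf (nat_lit 27)) (.leaf (nat_lit 216)))) (.node (nat_lit 14794) (.node (nat_lit 14727) (.leaf (nat_lit 27)) (.leaf (nat_lit 433))) (.node (nat_lit 14988) (.leaf (nat_lit 27)) (.node (nat_lit 14997) (.leaf (nat_lit 433)) (.leaf (nat_lit 27)))))))) (.node (nat_lit 16974) (.node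 (nat_lit 16143) (.node (nat_lit 15724) (.node (nat_lit 15386) (.node (nat_lit 15311) (.leaf (nat_lit 216)) (.leaf (nat_lit 27))) (.node (nat_lit 15512) (.leaf (nat_lit 216)) (.leaf (nat_lit 27)))) (.node (nat_lit 15925) (.node (nat_lit 15763) (.leaf (nat_lit 433)) (.leaf (nat_lit 27))) (.node (nat_lit 16096) (.leaf (nat_lit 216)) (.node (nat_lit 16103) (.leaf (nat_lit 1)) (.leaf (nat_lit 433)))))) (.node (nat_lit 16327) (.node (nat_lit 16198) (.node (nat_lit 16152) (.leaf (nat_lit 216)) (.leaf (nat_lit 27))) (.node (nat_lit 16200) (.leaf (nat_lit 216)) (.leaf (nat_lit 27)))) (.node (nat_lit 16711) (.node (nat_lit 16331) (.leaf (nat_lit 1)) (.leaf (nat_lit 27))) (.node (nat_lit 16770) (.leaf (nat_lit 1)) (.node (nat_lit 16854) (.leaf (nat_lit 27)) (.leaf (nat_lit 216))))))) (.node (nat_lit 18633) (.node (nat_lit 17772) (.node (nat_lit 17431) (.node (nat_lit 17334) (.leaf (nat_lit 27)) (.leaf (nat_lit 216))) (.node (nat_lit 17536) (.leaf (nat_lit 27)) (.leaf (nat_lit 433))))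 (.node (nat_lit 18176) (.node (nat_lit 17828) (.leaf (nat_lit 5)) (.leaf (nat_lit 27))) (.node (nat_lit 18212) (.leaf (nat_lit 433)) (.node (nat_lit 18631) (.leaf (nat_lit 27)) (.leaf (nat_lit 433)))))) (.node (nat_lit 18945) (.node (nat_lit 18756) (.node (nat_lit 18732) (.leaf (nat_lit 27)) (.leaf (nat_lit 433))) (.node (nat_lit 18777) (.leaf (nat_lit 27)) (.leaf (nat_lit 216)))) (.node (nat_lit 19027) (.node (nat_lit 19014) (.leaf (nat_lit 27)) (.leaf (nat_lit 216))) (.node (nat_lit 19232) (.leaf (nat_lit 27)) (.node (nat_lit 19246) (.leaf (nat_lit 5)) (.leaf (nat_lit 27)))))))))) (.node (nat_lit 29225) (.node (nat_lit 23111) (.node (nat_lit 20659) (.node (nat_lit 20044) (.node (nat_lit 19808) (.node (nat_lit 19365) (.node (nat_lit 19363) (.leaf (nat_lit 216)) (.leaf (nat_lit 27))) (.node (nat_lit 19378) (.leaf (nat_lit 216)) (.leaf (nat_lit 27)))) (.node (nat_lit 20012) (.node (nat_lit 19947) (.leaf (nat_lit 433)) (.leaf (nat_lit 27))) (.node (nat_lit 20015) (.leaf (nat_lit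 433)) (.leaf (nat_lit 27))))) (.node (nat_lit 20377) (.node (nat_lit 20161) (.node (nat_lit 20056) (.leaf (nat_lit 433)) (.leaf (nat_lit 216))) (.node (nat_lit 20268) (.leaf (nat_lit 27)) (.leaf (nat_lit 433)))) (.node (nat_lit 20516) (.node (nat_lit 20460) (.leaf (nat_lit 27)) (.leaf (nat_lit 433))) (.node (nat_lit 20608) (.leaf (nat_lit 27)) (.node (nat_lit 20645) (.leaf (nat_lit 433)) (.leaf (nat_lit 216))))))) (.node (nat_lit 21968) (.node (nat_lit 21261) (.node (nat_lit 21009) (.node (nat_lit 21006) (.leaf (nat_lit 27)) (.leaf (nat_lit 216))) (.node (nat_lit 21127) (.leaf (nat_lit 27)) (.leaf (nat_lit 0)))) (.node (nat_lit 21448) (.node (nat_lit 21304) (.leaf (nat_lit 216)) (.leaf (nat_lit 27))) (.node (nat_lit 21488) (.leaf (nat_lit 216)) (.node (nat_lit 21914) (.leaf (nat_lit 27)) (.leaf (nat_lit 216)))))) (.node (nat_lit 22567) (.node (nat_lit 22092) (.node (nat_lit 22071) (.leaf (nat_lit 27)) (.leaf (nat_lit 216))) (.node (nat_lit 22145) (.leaf (nat_lit 1)) (.leaf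 (nat_lit 27)))) (.node (nat_lit 22784) (.node (nat_lit 22579) (.leaf (nat_lit 433)) (.leaf (nat_lit 27))) (.node (nat_lit 23008) (.leaf (nat_lit 433)) (.node (nat_lit 23017) (.leaf (nat_lit 1)) (.leaf (nat_lit 27)))))))) (.node (nat_lit 26254) (.node (nat_lit 25202) (.node (nat_lit 23873) (.node (nat_lit 23117) (.node (nat_lit 23112) (.leaf (nat_lit 433)) (.leaf (nat_lit 216))) (.node (nat_lit 23788) (.leaf (nat_lit 27)) (.leaf (nat_lit 433)))) (.node (nat_lit 24210) (.node (nat_lit 23948) (.leaf (nat_lit 27)) (.leaf (nat_lit 433))) (.node (nat_lit 24576) (.leaf (nat_lit 27)) (.node (nat_lit 24742) (.leaf (nat_lit 433)) (.leaf (nat_lit 27)))))) (.node (nat_lit 25668) (.node (nat_lit 25568) (.node (nat_lit 25210) (.leaf (nat_lit 216)) (.leaf (nat_lit 27))) (.node (nat_lit 25626) (.leaf (nat_lit 433)) (.leaf (nat_lit 216)))) (.node (nat_lit 25971) (.node (nat_lit 25929) (.leaf (nat_lit 27)) (.leaf (nat_lit 216))) (.node (nat_lit 26098) (.leaf (nat_lit 27)) (.node (nat_lit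 26197) (.leaf (nat_lit 216)) (.leaf (nat_lit 27))))))) (.node (nat_lit 28211) (.node (nat_lit 27078) (.node (nat_lit 26816) (.node (nat_lit 26377) (.leaf (nat_lit 216)) (.leaf (nat_lit 27))) (.node (nat_lit 26859) (.leaf (nat_lit 433)) (.leaf (nat_lit 27)))) (.node (nat_lit 27703) (.node (nat_lit 27225) (.leaf (nat_lit 216)) (.leaf (nat_lit 27))) (.node (nat_lit 27811) (.leaf (nat_lit 216)) (.node (nat_lit 28102) (.leaf (nat_lit 27)) (.leaf (nat_lit 216)))))) (.node (nat_lit 28404) (.node (nat_lit 28239) (.node (nat_lit 28212) (.leaf (nat_lit 27)) (.leaf (nat_lit 216))) (.node (nat_lit 28377) (.leaf (nat_lit 27)) (.leaf (nat_lit 216)))) (.node (nat_lit 28462) (.node (nat_lit 28409) (.leaf (nat_lit 27)) (.leaf (nat_lit 216))) (.node (nat_lit 28854) (.leaf (nat_lit 27)) (.node (nat_lit 29128) (.leaf (nat_lit 216)) (.leaf (nat_lit 27))))))))) (.node (nat_lit 33390) (.node (nat_lit 31308) (.node (nat_lit 30067) (.node (nat_lit 29516) (.node (nat_lit 29456) (.node (nat_lit 29366)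 (.leaf (nat_lit 216)) (.leaf (nat_lit 27))) (.node (nat_lit 29481) (.leaf (nat_lit 216)) (.leaf (nat_lit 27)))) (.node (nat_lit 29610) (.node (nat_lit 29589) (.leaf (nat_lit 1)) (.leaf (nat_lit 216))) (.node (nat_lit 30066) (.leaf (nat_lit 27)) (.leaf (nat_lit 216))))) (.node (nat_lit 30477) (.node (nat_lit 30315) (.node (nat_lit 30272) (.leaf (nat_lit 27)) (.leaf (nat_lit 433))) (.node (nat_lit 30471) (.leaf (nat_lit 27)) (.leaf (nat_lit 433)))) (.node (nat_lit 30662) (.node (nat_lit 30643) (.leaf (nat_lit 27)) (.leaf (nat_lit 216))) (.node (nat_lit 31120) (.leaf (nat_lit 27)) (.node (nat_lit 31235) (.leaf (nat_lit 216)) (.leaf (nat_lit 27))))))) (.node (nat_lit 32182) (.node (nat_lit 31776) (.node (nat_lit 31623) (.node (nat_lit 31313) (.leaf (nat_lit 433)) (.leaf (nat_lit 27))) (.node (nat_lit 31693) (.leaf (nat_lit 5)) (.leaf (nat_lit 27)))) (.node (nat_lit 32065) (.node (nat_lit 31949) (.leaf (nat_lit 433)) (.leaf (nat_lit 216))) (.node (nat_lit 32103) (.leaf (nat_lit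 27)) (.node (nat_lit 32141) (.leaf (nat_lit 433)) (.leaf (nat_lit 216)))))) (.node (nat_lit 32672) (.node (nat_lit 32494) (.node (nat_lit 32327) (.leaf (nat_lit 27)) (.leaf (nat_lit 1))) (.node (nat_lit 32632) (.leaf (nat_lit 27)) (.leaf (nat_lit 216)))) (.node (nat_lit 32897) (.node (nat_lit 32729) (.leaf (nat_lit 433)) (.leaf (nat_lit 216))) (.node (nat_lit 32940) (.leaf (nat_lit 27)) (.node (nat_lit 32943) (.leaf (nat_lit 433)) (.leaf (nat_lit 27)))))))) (.node (nat_lit 35056) (.node (nat_lit 34483) (.node (nat_lit 33829) (.node (nat_lit 33484) (.node (nat_lit 33410) (.leaf (nat_lit 216)) (.leaf (nat_lit 27))) (.node (nat_lit 33556) (.leaf (nat_lit 433)) (.leaf (nat_lit 27)))) (.node (nat_lit 34343) (.node (nat_lit 33938) (.leaf (nat_lit 216)) (.leaf (nat_lit 27))) (.node (nat_lit 34377) (.leaf (nat_lit 433)) (.node (nat_lit 34411) (.leaf (nat_lit 216)) (.leaf (nat_lit 27)))))) (.node (nat_lit 34680) (.node (nat_lit 34540) (.node (nat_lit 34488) (.leaf (nat_lit 216))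 (.leaf (nat_lit 27))) (.node (nat_lit 34546) (.leaf (nat_lit 5)) (.leaf (nat_lit 27)))) (.node (nat_lit 34725) (.node (nat_lit 34693) (.leaf (nat_lit 216)) (.leaf (nat_lit 27))) (.node (nat_lit 34840) (.leaf (nat_lit 216)) (.node (nat_lit 35015) (.leaf (nat_lit 27)) (.leaf (nat_lit 433))))))) (.node (nat_lit 35713) (.node (nat_lit 35286) (.node (nat_lit 35213) (.node (nat_lit 35208) (.leaf (nat_lit 27)) (.leaf (nat_lit 216))) (.node (nat_lit 35276) (.leaf (nat_lit 27)) (.leaf (nat_lit 433)))) (.node (nat_lit 35407) (.node (nat_lit 35400) (.leaf (nat_lit 27)) (.leaf (nat_lit 216))) (.node (nat_lit 35507) (.leaf (nat_lit 27)) (.node (nat_lit 35616) (.leaf (nat_lit 216)) (.leaf (nat_lit 433)))))) (.node (nat_lit 35834) (.node (nat_lit 35800) (.node (nat_lit 35764) (.leaf (nat_lit 27)) (.leaf (nat_lit 216))) (.node (nat_lit 35824) (.leaf (nat_lit 27)) (.leaf (nat_lit 216)))) (.node (nat_lit 36058) (.node (nat_lit 35961) (.leaf (nat_lit 27)) (.leaf (nat_lit 216))) (.node (nat_lit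 36064) (.leaf (nat_lit 27)) (.node (nat_lit 36182) (.leaf (nat_lit 433)) (.leaf (nat_lit 216)))))))))))
noncomputable def P2_soc_F : Fm := (.all P2_L (.or (.qf (.eq (.v (nat_lit 0)) .one)) (.exF P2_L (fun cs => P2_soc_t1.find (Nat.mod (nth (nat_lit 0) cs (nat_lit 0)) (nat_lit 36224))) (.exF P2_L (fun cs => P2_soc_t0.find (Nat.mod (Nat.add (nth (nat_lit 0) cs (nat_lit 0)) (Nat.mul (nat_lit 7919) (nth (nat_lit 0) cs (nat_lit 1)))) (nat_lit 29699))) (.qf (.or (.eq (.mul (.mul (.v (nat_lit 0)) (.v (nat_lit 2))) (.inv (.v (nat_lit 0)))) (.mul (.mul (.v (nat_lit 4)) (.v (nat_lit 6))) (.v (nat_lit 8)))) (.or (.eq (.mul (.mul (.v (nat_lit 0)) (.v (nat_lit 2))) (.inv (.v (nat_lit 0)))) (.inv (.mul (.mul (.v (nat_lit 4)) (.v (nat_lit 6))) (.v (nat_lit 8))))) (.or (.eq (.mul (.mul (.v (nat_lit 0)) (.mul (.mul (.mul (.v (nat_lit 2)) (.v (nat_lit 1))) (.inv (.v (nat_lit 2)))) (.inv (.v (nat_lit 1))))) (.inv (.v (nat_lit 0)))) (.mul (.mul (.v (nat_lit 4)) (.v (nat_lit 6))) (.v (nat_lit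 8)))) (.or (.eq (.mul (.mul (.v (nat_lit 0)) (.mul (.mul (.mul (.v (nat_lit 2)) (.v (nat_lit 1))) (.inv (.v (nat_lit 2)))) (.inv (.v (nat_lit 1))))) (.inv (.v (nat_lit 0)))) (.inv (.mul (.mul (.v (nat_lit 4)) (.v (nat_lit 6))) (.v (nat_lit 8))))) (.or (.eq (.mul (.mul (.mul (.mul (.mul (.mul (.v (nat_lit 2)) (.v (nat_lit 1))) (.inv (.v (nat_lit 2)))) (.inv (.v (nat_lit 1)))) (.v (nat_lit 0))) (.inv (.mul (.mul (.mul (.v (nat_lit 2)) (.v (nat_lit 1))) (.inv (.v (nat_lit 2)))) (.inv (.v (nat_lit 1)))))) (.inv (.v (nat_lit 0)))) (.mul (.mul (.v (nat_lit 4)) (.v (nat_lit 6))) (.v (nat_lit 8)))) (.eq (.mul (.mul (.mul (.mul (.mul (.mul (.v (nat_lit 2)) (.v (nat_lit 1))) (.inv (.v (nat_lit 2)))) (.inv (.v (nat_lit 1)))) (.v (nat_lit 0))) (.inv (.mul (.mul (.mul (.v (nat_lit 2)) (.v (nat_lit 1))) (.inv (.v (nat_lit 2)))) (.inv (.v (nat_lit 1)))))) (.inv (.v (nat_lit 0)))) (.inv (.mul (.mul (.v (nat_lit 4)) (.v (nat_lit 6))) (.v (nat_lit 8)))))))))))))))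
theorem P2_soc_chk : Fm.chk P2_o P2_soc_F P2_cs = true := by decide +kernel
theorem P2_soc {G : Type*} [Group G] {R : ℕ → G → Prop} {t a a_i b b_i e e_i x x_i q q_i : G} {H : Subgroup G}
    (M : Mdl P2_o P2_cs P2_L R [t, a, a_i, b, b_i, e, e_i, x, x_i, q, q_i] H) :
    ∀ y_ ∈ H, y_ = 1 ∨ (∃ q_ ∈ H, ∃ k_ ∈ H, k_ * y_ * k_⁻¹ = a * b * e ∨ k_ * y_ * k_⁻¹ = (a * b * e)⁻¹ ∨ k_ * ⁅y_, q_⁆ * k_⁻¹ = a * b * e ∨ k_ * ⁅y_, q_⁆ * k_⁻¹ = (a * b * e)⁻¹ ∨ ⁅⁅y_, q_⁆, k_⁆ = a * b * e ∨ ⁅⁅y_, q_⁆, k_⁆ = (a * b * e)⁻¹) :=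
  have h : ∀ y_, InL P2_o R P2_L y_ → y_ = 1 ∨ (Good P2_o R P2_L → prods P2_o P2_L P2_o.one ≠ [] → ∃ q_, InL P2_o R P2_L q_ ∧ (Good P2_o R P2_L → prods P2_o P2_L P2_o.one ≠ [] → ∃ k_, InL P2_o R P2_L k_ ∧ (k_ * y_ * k_⁻¹ = a * b * e ∨ k_ * y_ * k_⁻¹ = (a * b * e)⁻¹ ∨ k_ * ⁅y_, q_⁆ * k_⁻¹ = a * b * e ∨ k_ * ⁅y_, q_⁆ * k_⁻¹ = (a * b * e)⁻¹ ∨ ⁅⁅y_, q_⁆, k_⁆ = a * b * e ∨ ⁅⁅y_, q_⁆, k_⁆ = (a * b * e)⁻¹))) :=
    Fm.sound M.μ P2_soc_F P2_soc_chk M.reps
  (fun y_ h0 => (Or.imp (fun h1 => h1) (fun h1 => (Exists.imp (fun q_ h2 => ⟨M.H.iff.1 h2.1, (Exists.imp (fun k_ h3 => ⟨M.H.iff.1 h3.1, h3.2⟩) (h2.2 M.H.good M.H.ne))⟩) (h1 M.H.good M.H.ne))) (h y_ (M.H.iff.2 h0))))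
theorem P2_mdl {G : Type*} [Group G] {t a b e x q : G}
    (h : B1 a b e x t)
    (l : Q1 a b e x t q)
    (n1 : a * b * e ≠ 1) (n2 : (a * b * e)⁻¹ ≠ 1) :
    ∃ R, Mdl P2_o P2_cs P2_L R [t, a, a⁻¹, b, b⁻¹, e, e⁻¹, x, x⁻¹, q, q⁻¹] (sp [t, a, a⁻¹, b, b⁻¹, e, e⁻¹, x, x⁻¹, q, q⁻¹]) ∧ #(sp [t, a, a⁻¹, b, b⁻¹, e, e⁻¹, x, x⁻¹, q, q⁻¹]) = 648 :=
  mdl_of P2_P rfl (P2_r h l) (.mul (.mul (.v (nat_lit 1)) (.v (nat_lit 3))) (.v (nat_lit 5))) (.inv (.mul (.mul (.v (nat_lit 1)) (.v (nat_lit 3))) (.v (nat_lit 5)))) n1 n2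
    fun _ ms _ M hl => match ms, M, (hl : ms.length = 11) with
      | [_, _, _, _, _, _, _, _, _, _, _], M, _ => P2_soc M
noncomputable def P2_lJ : List ℕ := [(nat_lit 0x6b38bdab49ca307b9ac5a928398a418820), (nat_lit 0x6b2f8dab49a5d045dab19cd8248aa60041), (nat_lit 0x66d8bea05aca337ba8a38528119a022d83), (nat_lit 0x4272c55ba2ddf44a2cc5aa263bb2418820), (nat_lit 0x6b2875ab499af0c45a36124f524a758402), (nat_lit 0x66cf8ea05aa5d345e87208d8049a150d6c), (nat_lit 0x42697d5ba2c514362cb19dd225f2a60041), (nat_lit 0x5b58be66d84a357b8a11312859a8301d44), (nat_lit 0x4eb2c42996dde54a34a3862613ac022d83), (nat_lit 0x50b7936d0ce13a89aac5a9ee3a26418820), (nat_lit 0x66c876a05a9af3c46845024f0a5a23b06b), (nat_lit 0x4266455ba2bb1493ec3612e95472758402), (nat_lit 0x5b4f8e66d825d545ca202cd81ca8c090ea), (nat_lit 0x4ea97c2996c50536347209d205ec150d6c), (nat_lit 0x50b14b6d0cbcda74aab19d172626a60041), (nat_lit 0x5612c4cb6a5ded4a321132265bb4301d44), (nat_lit 0x15b795353b613989a0a385ee122a022d83), (nat_lit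 0x5b487666d81af5c44a008e4f6268b12887), (nat_lit 0x4ea6442996bb0593f44502e90c6c23b06b), (nat_lit 0x50ae336d0ca25aba6a36131153e6758402), (nat_lit 0x56097ccb6a450d3632202dd21df4c090ea), (nat_lit 0x15b14d353b3cd974a0720917062a150d6c), (nat_lit 0x369791735d613689a61131ee5a20301d44), (nat_lit 0x560644cb6a3b0d93f2008ee96474b12887), (nat_lit 0x15ae35353b2259ba604503110bea23b06b), (nat_lit 0x369149735d3cd674a6202d171e20c090ea), (nat_lit 0x368e31735d2256ba66008f1163e0b12887)]
noncomputable def P2_lJ_W : List (List ℕ) := [[],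
  [(nat_lit 0)],
  [(nat_lit 1)],
  [(nat_lit 2)],
  [(nat_lit 0), (nat_lit 0)],
  [(nat_lit 0), (nat_lit 1)],
  [(nat_lit 0), (nat_lit 2)],
  [(nat_lit 1), (nat_lit 1)],
  [(nat_lit 1), (nat_lit 2)],
  [(nat_lit 2), (nat_lit 2)],
  [(nat_lit 0), (nat_lit 0), (nat_lit 1)],
  [(nat_lit 0), (nat_lit 0), (nat_lit 2)],
  [(nat_lit 0), (nat_lit 1), (nat_lit 1)],
  [(nat_lit 0), (nat_lit 1), (nat_lit 2)],
  [(nat_lit 0), (nat_lit 2), (nat_lit 2)],
  [(nat_lit 1), (nat_lit 1), (nat_lit 2)],
  [(nat_lit 1), (nat_lit 2), (nat_lit 2)],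
  [(nat_lit 0), (nat_lit 0), (nat_lit 1), (nat_lit 1)],
  [(nat_lit 0), (nat_lit 0), (nat_lit 1), (nat_lit 2)],
  [(nat_lit 0), (nat_lit 0), (nat_lit 2), (nat_lit 2)],
  [(nat_lit 0), (nat_lit 1), (nat_lit 1), (nat_lit 2)],
  [(nat_lit 0), (nat_lit 1), (nat_lit 2), (nat_lit 2)],
  [(nat_lit 1), (nat_lit 1), (nat_lit 2), (nat_lit 2)],
  [(nat_lit 0), (nat_lit 0), (nat_lit 1), (nat_lit 1), (nat_lit 2)],
  [(nat_lit 0), (nat_lit 0), (nat_lit 1), (nat_lit 2), (nat_lit 2)],
  [(nat_lit 0), (nat_lit 1), (nat_lit 1), (nat_lit 2), (nat_lit 2)],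
  [(nat_lit 0), (nat_lit 0), (nat_lit 1), (nat_lit 1), (nat_lit 2), (nat_lit 2)]]
noncomputable def P2_lJ_h (c : ℕ) : ℕ := Nat.mod c (nat_lit 152)
theorem P2_lJ_E {G : Type*} [Group G] {R : ℕ → G → Prop} {t a b e x q : G} {H : Subgroup G}
    (M : Mdl P2_o P2_cs P2_L R [t, a, a⁻¹, b, b⁻¹, e, e⁻¹, x, x⁻¹, q, q⁻¹] H) :
    EnumS R P2_lJ (sp [a, b, e]) :=
  enumS_sp M.μ.1 (M.reps.tms M.μ.1 [(.v (nat_lit 1)), (.v (nat_lit 3)), (.v (nat_lit 5))] (cs' := [(nat_lit 0x6b2f8dab49a5d045dab19cd8248aa60041), (nat_lit 0x66d8bea05aca337ba8a38528119a022d83), (nat_lit 0x4272c55ba2ddf44a2cc5aa263bb2418820)]) (by decide +kernel))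
    (Ws := P2_lJ_W) (by decide +kernel) (by decide +kernel)
theorem P2_lJ_c {G : Type*} [Group G] {R : ℕ → G → Prop} {t a b e x q : G} {H : Subgroup G}
    (M : Mdl P2_o P2_cs P2_L R [t, a, a⁻¹, b, b⁻¹, e, e⁻¹, x, x⁻¹, q, q⁻¹] H) :
    #(sp [a, b, e]) = 27 :=
  (P2_lJ_E M).card M.μ (h := P2_lJ_h) (by decide +kernel)
noncomputable def P2_c_F : Fm := (.all P2_L (.imp (.eq (.mul (.v (nat_lit 0)) (.mul (.v (nat_lit 2)) (.v (nat_lit 4)))) (.mul (.mul (.v (nat_lit 2)) (.v (nat_lit 4))) (.v (nat_lit 0)))) (.qf (.and (.or (.not (.eq (.pw (.v (nat_lit 0)) (nat_lit 3)) .one)) (.mem (.v (nat_lit 0)) P2_lJ)) (.or (.not (.eq (.mul (.v (nat_lit 0)) (.v (nat_lit 1))) (.mul (.v (nat_lit 1)) (.v (nat_lit 0))))) (.or (.not (.eq (.mul (.v (nat_lit 0)) (.v (nat_lit 0))) .one)) (.or (.eq (.v (nat_lit 0)) .one) (.eq (.v (nat_lit 0)) (.v (nat_lit 1))))))))))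
theorem P2_c_chk : Fm.chk P2_o P2_c_F P2_cs = true := by decide +kernel
theorem P2_c {G : Type*} [Group G] {R : ℕ → G → Prop} {t a b e x q : G} {H : Subgroup G}
    (M : Mdl P2_o P2_cs P2_L R [t, a, a⁻¹, b, b⁻¹, e, e⁻¹, x, x⁻¹, q, q⁻¹] H) :
    ∀ k ∈ H, k * (a * b) = a * b * k → (k ^ 3 ≠ 1 ∨ k ∈ sp [a, b, e]) ∧ (k * t ≠ t * k ∨ k * k ≠ 1 ∨ k = 1 ∨ k = t) :=
  have h : ∀ k, InL P2_o R P2_L k → k * (a * b) = a * b * k → (k ^ 3 ≠ 1 ∨ InS R P2_lJ (k)) ∧ (k * t ≠ t * k ∨ k * k ≠ 1 ∨ k = 1 ∨ k = t) :=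
    Fm.sound M.μ P2_c_F P2_c_chk M.reps
  (fun k h0 => (fun h1 => ((and_congr (or_congr Iff.rfl (P2_lJ_E M).iff) Iff.rfl).1 ((h k (M.H.iff.2 h0)) h1))))
noncomputable def P2_z_F : Fm := (.all P2_L (.qf (.eq (.mul (.v (nat_lit 0)) (.mul (.mul (.v (nat_lit 2)) (.v (nat_lit 4))) (.v (nat_lit 6)))) (.mul (.mul (.mul (.v (nat_lit 2)) (.v (nat_lit 4))) (.v (nat_lit 6))) (.v (nat_lit 0))))))
theorem P2_z_chk : Fm.chk P2_o P2_z_F P2_cs = true := by decide +kernel
theorem P2_z {G : Type*} [Group G] {R : ℕ → G → Prop} {t a b e x q : G} {H : Subgroup G}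
    (M : Mdl P2_o P2_cs P2_L R [t, a, a⁻¹, b, b⁻¹, e, e⁻¹, x, x⁻¹, q, q⁻¹] H) :
    ∀ k ∈ H, k * (a * b * e) = a * b * e * k :=
  have h : ∀ k, InL P2_o R P2_L k → k * (a * b * e) = a * b * e * k :=
    Fm.sound M.μ P2_z_F P2_z_chk M.reps
  (fun k h0 => (h k (M.H.iff.2 h0)))
noncomputable def q_c_Rl : List (List ℕ) := [[0,0],
  [1,1],
  [2,3],
  [3,2],
  [4,5],
  [5,4],
  [6,7],
  [7,6],
  [8,9],
  [9,8],
  [10,11],
  [11,10],
  [2,2,2],
  [4,4,4],
  [6,6,6],
  [5,3,4,2],
  [7,3,6,2],
  [7,5,6,4],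
  [8,8,8],
  [3,9,6,8],
  [5,9,2,8],
  [7,9,4,8],
  [8,0,8,0],
  [7,0,6,0],
  [5,0,2,0],
  [1,0,1,0],
  [7,1,6,1],
  [2,1,2,1],
  [4,1,4,1],
  [8,1,8,1,8,1],
  [0,10,10],
  [3,5,7,11,6,4,2,10],
  [7,10,7,10,7,10],
  [5,2,11,8,10],
  [9,11,5,2,10]]
theorem q_c_r {G : Type*} [Group G] {t c a b e x q : G}
    (h : B1 a b e x t)
    (k : C1 a b e x t c)
    (l : Q1 a b e x t q) :
    Rels (nthG [t, c, a, a⁻¹, b, b⁻¹, e, e⁻¹, x, x⁻¹, q, q⁻¹]) q_c_Rl :=
  rels_of_eqs ((InvI.cons h.2.2.2.2.2.2.2.2.2.2.1 (InvI.cons k.1 InvI.nil)) : InvI [t, c, a, b, e, x, q] [(nat_lit 0), (nat_lit 1)])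
    (AllEq.append (show AllEq [t, c, a, b, e, x, q] [((.pw (.v (nat_lit 2)) (nat_lit 3)), .one), ((.pw (.v (nat_lit 3)) (nat_lit 3)), .one), ((.pw (.v (nat_lit 4)) (nat_lit 3)), .one), ((.mul (.v (nat_lit 2)) (.v (nat_lit 3))), (.mul (.v (nat_lit 3)) (.v (nat_lit 2)))), ((.mul (.v (nat_lit 2)) (.v (nat_lit 4))), (.mul (.v (nat_lit 4)) (.v (nat_lit 2)))), ((.mul (.v (nat_lit 3)) (.v (nat_lit 4))), (.mul (.v (nat_lit 4)) (.v (nat_lit 3)))), ((.pw (.v (nat_lit 5)) (nat_lit 3)), .one), ((.mul (.mul (.v (nat_lit 5)) (.v (nat_lit 4))) (.inv (.v (nat_lit 5)))), (.v (nat_lit 2))), ((.mul (.mul (.v (nat_lit 5)) (.v (nat_lit 2))) (.inv (.v (nat_lit 5)))), (.v (nat_lit 3))), ((.mul (.mul (.v (nat_lit 5)) (.v (nat_lit 3))) (.inv (.v (nat_lit 5)))), (.v (nat_lit 4))), ((.mul (.v (nat_lit 0)) (.v (nat_lit 0))), .one), ((.mul (.mul (.v (nat_lit 0)) (.v (nat_lit 5))) (.inv (.v (nat_lit 0)))), (.inv (.v (nat_lit 5)))), ((.mul (.v (nat_lit 0)) (.v (nat_lit 4))), (.mul (.v (nat_lit 4)) (.v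 (nat_lit 0)))), ((.mul (.mul (.v (nat_lit 0)) (.v (nat_lit 2))) (.inv (.v (nat_lit 0)))), (.v (nat_lit 3)))] from h)
    (AllEq.append (show AllEq [t, c, a, b, e, x, q] [((.mul (.v (nat_lit 1)) (.v (nat_lit 1))), .one), ((.mul (.v (nat_lit 0)) (.v (nat_lit 1))), (.mul (.v (nat_lit 1)) (.v (nat_lit 0)))), ((.mul (.v (nat_lit 1)) (.v (nat_lit 4))), (.mul (.v (nat_lit 4)) (.v (nat_lit 1)))), ((.mul (.mul (.v (nat_lit 1)) (.v (nat_lit 2))) (.inv (.v (nat_lit 1)))), (.inv (.v (nat_lit 2)))), ((.mul (.mul (.v (nat_lit 1)) (.v (nat_lit 3))) (.inv (.v (nat_lit 1)))), (.inv (.v (nat_lit 3)))), ((.pw (.mul (.v (nat_lit 1)) (.v (nat_lit 5))) (nat_lit 3)), .one)] from k)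
    (show AllEq [t, c, a, b, e, x, q] [((.mul (.v (nat_lit 6)) (.v (nat_lit 6))), (.v (nat_lit 0))), ((.mul (.v (nat_lit 6)) (.mul (.mul (.v (nat_lit 2)) (.v (nat_lit 3))) (.v (nat_lit 4)))), (.mul (.mul (.mul (.v (nat_lit 2)) (.v (nat_lit 3))) (.v (nat_lit 4))) (.v (nat_lit 6)))), ((.pw (.mul (.v (nat_lit 6)) (.inv (.v (nat_lit 4)))) (nat_lit 3)), .one), ((.mul (.mul (.v (nat_lit 6)) (.v (nat_lit 5))) (.inv (.v (nat_lit 6)))), (.inv (.mul (.v (nat_lit 2)) (.inv (.v (nat_lit 3)))))), ((.mul (.mul (.v (nat_lit 6)) (.mul (.v (nat_lit 2)) (.inv (.v (nat_lit 3))))) (.inv (.v (nat_lit 6)))), (.v (nat_lit 5)))] from l)))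
    [(.v (nat_lit 0)), (.v (nat_lit 1)), (.v (nat_lit 2)), (.inv (.v (nat_lit 2))), (.v (nat_lit 3)), (.inv (.v (nat_lit 3))), (.v (nat_lit 4)), (.inv (.v (nat_lit 4))), (.v (nat_lit 5)), (.inv (.v (nat_lit 5))), (.v (nat_lit 6)), (.inv (.v (nat_lit 6)))] (by decide +kernel)
noncomputable def q_c_0_S0 : List ℕ := [nat_lit 0xb000007008018, nat_lit 0x1300000f00801a, nat_lit 0x1b00001700801c, nat_lit 0x1f00000600000100801e, nat_lit 0x2300000a000001008020, nat_lit 0x2700000a000005008022, nat_lit 0x2f00002b008024, nat_lit 0x33000002000019008026, nat_lit 0x37000006000019008028, nat_lit 0x3b00000a00001900802a, nat_lit 0x4300003f00002b00c02c, nat_lit 0x4700000a00002900802e, nat_lit 0x4b000006000029008030, nat_lit 0x4f00002a008032, nat_lit 0x5f00005b00005700005300000e000002000035018034, nat_lit 0x5300000e00001100a022, nat_lit 0x63000048008032, nat_lit 0x67000020004018, nat_lit 0x6700000600000800e01e, nat_lit 0x6b00001a00003500003900803a, nat_lit 0x6000004d00a01a, nat_lit 0x6f00004900401a,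 nat_lit 0x1400006800005500a01e, nat_lit 0x7700007300801c, nat_lit 0x7b00005e000049008022, nat_lit 0x53000045000061004020, nat_lit 0x7f00000d00401a, nat_lit 0x1400002000006900401e, nat_lit 0x8300001100401c, nat_lit 0x1c000024000071004020, nat_lit 0x8b00000e000034008028, nat_lit 0x2200001d000079006020, nat_lit 0x8f00001200003400802a, nat_lit 0x2600001d000081006022, nat_lit 0x9700009300008700c02c, nat_lit 0x2a000001000089000030, nat_lit 0x9b00000e000089008030, nat_lit 0x3200008e00009100601e, nat_lit 0xa70000a300801c, nat_lit 0xab00009a00006e008020, nat_lit 0xaf00001500401c, nat_lit 0x1c0000280000a1004022, nat_lit 0xb300001600003800802a, nat_lit 0x260000210000a900401e, nat_lit 0xb700001600004c00802e, nat_lit 0x2e0000310000b1004020, nat_lit 0xc30000bf0000bb00009e00006a00001f0000a0018034, nat_lit 0xc70000590000140000a000c038, nat_lit 0xcb0000370000a00000b900803a, nat_lit 0xcf0000a500007600801e, nat_lit 0x3e0000710000c5006022, nat_lit 0xd70000d3008024, nat_lit 0x3b00001b0000cd00602a,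 nat_lit 0xdb0000a50000cd008028, nat_lit 0xad0000d20000d500601e, nat_lit 0xdf00003c004024, nat_lit 0x300000250000dd006028, nat_lit 0xe3000047008032, nat_lit 0xef0000eb0000e70000c900003e0000230000e5018034, nat_lit 0xf300003b0000e50000e900803a, nat_lit 0xf00000ed00a01a, nat_lit 0xf30000ae0000aa0000cc00c038, nat_lit 0xf700005300008c00802a, nat_lit 0xaa00007e0000f9006022]
noncomputable def q_c_0_S1 : List ℕ := [nat_lit 0xfb00005300009c00802e, nat_lit 0xb2000096000101004022, nat_lit 0xff00005600006100a022, nat_lit 0x103000090004024, nat_lit 0xde00008600010d00602a, nat_lit 0x10700003f008032, nat_lit 0x11700011300010f00010b0001110000e1000115018034, nat_lit 0x4f000043000108000119000038, nat_lit 0x11d00003900005f00401e, nat_lit 0x12100011a006018, nat_lit 0x12300011f00011b0000fd0000aa00002200006c018034, nat_lit 0x12500005200012900601e, nat_lit 0x13300012f00012b0001270000d90000ad0000f4018034, nat_lit 0xc10000f5000131004028, nat_lit 0x1350000ba0000bd008026, nat_lit 0x13f00013b0001370000850000f4010036,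 nat_lit 0x13900013200013d00c020, nat_lit 0x1430000f4000032, nat_lit 0x15300014f00014b0001470001050000b5000041018034, nat_lit 0xc900003e00002300006400014900015300014f012034, nat_lit 0x14d0000e8000032, nat_lit 0xeb00015100015000c02e, nat_lit 0x1550000f2000145006030, nat_lit 0x16300015f00015b00015700010a000065000058018034, nat_lit 0x12500005b00015d006020, nat_lit 0x16400016100012e008022, nat_lit 0x16700014d0000c900005800005c00c036, nat_lit 0x16700015000601c, nat_lit 0x17300016f00016b00016600012d000125000169018034, nat_lit 0x15900016d000171008020, nat_lit 0x17500014600013d00c02e, nat_lit 0x14200017900017300a030, nat_lit 0x17d0000c7002032]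
noncomputable def q_c_0_S : List (List ℕ) := [q_c_0_S0, q_c_0_S1]
noncomputable def q_c_0_defs : List ℕ := [(nat_lit 0x70001b000000140090001400b0000e0040003a0060003900b0003300a00011008000060090002b00800034008000050030002b00b0000d00b0001b0040002f0060002e00b0002a00000009009000090060000400300029006000280060000300b0000400000007008000240000002100900008009000070080000200600002004000020050001d0060001c006000010040000100b0000b0020000400a00006004000160060001500b000140070000700a0001000000004000000060080000f0000000a0090000600900004009000020080000a0080000000500006003000060030000400600005006000000040000300400000002000010020000000000000),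
  (nat_lit 0x40005b0060005a00b0005700700052004000570060005600b000550070003f004000530060005200b000510070003e00a0000e00a0004e0070004d00a000230040004b0060004a00b0004900700036004000470060004600b0003d004000440060004300b000420070004000a0000f00800008)]
noncomputable def q_c_0_recs : List ℕ := [(nat_lit 0x70003d0002c04000220003d08000320003c050003c0003a050003b0003c02000380003b0a000060003803000370000a080000e0003705000360002c02000350003605000350000e080000500035070003300014040002000033050003000032080002700031020002700030030002d0001106000120002d030002c0000e040000d0002c050002b0000506000090002b060001f0002a06000030002905000260001202000250002605000250001000000020002507000230000e040000c0002307000220000d020000c00022030002000005060000800020030001f0000304000070001f030001e0001406000190001e06000010001d020001b0000304000190001b050001a0001605000170001a0400001000190200007000190a00011000180400008000140200013000170a0000000013020001000012060001000011000000000010040000b0000e020000b0000d060000b0000c08000000000b060000400009060000200008040000200007060000000006040000000004020000000002),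
  (nat_lit 0xb0001b0005b000005b00031000004f0005c060005c0005002000590005c0700053000590a000160005906000480005707000580004102000150005803000500005300000530003a0000039000520a0005200033020001800054000003c00050020004f00031070003c0004f06000310004c090004c00030020003c0004c050004800041020001a000480300041000160300016000450500045000130200041000450a0000a00041050004000037080002300040040001e0003f050003e0002d06000260003e)]
noncomputable def q_c_0_T : List (List ℕ × ℕ) := [([4,2,10,4,2,10,4,2,10], (nat_lit 0x3500003900005f00016900017100017300018200005900000f))]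
noncomputable def q_c_0_D : H26.Dag := ⟨[0,1,3,2,5,4,7,6,9,8,11,10], [[0,0],
  [1,1],
  [2,3],
  [3,2],
  [4,5],
  [5,4],
  [6,7],
  [7,6],
  [8,9],
  [9,8],
  [10,11],
  [11,10],
  [2,2,2],
  [4,4,4],
  [6,6,6],
  [5,3,4,2],
  [7,3,6,2],
  [7,5,6,4],
  [8,8,8],
  [3,9,6,8],
  [5,9,2,8],
  [7,9,4,8],
  [8,0,8,0],
  [7,0,6,0],
  [5,0,2,0],
  [0,10,10],
  [3,5,7,11,6,4,2,10],
  [7,10,7,10,7,10],
  [5,2,11,8,10],
  [9,11,5,2,10]], [], q_c_0_defs, q_c_0_recs⟩
theorem q_c_0_c : q_c_0_D.check q_c_0_S q_c_0_T = true := by decide +kernel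
theorem q_c_0 {G : Type*} [Group G] {g : ℕ → G} (hR : Rels g q_c_Rl) {H : Subgroup G}
    (hH : ∀ k ∈ [], g k ∈ H) : evA g [4,2,10,4,2,10,4,2,10] ∈ H :=
  mem_dag (K := 12) (J := [0,1,2,3,4,5,6,7,8,9,10,11,12,13,14,15,16,17,18,19,20,21,22,23,24,30,31,32,33,34]) (D := q_c_0_D) (by decide +kernel) q_c_0_c (by decide +kernel) hR hH
noncomputable def q_c_1_S0 : List ℕ := [nat_lit 0x1300000700000c004032, nat_lit 0x1700000b000010004034, nat_lit 0x1b000018006018, nat_lit 0x2300002000601a, nat_lit 0x2b00002800601c, nat_lit 0x33000030006024, nat_lit 0x3b000001006038, nat_lit 0x3b00003800a038, nat_lit 0x4300000200002000c030, nat_lit 0x4700000200002400a030, nat_lit 0x4b000002000018002030, nat_lit 0x4f00000200002c00402e, nat_lit 0x5300000200003400402c, nat_lit 0x5700001700002000201e, nat_lit 0x57000006000040004036, nat_lit 0x5b000017000028002020, nat_lit 0x5f00001700002c004020, nat_lit 0x67000064006024, nat_lit 0x67000017000034006026, nat_lit 0x6b000029008038, nat_lit 0x6f00006c00a038,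 nat_lit 0x7300001b00002400a01e, nat_lit 0x7700001b00002c00a020, nat_lit 0x8300008000a038, nat_lit 0x8700001f00003000002a, nat_lit 0x8b00001f00001800006c012040, nat_lit 0x93000055000073000080000040, nat_lit 0x9700009400a038, nat_lit 0x9f00001200009c000026, nat_lit 0x9f00002b00003000e026, nat_lit 0xa700002d006038, nat_lit 0xa70000a400a038, nat_lit 0xaf0000ac00a038, nat_lit 0xb7000031006038, nat_lit 0xb70000b400a038, nat_lit 0xbf0000370000300000ac01203e, nat_lit 0xc30000c000008e00201e, nat_lit 0xc70000c400601a, nat_lit 0xcf00001e0000c400c030, nat_lit 0x8200009100009900e030, nat_lit 0xd30000d0006018, nat_lit 0xd300001a00005400008501203e, nat_lit 0xd70000d40000a600201e, nat_lit 0xd700001e0000bc002030, nat_lit 0xdb0000d000009d00a01e, nat_lit 0xdb00001e0000c0004030, nat_lit 0xdf00004300004c00201e, nat_lit 0xdf000022000035002030, nat_lit 0xe300004700004c00c01e, nat_lit 0xe700002600009000402e, nat_lit 0xeb00002a00005c00c02e, nat_lit 0xef0000ec00601c, nat_lit 0xef00002a00006000402e,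 nat_lit 0xf300005700005c002022, nat_lit 0xf7000036000088000028, nat_lit 0xfb00003600000d000094000040, nat_lit 0xfb000057000009000080012040, nat_lit 0xff0000bd006038, nat_lit 0xff00005700000900008400603e, nat_lit 0x10300003e00009c000028, nat_lit 0x10b0000c9006038, nat_lit 0x10b00010800a038, nat_lit 0x10f0000420000a0000028, nat_lit 0x1130000d1008038]
noncomputable def q_c_1_S1 : List ℕ := [nat_lit 0x11b00011800a038, nat_lit 0x12300012000a038, nat_lit 0x12700006b00006400011801203e, nat_lit 0x12b00012800010a00201e, nat_lit 0x12f00012c00601a, nat_lit 0x13300005200012c00c030, nat_lit 0x10200010d00011500e030, nat_lit 0x13700013400011900a01e, nat_lit 0x137000052000128004030, nat_lit 0x13b00005600009000a020, nat_lit 0x13b00007300007800a022, nat_lit 0x13f00007700007c00e026, nat_lit 0x13f00005a0000a000e028, nat_lit 0x14b00007f00007c00014801203e, nat_lit 0x14f00014c00013600201e, nat_lit 0x15300005e00014c004030, nat_lit 0x15700006600013000a028, nat_lit 0x15b0000c5008038, nat_lit 0x15b00012500012a000144000040,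 nat_lit 0x15f00015c00a038, nat_lit 0x16700016400601a, nat_lit 0x16700006a00014c004028, nat_lit 0x16f00006e00016400c030, nat_lit 0x173000170006018, nat_lit 0x17300006e00016800a030, nat_lit 0x17700013100012e000148012040, nat_lit 0x18300007e00017c00c030, nat_lit 0x18f0000ab0000150000b401203e, nat_lit 0x19300008d00401a, nat_lit 0x19300009100009500c01e, nat_lit 0x19300019000016e00201e, nat_lit 0x19b0000ab0000750000f9004040, nat_lit 0x1a30000b1004018, nat_lit 0x1a300008200019400c030, nat_lit 0x8a00017900018500e030, nat_lit 0x1af00008a0001ac00402e, nat_lit 0x1b30000ad008038, nat_lit 0x1b700008e00019800a022, nat_lit 0x1bb0000b5008038, nat_lit 0x1bf0001bc00a038, nat_lit 0x1c300009200019c006026, nat_lit 0x1cb0000960001c4006028, nat_lit 0x1cf0001750001720001c000c03e, nat_lit 0x1d30000cb0000d000a034, nat_lit 0x19f00009e0001ad00e036, nat_lit 0x1d70001d40001b100201e, nat_lit 0x1db00009d0001a8002022, nat_lit 0x1df0000a20001dc002020, nat_lit 0x1e30001e000601c, nat_lit 0x1e70000b60001b800402e,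 nat_lit 0x1eb0000f30000f8000026, nat_lit 0x1eb0000d600010400002a, nat_lit 0x1be0001ba0001a70000af0000610000d90001c901c03a, nat_lit 0x1f30000de00016c002026, nat_lit 0x1f30000e200015000c028, nat_lit 0x1660001390001d9008026, nat_lit 0x1f70001f4006018, nat_lit 0x1f70000fb00003600001f00002c0000a400018000403a, nat_lit 0x17b0001800001e500e022, nat_lit 0x1fb0001f40001dd00a020, nat_lit 0x1fb0000de00016800402a, nat_lit 0x1ff0000e60000ba00004b00005000007900018c00403a, nat_lit 0x18700018c0001f500e022, nat_lit 0x2030002000001f9004020]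
noncomputable def q_c_1_S2 : List ℕ := [nat_lit 0x2030000ea00015400402a, nat_lit 0x2070000ee000071000178012040, nat_lit 0x1f10001ee000205008026, nat_lit 0x1d50001dd00020500602a, nat_lit 0x1c20001d20001ce00020800020900203c, nat_lit 0x20e0002090002110001e30000a60000a900019101803a, nat_lit 0x1c70000c70000bc0001b400021500020e00020901203a, nat_lit 0x162000219004038, nat_lit 0x20b00010700010400020801203e, nat_lit 0x15100020a000221008022, nat_lit 0x20f0000f600020c004030, nat_lit 0x15a00022600022900802e, nat_lit 0x21300021000022d004022, nat_lit 0x21b000218006018, nat_lit 0x21b00011300011000017d01203e, nat_lit 0x19700019c00023900402a, nat_lit 0x23500023d00019500a028, nat_lit 0x21f00021c00023a00201e, nat_lit 0x1a60001a2000245000020, nat_lit 0x19300019c000245002028, nat_lit 0x2230000fe0000ce0000f100021400a03c, nat_lit 0x21d00015e000231000251000040, nat_lit 0x22700022400025500e026, nat_lit 0x22700021800024200e028, nat_lit 0x25d00025a00021a00015600e040, nat_lit 0x2610001c5008038, nat_lit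 0x26500013d008038, nat_lit 0x22b00011700004500012001203e, nat_lit 0x22f00010900401a, nat_lit 0x22f00010d00011100c01e, nat_lit 0x22f00022c00026e00201e, nat_lit 0x1460000e70000e40000c200004d00012800027101003a, nat_lit 0x23300011d004018, nat_lit 0x23300010200023000c030, nat_lit 0x14e00027e00028500802e, nat_lit 0x10600027900028500e030, nat_lit 0x23700012300004a0000b40001ac00a03c, nat_lit 0x18e000291002038, nat_lit 0x23b00023800601c, nat_lit 0x23b00028e00028900a022, nat_lit 0x29d00029a0002950001af00018a00018200019901803a, nat_lit 0x2a100028a00028200e020, nat_lit 0x19e0002a100014e000030, nat_lit 0x1490002a90001a9008028, nat_lit 0x23f000121008038, nat_lit 0x2690001e70001990002a60002b100003c, nat_lit 0x2b50002010001fe00a026, nat_lit 0x2b900023f000271000276002040, nat_lit 0x1420002bd00018700018400a03e, nat_lit 0x1690002c1004038, nat_lit 0x24300014900027e00c02a, nat_lit 0x2430002ae0001cf0001cc00e040, nat_lit 0x1420002750002c9006026, nat_lit 0x2490002cd0002d10002c50001ea00c03c, nat_lit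 0x247000185008038, nat_lit 0x24700024e0002d60001e200003e, nat_lit 0x24b0001b5006018, nat_lit 0x24b00019f0001a400a034, nat_lit 0x24f0001ef0001f400a034, nat_lit 0x2530002de0002e9008036]
noncomputable def q_c_1_S : List (List ℕ) := [q_c_1_S0, q_c_1_S1, q_c_1_S2]
noncomputable def q_c_1_defs : List ℕ := [(nat_lit 0xb0001500a00015008000150060001500700012006000120070001100400011004000100050000e0040000e0030000e0020000e0010000e0050000d0040000d0030000d0020000d00b0000c00a0000c00b0000b00a0000b00b0000a00a0000a0080000a0080000900b0000800a000080070000800a000070080000700b0000600a0000600800006007000060050000600b0000500a00005009000050080000500700005006000050040000500800004007000040040000400300004002000040050000300b0000200a0000200900002008000020070000200600002005000020040000200300002002000020010000100300000001000000000000000000000),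
  (nat_lit 0x30003f0070003e0030003e0020003e0010003e0080003c00700036007000340060003400600033004000320030003200b0003100900031007000310090003000b0002f00a0002f0070002f00a0002e0070002d0070002c0060002b0020002b0010002b0090002a0070002a0040002a0030002a006000290040002900200029006000280040002800a00027003000250020002500600024005000240040002400b0002300a0002300300022005000200040001f0030001f00a0001e00a0001d0080001d0070001c0050001b0020001b0050001a0040001a0030001a00b0001900a0001900b0001800a0001800a000170080001700b0001600a0001600800016),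
  (nat_lit 0x1000910030007b0030006700a000640040005000a000490070004800600048002000460040004500300045008000440060004400400044003000440020004400700042005000420030004100a000400070003f)]
noncomputable def q_c_1_recs : List ℕ := [(nat_lit 0xa0003b000440500027000430000041000420b0003a0004205000260004009000200003f0b000370003f080001f0003e09000240003e05000210003d05000160003c00000170003b070003a0003b00000160003a000002300039020001200038000001500037030001200037000002f00036020002b00036000002e00035030002d00035040002d0003403000330003404000330002b000003000033050003000031030002a00030040002a0002f000002c0002d0b000140002d000002a0002b0000028000290b0001300029020000b00027030002600027000002400025090001f00024080001a00022070000b00021000001f00020020000a0001d02000080001c000001a0001b0a000120001a070000c00019090001800019030000a00017030000900016010000f00015030000700015000000c00014000000a00013000000500012000000800011000000700010000000d0000e0b000040000e090000b0000c07000090000a050000700008030000500006010000300005000000200004),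
  (nat_lit 0x30006100080060007f0006105000620007f09000590007e020005d0007e060007d0005e050005f0007d030007c0007d060007c0005d08000530007c090005a0007c0a0007a0007707000400007a030003d0007a000006d00079070007700078030007600077050006900076030006700075050007400067010003300074080006f00073030007000072070006600070000006e0006f0a000360006e04000650006d0a000350006c000006a0006b04000680002d0000064000680200036000680b0004300066030002c00064020003100064040002f00064040002c00063000005e0006008000510005d00000590005c030005b0005c00000580005b0900052000590500058000590000056000570900050000560a0003900056080004b0005500000520005403000510005304000510005204000270004f020001e0004f040001d0004e02000230004e00000490004d02000460004d040004c00046000004a0004c050004a0004b03000450004a040004500049000004700048000004500046),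
  (nat_lit 0x40009300094010007c00093010006800092030007500092050007c000910a00068000910a0007d000870700090000550a0007200090080008b000900a000550005e0a00060000550b0004b0006108000610008f070008f000540a0004d0008f02000730005005000560006f060004d0006e020006e0005704000570008e070008d0008e0b0008d0006b0b0006a0008d040008c00048060008c00057000008b0008c020004d0008c060008b0005603000470008b020004b0008b04000490008b04000470008a0a00054000790a00079000520a000520006d040006d000890200071000890900088000710b0008400088090008700064070008700072030006600087080006d00085090008600065040006600086030008500086050005b0008406000830005b0000082000830600082000580400081000820a000710005c0a0005900071020006c0005a0b000590007805000810005a060008100059080005d00081090005400080)]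
noncomputable def q_c_1_T : List (List ℕ × ℕ) := [([3,5,1,10,1,3,5,1,10,1,3,5,1,10,1], (nat_lit 0xc00003c0000cc0001d80002e10002e60002d90002540002ee00024f0001ef0000fb00003a00003f00000f))]
noncomputable def q_c_1_D : H26.Dag := ⟨[0,1,3,2,5,4,7,6,9,8,11,10], [[0,0],
  [1,1],
  [2,3],
  [3,2],
  [4,5],
  [5,4],
  [6,7],
  [7,6],
  [8,9],
  [9,8],
  [10,11],
  [11,10],
  [2,2,2],
  [4,4,4],
  [6,6,6],
  [5,3,4,2],
  [7,3,6,2],
  [7,5,6,4],
  [8,8,8],
  [3,9,6,8],
  [5,9,2,8],
  [7,9,4,8],
  [8,0,8,0],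
  [7,0,6,0],
  [5,0,2,0],
  [1,0,1,0],
  [2,1,2,1],
  [4,1,4,1],
  [0,10,10],
  [3,5,7,11,6,4,2,10],
  [7,10,7,10,7,10],
  [5,2,11,8,10],
  [9,11,5,2,10]], [], q_c_1_defs, q_c_1_recs⟩
theorem q_c_1_c : q_c_1_D.check q_c_1_S q_c_1_T = true := by decide +kernel
theorem q_c_1 {G : Type*} [Group G] {g : ℕ → G} (hR : Rels g q_c_Rl) {H : Subgroup G}
    (hH : ∀ k ∈ [], g k ∈ H) : evA g [3,5,1,10,1,3,5,1,10,1,3,5,1,10,1] ∈ H :=
  mem_dag (K := 12) (J := [0,1,2,3,4,5,6,7,8,9,10,11,12,13,14,15,16,17,18,19,20,21,22,23,24,25,27,28,30,31,32,33,34]) (D := q_c_1_D) (by decide +kernel) q_c_1_c (by decide +kernel) hR hH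
noncomputable def q_c_2_S0 : List ℕ := [nat_lit 0xf00000700000c004018, nat_lit 0x1300000100601a]
noncomputable def q_c_2_S : List (List ℕ) := [q_c_2_S0]
noncomputable def q_c_2_defs : List ℕ := [(nat_lit 0xb0000200100001001000000000000000000000)]
noncomputable def q_c_2_recs : List ℕ := [(nat_lit 0xb0000300004000000200003)]
noncomputable def q_c_2_T : List (List ℕ × ℕ) := [([0,1,10,10,1], (nat_lit 0xc00001400000600000f000007))]
noncomputable def q_c_2_D : H26.Dag := ⟨[0,1,3,2,5,4,7,6,9,8,11,10], [[0,0],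
  [1,1],
  [2,3],
  [3,2],
  [4,5],
  [5,4],
  [6,7],
  [7,6],
  [8,9],
  [9,8],
  [10,11],
  [11,10],
  [1,0,1,0],
  [0,10,10]], [], q_c_2_defs, q_c_2_recs⟩
theorem q_c_2_c : q_c_2_D.check q_c_2_S q_c_2_T = true := by decide +kernel
theorem q_c_2 {G : Type*} [Group G] {g : ℕ → G} (hR : Rels g q_c_Rl) {H : Subgroup G}
    (hH : ∀ k ∈ [], g k ∈ H) : evA g [0,1,10,10,1] ∈ H :=
  mem_dag (K := 12) (J := [0,1,2,3,4,5,6,7,8,9,10,11,25,30]) (D := q_c_2_D) (by decide +kernel) q_c_2_c (by decide +kernel) hR hH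
noncomputable def q_c_3_S0 : List ℕ := [nat_lit 0x1b00000700000c004032, nat_lit 0x1f00000b000014004036, nat_lit 0x23000020006018, nat_lit 0x2300000b00001000a036, nat_lit 0x2b00002800601a, nat_lit 0x3300003000601c, nat_lit 0x3b000038006024, nat_lit 0x4300000100603a, nat_lit 0x4300004000a03a, nat_lit 0x4700000f00001800201e, nat_lit 0x4f00000200002800c030, nat_lit 0x53000050006018, nat_lit 0x5300000200002c00a030, nat_lit 0x57000002000020002030, nat_lit 0x5b000002000024004030, nat_lit 0x5f00000200003000c02e, nat_lit 0x6300000200003c00402c, nat_lit 0x6700001f00002800201e, nat_lit 0x6700000600004c004038, nat_lit 0x6f00001f000030002020, nat_lit 0x7300001f000034004020, nat_lit 0x7700001f000038000028, nat_lit 0x7b000078006024, nat_lit 0x7b00001f00003c006026, nat_lit 0x7f00003500803a, nat_lit 0x8300008000a03a, nat_lit 0x8700002300002800c01e, nat_lit 0x8700000a00006800201e, nat_lit 0x8b00008800601a, nat_lit 0x8b00000a00006c00401e, nat_lit 0x8b00002300002c00a01e, nat_lit 0x8b00000e00004800a038,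 nat_lit 0x8f00002300003400a020, nat_lit 0x9300000a000078000028, nat_lit 0x97000094006024, nat_lit 0x9f00009c00a03a, nat_lit 0xa3000027000030002022, nat_lit 0xa700002700003800002a, nat_lit 0xab0000120000a4002022, nat_lit 0xaf00002b00003400a022, nat_lit 0xb300007900008b00009c000042, nat_lit 0xb70000b400a03a, nat_lit 0xbb00002f000038000026, nat_lit 0xbf00003d00803a, nat_lit 0xc30000c000a03a, nat_lit 0xc70000160000bc000026, nat_lit 0xc700003300003800e026, nat_lit 0xcf0000cc00a03a, nat_lit 0xd300004100803a, nat_lit 0xd700004100603a, nat_lit 0xd70000d400a03a, nat_lit 0xdf00003f0000380000cc012040, nat_lit 0xe30000e00000ce00201e, nat_lit 0xe70000e400601a, nat_lit 0xe700003f00003c0000d4004040, nat_lit 0xef00003f000024000088004042, nat_lit 0xf30000220000e400c030, nat_lit 0xbe0000d10000e100e030, nat_lit 0xf70000f4006018, nat_lit 0xf70000220000e800a030, nat_lit 0xf700001e0000640000c5012040, nat_lit 0xfb0000f80000f200201e, nat_lit 0xfb0000220000dc002030, nat_lit 0xff0000f40000e500a01e]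
noncomputable def q_c_3_S1 : List ℕ := [nat_lit 0xff0000220000e0004030, nat_lit 0x107000043000024000088010040, nat_lit 0x10f00002a000069004030, nat_lit 0x11300005300005800c01e, nat_lit 0x11700002e00011000401e, nat_lit 0x117000032000079004030, nat_lit 0x11b0000320000b000402e, nat_lit 0x11f00003600007000c02e, nat_lit 0x12300012000601c, nat_lit 0x12300003600007400402e, nat_lit 0x12700005700006400002a, nat_lit 0x12700003600007c00402c, nat_lit 0x12b00005b00006400e02a, nat_lit 0x12b00003a00009800402c, nat_lit 0x12f0000460000a4002020, nat_lit 0x12f000067000070002022, nat_lit 0x13300013000601c, nat_lit 0x13300004a00010c004034, nat_lit 0x1370000460000a8000028, nat_lit 0x13b0000460000110000b4000042, nat_lit 0x13b00006700000900009c012042, nat_lit 0x13f00006f000078000026, nat_lit 0x13f00004e0000bc000028, nat_lit 0x14700011d00603a, nat_lit 0x14700014400a03a, nat_lit 0x14b00007300007800e026, nat_lit 0x14b0000520000c8000028, nat_lit 0x14f00012500803a, nat_lit 0x15300015000a03a, nat_lit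 0x15b00015800a03a, nat_lit 0x15f00012d00803a, nat_lit 0x16300016000a03a, nat_lit 0x16b000168006018, nat_lit 0x16b00007f000078000158012040, nat_lit 0x16f00016c00018600201e, nat_lit 0x17300007f00007c000160004040, nat_lit 0x16700017400018e00001e, nat_lit 0x17b00006600017000c030, nat_lit 0x17600018900019500e030, nat_lit 0x17f000066000168002030, nat_lit 0x18300017c00019900a01e, nat_lit 0x18300006600016c004030, nat_lit 0x18700006600017800c02e, nat_lit 0x18b00008300006c00007500a040, nat_lit 0x18f00006e000138000028, nat_lit 0x19700007a0000b000a020, nat_lit 0x19b00007200019000002a, nat_lit 0x19f00019c006024, nat_lit 0x1a300008f00009400e026, nat_lit 0x1a30000820000c800e028, nat_lit 0x1ab0001a800a03a, nat_lit 0x1b300013500603a, nat_lit 0x1b30001b000a03a, nat_lit 0x1bb00009b0000940001a8012040, nat_lit 0x1bf0001bc0001d600201e, nat_lit 0x1c300008e0001c000c030, nat_lit 0x1ca0001d90001dd00e030, nat_lit 0x1c700008e0001b8002030, nat_lit 0x1cb0001c800601a, nat_lit 0x1cb0001c40001e100a01e,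 nat_lit 0x1cb00008e0001bc004030, nat_lit 0x1cf00009200004d000144012042, nat_lit 0x1d30001d000a03a, nat_lit 0x1db00009e0000c800e02a]
noncomputable def q_c_3_S2 : List ℕ := [nat_lit 0x1df00011900803a, nat_lit 0x1e30001e000a03a, nat_lit 0x1e70000a20001b8002028, nat_lit 0x1eb0001e800601a, nat_lit 0x1eb0000a20001bc004028, nat_lit 0x1ef0000a20001c000202a, nat_lit 0x1f30000a60001e800c030, nat_lit 0x1f70001f4006018, nat_lit 0x1f70000a60001ec00a030, nat_lit 0x1fb0000aa000055000158000042, nat_lit 0x2030000bf0000bc0001fc012040, nat_lit 0x20700020400022a00201e, nat_lit 0x20b00020800601a, nat_lit 0x20f0000ae00005f00001d00010400a03e, nat_lit 0x21300021000601c, nat_lit 0x21b0000b2000200002030, nat_lit 0x21f0000b200021400402e, nat_lit 0x2230001c50001c20001a8012042, nat_lit 0x2270000d1006018, nat_lit 0x2270000cb0000190000d4012040, nat_lit 0x22b00022800024e00201e, nat_lit 0x2370000cb0000b9000169004042, nat_lit 0x23b0000fd004018, nat_lit 0x23b0000be00022c00c030, nat_lit 0xca00025100025d00e030,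 nat_lit 0x24b0000ca00024800402e, nat_lit 0x24f0000f900803a, nat_lit 0x2530000ce00023000c022, nat_lit 0x2570000df0000ec00a020, nat_lit 0x2570000ce00023400a022, nat_lit 0x25b00010100803a, nat_lit 0x25f00025c00a03a, nat_lit 0x2630000d2000230002020, nat_lit 0x2670000d2000238006026, nat_lit 0x2670000e30000f0006028, nat_lit 0x26b0000e30000dc000250012042, nat_lit 0x26f0000da00024400c020, nat_lit 0x26f0000d6000264002022, nat_lit 0x27300027000601c, nat_lit 0x2770000d6000268006028, nat_lit 0x27b0000eb0000f000802a, nat_lit 0x27f0000e5000240002022, nat_lit 0x2830000ea000280002020, nat_lit 0x2830000ee00027000c02e, nat_lit 0x28700028400601c, nat_lit 0x2870000f700010400a020, nat_lit 0x2870000f200024c00a022, nat_lit 0x28b0000f700010800e028, nat_lit 0x28b0000ee00027800402c, nat_lit 0x28f00010200025800402e, nat_lit 0x29300010a00019000a02c, nat_lit 0x297000112000294006026, nat_lit 0x29700011600019c00a02c, nat_lit 0x29b00012f000138000026, nat_lit 0x29b00013e00014000002a, nat_lit 0x2aa0002a600023f0000cf0000950001490002d501c03c,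 nat_lit 0x2dd0002ae00803a, nat_lit 0x29f00029c0002e200029600e040, nat_lit 0x29f00013a0000990001d8000042, nat_lit 0x2910002960002e500001e, nat_lit 0x24a0002640002e500e020, nat_lit 0x2a700014e0001f0002026, nat_lit 0x2a70001520001c000c028, nat_lit 0x2460001d90002f9008026]
noncomputable def q_c_3_S3 : List ℕ := [nat_lit 0x2ab0002a80002fd00a020, nat_lit 0x2ab00014e0001ec00402a, nat_lit 0x2af0001560000850001a8000042, nat_lit 0x2af00015a0000b5000224012042, nat_lit 0x30500030200030d008026, nat_lit 0x2f50002fd00030d00602a, nat_lit 0x2b20002de0002da0002b000031100203e, nat_lit 0x3160003110003190002870000f20000f500026901803c, nat_lit 0x2730000e70000dc00025000031d00031600031101203c, nat_lit 0x22200032100403a, nat_lit 0x28e00031d000216006026, nat_lit 0x2b30001430001400002b0012040, nat_lit 0x20d00031200032d008022, nat_lit 0x2b70002b4000331004020, nat_lit 0x2bb0001620002b4004030, nat_lit 0x21a00033200033900802e, nat_lit 0x2bf0002bc00033d004022, nat_lit 0x2bf0001620002b800402e, nat_lit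 0x2c70002c4006018, nat_lit 0x2c700014f00014c000255012040, nat_lit 0x23300023800034d00402a, nat_lit 0x34900035100027500a028, nat_lit 0x27b000271000355006026, nat_lit 0x2cb0002c800034e00201e, nat_lit 0x29e00028600035d000020, nat_lit 0x2d30002c400035900c020, nat_lit 0x2d300016e00012200015d0002c000a03e, nat_lit 0x34500036900203a, nat_lit 0x32500021e000341000369000042, nat_lit 0x2d70002d400037100e026, nat_lit 0x2d70002c400035600e028, nat_lit 0x37900037600032200021200e042, nat_lit 0x37d0002c500803a, nat_lit 0x3810001f100803a, nat_lit 0x2db0001720002cc00c030, nat_lit 0x2c200036200038900002e, nat_lit 0x2df0002dc006018, nat_lit 0x2df0001720002d000a030, nat_lit 0x2e300018500018200601e, nat_lit 0x2e3000157000059000160012040, nat_lit 0x2e700018500401a, nat_lit 0x2e70002e400039e00201e, nat_lit 0x20200011b00011400010e00006100016c0003a101003c, nat_lit 0x2eb00022500022d00c026, nat_lit 0x2ef0001a1004018, nat_lit 0x2ef0001760002e800c030, nat_lit 0x2060003aa0003b500802e, nat_lit 0x17e0003a50003b500e030,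 nat_lit 0x2f300017a00012a0000c500024c00a03e, nat_lit 0x2360002b50002ba0003c1000042, nat_lit 0x2f700016300005e0000d400024800a03e, nat_lit 0x2660003c900203a, nat_lit 0x2fb0002f800601c, nat_lit 0x2fb0003be0003b900a022, nat_lit 0x3d50003d20003cd00024b00026200025a00027901803c, nat_lit 0x3d90003ba0003b200e020, nat_lit 0x27e0003d9000206000030, nat_lit 0x3a10003a90003e1000022, nat_lit 0x28200026d0002530002600003e500018600018900203c, nat_lit 0x2ff0001920002f4002022, nat_lit 0x23a0003c60003ed00202a, nat_lit 0x30300030000601c, nat_lit 0x3030003990002e300015700016500016a0001fd00c03c, nat_lit 0x3070001a500803a]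
noncomputable def q_c_3_S4 : List ℕ := [nat_lit 0x38500028f0002790003de0003fd00003e, nat_lit 0x30b00018a0002ec002020, nat_lit 0x30b00016f000178002022, nat_lit 0x30b0003e900026300026c00032a00a03e, nat_lit 0x2320003ad000405002028, nat_lit 0x1b70001c000040d000411010042, nat_lit 0x30f00040900041100e02a, nat_lit 0x31300017f000188002022, nat_lit 0x31300019e00030000c02e, nat_lit 0x2420003f200042100002c, nat_lit 0x31700017f00018c006028, nat_lit 0x31700031400042500802a, nat_lit 0x31b00041d000425008028, nat_lit 0x31b0001aa00031000a02c, nat_lit 0x3230001b20002d50002e2012042, nat_lit 0x37100029a00043900602a, nat_lit 0x43d0002d30002d0006022, nat_lit 0x3270002c900603a, nat_lit 0x32700018f0001050002bd006042, nat_lit 0x39200038d00044900e020, nat_lit 0x32b0001930000dd0002a100e040, nat_lit 0x36600045100a018, nat_lit 0x28a0002a100045100001e, nat_lit 0x32f00019700019c00e026, nat_lit 0x32f0001b60001dc00e028, nat_lit 0x3330002d100803a, nat_lit 0x33300045d0004620003f9000042, nat_lit 0x3f20003f500046900e026,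 nat_lit 0x46d00021300020000e020, nat_lit 0x4710004660002ce00044500044d00a03e, nat_lit 0x39500047500203a, nat_lit 0x23e00047900203a, nat_lit 0x3370001ba00032400044200047d00603e, nat_lit 0x21f00021c00048100a022, nat_lit 0x33b0001be000338000485006042, nat_lit 0x43200048900a018, nat_lit 0x33f00030900032d00a028, nat_lit 0x33f0001a70000890001b0012040, nat_lit 0x1f60002b4000491006026, nat_lit 0x34300034000049600201e, nat_lit 0x3470001ca00034400c030, nat_lit 0x1d200049d0004a100e030, nat_lit 0x34b0003480004a500a01e, nat_lit 0x34b0001ca000340004030, nat_lit 0x1fa00049a0004ad00002e, nat_lit 0x34f00034c0004b1002022, nat_lit 0x35300035000601c, nat_lit 0x3530001ed000402004020, nat_lit 0x3570004a90004b1002020, nat_lit 0x35b00035800601c, nat_lit 0x35b0001ce0001320000c100024400403e, nat_lit 0x35f00020900033500c026, nat_lit 0x45a00045500036d0004cd00e042, nat_lit 0x3630001e600036000c02e, nat_lit 0x4d20004d500603a, nat_lit 0x36700036400601c, nat_lit 0x3670001e900040200a022, nat_lit 0x36b0004c10004c500c020,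 nat_lit 0x36b0004b50004b900c022, nat_lit 0x36f0002e90002ed00c028, nat_lit 0x4e90004e60004ca0004ed00e042, nat_lit 0x3730002e90002f100a02a, nat_lit 0x3730003700004f10004be0004e10004de0004d900803c, nat_lit 0x41a0004150003600004d10004f901403e]
noncomputable def q_c_3_S5 : List ℕ := [nat_lit 0x4fd00043500803a, nat_lit 0x377000217000220004034, nat_lit 0x37b0004f500050200048e000040, nat_lit 0x37b0002f200029f0001410002a400803e, nat_lit 0x38300042a000320008036, nat_lit 0x38300042e000505006038, nat_lit 0x38700048a000505008036, nat_lit 0x38b00050e000380000034, nat_lit 0x38b00050a000388008038]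
noncomputable def q_c_3_S : List (List ℕ) := [q_c_3_S0, q_c_3_S1, q_c_3_S2, q_c_3_S3, q_c_3_S4, q_c_3_S5]
noncomputable def q_c_3_defs : List ℕ := [(nat_lit 0x5000100040001000300010002000100090000f0070000f0050000f0040000f0030000f0020000f00b0000e00a0000e00b0000d00a0000d0080000c00b0000b00a0000b0080000b00b0000a00a0000a0070000a0060000a008000090060000900b0000800a00008009000080080000800700008005000080040000800b0000700a00007009000070080000700700007006000070050000700400007008000060060000600500006004000060030000600200006005000040040000300b0000200a00002009000020080000200700002006000020050000200400002003000020020000200100001004000000030000000200000001000000000000000000000),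
  (nat_lit 0x20002f00a0002e0030002d0020002d0060002c0050002c0040002c00b0002b00a0002b0080002b00a0002a00b0002800a0002800500027004000270020002700400026003000260020002600b0002500a0002500b0002400a0002400800023009000220080002200700022009000210080002100900020006000200050002000400020002000200060001f0050001f0040001f0030001f0020001f00b0001e00a0001e00b0001d00a0001d00b0001c00a0001c0080001c00b0001b00a0001b0080001b00a000190080001900700019006000190080001600800015007000150060001500700014005000140040001400500013007000120080001000700010),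
  (nat_lit 0x6000590070005800600058006000570020005600600055004000550030005500300054002000540080005300600053005000530040005300300053002000530070005100500051007000500030005000a0004f0070004e0020004e00b0004c00a0004b0080004b00900045009000430070003f0080003d0070003d0060003d0060003c0090003a00900039007000390060003900a00038009000380060003800b0003700a00037007000370060003700a000360070003500700034006000340060003300200033009000320070003200600032004000320030003200a000310070003000400030001000300070002f0060002f0050002f0040002f0030002f),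
  (nat_lit 0x1000de001000ce001000c5001000a800a000890070008500500075002000750060007400700071006000710060006d0070006c0060006c0070006a0060006a0050006a0020006a004000690030006900b0006700b0006600a000660080006500a0006400b0006300a0006300100062009000610090005f0060005f0080005d0060005b00a0005a00700059)]
noncomputable def q_c_3_recs : List ℕ := [(nat_lit 0x2000330003f00000360003e03000350003e04000350003d00000390003d030003c0003d040003c0003300000380003c0b000210003b0200034000390500038000390300032000380400032000370000034000350b00018000350a0001800034000003200033020000d00031030002e00031000002f000300a000170002f030000d0002e000002c0002d09000260002c040000c0002b05000280002a070000d00029050000b00028000002600027090002400025050001d00024020000c00023010001100022020000a00022030001a00022050002100022030001900021020000900021000001f000200a000150001f070000e0001e090001d0001e050000d0001d030000c0001c030000b0001b010001200019030000900019000000e00018000000b00017000000800016000000700015000000a00014030001300014000000900013030000500011000000f000100b0000600010090000d0000e070000b0000c05000090000a010000300008030000700008010000400007000000200006),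
  (nat_lit 0x60003100076000007300074080005000073000006e00072020006a00072050007100072000006d0007104000700006a000006f0007003000690006f04000690006e000006b0006c0b0004a0006c00000690006a040003100068020002400068090006600067070006300066020002b00065050004d000630a0002200062000005d00061000005a0006002000560006000000590005f040005e00056000005b0005e05000570005902000570005c03000550005b04000550005a03000590005a0000057000580a00049000570000055000560000053000540a0004800053050003100052020001d000520000050000510b0004700051050002e0004f030001d0004f08000260004e090002c0004e05000290004d01000420004c070004b0004c050001b0004b03000280004b00000250004a06000180004a000001e00049070001800049000001c00048070004700048000001b00047000002b000460000022000450300043000450200015000440000021000430a000210004100000370003f),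
  (nat_lit 0x6000a900088080006f000a9090007b000a906000a70008905000a7000900900075000a70300098000a70a0009b000a60a000a6000a0070004f000a6030004d000a60000066000a507000a4000a50000063000a40000095000a3000009d000a20400041000a20400092000a10200040000a107000a0000a1000009b000a0030009f000a0050008f0009f040003b0009e03000990009d070009b0009c05000980009b02000900009b08000930009a030003b00099070008d00099030008b000980000096000970a0003f00096040008c00095020003a00095040008b000940a0003e00093000009100092040008e00035000008a0008e020003f0008e0b000520008d03000340008a040003400089030003800089080006900088000008400087000007f000860700083000840b0004000083050008100082030007e00081040007e0008009000550007e000007a0007d030007c0007d00000790007c090006f0007b090006e0007a05000790007a090006d000790000077000780a0004600077),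
  (nat_lit 0xa00060000c10b00076000c007000bf000c009000bf0008405000bc000bf0b0005b0009807000970005a0500077000970600060000960200096000780400078000be07000bd000be0b000bd000920b00091000bd09000bc000830b00092000bc04000bb0005806000bb0007800000b9000bb0200060000bb0800081000ba06000b9000770300057000b9040005a000b90400057000b80500059000b800000b3000b703000b6000b707000b6000a200000b2000b60a00072000a30a000a30006e0a0006e000950400095000b5020009c000b509000b40009c0b000b4000ad0b000af000b4020009e000b407000b20009d030008d000b207000b00009e0800095000b009000b10008c040008d000b103000b0000b100000ad000af050007c000af06000ae0007c00000ac000ae0300079000ad06000ac0007904000ab000ac070006f0009a0a0009c0007d0a0007a0009c02000930007b0b0007a000a105000ab0007b06000ab0007a0800088000ab0900069000ab090007a000aa0200088000aa),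
  (nat_lit 0xa000dc000c30700099000dc0800089000dc0a000db000d40800090000db04000d4000da02000d6000da04000c1000d907000d8000d90b000d80009900000d7000d80a000d70009908000ad000d70a00090000d607000d5000d60300074000d503000c1000d407000d3000d40500074000d307000d20007400000cf000d2020006c000d204000d10006c00000d0000d1030006b000d007000cf00073040006b000cf08000ac000cf03000ce000c60300087000ce04000cd000870600086000cd0b000b3000860b0007f000b30b000b70007f060007f000cc02000cc0008409000c0000cc0a000a5000cc0400076000cb0200066000cb05000ca0009903000ca000b4030009e000ca06000c9000b703000a2000c90b000a4000c907000b3000c805000c8000b4080009b000c800000c3000c60200087000c60400087000c50300062000c508000c40008700000bf000c40500061000c40600082000c30a000820006d09000c2000820b0006f000c2050005d000c203000ba000c207000c100072),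
  (nat_lit 0x4000e1000e207000df000e202000dd000e105000dd000e002000c7000e007000a8000de05000ce000de0100087000dd0a000c6000dc)]
noncomputable def q_c_3_T : List (List ℕ × ℕ) := [([4,2,1,11,1,3,5,3,5,7,1,10,1,6,4,2], (nat_lit 0x1400004c00010c0001450002a400038000051d00052200051a00051500051200031f0001ae00007e000026000017))]
noncomputable def q_c_3_D : H26.Dag := ⟨[0,1,3,2,5,4,7,6,9,8,11,10], [[0,0],
  [1,1],
  [2,3],
  [3,2],
  [4,5],
  [5,4],
  [6,7],
  [7,6],
  [8,9],
  [9,8],
  [10,11],
  [11,10],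
  [2,2,2],
  [4,4,4],
  [6,6,6],
  [5,3,4,2],
  [7,3,6,2],
  [7,5,6,4],
  [8,8,8],
  [3,9,6,8],
  [5,9,2,8],
  [7,9,4,8],
  [8,0,8,0],
  [7,0,6,0],
  [5,0,2,0],
  [1,0,1,0],
  [7,1,6,1],
  [2,1,2,1],
  [4,1,4,1],
  [0,10,10],
  [3,5,7,11,6,4,2,10],
  [7,10,7,10,7,10],
  [5,2,11,8,10],
  [9,11,5,2,10]], [], q_c_3_defs, q_c_3_recs⟩
theorem q_c_3_c : q_c_3_D.check q_c_3_S q_c_3_T = true := by decide +kernel
theorem q_c_3 {G : Type*} [Group G] {g : ℕ → G} (hR : Rels g q_c_Rl) {H : Subgroup G}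
    (hH : ∀ k ∈ [], g k ∈ H) : evA g [4,2,1,11,1,3,5,3,5,7,1,10,1,6,4,2] ∈ H :=
  mem_dag (K := 12) (J := [0,1,2,3,4,5,6,7,8,9,10,11,12,13,14,15,16,17,18,19,20,21,22,23,24,25,26,27,28,30,31,32,33,34]) (D := q_c_3_D) (by decide +kernel) q_c_3_c (by decide +kernel) hR hH
noncomputable def q_c_4_S0 : List ℕ := [nat_lit 0xb000008008018, nat_lit 0xf00000c00a018]
noncomputable def q_c_4_S : List (List ℕ) := [q_c_4_S0]
noncomputable def q_c_4_defs : List ℕ := [(nat_lit 0xb0000000a000000000000000000000)]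
noncomputable def q_c_4_recs : List ℕ := [(nat_lit 0x2000030a0000100002)]
noncomputable def q_c_4_T : List (List ℕ × ℕ) := [([0,11,0,10], (nat_lit 0x10000006000002000007))]
noncomputable def q_c_4_D : H26.Dag := ⟨[0,1,3,2,5,4,7,6,9,8,11,10], [[0,0],
  [1,1],
  [2,3],
  [3,2],
  [4,5],
  [5,4],
  [6,7],
  [7,6],
  [8,9],
  [9,8],
  [10,11],
  [11,10],
  [0,10,10]], [], q_c_4_defs, q_c_4_recs⟩
theorem q_c_4_c : q_c_4_D.check q_c_4_S q_c_4_T = true := by decide +kernel
theorem q_c_4 {G : Type*} [Group G] {g : ℕ → G} (hR : Rels g q_c_Rl) {H : Subgroup G}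
    (hH : ∀ k ∈ [], g k ∈ H) : evA g [0,11,0,10] ∈ H :=
  mem_dag (K := 12) (J := [0,1,2,3,4,5,6,7,8,9,10,11,30]) (D := q_c_4_D) (by decide +kernel) q_c_4_c (by decide +kernel) hR hH
theorem q_c {G : Type*} [Group G] {t c a b e x q : G}
    (h : B1 a b e x t)
    (k : C1 a b e x t c)
    (l : Q1 a b e x t q) :
    (q * (a * b)) ^ 3 = 1 ∧ (c * q * c⁻¹ * (a * b)⁻¹) ^ 3 = 1 ∧ c * q * c⁻¹ * (c * q * c⁻¹) = t ∧ a * b * e * (c * q * c⁻¹) * (a * b * e)⁻¹ = (a * b)⁻¹ * (c * q * c⁻¹) * (a * b) ∧ q * t = t * q :=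
  ⟨mul_inv_eq_one.1 ((evA_eq_tm ((InvI.cons h.2.2.2.2.2.2.2.2.2.2.1 (InvI.cons k.1 InvI.nil)) : InvI [t, c, a, b, e, x, q] [(nat_lit 0), (nat_lit 1)]) [(.v (nat_lit 0)), (.v (nat_lit 1)), (.v (nat_lit 2)), (.inv (.v (nat_lit 2))), (.v (nat_lit 3)), (.inv (.v (nat_lit 3))), (.v (nat_lit 4)), (.inv (.v (nat_lit 4))), (.v (nat_lit 5)), (.inv (.v (nat_lit 5))), (.v (nat_lit 6)), (.inv (.v (nat_lit 6)))] [4,2,10,4,2,10,4,2,10] (.mul (.pw (.mul (.v (nat_lit 6)) (.mul (.v (nat_lit 2)) (.v (nat_lit 3)))) (nat_lit 3)) (.inv .one)) (by decide +kernel)).symm.trans (Subgroup.mem_bot.1 (q_c_0 (q_c_r h k l) (H := ⊥) (List.forall_mem_nil _)))),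
   mul_inv_eq_one.1 ((evA_eq_tm ((InvI.cons h.2.2.2.2.2.2.2.2.2.2.1 (InvI.cons k.1 InvI.nil)) : InvI [t, c, a, b, e, x, q] [(nat_lit 0), (nat_lit 1)]) [(.v (nat_lit 0)), (.v (nat_lit 1)), (.v (nat_lit 2)), (.inv (.v (nat_lit 2))), (.v (nat_lit 3)), (.inv (.v (nat_lit 3))), (.v (nat_lit 4)), (.inv (.v (nat_lit 4))), (.v (nat_lit 5)), (.inv (.v (nat_lit 5))), (.v (nat_lit 6)), (.inv (.v (nat_lit 6)))] [3,5,1,10,1,3,5,1,10,1,3,5,1,10,1] (.mul (.pw (.mul (.mul (.mul (.v (nat_lit 1)) (.v (nat_lit 6))) (.inv (.v (nat_lit 1)))) (.inv (.mul (.v (nat_lit 2)) (.v (nat_lit 3))))) (nat_lit 3)) (.inv .one)) (by decide +kernel)).symm.trans (Subgroup.mem_bot.1 (q_c_1 (q_c_r h k l) (H := ⊥) (List.forall_mem_nil _)))),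
   mul_inv_eq_one.1 ((evA_eq_tm ((InvI.cons h.2.2.2.2.2.2.2.2.2.2.1 (InvI.cons k.1 InvI.nil)) : InvI [t, c, a, b, e, x, q] [(nat_lit 0), (nat_lit 1)]) [(.v (nat_lit 0)), (.v (nat_lit 1)), (.v (nat_lit 2)), (.inv (.v (nat_lit 2))), (.v (nat_lit 3)), (.inv (.v (nat_lit 3))), (.v (nat_lit 4)), (.inv (.v (nat_lit 4))), (.v (nat_lit 5)), (.inv (.v (nat_lit 5))), (.v (nat_lit 6)), (.inv (.v (nat_lit 6)))] [0,1,10,10,1] (.mul (.mul (.mul (.mul (.v (nat_lit 1)) (.v (nat_lit 6))) (.inv (.v (nat_lit 1)))) (.mul (.mul (.v (nat_lit 1)) (.v (nat_lit 6))) (.inv (.v (nat_lit 1))))) (.inv (.v (nat_lit 0)))) (by decide +kernel)).symm.trans (Subgroup.mem_bot.1 (q_c_2 (q_c_r h k l) (H := ⊥) (List.forall_mem_nil _)))),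
   mul_inv_eq_one.1 ((evA_eq_tm ((InvI.cons h.2.2.2.2.2.2.2.2.2.2.1 (InvI.cons k.1 InvI.nil)) : InvI [t, c, a, b, e, x, q] [(nat_lit 0), (nat_lit 1)]) [(.v (nat_lit 0)), (.v (nat_lit 1)), (.v (nat_lit 2)), (.inv (.v (nat_lit 2))), (.v (nat_lit 3)), (.inv (.v (nat_lit 3))), (.v (nat_lit 4)), (.inv (.v (nat_lit 4))), (.v (nat_lit 5)), (.inv (.v (nat_lit 5))), (.v (nat_lit 6)), (.inv (.v (nat_lit 6)))] [4,2,1,11,1,3,5,3,5,7,1,10,1,6,4,2] (.mul (.mul (.mul (.mul (.mul (.v (nat_lit 2)) (.v (nat_lit 3))) (.v (nat_lit 4))) (.mul (.mul (.v (nat_lit 1)) (.v (nat_lit 6))) (.inv (.v (nat_lit 1))))) (.inv (.mul (.mul (.v (nat_lit 2)) (.v (nat_lit 3))) (.v (nat_lit 4))))) (.inv (.mul (.mul (.inv (.mul (.v (nat_lit 2)) (.v (nat_lit 3)))) (.mul (.mul (.v (nat_lit 1)) (.v (nat_lit 6))) (.inv (.v (nat_lit 1))))) (.mul (.v (nat_lit 2)) (.v (nat_lit 3)))))) (by decide +kernel)).symm.trans (Subgroup.mem_bot.1 (q_c_3 (q_c_r h k l) (H := ⊥) (List.forall_mem_nil _)))),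
   mul_inv_eq_one.1 ((evA_eq_tm ((InvI.cons h.2.2.2.2.2.2.2.2.2.2.1 (InvI.cons k.1 InvI.nil)) : InvI [t, c, a, b, e, x, q] [(nat_lit 0), (nat_lit 1)]) [(.v (nat_lit 0)), (.v (nat_lit 1)), (.v (nat_lit 2)), (.inv (.v (nat_lit 2))), (.v (nat_lit 3)), (.inv (.v (nat_lit 3))), (.v (nat_lit 4)), (.inv (.v (nat_lit 4))), (.v (nat_lit 5)), (.inv (.v (nat_lit 5))), (.v (nat_lit 6)), (.inv (.v (nat_lit 6)))] [0,11,0,10] (.mul (.mul (.v (nat_lit 6)) (.v (nat_lit 0))) (.inv (.mul (.v (nat_lit 0)) (.v (nat_lit 6))))) (by decide +kernel)).symm.trans (Subgroup.mem_bot.1 (q_c_4 (q_c_r h k l) (H := ⊥) (List.forall_mem_nil _))))⟩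

end H2.L3
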