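import Cfsg.Agent.H2.LA3
import Cfsg.Agent.H2.L2

/-! Generated: the normalizer of a three-cycle in the symmetric group of degree eight. -/

set_option maxRecDepth 100000
set_option maxHeartbeats 4000000
set_option linter.unusedVariables false

open Subgroup
open scoped commutatorElement
namespace H2.L3
open H0 H0.PM H16 H19 H10.X

def N9 {G : Type*} [Group G] (a b c d e u : G) : Prop :=
  a * a = 1 ∧
  b * b = 1 ∧
  c * c = 1 ∧
  d * d = 1 ∧
  e * e = 1 ∧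
  u * u = 1 ∧
  (b * a) ^ 3 = 1 ∧
  (d * c) ^ 3 = 1 ∧
  (d * e) ^ 3 = 1 ∧
  (e * u) ^ 3 = 1 ∧
  a * c = c * a ∧
  a * d = d * a ∧
  a * e = e * a ∧
  a * u = u * a ∧
  b * c = c * b ∧
  b * d = d * b ∧
  b * e = e * b ∧
  b * u = u * b ∧
  c * e = e * c ∧
  c * u = u * c ∧
  d * u = u * d ∧ True
theorem N9.map {G G' : Type*} [Group G] [Group G'] {a b c d e u : G} (h : N9 a b c d e u) (f : G →* G') :
    N9 (f a) (f b) (f c) (f d) (f e) (f u) :=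
  ⟨by simpa only [map_mul, map_pow, map_inv, map_one, map_commutatorElement] using congrArg f h.1,
   by simpa only [map_mul, map_pow, map_inv, map_one, map_commutatorElement] using congrArg f h.2.1,
   by simpa only [map_mul, map_pow, map_inv, map_one, map_commutatorElement] using congrArg f h.2.2.1,
   by simpa only [map_mul, map_pow, map_inv, map_one, map_commutatorElement] using congrArg f h.2.2.2.1,
   by simpa only [map_mul, map_pow, map_inv, map_one, map_commutatorElement] using congrArg f h.2.2.2.2.1,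
   by simpa only [map_mul, map_pow, map_inv, map_one, map_commutatorElement] using congrArg f h.2.2.2.2.2.1,
   by simpa only [map_mul, map_pow, map_inv, map_one, map_commutatorElement] using congrArg f h.2.2.2.2.2.2.1,
   by simpa only [map_mul, map_pow, map_inv, map_one, map_commutatorElement] using congrArg f h.2.2.2.2.2.2.2.1,
   by simpa only [map_mul, map_pow, map_inv, map_one, map_commutatorElement] using congrArg f h.2.2.2.2.2.2.2.2.1,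
   by simpa only [map_mul, map_pow, map_inv, map_one, map_commutatorElement] using congrArg f h.2.2.2.2.2.2.2.2.2.1,
   by simpa only [map_mul, map_pow, map_inv, map_one, map_commutatorElement] using congrArg f h.2.2.2.2.2.2.2.2.2.2.1,
   by simpa only [map_mul, map_pow, map_inv, map_one, map_commutatorElement] using congrArg f h.2.2.2.2.2.2.2.2.2.2.2.1,
   by simpa only [map_mul, map_pow, map_inv, map_one, map_commutatorElement] using congrArg f h.2.2.2.2.2.2.2.2.2.2.2.2.1,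
   by simpa only [map_mul, map_pow, map_inv, map_one, map_commutatorElement] using congrArg f h.2.2.2.2.2.2.2.2.2.2.2.2.2.1,
   by simpa only [map_mul, map_pow, map_inv, map_one, map_commutatorElement] using congrArg f h.2.2.2.2.2.2.2.2.2.2.2.2.2.2.1,
   by simpa only [map_mul, map_pow, map_inv, map_one, map_commutatorElement] using congrArg f h.2.2.2.2.2.2.2.2.2.2.2.2.2.2.2.1,
   by simpa only [map_mul, map_pow, map_inv, map_one, map_commutatorElement] using congrArg f h.2.2.2.2.2.2.2.2.2.2.2.2.2.2.2.2.1,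
   by simpa only [map_mul, map_pow, map_inv, map_one, map_commutatorElement] using congrArg f h.2.2.2.2.2.2.2.2.2.2.2.2.2.2.2.2.2.1,
   by simpa only [map_mul, map_pow, map_inv, map_one, map_commutatorElement] using congrArg f h.2.2.2.2.2.2.2.2.2.2.2.2.2.2.2.2.2.2.1,
   by simpa only [map_mul, map_pow, map_inv, map_one, map_commutatorElement] using congrArg f h.2.2.2.2.2.2.2.2.2.2.2.2.2.2.2.2.2.2.2.1,
   by simpa only [map_mul, map_pow, map_inv, map_one, map_commutatorElement] using congrArg f h.2.2.2.2.2.2.2.2.2.2.2.2.2.2.2.2.2.2.2.2.1, trivial⟩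
theorem N9.comap {G G' : Type*} [Group G] [Group G'] {a b c d e u : G} {f : G →* G'} (hf : Function.Injective f)
    (h : N9 (f a) (f b) (f c) (f d) (f e) (f u)) : N9 a b c d e u :=
  ⟨hf (by simpa only [map_mul, map_pow, map_inv, map_one, map_commutatorElement] using h.1),
   hf (by simpa only [map_mul, map_pow, map_inv, map_one, map_commutatorElement] using h.2.1),
   hf (by simpa only [map_mul, map_pow, map_inv, map_one, map_commutatorElement] using h.2.2.1),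
   hf (by simpa only [map_mul, map_pow, map_inv, map_one, map_commutatorElement] using h.2.2.2.1),
   hf (by simpa only [map_mul, map_pow, map_inv, map_one, map_commutatorElement] using h.2.2.2.2.1),
   hf (by simpa only [map_mul, map_pow, map_inv, map_one, map_commutatorElement] using h.2.2.2.2.2.1),
   hf (by simpa only [map_mul, map_pow, map_inv, map_one, map_commutatorElement] using h.2.2.2.2.2.2.1),
   hf (by simpa only [map_mul, map_pow, map_inv, map_one, map_commutatorElement] using h.2.2.2.2.2.2.2.1),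
   hf (by simpa only [map_mul, map_pow, map_inv, map_one, map_commutatorElement] using h.2.2.2.2.2.2.2.2.1),
   hf (by simpa only [map_mul, map_pow, map_inv, map_one, map_commutatorElement] using h.2.2.2.2.2.2.2.2.2.1),
   hf (by simpa only [map_mul, map_pow, map_inv, map_one, map_commutatorElement] using h.2.2.2.2.2.2.2.2.2.2.1),
   hf (by simpa only [map_mul, map_pow, map_inv, map_one, map_commutatorElement] using h.2.2.2.2.2.2.2.2.2.2.2.1),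
   hf (by simpa only [map_mul, map_pow, map_inv, map_one, map_commutatorElement] using h.2.2.2.2.2.2.2.2.2.2.2.2.1),
   hf (by simpa only [map_mul, map_pow, map_inv, map_one, map_commutatorElement] using h.2.2.2.2.2.2.2.2.2.2.2.2.2.1),
   hf (by simpa only [map_mul, map_pow, map_inv, map_one, map_commutatorElement] using h.2.2.2.2.2.2.2.2.2.2.2.2.2.2.1),
   hf (by simpa only [map_mul, map_pow, map_inv, map_one, map_commutatorElement] using h.2.2.2.2.2.2.2.2.2.2.2.2.2.2.2.1),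
   hf (by simpa only [map_mul, map_pow, map_inv, map_one, map_commutatorElement] using h.2.2.2.2.2.2.2.2.2.2.2.2.2.2.2.2.1),
   hf (by simpa only [map_mul, map_pow, map_inv, map_one, map_commutatorElement] using h.2.2.2.2.2.2.2.2.2.2.2.2.2.2.2.2.2.1),
   hf (by simpa only [map_mul, map_pow, map_inv, map_one, map_commutatorElement] using h.2.2.2.2.2.2.2.2.2.2.2.2.2.2.2.2.2.2.1),
   hf (by simpa only [map_mul, map_pow, map_inv, map_one, map_commutatorElement] using h.2.2.2.2.2.2.2.2.2.2.2.2.2.2.2.2.2.2.2.1),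
   hf (by simpa only [map_mul, map_pow, map_inv, map_one, map_commutatorElement] using h.2.2.2.2.2.2.2.2.2.2.2.2.2.2.2.2.2.2.2.2.1), trivial⟩
noncomputable def N9_Rl : List (List ℕ) := [[0,0],
  [1,1],
  [2,2],
  [3,3],
  [4,4],
  [5,5],
  [0,1,0,1,0,1],
  [2,3,2,3,2,3],
  [4,3,4,3,4,3],
  [5,4,5,4,5,4],
  [2,0,2,0],
  [3,0,3,0],
  [4,0,4,0],
  [5,0,5,0],
  [2,1,2,1],
  [3,1,3,1],
  [4,1,4,1],
  [5,1,5,1],
  [4,2,4,2],
  [5,2,5,2],
  [5,3,5,3]]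
theorem N9_r {G : Type*} [Group G] {a b c d e u : G}
    (h : N9 a b c d e u) :
    Rels (nthG [a, b, c, d, e, u]) N9_Rl :=
  rels_of_eqs ((InvI.cons h.1 (InvI.cons h.2.1 (InvI.cons h.2.2.1 (InvI.cons h.2.2.2.1 (InvI.cons h.2.2.2.2.1 (InvI.cons h.2.2.2.2.2.1 InvI.nil)))))) : InvI [a, b, c, d, e, u] [(nat_lit 0), (nat_lit 1), (nat_lit 2), (nat_lit 3), (nat_lit 4), (nat_lit 5)])
    (show AllEq [a, b, c, d, e, u] [((.mul (.v (nat_lit 0)) (.v (nat_lit 0))), .one), ((.mul (.v (nat_lit 1)) (.v (nat_lit 1))), .one), ((.mul (.v (nat_lit 2)) (.v (nat_lit 2))), .one), ((.mul (.v (nat_lit 3)) (.v (nat_lit 3))), .one), ((.mul (.v (nat_lit 4)) (.v (nat_lit 4))), .one), ((.mul (.v (nat_lit 5)) (.v (nat_lit 5))), .one), ((.pw (.mul (.v (nat_lit 1)) (.v (nat_lit 0))) (nat_lit 3)), .one), ((.pw (.mul (.v (nat_lit 3)) (.v (nat_lit 2))) (nat_lit 3)), .one), ((.pw (.mul (.v (nat_lit 3)) (.v (nat_lit 4)))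 (nat_lit 3)), .one), ((.pw (.mul (.v (nat_lit 4)) (.v (nat_lit 5))) (nat_lit 3)), .one), ((.mul (.v (nat_lit 0)) (.v (nat_lit 2))), (.mul (.v (nat_lit 2)) (.v (nat_lit 0)))), ((.mul (.v (nat_lit 0)) (.v (nat_lit 3))), (.mul (.v (nat_lit 3)) (.v (nat_lit 0)))), ((.mul (.v (nat_lit 0)) (.v (nat_lit 4))), (.mul (.v (nat_lit 4)) (.v (nat_lit 0)))), ((.mul (.v (nat_lit 0)) (.v (nat_lit 5))), (.mul (.v (nat_lit 5)) (.v (nat_lit 0)))), ((.mul (.v (nat_lit 1)) (.v (nat_lit 2))), (.mul (.v (nat_lit 2)) (.v (nat_lit 1)))), ((.mul (.v (nat_lit 1)) (.v (nat_lit 3))), (.mul (.v (nat_lit 3)) (.v (nat_lit 1)))), ((.mul (.v (nat_lit 1)) (.v (nat_lit 4))), (.mul (.v (nat_lit 4)) (.v (nat_lit 1)))), ((.mul (.v (nat_lit 1)) (.v (nat_lit 5))), (.mul (.v (nat_lit 5)) (.v (nat_lit 1)))), ((.mul (.v (nat_lit 2)) (.v (nat_lit 4))), (.mul (.v (nat_lit 4)) (.v (nat_lit 2)))), ((.mul (.v (nat_lit 2)) (.v (nat_lit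 5))), (.mul (.v (nat_lit 5)) (.v (nat_lit 2)))), ((.mul (.v (nat_lit 3)) (.v (nat_lit 5))), (.mul (.v (nat_lit 5)) (.v (nat_lit 3))))] from h)
    [(.v (nat_lit 0)), (.v (nat_lit 1)), (.v (nat_lit 2)), (.v (nat_lit 3)), (.v (nat_lit 4)), (.v (nat_lit 5))] (by decide +kernel)
noncomputable abbrev N9_o : Ops := pops (nat_lit 8) (nat_lit 3) (nat_lit 7) (nat_lit 0xfac688)
noncomputable def N9_cs : List ℕ := [(nat_lit 0xfac681), (nat_lit 0xfac650), (nat_lit 0xfab888), (nat_lit 0xfa5688), (nat_lit 0xf74688), (nat_lit 0xdec688)]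
noncomputable def N9_L : List (List ℕ) := [[(nat_lit 0xfac688), (nat_lit 0xfab888), (nat_lit 0xfa3a88), (nat_lit 0xf63c88), (nat_lit 0xd63e88)],
  [(nat_lit 0xfac688), (nat_lit 0xfa5688), (nat_lit 0xf66688), (nat_lit 0xd67688)],
  [(nat_lit 0xfac688), (nat_lit 0xfac681), (nat_lit 0xfac642)],
  [(nat_lit 0xfac688), (nat_lit 0xf74688), (nat_lit 0xd7c688)],
  [(nat_lit 0xfac688), (nat_lit 0xfac650)],
  [(nat_lit 0xfac688), (nat_lit 0xdec688)]]
noncomputable def N9_WW : List (List (List ℕ)) := [[[],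
  [(nat_lit 2)],
  [(nat_lit 2), (nat_lit 3)],
  [(nat_lit 2), (nat_lit 3), (nat_lit 4)],
  [(nat_lit 2), (nat_lit 3), (nat_lit 4), (nat_lit 5)]],
  [[],
  [(nat_lit 3)],
  [(nat_lit 3), (nat_lit 4)],
  [(nat_lit 3), (nat_lit 4), (nat_lit 5)]],
  [[],
  [(nat_lit 0)],
  [(nat_lit 0), (nat_lit 1)]],
  [[],
  [(nat_lit 4)],
  [(nat_lit 4), (nat_lit 5)]],
  [[],
  [(nat_lit 1)]],
  [[],
  [(nat_lit 5)]]]
noncomputable def N9_b2_S0 : List ℕ := [nat_lit 0x1700000f00000700000c000014004004]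
noncomputable def N9_b2_S : List (List ℕ) := [N9_b2_S0]
noncomputable def N9_b2_defs : List ℕ := [(nat_lit 0x30000000200100001001000000000000000000000)]
noncomputable def N9_b2_recs : List ℕ := [(nat_lit 0x10000400005)]
noncomputable def N9_b2_L0 : List ℕ := [nat_lit 0x700000100000b000002, nat_lit 0x800000000000f000003, nat_lit 0x1300000400000c000000, nat_lit 0x17000005000010000001, nat_lit 0x14000002000002000005, nat_lit 0x18000003000001000004]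
noncomputable def N9_b2_L : List (List ℕ) := [N9_b2_L0]
noncomputable def N9_b2_V : List ℕ := [(nat_lit 0x50000000400000003000000020000000100000000)]
noncomputable def N9_b2_D : H26.Dag := ⟨[], [[0,0],
  [1,1],
  [0,1,0,1,0,1]], [], N9_b2_defs, N9_b2_recs⟩
theorem N9_b2_c : N9_b2_D.checkTab N9_b2_S 6 2 N9_b2_V N9_b2_L = true := by decide +kernel
theorem N9_b2 : Bound N9_Rl 2 6 :=
  bound_dag (Bound.zero N9_Rl) (K := 2) (J := [0,1,6]) (by decide +kernel) N9_b2_c (by decide +kernel)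
noncomputable def N9_b3_S0 : List ℕ := [nat_lit 0x1, nat_lit 0x1, nat_lit 0x7000001000008004006, nat_lit 0x7000005000008004008]
noncomputable def N9_b3_S : List (List ℕ) := [N9_b3_S0]
noncomputable def N9_b3_defs : List ℕ := [(nat_lit 0x20000000000000)]
noncomputable def N9_b3_recs : List ℕ := [(nat_lit 0x10000100001000000100001010000000000000000000000)]
noncomputable def N9_b3_L0 : List ℕ := [nat_lit 0x1000000000005000000000007000001, nat_lit 0x900000100000d000001000008000000]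
noncomputable def N9_b3_L : List (List ℕ) := [N9_b3_L0]
noncomputable def N9_b3_V : List ℕ := [(nat_lit 0x100000000)]
noncomputable def N9_b3_D : H26.Dag := ⟨[], [[0,0],
  [1,1],
  [2,2],
  [2,0,2,0],
  [2,1,2,1]], [0,1], N9_b3_defs, N9_b3_recs⟩
theorem N9_b3_c : N9_b3_D.checkTab N9_b3_S 2 3 N9_b3_V N9_b3_L = true := by decide +kernel
theorem N9_b3 : Bound N9_Rl 3 12 :=
  bound_dag N9_b2 (K := 3) (J := [0,1,2,10,14]) (by decide +kernel) N9_b3_c (by decide +kernel)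
noncomputable def N9_b4_S0 : List ℕ := [nat_lit 0x1, nat_lit 0x1, nat_lit 0x1, nat_lit 0x700000100000800400c, nat_lit 0x7000005000008004010, nat_lit 0xb00000d00000c00400a, nat_lit 0xb00001100000c00400e, nat_lit 0xb00000700000900000800000c004008]
noncomputable def N9_b4_S : List (List ℕ) := [N9_b4_S0]
noncomputable def N9_b4_defs : List ℕ := [(nat_lit 0x2000010030000000000000)]
noncomputable def N9_b4_recs : List ℕ := [(nat_lit 0x30000200002010000200002000000200002010000100001000000100001020000000000010000000000000000000000)]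
noncomputable def N9_b4_L0 : List ℕ := [nat_lit 0x1000000000005000000000009000000000007000001, nat_lit 0xd00000100001100000100000b000002000008000000, nat_lit 0x1500000200001900000200000c00000100001d000002]
noncomputable def N9_b4_L : List (List ℕ) := [N9_b4_L0]
noncomputable def N9_b4_V : List ℕ := [(nat_lit 0x20000000100000000)]
noncomputable def N9_b4_D : H26.Dag := ⟨[], [[0,0],
  [1,1],
  [2,2],
  [3,3],
  [2,3,2,3,2,3],
  [2,0,2,0],
  [3,0,3,0],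
  [2,1,2,1],
  [3,1,3,1]], [0,1,2], N9_b4_defs, N9_b4_recs⟩
theorem N9_b4_c : N9_b4_D.checkTab N9_b4_S 3 4 N9_b4_V N9_b4_L = true := by decide +kernel
theorem N9_b4 : Bound N9_Rl 4 36 :=
  bound_dag N9_b3 (K := 4) (J := [0,1,2,3,7,10,11,14,15]) (by decide +kernel) N9_b4_c (by decide +kernel)
noncomputable def N9_b5_S0 : List ℕ := [nat_lit 0x1, nat_lit 0x1, nat_lit 0x1, nat_lit 0x1, nat_lit 0x7000001000008004012, nat_lit 0x7000005000008004018, nat_lit 0x700000900000800401a, nat_lit 0xb00001100000c004010, nat_lit 0xb00001500000c004016, nat_lit 0xb00000700000d00000800000c00800c, nat_lit 0xf00001d00001000400e, nat_lit 0xf000021000010004014, nat_lit 0xf00002500001000801a, nat_lit 0xf00000b00001900000c00001000400a]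
noncomputable def N9_b5_S : List (List ℕ) := [N9_b5_S0]
noncomputable def N9_b5_defs : List ℕ := [(nat_lit 0x200002003000010040000000000000)]
noncomputable def N9_b5_recs : List ℕ := [(nat_lit 0x30000300003040000300003010000300003000000300003040000200002010000200002000000200002020000100001010000100001000000100001030000000000020000000000010000000000000000000000)]
noncomputable def N9_b5_L0 : List ℕ := [nat_lit 0x100000000000500000000000900000000000d000000000007000001, nat_lit 0x1100000100001500000100001900000100000b000002000008000000, nat_lit 0x1d00000200002100000200000f00000300000c000001000025000002, nat_lit 0x2900000300002d000003000010000002000035000003000031000003]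
noncomputable def N9_b5_L : List (List ℕ) := [N9_b5_L0]
noncomputable def N9_b5_V : List ℕ := [(nat_lit 0x3000000020000000100000000)]
noncomputable def N9_b5_D : H26.Dag := ⟨[], [[0,0],
  [1,1],
  [2,2],
  [3,3],
  [4,4],
  [2,3,2,3,2,3],
  [4,3,4,3,4,3],
  [2,0,2,0],
  [3,0,3,0],
  [4,0,4,0],
  [2,1,2,1],
  [3,1,3,1],
  [4,1,4,1],
  [4,2,4,2]], [0,1,2,3], N9_b5_defs, N9_b5_recs⟩
theorem N9_b5_c : N9_b5_D.checkTab N9_b5_S 4 5 N9_b5_V N9_b5_L = true := by decide +kernel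
theorem N9_b5 : Bound N9_Rl 5 144 :=
  bound_dag N9_b4 (K := 5) (J := [0,1,2,3,4,7,8,10,11,12,14,15,16,18]) (by decide +kernel) N9_b5_c (by decide +kernel)
noncomputable def N9_b6_S0 : List ℕ := [nat_lit 0x1, nat_lit 0x1, nat_lit 0x1, nat_lit 0x1, nat_lit 0x1, nat_lit 0x7000001000008004018, nat_lit 0x7000005000008004020, nat_lit 0x7000009000008004024, nat_lit 0x700000d000008004026, nat_lit 0xb00001500000c004016, nat_lit 0xb00001900000c00401e, nat_lit 0xb00001d00000c004022, nat_lit 0xb00000700001100000800000c008010, nat_lit 0xf000025000010004014, nat_lit 0xf00002900001000401c, nat_lit 0xf000031000010008026, nat_lit 0xf00000b00002100000c00001000800e, nat_lit 0x13000035000014004012, nat_lit 0x1300003900001400401a, nat_lit 0x13000041000014008022, nat_lit 0x1300003d000014008024, nat_lit 0x1300000f00002d00001000001400400c]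
noncomputable def N9_b6_S : List (List ℕ) := [N9_b6_S0]
noncomputable def N9_b6_defs : List ℕ := [(nat_lit 0x20000300300002004000010050000000000000)]
noncomputable def N9_b6_recs : List ℕ := [(nat_lit 0x30000400004050000400004040000400004010000400004000000400004040000300003050000300003010000300003000000300003050000200002020000200002010000200002000000200002030000100001020000100001010000100001000000100001040000000000030000000000020000000000010000000000000000000000)]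
noncomputable def N9_b6_L0 : List ℕ := [nat_lit 0x100000000000500000000000900000000000d000000000011000000000007000001, nat_lit 0x1500000100001900000100001d00000100002100000100000b000002000008000000, nat_lit 0x2500000200002900000200002d00000200000f00000300000c000001000031000002, nat_lit 0x3500000300003900000300001300000400001000000200004100000300003d000003, nat_lit 0x4500000400004900000400001400000300005500000400004d000004000051000004]
noncomputable def N9_b6_L : List (List ℕ) := [N9_b6_L0]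
noncomputable def N9_b6_V : List ℕ := [(nat_lit 0x400000003000000020000000100000000)]
noncomputable def N9_b6_D : H26.Dag := ⟨[], [[0,0],
  [1,1],
  [2,2],
  [3,3],
  [4,4],
  [5,5],
  [2,3,2,3,2,3],
  [4,3,4,3,4,3],
  [5,4,5,4,5,4],
  [2,0,2,0],
  [3,0,3,0],
  [4,0,4,0],
  [5,0,5,0],
  [2,1,2,1],
  [3,1,3,1],
  [4,1,4,1],
  [5,1,5,1],
  [4,2,4,2],
  [5,2,5,2],
  [5,3,5,3]], [0,1,2,3,4], N9_b6_defs, N9_b6_recs⟩
theorem N9_b6_c : N9_b6_D.checkTab N9_b6_S 5 6 N9_b6_V N9_b6_L = true := by decide +kernel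
theorem N9_b6 : Bound N9_Rl 6 720 :=
  bound_dag N9_b5 (K := 6) (J := [0,1,2,3,4,5,7,8,9,10,11,12,13,14,15,16,17,18,19,20]) (by decide +kernel) N9_b6_c (by decide +kernel)
theorem N9_P : PModel (nat_lit 8) (nat_lit 3) (nat_lit 7) (nat_lit 0xfac688) N9_cs N9_Rl N9_L 720 :=
  ⟨PkOK.of (by decide +kernel), by decide +kernel, by decide +kernel, N9_b6, ⟨N9_WW, by decide +kernel⟩,
    ⟨fun c => Nat.mod c (nat_lit 16738), by decide +kernel⟩⟩
noncomputable def N9_soc_t0 : ST := (.node (nat_lit 10649) (.node (nat_lit 5553) (.node (nat_lit 2718) (.node (nat_lit 1285) (.node (nat_lit 682) (.node (nat_lit 458) (.node (nat_lit 304) (.node (nat_lit 215) (.node (nat_lit 202) (.leaf (nat_lit 180)) (.leaf (nat_lit 2))) (.node (nat_lit 290) (.leaf (nat_lit 0)) (.leaf (nat_lit 15)))) (.node (nat_lit 371) (.node (nat_lit 364) (.leaf (nat_lit 180)) (.leaf (nat_lit 424))) (.node (nat_lit 412) (.leaf (nat_lit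 0)) (.node (nat_lit 438) (.leaf (nat_lit 4)) (.leaf (nat_lit 425)))))) (.node (nat_lit 532) (.node (nat_lit 486) (.node (nat_lit 474) (.leaf (nat_lit 180)) (.leaf (nat_lit 120))) (.node (nat_lit 497) (.leaf (nat_lit 4)) (.leaf (nat_lit 0)))) (.node (nat_lit 586) (.node (nat_lit 554) (.leaf (nat_lit 120)) (.leaf (nat_lit 65))) (.node (nat_lit 623) (.leaf (nat_lit 180)) (.node (nat_lit 656) (.leaf (nat_lit 0)) (.leaf (nat_lit 180))))))) (.node (nat_lit 1011) (.node (nat_lit 832) (.node (nat_lit 695) (.node (nat_lit 694) (.leaf (nat_lit 0)) (.leaf (nat_lit 120))) (.node (nat_lit 784) (.leaf (nat_lit 0)) (.leaf (nat_lit 180)))) (.node (nat_lit 902) (.node (nat_lit 848) (.leaf (nat_lit 65)) (.leaf (nat_lit 15))) (.node (nat_lit 969) (.leaf (nat_lit 180)) (.node (nat_lit 972) (.leaf (nat_lit 0)) (.leaf (nat_lit 180)))))) (.node (nat_lit 1102) (.node (nat_lit 1032) (.node (nat_lit 1024) (.leaf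 (nat_lit 0)) (.leaf (nat_lit 75))) (.node (nat_lit 1064) (.leaf (nat_lit 10)) (.node (nat_lit 1077) (.leaf (nat_lit 180)) (.leaf (nat_lit 120))))) (.node (nat_lit 1156) (.node (nat_lit 1129) (.leaf (nat_lit 4)) (.leaf (nat_lit 0))) (.node (nat_lit 1203) (.leaf (nat_lit 63)) (.node (nat_lit 1242) (.leaf (nat_lit 120)) (.leaf (nat_lit 424)))))))) (.node (nat_lit 2123) (.node (nat_lit 1597) (.node (nat_lit 1327) (.node (nat_lit 1319) (.node (nat_lit 1310) (.leaf (nat_lit 0)) (.leaf (nat_lit 2))) (.node (nat_lit 1322) (.leaf (nat_lit 0)) (.leaf (nat_lit 435)))) (.node (nat_lit 1472) (.node (nat_lit 1452) (.leaf (nat_lit 0)) (.leaf (nat_lit 180))) (.node (nat_lit 1519) (.leaf (nat_lit 424)) (.node (nat_lit 1594) (.leaf (nat_lit 15)) (.leaf (nat_lit 4)))))) (.node (nat_lit 1879) (.node (nat_lit 1735) (.node (nat_lit 1705) (.leaf (nat_lit 0)) (.leaf (nat_lit 4))) (.node (nat_lit 1748) (.leaf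 (nat_lit 0)) (.node (nat_lit 1848) (.leaf (nat_lit 120)) (.leaf (nat_lit 180))))) (.node (nat_lit 2048) (.node (nat_lit 1987) (.leaf (nat_lit 0)) (.leaf (nat_lit 120))) (.node (nat_lit 2077) (.leaf (nat_lit 180)) (.node (nat_lit 2084) (.leaf (nat_lit 0)) (.leaf (nat_lit 180))))))) (.node (nat_lit 2462) (.node (nat_lit 2204) (.node (nat_lit 2192) (.node (nat_lit 2127) (.leaf (nat_lit 0)) (.leaf (nat_lit 180))) (.node (nat_lit 2195) (.leaf (nat_lit 10)) (.leaf (nat_lit 0)))) (.node (nat_lit 2354) (.node (nat_lit 2254) (.leaf (nat_lit 180)) (.leaf (nat_lit 15))) (.node (nat_lit 2376) (.leaf (nat_lit 10)) (.node (nat_lit 2454) (.leaf (nat_lit 4)) (.leaf (nat_lit 180)))))) (.node (nat_lit 2556) (.node (nat_lit 2519) (.node (nat_lit 2496) (.leaf (nat_lit 4)) (.leaf (nat_lit 120))) (.node (nat_lit 2520) (.leaf (nat_lit 0)) (.node (nat_lit 2531) (.leaf (nat_lit 180)) (.leaf (nat_lit 0))))) (.node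 (nat_lit 2664) (.node (nat_lit 2658) (.leaf (nat_lit 180)) (.leaf (nat_lit 120))) (.node (nat_lit 2682) (.leaf (nat_lit 4)) (.node (nat_lit 2712) (.leaf (nat_lit 180)) (.leaf (nat_lit 63))))))))) (.node (nat_lit 4145) (.node (nat_lit 3353) (.node (nat_lit 3028) (.node (nat_lit 2835) (.node (nat_lit 2755) (.node (nat_lit 2744) (.leaf (nat_lit 180)) (.leaf (nat_lit 120))) (.node (nat_lit 2812) (.leaf (nat_lit 0)) (.leaf (nat_lit 15)))) (.node (nat_lit 2872) (.node (nat_lit 2866) (.leaf (nat_lit 0)) (.leaf (nat_lit 424))) (.node (nat_lit 2932) (.leaf (nat_lit 180)) (.node (nat_lit 3000) (.leaf (nat_lit 485)) (.leaf (nat_lit 180)))))) (.node (nat_lit 3210) (.node (nat_lit 3126) (.node (nat_lit 3125) (.leaf (nat_lit 424)) (.leaf (nat_lit 0))) (.node (nat_lit 3133) (.leaf (nat_lit 180)) (.node (nat_lit 3150) (.leaf (nat_lit 4)) (.leaf (nat_lit 180))))) (.node (nat_lit 3335) (.node (nat_lit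 3289) (.leaf (nat_lit 0)) (.leaf (nat_lit 120))) (.node (nat_lit 3341) (.leaf (nat_lit 4)) (.node (nat_lit 3350) (.leaf (nat_lit 0)) (.leaf (nat_lit 180))))))) (.node (nat_lit 3842) (.node (nat_lit 3497) (.node (nat_lit 3424) (.node (nat_lit 3415) (.leaf (nat_lit 0)) (.leaf (nat_lit 120))) (.node (nat_lit 3474) (.leaf (nat_lit 15)) (.leaf (nat_lit 180)))) (.node (nat_lit 3688) (.node (nat_lit 3592) (.leaf (nat_lit 0)) (.leaf (nat_lit 180))) (.node (nat_lit 3754) (.leaf (nat_lit 435)) (.node (nat_lit 3813) (.leaf (nat_lit 180)) (.leaf (nat_lit 0)))))) (.node (nat_lit 4011) (.node (nat_lit 3946) (.node (nat_lit 3930) (.leaf (nat_lit 2)) (.leaf (nat_lit 4))) (.node (nat_lit 3958) (.leaf (nat_lit 180)) (.node (nat_lit 3960) (.leaf (nat_lit 10)) (.leaf (nat_lit 120))))) (.node (nat_lit 4036) (.node (nat_lit 4018) (.leaf (nat_lit 0)) (.leaf (nat_lit 120))) (.node (nat_lit 4104) (.leaf (nat_lit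 180)) (.node (nat_lit 4120) (.leaf (nat_lit 15)) (.leaf (nat_lit 10)))))))) (.node (nat_lit 4921) (.node (nat_lit 4576) (.node (nat_lit 4293) (.node (nat_lit 4263) (.node (nat_lit 4260) (.leaf (nat_lit 0)) (.leaf (nat_lit 180))) (.node (nat_lit 4274) (.leaf (nat_lit 0)) (.leaf (nat_lit 63)))) (.node (nat_lit 4419) (.node (nat_lit 4326) (.leaf (nat_lit 0)) (.leaf (nat_lit 15))) (.node (nat_lit 4426) (.leaf (nat_lit 0)) (.node (nat_lit 4461) (.leaf (nat_lit 4)) (.leaf (nat_lit 0)))))) (.node (nat_lit 4643) (.node (nat_lit 4628) (.node (nat_lit 4617) (.leaf (nat_lit 5)) (.leaf (nat_lit 0))) (.node (nat_lit 4638) (.leaf (nat_lit 4)) (.node (nat_lit 4642) (.leaf (nat_lit 65)) (.leaf (nat_lit 4))))) (.node (nat_lit 4717) (.node (nat_lit 4708) (.leaf (nat_lit 0)) (.leaf (nat_lit 120))) (.node (nat_lit 4825) (.leaf (nat_lit 15)) (.node (nat_lit 4882) (.leaf (nat_lit 180)) (.leaf (nat_lit 63)))))))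 (.node (nat_lit 5223) (.node (nat_lit 5122) (.node (nat_lit 4982) (.node (nat_lit 4950) (.leaf (nat_lit 0)) (.leaf (nat_lit 2))) (.node (nat_lit 5047) (.leaf (nat_lit 180)) (.leaf (nat_lit 0)))) (.node (nat_lit 5164) (.node (nat_lit 5139) (.leaf (nat_lit 120)) (.leaf (nat_lit 180))) (.node (nat_lit 5182) (.leaf (nat_lit 435)) (.node (nat_lit 5184) (.leaf (nat_lit 365)) (.leaf (nat_lit 180)))))) (.node (nat_lit 5329) (.node (nat_lit 5268) (.node (nat_lit 5266) (.leaf (nat_lit 4)) (.leaf (nat_lit 63))) (.node (nat_lit 5272) (.leaf (nat_lit 0)) (.node (nat_lit 5311) (.leaf (nat_lit 15)) (.leaf (nat_lit 120))))) (.node (nat_lit 5388) (.node (nat_lit 5346) (.leaf (nat_lit 0)) (.leaf (nat_lit 180))) (.node (nat_lit 5436) (.leaf (nat_lit 15)) (.node (nat_lit 5528) (.leaf (nat_lit 65)) (.leaf (nat_lit 180)))))))))) (.node (nat_lit 8496) (.node (nat_lit 7098) (.node (nat_lit 6273) (.node (nat_lit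 5894) (.node (nat_lit 5678) (.node (nat_lit 5653) (.node (nat_lit 5619) (.leaf (nat_lit 0)) (.leaf (nat_lit 15))) (.node (nat_lit 5664) (.leaf (nat_lit 0)) (.leaf (nat_lit 435)))) (.node (nat_lit 5750) (.node (nat_lit 5746) (.leaf (nat_lit 15)) (.leaf (nat_lit 65))) (.node (nat_lit 5767) (.leaf (nat_lit 4)) (.node (nat_lit 5855) (.leaf (nat_lit 180)) (.leaf (nat_lit 0)))))) (.node (nat_lit 6094) (.node (nat_lit 5982) (.node (nat_lit 5943) (.leaf (nat_lit 4)) (.leaf (nat_lit 15))) (.node (nat_lit 6006) (.leaf (nat_lit 120)) (.node (nat_lit 6068) (.leaf (nat_lit 180)) (.leaf (nat_lit 120))))) (.node (nat_lit 6160) (.node (nat_lit 6142) (.leaf (nat_lit 180)) (.leaf (nat_lit 424))) (.node (nat_lit 6178) (.leaf (nat_lit 180)) (.node (nat_lit 6216) (.leaf (nat_lit 2)) (.leaf (nat_lit 435))))))) (.node (nat_lit 6639) (.node (nat_lit 6415) (.node (nat_lit 6323) (.node (nat_lit 6290) (.leaf (nat_lit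 180)) (.leaf (nat_lit 15))) (.node (nat_lit 6378) (.leaf (nat_lit 0)) (.leaf (nat_lit 435)))) (.node (nat_lit 6498) (.node (nat_lit 6438) (.leaf (nat_lit 120)) (.leaf (nat_lit 180))) (.node (nat_lit 6564) (.leaf (nat_lit 63)) (.node (nat_lit 6606) (.leaf (nat_lit 180)) (.leaf (nat_lit 4)))))) (.node (nat_lit 6956) (.node (nat_lit 6677) (.node (nat_lit 6640) (.leaf (nat_lit 0)) (.leaf (nat_lit 180))) (.node (nat_lit 6739) (.leaf (nat_lit 0)) (.node (nat_lit 6765) (.leaf (nat_lit 120)) (.leaf (nat_lit 0))))) (.node (nat_lit 7043) (.node (nat_lit 6976) (.leaf (nat_lit 180)) (.leaf (nat_lit 424))) (.node (nat_lit 7070) (.leaf (nat_lit 4)) (.node (nat_lit 7086) (.leaf (nat_lit 180)) (.leaf (nat_lit 120)))))))) (.node (nat_lit 7804) (.node (nat_lit 7456) (.node (nat_lit 7230) (.node (nat_lit 7166) (.node (nat_lit 7144) (.leaf (nat_lit 4)) (.leaf (nat_lit 120))) (.node (nat_lit 7180) (.leaf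 (nat_lit 65)) (.leaf (nat_lit 120)))) (.node (nat_lit 7268) (.node (nat_lit 7263) (.leaf (nat_lit 4)) (.leaf (nat_lit 0))) (.node (nat_lit 7444) (.leaf (nat_lit 180)) (.node (nat_lit 7453) (.leaf (nat_lit 65)) (.leaf (nat_lit 0)))))) (.node (nat_lit 7584) (.node (nat_lit 7482) (.node (nat_lit 7460) (.leaf (nat_lit 10)) (.leaf (nat_lit 15))) (.node (nat_lit 7488) (.leaf (nat_lit 435)) (.node (nat_lit 7530) (.leaf (nat_lit 15)) (.leaf (nat_lit 424))))) (.node (nat_lit 7714) (.node (nat_lit 7686) (.leaf (nat_lit 180)) (.leaf (nat_lit 15))) (.node (nat_lit 7731) (.leaf (nat_lit 4)) (.node (nat_lit 7768) (.leaf (nat_lit 0)) (.leaf (nat_lit 63))))))) (.node (nat_lit 8206) (.node (nat_lit 8032) (.node (nat_lit 7857) (.node (nat_lit 7851) (.leaf (nat_lit 4)) (.leaf (nat_lit 120))) (.node (nat_lit 7982) (.leaf (nat_lit 0)) (.leaf (nat_lit 180)))) (.node (nat_lit 8084) (.node (nat_lit 8064) (.leaf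 (nat_lit 120)) (.leaf (nat_lit 180))) (.node (nat_lit 8112) (.leaf (nat_lit 424)) (.node (nat_lit 8159) (.leaf (nat_lit 65)) (.leaf (nat_lit 15)))))) (.node (nat_lit 8406) (.node (nat_lit 8357) (.node (nat_lit 8240) (.leaf (nat_lit 4)) (.leaf (nat_lit 0))) (.node (nat_lit 8363) (.leaf (nat_lit 15)) (.node (nat_lit 8402) (.leaf (nat_lit 0)) (.leaf (nat_lit 10))))) (.node (nat_lit 8437) (.node (nat_lit 8428) (.leaf (nat_lit 15)) (.leaf (nat_lit 10))) (.node (nat_lit 8460) (.leaf (nat_lit 120)) (.node (nat_lit 8475) (.leaf (nat_lit 180)) (.leaf (nat_lit 4))))))))) (.node (nat_lit 9484) (.node (nat_lit 9077) (.node (nat_lit 8753) (.node (nat_lit 8614) (.node (nat_lit 8577) (.node (nat_lit 8561) (.leaf (nat_lit 180)) (.leaf (nat_lit 0))) (.node (nat_lit 8596) (.leaf (nat_lit 180)) (.leaf (nat_lit 15)))) (.node (nat_lit 8653) (.node (nat_lit 8632) (.leaf (nat_lit 180)) (.leaf (nat_lit 64)))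 (.node (nat_lit 8696) (.leaf (nat_lit 0)) (.node (nat_lit 8718) (.leaf (nat_lit 180)) (.leaf (nat_lit 435)))))) (.node (nat_lit 8904) (.node (nat_lit 8804) (.node (nat_lit 8776) (.leaf (nat_lit 15)) (.leaf (nat_lit 180))) (.node (nat_lit 8816) (.leaf (nat_lit 10)) (.node (nat_lit 8877) (.leaf (nat_lit 180)) (.leaf (nat_lit 0))))) (.node (nat_lit 9000) (.node (nat_lit 8969) (.leaf (nat_lit 180)) (.leaf (nat_lit 0))) (.node (nat_lit 9066) (.leaf (nat_lit 63)) (.node (nat_lit 9074) (.leaf (nat_lit 180)) (.leaf (nat_lit 4))))))) (.node (nat_lit 9276) (.node (nat_lit 9167) (.node (nat_lit 9108) (.node (nat_lit 9083) (.leaf (nat_lit 15)) (.leaf (nat_lit 180))) (.node (nat_lit 9114) (.leaf (nat_lit 120)) (.leaf (nat_lit 4)))) (.node (nat_lit 9194) (.node (nat_lit 9168) (.leaf (nat_lit 0)) (.leaf (nat_lit 180))) (.node (nat_lit 9205) (.leaf (nat_lit 120)) (.node (nat_lit 9267) (.leaf (nat_lit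 0)) (.leaf (nat_lit 15)))))) (.node (nat_lit 9418) (.node (nat_lit 9294) (.node (nat_lit 9285) (.leaf (nat_lit 4)) (.leaf (nat_lit 0))) (.node (nat_lit 9356) (.leaf (nat_lit 180)) (.node (nat_lit 9357) (.leaf (nat_lit 120)) (.leaf (nat_lit 0))))) (.node (nat_lit 9444) (.node (nat_lit 9424) (.leaf (nat_lit 180)) (.leaf (nat_lit 15))) (.node (nat_lit 9452) (.leaf (nat_lit 180)) (.node (nat_lit 9478) (.leaf (nat_lit 15)) (.leaf (nat_lit 424)))))))) (.node (nat_lit 10089) (.node (nat_lit 9768) (.node (nat_lit 9650) (.node (nat_lit 9504) (.node (nat_lit 9487) (.leaf (nat_lit 180)) (.leaf (nat_lit 0))) (.node (nat_lit 9575) (.leaf (nat_lit 424)) (.leaf (nat_lit 0)))) (.node (nat_lit 9753) (.node (nat_lit 9739) (.leaf (nat_lit 15)) (.leaf (nat_lit 120))) (.node (nat_lit 9762) (.leaf (nat_lit 0)) (.node (nat_lit 9765) (.leaf (nat_lit 180)) (.leaf (nat_lit 0)))))) (.node (nat_lit 9822) (.node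 (nat_lit 9774) (.node (nat_lit 9773) (.leaf (nat_lit 4)) (.leaf (nat_lit 0))) (.node (nat_lit 9785) (.leaf (nat_lit 180)) (.node (nat_lit 9818) (.leaf (nat_lit 4)) (.leaf (nat_lit 2))))) (.node (nat_lit 9865) (.node (nat_lit 9826) (.leaf (nat_lit 10)) (.leaf (nat_lit 4))) (.node (nat_lit 9989) (.leaf (nat_lit 120)) (.node (nat_lit 10086) (.leaf (nat_lit 0)) (.leaf (nat_lit 180))))))) (.node (nat_lit 10430) (.node (nat_lit 10359) (.node (nat_lit 10300) (.node (nat_lit 10204) (.leaf (nat_lit 0)) (.leaf (nat_lit 180))) (.node (nat_lit 10306) (.leaf (nat_lit 435)) (.leaf (nat_lit 120)))) (.node (nat_lit 10370) (.node (nat_lit 10367) (.leaf (nat_lit 0)) (.leaf (nat_lit 4))) (.node (nat_lit 10402) (.leaf (nat_lit 15)) (.node (nat_lit 10410) (.leaf (nat_lit 180)) (.leaf (nat_lit 120)))))) (.node (nat_lit 10560) (.node (nat_lit 10461) (.node (nat_lit 10450) (.leaf (nat_lit 180)) (.leaf (nat_lit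 424))) (.node (nat_lit 10497) (.leaf (nat_lit 0)) (.node (nat_lit 10558) (.leaf (nat_lit 4)) (.leaf (nat_lit 180))))) (.node (nat_lit 10570) (.node (nat_lit 10569) (.leaf (nat_lit 15)) (.leaf (nat_lit 4))) (.node (nat_lit 10587) (.leaf (nat_lit 10)) (.node (nat_lit 10622) (.leaf (nat_lit 0)) (.leaf (nat_lit 15))))))))))) (.node (nat_lit 15894) (.node (nat_lit 13204) (.node (nat_lit 11790) (.node (nat_lit 11246) (.node (nat_lit 10977) (.node (nat_lit 10820) (.node (nat_lit 10777) (.node (nat_lit 10710) (.leaf (nat_lit 120)) (.leaf (nat_lit 180))) (.node (nat_lit 10789) (.leaf (nat_lit 0)) (.leaf (nat_lit 180)))) (.node (nat_lit 10886) (.node (nat_lit 10838) (.leaf (nat_lit 15)) (.leaf (nat_lit 180))) (.node (nat_lit 10930) (.leaf (nat_lit 63)) (.node (nat_lit 10934) (.leaf (nat_lit 10)) (.leaf (nat_lit 4)))))) (.node (nat_lit 11101) (.node (nat_lit 11038) (.node (nat_lit 11036) (.leaf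 (nat_lit 120)) (.leaf (nat_lit 180))) (.node (nat_lit 11055) (.leaf (nat_lit 4)) (.node (nat_lit 11078) (.leaf (nat_lit 0)) (.leaf (nat_lit 4))))) (.node (nat_lit 11170) (.node (nat_lit 11158) (.leaf (nat_lit 0)) (.leaf (nat_lit 120))) (.node (nat_lit 11204) (.leaf (nat_lit 63)) (.node (nat_lit 11240) (.leaf (nat_lit 65)) (.leaf (nat_lit 4))))))) (.node (nat_lit 11491) (.node (nat_lit 11326) (.node (nat_lit 11318) (.node (nat_lit 11293) (.leaf (nat_lit 435)) (.leaf (nat_lit 15))) (.node (nat_lit 11320) (.leaf (nat_lit 180)) (.leaf (nat_lit 120)))) (.node (nat_lit 11406) (.node (nat_lit 11379) (.leaf (nat_lit 4)) (.leaf (nat_lit 0))) (.node (nat_lit 11417) (.leaf (nat_lit 60)) (.node (nat_lit 11464) (.leaf (nat_lit 0)) (.leaf (nat_lit 120)))))) (.node (nat_lit 11605) (.node (nat_lit 11520) (.node (nat_lit 11497) (.leaf (nat_lit 15)) (.leaf (nat_lit 0))) (.node (nat_lit 11554) (.leaf (nat_lit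 2)) (.node (nat_lit 11594) (.leaf (nat_lit 63)) (.leaf (nat_lit 180))))) (.node (nat_lit 11695) (.node (nat_lit 11630) (.leaf (nat_lit 4)) (.leaf (nat_lit 180))) (.node (nat_lit 11730) (.leaf (nat_lit 0)) (.node (nat_lit 11760) (.leaf (nat_lit 15)) (.leaf (nat_lit 425)))))))) (.node (nat_lit 12544) (.node (nat_lit 11997) (.node (nat_lit 11884) (.node (nat_lit 11832) (.node (nat_lit 11796) (.leaf (nat_lit 4)) (.leaf (nat_lit 180))) (.node (nat_lit 11851) (.leaf (nat_lit 63)) (.leaf (nat_lit 0)))) (.node (nat_lit 11946) (.node (nat_lit 11912) (.leaf (nat_lit 15)) (.leaf (nat_lit 65))) (.node (nat_lit 11966) (.leaf (nat_lit 180)) (.node (nat_lit 11989) (.leaf (nat_lit 15)) (.leaf (nat_lit 0)))))) (.node (nat_lit 12276) (.node (nat_lit 12114) (.node (nat_lit 12003) (.leaf (nat_lit 4)) (.leaf (nat_lit 0))) (.node (nat_lit 12136) (.leaf (nat_lit 435)) (.node (nat_lit 12270) (.leaf (nat_lit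 180)) (.leaf (nat_lit 120))))) (.node (nat_lit 12312) (.node (nat_lit 12301) (.leaf (nat_lit 435)) (.leaf (nat_lit 0))) (.node (nat_lit 12401) (.leaf (nat_lit 65)) (.node (nat_lit 12430) (.leaf (nat_lit 15)) (.leaf (nat_lit 424))))))) (.node (nat_lit 12807) (.node (nat_lit 12618) (.node (nat_lit 12586) (.node (nat_lit 12560) (.leaf (nat_lit 180)) (.leaf (nat_lit 435))) (.node (nat_lit 12617) (.leaf (nat_lit 15)) (.leaf (nat_lit 0)))) (.node (nat_lit 12706) (.node (nat_lit 12680) (.leaf (nat_lit 180)) (.leaf (nat_lit 120))) (.node (nat_lit 12784) (.leaf (nat_lit 180)) (.node (nat_lit 12790) (.leaf (nat_lit 15)) (.leaf (nat_lit 2)))))) (.node (nat_lit 12924) (.node (nat_lit 12887) (.node (nat_lit 12828) (.leaf (nat_lit 0)) (.leaf (nat_lit 435))) (.node (nat_lit 12888) (.leaf (nat_lit 0)) (.node (nat_lit 12898) (.leaf (nat_lit 180)) (.leaf (nat_lit 4))))) (.node (nat_lit 13110) (.node (nat_lit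 13089) (.leaf (nat_lit 180)) (.leaf (nat_lit 0))) (.node (nat_lit 13115) (.leaf (nat_lit 63)) (.node (nat_lit 13177) (.leaf (nat_lit 0)) (.leaf (nat_lit 15))))))))) (.node (nat_lit 14722) (.node (nat_lit 14100) (.node (nat_lit 13750) (.node (nat_lit 13439) (.node (nat_lit 13248) (.node (nat_lit 13215) (.leaf (nat_lit 180)) (.leaf (nat_lit 0))) (.node (nat_lit 13290) (.leaf (nat_lit 180)) (.leaf (nat_lit 4)))) (.node (nat_lit 13595) (.node (nat_lit 13522) (.leaf (nat_lit 0)) (.leaf (nat_lit 180))) (.node (nat_lit 13630) (.leaf (nat_lit 0)) (.node (nat_lit 13732) (.leaf (nat_lit 120)) (.leaf (nat_lit 65)))))) (.node (nat_lit 13911) (.node (nat_lit 13838) (.node (nat_lit 13792) (.leaf (nat_lit 485)) (.leaf (nat_lit 120))) (.node (nat_lit 13848) (.leaf (nat_lit 180)) (.node (nat_lit 13872) (.leaf (nat_lit 15)) (.leaf (nat_lit 180))))) (.node (nat_lit 13973) (.node (nat_lit 13960) (.leaf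 (nat_lit 0)) (.leaf (nat_lit 180))) (.node (nat_lit 13999) (.leaf (nat_lit 120)) (.node (nat_lit 14048) (.leaf (nat_lit 0)) (.leaf (nat_lit 2))))))) (.node (nat_lit 14298) (.node (nat_lit 14198) (.node (nat_lit 14150) (.node (nat_lit 14142) (.leaf (nat_lit 15)) (.leaf (nat_lit 424))) (.node (nat_lit 14181) (.leaf (nat_lit 180)) (.leaf (nat_lit 0)))) (.node (nat_lit 14240) (.node (nat_lit 14235) (.leaf (nat_lit 180)) (.leaf (nat_lit 0))) (.node (nat_lit 14246) (.leaf (nat_lit 64)) (.node (nat_lit 14258) (.leaf (nat_lit 0)) (.leaf (nat_lit 4)))))) (.node (nat_lit 14540) (.node (nat_lit 14416) (.node (nat_lit 14301) (.leaf (nat_lit 15)) (.leaf (nat_lit 120))) (.node (nat_lit 14432) (.leaf (nat_lit 4)) (.node (nat_lit 14497) (.leaf (nat_lit 180)) (.leaf (nat_lit 0))))) (.node (nat_lit 14594) (.node (nat_lit 14543) (.leaf (nat_lit 120)) (.leaf (nat_lit 0))) (.node (nat_lit 14631) (.leaf (nat_lit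 180)) (.node (nat_lit 14644) (.leaf (nat_lit 0)) (.leaf (nat_lit 120)))))))) (.node (nat_lit 15208) (.node (nat_lit 15018) (.node (nat_lit 14821) (.node (nat_lit 14748) (.node (nat_lit 14724) (.leaf (nat_lit 2)) (.leaf (nat_lit 65))) (.node (nat_lit 14807) (.leaf (nat_lit 180)) (.leaf (nat_lit 15)))) (.node (nat_lit 14929) (.node (nat_lit 14878) (.leaf (nat_lit 0)) (.leaf (nat_lit 10))) (.node (nat_lit 14944) (.leaf (nat_lit 4)) (.node (nat_lit 15014) (.leaf (nat_lit 65)) (.leaf (nat_lit 10)))))) (.node (nat_lit 15108) (.node (nat_lit 15085) (.node (nat_lit 15040) (.leaf (nat_lit 15)) (.leaf (nat_lit 10))) (.node (nat_lit 15088) (.leaf (nat_lit 120)) (.node (nat_lit 15103) (.leaf (nat_lit 424)) (.leaf (nat_lit 0))))) (.node (nat_lit 15146) (.node (nat_lit 15137) (.leaf (nat_lit 180)) (.leaf (nat_lit 0))) (.node (nat_lit 15156) (.leaf (nat_lit 180)) (.node (nat_lit 15168) (.leaf (nat_lit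 2)) (.leaf (nat_lit 435))))))) (.node (nat_lit 15491) (.node (nat_lit 15330) (.node (nat_lit 15226) (.node (nat_lit 15211) (.leaf (nat_lit 15)) (.leaf (nat_lit 120))) (.node (nat_lit 15301) (.leaf (nat_lit 180)) (.leaf (nat_lit 0)))) (.node (nat_lit 15393) (.node (nat_lit 15352) (.leaf (nat_lit 435)) (.leaf (nat_lit 424))) (.node (nat_lit 15419) (.leaf (nat_lit 15)) (.node (nat_lit 15428) (.leaf (nat_lit 0)) (.leaf (nat_lit 180)))))) (.node (nat_lit 15709) (.node (nat_lit 15591) (.node (nat_lit 15516) (.leaf (nat_lit 0)) (.leaf (nat_lit 180))) (.node (nat_lit 15594) (.leaf (nat_lit 15)) (.node (nat_lit 15612) (.leaf (nat_lit 120)) (.leaf (nat_lit 63))))) (.node (nat_lit 15726) (.node (nat_lit 15714) (.leaf (nat_lit 4)) (.leaf (nat_lit 180))) (.node (nat_lit 15756) (.leaf (nat_lit 4)) (.node (nat_lit 15887) (.leaf (nat_lit 120)) (.leaf (nat_lit 0)))))))))) (.node (nat_lit 18166) (.node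 (nat_lit 17218) (.node (nat_lit 16564) (.node (nat_lit 16380) (.node (nat_lit 16064) (.node (nat_lit 15980) (.node (nat_lit 15899) (.leaf (nat_lit 180)) (.leaf (nat_lit 0))) (.node (nat_lit 16030) (.leaf (nat_lit 360)) (.leaf (nat_lit 180)))) (.node (nat_lit 16222) (.node (nat_lit 16200) (.leaf (nat_lit 15)) (.leaf (nat_lit 10))) (.node (nat_lit 16262) (.leaf (nat_lit 4)) (.node (nat_lit 16366) (.leaf (nat_lit 15)) (.leaf (nat_lit 180)))))) (.node (nat_lit 16438) (.node (nat_lit 16428) (.node (nat_lit 16401) (.leaf (nat_lit 4)) (.leaf (nat_lit 0))) (.node (nat_lit 16430) (.leaf (nat_lit 425)) (.node (nat_lit 16434) (.leaf (nat_lit 2)) (.leaf (nat_lit 10))))) (.node (nat_lit 16501) (.node (nat_lit 16439) (.leaf (nat_lit 4)) (.leaf (nat_lit 0))) (.node (nat_lit 16504) (.leaf (nat_lit 15)) (.node (nat_lit 16519) (.leaf (nat_lit 120)) (.leaf (nat_lit 0))))))) (.node (nat_lit 16990) (.node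 (nat_lit 16846) (.node (nat_lit 16619) (.node (nat_lit 16565) (.leaf (nat_lit 180)) (.leaf (nat_lit 0))) (.node (nat_lit 16721) (.leaf (nat_lit 180)) (.leaf (nat_lit 0)))) (.node (nat_lit 16918) (.node (nat_lit 16874) (.leaf (nat_lit 180)) (.leaf (nat_lit 424))) (.node (nat_lit 16972) (.leaf (nat_lit 120)) (.node (nat_lit 16982) (.leaf (nat_lit 180)) (.leaf (nat_lit 15)))))) (.node (nat_lit 17056) (.node (nat_lit 17016) (.node (nat_lit 17007) (.leaf (nat_lit 424)) (.leaf (nat_lit 0))) (.node (nat_lit 17037) (.leaf (nat_lit 4)) (.node (nat_lit 17042) (.leaf (nat_lit 0)) (.leaf (nat_lit 180))))) (.node (nat_lit 17099) (.node (nat_lit 17062) (.leaf (nat_lit 0)) (.leaf (nat_lit 424))) (.node (nat_lit 17172) (.leaf (nat_lit 120)) (.node (nat_lit 17196) (.leaf (nat_lit 15)) (.leaf (nat_lit 180)))))))) (.node (nat_lit 17727) (.node (nat_lit 17432) (.node (nat_lit 17270) (.node (nat_lit 17235)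 (.node (nat_lit 17234) (.leaf (nat_lit 0)) (.leaf (nat_lit 15))) (.node (nat_lit 17239) (.leaf (nat_lit 0)) (.leaf (nat_lit 180)))) (.node (nat_lit 17332) (.node (nat_lit 17323) (.leaf (nat_lit 15)) (.leaf (nat_lit 0))) (.node (nat_lit 17349) (.leaf (nat_lit 180)) (.node (nat_lit 17358) (.leaf (nat_lit 0)) (.leaf (nat_lit 180)))))) (.node (nat_lit 17600) (.node (nat_lit 17517) (.node (nat_lit 17450) (.leaf (nat_lit 15)) (.leaf (nat_lit 180))) (.node (nat_lit 17542) (.leaf (nat_lit 0)) (.node (nat_lit 17546) (.leaf (nat_lit 10)) (.leaf (nat_lit 4))))) (.node (nat_lit 17648) (.node (nat_lit 17643) (.leaf (nat_lit 180)) (.leaf (nat_lit 0))) (.node (nat_lit 17688) (.leaf (nat_lit 180)) (.node (nat_lit 17690) (.leaf (nat_lit 2)) (.leaf (nat_lit 4))))))) (.node (nat_lit 17864) (.node (nat_lit 17782) (.node (nat_lit 17770) (.node (nat_lit 17731) (.leaf (nat_lit 180)) (.leaf (nat_lit 4))) (.node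 (nat_lit 17776) (.leaf (nat_lit 120)) (.leaf (nat_lit 4)))) (.node (nat_lit 17816) (.node (nat_lit 17806) (.leaf (nat_lit 63)) (.leaf (nat_lit 120))) (.node (nat_lit 17856) (.leaf (nat_lit 65)) (.node (nat_lit 17858) (.leaf (nat_lit 2)) (.leaf (nat_lit 435)))))) (.node (nat_lit 17966) (.node (nat_lit 17882) (.node (nat_lit 17867) (.leaf (nat_lit 120)) (.leaf (nat_lit 0))) (.node (nat_lit 17938) (.leaf (nat_lit 180)) (.node (nat_lit 17941) (.leaf (nat_lit 4)) (.leaf (nat_lit 15))))) (.node (nat_lit 18069) (.node (nat_lit 18044) (.leaf (nat_lit 10)) (.leaf (nat_lit 125))) (.node (nat_lit 18132) (.leaf (nat_lit 180)) (.node (nat_lit 18145) (.leaf (nat_lit 2)) (.leaf (nat_lit 0))))))))) (.node (nat_lit 19192) (.node (nat_lit 18726) (.node (nat_lit 18447) (.node (nat_lit 18242) (.node (nat_lit 18172) (.node (nat_lit 18168) (.leaf (nat_lit 63)) (.leaf (nat_lit 0))) (.node (nat_lit 18211) (.leaf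 (nat_lit 15)) (.leaf (nat_lit 120)))) (.node (nat_lit 18342) (.node (nat_lit 18271) (.leaf (nat_lit 180)) (.leaf (nat_lit 0))) (.node (nat_lit 18402) (.leaf (nat_lit 15)) (.node (nat_lit 18444) (.leaf (nat_lit 4)) (.leaf (nat_lit 63)))))) (.node (nat_lit 18553) (.node (nat_lit 18488) (.node (nat_lit 18484) (.leaf (nat_lit 4)) (.leaf (nat_lit 65))) (.node (nat_lit 18527) (.leaf (nat_lit 4)) (.node (nat_lit 18535) (.leaf (nat_lit 15)) (.leaf (nat_lit 120))))) (.node (nat_lit 18578) (.node (nat_lit 18558) (.leaf (nat_lit 0)) (.leaf (nat_lit 180))) (.node (nat_lit 18625) (.leaf (nat_lit 15)) (.node (nat_lit 18725) (.leaf (nat_lit 0)) (.leaf (nat_lit 15))))))) (.node (nat_lit 18882) (.node (nat_lit 18777) (.node (nat_lit 18743) (.node (nat_lit 18728) (.leaf (nat_lit 435)) (.leaf (nat_lit 63))) (.node (nat_lit 18748) (.leaf (nat_lit 0)) (.leaf (nat_lit 180)))) (.node (nat_lit 18839) (.node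 (nat_lit 18796) (.leaf (nat_lit 0)) (.leaf (nat_lit 2))) (.node (nat_lit 18843) (.leaf (nat_lit 4)) (.node (nat_lit 18876) (.leaf (nat_lit 15)) (.leaf (nat_lit 180)))))) (.node (nat_lit 19042) (.node (nat_lit 18941) (.node (nat_lit 18924) (.leaf (nat_lit 120)) (.leaf (nat_lit 65))) (.node (nat_lit 18968) (.leaf (nat_lit 0)) (.node (nat_lit 19010) (.leaf (nat_lit 120)) (.leaf (nat_lit 435))))) (.node (nat_lit 19156) (.node (nat_lit 19112) (.leaf (nat_lit 424)) (.leaf (nat_lit 63))) (.node (nat_lit 19159) (.leaf (nat_lit 180)) (.node (nat_lit 19172) (.leaf (nat_lit 4)) (.leaf (nat_lit 435)))))))) (.node (nat_lit 19860) (.node (nat_lit 19535) (.node (nat_lit 19234) (.node (nat_lit 19223) (.node (nat_lit 19198) (.leaf (nat_lit 180)) (.leaf (nat_lit 15))) (.node (nat_lit 19231) (.leaf (nat_lit 0)) (.leaf (nat_lit 4)))) (.node (nat_lit 19396) (.node (nat_lit 19374) (.leaf (nat_lit 15)) (.leaf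 (nat_lit 180))) (.node (nat_lit 19510) (.leaf (nat_lit 15)) (.node (nat_lit 19524) (.leaf (nat_lit 4)) (.leaf (nat_lit 15)))))) (.node (nat_lit 19635) (.node (nat_lit 19547) (.node (nat_lit 19536) (.leaf (nat_lit 0)) (.leaf (nat_lit 180))) (.node (nat_lit 19592) (.leaf (nat_lit 0)) (.node (nat_lit 19596) (.leaf (nat_lit 65)) (.leaf (nat_lit 4))))) (.node (nat_lit 19740) (.node (nat_lit 19639) (.leaf (nat_lit 15)) (.leaf (nat_lit 120))) (.node (nat_lit 19828) (.leaf (nat_lit 4)) (.node (nat_lit 19851) (.leaf (nat_lit 120)) (.leaf (nat_lit 0))))))) (.node (nat_lit 20242) (.node (nat_lit 20006) (.node (nat_lit 19902) (.node (nat_lit 19863) (.leaf (nat_lit 180)) (.leaf (nat_lit 0))) (.node (nat_lit 19988) (.leaf (nat_lit 4)) (.leaf (nat_lit 424)))) (.node (nat_lit 20134) (.node (nat_lit 20041) (.leaf (nat_lit 180)) (.leaf (nat_lit 0))) (.node (nat_lit 20136) (.leaf (nat_lit 180)) (.node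 (nat_lit 20176) (.leaf (nat_lit 15)) (.leaf (nat_lit 180)))))) (.node (nat_lit 20344) (.node (nat_lit 20267) (.node (nat_lit 20255) (.leaf (nat_lit 120)) (.leaf (nat_lit 180))) (.node (nat_lit 20284) (.leaf (nat_lit 4)) (.node (nat_lit 20306) (.leaf (nat_lit 180)) (.leaf (nat_lit 15))))) (.node (nat_lit 20428) (.node (nat_lit 20410) (.leaf (nat_lit 65)) (.leaf (nat_lit 180))) (.node (nat_lit 20449) (.leaf (nat_lit 64)) (.node (nat_lit 20450) (.leaf (nat_lit 0)) (.leaf (nat_lit 180))))))))))))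
noncomputable def N9_soc_t1 : ST := (.node (nat_lit 5110) (.node (nat_lit 2018) (.node (nat_lit 942) (.node (nat_lit 520) (.node (nat_lit 386) (.node (nat_lit 227) (.node (nat_lit 171) (.node (nat_lit 9) (.leaf (nat_lit 180)) (.node (nat_lit 101) (.leaf (nat_lit 60)) (.leaf (nat_lit 180)))) (.node (nat_lit 199) (.node (nat_lit 185) (.leaf (nat_lit 60)) (.leaf (nat_lit 180))) (.node (nat_lit 220) (.leaf (nat_lit 60)) (.leaf (nat_lit 180))))) (.node (nat_lit 305) (.node (nat_lit 242) (.leaf (nat_lit 60)) (.node (nat_lit 255) (.leaf (nat_lit 180)) (.leaf (nat_lit 60)))) (.node (nat_lit 379) (.node (nat_lit 312) (.leaf (nat_lit 180)) (.leaf (nat_lit 60))) (.node (nat_lit 385) (.leaf (nat_lit 180)) (.leaf (nat_lit 360)))))) (.node (nat_lit 466) (.node (nat_lit 441) (.node (nat_lit 392) (.leaf (nat_lit 180)) (.node (nat_lit 435) (.leaf (nat_lit 360)) (.leaf (nat_lit 180)))) (.node (nat_lit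 455) (.node (nat_lit 449) (.leaf (nat_lit 360)) (.leaf (nat_lit 60))) (.node (nat_lit 464) (.leaf (nat_lit 360)) (.leaf (nat_lit 180))))) (.node (nat_lit 498) (.node (nat_lit 471) (.leaf (nat_lit 360)) (.node (nat_lit 480) (.leaf (nat_lit 180)) (.leaf (nat_lit 360)))) (.node (nat_lit 505) (.node (nat_lit 504) (.leaf (nat_lit 180)) (.leaf (nat_lit 360))) (.node (nat_lit 511) (.leaf (nat_lit 60)) (.leaf (nat_lit 360))))))) (.node (nat_lit 796) (.node (nat_lit 686) (.node (nat_lit 536) (.node (nat_lit 521) (.leaf (nat_lit 180)) (.node (nat_lit 534) (.leaf (nat_lit 360)) (.leaf (nat_lit 60)))) (.node (nat_lit 590) (.node (nat_lit 583) (.leaf (nat_lit 360)) (.leaf (nat_lit 180))) (.node (nat_lit 591) (.leaf (nat_lit 60)) (.leaf (nat_lit 360))))) (.node (nat_lit 752) (.node (nat_lit 745) (.leaf (nat_lit 180)) (.node (nat_lit 747) (.leaf (nat_lit 360)) (.leaf (nat_lit 180)))) (.node (nat_lit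 768) (.node (nat_lit 756) (.leaf (nat_lit 360)) (.leaf (nat_lit 60))) (.node (nat_lit 782) (.leaf (nat_lit 180)) (.leaf (nat_lit 20)))))) (.node (nat_lit 854) (.node (nat_lit 810) (.node (nat_lit 801) (.leaf (nat_lit 180)) (.node (nat_lit 805) (.leaf (nat_lit 360)) (.leaf (nat_lit 180)))) (.node (nat_lit 823) (.node (nat_lit 815) (.leaf (nat_lit 60)) (.leaf (nat_lit 360))) (.node (nat_lit 838) (.leaf (nat_lit 180)) (.leaf (nat_lit 0))))) (.node (nat_lit 879) (.node (nat_lit 866) (.node (nat_lit 864) (.leaf (nat_lit 180)) (.leaf (nat_lit 360))) (.node (nat_lit 871) (.leaf (nat_lit 60)) (.leaf (nat_lit 360)))) (.node (nat_lit 910) (.node (nat_lit 893) (.leaf (nat_lit 180)) (.leaf (nat_lit 60))) (.node (nat_lit 924) (.leaf (nat_lit 180)) (.leaf (nat_lit 60)))))))) (.node (nat_lit 1500) (.node (nat_lit 1143) (.node (nat_lit 1080) (.node (nat_lit 980) (.node (nat_lit 949) (.leaf (nat_lit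 180)) (.node (nat_lit 973) (.leaf (nat_lit 60)) (.leaf (nat_lit 180)))) (.node (nat_lit 1073) (.node (nat_lit 1049) (.leaf (nat_lit 60)) (.leaf (nat_lit 360))) (.node (nat_lit 1078) (.leaf (nat_lit 180)) (.leaf (nat_lit 360))))) (.node (nat_lit 1129) (.node (nat_lit 1082) (.leaf (nat_lit 0)) (.node (nat_lit 1085) (.leaf (nat_lit 180)) (.leaf (nat_lit 360)))) (.node (nat_lit 1134) (.node (nat_lit 1130) (.leaf (nat_lit 0)) (.leaf (nat_lit 180))) (.node (nat_lit 1137) (.leaf (nat_lit 360)) (.leaf (nat_lit 180)))))) (.node (nat_lit 1245) (.node (nat_lit 1186) (.node (nat_lit 1145) (.leaf (nat_lit 20)) (.node (nat_lit 1148) (.leaf (nat_lit 60)) (.leaf (nat_lit 360)))) (.node (nat_lit 1200) (.node (nat_lit 1197) (.leaf (nat_lit 180)) (.leaf (nat_lit 360))) (.node (nat_lit 1204) (.leaf (nat_lit 60)) (.leaf (nat_lit 360))))) (.node (nat_lit 1315) (.node (nat_lit 1256) (.leaf (nat_lit 180)) (.node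 (nat_lit 1308) (.leaf (nat_lit 60)) (.leaf (nat_lit 180)))) (.node (nat_lit 1493) (.node (nat_lit 1413) (.leaf (nat_lit 60)) (.leaf (nat_lit 360))) (.node (nat_lit 1497) (.leaf (nat_lit 180)) (.leaf (nat_lit 360))))))) (.node (nat_lit 1747) (.node (nat_lit 1612) (.node (nat_lit 1549) (.node (nat_lit 1511) (.leaf (nat_lit 180)) (.node (nat_lit 1539) (.leaf (nat_lit 360)) (.leaf (nat_lit 0)))) (.node (nat_lit 1563) (.node (nat_lit 1560) (.leaf (nat_lit 180)) (.leaf (nat_lit 360))) (.node (nat_lit 1567) (.leaf (nat_lit 60)) (.leaf (nat_lit 360))))) (.node (nat_lit 1691) (.node (nat_lit 1619) (.leaf (nat_lit 180)) (.node (nat_lit 1689) (.leaf (nat_lit 60)) (.leaf (nat_lit 180)))) (.node (nat_lit 1698) (.node (nat_lit 1696) (.leaf (nat_lit 360)) (.leaf (nat_lit 180))) (.node (nat_lit 1715) (.leaf (nat_lit 360)) (.leaf (nat_lit 180)))))) (.node (nat_lit 1810) (.node (nat_lit 1761) (.node (nat_lit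 1749) (.leaf (nat_lit 360)) (.node (nat_lit 1759) (.leaf (nat_lit 180)) (.leaf (nat_lit 420)))) (.node (nat_lit 1785) (.node (nat_lit 1771) (.leaf (nat_lit 360)) (.leaf (nat_lit 180))) (.node (nat_lit 1798) (.leaf (nat_lit 20)) (.leaf (nat_lit 180))))) (.node (nat_lit 1834) (.node (nat_lit 1815) (.node (nat_lit 1812) (.leaf (nat_lit 360)) (.leaf (nat_lit 60))) (.node (nat_lit 1817) (.leaf (nat_lit 420)) (.leaf (nat_lit 360)))) (.node (nat_lit 1861) (.node (nat_lit 1841) (.leaf (nat_lit 180)) (.leaf (nat_lit 5))) (.node (nat_lit 1868) (.leaf (nat_lit 180)) (.leaf (nat_lit 60))))))))) (.node (nat_lit 3103) (.node (nat_lit 2397) (.node (nat_lit 2150) (.node (nat_lit 2102) (.node (nat_lit 2059) (.node (nat_lit 2052) (.leaf (nat_lit 180)) (.node (nat_lit 2053) (.leaf (nat_lit 360)) (.leaf (nat_lit 180)))) (.node (nat_lit 2088) (.node (nat_lit 2074) (.leaf (nat_lit 360)) (.leaf (nat_lit 180)))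 (.node (nat_lit 2094) (.leaf (nat_lit 60)) (.leaf (nat_lit 420))))) (.node (nat_lit 2122) (.node (nat_lit 2108) (.leaf (nat_lit 180)) (.node (nat_lit 2116) (.leaf (nat_lit 360)) (.leaf (nat_lit 60)))) (.node (nat_lit 2144) (.node (nat_lit 2134) (.leaf (nat_lit 360)) (.leaf (nat_lit 180))) (.node (nat_lit 2148) (.leaf (nat_lit 60)) (.leaf (nat_lit 20)))))) (.node (nat_lit 2205) (.node (nat_lit 2172) (.node (nat_lit 2165) (.leaf (nat_lit 420)) (.node (nat_lit 2171) (.leaf (nat_lit 180)) (.leaf (nat_lit 360)))) (.node (nat_lit 2191) (.node (nat_lit 2178) (.leaf (nat_lit 60)) (.leaf (nat_lit 360))) (.node (nat_lit 2204) (.leaf (nat_lit 180)) (.leaf (nat_lit 365))))) (.node (nat_lit 2327) (.node (nat_lit 2254) (.leaf (nat_lit 60)) (.node (nat_lit 2261) (.leaf (nat_lit 180)) (.leaf (nat_lit 60)))) (.node (nat_lit 2383) (.node (nat_lit 2381) (.leaf (nat_lit 360)) (.leaf (nat_lit 180))) (.node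 (nat_lit 2385) (.leaf (nat_lit 360)) (.leaf (nat_lit 180))))))) (.node (nat_lit 2810) (.node (nat_lit 2500) (.node (nat_lit 2451) (.node (nat_lit 2437) (.leaf (nat_lit 360)) (.node (nat_lit 2446) (.leaf (nat_lit 180)) (.leaf (nat_lit 360)))) (.node (nat_lit 2455) (.node (nat_lit 2453) (.leaf (nat_lit 60)) (.leaf (nat_lit 0))) (.node (nat_lit 2468) (.leaf (nat_lit 420)) (.leaf (nat_lit 360))))) (.node (nat_lit 2531) (.node (nat_lit 2507) (.leaf (nat_lit 180)) (.node (nat_lit 2511) (.leaf (nat_lit 60)) (.leaf (nat_lit 420)))) (.node (nat_lit 2781) (.node (nat_lit 2740) (.leaf (nat_lit 360)) (.leaf (nat_lit 180))) (.node (nat_lit 2796) (.leaf (nat_lit 360)) (.leaf (nat_lit 180)))))) (.node (nat_lit 3020) (.node (nat_lit 2916) (.node (nat_lit 2853) (.leaf (nat_lit 60)) (.node (nat_lit 2866) (.leaf (nat_lit 180)) (.leaf (nat_lit 60)))) (.node (nat_lit 2964) (.node (nat_lit 2923) (.leaf (nat_lit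 180)) (.leaf (nat_lit 0))) (.node (nat_lit 2995) (.leaf (nat_lit 180)) (.leaf (nat_lit 360))))) (.node (nat_lit 3054) (.node (nat_lit 3047) (.node (nat_lit 3034) (.leaf (nat_lit 180)) (.leaf (nat_lit 20))) (.node (nat_lit 3051) (.leaf (nat_lit 180)) (.leaf (nat_lit 360)))) (.node (nat_lit 3083) (.node (nat_lit 3065) (.leaf (nat_lit 180)) (.leaf (nat_lit 360))) (.node (nat_lit 3090) (.leaf (nat_lit 180)) (.leaf (nat_lit 365)))))))) (.node (nat_lit 3751) (.node (nat_lit 3477) (.node (nat_lit 3409) (.node (nat_lit 3121) (.node (nat_lit 3114) (.leaf (nat_lit 180)) (.node (nat_lit 3117) (.leaf (nat_lit 360)) (.leaf (nat_lit 20)))) (.node (nat_lit 3173) (.node (nat_lit 3166) (.leaf (nat_lit 360)) (.leaf (nat_lit 180))) (.node (nat_lit 3330) (.leaf (nat_lit 0)) (.leaf (nat_lit 360))))) (.node (nat_lit 3428) (.node (nat_lit 3414) (.leaf (nat_lit 180)) (.node (nat_lit 3416) (.leaf (nat_lit 360))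 (.leaf (nat_lit 180)))) (.node (nat_lit 3449) (.node (nat_lit 3435) (.leaf (nat_lit 360)) (.leaf (nat_lit 180))) (.node (nat_lit 3465) (.leaf (nat_lit 360)) (.leaf (nat_lit 180)))))) (.node (nat_lit 3554) (.node (nat_lit 3491) (.node (nat_lit 3479) (.leaf (nat_lit 360)) (.node (nat_lit 3484) (.leaf (nat_lit 60)) (.leaf (nat_lit 360)))) (.node (nat_lit 3523) (.node (nat_lit 3505) (.leaf (nat_lit 180)) (.leaf (nat_lit 60))) (.node (nat_lit 3535) (.leaf (nat_lit 180)) (.leaf (nat_lit 60))))) (.node (nat_lit 3634) (.node (nat_lit 3586) (.node (nat_lit 3561) (.leaf (nat_lit 180)) (.leaf (nat_lit 60))) (.node (nat_lit 3593) (.leaf (nat_lit 180)) (.leaf (nat_lit 60)))) (.node (nat_lit 3744) (.node (nat_lit 3742) (.leaf (nat_lit 360)) (.leaf (nat_lit 180))) (.node (nat_lit 3749) (.leaf (nat_lit 360)) (.leaf (nat_lit 180))))))) (.node (nat_lit 4161) (.node (nat_lit 3868) (.node (nat_lit 3812)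 (.node (nat_lit 3798) (.leaf (nat_lit 360)) (.node (nat_lit 3800) (.leaf (nat_lit 180)) (.leaf (nat_lit 360)))) (.node (nat_lit 3861) (.node (nat_lit 3814) (.leaf (nat_lit 60)) (.leaf (nat_lit 360))) (.node (nat_lit 3863) (.leaf (nat_lit 180)) (.leaf (nat_lit 360))))) (.node (nat_lit 4105) (.node (nat_lit 3870) (.leaf (nat_lit 60)) (.node (nat_lit 4052) (.leaf (nat_lit 360)) (.leaf (nat_lit 180)))) (.node (nat_lit 4112) (.node (nat_lit 4108) (.leaf (nat_lit 360)) (.leaf (nat_lit 180))) (.node (nat_lit 4122) (.leaf (nat_lit 360)) (.leaf (nat_lit 420)))))) (.node (nat_lit 4415) (.node (nat_lit 4178) (.node (nat_lit 4171) (.leaf (nat_lit 360)) (.node (nat_lit 4175) (.leaf (nat_lit 180)) (.leaf (nat_lit 360)))) (.node (nat_lit 4296) (.node (nat_lit 4224) (.leaf (nat_lit 420)) (.leaf (nat_lit 360))) (.node (nat_lit 4366) (.leaf (nat_lit 180)) (.leaf (nat_lit 20))))) (.node (nat_lit 5008)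 (.node (nat_lit 4747) (.node (nat_lit 4422) (.leaf (nat_lit 180)) (.leaf (nat_lit 5))) (.node (nat_lit 4938) (.leaf (nat_lit 360)) (.leaf (nat_lit 180)))) (.node (nat_lit 5061) (.node (nat_lit 5047) (.leaf (nat_lit 20)) (.leaf (nat_lit 180))) (.node (nat_lit 5064) (.leaf (nat_lit 60)) (.leaf (nat_lit 0)))))))))) (.node (nat_lit 7700) (.node (nat_lit 6174) (.node (nat_lit 5690) (.node (nat_lit 5465) (.node (nat_lit 5357) (.node (nat_lit 5301) (.node (nat_lit 5117) (.leaf (nat_lit 180)) (.node (nat_lit 5299) (.leaf (nat_lit 60)) (.leaf (nat_lit 180)))) (.node (nat_lit 5308) (.node (nat_lit 5306) (.leaf (nat_lit 360)) (.leaf (nat_lit 180))) (.node (nat_lit 5355) (.leaf (nat_lit 360)) (.leaf (nat_lit 180))))) (.node (nat_lit 5409) (.node (nat_lit 5369) (.leaf (nat_lit 360)) (.node (nat_lit 5371) (.leaf (nat_lit 20)) (.leaf (nat_lit 360)))) (.node (nat_lit 5425) (.node (nat_lit 5420) (.leaf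 (nat_lit 180)) (.leaf (nat_lit 360))) (.node (nat_lit 5427) (.leaf (nat_lit 5)) (.leaf (nat_lit 0)))))) (.node (nat_lit 5640) (.node (nat_lit 5535) (.node (nat_lit 5479) (.leaf (nat_lit 180)) (.node (nat_lit 5528) (.leaf (nat_lit 60)) (.leaf (nat_lit 180)))) (.node (nat_lit 5633) (.node (nat_lit 5576) (.leaf (nat_lit 60)) (.leaf (nat_lit 180))) (.node (nat_lit 5634) (.leaf (nat_lit 360)) (.leaf (nat_lit 180))))) (.node (nat_lit 5664) (.node (nat_lit 5641) (.leaf (nat_lit 360)) (.node (nat_lit 5646) (.leaf (nat_lit 180)) (.leaf (nat_lit 60)))) (.node (nat_lit 5685) (.node (nat_lit 5678) (.leaf (nat_lit 180)) (.leaf (nat_lit 420))) (.node (nat_lit 5689) (.leaf (nat_lit 180)) (.leaf (nat_lit 360))))))) (.node (nat_lit 5804) (.node (nat_lit 5752) (.node (nat_lit 5704) (.node (nat_lit 5702) (.leaf (nat_lit 180)) (.node (nat_lit 5703) (.leaf (nat_lit 60)) (.leaf (nat_lit 360)))) (.node (nat_lit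 5734) (.node (nat_lit 5713) (.leaf (nat_lit 420)) (.leaf (nat_lit 180))) (.node (nat_lit 5741) (.leaf (nat_lit 420)) (.leaf (nat_lit 180))))) (.node (nat_lit 5759) (.node (nat_lit 5753) (.leaf (nat_lit 360)) (.node (nat_lit 5755) (.leaf (nat_lit 180)) (.leaf (nat_lit 60)))) (.node (nat_lit 5769) (.node (nat_lit 5760) (.leaf (nat_lit 360)) (.leaf (nat_lit 420))) (.node (nat_lit 5783) (.leaf (nat_lit 180)) (.leaf (nat_lit 60)))))) (.node (nat_lit 6055) (.node (nat_lit 5839) (.node (nat_lit 5811) (.leaf (nat_lit 180)) (.node (nat_lit 5832) (.leaf (nat_lit 60)) (.leaf (nat_lit 180)))) (.node (nat_lit 6048) (.node (nat_lit 5996) (.leaf (nat_lit 60)) (.leaf (nat_lit 360))) (.node (nat_lit 6052) (.leaf (nat_lit 180)) (.leaf (nat_lit 360))))) (.node (nat_lit 6118) (.node (nat_lit 6104) (.node (nat_lit 6066) (.leaf (nat_lit 180)) (.leaf (nat_lit 360))) (.node (nat_lit 6115) (.leaf (nat_lit 180))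 (.leaf (nat_lit 360)))) (.node (nat_lit 6135) (.node (nat_lit 6122) (.leaf (nat_lit 60)) (.leaf (nat_lit 0))) (.node (nat_lit 6167) (.leaf (nat_lit 360)) (.leaf (nat_lit 180)))))))) (.node (nat_lit 7075) (.node (nat_lit 6757) (.node (nat_lit 6507) (.node (nat_lit 6422) (.node (nat_lit 6198) (.leaf (nat_lit 60)) (.node (nat_lit 6381) (.leaf (nat_lit 360)) (.leaf (nat_lit 180)))) (.node (nat_lit 6451) (.node (nat_lit 6437) (.leaf (nat_lit 360)) (.leaf (nat_lit 180))) (.node (nat_lit 6500) (.leaf (nat_lit 60)) (.leaf (nat_lit 180))))) (.node (nat_lit 6714) (.node (nat_lit 6631) (.leaf (nat_lit 60)) (.node (nat_lit 6701) (.leaf (nat_lit 180)) (.leaf (nat_lit 20)))) (.node (nat_lit 6732) (.node (nat_lit 6728) (.leaf (nat_lit 180)) (.leaf (nat_lit 60))) (.node (nat_lit 6750) (.leaf (nat_lit 420)) (.leaf (nat_lit 180)))))) (.node (nat_lit 6908) (.node (nat_lit 6786) (.node (nat_lit 6772) (.leaf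 (nat_lit 130)) (.node (nat_lit 6784) (.leaf (nat_lit 180)) (.leaf (nat_lit 0)))) (.node (nat_lit 6835) (.node (nat_lit 6788) (.leaf (nat_lit 60)) (.leaf (nat_lit 420))) (.node (nat_lit 6842) (.leaf (nat_lit 180)) (.leaf (nat_lit 60))))) (.node (nat_lit 7034) (.node (nat_lit 6978) (.leaf (nat_lit 180)) (.node (nat_lit 6991) (.leaf (nat_lit 60)) (.leaf (nat_lit 180)))) (.node (nat_lit 7061) (.node (nat_lit 7047) (.leaf (nat_lit 60)) (.leaf (nat_lit 180))) (.node (nat_lit 7067) (.leaf (nat_lit 60)) (.leaf (nat_lit 420))))))) (.node (nat_lit 7422) (.node (nat_lit 7151) (.node (nat_lit 7117) (.node (nat_lit 7089) (.leaf (nat_lit 180)) (.node (nat_lit 7110) (.leaf (nat_lit 60)) (.leaf (nat_lit 180)))) (.node (nat_lit 7138) (.node (nat_lit 7123) (.leaf (nat_lit 60)) (.leaf (nat_lit 420))) (.node (nat_lit 7145) (.leaf (nat_lit 180)) (.leaf (nat_lit 0))))) (.node (nat_lit 7352) (.node (nat_lit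 7301) (.leaf (nat_lit 60)) (.node (nat_lit 7328) (.leaf (nat_lit 180)) (.leaf (nat_lit 360)))) (.node (nat_lit 7384) (.node (nat_lit 7371) (.leaf (nat_lit 180)) (.leaf (nat_lit 420))) (.node (nat_lit 7408) (.leaf (nat_lit 360)) (.leaf (nat_lit 180)))))) (.node (nat_lit 7606) (.node (nat_lit 7471) (.node (nat_lit 7427) (.leaf (nat_lit 60)) (.node (nat_lit 7447) (.leaf (nat_lit 420)) (.leaf (nat_lit 360)))) (.node (nat_lit 7550) (.node (nat_lit 7478) (.leaf (nat_lit 180)) (.leaf (nat_lit 60))) (.node (nat_lit 7602) (.leaf (nat_lit 360)) (.leaf (nat_lit 180))))) (.node (nat_lit 7669) (.node (nat_lit 7620) (.node (nat_lit 7609) (.leaf (nat_lit 360)) (.leaf (nat_lit 180))) (.node (nat_lit 7630) (.leaf (nat_lit 360)) (.leaf (nat_lit 180)))) (.node (nat_lit 7676) (.node (nat_lit 7672) (.leaf (nat_lit 360)) (.leaf (nat_lit 20))) (.node (nat_lit 7686) (.leaf (nat_lit 360)) (.leaf (nat_lit 180)))))))))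 (.node (nat_lit 8777) (.node (nat_lit 8189) (.node (nat_lit 7994) (.node (nat_lit 7924) (.node (nat_lit 7749) (.node (nat_lit 7721) (.leaf (nat_lit 60)) (.node (nat_lit 7728) (.leaf (nat_lit 180)) (.leaf (nat_lit 5)))) (.node (nat_lit 7854) (.node (nat_lit 7756) (.leaf (nat_lit 180)) (.leaf (nat_lit 60))) (.node (nat_lit 7913) (.leaf (nat_lit 180)) (.leaf (nat_lit 360))))) (.node (nat_lit 7972) (.node (nat_lit 7965) (.leaf (nat_lit 60)) (.node (nat_lit 7969) (.leaf (nat_lit 180)) (.leaf (nat_lit 360)))) (.node (nat_lit 7980) (.node (nat_lit 7977) (.leaf (nat_lit 180)) (.leaf (nat_lit 360))) (.node (nat_lit 7983) (.leaf (nat_lit 60)) (.leaf (nat_lit 360)))))) (.node (nat_lit 8084) (.node (nat_lit 8038) (.node (nat_lit 8026) (.leaf (nat_lit 180)) (.node (nat_lit 8035) (.leaf (nat_lit 360)) (.leaf (nat_lit 60)))) (.node (nat_lit 8050) (.node (nat_lit 8039) (.leaf (nat_lit 20)) (.leaf (nat_lit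 360))) (.node (nat_lit 8064) (.leaf (nat_lit 180)) (.leaf (nat_lit 60))))) (.node (nat_lit 8094) (.node (nat_lit 8089) (.leaf (nat_lit 180)) (.node (nat_lit 8091) (.leaf (nat_lit 360)) (.leaf (nat_lit 60)))) (.node (nat_lit 8113) (.node (nat_lit 8096) (.leaf (nat_lit 5)) (.leaf (nat_lit 0))) (.node (nat_lit 8120) (.leaf (nat_lit 180)) (.leaf (nat_lit 60))))))) (.node (nat_lit 8450) (.node (nat_lit 8368) (.node (nat_lit 8310) (.node (nat_lit 8298) (.leaf (nat_lit 360)) (.node (nat_lit 8308) (.leaf (nat_lit 180)) (.leaf (nat_lit 360)))) (.node (nat_lit 8331) (.node (nat_lit 8315) (.leaf (nat_lit 180)) (.leaf (nat_lit 0))) (.node (nat_lit 8354) (.leaf (nat_lit 360)) (.leaf (nat_lit 180))))) (.node (nat_lit 8413) (.node (nat_lit 8373) (.leaf (nat_lit 60)) (.node (nat_lit 8387) (.leaf (nat_lit 20)) (.leaf (nat_lit 360)))) (.node (nat_lit 8427) (.node (nat_lit 8424) (.leaf (nat_lit 180)) (.leaf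 (nat_lit 0))) (.node (nat_lit 8429) (.leaf (nat_lit 60)) (.leaf (nat_lit 361)))))) (.node (nat_lit 8649) (.node (nat_lit 8522) (.node (nat_lit 8476) (.leaf (nat_lit 360)) (.node (nat_lit 8483) (.leaf (nat_lit 180)) (.leaf (nat_lit 0)))) (.node (nat_lit 8633) (.node (nat_lit 8592) (.leaf (nat_lit 180)) (.leaf (nat_lit 20))) (.node (nat_lit 8648) (.leaf (nat_lit 180)) (.leaf (nat_lit 365))))) (.node (nat_lit 8714) (.node (nat_lit 8703) (.node (nat_lit 8658) (.leaf (nat_lit 420)) (.leaf (nat_lit 180))) (.node (nat_lit 8705) (.leaf (nat_lit 60)) (.leaf (nat_lit 420)))) (.node (nat_lit 8752) (.node (nat_lit 8728) (.leaf (nat_lit 180)) (.leaf (nat_lit 60))) (.node (nat_lit 8759) (.leaf (nat_lit 180)) (.leaf (nat_lit 60)))))))) (.node (nat_lit 9551) (.node (nat_lit 9242) (.node (nat_lit 9012) (.node (nat_lit 8927) (.node (nat_lit 8784) (.leaf (nat_lit 180)) (.node (nat_lit 8857) (.leaf (nat_lit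 60)) (.leaf (nat_lit 180)))) (.node (nat_lit 8983) (.node (nat_lit 8942) (.leaf (nat_lit 420)) (.leaf (nat_lit 180))) (.node (nat_lit 8998) (.leaf (nat_lit 420)) (.leaf (nat_lit 180))))) (.node (nat_lit 9061) (.node (nat_lit 9033) (.leaf (nat_lit 20)) (.node (nat_lit 9040) (.leaf (nat_lit 180)) (.leaf (nat_lit 420)))) (.node (nat_lit 9160) (.node (nat_lit 9068) (.leaf (nat_lit 180)) (.leaf (nat_lit 425))) (.node (nat_lit 9230) (.leaf (nat_lit 180)) (.leaf (nat_lit 60)))))) (.node (nat_lit 9370) (.node (nat_lit 9286) (.node (nat_lit 9256) (.leaf (nat_lit 180)) (.node (nat_lit 9279) (.leaf (nat_lit 60)) (.leaf (nat_lit 180)))) (.node (nat_lit 9312) (.node (nat_lit 9300) (.leaf (nat_lit 60)) (.leaf (nat_lit 180))) (.node (nat_lit 9356) (.leaf (nat_lit 60)) (.leaf (nat_lit 180))))) (.node (nat_lit 9495) (.node (nat_lit 9426) (.node (nat_lit 9419) (.leaf (nat_lit 60)) (.leaf (nat_lit 180)))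 (.node (nat_lit 9493) (.leaf (nat_lit 60)) (.leaf (nat_lit 180)))) (.node (nat_lit 9502) (.node (nat_lit 9500) (.leaf (nat_lit 360)) (.leaf (nat_lit 180))) (.node (nat_lit 9549) (.leaf (nat_lit 360)) (.leaf (nat_lit 180))))))) (.node (nat_lit 9733) (.node (nat_lit 9661) (.node (nat_lit 9612) (.node (nat_lit 9563) (.leaf (nat_lit 360)) (.node (nat_lit 9565) (.leaf (nat_lit 20)) (.leaf (nat_lit 360)))) (.node (nat_lit 9619) (.node (nat_lit 9614) (.leaf (nat_lit 180)) (.leaf (nat_lit 360))) (.node (nat_lit 9621) (.leaf (nat_lit 5)) (.leaf (nat_lit 360))))) (.node (nat_lit 9670) (.node (nat_lit 9663) (.leaf (nat_lit 180)) (.node (nat_lit 9668) (.leaf (nat_lit 360)) (.leaf (nat_lit 180)))) (.node (nat_lit 9719) (.node (nat_lit 9717) (.leaf (nat_lit 360)) (.leaf (nat_lit 180))) (.node (nat_lit 9731) (.leaf (nat_lit 360)) (.leaf (nat_lit 60)))))) (.node (nat_lit 9977) (.node (nat_lit 9787)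 (.node (nat_lit 9780) (.leaf (nat_lit 360)) (.node (nat_lit 9782) (.leaf (nat_lit 180)) (.leaf (nat_lit 360)))) (.node (nat_lit 9970) (.node (nat_lit 9789) (.leaf (nat_lit 60)) (.leaf (nat_lit 360))) (.node (nat_lit 9975) (.leaf (nat_lit 180)) (.leaf (nat_lit 360))))) (.node (nat_lit 10052) (.node (nat_lit 9996) (.node (nat_lit 9982) (.leaf (nat_lit 180)) (.leaf (nat_lit 360))) (.node (nat_lit 10040) (.leaf (nat_lit 180)) (.leaf (nat_lit 60)))) (.node (nat_lit 10089) (.node (nat_lit 10066) (.leaf (nat_lit 180)) (.leaf (nat_lit 60))) (.node (nat_lit 10096) (.leaf (nat_lit 180)) (.leaf (nat_lit 0)))))))))))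
noncomputable def N9_soc_F : Fm := (.all N9_L (.or (.qf (.eq (.v (nat_lit 0)) .one)) (.exF N9_L (fun cs => N9_soc_t1.find (Nat.mod (nth (nat_lit 0) cs (nat_lit 0)) (nat_lit 10113))) (.exF N9_L (fun cs => N9_soc_t0.find (Nat.mod (Nat.add (nth (nat_lit 0) cs (nat_lit 0)) (Nat.mul (nat_lit 7919) (nth (nat_lit 0) cs (nat_lit 1)))) (nat_lit 20458))) (.qf (.or (.eq (.mul (.mul (.v (nat_lit 0)) (.v (nat_lit 2))) (.inv (.v (nat_lit 0)))) (.mul (.v (nat_lit 4)) (.v (nat_lit 3)))) (.or (.eq (.mul (.mul (.v (nat_lit 0)) (.v (nat_lit 2))) (.inv (.v (nat_lit 0)))) (.mul (.v (nat_lit 5)) (.v (nat_lit 7)))) (.or (.eq (.mul (.mul (.v (nat_lit 0)) (.mul (.mul (.mul (.v (nat_lit 2)) (.v (nat_lit 1))) (.inv (.v (nat_lit 2)))) (.inv (.v (nat_lit 1))))) (.inv (.v (nat_lit 0)))) (.mul (.v (nat_lit 4)) (.v (nat_lit 3)))) (.or (.eq (.mul (.mul (.v (nat_lit 0)) (.mul (.mul (.mul (.v (nat_lit 2)) (.v (nat_lit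 1))) (.inv (.v (nat_lit 2)))) (.inv (.v (nat_lit 1))))) (.inv (.v (nat_lit 0)))) (.mul (.v (nat_lit 5)) (.v (nat_lit 7)))) (.or (.eq (.mul (.mul (.mul (.mul (.mul (.mul (.v (nat_lit 2)) (.v (nat_lit 1))) (.inv (.v (nat_lit 2)))) (.inv (.v (nat_lit 1)))) (.v (nat_lit 0))) (.inv (.mul (.mul (.mul (.v (nat_lit 2)) (.v (nat_lit 1))) (.inv (.v (nat_lit 2)))) (.inv (.v (nat_lit 1)))))) (.inv (.v (nat_lit 0)))) (.mul (.v (nat_lit 4)) (.v (nat_lit 3)))) (.eq (.mul (.mul (.mul (.mul (.mul (.mul (.v (nat_lit 2)) (.v (nat_lit 1))) (.inv (.v (nat_lit 2)))) (.inv (.v (nat_lit 1)))) (.v (nat_lit 0))) (.inv (.mul (.mul (.mul (.v (nat_lit 2)) (.v (nat_lit 1))) (.inv (.v (nat_lit 2)))) (.inv (.v (nat_lit 1)))))) (.inv (.v (nat_lit 0)))) (.mul (.v (nat_lit 5)) (.v (nat_lit 7))))))))))))))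
theorem N9_soc_chk : Fm.chk N9_o N9_soc_F N9_cs = true := by decide +kernel
theorem N9_soc {G : Type*} [Group G] {R : ℕ → G → Prop} {a b c d e u : G} {H : Subgroup G}
    (M : Mdl N9_o N9_cs N9_L R [a, b, c, d, e, u] H) :
    ∀ y_ ∈ H, y_ = 1 ∨ (∃ q_ ∈ H, ∃ k_ ∈ H, k_ * y_ * k_⁻¹ = b * a ∨ k_ * y_ * k_⁻¹ = c * e ∨ k_ * ⁅y_, q_⁆ * k_⁻¹ = b * a ∨ k_ * ⁅y_, q_⁆ * k_⁻¹ = c * e ∨ ⁅⁅y_, q_⁆, k_⁆ = b * a ∨ ⁅⁅y_, q_⁆, k_⁆ = c * e) :=
  have h : ∀ y_, InL N9_o R N9_L y_ → y_ = 1 ∨ (Good N9_o R N9_L → prods N9_o N9_L N9_o.one ≠ [] → ∃ q_, InL N9_o R N9_L q_ ∧ (Good N9_o R N9_L → prods N9_o N9_L N9_o.one ≠ [] → ∃ k_, InL N9_o R N9_L k_ ∧ (k_ * y_ * k_⁻¹ = b * a ∨ k_ * y_ * k_⁻¹ = c * e ∨ k_ * ⁅y_, q_⁆ * k_⁻¹ = b * a ∨ k_ * ⁅y_, q_⁆ * k_⁻¹ = c * e ∨ ⁅⁅y_, q_⁆, k_⁆ = b * a ∨ ⁅⁅y_, q_⁆, k_⁆ = c * e))) :=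
    Fm.sound M.μ N9_soc_F N9_soc_chk M.reps
  (fun y_ h0 => (Or.imp (fun h1 => h1) (fun h1 => (Exists.imp (fun q_ h2 => ⟨M.H.iff.1 h2.1, (Exists.imp (fun k_ h3 => ⟨M.H.iff.1 h3.1, h3.2⟩) (h2.2 M.H.good M.H.ne))⟩) (h1 M.H.good M.H.ne))) (h y_ (M.H.iff.2 h0))))
theorem N9_mdl {G : Type*} [Group G] {a b c d e u : G}
    (h : N9 a b c d e u)
    (n1 : b * a ≠ 1) (n2 : c * e ≠ 1) :
    ∃ R, Mdl N9_o N9_cs N9_L R [a, b, c, d, e, u] (sp [a, b, c, d, e, u]) ∧ #(sp [a, b, c, d, e, u]) = 720 :=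
  mdl_of N9_P rfl (N9_r h) (.mul (.v (nat_lit 1)) (.v (nat_lit 0))) (.mul (.v (nat_lit 2)) (.v (nat_lit 4))) n1 n2
    fun _ ms _ M hl => match ms, M, (hl : ms.length = 6) with
      | [_, _, _, _, _, _], M, _ => N9_soc M
noncomputable def NA_cs : List ℕ := [(nat_lit 0xfac681), (nat_lit 0xfac650), (nat_lit 0xfab888), (nat_lit 0xfa5688), (nat_lit 0xf74688), (nat_lit 0xdec688), (nat_lit 0xfac642), (nat_lit 0xfa3a88), (nat_lit 0xfa3a42), (nat_lit 0x8efc88), (nat_lit 0xf1ea88), (nat_lit 0xd7c688)]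
theorem NA_ext {G : Type*} [Group G] {R : ℕ → G → Prop} {a b c d e u : G} {H : Subgroup G}
    (M : Mdl N9_o N9_cs N9_L R [a, b, c, d, e, u] H) :
    Mdl N9_o NA_cs N9_L R [a, b, c, d, e, u, b * a, d * c, b * a * (d * c), d * e * u * c * d * e * c * d, d * e * c * d, u * e] H :=
  ⟨M.μ, M.reps.tms M.μ.1 [(.v (nat_lit 0)), (.v (nat_lit 1)), (.v (nat_lit 2)), (.v (nat_lit 3)), (.v (nat_lit 4)), (.v (nat_lit 5)), (.mul (.v (nat_lit 1)) (.v (nat_lit 0))), (.mul (.v (nat_lit 3)) (.v (nat_lit 2))), (.mul (.mul (.v (nat_lit 1)) (.v (nat_lit 0))) (.mul (.v (nat_lit 3)) (.v (nat_lit 2)))), (.mul (.mul (.mul (.mul (.mul (.mul (.mul (.v (nat_lit 3)) (.v (nat_lit 4))) (.v (nat_lit 5))) (.v (nat_lit 2))) (.v (nat_lit 3))) (.v (nat_lit 4))) (.v (nat_lit 2))) (.v (nat_lit 3))), (.mul (.mul (.mul (.v (nat_lit 3)) (.v (nat_lit 4))) (.v (nat_lit 2))) (.v (nat_lit 3))), (.mul (.v (nat_lit 5)) (.v (nat_lit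 4)))] (cs' := NA_cs) (by decide +kernel),
    tms_mem M.le [(.v (nat_lit 0)), (.v (nat_lit 1)), (.v (nat_lit 2)), (.v (nat_lit 3)), (.v (nat_lit 4)), (.v (nat_lit 5)), (.mul (.v (nat_lit 1)) (.v (nat_lit 0))), (.mul (.v (nat_lit 3)) (.v (nat_lit 2))), (.mul (.mul (.v (nat_lit 1)) (.v (nat_lit 0))) (.mul (.v (nat_lit 3)) (.v (nat_lit 2)))), (.mul (.mul (.mul (.mul (.mul (.mul (.mul (.v (nat_lit 3)) (.v (nat_lit 4))) (.v (nat_lit 5))) (.v (nat_lit 2))) (.v (nat_lit 3))) (.v (nat_lit 4))) (.v (nat_lit 2))) (.v (nat_lit 3))), (.mul (.mul (.mul (.v (nat_lit 3)) (.v (nat_lit 4))) (.v (nat_lit 2))) (.v (nat_lit 3))), (.mul (.v (nat_lit 5)) (.v (nat_lit 4)))], M.H⟩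
noncomputable def NA_r_f_F : Fm := (.qf (.and (.eq (.mul (.v (nat_lit 0)) (.v (nat_lit 0))) .one) (.and (.eq (.mul (.v (nat_lit 1)) (.v (nat_lit 1))) .one) (.and (.eq (.mul (.v (nat_lit 2)) (.v (nat_lit 2))) .one) (.and (.eq (.mul (.v (nat_lit 3)) (.v (nat_lit 3))) .one) (.and (.eq (.mul (.v (nat_lit 4)) (.v (nat_lit 4))) .one) (.and (.eq (.mul (.v (nat_lit 5)) (.v (nat_lit 5))) .one) (.and (.eq (.pw (.mul (.v (nat_lit 1)) (.v (nat_lit 0))) (nat_lit 3)) .one) (.and (.eq (.pw (.mul (.v (nat_lit 3)) (.v (nat_lit 2))) (nat_lit 3)) .one) (.and (.eq (.pw (.mul (.v (nat_lit 3)) (.v (nat_lit 4))) (nat_lit 3)) .one) (.and (.eq (.pw (.mul (.v (nat_lit 4)) (.v (nat_lit 5))) (nat_lit 3)) .one) (.and (.eq (.mul (.v (nat_lit 0)) (.v (nat_lit 2))) (.mul (.v (nat_lit 2)) (.v (nat_lit 0)))) (.and (.eq (.mul (.v (nat_lit 0)) (.v (nat_lit 3))) (.mul (.v (nat_lit 3)) (.v (nat_lit 0)))) (.and (.eq (.mul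 (.v (nat_lit 0)) (.v (nat_lit 4))) (.mul (.v (nat_lit 4)) (.v (nat_lit 0)))) (.and (.eq (.mul (.v (nat_lit 0)) (.v (nat_lit 5))) (.mul (.v (nat_lit 5)) (.v (nat_lit 0)))) (.and (.eq (.mul (.v (nat_lit 1)) (.v (nat_lit 2))) (.mul (.v (nat_lit 2)) (.v (nat_lit 1)))) (.and (.eq (.mul (.v (nat_lit 1)) (.v (nat_lit 3))) (.mul (.v (nat_lit 3)) (.v (nat_lit 1)))) (.and (.eq (.mul (.v (nat_lit 1)) (.v (nat_lit 4))) (.mul (.v (nat_lit 4)) (.v (nat_lit 1)))) (.and (.eq (.mul (.v (nat_lit 1)) (.v (nat_lit 5))) (.mul (.v (nat_lit 5)) (.v (nat_lit 1)))) (.and (.eq (.mul (.v (nat_lit 2)) (.v (nat_lit 4))) (.mul (.v (nat_lit 4)) (.v (nat_lit 2)))) (.and (.eq (.mul (.v (nat_lit 2)) (.v (nat_lit 5))) (.mul (.v (nat_lit 5)) (.v (nat_lit 2)))) (.eq (.mul (.v (nat_lit 3)) (.v (nat_lit 5))) (.mul (.v (nat_lit 5)) (.v (nat_lit 3)))))))))))))))))))))))))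
theorem NA_r_f_chk : Fm.chk N9_o NA_r_f_F NA_cs = true := by decide +kernel
theorem NA_r_f {G : Type*} [Group G] {R : ℕ → G → Prop} {a b c d e u z x y v f k : G} {H : Subgroup G}
    (M : Mdl N9_o NA_cs N9_L R [a, b, c, d, e, u, z, x, y, v, f, k] H) :
    a * a = 1 ∧ b * b = 1 ∧ c * c = 1 ∧ d * d = 1 ∧ e * e = 1 ∧ u * u = 1 ∧ (b * a) ^ 3 = 1 ∧ (d * c) ^ 3 = 1 ∧ (d * e) ^ 3 = 1 ∧ (e * u) ^ 3 = 1 ∧ a * c = c * a ∧ a * d = d * a ∧ a * e = e * a ∧ a * u = u * a ∧ b * c = c * b ∧ b * d = d * b ∧ b * e = e * b ∧ b * u = u * b ∧ c * e = e * c ∧ c * u = u * c ∧ d * u = u * d :=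
  Fm.sound M.μ NA_r_f_F NA_r_f_chk M.reps
theorem NA_r {G : Type*} [Group G] {R : ℕ → G → Prop} {a b c d e u z x y v f k : G} {H : Subgroup G}
    (M : Mdl N9_o NA_cs N9_L R [a, b, c, d, e, u, z, x, y, v, f, k] H) :
    N9 a b c d e u :=
  have h := NA_r_f M
  ⟨h.1, h.2.1, h.2.2.1, h.2.2.2.1, h.2.2.2.2.1, h.2.2.2.2.2.1, h.2.2.2.2.2.2.1, h.2.2.2.2.2.2.2.1, h.2.2.2.2.2.2.2.2.1, h.2.2.2.2.2.2.2.2.2.1, h.2.2.2.2.2.2.2.2.2.2.1, h.2.2.2.2.2.2.2.2.2.2.2.1, h.2.2.2.2.2.2.2.2.2.2.2.2.1, h.2.2.2.2.2.2.2.2.2.2.2.2.2.1, h.2.2.2.2.2.2.2.2.2.2.2.2.2.2.1, h.2.2.2.2.2.2.2.2.2.2.2.2.2.2.2.1, h.2.2.2.2.2.2.2.2.2.2.2.2.2.2.2.2.1, h.2.2.2.2.2.2.2.2.2.2.2.2.2.2.2.2.2.1, h.2.2.2.2.2.2.2.2.2.2.2.2.2.2.2.2.2.2.1, h.2.2.2.2.2.2.2.2.2.2.2.2.2.2.2.2.2.2.2.1, h.2.2.2.2.2.2.2.2.2.2.2.2.2.2.2.2.2.2.2.2, trivial⟩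
noncomputable def NA_lD : List ℕ := [(nat_lit 0xfac688), (nat_lit 0xfac642), (nat_lit 0xfa3a88), (nat_lit 0xfac611), (nat_lit 0xfa3a42), (nat_lit 0xf9d888), (nat_lit 0xfa3a11), (nat_lit 0xf9d842), (nat_lit 0xf9d811)]
noncomputable def NA_lD_W : List (List ℕ) := [[],
  [(nat_lit 0)],
  [(nat_lit 1)],
  [(nat_lit 0), (nat_lit 0)],
  [(nat_lit 0), (nat_lit 1)],
  [(nat_lit 1), (nat_lit 1)],
  [(nat_lit 0), (nat_lit 0), (nat_lit 1)],
  [(nat_lit 0), (nat_lit 1), (nat_lit 1)],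
  [(nat_lit 0), (nat_lit 0), (nat_lit 1), (nat_lit 1)]]
noncomputable def NA_lD_h (c : ℕ) : ℕ := Nat.mod c (nat_lit 12)
theorem NA_lD_E {G : Type*} [Group G] {R : ℕ → G → Prop} {a b c d e u z x y v f k : G} {H : Subgroup G}
    (M : Mdl N9_o NA_cs N9_L R [a, b, c, d, e, u, z, x, y, v, f, k] H) :
    EnumS R NA_lD (sp [z, x]) :=
  enumS_sp M.μ.1 (M.reps.tms M.μ.1 [(.v (nat_lit 6)), (.v (nat_lit 7))] (cs' := [(nat_lit 0xfac642), (nat_lit 0xfa3a88)]) (by decide +kernel))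
    (Ws := NA_lD_W) (by decide +kernel) (by decide +kernel)
theorem NA_lD_c {G : Type*} [Group G] {R : ℕ → G → Prop} {a b c d e u z x y v f k : G} {H : Subgroup G}
    (M : Mdl N9_o NA_cs N9_L R [a, b, c, d, e, u, z, x, y, v, f, k] H) :
    #(sp [z, x]) = 9 :=
  (NA_lD_E M).card M.μ (h := NA_lD_h) (by decide +kernel)
noncomputable def NA_lB : List ℕ := [(nat_lit 0xfac688), (nat_lit 0xfac642), (nat_lit 0xfa3a88), (nat_lit 0xfac681), (nat_lit 0xfab888), (nat_lit 0xdec688), (nat_lit 0xfac611), (nat_lit 0xfa3a42), (nat_lit 0xfac60a), (nat_lit 0xfab842), (nat_lit 0xdec642), (nat_lit 0xf9d888), (nat_lit 0xfa3a81), (nat_lit 0xf9ca88), (nat_lit 0xde3a88), (nat_lit 0xfac650), (nat_lit 0xfab881), (nat_lit 0xdec681), (nat_lit 0xfa5688), (nat_lit 0xdeb888), (nat_lit 0xfa3a11), (nat_lit 0xfab811), (nat_lit 0xdec611), (nat_lit 0xf9d842), (nat_lit 0xfa3a0a), (nat_lit 0xf9ca42), (nat_lit 0xde3a42),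 (nat_lit 0xfab80a), (nat_lit 0xdec60a), (nat_lit 0xfa5642), (nat_lit 0xdeb842), (nat_lit 0xf9d881), (nat_lit 0xddd888), (nat_lit 0xfa3a50), (nat_lit 0xf9ca81), (nat_lit 0xde3a81), (nat_lit 0xddca88), (nat_lit 0xfab850), (nat_lit 0xdec650), (nat_lit 0xfa5681), (nat_lit 0xdeb881), (nat_lit 0xde5688), (nat_lit 0xf9d811), (nat_lit 0xf9ca11), (nat_lit 0xde3a11), (nat_lit 0xfa5611), (nat_lit 0xdeb811), (nat_lit 0xf9d80a), (nat_lit 0xddd842), (nat_lit 0xf9ca0a), (nat_lit 0xde3a0a), (nat_lit 0xddca42), (nat_lit 0xfa560a), (nat_lit 0xdeb80a), (nat_lit 0xde5642), (nat_lit 0xf9d850), (nat_lit 0xddd881), (nat_lit 0xf9ca50), (nat_lit 0xde3a50), (nat_lit 0xddca81), (nat_lit 0xfa5650), (nat_lit 0xdeb850), (nat_lit 0xde5681), (nat_lit 0xddd811), (nat_lit 0xddca11), (nat_lit 0xde5611), (nat_lit 0xddd80a), (nat_lit 0xddca0a), (nat_lit 0xde560a), (nat_lit 0xddd850), (nat_lit 0xddca50), (nat_lit 0xde5650)]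
noncomputable def NA_lB_W : List (List ℕ) := [[],
  [(nat_lit 0)],
  [(nat_lit 1)],
  [(nat_lit 2)],
  [(nat_lit 3)],
  [(nat_lit 4)],
  [(nat_lit 0), (nat_lit 0)],
  [(nat_lit 0), (nat_lit 1)],
  [(nat_lit 0), (nat_lit 2)],
  [(nat_lit 0), (nat_lit 3)],
  [(nat_lit 0), (nat_lit 4)],
  [(nat_lit 1), (nat_lit 1)],
  [(nat_lit 1), (nat_lit 2)],
  [(nat_lit 1), (nat_lit 3)],
  [(nat_lit 1), (nat_lit 4)],
  [(nat_lit 2), (nat_lit 0)],
  [(nat_lit 2), (nat_lit 3)],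
  [(nat_lit 2), (nat_lit 4)],
  [(nat_lit 3), (nat_lit 1)],
  [(nat_lit 3), (nat_lit 4)],
  [(nat_lit 0), (nat_lit 0), (nat_lit 1)],
  [(nat_lit 0), (nat_lit 0), (nat_lit 3)],
  [(nat_lit 0), (nat_lit 0), (nat_lit 4)],
  [(nat_lit 0), (nat_lit 1), (nat_lit 1)],
  [(nat_lit 0), (nat_lit 1), (nat_lit 2)],
  [(nat_lit 0), (nat_lit 1), (nat_lit 3)],
  [(nat_lit 0), (nat_lit 1), (nat_lit 4)],
  [(nat_lit 0), (nat_lit 2), (nat_lit 3)],
  [(nat_lit 0), (nat_lit 2), (nat_lit 4)],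
  [(nat_lit 0), (nat_lit 3), (nat_lit 1)],
  [(nat_lit 0), (nat_lit 3), (nat_lit 4)],
  [(nat_lit 1), (nat_lit 1), (nat_lit 2)],
  [(nat_lit 1), (nat_lit 1), (nat_lit 4)],
  [(nat_lit 1), (nat_lit 2), (nat_lit 0)],
  [(nat_lit 1), (nat_lit 2), (nat_lit 3)],
  [(nat_lit 1), (nat_lit 2), (nat_lit 4)],
  [(nat_lit 1), (nat_lit 3), (nat_lit 4)],
  [(nat_lit 2), (nat_lit 0), (nat_lit 3)],
  [(nat_lit 2), (nat_lit 0), (nat_lit 4)],
  [(nat_lit 2), (nat_lit 3), (nat_lit 1)],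
  [(nat_lit 2), (nat_lit 3), (nat_lit 4)],
  [(nat_lit 3), (nat_lit 1), (nat_lit 4)],
  [(nat_lit 0), (nat_lit 0), (nat_lit 1), (nat_lit 1)],
  [(nat_lit 0), (nat_lit 0), (nat_lit 1), (nat_lit 3)],
  [(nat_lit 0), (nat_lit 0), (nat_lit 1), (nat_lit 4)],
  [(nat_lit 0), (nat_lit 0), (nat_lit 3), (nat_lit 1)],
  [(nat_lit 0), (nat_lit 0), (nat_lit 3), (nat_lit 4)],
  [(nat_lit 0), (nat_lit 1), (nat_lit 1), (nat_lit 2)],
  [(nat_lit 0), (nat_lit 1), (nat_lit 1), (nat_lit 4)],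
  [(nat_lit 0), (nat_lit 1), (nat_lit 2), (nat_lit 3)],
  [(nat_lit 0), (nat_lit 1), (nat_lit 2), (nat_lit 4)],
  [(nat_lit 0), (nat_lit 1), (nat_lit 3), (nat_lit 4)],
  [(nat_lit 0), (nat_lit 2), (nat_lit 3), (nat_lit 1)],
  [(nat_lit 0), (nat_lit 2), (nat_lit 3), (nat_lit 4)],
  [(nat_lit 0), (nat_lit 3), (nat_lit 1), (nat_lit 4)],
  [(nat_lit 1), (nat_lit 1), (nat_lit 2), (nat_lit 0)],
  [(nat_lit 1), (nat_lit 1), (nat_lit 2), (nat_lit 4)],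
  [(nat_lit 1), (nat_lit 2), (nat_lit 0), (nat_lit 3)],
  [(nat_lit 1), (nat_lit 2), (nat_lit 0), (nat_lit 4)],
  [(nat_lit 1), (nat_lit 2), (nat_lit 3), (nat_lit 4)],
  [(nat_lit 2), (nat_lit 0), (nat_lit 3), (nat_lit 1)],
  [(nat_lit 2), (nat_lit 0), (nat_lit 3), (nat_lit 4)],
  [(nat_lit 2), (nat_lit 3), (nat_lit 1), (nat_lit 4)],
  [(nat_lit 0), (nat_lit 0), (nat_lit 1), (nat_lit 1), (nat_lit 4)],
  [(nat_lit 0), (nat_lit 0), (nat_lit 1), (nat_lit 3), (nat_lit 4)],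
  [(nat_lit 0), (nat_lit 0), (nat_lit 3), (nat_lit 1), (nat_lit 4)],
  [(nat_lit 0), (nat_lit 1), (nat_lit 1), (nat_lit 2), (nat_lit 4)],
  [(nat_lit 0), (nat_lit 1), (nat_lit 2), (nat_lit 3), (nat_lit 4)],
  [(nat_lit 0), (nat_lit 2), (nat_lit 3), (nat_lit 1), (nat_lit 4)],
  [(nat_lit 1), (nat_lit 1), (nat_lit 2), (nat_lit 0), (nat_lit 4)],
  [(nat_lit 1), (nat_lit 2), (nat_lit 0), (nat_lit 3), (nat_lit 4)],
  [(nat_lit 2), (nat_lit 0), (nat_lit 3), (nat_lit 1), (nat_lit 4)]]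
noncomputable def NA_lB_h (c : ℕ) : ℕ := Nat.mod c (nat_lit 547)
theorem NA_lB_E {G : Type*} [Group G] {R : ℕ → G → Prop} {a b c d e u z x y v f k : G} {H : Subgroup G}
    (M : Mdl N9_o NA_cs N9_L R [a, b, c, d, e, u, z, x, y, v, f, k] H) :
    EnumS R NA_lB (sp [z, x, a, c, u]) :=
  enumS_sp M.μ.1 (M.reps.tms M.μ.1 [(.v (nat_lit 6)), (.v (nat_lit 7)), (.v (nat_lit 0)), (.v (nat_lit 2)), (.v (nat_lit 5))] (cs' := [(nat_lit 0xfac642), (nat_lit 0xfa3a88), (nat_lit 0xfac681), (nat_lit 0xfab888), (nat_lit 0xdec688)]) (by decide +kernel))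
    (Ws := NA_lB_W) (by decide +kernel) (by decide +kernel)
theorem NA_lB_c {G : Type*} [Group G] {R : ℕ → G → Prop} {a b c d e u z x y v f k : G} {H : Subgroup G}
    (M : Mdl N9_o NA_cs N9_L R [a, b, c, d, e, u, z, x, y, v, f, k] H) :
    #(sp [z, x, a, c, u]) = 72 :=
  (NA_lB_E M).card M.μ (h := NA_lB_h) (by decide +kernel)
noncomputable def NA_lT : List ℕ := [(nat_lit 0xfac688), (nat_lit 0xfac681), (nat_lit 0xfab888), (nat_lit 0xfab881)]
noncomputable def NA_lT_W : List (List ℕ) := [[],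
  [(nat_lit 0)],
  [(nat_lit 1)],
  [(nat_lit 0), (nat_lit 1)]]
noncomputable def NA_lT_h (c : ℕ) : ℕ := Nat.mod c (nat_lit 5)
theorem NA_lT_E {G : Type*} [Group G] {R : ℕ → G → Prop} {a b c d e u z x y v f k : G} {H : Subgroup G}
    (M : Mdl N9_o NA_cs N9_L R [a, b, c, d, e, u, z, x, y, v, f, k] H) :
    EnumS R NA_lT (sp [a, c]) :=
  enumS_sp M.μ.1 (M.reps.tms M.μ.1 [(.v (nat_lit 0)), (.v (nat_lit 2))] (cs' := [(nat_lit 0xfac681), (nat_lit 0xfab888)]) (by decide +kernel))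
    (Ws := NA_lT_W) (by decide +kernel) (by decide +kernel)
theorem NA_lT_c {G : Type*} [Group G] {R : ℕ → G → Prop} {a b c d e u z x y v f k : G} {H : Subgroup G}
    (M : Mdl N9_o NA_cs N9_L R [a, b, c, d, e, u, z, x, y, v, f, k] H) :
    #(sp [a, c]) = 4 :=
  (NA_lT_E M).card M.μ (h := NA_lT_h) (by decide +kernel)
noncomputable def NA_lV : List ℕ := [(nat_lit 0xfac688), (nat_lit 0xf73888), (nat_lit 0xf1ea88), (nat_lit 0xee5c88)]
noncomputable def NA_lV_W : List (List ℕ) := [[],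
  [(nat_lit 0)],
  [(nat_lit 1)],
  [(nat_lit 0), (nat_lit 1)]]
noncomputable def NA_lV_h (c : ℕ) : ℕ := Nat.mod c (nat_lit 15)
theorem NA_lV_E {G : Type*} [Group G] {R : ℕ → G → Prop} {a b c d e u z x y v f k : G} {H : Subgroup G}
    (M : Mdl N9_o NA_cs N9_L R [a, b, c, d, e, u, z, x, y, v, f, k] H) :
    EnumS R NA_lV (sp [c * e, f]) :=
  enumS_sp M.μ.1 (M.reps.tms M.μ.1 [(.mul (.v (nat_lit 2)) (.v (nat_lit 4))), (.v (nat_lit 10))] (cs' := [(nat_lit 0xf73888), (nat_lit 0xf1ea88)]) (by decide +kernel))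
    (Ws := NA_lV_W) (by decide +kernel) (by decide +kernel)
theorem NA_lV_c {G : Type*} [Group G] {R : ℕ → G → Prop} {a b c d e u z x y v f k : G} {H : Subgroup G}
    (M : Mdl N9_o NA_cs N9_L R [a, b, c, d, e, u, z, x, y, v, f, k] H) :
    #(sp [c * e, f]) = 4 :=
  (NA_lV_E M).card M.μ (h := NA_lV_h) (by decide +kernel)
noncomputable def NA_lT8 : List ℕ := [(nat_lit 0xfac688), (nat_lit 0xfac681), (nat_lit 0xfab888), (nat_lit 0xdec688), (nat_lit 0xfab881), (nat_lit 0xdec681), (nat_lit 0xdeb888), (nat_lit 0xdeb881)]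
noncomputable def NA_lT8_W : List (List ℕ) := [[],
  [(nat_lit 0)],
  [(nat_lit 1)],
  [(nat_lit 2)],
  [(nat_lit 0), (nat_lit 1)],
  [(nat_lit 0), (nat_lit 2)],
  [(nat_lit 1), (nat_lit 2)],
  [(nat_lit 0), (nat_lit 1), (nat_lit 2)]]
noncomputable def NA_lT8_h (c : ℕ) : ℕ := Nat.mod c (nat_lit 10)
theorem NA_lT8_E {G : Type*} [Group G] {R : ℕ → G → Prop} {a b c d e u z x y v f k : G} {H : Subgroup G}
    (M : Mdl N9_o NA_cs N9_L R [a, b, c, d, e, u, z, x, y, v, f, k] H) :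
    EnumS R NA_lT8 (sp [a, c, u]) :=
  enumS_sp M.μ.1 (M.reps.tms M.μ.1 [(.v (nat_lit 0)), (.v (nat_lit 2)), (.v (nat_lit 5))] (cs' := [(nat_lit 0xfac681), (nat_lit 0xfab888), (nat_lit 0xdec688)]) (by decide +kernel))
    (Ws := NA_lT8_W) (by decide +kernel) (by decide +kernel)
theorem NA_lT8_c {G : Type*} [Group G] {R : ℕ → G → Prop} {a b c d e u z x y v f k : G} {H : Subgroup G}
    (M : Mdl N9_o NA_cs N9_L R [a, b, c, d, e, u, z, x, y, v, f, k] H) :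
    #(sp [a, c, u]) = 8 :=
  (NA_lT8_E M).card M.μ (h := NA_lT8_h) (by decide +kernel)
noncomputable def NA_lA : List ℕ := [(nat_lit 0xfac688), (nat_lit 0xfa3a88), (nat_lit 0xf9d888), (nat_lit 0xdeb888), (nat_lit 0x8efc88), (nat_lit 0xddca88), (nat_lit 0x8fea88), (nat_lit 0xde5688), (nat_lit 0x8f5e88), (nat_lit 0x72ee88), (nat_lit 0x767c88), (nat_lit 0xb1fc88), (nat_lit 0x737a88), (nat_lit 0x77e888), (nat_lit 0xb3e688), (nat_lit 0x73dc88), (nat_lit 0x774e88), (nat_lit 0xb33e88), (nat_lit 0xae6e88), (nat_lit 0x95ee88), (nat_lit 0xd7c688), (nat_lit 0xbf4688), (nat_lit 0xaf7888), (nat_lit 0x977688), (nat_lit 0xd63e88), (nat_lit 0xbe3c88), (nat_lit 0xafcc88), (nat_lit 0x97bc88), (nat_lit 0xd5f888), (nat_lit 0xbde888), (nat_lit 0xbbb888), (nat_lit 0xf73888), (nat_lit 0xd3ba88), (nat_lit 0xcfd888), (nat_lit 0x9f3a88), (nat_lit 0x7f5888), (nat_lit 0xb9ce88), (nat_lit 0xf5cc88), (nat_lit 0xd1de88),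 (nat_lit 0xcece88), (nat_lit 0x9ddc88), (nat_lit 0x7ecc88), (nat_lit 0xba7688), (nat_lit 0xf66688), (nat_lit 0xd2f688), (nat_lit 0xce7a88), (nat_lit 0x9ee688), (nat_lit 0x7e6a88), (nat_lit 0x9bd688), (nat_lit 0x7bca88), (nat_lit 0xf35688), (nat_lit 0xef4a88), (nat_lit 0x7a5e88), (nat_lit 0xf1ea88), (nat_lit 0x9abe88), (nat_lit 0xf2bc88), (nat_lit 0xee5c88), (nat_lit 0x7af888), (nat_lit 0x99fa88), (nat_lit 0xeee888)]
noncomputable def NA_lA_W : List (List ℕ) := [[],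
  [(nat_lit 0)],
  [(nat_lit 1)],
  [(nat_lit 2)],
  [(nat_lit 3)],
  [(nat_lit 0), (nat_lit 2)],
  [(nat_lit 0), (nat_lit 3)],
  [(nat_lit 1), (nat_lit 2)],
  [(nat_lit 1), (nat_lit 3)],
  [(nat_lit 2), (nat_lit 3)],
  [(nat_lit 3), (nat_lit 0)],
  [(nat_lit 3), (nat_lit 1)],
  [(nat_lit 0), (nat_lit 2), (nat_lit 3)],
  [(nat_lit 0), (nat_lit 3), (nat_lit 0)],
  [(nat_lit 0), (nat_lit 3), (nat_lit 1)],
  [(nat_lit 1), (nat_lit 2), (nat_lit 3)],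
  [(nat_lit 1), (nat_lit 3), (nat_lit 0)],
  [(nat_lit 1), (nat_lit 3), (nat_lit 1)],
  [(nat_lit 2), (nat_lit 3), (nat_lit 0)],
  [(nat_lit 2), (nat_lit 3), (nat_lit 1)],
  [(nat_lit 3), (nat_lit 0), (nat_lit 3)],
  [(nat_lit 3), (nat_lit 1), (nat_lit 3)],
  [(nat_lit 0), (nat_lit 2), (nat_lit 3), (nat_lit 0)],
  [(nat_lit 0), (nat_lit 2), (nat_lit 3), (nat_lit 1)],
  [(nat_lit 0), (nat_lit 3), (nat_lit 0), (nat_lit 3)],
  [(nat_lit 0), (nat_lit 3), (nat_lit 1), (nat_lit 3)],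
  [(nat_lit 1), (nat_lit 2), (nat_lit 3), (nat_lit 0)],
  [(nat_lit 1), (nat_lit 2), (nat_lit 3), (nat_lit 1)],
  [(nat_lit 1), (nat_lit 3), (nat_lit 0), (nat_lit 3)],
  [(nat_lit 1), (nat_lit 3), (nat_lit 1), (nat_lit 3)],
  [(nat_lit 2), (nat_lit 3), (nat_lit 0), (nat_lit 3)],
  [(nat_lit 2), (nat_lit 3), (nat_lit 1), (nat_lit 3)],
  [(nat_lit 3), (nat_lit 0), (nat_lit 3), (nat_lit 0)],
  [(nat_lit 3), (nat_lit 0), (nat_lit 3), (nat_lit 1)],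
  [(nat_lit 3), (nat_lit 1), (nat_lit 3), (nat_lit 0)],
  [(nat_lit 3), (nat_lit 1), (nat_lit 3), (nat_lit 1)],
  [(nat_lit 0), (nat_lit 2), (nat_lit 3), (nat_lit 0), (nat_lit 3)],
  [(nat_lit 0), (nat_lit 2), (nat_lit 3), (nat_lit 1), (nat_lit 3)],
  [(nat_lit 0), (nat_lit 3), (nat_lit 0), (nat_lit 3), (nat_lit 0)],
  [(nat_lit 0), (nat_lit 3), (nat_lit 0), (nat_lit 3), (nat_lit 1)],
  [(nat_lit 0), (nat_lit 3), (nat_lit 1), (nat_lit 3), (nat_lit 0)],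
  [(nat_lit 0), (nat_lit 3), (nat_lit 1), (nat_lit 3), (nat_lit 1)],
  [(nat_lit 1), (nat_lit 2), (nat_lit 3), (nat_lit 0), (nat_lit 3)],
  [(nat_lit 1), (nat_lit 2), (nat_lit 3), (nat_lit 1), (nat_lit 3)],
  [(nat_lit 1), (nat_lit 3), (nat_lit 0), (nat_lit 3), (nat_lit 0)],
  [(nat_lit 1), (nat_lit 3), (nat_lit 0), (nat_lit 3), (nat_lit 1)],
  [(nat_lit 1), (nat_lit 3), (nat_lit 1), (nat_lit 3), (nat_lit 0)],
  [(nat_lit 1), (nat_lit 3), (nat_lit 1), (nat_lit 3), (nat_lit 1)],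
  [(nat_lit 2), (nat_lit 3), (nat_lit 0), (nat_lit 3), (nat_lit 0)],
  [(nat_lit 2), (nat_lit 3), (nat_lit 0), (nat_lit 3), (nat_lit 1)],
  [(nat_lit 2), (nat_lit 3), (nat_lit 1), (nat_lit 3), (nat_lit 0)],
  [(nat_lit 2), (nat_lit 3), (nat_lit 1), (nat_lit 3), (nat_lit 1)],
  [(nat_lit 3), (nat_lit 0), (nat_lit 3), (nat_lit 1), (nat_lit 3)],
  [(nat_lit 3), (nat_lit 1), (nat_lit 3), (nat_lit 0), (nat_lit 3)],
  [(nat_lit 0), (nat_lit 2), (nat_lit 3), (nat_lit 0), (nat_lit 3), (nat_lit 0)],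
  [(nat_lit 0), (nat_lit 2), (nat_lit 3), (nat_lit 1), (nat_lit 3), (nat_lit 0)],
  [(nat_lit 0), (nat_lit 2), (nat_lit 3), (nat_lit 1), (nat_lit 3), (nat_lit 1)],
  [(nat_lit 0), (nat_lit 3), (nat_lit 0), (nat_lit 3), (nat_lit 1), (nat_lit 3)],
  [(nat_lit 1), (nat_lit 2), (nat_lit 3), (nat_lit 0), (nat_lit 3), (nat_lit 0)],
  [(nat_lit 1), (nat_lit 2), (nat_lit 3), (nat_lit 1), (nat_lit 3), (nat_lit 1)]]
noncomputable def NA_lA_h (c : ℕ) : ℕ := Nat.mod c (nat_lit 165)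
theorem NA_lA_E {G : Type*} [Group G] {R : ℕ → G → Prop} {a b c d e u z x y v f k : G} {H : Subgroup G}
    (M : Mdl N9_o NA_cs N9_L R [a, b, c, d, e, u, z, x, y, v, f, k] H) :
    EnumS R NA_lA (sp [x, x⁻¹, c * u, v]) :=
  enumS_sp M.μ.1 (M.reps.tms M.μ.1 [(.v (nat_lit 7)), (.inv (.v (nat_lit 7))), (.mul (.v (nat_lit 2)) (.v (nat_lit 5))), (.v (nat_lit 9))] (cs' := [(nat_lit 0xfa3a88), (nat_lit 0xf9d888), (nat_lit 0xdeb888), (nat_lit 0x8efc88)]) (by decide +kernel))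
    (Ws := NA_lA_W) (by decide +kernel) (by decide +kernel)
theorem NA_lA_c {G : Type*} [Group G] {R : ℕ → G → Prop} {a b c d e u z x y v f k : G} {H : Subgroup G}
    (M : Mdl N9_o NA_cs N9_L R [a, b, c, d, e, u, z, x, y, v, f, k] H) :
    #(sp [x, x⁻¹, c * u, v]) = 60 :=
  (NA_lA_E M).card M.μ (h := NA_lA_h) (by decide +kernel)
noncomputable def NA_lZ : List ℕ := [(nat_lit 0xfac688), (nat_lit 0xfac642), (nat_lit 0xfac681), (nat_lit 0xfac611), (nat_lit 0xfac60a), (nat_lit 0xfac650)]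
noncomputable def NA_lZ_W : List (List ℕ) := [[],
  [(nat_lit 0)],
  [(nat_lit 1)],
  [(nat_lit 0), (nat_lit 0)],
  [(nat_lit 0), (nat_lit 1)],
  [(nat_lit 1), (nat_lit 0)]]
noncomputable def NA_lZ_h (c : ℕ) : ℕ := Nat.mod c (nat_lit 11)
theorem NA_lZ_E {G : Type*} [Group G] {R : ℕ → G → Prop} {a b c d e u z x y v f k : G} {H : Subgroup G}
    (M : Mdl N9_o NA_cs N9_L R [a, b, c, d, e, u, z, x, y, v, f, k] H) :
    EnumS R NA_lZ (sp [z, a]) :=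
  enumS_sp M.μ.1 (M.reps.tms M.μ.1 [(.v (nat_lit 6)), (.v (nat_lit 0))] (cs' := [(nat_lit 0xfac642), (nat_lit 0xfac681)]) (by decide +kernel))
    (Ws := NA_lZ_W) (by decide +kernel) (by decide +kernel)
theorem NA_lZ_c {G : Type*} [Group G] {R : ℕ → G → Prop} {a b c d e u z x y v f k : G} {H : Subgroup G}
    (M : Mdl N9_o NA_cs N9_L R [a, b, c, d, e, u, z, x, y, v, f, k] H) :
    #(sp [z, a]) = 6 :=
  (NA_lZ_E M).card M.μ (h := NA_lZ_h) (by decide +kernel)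
noncomputable def NA_lB0 : List ℕ := [(nat_lit 0xfac688), (nat_lit 0xfac642), (nat_lit 0xfa3a88), (nat_lit 0xfac681), (nat_lit 0xdeb888), (nat_lit 0xfac611), (nat_lit 0xfa3a42), (nat_lit 0xfac60a), (nat_lit 0xdeb842), (nat_lit 0xf9d888), (nat_lit 0xfa3a81), (nat_lit 0xddca88), (nat_lit 0xfac650), (nat_lit 0xdeb881), (nat_lit 0xde5688), (nat_lit 0xfa3a11), (nat_lit 0xdeb811), (nat_lit 0xf9d842), (nat_lit 0xfa3a0a), (nat_lit 0xddca42), (nat_lit 0xdeb80a), (nat_lit 0xde5642), (nat_lit 0xf9d881), (nat_lit 0xfa3a50), (nat_lit 0xddca81), (nat_lit 0xdeb850), (nat_lit 0xde5681), (nat_lit 0xf9d811), (nat_lit 0xddca11), (nat_lit 0xde5611), (nat_lit 0xf9d80a), (nat_lit 0xddca0a), (nat_lit 0xde560a), (nat_lit 0xf9d850), (nat_lit 0xddca50), (nat_lit 0xde5650)]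
noncomputable def NA_lB0_W : List (List ℕ) := [[],
  [(nat_lit 0)],
  [(nat_lit 1)],
  [(nat_lit 2)],
  [(nat_lit 3)],
  [(nat_lit 0), (nat_lit 0)],
  [(nat_lit 0), (nat_lit 1)],
  [(nat_lit 0), (nat_lit 2)],
  [(nat_lit 0), (nat_lit 3)],
  [(nat_lit 1), (nat_lit 1)],
  [(nat_lit 1), (nat_lit 2)],
  [(nat_lit 1), (nat_lit 3)],
  [(nat_lit 2), (nat_lit 0)],
  [(nat_lit 2), (nat_lit 3)],
  [(nat_lit 3), (nat_lit 1)],
  [(nat_lit 0), (nat_lit 0), (nat_lit 1)],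
  [(nat_lit 0), (nat_lit 0), (nat_lit 3)],
  [(nat_lit 0), (nat_lit 1), (nat_lit 1)],
  [(nat_lit 0), (nat_lit 1), (nat_lit 2)],
  [(nat_lit 0), (nat_lit 1), (nat_lit 3)],
  [(nat_lit 0), (nat_lit 2), (nat_lit 3)],
  [(nat_lit 0), (nat_lit 3), (nat_lit 1)],
  [(nat_lit 1), (nat_lit 1), (nat_lit 2)],
  [(nat_lit 1), (nat_lit 2), (nat_lit 0)],
  [(nat_lit 1), (nat_lit 2), (nat_lit 3)],
  [(nat_lit 2), (nat_lit 0), (nat_lit 3)],
  [(nat_lit 2), (nat_lit 3), (nat_lit 1)],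
  [(nat_lit 0), (nat_lit 0), (nat_lit 1), (nat_lit 1)],
  [(nat_lit 0), (nat_lit 0), (nat_lit 1), (nat_lit 3)],
  [(nat_lit 0), (nat_lit 0), (nat_lit 3), (nat_lit 1)],
  [(nat_lit 0), (nat_lit 1), (nat_lit 1), (nat_lit 2)],
  [(nat_lit 0), (nat_lit 1), (nat_lit 2), (nat_lit 3)],
  [(nat_lit 0), (nat_lit 2), (nat_lit 3), (nat_lit 1)],
  [(nat_lit 1), (nat_lit 1), (nat_lit 2), (nat_lit 0)],
  [(nat_lit 1), (nat_lit 2), (nat_lit 0), (nat_lit 3)],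
  [(nat_lit 2), (nat_lit 0), (nat_lit 3), (nat_lit 1)]]
noncomputable def NA_lB0_h (c : ℕ) : ℕ := Nat.mod c (nat_lit 103)
theorem NA_lB0_E {G : Type*} [Group G] {R : ℕ → G → Prop} {a b c d e u z x y v f k : G} {H : Subgroup G}
    (M : Mdl N9_o NA_cs N9_L R [a, b, c, d, e, u, z, x, y, v, f, k] H) :
    EnumS R NA_lB0 (sp [z, x, a, c * u]) :=
  enumS_sp M.μ.1 (M.reps.tms M.μ.1 [(.v (nat_lit 6)), (.v (nat_lit 7)), (.v (nat_lit 0)), (.mul (.v (nat_lit 2)) (.v (nat_lit 5)))] (cs' := [(nat_lit 0xfac642), (nat_lit 0xfa3a88), (nat_lit 0xfac681), (nat_lit 0xdeb888)]) (by decide +kernel))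
    (Ws := NA_lB0_W) (by decide +kernel) (by decide +kernel)
theorem NA_lB0_c {G : Type*} [Group G] {R : ℕ → G → Prop} {a b c d e u z x y v f k : G} {H : Subgroup G}
    (M : Mdl N9_o NA_cs N9_L R [a, b, c, d, e, u, z, x, y, v, f, k] H) :
    #(sp [z, x, a, c * u]) = 36 :=
  (NA_lB0_E M).card M.μ (h := NA_lB0_h) (by decide +kernel)
noncomputable def NA_lY : List ℕ := [(nat_lit 0xfac688), (nat_lit 0xfa3a42), (nat_lit 0xf9d811)]
noncomputable def NA_lY_W : List (List ℕ) := [[],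
  [(nat_lit 0)],
  [(nat_lit 0), (nat_lit 0)]]
noncomputable def NA_lY_h (c : ℕ) : ℕ := Nat.mod c (nat_lit 4)
theorem NA_lY_E {G : Type*} [Group G] {R : ℕ → G → Prop} {a b c d e u z x y v f k : G} {H : Subgroup G}
    (M : Mdl N9_o NA_cs N9_L R [a, b, c, d, e, u, z, x, y, v, f, k] H) :
    EnumS R NA_lY (sp [y]) :=
  enumS_sp M.μ.1 (M.reps.tms M.μ.1 [(.v (nat_lit 8))] (cs' := [(nat_lit 0xfa3a42)]) (by decide +kernel))
    (Ws := NA_lY_W) (by decide +kernel) (by decide +kernel)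
theorem NA_lY_c {G : Type*} [Group G] {R : ℕ → G → Prop} {a b c d e u z x y v f k : G} {H : Subgroup G}
    (M : Mdl N9_o NA_cs N9_L R [a, b, c, d, e, u, z, x, y, v, f, k] H) :
    #(sp [y]) = 3 :=
  (NA_lY_E M).card M.μ (h := NA_lY_h) (by decide +kernel)
noncomputable def NA_lS : List ℕ := [(nat_lit 0xfac688), (nat_lit 0xfa3a88), (nat_lit 0xdeb888), (nat_lit 0xf9d888), (nat_lit 0xddca88), (nat_lit 0xde5688)]
noncomputable def NA_lS_W : List (List ℕ) := [[],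
  [(nat_lit 0)],
  [(nat_lit 1)],
  [(nat_lit 0), (nat_lit 0)],
  [(nat_lit 0), (nat_lit 1)],
  [(nat_lit 1), (nat_lit 0)]]
noncomputable def NA_lS_h (c : ℕ) : ℕ := Nat.mod c (nat_lit 11)
theorem NA_lS_E {G : Type*} [Group G] {R : ℕ → G → Prop} {a b c d e u z x y v f k : G} {H : Subgroup G}
    (M : Mdl N9_o NA_cs N9_L R [a, b, c, d, e, u, z, x, y, v, f, k] H) :
    EnumS R NA_lS (sp [x, c * u]) :=
  enumS_sp M.μ.1 (M.reps.tms M.μ.1 [(.v (nat_lit 7)), (.mul (.v (nat_lit 2)) (.v (nat_lit 5)))] (cs' := [(nat_lit 0xfa3a88), (nat_lit 0xdeb888)]) (by decide +kernel))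
    (Ws := NA_lS_W) (by decide +kernel) (by decide +kernel)
theorem NA_lS_c {G : Type*} [Group G] {R : ℕ → G → Prop} {a b c d e u z x y v f k : G} {H : Subgroup G}
    (M : Mdl N9_o NA_cs N9_L R [a, b, c, d, e, u, z, x, y, v, f, k] H) :
    #(sp [x, c * u]) = 6 :=
  (NA_lS_E M).card M.μ (h := NA_lS_h) (by decide +kernel)
noncomputable def NA_df_F : Fm := (.qf (.and (.eq (.v (nat_lit 6)) (.mul (.v (nat_lit 1)) (.v (nat_lit 0)))) (.and (.eq (.v (nat_lit 7)) (.mul (.v (nat_lit 3)) (.v (nat_lit 2)))) (.and (.eq (.v (nat_lit 8)) (.mul (.v (nat_lit 6)) (.v (nat_lit 7)))) (.and (.eq (.v (nat_lit 9)) (.mul (.mul (.mul (.mul (.mul (.mul (.mul (.v (nat_lit 3)) (.v (nat_lit 4))) (.v (nat_lit 5))) (.v (nat_lit 2))) (.v (nat_lit 3))) (.v (nat_lit 4))) (.v (nat_lit 2))) (.v (nat_lit 3)))) (.and (.eq (.v (nat_lit 1)) (.mul (.v (nat_lit 6)) (.v (nat_lit 0)))) (.eq (.v (nat_lit 3)) (.mul (.v (nat_lit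 7)) (.v (nat_lit 2))))))))))
theorem NA_df_chk : Fm.chk N9_o NA_df_F NA_cs = true := by decide +kernel
theorem NA_df {G : Type*} [Group G] {R : ℕ → G → Prop} {a b c d e u z x y v f k : G} {H : Subgroup G}
    (M : Mdl N9_o NA_cs N9_L R [a, b, c, d, e, u, z, x, y, v, f, k] H) :
    z = b * a ∧ x = d * c ∧ y = z * x ∧ v = d * e * u * c * d * e * c * d ∧ b = z * a ∧ d = x * c :=
  Fm.sound M.μ NA_df_F NA_df_chk M.reps
noncomputable def NA_e_F : Fm := (.qf (.and (.eq (.pw (.v (nat_lit 6)) (nat_lit 3)) .one) (.and (.not (.eq (.v (nat_lit 6)) .one)) (.and (.eq (.pw (.v (nat_lit 7)) (nat_lit 3)) .one) (.and (.not (.eq (.v (nat_lit 7)) .one)) (.and (.eq (.mul (.v (nat_lit 6)) (.v (nat_lit 7))) (.mul (.v (nat_lit 7)) (.v (nat_lit 6)))) (.and (.eq (.pw (.v (nat_lit 8)) (nat_lit 3)) .one) (.and (.not (.eq (.v (nat_lit 8)) .one)) (.and (.eq (.mul (.mul (.v (nat_lit 0)) (.v (nat_lit 6))) (.inv (.v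 (nat_lit 0)))) (.inv (.v (nat_lit 6)))) (.and (.eq (.mul (.v (nat_lit 0)) (.v (nat_lit 7))) (.mul (.v (nat_lit 7)) (.v (nat_lit 0)))) (.and (.eq (.mul (.mul (.v (nat_lit 2)) (.v (nat_lit 7))) (.inv (.v (nat_lit 2)))) (.inv (.v (nat_lit 7)))) (.and (.eq (.mul (.v (nat_lit 2)) (.v (nat_lit 6))) (.mul (.v (nat_lit 6)) (.v (nat_lit 2)))) (.and (.eq (.mul (.v (nat_lit 5)) (.v (nat_lit 6))) (.mul (.v (nat_lit 6)) (.v (nat_lit 5)))) (.and (.eq (.mul (.v (nat_lit 5)) (.v (nat_lit 7))) (.mul (.v (nat_lit 7)) (.v (nat_lit 5)))) (.and (.not (.eq (.v (nat_lit 5)) .one)) (.and (.not (.eq (.v (nat_lit 7)) (.v (nat_lit 6)))) (.not (.eq (.v (nat_lit 7)) (.inv (.v (nat_lit 6)))))))))))))))))))))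
theorem NA_e_chk : Fm.chk N9_o NA_e_F NA_cs = true := by decide +kernel
theorem NA_e {G : Type*} [Group G] {R : ℕ → G → Prop} {a b c d e u z x y v f k : G} {H : Subgroup G}
    (M : Mdl N9_o NA_cs N9_L R [a, b, c, d, e, u, z, x, y, v, f, k] H) :
    z ^ 3 = 1 ∧ z ≠ 1 ∧ x ^ 3 = 1 ∧ x ≠ 1 ∧ z * x = x * z ∧ y ^ 3 = 1 ∧ y ≠ 1 ∧ a * z * a⁻¹ = z⁻¹ ∧ a * x = x * a ∧ c * x * c⁻¹ = x⁻¹ ∧ c * z = z * c ∧ u * z = z * u ∧ u * x = x * u ∧ u ≠ 1 ∧ x ≠ z ∧ x ≠ z⁻¹ :=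
  Fm.sound M.μ NA_e_F NA_e_chk M.reps
noncomputable def NA_v_F : Fm := (.qf (.and (.eq (.mul (.v (nat_lit 9)) (.v (nat_lit 9))) .one) (.and (.eq (.mul (.mul (.v (nat_lit 9)) (.v (nat_lit 5))) (.inv (.v (nat_lit 9)))) (.v (nat_lit 2))) (.and (.eq (.mul (.mul (.v (nat_lit 9)) (.v (nat_lit 2))) (.inv (.v (nat_lit 9)))) (.v (nat_lit 5))) (.and (.eq (.mul (.v (nat_lit 9)) (.v (nat_lit 0))) (.mul (.v (nat_lit 0)) (.v (nat_lit 9)))) (.and (.eq (.mul (.v (nat_lit 9)) (.v (nat_lit 1))) (.mul (.v (nat_lit 1)) (.v (nat_lit 9)))) (.and (.not (.eq (.mul (.v (nat_lit 2)) (.v (nat_lit 5))) .one)) (.and (.eq (.mul (.mul (.v (nat_lit 2)) (.v (nat_lit 5))) (.v (nat_lit 6))) (.mul (.v (nat_lit 6)) (.mul (.v (nat_lit 2)) (.v (nat_lit 5))))) (.and (.not (.eq (.mul (.v (nat_lit 2)) (.v (nat_lit 4))) .one)) (.and (.eq (.mul (.v (nat_lit 11)) (.v (nat_lit 0))) (.mul (.v (nat_lit 0)) (.v (nat_lit 11)))) (.and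 (.eq (.mul (.v (nat_lit 11)) (.v (nat_lit 1))) (.mul (.v (nat_lit 1)) (.v (nat_lit 11)))) (.and (.eq (.mul (.mul (.v (nat_lit 11)) (.mul (.v (nat_lit 2)) (.v (nat_lit 5)))) (.inv (.v (nat_lit 11)))) (.mul (.v (nat_lit 2)) (.v (nat_lit 4)))) (.and (.eq (.mul (.mul (.v (nat_lit 11)) (.v (nat_lit 9))) (.inv (.v (nat_lit 11)))) (.v (nat_lit 10))) (.and (.eq (.mul (.v (nat_lit 0)) (.mul (.v (nat_lit 2)) (.v (nat_lit 4)))) (.mul (.mul (.v (nat_lit 2)) (.v (nat_lit 4))) (.v (nat_lit 0)))) (.and (.eq (.mul (.v (nat_lit 0)) (.v (nat_lit 10))) (.mul (.v (nat_lit 10)) (.v (nat_lit 0)))) (.and (.eq (.mul (.v (nat_lit 6)) (.mul (.v (nat_lit 2)) (.v (nat_lit 4)))) (.mul (.mul (.v (nat_lit 2)) (.v (nat_lit 4))) (.v (nat_lit 6)))) (.and (.eq (.mul (.v (nat_lit 6)) (.v (nat_lit 10))) (.mul (.v (nat_lit 10)) (.v (nat_lit 6)))) (.and (.mem (.mul (.mul (.v (nat_lit 7)) (.mul (.v (nat_lit 2)) (.v (nat_lit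 4)))) (.inv (.v (nat_lit 7)))) NA_lV) (.and (.mem (.mul (.mul (.v (nat_lit 7)) (.v (nat_lit 10))) (.inv (.v (nat_lit 7)))) NA_lV) (.not (.mem (.v (nat_lit 5)) NA_lD)))))))))))))))))))))
theorem NA_v_chk : Fm.chk N9_o NA_v_F NA_cs = true := by decide +kernel
theorem NA_v {G : Type*} [Group G] {R : ℕ → G → Prop} {a b c d e u z x y v f k : G} {H : Subgroup G}
    (M : Mdl N9_o NA_cs N9_L R [a, b, c, d, e, u, z, x, y, v, f, k] H) :
    v * v = 1 ∧ v * u * v⁻¹ = c ∧ v * c * v⁻¹ = u ∧ v * a = a * v ∧ v * b = b * v ∧ c * u ≠ 1 ∧ c * u * z = z * (c * u) ∧ c * e ≠ 1 ∧ k * a = a * k ∧ k * b = b * k ∧ k * (c * u) * k⁻¹ = c * e ∧ k * v * k⁻¹ = f ∧ a * (c * e) = c * e * a ∧ a * f = f * a ∧ z * (c * e) = c * e * z ∧ z * f = f * z ∧ x * (c * e) * x⁻¹ ∈ sp [c * e, f] ∧ x * f * x⁻¹ ∈ sp [c * e, f] ∧ u ∉ sp [z, x] :=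
  have h : v * v = 1 ∧ v * u * v⁻¹ = c ∧ v * c * v⁻¹ = u ∧ v * a = a * v ∧ v * b = b * v ∧ c * u ≠ 1 ∧ c * u * z = z * (c * u) ∧ c * e ≠ 1 ∧ k * a = a * k ∧ k * b = b * k ∧ k * (c * u) * k⁻¹ = c * e ∧ k * v * k⁻¹ = f ∧ a * (c * e) = c * e * a ∧ a * f = f * a ∧ z * (c * e) = c * e * z ∧ z * f = f * z ∧ InS R NA_lV (x * (c * e) * x⁻¹) ∧ InS R NA_lV (x * f * x⁻¹) ∧ ¬ InS R NA_lD (u) :=
    Fm.sound M.μ NA_v_F NA_v_chk M.reps
  ((and_congr Iff.rfl (and_congr Iff.rfl (and_congr Iff.rfl (and_congr Iff.rfl (and_congr Iff.rfl (and_congr Iff.rfl (and_congr Iff.rfl (and_congr Iff.rfl (and_congr Iff.rfl (and_congr Iff.rfl (and_congr Iff.rfl (and_congr Iff.rfl (and_congr Iff.rfl (and_congr Iff.rfl (and_congr Iff.rfl (and_congr Iff.rfl (and_congr (NA_lV_E M).iff (and_congr (NA_lV_E M).iff (not_congr (NA_lD_E M).iff))))))))))))))))))).1 h)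
noncomputable def NA_nz_F : Fm := (.all N9_L (.qf (.or (.eq (.mul (.mul (.v (nat_lit 0)) (.v (nat_lit 7))) (.inv (.v (nat_lit 0)))) (.v (nat_lit 7))) (.eq (.mul (.mul (.v (nat_lit 0)) (.v (nat_lit 7))) (.inv (.v (nat_lit 0)))) (.inv (.v (nat_lit 7)))))))
theorem NA_nz_chk : Fm.chk N9_o NA_nz_F NA_cs = true := by decide +kernel
theorem NA_nz {G : Type*} [Group G] {R : ℕ → G → Prop} {a b c d e u z x y v f k : G} {H : Subgroup G}
    (M : Mdl N9_o NA_cs N9_L R [a, b, c, d, e, u, z, x, y, v, f, k] H) :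
    ∀ m ∈ H, m * z * m⁻¹ = z ∨ m * z * m⁻¹ = z⁻¹ :=
  have h : ∀ m, InL N9_o R N9_L m → m * z * m⁻¹ = z ∨ m * z * m⁻¹ = z⁻¹ :=
    Fm.sound M.μ NA_nz_F NA_nz_chk M.reps
  (fun m h0 => (h m (M.H.iff.2 h0)))
noncomputable def NA_D_F : Fm := (.allS NA_lD (.or (.qf (.eq (.v (nat_lit 0)) .one)) (.or (.qf (.eq (.v (nat_lit 0)) (.v (nat_lit 7)))) (.or (.qf (.eq (.v (nat_lit 0)) (.inv (.v (nat_lit 7))))) (.or (.qf (.eq (.v (nat_lit 0)) (.v (nat_lit 8)))) (.or (.qf (.eq (.v (nat_lit 0)) (.inv (.v (nat_lit 8))))) (.exS NA_lT (.qf (.and (.eq (.mul (.mul (.v (nat_lit 0)) (.v (nat_lit 1))) (.inv (.v (nat_lit 0)))) (.v (nat_lit 10))) (.and (.eq (.mul (.v (nat_lit 0)) (.v (nat_lit 7))) (.mul (.v (nat_lit 7)) (.v (nat_lit 0)))) (.and (.mem (.mul (.mul (.inv (.v (nat_lit 0))) (.v (nat_lit 8))) (.v (nat_lit 0))) NA_lD) (.mem (.mul (.mul (.inv (.v (nat_lit 0))) (.v (nat_lit 9))) (.v (nat_lit 0))) NA_lD))))))))))))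
theorem NA_D_chk : Fm.chk N9_o NA_D_F NA_cs = true := by decide +kernel
theorem NA_D {G : Type*} [Group G] {R : ℕ → G → Prop} {a b c d e u z x y v f k : G} {H : Subgroup G}
    (M : Mdl N9_o NA_cs N9_L R [a, b, c, d, e, u, z, x, y, v, f, k] H) :
    ∀ t ∈ sp [z, x], t = 1 ∨ t = z ∨ t = z⁻¹ ∨ t = x ∨ t = x⁻¹ ∨ (∃ m ∈ sp [a, c], m * t * m⁻¹ = y ∧ m * u = u * m ∧ m⁻¹ * z * m ∈ sp [z, x] ∧ m⁻¹ * x * m ∈ sp [z, x]) :=
  have h : ∀ t, InS R NA_lD t → t = 1 ∨ t = z ∨ t = z⁻¹ ∨ t = x ∨ t = x⁻¹ ∨ (GoodS R NA_lT → ∃ m, InS R NA_lT m ∧ m * t * m⁻¹ = y ∧ m * u = u * m ∧ InS R NA_lD (m⁻¹ * z * m) ∧ InS R NA_lD (m⁻¹ * x * m)) :=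
    Fm.sound M.μ NA_D_F NA_D_chk M.reps
  (fun t h0 => (Or.imp (fun h1 => h1) (fun h1 => (Or.imp (fun h2 => h2) (fun h2 => (Or.imp (fun h3 => h3) (fun h3 => (Or.imp (fun h4 => h4) (fun h4 => (Or.imp (fun h5 => h5) (fun h5 => (Exists.imp (fun m h6 => ⟨(NA_lT_E M).iff.1 h6.1, ((and_congr Iff.rfl (and_congr Iff.rfl (and_congr (NA_lD_E M).iff (NA_lD_E M).iff))).1 h6.2)⟩) (h5 (NA_lT_E M).good))) h4)) h3)) h2)) h1)) (h t ((NA_lD_E M).iff.2 h0))))
noncomputable def NA_D3_F : Fm := (.allS NA_lD (.qf (.and (.eq (.pw (.v (nat_lit 0)) (nat_lit 3)) .one) (.and (.eq (.mul (.v (nat_lit 0)) (.v (nat_lit 7))) (.mul (.v (nat_lit 7)) (.v (nat_lit 0)))) (.and (.eq (.mul (.v (nat_lit 0)) (.v (nat_lit 8))) (.mul (.v (nat_lit 8)) (.v (nat_lit 0)))) (.eq (.mul (.v (nat_lit 0)) (.v (nat_lit 6))) (.mul (.v (nat_lit 6)) (.v (nat_lit 0)))))))))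
theorem NA_D3_chk : Fm.chk N9_o NA_D3_F NA_cs = true := by decide +kernel
theorem NA_D3 {G : Type*} [Group G] {R : ℕ → G → Prop} {a b c d e u z x y v f k : G} {H : Subgroup G}
    (M : Mdl N9_o NA_cs N9_L R [a, b, c, d, e, u, z, x, y, v, f, k] H) :
    ∀ t ∈ sp [z, x], t ^ 3 = 1 ∧ t * z = z * t ∧ t * x = x * t ∧ t * u = u * t :=
  have h : ∀ t, InS R NA_lD t → t ^ 3 = 1 ∧ t * z = z * t ∧ t * x = x * t ∧ t * u = u * t :=
    Fm.sound M.μ NA_D3_F NA_D3_chk M.reps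
  (fun t h0 => (h t ((NA_lD_E M).iff.2 h0)))
noncomputable def NA_B_F : Fm := (.all N9_L (.imp (.mem (.mul (.mul (.v (nat_lit 0)) (.v (nat_lit 8))) (.inv (.v (nat_lit 0)))) NA_lD) (.qf (.mem (.v (nat_lit 0)) NA_lB))))
theorem NA_B_chk : Fm.chk N9_o NA_B_F NA_cs = true := by decide +kernel
theorem NA_B {G : Type*} [Group G] {R : ℕ → G → Prop} {a b c d e u z x y v f k : G} {H : Subgroup G}
    (M : Mdl N9_o NA_cs N9_L R [a, b, c, d, e, u, z, x, y, v, f, k] H) :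
    ∀ g ∈ H, g * x * g⁻¹ ∈ sp [z, x] → g ∈ sp [z, x, a, c, u] :=
  have h : ∀ g, InL N9_o R N9_L g → InS R NA_lD (g * x * g⁻¹) → InS R NA_lB (g) :=
    Fm.sound M.μ NA_B_F NA_B_chk M.reps
  (fun g h0 => (fun h1 => ((NA_lB_E M).iff.1 ((h g (M.H.iff.2 h0)) ((NA_lD_E M).iff.2 h1)))))
noncomputable def NA_B2_F : Fm := (.allS NA_lB (.qf (.and (.mem (.mul (.mul (.v (nat_lit 0)) (.v (nat_lit 7))) (.inv (.v (nat_lit 0)))) NA_lD) (.and (.mem (.mul (.mul (.v (nat_lit 0)) (.v (nat_lit 8))) (.inv (.v (nat_lit 0)))) NA_lD) (.and (.eq (.mul (.v (nat_lit 0)) (.v (nat_lit 6))) (.mul (.v (nat_lit 6)) (.v (nat_lit 0)))) (.or (.eq (.mul (.mul (.v (nat_lit 0)) (.v (nat_lit 8))) (.inv (.v (nat_lit 0)))) (.v (nat_lit 8))) (.eq (.mul (.mul (.v (nat_lit 0)) (.v (nat_lit 8))) (.inv (.v (nat_lit 0)))) (.inv (.v (nat_lit 8))))))))))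
theorem NA_B2_chk : Fm.chk N9_o NA_B2_F NA_cs = true := by decide +kernel
theorem NA_B2 {G : Type*} [Group G] {R : ℕ → G → Prop} {a b c d e u z x y v f k : G} {H : Subgroup G}
    (M : Mdl N9_o NA_cs N9_L R [a, b, c, d, e, u, z, x, y, v, f, k] H) :
    ∀ g ∈ sp [z, x, a, c, u], g * z * g⁻¹ ∈ sp [z, x] ∧ g * x * g⁻¹ ∈ sp [z, x] ∧ g * u = u * g ∧ (g * x * g⁻¹ = x ∨ g * x * g⁻¹ = x⁻¹) :=
  have h : ∀ g, InS R NA_lB g → InS R NA_lD (g * z * g⁻¹) ∧ InS R NA_lD (g * x * g⁻¹) ∧ g * u = u * g ∧ (g * x * g⁻¹ = x ∨ g * x * g⁻¹ = x⁻¹) :=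
    Fm.sound M.μ NA_B2_F NA_B2_chk M.reps
  (fun g h0 => ((and_congr (NA_lD_E M).iff (and_congr (NA_lD_E M).iff Iff.rfl)).1 (h g ((NA_lB_E M).iff.2 h0))))
noncomputable def NA_cD_F : Fm := (.all N9_L (.imp (.eq (.mul (.v (nat_lit 0)) (.v (nat_lit 7))) (.mul (.v (nat_lit 7)) (.v (nat_lit 0)))) (.imp (.eq (.mul (.v (nat_lit 0)) (.v (nat_lit 8))) (.mul (.v (nat_lit 8)) (.v (nat_lit 0)))) (.qf (.or (.mem (.v (nat_lit 0)) NA_lD) (.mem (.mul (.v (nat_lit 0)) (.v (nat_lit 6))) NA_lD))))))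
theorem NA_cD_chk : Fm.chk N9_o NA_cD_F NA_cs = true := by decide +kernel
theorem NA_cD {G : Type*} [Group G] {R : ℕ → G → Prop} {a b c d e u z x y v f k : G} {H : Subgroup G}
    (M : Mdl N9_o NA_cs N9_L R [a, b, c, d, e, u, z, x, y, v, f, k] H) :
    ∀ g ∈ H, g * z = z * g → g * x = x * g → g ∈ sp [z, x] ∨ g * u ∈ sp [z, x] :=
  have h : ∀ g, InL N9_o R N9_L g → g * z = z * g → g * x = x * g → InS R NA_lD (g) ∨ InS R NA_lD (g * u) :=
    Fm.sound M.μ NA_cD_F NA_cD_chk M.reps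
  (fun g h0 => (fun h1 => (fun h2 => ((or_congr (NA_lD_E M).iff (NA_lD_E M).iff).1 (((h g (M.H.iff.2 h0)) h1) h2)))))
noncomputable def NA_cy_F : Fm := (.all N9_L (.imp (.eq (.mul (.v (nat_lit 0)) (.v (nat_lit 9))) (.mul (.v (nat_lit 9)) (.v (nat_lit 0)))) (.qf (.or (.mem (.v (nat_lit 0)) NA_lD) (.mem (.mul (.v (nat_lit 0)) (.v (nat_lit 6))) NA_lD)))))
theorem NA_cy_chk : Fm.chk N9_o NA_cy_F NA_cs = true := by decide +kernel
theorem NA_cy {G : Type*} [Group G] {R : ℕ → G → Prop} {a b c d e u z x y v f k : G} {H : Subgroup G}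
    (M : Mdl N9_o NA_cs N9_L R [a, b, c, d, e, u, z, x, y, v, f, k] H) :
    ∀ g ∈ H, g * y = y * g → g ∈ sp [z, x] ∨ g * u ∈ sp [z, x] :=
  have h : ∀ g, InL N9_o R N9_L g → g * y = y * g → InS R NA_lD (g) ∨ InS R NA_lD (g * u) :=
    Fm.sound M.μ NA_cy_F NA_cy_chk M.reps
  (fun g h0 => (fun h1 => ((or_congr (NA_lD_E M).iff (NA_lD_E M).iff).1 ((h g (M.H.iff.2 h0)) h1))))
noncomputable def NA_cu_F : Fm := (.all N9_L (.imp (.eq (.mul (.v (nat_lit 0)) (.v (nat_lit 7))) (.mul (.v (nat_lit 7)) (.v (nat_lit 0)))) (.imp (.eq (.mul (.v (nat_lit 0)) (.v (nat_lit 6))) (.mul (.v (nat_lit 6)) (.v (nat_lit 0)))) (.qf (.mem (.v (nat_lit 0)) NA_lB)))))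
theorem NA_cu_chk : Fm.chk N9_o NA_cu_F NA_cs = true := by decide +kernel
theorem NA_cu {G : Type*} [Group G] {R : ℕ → G → Prop} {a b c d e u z x y v f k : G} {H : Subgroup G}
    (M : Mdl N9_o NA_cs N9_L R [a, b, c, d, e, u, z, x, y, v, f, k] H) :
    ∀ g ∈ H, g * z = z * g → g * u = u * g → g ∈ sp [z, x, a, c, u] :=
  have h : ∀ g, InL N9_o R N9_L g → g * z = z * g → g * u = u * g → InS R NA_lB (g) :=
    Fm.sound M.μ NA_cu_F NA_cu_chk M.reps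
  (fun g h0 => (fun h1 => (fun h2 => ((NA_lB_E M).iff.1 (((h g (M.H.iff.2 h0)) h1) h2)))))
noncomputable def NA_u_F : Fm := (.all N9_L (.imp (.eq (.mul (.v (nat_lit 0)) (.v (nat_lit 7))) (.mul (.v (nat_lit 7)) (.v (nat_lit 0)))) (.imp (.eq (.mul (.v (nat_lit 0)) (.v (nat_lit 8))) (.mul (.v (nat_lit 8)) (.v (nat_lit 0)))) (.imp (.eq (.mul (.v (nat_lit 0)) (.v (nat_lit 0))) .one) (.qf (.or (.eq (.v (nat_lit 0)) .one) (.eq (.v (nat_lit 0)) (.v (nat_lit 6)))))))))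
theorem NA_u_chk : Fm.chk N9_o NA_u_F NA_cs = true := by decide +kernel
theorem NA_u {G : Type*} [Group G] {R : ℕ → G → Prop} {a b c d e u z x y v f k : G} {H : Subgroup G}
    (M : Mdl N9_o NA_cs N9_L R [a, b, c, d, e, u, z, x, y, v, f, k] H) :
    ∀ g ∈ H, g * z = z * g → g * x = x * g → g * g = 1 → g = 1 ∨ g = u :=
  have h : ∀ g, InL N9_o R N9_L g → g * z = z * g → g * x = x * g → g * g = 1 → g = 1 ∨ g = u :=
    Fm.sound M.μ NA_u_F NA_u_chk M.reps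
  (fun g h0 => (h g (M.H.iff.2 h0)))
noncomputable def NA_sa_F : Fm := (.all N9_L (.imp (.eq (.mul (.v (nat_lit 0)) (.v (nat_lit 0))) .one) (.imp (.eq (.mul (.v (nat_lit 0)) (.v (nat_lit 7))) (.mul (.v (nat_lit 7)) (.v (nat_lit 0)))) (.imp (.eq (.mul (.mul (.v (nat_lit 0)) (.v (nat_lit 8))) (.inv (.v (nat_lit 0)))) (.inv (.v (nat_lit 8)))) (.qf (.or (.or (.eq (.v (nat_lit 0)) (.v (nat_lit 3))) (.eq (.v (nat_lit 0)) (.mul (.v (nat_lit 3)) (.v (nat_lit 6))))) (.or (.or (.eq (.v (nat_lit 0)) (.mul (.v (nat_lit 8)) (.v (nat_lit 3)))) (.eq (.v (nat_lit 0)) (.mul (.v (nat_lit 8)) (.mul (.v (nat_lit 3)) (.v (nat_lit 6)))))) (.or (.eq (.v (nat_lit 0)) (.mul (.inv (.v (nat_lit 8))) (.v (nat_lit 3)))) (.eq (.v (nat_lit 0)) (.mul (.inv (.v (nat_lit 8))) (.mul (.v (nat_lit 3)) (.v (nat_lit 6)))))))))))))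
theorem NA_sa_chk : Fm.chk N9_o NA_sa_F NA_cs = true := by decide +kernel
theorem NA_sa {G : Type*} [Group G] {R : ℕ → G → Prop} {a b c d e u z x y v f k : G} {H : Subgroup G}
    (M : Mdl N9_o NA_cs N9_L R [a, b, c, d, e, u, z, x, y, v, f, k] H) :
    ∀ g ∈ H, g * g = 1 → g * z = z * g → g * x * g⁻¹ = x⁻¹ → (g = c ∨ g = c * u) ∨ (g = x * c ∨ g = x * (c * u)) ∨ g = x⁻¹ * c ∨ g = x⁻¹ * (c * u) :=
  have h : ∀ g, InL N9_o R N9_L g → g * g = 1 → g * z = z * g → g * x * g⁻¹ = x⁻¹ → (g = c ∨ g = c * u) ∨ (g = x * c ∨ g = x * (c * u)) ∨ g = x⁻¹ * c ∨ g = x⁻¹ * (c * u) :=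
    Fm.sound M.μ NA_sa_F NA_sa_chk M.reps
  (fun g h0 => (h g (M.H.iff.2 h0)))
noncomputable def NA_sw_F : Fm := (.allS NA_lD (.allS NA_lD (.imp (.or (.eq (.v (nat_lit 1)) (.v (nat_lit 9))) (.eq (.v (nat_lit 1)) (.inv (.v (nat_lit 9))))) (.imp (.or (.eq (.v (nat_lit 0)) (.v (nat_lit 8))) (.eq (.v (nat_lit 0)) (.inv (.v (nat_lit 8))))) (.exS NA_lT (.qf (.and (.eq (.mul (.mul (.v (nat_lit 0)) (.v (nat_lit 2))) (.inv (.v (nat_lit 0)))) (.v (nat_lit 10))) (.eq (.mul (.mul (.v (nat_lit 0)) (.v (nat_lit 1))) (.inv (.v (nat_lit 0)))) (.v (nat_lit 9))))))))))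
theorem NA_sw_chk : Fm.chk N9_o NA_sw_F NA_cs = true := by decide +kernel
theorem NA_sw {G : Type*} [Group G] {R : ℕ → G → Prop} {a b c d e u z x y v f k : G} {H : Subgroup G}
    (M : Mdl N9_o NA_cs N9_L R [a, b, c, d, e, u, z, x, y, v, f, k] H) :
    ∀ t ∈ sp [z, x], ∀ r ∈ sp [z, x], t = x ∨ t = x⁻¹ → r = z ∨ r = z⁻¹ → (∃ m ∈ sp [a, c], m * t * m⁻¹ = x ∧ m * r * m⁻¹ = z) :=
  have h : ∀ t, InS R NA_lD t → ∀ r, InS R NA_lD r → t = x ∨ t = x⁻¹ → r = z ∨ r = z⁻¹ → (GoodS R NA_lT → ∃ m, InS R NA_lT m ∧ m * t * m⁻¹ = x ∧ m * r * m⁻¹ = z) :=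
    Fm.sound M.μ NA_sw_F NA_sw_chk M.reps
  (fun t h0 => (fun r h1 => (fun h2 => (fun h3 => (Exists.imp (fun m h4 => ⟨(NA_lT_E M).iff.1 h4.1, h4.2⟩) (((((h t ((NA_lD_E M).iff.2 h0)) r ((NA_lD_E M).iff.2 h1)) h2) h3) (NA_lT_E M).good))))))
noncomputable def NA_Da_F : Fm := (.allS NA_lD (.imp (.or (.eq (.mul (.mul (.v (nat_lit 1)) (.v (nat_lit 0))) (.inv (.v (nat_lit 1)))) (.v (nat_lit 0))) (.eq (.mul (.mul (.v (nat_lit 1)) (.v (nat_lit 0))) (.inv (.v (nat_lit 1)))) (.inv (.v (nat_lit 0))))) (.qf (.or (.eq (.v (nat_lit 0)) .one) (.or (.or (.eq (.v (nat_lit 0)) (.v (nat_lit 7))) (.eq (.v (nat_lit 0)) (.inv (.v (nat_lit 7))))) (.or (.eq (.v (nat_lit 0)) (.v (nat_lit 8))) (.eq (.v (nat_lit 0)) (.inv (.v (nat_lit 8))))))))))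
theorem NA_Da_chk : Fm.chk N9_o NA_Da_F NA_cs = true := by decide +kernel
theorem NA_Da {G : Type*} [Group G] {R : ℕ → G → Prop} {a b c d e u z x y v f k : G} {H : Subgroup G}
    (M : Mdl N9_o NA_cs N9_L R [a, b, c, d, e, u, z, x, y, v, f, k] H) :
    ∀ t ∈ sp [z, x], a * t * a⁻¹ = t ∨ a * t * a⁻¹ = t⁻¹ → t = 1 ∨ (t = z ∨ t = z⁻¹) ∨ t = x ∨ t = x⁻¹ :=
  have h : ∀ t, InS R NA_lD t → a * t * a⁻¹ = t ∨ a * t * a⁻¹ = t⁻¹ → t = 1 ∨ (t = z ∨ t = z⁻¹) ∨ t = x ∨ t = x⁻¹ :=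
    Fm.sound M.μ NA_Da_F NA_Da_chk M.reps
  (fun t h0 => (h t ((NA_lD_E M).iff.2 h0)))
noncomputable def NA_zz_F : Fm := (.all N9_L (.imp (.eq (.pw (.v (nat_lit 0)) (nat_lit 3)) .one) (.imp (.not (.eq (.v (nat_lit 0)) .one)) (.imp (.or (.eq (.mul (.mul (.v (nat_lit 3)) (.v (nat_lit 0))) (.inv (.v (nat_lit 3)))) (.v (nat_lit 0))) (.eq (.mul (.mul (.v (nat_lit 3)) (.v (nat_lit 0))) (.inv (.v (nat_lit 3)))) (.inv (.v (nat_lit 0))))) (.imp (.or (.eq (.mul (.mul (.v (nat_lit 4)) (.v (nat_lit 0))) (.inv (.v (nat_lit 4)))) (.v (nat_lit 0))) (.eq (.mul (.mul (.v (nat_lit 4)) (.v (nat_lit 0))) (.inv (.v (nat_lit 4)))) (.inv (.v (nat_lit 0))))) (.imp (.or (.eq (.mul (.mul (.v (nat_lit 5)) (.v (nat_lit 0))) (.inv (.v (nat_lit 5)))) (.v (nat_lit 0))) (.eq (.mul (.mul (.v (nat_lit 5)) (.v (nat_lit 0))) (.inv (.v (nat_lit 5)))) (.inv (.v (nat_lit 0))))) (.qf (.or (.eq (.v (nat_lit 0)) (.v (nat_lit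 7))) (.eq (.v (nat_lit 0)) (.inv (.v (nat_lit 7))))))))))))
theorem NA_zz_chk : Fm.chk N9_o NA_zz_F NA_cs = true := by decide +kernel
theorem NA_zz {G : Type*} [Group G] {R : ℕ → G → Prop} {a b c d e u z x y v f k : G} {H : Subgroup G}
    (M : Mdl N9_o NA_cs N9_L R [a, b, c, d, e, u, z, x, y, v, f, k] H) :
    ∀ t ∈ H, t ^ 3 = 1 → t ≠ 1 → c * t * c⁻¹ = t ∨ c * t * c⁻¹ = t⁻¹ → d * t * d⁻¹ = t ∨ d * t * d⁻¹ = t⁻¹ → e * t * e⁻¹ = t ∨ e * t * e⁻¹ = t⁻¹ → t = z ∨ t = z⁻¹ :=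
  have h : ∀ t, InL N9_o R N9_L t → t ^ 3 = 1 → t ≠ 1 → c * t * c⁻¹ = t ∨ c * t * c⁻¹ = t⁻¹ → d * t * d⁻¹ = t ∨ d * t * d⁻¹ = t⁻¹ → e * t * e⁻¹ = t ∨ e * t * e⁻¹ = t⁻¹ → t = z ∨ t = z⁻¹ :=
    Fm.sound M.μ NA_zz_F NA_zz_chk M.reps
  (fun t h0 => (h t (M.H.iff.2 h0)))
noncomputable def NA_cS_F : Fm := (.all N9_L (.imp (.eq (.mul (.v (nat_lit 0)) (.v (nat_lit 7))) (.mul (.v (nat_lit 7)) (.v (nat_lit 0)))) (.imp (.eq (.mul (.v (nat_lit 0)) (.mul (.v (nat_lit 3)) (.v (nat_lit 6)))) (.mul (.mul (.v (nat_lit 3)) (.v (nat_lit 6))) (.v (nat_lit 0)))) (.qf (.or (.eq (.pw (.v (nat_lit 0)) (nat_lit 4)) .one) (.or (.eq (.pw (.v (nat_lit 0)) (nat_lit 4)) (.v (nat_lit 7))) (.eq (.pw (.v (nat_lit 0)) (nat_lit 4)) (.inv (.v (nat_lit 7))))))))))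
theorem NA_cS_chk : Fm.chk N9_o NA_cS_F NA_cs = true := by decide +kernel
theorem NA_cS {G : Type*} [Group G] {R : ℕ → G → Prop} {a b c d e u z x y v f k : G} {H : Subgroup G}
    (M : Mdl N9_o NA_cs N9_L R [a, b, c, d, e, u, z, x, y, v, f, k] H) :
    ∀ g ∈ H, g * z = z * g → g * (c * u) = c * u * g → g ^ 4 = 1 ∨ g ^ 4 = z ∨ g ^ 4 = z⁻¹ :=
  have h : ∀ g, InL N9_o R N9_L g → g * z = z * g → g * (c * u) = c * u * g → g ^ 4 = 1 ∨ g ^ 4 = z ∨ g ^ 4 = z⁻¹ :=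
    Fm.sound M.μ NA_cS_F NA_cS_chk M.reps
  (fun g h0 => (h g (M.H.iff.2 h0)))
noncomputable def NA_T8_F : Fm := (.allS NA_lB (.imp (.eq (.mul (.v (nat_lit 0)) (.v (nat_lit 1))) (.mul (.v (nat_lit 1)) (.v (nat_lit 0)))) (.imp (.eq (.mul (.v (nat_lit 0)) (.v (nat_lit 3))) (.mul (.v (nat_lit 3)) (.v (nat_lit 0)))) (.qf (.mem (.v (nat_lit 0)) NA_lT8)))))
theorem NA_T8_chk : Fm.chk N9_o NA_T8_F NA_cs = true := by decide +kernel
theorem NA_T8 {G : Type*} [Group G] {R : ℕ → G → Prop} {a b c d e u z x y v f k : G} {H : Subgroup G}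
    (M : Mdl N9_o NA_cs N9_L R [a, b, c, d, e, u, z, x, y, v, f, k] H) :
    ∀ g ∈ sp [z, x, a, c, u], g * a = a * g → g * c = c * g → g ∈ sp [a, c, u] :=
  have h : ∀ g, InS R NA_lB g → g * a = a * g → g * c = c * g → InS R NA_lT8 (g) :=
    Fm.sound M.μ NA_T8_F NA_T8_chk M.reps
  (fun g h0 => (fun h1 => (fun h2 => ((NA_lT8_E M).iff.1 (((h g ((NA_lB_E M).iff.2 h0)) h1) h2)))))
noncomputable def NA_T1_F : Fm := (.allS NA_lT8 (.imp (.eq (.mul (.mul (.v (nat_lit 0)) (.v (nat_lit 10))) (.mul (.v (nat_lit 0)) (.v (nat_lit 10)))) .one) (.qf (.or (.eq (.v (nat_lit 0)) .one) (.or (.eq (.v (nat_lit 0)) (.v (nat_lit 1))) (.or (.eq (.v (nat_lit 0)) (.mul (.v (nat_lit 3)) (.v (nat_lit 6)))) (.eq (.v (nat_lit 0)) (.mul (.mul (.v (nat_lit 1)) (.v (nat_lit 3))) (.v (nat_lit 6))))))))))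
theorem NA_T1_chk : Fm.chk N9_o NA_T1_F NA_cs = true := by decide +kernel
theorem NA_T1 {G : Type*} [Group G] {R : ℕ → G → Prop} {a b c d e u z x y v f k : G} {H : Subgroup G}
    (M : Mdl N9_o NA_cs N9_L R [a, b, c, d, e, u, z, x, y, v, f, k] H) :
    ∀ g ∈ sp [a, c, u], g * v * (g * v) = 1 → g = 1 ∨ g = a ∨ g = c * u ∨ g = a * c * u :=
  have h : ∀ g, InS R NA_lT8 g → g * v * (g * v) = 1 → g = 1 ∨ g = a ∨ g = c * u ∨ g = a * c * u :=
    Fm.sound M.μ NA_T1_F NA_T1_chk M.reps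
  (fun g h0 => (h g ((NA_lT8_E M).iff.2 h0)))
noncomputable def NA_cV_F : Fm := (.all N9_L (.imp (.eq (.mul (.v (nat_lit 0)) (.v (nat_lit 7))) (.mul (.v (nat_lit 7)) (.v (nat_lit 0)))) (.imp (.eq (.mul (.v (nat_lit 0)) (.mul (.v (nat_lit 3)) (.v (nat_lit 5)))) (.mul (.mul (.v (nat_lit 3)) (.v (nat_lit 5))) (.v (nat_lit 0)))) (.imp (.eq (.mul (.v (nat_lit 0)) (.v (nat_lit 11))) (.mul (.v (nat_lit 11)) (.v (nat_lit 0)))) (.qf (.or (.mem (.v (nat_lit 0)) NA_lV) (.or (.mem (.mul (.v (nat_lit 0)) (.v (nat_lit 7))) NA_lV) (.mem (.mul (.v (nat_lit 0)) (.inv (.v (nat_lit 7)))) NA_lV))))))))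
theorem NA_cV_chk : Fm.chk N9_o NA_cV_F NA_cs = true := by decide +kernel
theorem NA_cV {G : Type*} [Group G] {R : ℕ → G → Prop} {a b c d e u z x y v f k : G} {H : Subgroup G}
    (M : Mdl N9_o NA_cs N9_L R [a, b, c, d, e, u, z, x, y, v, f, k] H) :
    ∀ g ∈ H, g * z = z * g → g * (c * e) = c * e * g → g * f = f * g → g ∈ sp [c * e, f] ∨ g * z ∈ sp [c * e, f] ∨ g * z⁻¹ ∈ sp [c * e, f] :=
  have h : ∀ g, InL N9_o R N9_L g → g * z = z * g → g * (c * e) = c * e * g → g * f = f * g → InS R NA_lV (g) ∨ InS R NA_lV (g * z) ∨ InS R NA_lV (g * z⁻¹) :=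
    Fm.sound M.μ NA_cV_F NA_cV_chk M.reps
  (fun g h0 => (fun h1 => (fun h2 => (fun h3 => ((or_congr (NA_lV_E M).iff (or_congr (NA_lV_E M).iff (NA_lV_E M).iff)).1 ((((h g (M.H.iff.2 h0)) h1) h2) h3))))))
noncomputable def NA_V_F : Fm := (.allS NA_lV (.qf (.and (.eq (.mul (.v (nat_lit 0)) (.v (nat_lit 0))) .one) (.and (.eq (.mul (.v (nat_lit 0)) (.v (nat_lit 7))) (.mul (.v (nat_lit 7)) (.v (nat_lit 0)))) (.and (.eq (.mul (.v (nat_lit 0)) (.mul (.v (nat_lit 3)) (.v (nat_lit 5)))) (.mul (.mul (.v (nat_lit 3)) (.v (nat_lit 5))) (.v (nat_lit 0)))) (.eq (.mul (.v (nat_lit 0)) (.v (nat_lit 11))) (.mul (.v (nat_lit 11)) (.v (nat_lit 0)))))))))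
theorem NA_V_chk : Fm.chk N9_o NA_V_F NA_cs = true := by decide +kernel
theorem NA_V {G : Type*} [Group G] {R : ℕ → G → Prop} {a b c d e u z x y v f k : G} {H : Subgroup G}
    (M : Mdl N9_o NA_cs N9_L R [a, b, c, d, e, u, z, x, y, v, f, k] H) :
    ∀ g ∈ sp [c * e, f], g * g = 1 ∧ g * z = z * g ∧ g * (c * e) = c * e * g ∧ g * f = f * g :=
  have h : ∀ g, InS R NA_lV g → g * g = 1 ∧ g * z = z * g ∧ g * (c * e) = c * e * g ∧ g * f = f * g :=
    Fm.sound M.μ NA_V_F NA_V_chk M.reps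
  (fun g h0 => (h g ((NA_lV_E M).iff.2 h0)))
noncomputable def NA_U_t0 : ST := (.node (nat_lit 631) (.node (nat_lit 409) (.node (nat_lit 283) (.node (nat_lit 35) (.node (nat_lit 13) (.leaf (nat_lit 1)) (.leaf (nat_lit 3))) (.node (nat_lit 214) (.leaf (nat_lit 1)) (.node (nat_lit 221) (.leaf (nat_lit 3)) (.leaf (nat_lit 2))))) (.node (nat_lit 380) (.node (nat_lit 303) (.leaf (nat_lit 3)) (.node (nat_lit 357) (.leaf (nat_lit 4)) (.leaf (nat_lit 1)))) (.node (nat_lit 388) (.leaf (nat_lit 3)) (.node (nat_lit 402) (.leaf (nat_lit 1)) (.leaf (nat_lit 3)))))) (.node (nat_lit 507) (.node (nat_lit 435) (.node (nat_lit 418) (.leaf (nat_lit 1)) (.leaf (nat_lit 5))) (.node (nat_lit 464) (.leaf (nat_lit 1)) (.node (nat_lit 503) (.leaf (nat_lit 2)) (.leaf (nat_lit 1))))) (.node (nat_lit 587) (.node (nat_lit 546) (.leaf (nat_lit 2)) (.node (nat_lit 549) (.leaf (nat_lit 1)) (.leaf (nat_lit 2)))) (.node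 (nat_lit 626) (.leaf (nat_lit 1)) (.node (nat_lit 629) (.leaf (nat_lit 4)) (.leaf (nat_lit 1))))))) (.node (nat_lit 804) (.node (nat_lit 695) (.node (nat_lit 643) (.node (nat_lit 639) (.leaf (nat_lit 5)) (.leaf (nat_lit 4))) (.node (nat_lit 646) (.leaf (nat_lit 3)) (.node (nat_lit 648) (.leaf (nat_lit 2)) (.leaf (nat_lit 1))))) (.node (nat_lit 724) (.node (nat_lit 706) (.leaf (nat_lit 4)) (.node (nat_lit 715) (.leaf (nat_lit 1)) (.leaf (nat_lit 2)))) (.node (nat_lit 767) (.leaf (nat_lit 3)) (.node (nat_lit 787) (.leaf (nat_lit 1)) (.leaf (nat_lit 3)))))) (.node (nat_lit 877) (.node (nat_lit 846) (.node (nat_lit 843) (.leaf (nat_lit 1)) (.leaf (nat_lit 2))) (.node (nat_lit 851) (.leaf (nat_lit 3)) (.node (nat_lit 865) (.leaf (nat_lit 1)) (.leaf (nat_lit 2))))) (.node (nat_lit 945) (.node (nat_lit 898) (.leaf (nat_lit 3)) (.node (nat_lit 944) (.leaf (nat_lit 1)) (.leaf (nat_lit 3)))) (.node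 (nat_lit 948) (.leaf (nat_lit 1)) (.node (nat_lit 973) (.leaf (nat_lit 3)) (.leaf (nat_lit 1))))))))
noncomputable def NA_U_t1 : ST := (.node (nat_lit 594) (.node (nat_lit 160) (.node (nat_lit 55) (.node (nat_lit 18) (.leaf (nat_lit 0)) (.node (nat_lit 29) (.leaf (nat_lit 1)) (.leaf (nat_lit 0)))) (.node (nat_lit 72) (.node (nat_lit 63) (.leaf (nat_lit 1)) (.leaf (nat_lit 0))) (.node (nat_lit 83) (.leaf (nat_lit 1)) (.leaf (nat_lit 0))))) (.node (nat_lit 388) (.node (nat_lit 178) (.node (nat_lit 170) (.leaf (nat_lit 1)) (.leaf (nat_lit 0))) (.node (nat_lit 251) (.leaf (nat_lit 1)) (.leaf (nat_lit 0)))) (.node (nat_lit 450) (.node (nat_lit 438) (.leaf (nat_lit 1)) (.leaf (nat_lit 0))) (.node (nat_lit 568) (.leaf (nat_lit 1)) (.leaf (nat_lit 0)))))) (.node (nat_lit 788) (.node (nat_lit 736) (.node (nat_lit 673) (.node (nat_lit 643) (.leaf (nat_lit 1)) (.leaf (nat_lit 0))) (.node (nat_lit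 686) (.leaf (nat_lit 1)) (.leaf (nat_lit 0)))) (.node (nat_lit 776) (.node (nat_lit 751) (.leaf (nat_lit 1)) (.leaf (nat_lit 0))) (.node (nat_lit 779) (.leaf (nat_lit 1)) (.leaf (nat_lit 0))))) (.node (nat_lit 854) (.node (nat_lit 845) (.node (nat_lit 797) (.leaf (nat_lit 1)) (.leaf (nat_lit 0))) (.node (nat_lit 849) (.leaf (nat_lit 1)) (.leaf (nat_lit 0)))) (.node (nat_lit 972) (.node (nat_lit 878) (.leaf (nat_lit 1)) (.leaf (nat_lit 0))) (.node (nat_lit 977) (.leaf (nat_lit 1)) (.leaf (nat_lit 0)))))))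
noncomputable def NA_U_F : Fm := (.all N9_L (.imp (.eq (.mul (.v (nat_lit 0)) (.v (nat_lit 7))) (.mul (.v (nat_lit 7)) (.v (nat_lit 0)))) (.imp (.eq (.pw (.v (nat_lit 0)) (nat_lit 20)) .one) (.or (.qf (.eq (.mul (.v (nat_lit 0)) (.v (nat_lit 8))) (.mul (.v (nat_lit 8)) (.v (nat_lit 0))))) (.exG NA_lS (fun cs => NA_U_t1.find (Nat.mod (nth (nat_lit 0) cs (nat_lit 0)) (nat_lit 995))) (.exG NA_lS (fun cs => NA_U_t0.find (Nat.mod (Nat.add (nth (nat_lit 0) cs (nat_lit 0)) (Nat.mul (nat_lit 7919) (nth (nat_lit 0) cs (nat_lit 1)))) (nat_lit 1041))) (.qf (.not (.eq (.pw (.mul (.mul (.mul (.v (nat_lit 2)) (.mul (.mul (.v (nat_lit 1)) (.v (nat_lit 2))) (.inv (.v (nat_lit 1))))) (.v (nat_lit 2))) (.mul (.mul (.v (nat_lit 0)) (.v (nat_lit 2))) (.inv (.v (nat_lit 0))))) (nat_lit 20)) .one)))))))))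
theorem NA_U_chk : Fm.chk N9_o NA_U_F NA_cs = true := by decide +kernel
theorem NA_U {G : Type*} [Group G] {R : ℕ → G → Prop} {a b c d e u z x y v f k : G} {H : Subgroup G}
    (M : Mdl N9_o NA_cs N9_L R [a, b, c, d, e, u, z, x, y, v, f, k] H) :
    ∀ n ∈ H, n * z = z * n → n ^ 20 = 1 → n * x = x * n ∨ (∃ m ∈ sp [x, c * u], ∃ l ∈ sp [x, c * u], (n * (m * n * m⁻¹) * n * (l * n * l⁻¹)) ^ 20 ≠ 1) :=
  have h : ∀ n, InL N9_o R N9_L n → n * z = z * n → n ^ 20 = 1 → n * x = x * n ∨ (GoodS R NA_lS → NA_lS ≠ [] → ∃ m, InS R NA_lS m ∧ (GoodS R NA_lS → NA_lS ≠ [] → ∃ l, InS R NA_lS l ∧ (n * (m * n * m⁻¹) * n * (l * n * l⁻¹)) ^ 20 ≠ 1)) :=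
    Fm.sound M.μ NA_U_F NA_U_chk M.reps
  (fun n h0 => (fun h1 => (fun h2 => (Or.imp (fun h3 => h3) (fun h3 => (Exists.imp (fun m h4 => ⟨(NA_lS_E M).iff.1 h4.1, (Exists.imp (fun l h5 => ⟨(NA_lS_E M).iff.1 h5.1, h5.2⟩) (h4.2 (NA_lS_E M).good (NA_lS_E M).ne))⟩) (h3 (NA_lS_E M).good (NA_lS_E M).ne))) (((h n (M.H.iff.2 h0)) h1) h2)))))
noncomputable def NA_c20_F : Fm := (.all N9_L (.imp (.eq (.mul (.v (nat_lit 0)) (.v (nat_lit 7))) (.mul (.v (nat_lit 7)) (.v (nat_lit 0)))) (.qf (.or (.eq (.pw (.v (nat_lit 0)) (nat_lit 20)) .one) (.and (.eq (.pw (.pw (.v (nat_lit 0)) (nat_lit 20)) (nat_lit 3)) .one) (.not (.eq (.pw (.v (nat_lit 0)) (nat_lit 20)) .one)))))))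
theorem NA_c20_chk : Fm.chk N9_o NA_c20_F NA_cs = true := by decide +kernel
theorem NA_c20 {G : Type*} [Group G] {R : ℕ → G → Prop} {a b c d e u z x y v f k : G} {H : Subgroup G}
    (M : Mdl N9_o NA_cs N9_L R [a, b, c, d, e, u, z, x, y, v, f, k] H) :
    ∀ n ∈ H, n * z = z * n → n ^ 20 = 1 ∨ (n ^ 20) ^ 3 = 1 ∧ n ^ 20 ≠ 1 :=
  have h : ∀ n, InL N9_o R N9_L n → n * z = z * n → n ^ 20 = 1 ∨ (n ^ 20) ^ 3 = 1 ∧ n ^ 20 ≠ 1 :=
    Fm.sound M.μ NA_c20_F NA_c20_chk M.reps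
  (fun n h0 => (h n (M.H.iff.2 h0)))
noncomputable def NA_nA_t0 : ST := (.node (nat_lit 506) (.node (nat_lit 231) (.node (nat_lit 131) (.node (nat_lit 78) (.node (nat_lit 28) (.leaf (nat_lit 4)) (.node (nat_lit 44) (.leaf (nat_lit 3)) (.leaf (nat_lit 0)))) (.node (nat_lit 105) (.node (nat_lit 80) (.leaf (nat_lit 4)) (.leaf (nat_lit 3))) (.node (nat_lit 125) (.leaf (nat_lit 0)) (.leaf (nat_lit 3))))) (.node (nat_lit 179) (.node (nat_lit 140) (.leaf (nat_lit 0)) (.node (nat_lit 168) (.leaf (nat_lit 5)) (.leaf (nat_lit 0)))) (.node (nat_lit 209) (.node (nat_lit 204) (.leaf (nat_lit 5)) (.leaf (nat_lit 4))) (.node (nat_lit 215) (.leaf (nat_lit 3)) (.leaf (nat_lit 0)))))) (.node (nat_lit 335) (.node (nat_lit 254) (.node (nat_lit 233) (.leaf (nat_lit 5)) (.node (nat_lit 234) (.leaf (nat_lit 6)) (.leaf (nat_lit 0)))) (.node (nat_lit 316) (.node (nat_lit 287) (.leaf (nat_lit 6)) (.leaf (nat_lit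 4))) (.node (nat_lit 319) (.leaf (nat_lit 3)) (.leaf (nat_lit 4))))) (.node (nat_lit 419) (.node (nat_lit 400) (.node (nat_lit 382) (.leaf (nat_lit 0)) (.leaf (nat_lit 3))) (.node (nat_lit 414) (.leaf (nat_lit 0)) (.leaf (nat_lit 3)))) (.node (nat_lit 472) (.node (nat_lit 462) (.leaf (nat_lit 0)) (.leaf (nat_lit 3))) (.node (nat_lit 477) (.leaf (nat_lit 5)) (.leaf (nat_lit 3))))))) (.node (nat_lit 833) (.node (nat_lit 643) (.node (nat_lit 580) (.node (nat_lit 522) (.leaf (nat_lit 5)) (.node (nat_lit 575) (.leaf (nat_lit 0)) (.leaf (nat_lit 1)))) (.node (nat_lit 603) (.node (nat_lit 581) (.leaf (nat_lit 3)) (.leaf (nat_lit 0))) (.node (nat_lit 629) (.leaf (nat_lit 3)) (.leaf (nat_lit 0))))) (.node (nat_lit 704) (.node (nat_lit 650) (.node (nat_lit 645) (.leaf (nat_lit 3)) (.leaf (nat_lit 0))) (.node (nat_lit 656) (.leaf (nat_lit 3)) (.leaf (nat_lit 0)))) (.node (nat_lit 742) (.node (nat_lit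 725) (.leaf (nat_lit 3)) (.leaf (nat_lit 4))) (.node (nat_lit 816) (.leaf (nat_lit 0)) (.leaf (nat_lit 3)))))) (.node (nat_lit 972) (.node (nat_lit 923) (.node (nat_lit 875) (.leaf (nat_lit 0)) (.node (nat_lit 882) (.leaf (nat_lit 5)) (.leaf (nat_lit 0)))) (.node (nat_lit 961) (.node (nat_lit 949) (.leaf (nat_lit 4)) (.leaf (nat_lit 3))) (.node (nat_lit 967) (.leaf (nat_lit 0)) (.leaf (nat_lit 6))))) (.node (nat_lit 998) (.node (nat_lit 981) (.node (nat_lit 974) (.leaf (nat_lit 3)) (.leaf (nat_lit 0))) (.node (nat_lit 988) (.leaf (nat_lit 3)) (.leaf (nat_lit 0)))) (.node (nat_lit 1014) (.node (nat_lit 1006) (.leaf (nat_lit 5)) (.leaf (nat_lit 0))) (.node (nat_lit 1037) (.leaf (nat_lit 4)) (.leaf (nat_lit 0))))))))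
noncomputable def NA_nA_t1 : ST := (.node (nat_lit 12) (.leaf (nat_lit 1)) (.node (nat_lit 16) (.leaf (nat_lit 4)) (.leaf (nat_lit 1))))
noncomputable def NA_nA_F : Fm := (.all N9_L (.imp (.eq (.mul (.v (nat_lit 0)) (.v (nat_lit 7))) (.mul (.v (nat_lit 7)) (.v (nat_lit 0)))) (.imp (.eq (.pw (.v (nat_lit 0)) (nat_lit 20)) .one) (.or (.qf (.eq (.v (nat_lit 0)) .one)) (.exG NA_lA (fun cs => NA_nA_t1.find (Nat.mod (nth (nat_lit 0) cs (nat_lit 0)) (nat_lit 106))) (.exG NA_lA (fun cs => NA_nA_t0.find (Nat.mod (Nat.add (nth (nat_lit 0) cs (nat_lit 0)) (Nat.mul (nat_lit 7919) (nth (nat_lit 0) cs (nat_lit 1)))) (nat_lit 1067))) (.qf (.not (.eq (.pw (.mul (.mul (.mul (.mul (.v (nat_lit 2)) (.v (nat_lit 1))) (.inv (.v (nat_lit 2)))) (.inv (.v (nat_lit 1)))) (.mul (.mul (.v (nat_lit 0)) (.mul (.mul (.mul (.v (nat_lit 2)) (.v (nat_lit 1))) (.inv (.v (nat_lit 2)))) (.inv (.v (nat_lit 1))))) (.inv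 (.v (nat_lit 0))))) (nat_lit 20)) .one)))))))))
theorem NA_nA_chk : Fm.chk N9_o NA_nA_F NA_cs = true := by decide +kernel
theorem NA_nA {G : Type*} [Group G] {R : ℕ → G → Prop} {a b c d e u z x y v f k : G} {H : Subgroup G}
    (M : Mdl N9_o NA_cs N9_L R [a, b, c, d, e, u, z, x, y, v, f, k] H) :
    ∀ n ∈ H, n * z = z * n → n ^ 20 = 1 → n = 1 ∨ (∃ m ∈ sp [x, x⁻¹, c * u, v], ∃ l ∈ sp [x, x⁻¹, c * u, v], (⁅n, m⁆ * (l * ⁅n, m⁆ * l⁻¹)) ^ 20 ≠ 1) :=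
  have h : ∀ n, InL N9_o R N9_L n → n * z = z * n → n ^ 20 = 1 → n = 1 ∨ (GoodS R NA_lA → NA_lA ≠ [] → ∃ m, InS R NA_lA m ∧ (GoodS R NA_lA → NA_lA ≠ [] → ∃ l, InS R NA_lA l ∧ (⁅n, m⁆ * (l * ⁅n, m⁆ * l⁻¹)) ^ 20 ≠ 1)) :=
    Fm.sound M.μ NA_nA_F NA_nA_chk M.reps
  (fun n h0 => (fun h1 => (fun h2 => (Or.imp (fun h3 => h3) (fun h3 => (Exists.imp (fun m h4 => ⟨(NA_lA_E M).iff.1 h4.1, (Exists.imp (fun l h5 => ⟨(NA_lA_E M).iff.1 h5.1, h5.2⟩) (h4.2 (NA_lA_E M).good (NA_lA_E M).ne))⟩) (h3 (NA_lA_E M).good (NA_lA_E M).ne))) (((h n (M.H.iff.2 h0)) h1) h2)))))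
noncomputable def NA_ri_f_F : Fm := (.qf (.and (.eq (.mul (.v (nat_lit 1)) (.v (nat_lit 1))) .one) (.and (.eq (.mul (.v (nat_lit 0)) (.v (nat_lit 0))) .one) (.and (.eq (.mul (.v (nat_lit 2)) (.v (nat_lit 2))) .one) (.and (.eq (.mul (.v (nat_lit 3)) (.v (nat_lit 3))) .one) (.and (.eq (.mul (.v (nat_lit 4)) (.v (nat_lit 4))) .one) (.and (.eq (.mul (.v (nat_lit 5)) (.v (nat_lit 5))) .one) (.and (.eq (.pw (.mul (.v (nat_lit 0)) (.v (nat_lit 1))) (nat_lit 3)) .one) (.and (.eq (.pw (.mul (.v (nat_lit 3)) (.v (nat_lit 2))) (nat_lit 3)) .one) (.and (.eq (.pw (.mul (.v (nat_lit 3)) (.v (nat_lit 4))) (nat_lit 3)) .one) (.and (.eq (.pw (.mul (.v (nat_lit 4)) (.v (nat_lit 5))) (nat_lit 3)) .one) (.and (.eq (.mul (.v (nat_lit 1)) (.v (nat_lit 2))) (.mul (.v (nat_lit 2)) (.v (nat_lit 1)))) (.and (.eq (.mul (.v (nat_lit 1)) (.v (nat_lit 3))) (.mul (.v (nat_lit 3)) (.v (nat_lit 1)))) (.and (.eq (.mul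 (.v (nat_lit 1)) (.v (nat_lit 4))) (.mul (.v (nat_lit 4)) (.v (nat_lit 1)))) (.and (.eq (.mul (.v (nat_lit 1)) (.v (nat_lit 5))) (.mul (.v (nat_lit 5)) (.v (nat_lit 1)))) (.and (.eq (.mul (.v (nat_lit 0)) (.v (nat_lit 2))) (.mul (.v (nat_lit 2)) (.v (nat_lit 0)))) (.and (.eq (.mul (.v (nat_lit 0)) (.v (nat_lit 3))) (.mul (.v (nat_lit 3)) (.v (nat_lit 0)))) (.and (.eq (.mul (.v (nat_lit 0)) (.v (nat_lit 4))) (.mul (.v (nat_lit 4)) (.v (nat_lit 0)))) (.and (.eq (.mul (.v (nat_lit 0)) (.v (nat_lit 5))) (.mul (.v (nat_lit 5)) (.v (nat_lit 0)))) (.and (.eq (.mul (.v (nat_lit 2)) (.v (nat_lit 4))) (.mul (.v (nat_lit 4)) (.v (nat_lit 2)))) (.and (.eq (.mul (.v (nat_lit 2)) (.v (nat_lit 5))) (.mul (.v (nat_lit 5)) (.v (nat_lit 2)))) (.eq (.mul (.v (nat_lit 3)) (.v (nat_lit 5))) (.mul (.v (nat_lit 5)) (.v (nat_lit 3)))))))))))))))))))))))))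
theorem NA_ri_f_chk : Fm.chk N9_o NA_ri_f_F NA_cs = true := by decide +kernel
theorem NA_ri_f {G : Type*} [Group G] {R : ℕ → G → Prop} {a b c d e u z x y v f k : G} {H : Subgroup G}
    (M : Mdl N9_o NA_cs N9_L R [a, b, c, d, e, u, z, x, y, v, f, k] H) :
    b * b = 1 ∧ a * a = 1 ∧ c * c = 1 ∧ d * d = 1 ∧ e * e = 1 ∧ u * u = 1 ∧ (a * b) ^ 3 = 1 ∧ (d * c) ^ 3 = 1 ∧ (d * e) ^ 3 = 1 ∧ (e * u) ^ 3 = 1 ∧ b * c = c * b ∧ b * d = d * b ∧ b * e = e * b ∧ b * u = u * b ∧ a * c = c * a ∧ a * d = d * a ∧ a * e = e * a ∧ a * u = u * a ∧ c * e = e * c ∧ c * u = u * c ∧ d * u = u * d :=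
  Fm.sound M.μ NA_ri_f_F NA_ri_f_chk M.reps
theorem NA_ri {G : Type*} [Group G] {R : ℕ → G → Prop} {a b c d e u z x y v f k : G} {H : Subgroup G}
    (M : Mdl N9_o NA_cs N9_L R [a, b, c, d, e, u, z, x, y, v, f, k] H) :
    N9 b a c d e u :=
  have h := NA_ri_f M
  ⟨h.1, h.2.1, h.2.2.1, h.2.2.2.1, h.2.2.2.2.1, h.2.2.2.2.2.1, h.2.2.2.2.2.2.1, h.2.2.2.2.2.2.2.1, h.2.2.2.2.2.2.2.2.1, h.2.2.2.2.2.2.2.2.2.1, h.2.2.2.2.2.2.2.2.2.2.1, h.2.2.2.2.2.2.2.2.2.2.2.1, h.2.2.2.2.2.2.2.2.2.2.2.2.1, h.2.2.2.2.2.2.2.2.2.2.2.2.2.1, h.2.2.2.2.2.2.2.2.2.2.2.2.2.2.1, h.2.2.2.2.2.2.2.2.2.2.2.2.2.2.2.1, h.2.2.2.2.2.2.2.2.2.2.2.2.2.2.2.2.1, h.2.2.2.2.2.2.2.2.2.2.2.2.2.2.2.2.2.1, h.2.2.2.2.2.2.2.2.2.2.2.2.2.2.2.2.2.2.1, h.2.2.2.2.2.2.2.2.2.2.2.2.2.2.2.2.2.2.2.1, h.2.2.2.2.2.2.2.2.2.2.2.2.2.2.2.2.2.2.2.2, trivial⟩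
noncomputable def NA_A_F : Fm := (.allS NA_lA (.qf (.and (.eq (.mul (.v (nat_lit 0)) (.v (nat_lit 1))) (.mul (.v (nat_lit 1)) (.v (nat_lit 0)))) (.eq (.mul (.v (nat_lit 0)) (.v (nat_lit 7))) (.mul (.v (nat_lit 7)) (.v (nat_lit 0)))))))
theorem NA_A_chk : Fm.chk N9_o NA_A_F NA_cs = true := by decide +kernel
theorem NA_A {G : Type*} [Group G] {R : ℕ → G → Prop} {a b c d e u z x y v f k : G} {H : Subgroup G}
    (M : Mdl N9_o NA_cs N9_L R [a, b, c, d, e, u, z, x, y, v, f, k] H) :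
    ∀ g ∈ sp [x, x⁻¹, c * u, v], g * a = a * g ∧ g * z = z * g :=
  have h : ∀ g, InS R NA_lA g → g * a = a * g ∧ g * z = z * g :=
    Fm.sound M.μ NA_A_F NA_A_chk M.reps
  (fun g h0 => (h g ((NA_lA_E M).iff.2 h0)))
noncomputable def NA_nA2_F : Fm := (.all N9_L (.qf (.and (.mem (.mul (.mul (.v (nat_lit 0)) (.v (nat_lit 8))) (.inv (.v (nat_lit 0)))) NA_lA) (.and (.mem (.mul (.mul (.v (nat_lit 0)) (.mul (.v (nat_lit 3)) (.v (nat_lit 6)))) (.inv (.v (nat_lit 0)))) NA_lA) (.mem (.mul (.mul (.v (nat_lit 0)) (.v (nat_lit 10))) (.inv (.v (nat_lit 0)))) NA_lA)))))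
theorem NA_nA2_chk : Fm.chk N9_o NA_nA2_F NA_cs = true := by decide +kernel
theorem NA_nA2 {G : Type*} [Group G] {R : ℕ → G → Prop} {a b c d e u z x y v f k : G} {H : Subgroup G}
    (M : Mdl N9_o NA_cs N9_L R [a, b, c, d, e, u, z, x, y, v, f, k] H) :
    ∀ g ∈ H, g * x * g⁻¹ ∈ sp [x, x⁻¹, c * u, v] ∧ g * (c * u) * g⁻¹ ∈ sp [x, x⁻¹, c * u, v] ∧ g * v * g⁻¹ ∈ sp [x, x⁻¹, c * u, v] :=
  have h : ∀ g, InL N9_o R N9_L g → InS R NA_lA (g * x * g⁻¹) ∧ InS R NA_lA (g * (c * u) * g⁻¹) ∧ InS R NA_lA (g * v * g⁻¹) :=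
    Fm.sound M.μ NA_nA2_F NA_nA2_chk M.reps
  (fun g h0 => ((and_congr (NA_lA_E M).iff (and_congr (NA_lA_E M).iff (NA_lA_E M).iff)).1 (h g (M.H.iff.2 h0))))
noncomputable def NA_dec_t0 : ST := (.node (nat_lit 673) (.node (nat_lit 417) (.node (nat_lit 272) (.node (nat_lit 72) (.node (nat_lit 33) (.node (nat_lit 10) (.node (nat_lit 2) (.leaf (nat_lit 2)) (.node (nat_lit 8) (.leaf (nat_lit 3)) (.leaf (nat_lit 0)))) (.node (nat_lit 16) (.leaf (nat_lit 4)) (.node (nat_lit 17) (.leaf (nat_lit 5)) (.leaf (nat_lit 1))))) (.node (nat_lit 48) (.node (nat_lit 34) (.leaf (nat_lit 2)) (.node (nat_lit 40) (.leaf (nat_lit 3)) (.leaf (nat_lit 0)))) (.node (nat_lit 65) (.leaf (nat_lit 5)) (.node (nat_lit 66) (.leaf (nat_lit 2)) (.leaf (nat_lit 3)))))) (.node (nat_lit 202) (.node (nat_lit 104) (.node (nat_lit 80) (.leaf (nat_lit 0)) (.node (nat_lit 97) (.leaf (nat_lit 5)) (.leaf (nat_lit 2)))) (.node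 (nat_lit 129) (.leaf (nat_lit 0)) (.node (nat_lit 136) (.leaf (nat_lit 2)) (.leaf (nat_lit 0))))) (.node (nat_lit 241) (.node (nat_lit 209) (.leaf (nat_lit 4)) (.node (nat_lit 234) (.leaf (nat_lit 1)) (.leaf (nat_lit 4)))) (.node (nat_lit 258) (.leaf (nat_lit 1)) (.node (nat_lit 266) (.leaf (nat_lit 3)) (.leaf (nat_lit 4))))))) (.node (nat_lit 353) (.node (nat_lit 321) (.node (nat_lit 298) (.node (nat_lit 273) (.leaf (nat_lit 5)) (.node (nat_lit 290) (.leaf (nat_lit 1)) (.leaf (nat_lit 3)))) (.node (nat_lit 304) (.leaf (nat_lit 4)) (.node (nat_lit 305) (.leaf (nat_lit 5)) (.leaf (nat_lit 1))))) (.node (nat_lit 330) (.node (nat_lit 322) (.leaf (nat_lit 2)) (.node (nat_lit 328) (.leaf (nat_lit 3)) (.leaf (nat_lit 0)))) (.node (nat_lit 336) (.leaf (nat_lit 4)) (.node (nat_lit 337) (.leaf (nat_lit 5)) (.leaf (nat_lit 1)))))) (.node (nat_lit 385) (.node (nat_lit 362) (.node (nat_lit 354)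 (.leaf (nat_lit 2)) (.node (nat_lit 360) (.leaf (nat_lit 3)) (.leaf (nat_lit 0)))) (.node (nat_lit 368) (.leaf (nat_lit 4)) (.node (nat_lit 369) (.leaf (nat_lit 5)) (.leaf (nat_lit 1))))) (.node (nat_lit 394) (.node (nat_lit 386) (.leaf (nat_lit 2)) (.node (nat_lit 392) (.leaf (nat_lit 3)) (.leaf (nat_lit 0)))) (.node (nat_lit 400) (.leaf (nat_lit 4)) (.node (nat_lit 401) (.leaf (nat_lit 5)) (.leaf (nat_lit 1)))))))) (.node (nat_lit 545) (.node (nat_lit 481) (.node (nat_lit 449) (.node (nat_lit 426) (.node (nat_lit 418) (.leaf (nat_lit 2)) (.node (nat_lit 424) (.leaf (nat_lit 3)) (.leaf (nat_lit 0)))) (.node (nat_lit 432) (.leaf (nat_lit 4)) (.node (nat_lit 433) (.leaf (nat_lit 5)) (.leaf (nat_lit 1))))) (.node (nat_lit 458) (.node (nat_lit 450) (.leaf (nat_lit 2)) (.node (nat_lit 456) (.leaf (nat_lit 3)) (.leaf (nat_lit 0)))) (.node (nat_lit 464) (.leaf (nat_lit 4)) (.node (nat_lit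 465) (.leaf (nat_lit 5)) (.leaf (nat_lit 1)))))) (.node (nat_lit 513) (.node (nat_lit 490) (.node (nat_lit 482) (.leaf (nat_lit 2)) (.node (nat_lit 488) (.leaf (nat_lit 3)) (.leaf (nat_lit 0)))) (.node (nat_lit 496) (.leaf (nat_lit 4)) (.node (nat_lit 497) (.leaf (nat_lit 5)) (.leaf (nat_lit 1))))) (.node (nat_lit 522) (.node (nat_lit 514) (.leaf (nat_lit 2)) (.node (nat_lit 520) (.leaf (nat_lit 3)) (.leaf (nat_lit 0)))) (.node (nat_lit 528) (.leaf (nat_lit 4)) (.node (nat_lit 529) (.leaf (nat_lit 5)) (.leaf (nat_lit 1))))))) (.node (nat_lit 609) (.node (nat_lit 577) (.node (nat_lit 554) (.node (nat_lit 546) (.leaf (nat_lit 2)) (.node (nat_lit 552) (.leaf (nat_lit 3)) (.leaf (nat_lit 0)))) (.node (nat_lit 560) (.leaf (nat_lit 4)) (.node (nat_lit 561) (.leaf (nat_lit 5)) (.leaf (nat_lit 1))))) (.node (nat_lit 586) (.node (nat_lit 578) (.leaf (nat_lit 2)) (.node (nat_lit 584) (.leaf (nat_lit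 3)) (.leaf (nat_lit 0)))) (.node (nat_lit 592) (.leaf (nat_lit 4)) (.node (nat_lit 593) (.leaf (nat_lit 5)) (.leaf (nat_lit 1)))))) (.node (nat_lit 641) (.node (nat_lit 618) (.node (nat_lit 610) (.leaf (nat_lit 2)) (.node (nat_lit 616) (.leaf (nat_lit 3)) (.leaf (nat_lit 0)))) (.node (nat_lit 624) (.leaf (nat_lit 4)) (.node (nat_lit 625) (.leaf (nat_lit 5)) (.leaf (nat_lit 1))))) (.node (nat_lit 650) (.node (nat_lit 642) (.leaf (nat_lit 2)) (.node (nat_lit 648) (.leaf (nat_lit 3)) (.leaf (nat_lit 0)))) (.node (nat_lit 656) (.leaf (nat_lit 4)) (.node (nat_lit 657) (.leaf (nat_lit 5)) (.leaf (nat_lit 1))))))))) (.node (nat_lit 929) (.node (nat_lit 801) (.node (nat_lit 737) (.node (nat_lit 705) (.node (nat_lit 682) (.node (nat_lit 674) (.leaf (nat_lit 2)) (.node (nat_lit 680) (.leaf (nat_lit 3)) (.leaf (nat_lit 0)))) (.node (nat_lit 688) (.leaf (nat_lit 4)) (.node (nat_lit 689) (.leaf (nat_lit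 5)) (.leaf (nat_lit 1))))) (.node (nat_lit 714) (.node (nat_lit 706) (.leaf (nat_lit 2)) (.node (nat_lit 712) (.leaf (nat_lit 3)) (.leaf (nat_lit 0)))) (.node (nat_lit 720) (.leaf (nat_lit 4)) (.node (nat_lit 721) (.leaf (nat_lit 5)) (.leaf (nat_lit 1)))))) (.node (nat_lit 769) (.node (nat_lit 746) (.node (nat_lit 738) (.leaf (nat_lit 2)) (.node (nat_lit 744) (.leaf (nat_lit 3)) (.leaf (nat_lit 0)))) (.node (nat_lit 752) (.leaf (nat_lit 4)) (.node (nat_lit 753) (.leaf (nat_lit 5)) (.leaf (nat_lit 1))))) (.node (nat_lit 778) (.node (nat_lit 770) (.leaf (nat_lit 2)) (.node (nat_lit 776) (.leaf (nat_lit 3)) (.leaf (nat_lit 0)))) (.node (nat_lit 784) (.leaf (nat_lit 4)) (.node (nat_lit 785) (.leaf (nat_lit 5)) (.leaf (nat_lit 1))))))) (.node (nat_lit 865) (.node (nat_lit 833) (.node (nat_lit 810) (.node (nat_lit 802) (.leaf (nat_lit 2)) (.node (nat_lit 808) (.leaf (nat_lit 3)) (.leaf (nat_lit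 0)))) (.node (nat_lit 816) (.leaf (nat_lit 4)) (.node (nat_lit 817) (.leaf (nat_lit 5)) (.leaf (nat_lit 1))))) (.node (nat_lit 842) (.node (nat_lit 834) (.leaf (nat_lit 2)) (.node (nat_lit 840) (.leaf (nat_lit 3)) (.leaf (nat_lit 0)))) (.node (nat_lit 848) (.leaf (nat_lit 4)) (.node (nat_lit 849) (.leaf (nat_lit 5)) (.leaf (nat_lit 1)))))) (.node (nat_lit 897) (.node (nat_lit 874) (.node (nat_lit 866) (.leaf (nat_lit 2)) (.node (nat_lit 872) (.leaf (nat_lit 3)) (.leaf (nat_lit 0)))) (.node (nat_lit 880) (.leaf (nat_lit 4)) (.node (nat_lit 881) (.leaf (nat_lit 5)) (.leaf (nat_lit 1))))) (.node (nat_lit 906) (.node (nat_lit 898) (.leaf (nat_lit 2)) (.node (nat_lit 904) (.leaf (nat_lit 3)) (.leaf (nat_lit 0)))) (.node (nat_lit 912) (.leaf (nat_lit 4)) (.node (nat_lit 913) (.leaf (nat_lit 5)) (.leaf (nat_lit 1)))))))) (.node (nat_lit 1057) (.node (nat_lit 993) (.node (nat_lit 961) (.node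 (nat_lit 938) (.node (nat_lit 930) (.leaf (nat_lit 2)) (.node (nat_lit 936) (.leaf (nat_lit 3)) (.leaf (nat_lit 0)))) (.node (nat_lit 944) (.leaf (nat_lit 4)) (.node (nat_lit 945) (.leaf (nat_lit 5)) (.leaf (nat_lit 1))))) (.node (nat_lit 970) (.node (nat_lit 962) (.leaf (nat_lit 2)) (.node (nat_lit 968) (.leaf (nat_lit 3)) (.leaf (nat_lit 0)))) (.node (nat_lit 976) (.leaf (nat_lit 4)) (.node (nat_lit 977) (.leaf (nat_lit 5)) (.leaf (nat_lit 1)))))) (.node (nat_lit 1025) (.node (nat_lit 1002) (.node (nat_lit 994) (.leaf (nat_lit 2)) (.node (nat_lit 1000) (.leaf (nat_lit 3)) (.leaf (nat_lit 0)))) (.node (nat_lit 1008) (.leaf (nat_lit 4)) (.node (nat_lit 1009) (.leaf (nat_lit 5)) (.leaf (nat_lit 1))))) (.node (nat_lit 1034) (.node (nat_lit 1026) (.leaf (nat_lit 2)) (.node (nat_lit 1032) (.leaf (nat_lit 3)) (.leaf (nat_lit 0)))) (.node (nat_lit 1040) (.leaf (nat_lit 4)) (.node (nat_lit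 1041) (.leaf (nat_lit 5)) (.leaf (nat_lit 1))))))) (.node (nat_lit 1121) (.node (nat_lit 1089) (.node (nat_lit 1066) (.node (nat_lit 1058) (.leaf (nat_lit 2)) (.node (nat_lit 1064) (.leaf (nat_lit 3)) (.leaf (nat_lit 0)))) (.node (nat_lit 1072) (.leaf (nat_lit 4)) (.node (nat_lit 1073) (.leaf (nat_lit 5)) (.leaf (nat_lit 1))))) (.node (nat_lit 1098) (.node (nat_lit 1090) (.leaf (nat_lit 2)) (.node (nat_lit 1096) (.leaf (nat_lit 3)) (.leaf (nat_lit 0)))) (.node (nat_lit 1104) (.leaf (nat_lit 4)) (.node (nat_lit 1105) (.leaf (nat_lit 5)) (.leaf (nat_lit 1)))))) (.node (nat_lit 1153) (.node (nat_lit 1130) (.node (nat_lit 1122) (.leaf (nat_lit 2)) (.node (nat_lit 1128) (.leaf (nat_lit 3)) (.leaf (nat_lit 0)))) (.node (nat_lit 1136) (.leaf (nat_lit 4)) (.node (nat_lit 1137) (.leaf (nat_lit 5)) (.leaf (nat_lit 1))))) (.node (nat_lit 1162) (.node (nat_lit 1154) (.leaf (nat_lit 2)) (.node (nat_lit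 1160) (.leaf (nat_lit 3)) (.leaf (nat_lit 0)))) (.node (nat_lit 1168) (.leaf (nat_lit 4)) (.node (nat_lit 1169) (.leaf (nat_lit 5)) (.leaf (nat_lit 1))))))))))
noncomputable def NA_dec_F : Fm := (.all N9_L (.exG NA_lZ (fun cs => NA_dec_t0.find (Nat.mod (nth (nat_lit 0) cs (nat_lit 0)) (nat_lit 1184))) (.qf (.or (.mem (.mul (.v (nat_lit 0)) (.v (nat_lit 1))) NA_lA) (.mem (.mul (.mul (.v (nat_lit 0)) (.v (nat_lit 1))) (.v (nat_lit 7))) NA_lA)))))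
theorem NA_dec_chk : Fm.chk N9_o NA_dec_F NA_cs = true := by decide +kernel
theorem NA_dec {G : Type*} [Group G] {R : ℕ → G → Prop} {a b c d e u z x y v f k : G} {H : Subgroup G}
    (M : Mdl N9_o NA_cs N9_L R [a, b, c, d, e, u, z, x, y, v, f, k] H) :
    ∀ g ∈ H, ∃ m ∈ sp [z, a], m * g ∈ sp [x, x⁻¹, c * u, v] ∨ m * g * u ∈ sp [x, x⁻¹, c * u, v] :=
  have h : ∀ g, InL N9_o R N9_L g → (GoodS R NA_lZ → NA_lZ ≠ [] → ∃ m, InS R NA_lZ m ∧ (InS R NA_lA (m * g) ∨ InS R NA_lA (m * g * u))) :=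
    Fm.sound M.μ NA_dec_F NA_dec_chk M.reps
  (fun g h0 => (Exists.imp (fun m h1 => ⟨(NA_lZ_E M).iff.1 h1.1, ((or_congr (NA_lA_E M).iff (NA_lA_E M).iff).1 h1.2)⟩) ((h g (M.H.iff.2 h0)) (NA_lZ_E M).good (NA_lZ_E M).ne)))
noncomputable def NA_five_F : Fm := (.exG NA_lA (fun _ => (nat_lit 8)) (.exG NA_lA (fun _ => (nat_lit 13)) (.qf (.and (.eq (.pw (.v (nat_lit 1)) (nat_lit 5)) .one) (.and (.eq (.pw (.v (nat_lit 0)) (nat_lit 5)) .one) (.and (.not (.eq (.v (nat_lit 1)) .one)) (.eq (.mul (.v (nat_lit 1)) (.v (nat_lit 0))) (.v (nat_lit 9)))))))))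
theorem NA_five_chk : Fm.chk N9_o NA_five_F NA_cs = true := by decide +kernel
theorem NA_five {G : Type*} [Group G] {R : ℕ → G → Prop} {a b c d e u z x y v f k : G} {H : Subgroup G}
    (M : Mdl N9_o NA_cs N9_L R [a, b, c, d, e, u, z, x, y, v, f, k] H) :
    ∃ p ∈ sp [x, x⁻¹, c * u, v], ∃ q ∈ sp [x, x⁻¹, c * u, v], p ^ 5 = 1 ∧ q ^ 5 = 1 ∧ p ≠ 1 ∧ p * q = x :=
  have h : (GoodS R NA_lA → NA_lA ≠ [] → ∃ p, InS R NA_lA p ∧ (GoodS R NA_lA → NA_lA ≠ [] → ∃ q, InS R NA_lA q ∧ p ^ 5 = 1 ∧ q ^ 5 = 1 ∧ p ≠ 1 ∧ p * q = x)) :=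
    Fm.sound M.μ NA_five_F NA_five_chk M.reps
  (Exists.imp (fun p h0 => ⟨(NA_lA_E M).iff.1 h0.1, (Exists.imp (fun q h1 => ⟨(NA_lA_E M).iff.1 h1.1, h1.2⟩) (h0.2 (NA_lA_E M).good (NA_lA_E M).ne))⟩) (h (NA_lA_E M).good (NA_lA_E M).ne))
noncomputable def NA_g1_F : Fm := (.exG NA_lA (fun _ => (nat_lit 10)) (.exG NA_lA (fun _ => (nat_lit 21)) (.qf (.eq (.mul (.mul (.mul (.v (nat_lit 1)) (.v (nat_lit 9))) (.inv (.v (nat_lit 1)))) (.mul (.mul (.v (nat_lit 0)) (.v (nat_lit 9))) (.inv (.v (nat_lit 0))))) (.mul (.v (nat_lit 4)) (.v (nat_lit 7)))))))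
theorem NA_g1_chk : Fm.chk N9_o NA_g1_F NA_cs = true := by decide +kernel
theorem NA_g1 {G : Type*} [Group G] {R : ℕ → G → Prop} {a b c d e u z x y v f k : G} {H : Subgroup G}
    (M : Mdl N9_o NA_cs N9_L R [a, b, c, d, e, u, z, x, y, v, f, k] H) :
    ∃ m ∈ sp [x, x⁻¹, c * u, v], ∃ l ∈ sp [x, x⁻¹, c * u, v], m * x * m⁻¹ * (l * x * l⁻¹) = c * u :=
  have h : (GoodS R NA_lA → NA_lA ≠ [] → ∃ m, InS R NA_lA m ∧ (GoodS R NA_lA → NA_lA ≠ [] → ∃ l, InS R NA_lA l ∧ m * x * m⁻¹ * (l * x * l⁻¹) = c * u)) :=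
    Fm.sound M.μ NA_g1_F NA_g1_chk M.reps
  (Exists.imp (fun m h0 => ⟨(NA_lA_E M).iff.1 h0.1, (Exists.imp (fun l h1 => ⟨(NA_lA_E M).iff.1 h1.1, h1.2⟩) (h0.2 (NA_lA_E M).good (NA_lA_E M).ne))⟩) (h (NA_lA_E M).good (NA_lA_E M).ne))
noncomputable def NA_g2_F : Fm := (.exG NA_lA (fun _ => (nat_lit 39)) (.qf (.and (.eq (.mul (.mul (.v (nat_lit 0)) (.mul (.v (nat_lit 3)) (.v (nat_lit 6)))) (.inv (.v (nat_lit 0)))) (.v (nat_lit 10))) (.eq (.mul (.mul (.v (nat_lit 0)) (.v (nat_lit 10))) (.inv (.v (nat_lit 0)))) (.mul (.mul (.v (nat_lit 3)) (.v (nat_lit 6))) (.v (nat_lit 10)))))))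
theorem NA_g2_chk : Fm.chk N9_o NA_g2_F NA_cs = true := by decide +kernel
theorem NA_g2 {G : Type*} [Group G] {R : ℕ → G → Prop} {a b c d e u z x y v f k : G} {H : Subgroup G}
    (M : Mdl N9_o NA_cs N9_L R [a, b, c, d, e, u, z, x, y, v, f, k] H) :
    ∃ m ∈ sp [x, x⁻¹, c * u, v], m * (c * u) * m⁻¹ = v ∧ m * v * m⁻¹ = c * u * v :=
  have h : (GoodS R NA_lA → NA_lA ≠ [] → ∃ m, InS R NA_lA m ∧ m * (c * u) * m⁻¹ = v ∧ m * v * m⁻¹ = c * u * v) :=
    Fm.sound M.μ NA_g2_F NA_g2_chk M.reps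
  (Exists.imp (fun m h0 => ⟨(NA_lA_E M).iff.1 h0.1, h0.2⟩) (h (NA_lA_E M).good (NA_lA_E M).ne))
noncomputable def NA_cA_F : Fm := (.all N9_L (.imp (.eq (.mul (.v (nat_lit 0)) (.v (nat_lit 7))) (.mul (.v (nat_lit 7)) (.v (nat_lit 0)))) (.imp (.eq (.mul (.v (nat_lit 0)) (.v (nat_lit 1))) (.mul (.v (nat_lit 1)) (.v (nat_lit 0)))) (.imp (.eq (.mul (.v (nat_lit 0)) (.v (nat_lit 8))) (.mul (.v (nat_lit 8)) (.v (nat_lit 0)))) (.imp (.eq (.mul (.v (nat_lit 0)) (.mul (.v (nat_lit 3)) (.v (nat_lit 6)))) (.mul (.mul (.v (nat_lit 3)) (.v (nat_lit 6))) (.v (nat_lit 0)))) (.imp (.eq (.mul (.v (nat_lit 0)) (.v (nat_lit 10))) (.mul (.v (nat_lit 10)) (.v (nat_lit 0)))) (.qf (.eq (.v (nat_lit 0)) .one))))))))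
theorem NA_cA_chk : Fm.chk N9_o NA_cA_F NA_cs = true := by decide +kernel
theorem NA_cA {G : Type*} [Group G] {R : ℕ → G → Prop} {a b c d e u z x y v f k : G} {H : Subgroup G}
    (M : Mdl N9_o NA_cs N9_L R [a, b, c, d, e, u, z, x, y, v, f, k] H) :
    ∀ g ∈ H, g * z = z * g → g * a = a * g → g * x = x * g → g * (c * u) = c * u * g → g * v = v * g → g = 1 :=
  have h : ∀ g, InL N9_o R N9_L g → g * z = z * g → g * a = a * g → g * x = x * g → g * (c * u) = c * u * g → g * v = v * g → g = 1 :=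
    Fm.sound M.μ NA_cA_F NA_cA_chk M.reps
  (fun g h0 => (h g (M.H.iff.2 h0)))
noncomputable def NA_Dt_F : Fm := (.allS NA_lD (.qf (.or (.or (.eq (.v (nat_lit 0)) .one) (.or (.eq (.v (nat_lit 0)) (.v (nat_lit 7))) (.eq (.v (nat_lit 0)) (.inv (.v (nat_lit 7)))))) (.or (.eq (.mul (.v (nat_lit 0)) (.mul (.mul (.v (nat_lit 1)) (.v (nat_lit 0))) (.inv (.v (nat_lit 1))))) (.v (nat_lit 8))) (.eq (.mul (.v (nat_lit 0)) (.mul (.mul (.v (nat_lit 1)) (.v (nat_lit 0))) (.inv (.v (nat_lit 1))))) (.inv (.v (nat_lit 8))))))))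
theorem NA_Dt_chk : Fm.chk N9_o NA_Dt_F NA_cs = true := by decide +kernel
theorem NA_Dt {G : Type*} [Group G] {R : ℕ → G → Prop} {a b c d e u z x y v f k : G} {H : Subgroup G}
    (M : Mdl N9_o NA_cs N9_L R [a, b, c, d, e, u, z, x, y, v, f, k] H) :
    ∀ t ∈ sp [z, x], (t = 1 ∨ t = z ∨ t = z⁻¹) ∨ t * (a * t * a⁻¹) = x ∨ t * (a * t * a⁻¹) = x⁻¹ :=
  have h : ∀ t, InS R NA_lD t → (t = 1 ∨ t = z ∨ t = z⁻¹) ∨ t * (a * t * a⁻¹) = x ∨ t * (a * t * a⁻¹) = x⁻¹ :=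
    Fm.sound M.μ NA_Dt_F NA_Dt_chk M.reps
  (fun t h0 => (h t ((NA_lD_E M).iff.2 h0)))
noncomputable def NA_Dy_F : Fm := (.allS NA_lD (.qf (.or (.mem (.v (nat_lit 0)) NA_lY) (.or (.mem (.mul (.v (nat_lit 0)) (.v (nat_lit 7))) NA_lY) (.mem (.mul (.v (nat_lit 0)) (.inv (.v (nat_lit 7)))) NA_lY)))))
theorem NA_Dy_chk : Fm.chk N9_o NA_Dy_F NA_cs = true := by decide +kernel
theorem NA_Dy {G : Type*} [Group G] {R : ℕ → G → Prop} {a b c d e u z x y v f k : G} {H : Subgroup G}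
    (M : Mdl N9_o NA_cs N9_L R [a, b, c, d, e, u, z, x, y, v, f, k] H) :
    ∀ t ∈ sp [z, x], t ∈ sp [y] ∨ t * z ∈ sp [y] ∨ t * z⁻¹ ∈ sp [y] :=
  have h : ∀ t, InS R NA_lD t → InS R NA_lY (t) ∨ InS R NA_lY (t * z) ∨ InS R NA_lY (t * z⁻¹) :=
    Fm.sound M.μ NA_Dy_F NA_Dy_chk M.reps
  (fun t h0 => ((or_congr (NA_lY_E M).iff (or_congr (NA_lY_E M).iff (NA_lY_E M).iff)).1 (h t ((NA_lD_E M).iff.2 h0))))
noncomputable def NA_B0_F : Fm := (.allS NA_lB (.qf (.or (.mem (.v (nat_lit 0)) NA_lB0) (.mem (.mul (.v (nat_lit 0)) (.v (nat_lit 6))) NA_lB0))))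
theorem NA_B0_chk : Fm.chk N9_o NA_B0_F NA_cs = true := by decide +kernel
theorem NA_B0 {G : Type*} [Group G] {R : ℕ → G → Prop} {a b c d e u z x y v f k : G} {H : Subgroup G}
    (M : Mdl N9_o NA_cs N9_L R [a, b, c, d, e, u, z, x, y, v, f, k] H) :
    ∀ g ∈ sp [z, x, a, c, u], g ∈ sp [z, x, a, c * u] ∨ g * u ∈ sp [z, x, a, c * u] :=
  have h : ∀ g, InS R NA_lB g → InS R NA_lB0 (g) ∨ InS R NA_lB0 (g * u) :=
    Fm.sound M.μ NA_B0_F NA_B0_chk M.reps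
  (fun g h0 => ((or_congr (NA_lB0_E M).iff (NA_lB0_E M).iff).1 (h g ((NA_lB_E M).iff.2 h0))))
noncomputable def NA_cox_F : Fm := (.qf (.and (.eq (.mul (.mul (.v (nat_lit 3)) (.v (nat_lit 4))) (.v (nat_lit 3))) (.mul (.mul (.v (nat_lit 4)) (.v (nat_lit 3))) (.v (nat_lit 4)))) (.and (.eq (.mul (.mul (.v (nat_lit 4)) (.v (nat_lit 5))) (.v (nat_lit 4))) (.mul (.mul (.v (nat_lit 5)) (.v (nat_lit 4))) (.v (nat_lit 5)))) (.and (.eq (.mul (.v (nat_lit 0)) (.v (nat_lit 4))) (.mul (.v (nat_lit 4)) (.v (nat_lit 0)))) (.and (.eq (.mul (.v (nat_lit 1)) (.v (nat_lit 4))) (.mul (.v (nat_lit 4)) (.v (nat_lit 1)))) (.and (.eq (.mul (.v (nat_lit 2)) (.v (nat_lit 4))) (.mul (.v (nat_lit 4)) (.v (nat_lit 2)))) (.and (.eq (.mul (.v (nat_lit 4)) (.v (nat_lit 4))) .one) (.and (.eq (.pw (.mul (.v (nat_lit 3)) (.v (nat_lit 4))) (nat_lit 3)) .one) (.and (.eq (.pw (.mul (.v (nat_lit 4)) (.v (nat_lit 5))) (nat_lit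 3)) .one) (.and (.not (.eq (.mul (.v (nat_lit 0)) (.v (nat_lit 2))) .one)) (.and (.not (.eq (.mul (.v (nat_lit 0)) (.mul (.v (nat_lit 2)) (.v (nat_lit 5)))) .one)) (.and (.not (.eq (.mul (.mul (.v (nat_lit 0)) (.v (nat_lit 4))) (.mul (.v (nat_lit 0)) (.v (nat_lit 2)))) .one)) (.and (.not (.eq (.mul (.mul (.v (nat_lit 0)) (.v (nat_lit 2))) (.inv (.mul (.v (nat_lit 0)) (.v (nat_lit 3))))) .one)) (.and (.eq (.mul (.mul (.v (nat_lit 0)) (.v (nat_lit 3))) (.mul (.v (nat_lit 0)) (.v (nat_lit 2)))) (.v (nat_lit 7))) (.not (.eq (.mul (.v (nat_lit 7)) (.v (nat_lit 9))) (.mul (.v (nat_lit 9)) (.v (nat_lit 7)))))))))))))))))))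
theorem NA_cox_chk : Fm.chk N9_o NA_cox_F NA_cs = true := by decide +kernel
theorem NA_cox {G : Type*} [Group G] {R : ℕ → G → Prop} {a b c d e u z x y v f k : G} {H : Subgroup G}
    (M : Mdl N9_o NA_cs N9_L R [a, b, c, d, e, u, z, x, y, v, f, k] H) :
    d * e * d = e * d * e ∧ e * u * e = u * e * u ∧ a * e = e * a ∧ b * e = e * b ∧ c * e = e * c ∧ e * e = 1 ∧ (d * e) ^ 3 = 1 ∧ (e * u) ^ 3 = 1 ∧ a * c ≠ 1 ∧ a * (c * u) ≠ 1 ∧ a * e * (a * c) ≠ 1 ∧ a * c * (a * d)⁻¹ ≠ 1 ∧ a * d * (a * c) = x ∧ x * v ≠ v * x :=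
  Fm.sound M.μ NA_cox_F NA_cox_chk M.reps
noncomputable def NA_nz8_f_F : Fm := (.qf (.and (.eq (.pw (.v (nat_lit 6)) (nat_lit 3)) .one) (.and (.eq (.mul (.mul (.v (nat_lit 0)) (.v (nat_lit 5))) (.mul (.v (nat_lit 0)) (.v (nat_lit 5)))) .one) (.and (.eq (.mul (.mul (.v (nat_lit 0)) (.v (nat_lit 4))) (.mul (.v (nat_lit 0)) (.v (nat_lit 4)))) .one) (.and (.eq (.mul (.mul (.v (nat_lit 0)) (.v (nat_lit 3))) (.mul (.v (nat_lit 0)) (.v (nat_lit 3)))) .one) (.and (.eq (.mul (.mul (.v (nat_lit 0)) (.v (nat_lit 2))) (.mul (.v (nat_lit 0)) (.v (nat_lit 2)))) .one) (.and (.eq (.pw (.mul (.mul (.v (nat_lit 0)) (.v (nat_lit 5))) (.mul (.v (nat_lit 0)) (.v (nat_lit 4)))) (nat_lit 3)) .one) (.and (.eq (.pw (.mul (.mul (.v (nat_lit 0)) (.v (nat_lit 4))) (.mul (.v (nat_lit 0)) (.v (nat_lit 3)))) (nat_lit 3)) .one) (.and (.eq (.pw (.mul (.mul (.v (nat_lit 0)) (.v (nat_lit 3))) (.mul (.v (nat_lit 0)) (.v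 (nat_lit 2)))) (nat_lit 3)) .one) (.and (.eq (.mul (.mul (.v (nat_lit 0)) (.v (nat_lit 5))) (.mul (.v (nat_lit 0)) (.v (nat_lit 3)))) (.mul (.mul (.v (nat_lit 0)) (.v (nat_lit 3))) (.mul (.v (nat_lit 0)) (.v (nat_lit 5))))) (.and (.eq (.mul (.mul (.v (nat_lit 0)) (.v (nat_lit 5))) (.mul (.v (nat_lit 0)) (.v (nat_lit 2)))) (.mul (.mul (.v (nat_lit 0)) (.v (nat_lit 2))) (.mul (.v (nat_lit 0)) (.v (nat_lit 5))))) (.and (.eq (.mul (.mul (.v (nat_lit 0)) (.v (nat_lit 4))) (.mul (.v (nat_lit 0)) (.v (nat_lit 2)))) (.mul (.mul (.v (nat_lit 0)) (.v (nat_lit 2))) (.mul (.v (nat_lit 0)) (.v (nat_lit 4))))) (.and (.eq (.mul (.mul (.mul (.v (nat_lit 0)) (.v (nat_lit 5))) (.v (nat_lit 6))) (.inv (.mul (.v (nat_lit 0)) (.v (nat_lit 5))))) (.inv (.v (nat_lit 6)))) (.and (.eq (.mul (.mul (.mul (.v (nat_lit 0)) (.v (nat_lit 4))) (.v (nat_lit 6))) (.inv (.mul (.v (nat_lit 0)) (.v (nat_lit 4))))) (.inv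 (.v (nat_lit 6)))) (.and (.eq (.mul (.mul (.mul (.v (nat_lit 0)) (.v (nat_lit 3))) (.v (nat_lit 6))) (.inv (.mul (.v (nat_lit 0)) (.v (nat_lit 3))))) (.inv (.v (nat_lit 6)))) (.eq (.mul (.mul (.mul (.v (nat_lit 0)) (.v (nat_lit 2))) (.v (nat_lit 6))) (.inv (.mul (.v (nat_lit 0)) (.v (nat_lit 2))))) (.inv (.v (nat_lit 6)))))))))))))))))))
theorem NA_nz8_f_chk : Fm.chk N9_o NA_nz8_f_F NA_cs = true := by decide +kernel
theorem NA_nz8_f {G : Type*} [Group G] {R : ℕ → G → Prop} {a b c d e u z x y v f k : G} {H : Subgroup G}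
    (M : Mdl N9_o NA_cs N9_L R [a, b, c, d, e, u, z, x, y, v, f, k] H) :
    z ^ 3 = 1 ∧ a * u * (a * u) = 1 ∧ a * e * (a * e) = 1 ∧ a * d * (a * d) = 1 ∧ a * c * (a * c) = 1 ∧ (a * u * (a * e)) ^ 3 = 1 ∧ (a * e * (a * d)) ^ 3 = 1 ∧ (a * d * (a * c)) ^ 3 = 1 ∧ a * u * (a * d) = a * d * (a * u) ∧ a * u * (a * c) = a * c * (a * u) ∧ a * e * (a * c) = a * c * (a * e) ∧ a * u * z * (a * u)⁻¹ = z⁻¹ ∧ a * e * z * (a * e)⁻¹ = z⁻¹ ∧ a * d * z * (a * d)⁻¹ = z⁻¹ ∧ a * c * z * (a * c)⁻¹ = z⁻¹ :=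
  Fm.sound M.μ NA_nz8_f_F NA_nz8_f_chk M.reps
theorem NA_nz8 {G : Type*} [Group G] {R : ℕ → G → Prop} {a b c d e u z x y v f k : G} {H : Subgroup G}
    (M : Mdl N9_o NA_cs N9_L R [a, b, c, d, e, u, z, x, y, v, f, k] H) :
    NZ z (a * u) (a * e) (a * d) (a * c) :=
  have h := NA_nz8_f M
  ⟨h.1, h.2.1, h.2.2.1, h.2.2.2.1, h.2.2.2.2.1, h.2.2.2.2.2.1, h.2.2.2.2.2.2.1, h.2.2.2.2.2.2.2.1, h.2.2.2.2.2.2.2.2.1, h.2.2.2.2.2.2.2.2.2.1, h.2.2.2.2.2.2.2.2.2.2.1, h.2.2.2.2.2.2.2.2.2.2.2.1, h.2.2.2.2.2.2.2.2.2.2.2.2.1, h.2.2.2.2.2.2.2.2.2.2.2.2.2.1, h.2.2.2.2.2.2.2.2.2.2.2.2.2.2, trivial⟩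
def A5r {G : Type*} [Group G] (x s v : G) : Prop :=
  x ^ 3 = 1 ∧
  s * s = 1 ∧
  v * v = 1 ∧
  s * v = v * s ∧
  s * x * s⁻¹ = x⁻¹ ∧
  (x * v) ^ 5 = 1 ∧
  (x * s * v) ^ 5 = 1 ∧ True
noncomputable def NA_a5_f_F : Fm := (.qf (.and (.eq (.pw (.v (nat_lit 7)) (nat_lit 3)) .one) (.and (.eq (.mul (.mul (.v (nat_lit 2)) (.v (nat_lit 5))) (.mul (.v (nat_lit 2)) (.v (nat_lit 5)))) .one) (.and (.eq (.mul (.v (nat_lit 9)) (.v (nat_lit 9))) .one) (.and (.eq (.mul (.mul (.v (nat_lit 2)) (.v (nat_lit 5))) (.v (nat_lit 9))) (.mul (.v (nat_lit 9)) (.mul (.v (nat_lit 2)) (.v (nat_lit 5))))) (.and (.eq (.mul (.mul (.mul (.v (nat_lit 2)) (.v (nat_lit 5))) (.v (nat_lit 7))) (.inv (.mul (.v (nat_lit 2)) (.v (nat_lit 5))))) (.inv (.v (nat_lit 7)))) (.and (.eq (.pw (.mul (.v (nat_lit 7)) (.v (nat_lit 9))) (nat_lit 5)) .one) (.eq (.pw (.mul (.mul (.v (nat_lit 7)) (.mul (.v (nat_lit 2)) (.v (nat_lit 5)))) (.v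 (nat_lit 9))) (nat_lit 5)) .one))))))))
theorem NA_a5_f_chk : Fm.chk N9_o NA_a5_f_F NA_cs = true := by decide +kernel
theorem NA_a5_f {G : Type*} [Group G] {R : ℕ → G → Prop} {a b c d e u z x y v f k : G} {H : Subgroup G}
    (M : Mdl N9_o NA_cs N9_L R [a, b, c, d, e, u, z, x, y, v, f, k] H) :
    x ^ 3 = 1 ∧ c * u * (c * u) = 1 ∧ v * v = 1 ∧ c * u * v = v * (c * u) ∧ c * u * x * (c * u)⁻¹ = x⁻¹ ∧ (x * v) ^ 5 = 1 ∧ (x * (c * u) * v) ^ 5 = 1 :=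
  Fm.sound M.μ NA_a5_f_F NA_a5_f_chk M.reps
theorem NA_a5 {G : Type*} [Group G] {R : ℕ → G → Prop} {a b c d e u z x y v f k : G} {H : Subgroup G}
    (M : Mdl N9_o NA_cs N9_L R [a, b, c, d, e, u, z, x, y, v, f, k] H) :
    A5r x (c * u) v :=
  have h := NA_a5_f M
  ⟨h.1, h.2.1, h.2.2.1, h.2.2.2.1, h.2.2.2.2.1, h.2.2.2.2.2.1, h.2.2.2.2.2.2, trivial⟩
noncomputable def A5r_Rl : List (List ℕ) := [[0,1],
  [1,0],
  [2,2],
  [3,3],
  [0,0,0],
  [3,2,3,2],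
  [0,2,0,2],
  [3,0,3,0,3,0,3,0,3,0],
  [3,2,0,3,2,0,3,2,0,3,2,0,3,2,0]]
theorem A5r_r {G : Type*} [Group G] {x s v : G}
    (h : A5r x s v) :
    Rels (nthG [x, x⁻¹, s, v]) A5r_Rl :=
  rels_of_eqs ((InvI.cons h.2.1 (InvI.cons h.2.2.1 InvI.nil)) : InvI [x, s, v] [(nat_lit 1), (nat_lit 2)])
    (show AllEq [x, s, v] [((.pw (.v (nat_lit 0)) (nat_lit 3)), .one), ((.mul (.v (nat_lit 1)) (.v (nat_lit 1))), .one), ((.mul (.v (nat_lit 2)) (.v (nat_lit 2))), .one), ((.mul (.v (nat_lit 1)) (.v (nat_lit 2))), (.mul (.v (nat_lit 2)) (.v (nat_lit 1)))), ((.mul (.mul (.v (nat_lit 1)) (.v (nat_lit 0))) (.inv (.v (nat_lit 1)))), (.inv (.v (nat_lit 0)))), ((.pw (.mul (.v (nat_lit 0)) (.v (nat_lit 2))) (nat_lit 5)), .one), ((.pw (.mul (.mul (.v (nat_lit 0)) (.v (nat_lit 1))) (.v (nat_lit 2))) (nat_lit 5)), .one)] from h)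
    [(.v (nat_lit 0)), (.inv (.v (nat_lit 0))), (.v (nat_lit 1)), (.v (nat_lit 2))] (by decide +kernel)
noncomputable abbrev A5r_o : Ops := pops (nat_lit 5) (nat_lit 3) (nat_lit 7) (nat_lit 18056)
noncomputable def A5r_cs : List ℕ := [(nat_lit 17937), (nat_lit 17986), (nat_lit 14465), (nat_lit 4259)]
noncomputable def A5r_b2_S0 : List ℕ := [nat_lit 0xb000008006004]
noncomputable def A5r_b2_S : List (List ℕ) := [A5r_b2_S0]
noncomputable def A5r_b2_defs : List ℕ := [(nat_lit 0x1000000000000000000000)]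
noncomputable def A5r_b2_recs : List ℕ := [(nat_lit 0x10000100002)]
noncomputable def A5r_b2_L0 : List ℕ := [nat_lit 0x700000100000b000002, nat_lit 0x2000002000008000000, nat_lit 0xc000000000001000001]
noncomputable def A5r_b2_L : List (List ℕ) := [A5r_b2_L0]
noncomputable def A5r_b2_V : List ℕ := [(nat_lit 0x20000000100000000)]
noncomputable def A5r_b2_D : H26.Dag := ⟨[1,0], [[0,1],
  [1,0],
  [0,0,0]], [], A5r_b2_defs, A5r_b2_recs⟩
theorem A5r_b2_c : A5r_b2_D.checkTab A5r_b2_S 3 2 A5r_b2_V A5r_b2_L = true := by decide +kernel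
theorem A5r_b2 : Bound A5r_Rl 2 3 :=
  bound_dag (Bound.zero A5r_Rl) (K := 2) (J := [0,1,4]) (by decide +kernel) A5r_b2_c (by decide +kernel)
noncomputable def A5r_b3_S0 : List ℕ := [nat_lit 0x1, nat_lit 0x7000001000008008006]
noncomputable def A5r_b3_S : List (List ℕ) := [A5r_b3_S0]
noncomputable def A5r_b3_defs : List ℕ := [(nat_lit 0x20000000000000)]
noncomputable def A5r_b3_recs : List ℕ := [(nat_lit 0x100001000000000000)]
noncomputable def A5r_b3_L0 : List ℕ := [nat_lit 0x1000000000002000000000007000001, nat_lit 0x5000001000006000001000008000000]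
noncomputable def A5r_b3_L : List (List ℕ) := [A5r_b3_L0]
noncomputable def A5r_b3_V : List ℕ := [(nat_lit 0x100000000)]
noncomputable def A5r_b3_D : H26.Dag := ⟨[1,0,2], [[0,1],
  [1,0],
  [2,2],
  [0,2,0,2]], [0,1], A5r_b3_defs, A5r_b3_recs⟩
theorem A5r_b3_c : A5r_b3_D.checkTab A5r_b3_S 2 3 A5r_b3_V A5r_b3_L = true := by decide +kernel
theorem A5r_b3 : Bound A5r_Rl 3 6 :=
  bound_dag A5r_b2 (K := 3) (J := [0,1,2,6]) (by decide +kernel) A5r_b3_c (by decide +kernel)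
noncomputable def A5r_b4_S0 : List ℕ := [nat_lit 0x1, nat_lit 0x1, nat_lit 0x700000500000800400a, nat_lit 0xf00000c006008, nat_lit 0xf00000900000c00a00c, nat_lit 0x1700001200001400400a, nat_lit 0x1f00001c006008, nat_lit 0x2300001600002000400c, nat_lit 0x2300001600001300000b00000900000700000100000500000800001000001200001400002000001d00c010, nat_lit 0x1d00002100001e00800a, nat_lit 0x27000024006008, nat_lit 0x2700001600001c00a00c, nat_lit 0x2700001700000f00000700000200000800000c00001400001c00600e]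
noncomputable def A5r_b4_S : List (List ℕ) := [A5r_b4_S0]
noncomputable def A5r_b4_defs : List ℕ := [(nat_lit 0x100005000000050010000400000004003000030030000200100001000000010030000000000000)]
noncomputable def A5r_b4_recs : List ℕ := [(nat_lit 0x30000600009020000600009010000800009030000700007030000800008020000700008010000600007020000400005020000200003010000200003020000100001020000000000000000000000)]
noncomputable def A5r_b4_L0 : List ℕ := [nat_lit 0x1000000000002000000000005000000000007000001, nat_lit 0xb00000200000f000003000009000001000008000000, nat_lit 0xe00000300000c000001000012000003000013000004, nat_lit 0x1000000100000d000002000011000002000017000005, nat_lit 0x1b00000600001f000007000016000005000014000002, nat_lit 0x23000008000027000009000015000004000018000003, nat_lit 0x1a00000700001c00000400002e000009000032000009, nat_lit 0x2000000400001900000600001e000008000025000007, nat_lit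 0x2a00000900002400000500001d000007000021000008, nat_lit 0x2800000500002900000800002d000006000031000006]
noncomputable def A5r_b4_L : List (List ℕ) := [A5r_b4_L0]
noncomputable def A5r_b4_V : List ℕ := [(nat_lit 0x9000000080000000700000006000000050000000400000003000000020000000100000000)]
noncomputable def A5r_b4_D : H26.Dag := ⟨[1,0,2,3], [[0,1],
  [1,0],
  [2,2],
  [3,3],
  [0,0,0],
  [3,2,3,2],
  [0,2,0,2],
  [3,0,3,0,3,0,3,0,3,0],
  [3,2,0,3,2,0,3,2,0,3,2,0,3,2,0]], [0,1,2], A5r_b4_defs, A5r_b4_recs⟩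
theorem A5r_b4_c : A5r_b4_D.checkTab A5r_b4_S 10 4 A5r_b4_V A5r_b4_L = true := by decide +kernel
theorem A5r_b4 : Bound A5r_Rl 4 60 :=
  bound_dag A5r_b3 (K := 4) (J := [0,1,2,3,4,5,6,7,8]) (by decide +kernel) A5r_b4_c (by decide +kernel)
theorem A5r_mdl {G : Type*} [Group G] {x s v : G}
    (h : A5r x s v)
    (n1 : x ≠ 1) :
    ∃ R, Md0 A5r_o A5r_cs R [x, x⁻¹, s, v] ∧ Nonempty (alternatingGroup (Fin 5) ≃* sp [x, x⁻¹, s, v]) :=
  mod_alt (d := (nat_lit 5)) (d' := 5) (n := 0) (w := (nat_lit 3)) (m := (nat_lit 7)) (e := (nat_lit 18056))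
    (cs := A5r_cs) rfl rfl (PkOK.of (by decide +kernel)) (by decide +kernel) (by decide +kernel) A5r_b4 (by decide)
    (Ws := [[],
  [(nat_lit 0)],
  [(nat_lit 2), (nat_lit 3), (nat_lit 0), (nat_lit 3)],
  [(nat_lit 2)]]) (by decide +kernel) rfl (A5r_r h) (k := 0) (by decide) n1

end H2.L3
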