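import Cfsg.Agent.H2.LD2g

/-! Generated: Sylow subgroups for the two configurations. -/

set_option maxRecDepth 100000
set_option maxHeartbeats 4000000
set_option linter.unusedVariables false

open Subgroup
open scoped commutatorElement
namespace H2.L3
open H0 H0.PM H16 H19 H10.X

noncomputable abbrev S8_o : Ops := pops (nat_lit 8) (nat_lit 3) (nat_lit 7) (nat_lit 0xfac688)
noncomputable def S8_cs : List ℕ := [(nat_lit 0xfac681), (nat_lit 0xfac650), (nat_lit 0xfac4c8), (nat_lit 0xfab888), (nat_lit 0xfa5688), (nat_lit 0xf74688), (nat_lit 0xdec688)]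
theorem S8_mdl : Md0 S8_o S8_cs (fun c (σ : Equiv.Perm (Fin 8)) => c = code (nat_lit 3) σ) [Equiv.swap 0 1, Equiv.swap 1 2, Equiv.swap 2 3, Equiv.swap 3 4, Equiv.swap 4 5, Equiv.swap 5 6, Equiv.swap 6 7] :=
  ⟨IsMod.perm (PkOK.of (by decide +kernel)), (List.Forall₂.cons (by decide +kernel) (List.Forall₂.cons (by decide +kernel) (List.Forall₂.cons (by decide +kernel) (List.Forall₂.cons (by decide +kernel) (List.Forall₂.cons (by decide +kernel) (List.Forall₂.cons (by decide +kernel) (List.Forall₂.cons (by decide +kernel) List.Forall₂.nil)))))))⟩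
noncomputable def SB_cs : List ℕ := [(nat_lit 0xfac681), (nat_lit 0xfac650), (nat_lit 0xfac4c8), (nat_lit 0xfab888), (nat_lit 0xfa5688), (nat_lit 0xf74688), (nat_lit 0xdec688), (nat_lit 0xf94748), (nat_lit 0xf8c62a), (nat_lit 0x8efc88), (nat_lit 0xab91a3), (nat_lit 0xf91163), (nat_lit 0xfac611), (nat_lit 0xfa54c8), (nat_lit 0xf74298), (nat_lit 0xfac298)]
theorem SB_ext {G : Type*} [Group G] {R : ℕ → G → Prop} {a b q c d e u : G}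
    (M : Md0 S8_o S8_cs R [a, b, q, c, d, e, u]) :
    ∃ r p v j w h g k l : G, Md0 S8_o SB_cs R [a, b, q, c, d, e, u, r, p, v, j, w, h, g, k, l] ∧ ∀ y_ ∈ [r, p, v, j, w, h, g, k, l], y_ ∈ sp [a, b, q, c, d, e, u] :=
  ⟨Tm.sem [a, b, q, c, d, e, u] (.mul (.mul (.mul (.mul (.v (nat_lit 2)) (.v (nat_lit 3))) (.v (nat_lit 4))) (.v (nat_lit 3))) (.v (nat_lit 2))), Tm.sem [a, b, q, c, d, e, u] (.mul (.mul (.mul (.mul (.mul (.mul (.mul (.v (nat_lit 1)) (.v (nat_lit 2))) (.v (nat_lit 3))) (.v (nat_lit 4))) (.v (nat_lit 3))) (.v (nat_lit 2))) (.v (nat_lit 0))) (.v (nat_lit 1))), Tm.sem [a, b, q, c, d, e, u] (.mul (.mul (.mul (.mul (.mul (.mul (.mul (.v (nat_lit 4)) (.v (nat_lit 5))) (.v (nat_lit 6))) (.v (nat_lit 3))) (.v (nat_lit 4))) (.v (nat_lit 5))) (.v (nat_lit 3))) (.v (nat_lit 4))), Tm.sem [a, b, q, c, d, e, u] (.mul (.mul (.mul (.mul (.mul (.mul (.mul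 (.mul (.mul (.mul (.mul (.v (nat_lit 5)) (.v (nat_lit 6))) (.v (nat_lit 2))) (.v (nat_lit 3))) (.v (nat_lit 4))) (.v (nat_lit 5))) (.v (nat_lit 1))) (.v (nat_lit 2))) (.v (nat_lit 3))) (.v (nat_lit 0))) (.v (nat_lit 1))) (.v (nat_lit 2))), Tm.sem [a, b, q, c, d, e, u] (.mul (.mul (.mul (.mul (.mul (.mul (.mul (.mul (.v (nat_lit 2)) (.v (nat_lit 3))) (.v (nat_lit 4))) (.v (nat_lit 1))) (.v (nat_lit 2))) (.v (nat_lit 3))) (.v (nat_lit 0))) (.v (nat_lit 1))) (.v (nat_lit 2))), Tm.sem [a, b, q, c, d, e, u] (.mul (.v (nat_lit 0)) (.v (nat_lit 1))), Tm.sem [a, b, q, c, d, e, u] (.mul (.v (nat_lit 4)) (.v (nat_lit 2))), Tm.sem [a, b, q, c, d, e, u] (.mul (.mul (.mul (.v (nat_lit 5)) (.v (nat_lit 1))) (.v (nat_lit 2))) (.v (nat_lit 1))), Tm.sem [a, b, q, c, d, e, u] (.mul (.mul (.v (nat_lit 1)) (.v (nat_lit 2))) (.v (nat_lit 1))), ⟨M.μ, M.reps.tms M.μ.1 [(.v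 (nat_lit 0)), (.v (nat_lit 1)), (.v (nat_lit 2)), (.v (nat_lit 3)), (.v (nat_lit 4)), (.v (nat_lit 5)), (.v (nat_lit 6)), (.mul (.mul (.mul (.mul (.v (nat_lit 2)) (.v (nat_lit 3))) (.v (nat_lit 4))) (.v (nat_lit 3))) (.v (nat_lit 2))), (.mul (.mul (.mul (.mul (.mul (.mul (.mul (.v (nat_lit 1)) (.v (nat_lit 2))) (.v (nat_lit 3))) (.v (nat_lit 4))) (.v (nat_lit 3))) (.v (nat_lit 2))) (.v (nat_lit 0))) (.v (nat_lit 1))), (.mul (.mul (.mul (.mul (.mul (.mul (.mul (.v (nat_lit 4)) (.v (nat_lit 5))) (.v (nat_lit 6))) (.v (nat_lit 3))) (.v (nat_lit 4))) (.v (nat_lit 5))) (.v (nat_lit 3))) (.v (nat_lit 4))), (.mul (.mul (.mul (.mul (.mul (.mul (.mul (.mul (.mul (.mul (.mul (.v (nat_lit 5)) (.v (nat_lit 6))) (.v (nat_lit 2))) (.v (nat_lit 3))) (.v (nat_lit 4))) (.v (nat_lit 5))) (.v (nat_lit 1))) (.v (nat_lit 2))) (.v (nat_lit 3))) (.v (nat_lit 0))) (.v (nat_lit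 1))) (.v (nat_lit 2))), (.mul (.mul (.mul (.mul (.mul (.mul (.mul (.mul (.v (nat_lit 2)) (.v (nat_lit 3))) (.v (nat_lit 4))) (.v (nat_lit 1))) (.v (nat_lit 2))) (.v (nat_lit 3))) (.v (nat_lit 0))) (.v (nat_lit 1))) (.v (nat_lit 2))), (.mul (.v (nat_lit 0)) (.v (nat_lit 1))), (.mul (.v (nat_lit 4)) (.v (nat_lit 2))), (.mul (.mul (.mul (.v (nat_lit 5)) (.v (nat_lit 1))) (.v (nat_lit 2))) (.v (nat_lit 1))), (.mul (.mul (.v (nat_lit 1)) (.v (nat_lit 2))) (.v (nat_lit 1)))] (cs' := SB_cs) (by decide +kernel)⟩,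
    tms_mem (xs := [a, b, q, c, d, e, u]) (fun _ => mem_sp) [(.mul (.mul (.mul (.mul (.v (nat_lit 2)) (.v (nat_lit 3))) (.v (nat_lit 4))) (.v (nat_lit 3))) (.v (nat_lit 2))), (.mul (.mul (.mul (.mul (.mul (.mul (.mul (.v (nat_lit 1)) (.v (nat_lit 2))) (.v (nat_lit 3))) (.v (nat_lit 4))) (.v (nat_lit 3))) (.v (nat_lit 2))) (.v (nat_lit 0))) (.v (nat_lit 1))), (.mul (.mul (.mul (.mul (.mul (.mul (.mul (.v (nat_lit 4)) (.v (nat_lit 5))) (.v (nat_lit 6))) (.v (nat_lit 3))) (.v (nat_lit 4))) (.v (nat_lit 5))) (.v (nat_lit 3))) (.v (nat_lit 4))), (.mul (.mul (.mul (.mul (.mul (.mul (.mul (.mul (.mul (.mul (.mul (.v (nat_lit 5)) (.v (nat_lit 6))) (.v (nat_lit 2))) (.v (nat_lit 3))) (.v (nat_lit 4))) (.v (nat_lit 5))) (.v (nat_lit 1))) (.v (nat_lit 2))) (.v (nat_lit 3))) (.v (nat_lit 0))) (.v (nat_lit 1))) (.v (nat_lit 2))), (.mul (.mul (.mul (.mul (.mul (.mul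 (.mul (.mul (.v (nat_lit 2)) (.v (nat_lit 3))) (.v (nat_lit 4))) (.v (nat_lit 1))) (.v (nat_lit 2))) (.v (nat_lit 3))) (.v (nat_lit 0))) (.v (nat_lit 1))) (.v (nat_lit 2))), (.mul (.v (nat_lit 0)) (.v (nat_lit 1))), (.mul (.v (nat_lit 4)) (.v (nat_lit 2))), (.mul (.mul (.mul (.v (nat_lit 5)) (.v (nat_lit 1))) (.v (nat_lit 2))) (.v (nat_lit 1))), (.mul (.mul (.v (nat_lit 1)) (.v (nat_lit 2))) (.v (nat_lit 1)))]⟩
noncomputable def SB_lT : List ℕ := [(nat_lit 0xfac688), (nat_lit 0xfac681), (nat_lit 0xf94748), (nat_lit 0xfab888), (nat_lit 0xdec688), (nat_lit 0xf8c62a), (nat_lit 0x8efc88), (nat_lit 0xab91a3), (nat_lit 0xf94741), (nat_lit 0xfab881), (nat_lit 0xdec681), (nat_lit 0xf8c615), (nat_lit 0x8efc81), (nat_lit 0xab919c), (nat_lit 0xf93948), (nat_lit 0xdd4748), (nat_lit 0xf8466a), (nat_lit 0x8d7d48), (nat_lit 0xab11e3), (nat_lit 0xdeb888), (nat_lit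 0xf8b82a), (nat_lit 0x8eee88), (nat_lit 0xab83a3), (nat_lit 0xdcc62a), (nat_lit 0x72fc88), (nat_lit 0x5791a3), (nat_lit 0x8cfc2a), (nat_lit 0xaa10fe), (nat_lit 0x23d5a3), (nat_lit 0xf93941), (nat_lit 0xdd4741), (nat_lit 0xf84655), (nat_lit 0x8d7d41), (nat_lit 0xab11dc), (nat_lit 0xdeb881), (nat_lit 0xf8b815), (nat_lit 0x8eee81), (nat_lit 0xab839c), (nat_lit 0xdcc615), (nat_lit 0x72fc81), (nat_lit 0x57919c), (nat_lit 0x8cfc15), (nat_lit 0xaa10f7), (nat_lit 0x23d59c), (nat_lit 0xdd3948), (nat_lit 0xf8386a), (nat_lit 0x8d6f48), (nat_lit 0xab03e3), (nat_lit 0xdc466a), (nat_lit 0x717d48), (nat_lit 0x5711e3), (nat_lit 0x8c7c6a), (nat_lit 0xa9913e), (nat_lit 0x2355e3), (nat_lit 0xdcb82a), (nat_lit 0x72ee88), (nat_lit 0x5783a3), (nat_lit 0x8cee2a), (nat_lit 0xaa02fe), (nat_lit 0x23aba3), (nat_lit 0x70fc2a), (nat_lit 0x5610fe), (nat_lit 513443), (nat_lit 0x2254fe),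 (nat_lit 0xdd3941), (nat_lit 0xf83855), (nat_lit 0x8d6f41), (nat_lit 0xab03dc), (nat_lit 0xdc4655), (nat_lit 0x717d41), (nat_lit 0x5711dc), (nat_lit 0x8c7c55), (nat_lit 0xa99137), (nat_lit 0x2355dc), (nat_lit 0xdcb815), (nat_lit 0x72ee81), (nat_lit 0x57839c), (nat_lit 0x8cee15), (nat_lit 0xaa02f7), (nat_lit 0x23ab9c), (nat_lit 0x70fc15), (nat_lit 0x5610f7), (nat_lit 513436), (nat_lit 0x2254f7), (nat_lit 0xdc386a), (nat_lit 0x716f48), (nat_lit 0x5703e3), (nat_lit 0x8c6e6a), (nat_lit 0xa9833e), (nat_lit 0x232be3), (nat_lit 0x707c6a), (nat_lit 0x55913e), (nat_lit 480739), (nat_lit 0x21d53e), (nat_lit 0x70ee2a), (nat_lit 0x5602fe), (nat_lit 502691), (nat_lit 0x222afe), (nat_lit 414974), (nat_lit 0xdc3855), (nat_lit 0x716f41), (nat_lit 0x5703dc), (nat_lit 0x8c6e55), (nat_lit 0xa98337), (nat_lit 0x232bdc), (nat_lit 0x707c55), (nat_lit 0x559137), (nat_lit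 480732), (nat_lit 0x21d537), (nat_lit 0x70ee15), (nat_lit 0x5602f7), (nat_lit 502684), (nat_lit 0x222af7), (nat_lit 414967), (nat_lit 0x706e6a), (nat_lit 0x55833e), (nat_lit 469987), (nat_lit 0x21ab3e), (nat_lit 382270), (nat_lit 404222), (nat_lit 0x706e55), (nat_lit 0x558337), (nat_lit 469980), (nat_lit 0x21ab37), (nat_lit 382263), (nat_lit 404215), (nat_lit 371518), (nat_lit 371511)]
noncomputable def SB_lT_W : List (List ℕ) := [[],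
  [(nat_lit 0)],
  [(nat_lit 1)],
  [(nat_lit 2)],
  [(nat_lit 3)],
  [(nat_lit 4)],
  [(nat_lit 5)],
  [(nat_lit 6)],
  [(nat_lit 0), (nat_lit 1)],
  [(nat_lit 0), (nat_lit 2)],
  [(nat_lit 0), (nat_lit 3)],
  [(nat_lit 0), (nat_lit 4)],
  [(nat_lit 0), (nat_lit 5)],
  [(nat_lit 0), (nat_lit 6)],
  [(nat_lit 1), (nat_lit 2)],
  [(nat_lit 1), (nat_lit 3)],
  [(nat_lit 1), (nat_lit 4)],
  [(nat_lit 1), (nat_lit 5)],
  [(nat_lit 1), (nat_lit 6)],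
  [(nat_lit 2), (nat_lit 3)],
  [(nat_lit 2), (nat_lit 4)],
  [(nat_lit 2), (nat_lit 5)],
  [(nat_lit 2), (nat_lit 6)],
  [(nat_lit 3), (nat_lit 4)],
  [(nat_lit 3), (nat_lit 5)],
  [(nat_lit 3), (nat_lit 6)],
  [(nat_lit 4), (nat_lit 5)],
  [(nat_lit 4), (nat_lit 6)],
  [(nat_lit 5), (nat_lit 6)],
  [(nat_lit 0), (nat_lit 1), (nat_lit 2)],
  [(nat_lit 0), (nat_lit 1), (nat_lit 3)],
  [(nat_lit 0), (nat_lit 1), (nat_lit 4)],
  [(nat_lit 0), (nat_lit 1), (nat_lit 5)],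
  [(nat_lit 0), (nat_lit 1), (nat_lit 6)],
  [(nat_lit 0), (nat_lit 2), (nat_lit 3)],
  [(nat_lit 0), (nat_lit 2), (nat_lit 4)],
  [(nat_lit 0), (nat_lit 2), (nat_lit 5)],
  [(nat_lit 0), (nat_lit 2), (nat_lit 6)],
  [(nat_lit 0), (nat_lit 3), (nat_lit 4)],
  [(nat_lit 0), (nat_lit 3), (nat_lit 5)],
  [(nat_lit 0), (nat_lit 3), (nat_lit 6)],
  [(nat_lit 0), (nat_lit 4), (nat_lit 5)],
  [(nat_lit 0), (nat_lit 4), (nat_lit 6)],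
  [(nat_lit 0), (nat_lit 5), (nat_lit 6)],
  [(nat_lit 1), (nat_lit 2), (nat_lit 3)],
  [(nat_lit 1), (nat_lit 2), (nat_lit 4)],
  [(nat_lit 1), (nat_lit 2), (nat_lit 5)],
  [(nat_lit 1), (nat_lit 2), (nat_lit 6)],
  [(nat_lit 1), (nat_lit 3), (nat_lit 4)],
  [(nat_lit 1), (nat_lit 3), (nat_lit 5)],
  [(nat_lit 1), (nat_lit 3), (nat_lit 6)],
  [(nat_lit 1), (nat_lit 4), (nat_lit 5)],
  [(nat_lit 1), (nat_lit 4), (nat_lit 6)],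
  [(nat_lit 1), (nat_lit 5), (nat_lit 6)],
  [(nat_lit 2), (nat_lit 3), (nat_lit 4)],
  [(nat_lit 2), (nat_lit 3), (nat_lit 5)],
  [(nat_lit 2), (nat_lit 3), (nat_lit 6)],
  [(nat_lit 2), (nat_lit 4), (nat_lit 5)],
  [(nat_lit 2), (nat_lit 4), (nat_lit 6)],
  [(nat_lit 2), (nat_lit 5), (nat_lit 6)],
  [(nat_lit 3), (nat_lit 4), (nat_lit 5)],
  [(nat_lit 3), (nat_lit 4), (nat_lit 6)],
  [(nat_lit 3), (nat_lit 5), (nat_lit 6)],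
  [(nat_lit 4), (nat_lit 5), (nat_lit 6)],
  [(nat_lit 0), (nat_lit 1), (nat_lit 2), (nat_lit 3)],
  [(nat_lit 0), (nat_lit 1), (nat_lit 2), (nat_lit 4)],
  [(nat_lit 0), (nat_lit 1), (nat_lit 2), (nat_lit 5)],
  [(nat_lit 0), (nat_lit 1), (nat_lit 2), (nat_lit 6)],
  [(nat_lit 0), (nat_lit 1), (nat_lit 3), (nat_lit 4)],
  [(nat_lit 0), (nat_lit 1), (nat_lit 3), (nat_lit 5)],
  [(nat_lit 0), (nat_lit 1), (nat_lit 3), (nat_lit 6)],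
  [(nat_lit 0), (nat_lit 1), (nat_lit 4), (nat_lit 5)],
  [(nat_lit 0), (nat_lit 1), (nat_lit 4), (nat_lit 6)],
  [(nat_lit 0), (nat_lit 1), (nat_lit 5), (nat_lit 6)],
  [(nat_lit 0), (nat_lit 2), (nat_lit 3), (nat_lit 4)],
  [(nat_lit 0), (nat_lit 2), (nat_lit 3), (nat_lit 5)],
  [(nat_lit 0), (nat_lit 2), (nat_lit 3), (nat_lit 6)],
  [(nat_lit 0), (nat_lit 2), (nat_lit 4), (nat_lit 5)],
  [(nat_lit 0), (nat_lit 2), (nat_lit 4), (nat_lit 6)],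
  [(nat_lit 0), (nat_lit 2), (nat_lit 5), (nat_lit 6)],
  [(nat_lit 0), (nat_lit 3), (nat_lit 4), (nat_lit 5)],
  [(nat_lit 0), (nat_lit 3), (nat_lit 4), (nat_lit 6)],
  [(nat_lit 0), (nat_lit 3), (nat_lit 5), (nat_lit 6)],
  [(nat_lit 0), (nat_lit 4), (nat_lit 5), (nat_lit 6)],
  [(nat_lit 1), (nat_lit 2), (nat_lit 3), (nat_lit 4)],
  [(nat_lit 1), (nat_lit 2), (nat_lit 3), (nat_lit 5)],
  [(nat_lit 1), (nat_lit 2), (nat_lit 3), (nat_lit 6)],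
  [(nat_lit 1), (nat_lit 2), (nat_lit 4), (nat_lit 5)],
  [(nat_lit 1), (nat_lit 2), (nat_lit 4), (nat_lit 6)],
  [(nat_lit 1), (nat_lit 2), (nat_lit 5), (nat_lit 6)],
  [(nat_lit 1), (nat_lit 3), (nat_lit 4), (nat_lit 5)],
  [(nat_lit 1), (nat_lit 3), (nat_lit 4), (nat_lit 6)],
  [(nat_lit 1), (nat_lit 3), (nat_lit 5), (nat_lit 6)],
  [(nat_lit 1), (nat_lit 4), (nat_lit 5), (nat_lit 6)],
  [(nat_lit 2), (nat_lit 3), (nat_lit 4), (nat_lit 5)],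
  [(nat_lit 2), (nat_lit 3), (nat_lit 4), (nat_lit 6)],
  [(nat_lit 2), (nat_lit 3), (nat_lit 5), (nat_lit 6)],
  [(nat_lit 2), (nat_lit 4), (nat_lit 5), (nat_lit 6)],
  [(nat_lit 3), (nat_lit 4), (nat_lit 5), (nat_lit 6)],
  [(nat_lit 0), (nat_lit 1), (nat_lit 2), (nat_lit 3), (nat_lit 4)],
  [(nat_lit 0), (nat_lit 1), (nat_lit 2), (nat_lit 3), (nat_lit 5)],
  [(nat_lit 0), (nat_lit 1), (nat_lit 2), (nat_lit 3), (nat_lit 6)],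
  [(nat_lit 0), (nat_lit 1), (nat_lit 2), (nat_lit 4), (nat_lit 5)],
  [(nat_lit 0), (nat_lit 1), (nat_lit 2), (nat_lit 4), (nat_lit 6)],
  [(nat_lit 0), (nat_lit 1), (nat_lit 2), (nat_lit 5), (nat_lit 6)],
  [(nat_lit 0), (nat_lit 1), (nat_lit 3), (nat_lit 4), (nat_lit 5)],
  [(nat_lit 0), (nat_lit 1), (nat_lit 3), (nat_lit 4), (nat_lit 6)],
  [(nat_lit 0), (nat_lit 1), (nat_lit 3), (nat_lit 5), (nat_lit 6)],
  [(nat_lit 0), (nat_lit 1), (nat_lit 4), (nat_lit 5), (nat_lit 6)],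
  [(nat_lit 0), (nat_lit 2), (nat_lit 3), (nat_lit 4), (nat_lit 5)],
  [(nat_lit 0), (nat_lit 2), (nat_lit 3), (nat_lit 4), (nat_lit 6)],
  [(nat_lit 0), (nat_lit 2), (nat_lit 3), (nat_lit 5), (nat_lit 6)],
  [(nat_lit 0), (nat_lit 2), (nat_lit 4), (nat_lit 5), (nat_lit 6)],
  [(nat_lit 0), (nat_lit 3), (nat_lit 4), (nat_lit 5), (nat_lit 6)],
  [(nat_lit 1), (nat_lit 2), (nat_lit 3), (nat_lit 4), (nat_lit 5)],
  [(nat_lit 1), (nat_lit 2), (nat_lit 3), (nat_lit 4), (nat_lit 6)],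
  [(nat_lit 1), (nat_lit 2), (nat_lit 3), (nat_lit 5), (nat_lit 6)],
  [(nat_lit 1), (nat_lit 2), (nat_lit 4), (nat_lit 5), (nat_lit 6)],
  [(nat_lit 1), (nat_lit 3), (nat_lit 4), (nat_lit 5), (nat_lit 6)],
  [(nat_lit 2), (nat_lit 3), (nat_lit 4), (nat_lit 5), (nat_lit 6)],
  [(nat_lit 0), (nat_lit 1), (nat_lit 2), (nat_lit 3), (nat_lit 4), (nat_lit 5)],
  [(nat_lit 0), (nat_lit 1), (nat_lit 2), (nat_lit 3), (nat_lit 4), (nat_lit 6)],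
  [(nat_lit 0), (nat_lit 1), (nat_lit 2), (nat_lit 3), (nat_lit 5), (nat_lit 6)],
  [(nat_lit 0), (nat_lit 1), (nat_lit 2), (nat_lit 4), (nat_lit 5), (nat_lit 6)],
  [(nat_lit 0), (nat_lit 1), (nat_lit 3), (nat_lit 4), (nat_lit 5), (nat_lit 6)],
  [(nat_lit 0), (nat_lit 2), (nat_lit 3), (nat_lit 4), (nat_lit 5), (nat_lit 6)],
  [(nat_lit 1), (nat_lit 2), (nat_lit 3), (nat_lit 4), (nat_lit 5), (nat_lit 6)],
  [(nat_lit 0), (nat_lit 1), (nat_lit 2), (nat_lit 3), (nat_lit 4), (nat_lit 5), (nat_lit 6)]]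
noncomputable def SB_lT_h (c : ℕ) : ℕ := Nat.mod c (nat_lit 984)
theorem SB_lT_E {G : Type*} [Group G] {R : ℕ → G → Prop} {a b q c d e u r p v j w h g k l : G}
    (M : Md0 S8_o SB_cs R [a, b, q, c, d, e, u, r, p, v, j, w, h, g, k, l]) :
    EnumS R SB_lT (sp [a, r, c, u, p, v, j]) :=
  enumS_sp M.μ.1 (M.reps.tms M.μ.1 [(.v (nat_lit 0)), (.v (nat_lit 7)), (.v (nat_lit 3)), (.v (nat_lit 6)), (.v (nat_lit 8)), (.v (nat_lit 9)), (.v (nat_lit 10))] (cs' := [(nat_lit 0xfac681), (nat_lit 0xf94748), (nat_lit 0xfab888), (nat_lit 0xdec688), (nat_lit 0xf8c62a), (nat_lit 0x8efc88), (nat_lit 0xab91a3)]) (by decide +kernel))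
    (Ws := SB_lT_W) (by decide +kernel) (by decide +kernel)
theorem SB_lT_c {G : Type*} [Group G] {R : ℕ → G → Prop} {a b q c d e u r p v j w h g k l : G}
    (M : Md0 S8_o SB_cs R [a, b, q, c, d, e, u, r, p, v, j, w, h, g, k, l]) :
    #(sp [a, r, c, u, p, v, j]) = 128 :=
  (SB_lT_E M).card M.μ (h := SB_lT_h) (by decide +kernel)
noncomputable def SB_lS : List ℕ := [(nat_lit 0xfac688), (nat_lit 0xfac681), (nat_lit 0xf94748), (nat_lit 0xfab888), (nat_lit 0xdec688), (nat_lit 0xf8c62a), (nat_lit 0xf94741), (nat_lit 0xfab881), (nat_lit 0xdec681), (nat_lit 0xf8c615), (nat_lit 0xf93948), (nat_lit 0xdd4748), (nat_lit 0xf8466a), (nat_lit 0xdeb888), (nat_lit 0xf8b82a), (nat_lit 0xdcc62a), (nat_lit 0xf93941), (nat_lit 0xdd4741), (nat_lit 0xf84655), (nat_lit 0xdeb881), (nat_lit 0xf8b815), (nat_lit 0xdcc615), (nat_lit 0xdd3948), (nat_lit 0xf8386a), (nat_lit 0xdc466a),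 (nat_lit 0xdcb82a), (nat_lit 0xdd3941), (nat_lit 0xf83855), (nat_lit 0xdc4655), (nat_lit 0xdcb815), (nat_lit 0xdc386a), (nat_lit 0xdc3855)]
noncomputable def SB_lS_W : List (List ℕ) := [[],
  [(nat_lit 0)],
  [(nat_lit 1)],
  [(nat_lit 2)],
  [(nat_lit 3)],
  [(nat_lit 4)],
  [(nat_lit 0), (nat_lit 1)],
  [(nat_lit 0), (nat_lit 2)],
  [(nat_lit 0), (nat_lit 3)],
  [(nat_lit 0), (nat_lit 4)],
  [(nat_lit 1), (nat_lit 2)],
  [(nat_lit 1), (nat_lit 3)],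
  [(nat_lit 1), (nat_lit 4)],
  [(nat_lit 2), (nat_lit 3)],
  [(nat_lit 2), (nat_lit 4)],
  [(nat_lit 3), (nat_lit 4)],
  [(nat_lit 0), (nat_lit 1), (nat_lit 2)],
  [(nat_lit 0), (nat_lit 1), (nat_lit 3)],
  [(nat_lit 0), (nat_lit 1), (nat_lit 4)],
  [(nat_lit 0), (nat_lit 2), (nat_lit 3)],
  [(nat_lit 0), (nat_lit 2), (nat_lit 4)],
  [(nat_lit 0), (nat_lit 3), (nat_lit 4)],
  [(nat_lit 1), (nat_lit 2), (nat_lit 3)],
  [(nat_lit 1), (nat_lit 2), (nat_lit 4)],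
  [(nat_lit 1), (nat_lit 3), (nat_lit 4)],
  [(nat_lit 2), (nat_lit 3), (nat_lit 4)],
  [(nat_lit 0), (nat_lit 1), (nat_lit 2), (nat_lit 3)],
  [(nat_lit 0), (nat_lit 1), (nat_lit 2), (nat_lit 4)],
  [(nat_lit 0), (nat_lit 1), (nat_lit 3), (nat_lit 4)],
  [(nat_lit 0), (nat_lit 2), (nat_lit 3), (nat_lit 4)],
  [(nat_lit 1), (nat_lit 2), (nat_lit 3), (nat_lit 4)],
  [(nat_lit 0), (nat_lit 1), (nat_lit 2), (nat_lit 3), (nat_lit 4)]]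
noncomputable def SB_lS_h (c : ℕ) : ℕ := Nat.mod c (nat_lit 82)
theorem SB_lS_E {G : Type*} [Group G] {R : ℕ → G → Prop} {a b q c d e u r p v j w h g k l : G}
    (M : Md0 S8_o SB_cs R [a, b, q, c, d, e, u, r, p, v, j, w, h, g, k, l]) :
    EnumS R SB_lS (sp [a, r, c, u, p]) :=
  enumS_sp M.μ.1 (M.reps.tms M.μ.1 [(.v (nat_lit 0)), (.v (nat_lit 7)), (.v (nat_lit 3)), (.v (nat_lit 6)), (.v (nat_lit 8))] (cs' := [(nat_lit 0xfac681), (nat_lit 0xf94748), (nat_lit 0xfab888), (nat_lit 0xdec688), (nat_lit 0xf8c62a)]) (by decide +kernel))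
    (Ws := SB_lS_W) (by decide +kernel) (by decide +kernel)
theorem SB_lS_c {G : Type*} [Group G] {R : ℕ → G → Prop} {a b q c d e u r p v j w h g k l : G}
    (M : Md0 S8_o SB_cs R [a, b, q, c, d, e, u, r, p, v, j, w, h, g, k, l]) :
    #(sp [a, r, c, u, p]) = 32 :=
  (SB_lS_E M).card M.μ (h := SB_lS_h) (by decide +kernel)
noncomputable def SB_lU : List ℕ := [(nat_lit 0xfac688), (nat_lit 0xfac681), (nat_lit 0xf94748), (nat_lit 0xfab888), (nat_lit 0xdec688), (nat_lit 0xf8c62a), (nat_lit 0x8efc88), (nat_lit 0xf94741), (nat_lit 0xfab881), (nat_lit 0xdec681), (nat_lit 0xf8c615), (nat_lit 0x8efc81), (nat_lit 0xf93948), (nat_lit 0xdd4748), (nat_lit 0xf8466a), (nat_lit 0x8d7d48), (nat_lit 0xdeb888), (nat_lit 0xf8b82a), (nat_lit 0x8eee88), (nat_lit 0xdcc62a), (nat_lit 0x72fc88), (nat_lit 0x8cfc2a), (nat_lit 0xf93941), (nat_lit 0xdd4741), (nat_lit 0xf84655),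 (nat_lit 0x8d7d41), (nat_lit 0xdeb881), (nat_lit 0xf8b815), (nat_lit 0x8eee81), (nat_lit 0xdcc615), (nat_lit 0x72fc81), (nat_lit 0x8cfc15), (nat_lit 0xdd3948), (nat_lit 0xf8386a), (nat_lit 0x8d6f48), (nat_lit 0xdc466a), (nat_lit 0x717d48), (nat_lit 0x8c7c6a), (nat_lit 0xdcb82a), (nat_lit 0x72ee88), (nat_lit 0x8cee2a), (nat_lit 0x70fc2a), (nat_lit 0xdd3941), (nat_lit 0xf83855), (nat_lit 0x8d6f41), (nat_lit 0xdc4655), (nat_lit 0x717d41), (nat_lit 0x8c7c55), (nat_lit 0xdcb815), (nat_lit 0x72ee81), (nat_lit 0x8cee15), (nat_lit 0x70fc15), (nat_lit 0xdc386a), (nat_lit 0x716f48), (nat_lit 0x8c6e6a), (nat_lit 0x707c6a), (nat_lit 0x70ee2a), (nat_lit 0xdc3855), (nat_lit 0x716f41), (nat_lit 0x8c6e55), (nat_lit 0x707c55), (nat_lit 0x70ee15), (nat_lit 0x706e6a), (nat_lit 0x706e55)]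
noncomputable def SB_lU_W : List (List ℕ) := [[],
  [(nat_lit 0)],
  [(nat_lit 1)],
  [(nat_lit 2)],
  [(nat_lit 3)],
  [(nat_lit 4)],
  [(nat_lit 5)],
  [(nat_lit 0), (nat_lit 1)],
  [(nat_lit 0), (nat_lit 2)],
  [(nat_lit 0), (nat_lit 3)],
  [(nat_lit 0), (nat_lit 4)],
  [(nat_lit 0), (nat_lit 5)],
  [(nat_lit 1), (nat_lit 2)],
  [(nat_lit 1), (nat_lit 3)],
  [(nat_lit 1), (nat_lit 4)],
  [(nat_lit 1), (nat_lit 5)],
  [(nat_lit 2), (nat_lit 3)],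
  [(nat_lit 2), (nat_lit 4)],
  [(nat_lit 2), (nat_lit 5)],
  [(nat_lit 3), (nat_lit 4)],
  [(nat_lit 3), (nat_lit 5)],
  [(nat_lit 4), (nat_lit 5)],
  [(nat_lit 0), (nat_lit 1), (nat_lit 2)],
  [(nat_lit 0), (nat_lit 1), (nat_lit 3)],
  [(nat_lit 0), (nat_lit 1), (nat_lit 4)],
  [(nat_lit 0), (nat_lit 1), (nat_lit 5)],
  [(nat_lit 0), (nat_lit 2), (nat_lit 3)],
  [(nat_lit 0), (nat_lit 2), (nat_lit 4)],
  [(nat_lit 0), (nat_lit 2), (nat_lit 5)],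
  [(nat_lit 0), (nat_lit 3), (nat_lit 4)],
  [(nat_lit 0), (nat_lit 3), (nat_lit 5)],
  [(nat_lit 0), (nat_lit 4), (nat_lit 5)],
  [(nat_lit 1), (nat_lit 2), (nat_lit 3)],
  [(nat_lit 1), (nat_lit 2), (nat_lit 4)],
  [(nat_lit 1), (nat_lit 2), (nat_lit 5)],
  [(nat_lit 1), (nat_lit 3), (nat_lit 4)],
  [(nat_lit 1), (nat_lit 3), (nat_lit 5)],
  [(nat_lit 1), (nat_lit 4), (nat_lit 5)],
  [(nat_lit 2), (nat_lit 3), (nat_lit 4)],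
  [(nat_lit 2), (nat_lit 3), (nat_lit 5)],
  [(nat_lit 2), (nat_lit 4), (nat_lit 5)],
  [(nat_lit 3), (nat_lit 4), (nat_lit 5)],
  [(nat_lit 0), (nat_lit 1), (nat_lit 2), (nat_lit 3)],
  [(nat_lit 0), (nat_lit 1), (nat_lit 2), (nat_lit 4)],
  [(nat_lit 0), (nat_lit 1), (nat_lit 2), (nat_lit 5)],
  [(nat_lit 0), (nat_lit 1), (nat_lit 3), (nat_lit 4)],
  [(nat_lit 0), (nat_lit 1), (nat_lit 3), (nat_lit 5)],
  [(nat_lit 0), (nat_lit 1), (nat_lit 4), (nat_lit 5)],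
  [(nat_lit 0), (nat_lit 2), (nat_lit 3), (nat_lit 4)],
  [(nat_lit 0), (nat_lit 2), (nat_lit 3), (nat_lit 5)],
  [(nat_lit 0), (nat_lit 2), (nat_lit 4), (nat_lit 5)],
  [(nat_lit 0), (nat_lit 3), (nat_lit 4), (nat_lit 5)],
  [(nat_lit 1), (nat_lit 2), (nat_lit 3), (nat_lit 4)],
  [(nat_lit 1), (nat_lit 2), (nat_lit 3), (nat_lit 5)],
  [(nat_lit 1), (nat_lit 2), (nat_lit 4), (nat_lit 5)],
  [(nat_lit 1), (nat_lit 3), (nat_lit 4), (nat_lit 5)],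
  [(nat_lit 2), (nat_lit 3), (nat_lit 4), (nat_lit 5)],
  [(nat_lit 0), (nat_lit 1), (nat_lit 2), (nat_lit 3), (nat_lit 4)],
  [(nat_lit 0), (nat_lit 1), (nat_lit 2), (nat_lit 3), (nat_lit 5)],
  [(nat_lit 0), (nat_lit 1), (nat_lit 2), (nat_lit 4), (nat_lit 5)],
  [(nat_lit 0), (nat_lit 1), (nat_lit 3), (nat_lit 4), (nat_lit 5)],
  [(nat_lit 0), (nat_lit 2), (nat_lit 3), (nat_lit 4), (nat_lit 5)],
  [(nat_lit 1), (nat_lit 2), (nat_lit 3), (nat_lit 4), (nat_lit 5)],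
  [(nat_lit 0), (nat_lit 1), (nat_lit 2), (nat_lit 3), (nat_lit 4), (nat_lit 5)]]
noncomputable def SB_lU_h (c : ℕ) : ℕ := Nat.mod c (nat_lit 241)
theorem SB_lU_E {G : Type*} [Group G] {R : ℕ → G → Prop} {a b q c d e u r p v j w h g k l : G}
    (M : Md0 S8_o SB_cs R [a, b, q, c, d, e, u, r, p, v, j, w, h, g, k, l]) :
    EnumS R SB_lU (sp [a, r, c, u, p, v]) :=
  enumS_sp M.μ.1 (M.reps.tms M.μ.1 [(.v (nat_lit 0)), (.v (nat_lit 7)), (.v (nat_lit 3)), (.v (nat_lit 6)), (.v (nat_lit 8)), (.v (nat_lit 9))] (cs' := [(nat_lit 0xfac681), (nat_lit 0xf94748), (nat_lit 0xfab888), (nat_lit 0xdec688), (nat_lit 0xf8c62a), (nat_lit 0x8efc88)]) (by decide +kernel))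
    (Ws := SB_lU_W) (by decide +kernel) (by decide +kernel)
theorem SB_lU_c {G : Type*} [Group G] {R : ℕ → G → Prop} {a b q c d e u r p v j w h g k l : G}
    (M : Md0 S8_o SB_cs R [a, b, q, c, d, e, u, r, p, v, j, w, h, g, k, l]) :
    #(sp [a, r, c, u, p, v]) = 64 :=
  (SB_lU_E M).card M.μ (h := SB_lU_h) (by decide +kernel)
noncomputable def SB_lX : List ℕ := [(nat_lit 0xfac688), (nat_lit 0xf94741), (nat_lit 0xfab881), (nat_lit 0xdec681), (nat_lit 0xf8c62a), (nat_lit 0x8efc88), (nat_lit 0xab91a3), (nat_lit 0xf93948), (nat_lit 0xdd4748), (nat_lit 0xf84655), (nat_lit 0x8d7d41), (nat_lit 0xab11dc), (nat_lit 0xdeb888), (nat_lit 0xf8b815), (nat_lit 0x8eee81), (nat_lit 0xab839c), (nat_lit 0xdcc615), (nat_lit 0x72fc81), (nat_lit 0x57919c), (nat_lit 0xf8386a), (nat_lit 0xdc466a), (nat_lit 0x8cfc2a), (nat_lit 0xaa10fe), (nat_lit 0x23d5a3), (nat_lit 0x5783a3),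 (nat_lit 0xab03e3), (nat_lit 0xdd3941), (nat_lit 0x8d6f48), (nat_lit 0x717d48), (nat_lit 0x5711e3), (nat_lit 0x8c7c55), (nat_lit 0xa99137), (nat_lit 0x2355dc), (nat_lit 0x5703dc), (nat_lit 0xdcb82a), (nat_lit 0x72ee88), (nat_lit 0xdc3855), (nat_lit 0x8cee15), (nat_lit 0xaa02f7), (nat_lit 0x23ab9c), (nat_lit 0x70fc15), (nat_lit 0x5610f7), (nat_lit 513436), (nat_lit 0x8c6e6a), (nat_lit 0xa9833e), (nat_lit 0x707c6a), (nat_lit 0x55913e), (nat_lit 0x2254fe), (nat_lit 0x5602fe), (nat_lit 502691), (nat_lit 480739), (nat_lit 0x232be3), (nat_lit 0x716f41), (nat_lit 0x21d537), (nat_lit 0x558337), (nat_lit 469980), (nat_lit 0x70ee2a), (nat_lit 0x706e55), (nat_lit 0x222af7), (nat_lit 414967), (nat_lit 0x21ab3e), (nat_lit 382270), (nat_lit 404222), (nat_lit 371511)]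
noncomputable def SB_lX_W : List (List ℕ) := [[],
  [(nat_lit 0)],
  [(nat_lit 1)],
  [(nat_lit 2)],
  [(nat_lit 3)],
  [(nat_lit 4)],
  [(nat_lit 5)],
  [(nat_lit 0), (nat_lit 1)],
  [(nat_lit 0), (nat_lit 2)],
  [(nat_lit 0), (nat_lit 3)],
  [(nat_lit 0), (nat_lit 4)],
  [(nat_lit 0), (nat_lit 5)],
  [(nat_lit 1), (nat_lit 2)],
  [(nat_lit 1), (nat_lit 3)],
  [(nat_lit 1), (nat_lit 4)],
  [(nat_lit 1), (nat_lit 5)],
  [(nat_lit 2), (nat_lit 3)],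
  [(nat_lit 2), (nat_lit 4)],
  [(nat_lit 2), (nat_lit 5)],
  [(nat_lit 3), (nat_lit 1)],
  [(nat_lit 3), (nat_lit 2)],
  [(nat_lit 3), (nat_lit 4)],
  [(nat_lit 3), (nat_lit 5)],
  [(nat_lit 4), (nat_lit 5)],
  [(nat_lit 5), (nat_lit 0)],
  [(nat_lit 5), (nat_lit 2)],
  [(nat_lit 0), (nat_lit 1), (nat_lit 2)],
  [(nat_lit 0), (nat_lit 1), (nat_lit 4)],
  [(nat_lit 0), (nat_lit 2), (nat_lit 4)],
  [(nat_lit 0), (nat_lit 2), (nat_lit 5)],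
  [(nat_lit 0), (nat_lit 3), (nat_lit 4)],
  [(nat_lit 0), (nat_lit 3), (nat_lit 5)],
  [(nat_lit 0), (nat_lit 4), (nat_lit 5)],
  [(nat_lit 0), (nat_lit 5), (nat_lit 0)],
  [(nat_lit 1), (nat_lit 2), (nat_lit 3)],
  [(nat_lit 1), (nat_lit 2), (nat_lit 4)],
  [(nat_lit 1), (nat_lit 3), (nat_lit 2)],
  [(nat_lit 1), (nat_lit 3), (nat_lit 4)],
  [(nat_lit 1), (nat_lit 3), (nat_lit 5)],
  [(nat_lit 1), (nat_lit 4), (nat_lit 5)],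
  [(nat_lit 2), (nat_lit 3), (nat_lit 4)],
  [(nat_lit 2), (nat_lit 3), (nat_lit 5)],
  [(nat_lit 2), (nat_lit 4), (nat_lit 5)],
  [(nat_lit 3), (nat_lit 1), (nat_lit 4)],
  [(nat_lit 3), (nat_lit 1), (nat_lit 5)],
  [(nat_lit 3), (nat_lit 2), (nat_lit 4)],
  [(nat_lit 3), (nat_lit 2), (nat_lit 5)],
  [(nat_lit 3), (nat_lit 4), (nat_lit 5)],
  [(nat_lit 3), (nat_lit 5), (nat_lit 0)],
  [(nat_lit 4), (nat_lit 5), (nat_lit 0)],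
  [(nat_lit 4), (nat_lit 5), (nat_lit 2)],
  [(nat_lit 5), (nat_lit 2), (nat_lit 3)],
  [(nat_lit 0), (nat_lit 1), (nat_lit 2), (nat_lit 4)],
  [(nat_lit 0), (nat_lit 3), (nat_lit 4), (nat_lit 5)],
  [(nat_lit 0), (nat_lit 3), (nat_lit 5), (nat_lit 0)],
  [(nat_lit 0), (nat_lit 4), (nat_lit 5), (nat_lit 0)],
  [(nat_lit 1), (nat_lit 2), (nat_lit 3), (nat_lit 4)],
  [(nat_lit 1), (nat_lit 3), (nat_lit 2), (nat_lit 4)],
  [(nat_lit 1), (nat_lit 3), (nat_lit 4), (nat_lit 5)],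
  [(nat_lit 2), (nat_lit 3), (nat_lit 4), (nat_lit 5)],
  [(nat_lit 3), (nat_lit 1), (nat_lit 4), (nat_lit 5)],
  [(nat_lit 3), (nat_lit 2), (nat_lit 4), (nat_lit 5)],
  [(nat_lit 3), (nat_lit 4), (nat_lit 5), (nat_lit 0)],
  [(nat_lit 0), (nat_lit 3), (nat_lit 4), (nat_lit 5), (nat_lit 0)]]
noncomputable def SB_lX_h (c : ℕ) : ℕ := Nat.mod c (nat_lit 408)
theorem SB_lX_E {G : Type*} [Group G] {R : ℕ → G → Prop} {a b q c d e u r p v j w h g k l : G}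
    (M : Md0 S8_o SB_cs R [a, b, q, c, d, e, u, r, p, v, j, w, h, g, k, l]) :
    EnumS R SB_lX (sp [a * r, a * c, a * u, p, v, j]) :=
  enumS_sp M.μ.1 (M.reps.tms M.μ.1 [(.mul (.v (nat_lit 0)) (.v (nat_lit 7))), (.mul (.v (nat_lit 0)) (.v (nat_lit 3))), (.mul (.v (nat_lit 0)) (.v (nat_lit 6))), (.v (nat_lit 8)), (.v (nat_lit 9)), (.v (nat_lit 10))] (cs' := [(nat_lit 0xf94741), (nat_lit 0xfab881), (nat_lit 0xdec681), (nat_lit 0xf8c62a), (nat_lit 0x8efc88), (nat_lit 0xab91a3)]) (by decide +kernel))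
    (Ws := SB_lX_W) (by decide +kernel) (by decide +kernel)
theorem SB_lX_c {G : Type*} [Group G] {R : ℕ → G → Prop} {a b q c d e u r p v j w h g k l : G}
    (M : Md0 S8_o SB_cs R [a, b, q, c, d, e, u, r, p, v, j, w, h, g, k, l]) :
    #(sp [a * r, a * c, a * u, p, v, j]) = 64 :=
  (SB_lX_E M).card M.μ (h := SB_lX_h) (by decide +kernel)
noncomputable def SB_lJ : List ℕ := [(nat_lit 0xfac688), (nat_lit 0xfac681), (nat_lit 0xf94748), (nat_lit 0xfab888), (nat_lit 0xdec688), (nat_lit 0xf8c62a), (nat_lit 0x8efc88), (nat_lit 0xab91a3), (nat_lit 0xfac611), (nat_lit 0xf94741), (nat_lit 0xfab881), (nat_lit 0xdec681), (nat_lit 0xf8c615), (nat_lit 0x8efc81), (nat_lit 0xab919c), (nat_lit 0xfac60a), (nat_lit 0xf93948), (nat_lit 0xdd4748), (nat_lit 0xf8466a), (nat_lit 0x8d7d48), (nat_lit 0xab11e3), (nat_lit 0xf84751), (nat_lit 0xdeb888), (nat_lit 0xf8b82a), (nat_lit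 0x8eee88), (nat_lit 0xab83a3), (nat_lit 0xfab811), (nat_lit 0xdcc62a), (nat_lit 0x72fc88), (nat_lit 0x5791a3), (nat_lit 0xdec611), (nat_lit 0x8cfc2a), (nat_lit 0xaa10fe), (nat_lit 0xf94668), (nat_lit 0x23d5a3), (nat_lit 0x8efc11), (nat_lit 0xa3a3a3), (nat_lit 0xfac650), (nat_lit 0xf94629), (nat_lit 0xf8c685), (nat_lit 0xab90f4), (nat_lit 0xfac642), (nat_lit 0xf93941), (nat_lit 0xdd4741), (nat_lit 0xf84655), (nat_lit 0x8d7d41), (nat_lit 0xab11dc), (nat_lit 0xf8474a), (nat_lit 0xdeb881), (nat_lit 0xf8b815), (nat_lit 0x8eee81), (nat_lit 0xab839c), (nat_lit 0xfab80a), (nat_lit 0xdcc615), (nat_lit 0x72fc81), (nat_lit 0x57919c), (nat_lit 0xdec60a), (nat_lit 0x8cfc15), (nat_lit 0xaa10f7), (nat_lit 0xf94645), (nat_lit 0x23d59c), (nat_lit 0x8efc0a), (nat_lit 0xa3a39c), (nat_lit 0xf9460d), (nat_lit 0xf8c6a8), (nat_lit 0xab90e6), (nat_lit 0xdd3948), (nat_lit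 0xf8386a), (nat_lit 0x8d6f48), (nat_lit 0xab03e3), (nat_lit 0xf83951), (nat_lit 0xdc466a), (nat_lit 0x717d48), (nat_lit 0x5711e3), (nat_lit 0xdc4751), (nat_lit 0x8c7c6a), (nat_lit 0xa9913e), (nat_lit 0x2355e3), (nat_lit 0x8c7d51), (nat_lit 0xa323e3), (nat_lit 0xf8c750), (nat_lit 0xf846a9), (nat_lit 0xa991f4), (nat_lit 0xf8c742), (nat_lit 0xdcb82a), (nat_lit 0x72ee88), (nat_lit 0x5783a3), (nat_lit 0xdeb811), (nat_lit 0x8cee2a), (nat_lit 0xaa02fe), (nat_lit 0xf93868), (nat_lit 0x23aba3), (nat_lit 0x8eee11), (nat_lit 0xa395a3), (nat_lit 0xfab850), (nat_lit 0xf93829), (nat_lit 0xf8b885), (nat_lit 0xab82f4), (nat_lit 0xfab842), (nat_lit 0x70fc2a), (nat_lit 0x5610fe), (nat_lit 0xdd4668), (nat_lit 513443), (nat_lit 0x72fc11), (nat_lit 0x17a3a3), (nat_lit 0xdec650), (nat_lit 0xdd4629), (nat_lit 0xdcc685), (nat_lit 0x5790f4), (nat_lit 0xdec642), (nat_lit 0x2254fe),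 (nat_lit 0x8d7c68), (nat_lit 0xa222fe), (nat_lit 0xab113b), (nat_lit 0x47d1a3), (nat_lit 0x8efc50), (nat_lit 0x8d7c29), (nat_lit 0x8cfc85), (nat_lit 0x23d4f4), (nat_lit 0x8efc42), (nat_lit 0xa7a1a3), (nat_lit 0x43d3a3), (nat_lit 0x2b8ba3), (nat_lit 0xeee888), (nat_lit 0xa785a3), (nat_lit 0xab9133), (nat_lit 0xf8468d), (nat_lit 0xab10fc), (nat_lit 0xaa119f), (nat_lit 0xa3a2f4), (nat_lit 0xab911e), (nat_lit 0xdd3941), (nat_lit 0xf83855), (nat_lit 0x8d6f41), (nat_lit 0xab03dc), (nat_lit 0xf8394a), (nat_lit 0xdc4655), (nat_lit 0x717d41), (nat_lit 0x5711dc), (nat_lit 0xdc474a), (nat_lit 0x8c7c55), (nat_lit 0xa99137), (nat_lit 0x2355dc), (nat_lit 0x8c7d4a), (nat_lit 0xa323dc), (nat_lit 0xa991e6), (nat_lit 0xdcb815), (nat_lit 0x72ee81), (nat_lit 0x57839c), (nat_lit 0xdeb80a), (nat_lit 0x8cee15), (nat_lit 0xaa02f7), (nat_lit 0xf93845), (nat_lit 0x23ab9c),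 (nat_lit 0x8eee0a), (nat_lit 0xa3959c), (nat_lit 0xf9380d), (nat_lit 0xf8b8a8), (nat_lit 0xab82e6), (nat_lit 0x70fc15), (nat_lit 0x5610f7), (nat_lit 0xdd4645), (nat_lit 513436), (nat_lit 0x72fc0a), (nat_lit 0x17a39c), (nat_lit 0xdd460d), (nat_lit 0xdcc6a8), (nat_lit 0x5790e6), (nat_lit 0x2254f7), (nat_lit 0x8d7c45), (nat_lit 0xa222f7), (nat_lit 0xab111f), (nat_lit 0x47d19c), (nat_lit 0x8d7c0d), (nat_lit 0x8cfca8), (nat_lit 0x23d4e6), (nat_lit 0xa7a19c), (nat_lit 0x43d39c), (nat_lit 0x2b8b9c), (nat_lit 0xeee881), (nat_lit 0xa7859c), (nat_lit 0xab10e7), (nat_lit 0xaa11bb), (nat_lit 0xa3a2e6), (nat_lit 0xdc386a), (nat_lit 0x716f48), (nat_lit 0x5703e3), (nat_lit 0xdc3951), (nat_lit 0x8c6e6a), (nat_lit 0xa9833e), (nat_lit 0x232be3), (nat_lit 0x8c6f51), (nat_lit 0xa315e3), (nat_lit 0xf8b950), (nat_lit 0xf838a9), (nat_lit 0xa983f4), (nat_lit 0xf8b942), (nat_lit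 0x707c6a), (nat_lit 0x55913e), (nat_lit 480739), (nat_lit 0x707d51), (nat_lit 0x1723e3), (nat_lit 0xdcc750), (nat_lit 0xdc46a9), (nat_lit 0x5591f4), (nat_lit 0xdcc742), (nat_lit 0x21d53e), (nat_lit 0xa1a33e), (nat_lit 0x4751e3), (nat_lit 0x8cfd50), (nat_lit 0x8c7ca9), (nat_lit 0x21d5f4), (nat_lit 0x8cfd42), (nat_lit 0xa721e3), (nat_lit 0x4353e3), (nat_lit 0x2b0be3), (nat_lit 0xed6948), (nat_lit 0xa705e3), (nat_lit 0xaa11f3), (nat_lit 0xa991bc), (nat_lit 0xa1a3f4), (nat_lit 0xaa11de), (nat_lit 0x70ee2a), (nat_lit 0x5602fe), (nat_lit 0xdd3868), (nat_lit 502691), (nat_lit 0x72ee11), (nat_lit 0x1795a3), (nat_lit 0xdeb850), (nat_lit 0xdd3829), (nat_lit 0xdcb885), (nat_lit 0x5782f4), (nat_lit 0xdeb842), (nat_lit 0x222afe), (nat_lit 0x8d6e68), (nat_lit 0xa214fe), (nat_lit 0xab033b), (nat_lit 0x478ba3), (nat_lit 0x8eee50), (nat_lit 0x8d6e29), (nat_lit 0x8cee85),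 (nat_lit 0x23aaf4), (nat_lit 0x8eee42), (nat_lit 0x439ba3), (nat_lit 0x2bd1a3), (nat_lit 0xeecc88), (nat_lit 0xab8333), (nat_lit 0xf8388d), (nat_lit 0xab02fc), (nat_lit 0xaa039f), (nat_lit 0xa394f4), (nat_lit 0xab831e), (nat_lit 414974), (nat_lit 0x717c68), (nat_lit 0x1622fe), (nat_lit 0x57113b), (nat_lit 0x72fc50), (nat_lit 0x717c29), (nat_lit 0x70fc85), (nat_lit 513268), (nat_lit 0x72fc42), (nat_lit 0x37a1a3), (nat_lit 775075), (nat_lit 0x7ee888), (nat_lit 0x3785a3), (nat_lit 0x579133), (nat_lit 0xdc468d), (nat_lit 0x5710fc), (nat_lit 0x56119f), (nat_lit 0x17a2f4), (nat_lit 0x57911e), (nat_lit 0x4650fe), (nat_lit 0x23553b), (nat_lit 0xa620fe), (nat_lit 0x4252fe), (nat_lit 0x2a0afe), (nat_lit 0xece82a), (nat_lit 0xa604fe), (nat_lit 0xa3233b), (nat_lit 0xd2f688), (nat_lit 0x23d533), (nat_lit 0x8c7c8d), (nat_lit 0x2354fc), (nat_lit 0x22559f), (nat_lit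 0x47d0f4), (nat_lit 0x23d51e), (nat_lit 0xf2e688), (nat_lit 760739), (nat_lit 0xcef888), (nat_lit 0x9abe88), (nat_lit 0xeee811), (nat_lit 0xf2bc88), (nat_lit 0xa3a333), (nat_lit 0xa991a7), (nat_lit 0xa322fc), (nat_lit 0xa2239f), (nat_lit 0xa7a0f4), (nat_lit 0x43d2f4), (nat_lit 0x2b8af4), (nat_lit 0xa784f4), (nat_lit 0xa3a31e), (nat_lit 0xdc3855), (nat_lit 0x716f41), (nat_lit 0x5703dc), (nat_lit 0xdc394a), (nat_lit 0x8c6e55), (nat_lit 0xa98337), (nat_lit 0x232bdc), (nat_lit 0x8c6f4a), (nat_lit 0xa315dc), (nat_lit 0xa983e6), (nat_lit 0x707c55), (nat_lit 0x559137), (nat_lit 480732), (nat_lit 0x707d4a), (nat_lit 0x1723dc), (nat_lit 0x5591e6), (nat_lit 0x21d537), (nat_lit 0xa1a337), (nat_lit 0x4751dc), (nat_lit 0x21d5e6), (nat_lit 0xa721dc), (nat_lit 0x4353dc), (nat_lit 0x2b0bdc), (nat_lit 0xed6941), (nat_lit 0xa705dc), (nat_lit 0xa1a3e6), (nat_lit 0x70ee15),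 (nat_lit 0x5602f7), (nat_lit 0xdd3845), (nat_lit 502684), (nat_lit 0x72ee0a), (nat_lit 0x17959c), (nat_lit 0xdd380d), (nat_lit 0xdcb8a8), (nat_lit 0x5782e6), (nat_lit 0x222af7), (nat_lit 0x8d6e45), (nat_lit 0xa214f7), (nat_lit 0xab031f), (nat_lit 0x478b9c), (nat_lit 0x8d6e0d), (nat_lit 0x8ceea8), (nat_lit 0x23aae6), (nat_lit 0x439b9c), (nat_lit 0x2bd19c), (nat_lit 0xeecc81), (nat_lit 0xab02e7), (nat_lit 0xaa03bb), (nat_lit 0xa394e6), (nat_lit 414967), (nat_lit 0x717c45), (nat_lit 0x1622f7), (nat_lit 0x57111f), (nat_lit 0x717c0d), (nat_lit 0x70fca8), (nat_lit 513254), (nat_lit 0x37a19c), (nat_lit 775068), (nat_lit 0x7ee881), (nat_lit 0x37859c), (nat_lit 0x5710e7), (nat_lit 0x5611bb), (nat_lit 0x17a2e6), (nat_lit 0x4650f7), (nat_lit 0x23551f), (nat_lit 0xa620f7), (nat_lit 0x4252f7), (nat_lit 0x2a0af7), (nat_lit 0xece815), (nat_lit 0xa604f7), (nat_lit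 0xa3231f), (nat_lit 0xd2f681), (nat_lit 0x2354e7), (nat_lit 0x2255bb), (nat_lit 0x47d0e6), (nat_lit 0xf2e681), (nat_lit 760732), (nat_lit 0xcef881), (nat_lit 0x9abe81), (nat_lit 0xeee80a), (nat_lit 0xf2bc81), (nat_lit 0xa322e7), (nat_lit 0xa223bb), (nat_lit 0xa7a0e6), (nat_lit 0x43d2e6), (nat_lit 0x2b8ae6), (nat_lit 0xa784e6), (nat_lit 0x706e6a), (nat_lit 0x55833e), (nat_lit 469987), (nat_lit 0x706f51), (nat_lit 0x1715e3), (nat_lit 0xdcb950), (nat_lit 0xdc38a9), (nat_lit 0x5583f4), (nat_lit 0xdcb942), (nat_lit 0x21ab3e), (nat_lit 0xa1953e), (nat_lit 0x470be3), (nat_lit 0x8cef50), (nat_lit 0x8c6ea9), (nat_lit 0x21abf4), (nat_lit 0x8cef42), (nat_lit 0x431be3), (nat_lit 0x2b51e3), (nat_lit 0xed4d48), (nat_lit 0xaa03f3), (nat_lit 0xa983bc), (nat_lit 0xa195f4), (nat_lit 0xaa03de), (nat_lit 382270), (nat_lit 0x15a33e), (nat_lit 0x70fd50), (nat_lit 0x707ca9),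 (nat_lit 382452), (nat_lit 0x70fd42), (nat_lit 0x3721e3), (nat_lit 742371), (nat_lit 0x7d6948), (nat_lit 0x3705e3), (nat_lit 0x5611f3), (nat_lit 0x5591bc), (nat_lit 0x15a3f4), (nat_lit 0x5611de), (nat_lit 0x45d13e), (nat_lit 0xa5a13e), (nat_lit 0x41d33e), (nat_lit 0x298b3e), (nat_lit 0xec686a), (nat_lit 0xa5853e), (nat_lit 0xd17748), (nat_lit 0x2255f3), (nat_lit 0x21d5bc), (nat_lit 0x45d1f4), (nat_lit 0x2255de), (nat_lit 0xf16748), (nat_lit 728035), (nat_lit 0xcd7948), (nat_lit 0x993f48), (nat_lit 0xec6951), (nat_lit 0xf13d48), (nat_lit 0xa223f3), (nat_lit 0xa1a3bc), (nat_lit 0xa5a1f4), (nat_lit 0x41d3f4), (nat_lit 0x298bf4), (nat_lit 0xa585f4), (nat_lit 0xa223de), (nat_lit 404222), (nat_lit 0x716e68), (nat_lit 0x1614fe), (nat_lit 0x57033b), (nat_lit 0x72ee50), (nat_lit 0x716e29), (nat_lit 0x70ee85), (nat_lit 502516), (nat_lit 0x72ee42), (nat_lit 0x7ecc88),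 (nat_lit 0x578333), (nat_lit 0xdc388d), (nat_lit 0x5702fc), (nat_lit 0x56039f), (nat_lit 0x1794f4), (nat_lit 0x57831e), (nat_lit 0x460afe), (nat_lit 0x232b3b), (nat_lit 0x421afe), (nat_lit 0x2a50fe), (nat_lit 0xeccc2a), (nat_lit 0xa3153b), (nat_lit 0xd2be88), (nat_lit 0x23ab33), (nat_lit 0x8c6e8d), (nat_lit 0x232afc), (nat_lit 0x222b9f), (nat_lit 0x478af4), (nat_lit 0x23ab1e), (nat_lit 0xcece88), (nat_lit 0x9af688), (nat_lit 0xeecc11), (nat_lit 0xa39533), (nat_lit 0xa983a7), (nat_lit 0xa314fc), (nat_lit 0xa2159f), (nat_lit 0x439af4), (nat_lit 0x2bd0f4), (nat_lit 0xa3951e), (nat_lit 480571), (nat_lit 0x3620fe), (nat_lit 676606), (nat_lit 0x7ce82a), (nat_lit 0x3604fe), (nat_lit 0x17233b), (nat_lit 513331), (nat_lit 0x707c8d), (nat_lit 480508), (nat_lit 415135), (nat_lit 513310), (nat_lit 0x9ee688), (nat_lit 0x7af888), (nat_lit 0x7ee811), (nat_lit 0x9ebc88),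 (nat_lit 0x17a333), (nat_lit 0x5591a7), (nat_lit 0x1722fc), (nat_lit 0x16239f), (nat_lit 0x37a0f4), (nat_lit 774900), (nat_lit 0x3784f4), (nat_lit 0x17a31e), (nat_lit 0xd0f62a), (nat_lit 0x47513b), (nat_lit 0xf0e62a), (nat_lit 662270), (nat_lit 0xccf82a), (nat_lit 0x98be2a), (nat_lit 0xed6868), (nat_lit 0xf0bc2a), (nat_lit 0xa7213b), (nat_lit 0x43533b), (nat_lit 0x2b0b3b), (nat_lit 0xa7053b), (nat_lit 0xd2f611), (nat_lit 0x47d133), (nat_lit 0x21d5a7), (nat_lit 0x4750fc), (nat_lit 0x46519f), (nat_lit 0x47d11e), (nat_lit 0xf2e611), (nat_lit 0x7ace88), (nat_lit 0xcef811), (nat_lit 0x9abe11), (nat_lit 0xeee850), (nat_lit 0xed6829), (nat_lit 0xece885), (nat_lit 0xeee842), (nat_lit 0xf2bc11), (nat_lit 0xa7a133), (nat_lit 0x43d333), (nat_lit 0x2b8b33), (nat_lit 0xa78533), (nat_lit 0xa1a3a7), (nat_lit 0xa720fc), (nat_lit 0x4352fc), (nat_lit 0x2b0afc), (nat_lit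 0xa704fc), (nat_lit 0xa6219f), (nat_lit 0x42539f), (nat_lit 0x2a0b9f), (nat_lit 0xa6059f), (nat_lit 760564), (nat_lit 0xa7a11e), (nat_lit 0x43d31e), (nat_lit 0x2b8b1e), (nat_lit 0xa7851e), (nat_lit 0x706e55), (nat_lit 0x558337), (nat_lit 469980), (nat_lit 0x706f4a), (nat_lit 0x1715dc), (nat_lit 0x5583e6), (nat_lit 0x21ab37), (nat_lit 0xa19537), (nat_lit 0x470bdc), (nat_lit 0x21abe6), (nat_lit 0x431bdc), (nat_lit 0x2b51dc), (nat_lit 0xed4d41), (nat_lit 0xa195e6), (nat_lit 382263), (nat_lit 0x15a337), (nat_lit 382438), (nat_lit 0x3721dc), (nat_lit 742364), (nat_lit 0x7d6941), (nat_lit 0x3705dc), (nat_lit 0x15a3e6), (nat_lit 0x45d137), (nat_lit 0xa5a137), (nat_lit 0x41d337), (nat_lit 0x298b37), (nat_lit 0xec6855), (nat_lit 0xa58537), (nat_lit 0xd17741), (nat_lit 0x45d1e6), (nat_lit 0xf16741), (nat_lit 728028), (nat_lit 0xcd7941), (nat_lit 0x993f41), (nat_lit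 0xec694a), (nat_lit 0xf13d41), (nat_lit 0xa5a1e6), (nat_lit 0x41d3e6), (nat_lit 0x298be6), (nat_lit 0xa585e6), (nat_lit 404215), (nat_lit 0x716e45), (nat_lit 0x1614f7), (nat_lit 0x57031f), (nat_lit 0x716e0d), (nat_lit 0x70eea8), (nat_lit 502502), (nat_lit 0x7ecc81), (nat_lit 0x5702e7), (nat_lit 0x5603bb), (nat_lit 0x1794e6), (nat_lit 0x460af7), (nat_lit 0x232b1f), (nat_lit 0x421af7), (nat_lit 0x2a50f7), (nat_lit 0xeccc15), (nat_lit 0xa3151f), (nat_lit 0xd2be81), (nat_lit 0x232ae7), (nat_lit 0x222bbb), (nat_lit 0x478ae6), (nat_lit 0xcece81), (nat_lit 0x9af681), (nat_lit 0xeecc0a), (nat_lit 0xa314e7), (nat_lit 0xa215bb), (nat_lit 0x439ae6), (nat_lit 0x2bd0e6), (nat_lit 480543), (nat_lit 0x3620f7), (nat_lit 676599), (nat_lit 0x7ce815), (nat_lit 0x3604f7), (nat_lit 0x17231f), (nat_lit 480487), (nat_lit 415163), (nat_lit 0x9ee681), (nat_lit 0x7af881), (nat_lit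 0x7ee80a), (nat_lit 0x9ebc81), (nat_lit 0x1722e7), (nat_lit 0x1623bb), (nat_lit 0x37a0e6), (nat_lit 774886), (nat_lit 0x3784e6), (nat_lit 0xd0f615), (nat_lit 0x47511f), (nat_lit 0xf0e615), (nat_lit 662263), (nat_lit 0xccf815), (nat_lit 0x98be15), (nat_lit 0xed6845), (nat_lit 0xf0bc15), (nat_lit 0xa7211f), (nat_lit 0x43531f), (nat_lit 0x2b0b1f), (nat_lit 0xa7051f), (nat_lit 0xd2f60a), (nat_lit 0x4750e7), (nat_lit 0x4651bb), (nat_lit 0xf2e60a), (nat_lit 0x7ace81), (nat_lit 0xcef80a), (nat_lit 0x9abe0a), (nat_lit 0xed680d), (nat_lit 0xece8a8), (nat_lit 0xf2bc0a), (nat_lit 0xa720e7), (nat_lit 0x4352e7), (nat_lit 0x2b0ae7), (nat_lit 0xa704e7), (nat_lit 0xa621bb), (nat_lit 0x4253bb), (nat_lit 0x2a0bbb), (nat_lit 0xa605bb), (nat_lit 760550), (nat_lit 371518), (nat_lit 0x15953e), (nat_lit 0x70ef50), (nat_lit 0x706ea9), (nat_lit 371700), (nat_lit 0x70ef42),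 (nat_lit 0x7d4d48), (nat_lit 0x5603f3), (nat_lit 0x5583bc), (nat_lit 0x1595f4), (nat_lit 0x5603de), (nat_lit 0x458b3e), (nat_lit 0x419b3e), (nat_lit 0x29d13e), (nat_lit 0xec4c6a), (nat_lit 0xd13f48), (nat_lit 0x222bf3), (nat_lit 0x21abbc), (nat_lit 0x458bf4), (nat_lit 0x222bde), (nat_lit 0xcd4f48), (nat_lit 0x997748), (nat_lit 0xec4d51), (nat_lit 0xa215f3), (nat_lit 0xa195bc), (nat_lit 0x419bf4), (nat_lit 0x29d1f4), (nat_lit 0xa215de), (nat_lit 0x35a13e), (nat_lit 643902), (nat_lit 0x7c686a), (nat_lit 0x35853e), (nat_lit 415219), (nat_lit 382396), (nat_lit 415198), (nat_lit 0x9d6748), (nat_lit 0x797948), (nat_lit 0x7c6951), (nat_lit 0x9d3d48), (nat_lit 0x1623f3), (nat_lit 0x15a3bc), (nat_lit 0x35a1f4), (nat_lit 644084), (nat_lit 0x3585f4), (nat_lit 0x1623de), (nat_lit 0xd0766a), (nat_lit 0xf0666a), (nat_lit 629566), (nat_lit 0xcc786a), (nat_lit 0x983e6a),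 (nat_lit 0xf03c6a), (nat_lit 0xd07751), (nat_lit 0x4651f3), (nat_lit 0x45d1bc), (nat_lit 0x4651de), (nat_lit 0xf06751), (nat_lit 0x794f48), (nat_lit 0xcc7951), (nat_lit 0x983f51), (nat_lit 0xece950), (nat_lit 0xec68a9), (nat_lit 0xece942), (nat_lit 0xf03d51), (nat_lit 0xa621f3), (nat_lit 0x4253f3), (nat_lit 0x2a0bf3), (nat_lit 0xa605f3), (nat_lit 0xa5a1bc), (nat_lit 0x41d3bc), (nat_lit 0x298bbc), (nat_lit 0xa585bc), (nat_lit 629748), (nat_lit 0xa621de), (nat_lit 0x4253de), (nat_lit 0x2a0bde), (nat_lit 0xa605de), (nat_lit 469819), (nat_lit 0x7ccc2a), (nat_lit 0x17153b), (nat_lit 502579), (nat_lit 0x706e8d), (nat_lit 469756), (nat_lit 404383), (nat_lit 502558), (nat_lit 0x7ecc11), (nat_lit 0x179533), (nat_lit 0x5583a7), (nat_lit 0x1714fc), (nat_lit 0x16159f), (nat_lit 0x17951e), (nat_lit 0xd0be2a), (nat_lit 0x470b3b), (nat_lit 0xccce2a), (nat_lit 0x98f62a),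 (nat_lit 0xed4c68), (nat_lit 0x431b3b), (nat_lit 0x2b513b), (nat_lit 0xd2be11), (nat_lit 0x478b33), (nat_lit 0x21aba7), (nat_lit 0x470afc), (nat_lit 0x460b9f), (nat_lit 0x478b1e), (nat_lit 0xcece11), (nat_lit 0x9af611), (nat_lit 0xeecc50), (nat_lit 0xed4c29), (nat_lit 0xeccc85), (nat_lit 0xeecc42), (nat_lit 0x439b33), (nat_lit 0x2bd133), (nat_lit 0xa195a7), (nat_lit 0x431afc), (nat_lit 0x2b50fc), (nat_lit 0x421b9f), (nat_lit 0x2a519f), (nat_lit 0x439b1e), (nat_lit 0x2bd11e), (nat_lit 0x9ce62a), (nat_lit 0x78f82a), (nat_lit 0x7d6868), (nat_lit 0x9cbc2a), (nat_lit 0x37213b), (nat_lit 742203), (nat_lit 0x37053b), (nat_lit 382375), (nat_lit 0x9ee611), (nat_lit 0x7af811), (nat_lit 0x7ee850), (nat_lit 0x7d6829), (nat_lit 0x7ce885), (nat_lit 0x7ee842), (nat_lit 0x9ebc11), (nat_lit 0x37a133), (nat_lit 774963), (nat_lit 0x378533), (nat_lit 0x15a3a7), (nat_lit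 0x3720fc), (nat_lit 742140), (nat_lit 0x3704fc), (nat_lit 0x36219f), (nat_lit 676767), (nat_lit 0x36059f), (nat_lit 0x37a11e), (nat_lit 774942), (nat_lit 0x37851e), (nat_lit 0xd17668), (nat_lit 0xf16668), (nat_lit 0x78ce2a), (nat_lit 0xcd7868), (nat_lit 0x993e68), (nat_lit 0xf13c68), (nat_lit 727867), (nat_lit 0xd2f650), (nat_lit 0xd17629), (nat_lit 0xd0f685), (nat_lit 0xd2f642), (nat_lit 0x45d1a7), (nat_lit 0xf2e650), (nat_lit 0xf16629), (nat_lit 0xf0e685), (nat_lit 0xf2e642), (nat_lit 0x7ace11), (nat_lit 0xcef850), (nat_lit 0xcd7829), (nat_lit 0xccf885), (nat_lit 0xcef842), (nat_lit 0x9abe50), (nat_lit 0x993e29), (nat_lit 0x98be85), (nat_lit 0x9abe42), (nat_lit 0xec688d), (nat_lit 0xf2bc50), (nat_lit 0xf13c29), (nat_lit 0xf0bc85), (nat_lit 0xf2bc42), (nat_lit 760627), (nat_lit 0xa5a1a7), (nat_lit 0x41d3a7), (nat_lit 0x298ba7), (nat_lit 0xa585a7),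 (nat_lit 727804), (nat_lit 662431), (nat_lit 760606), (nat_lit 371511), (nat_lit 0x159537), (nat_lit 371686), (nat_lit 0x7d4d41), (nat_lit 0x1595e6), (nat_lit 0x458b37), (nat_lit 0x419b37), (nat_lit 0x29d137), (nat_lit 0xec4c55), (nat_lit 0xd13f41), (nat_lit 0x458be6), (nat_lit 0xcd4f41), (nat_lit 0x997741), (nat_lit 0xec4d4a), (nat_lit 0x419be6), (nat_lit 0x29d1e6), (nat_lit 0x35a137), (nat_lit 643895), (nat_lit 0x7c6855), (nat_lit 0x358537), (nat_lit 0x9d6741), (nat_lit 0x797941), (nat_lit 0x7c694a), (nat_lit 0x9d3d41), (nat_lit 0x35a1e6), (nat_lit 644070), (nat_lit 0x3585e6), (nat_lit 0xd07655), (nat_lit 0xf06655), (nat_lit 629559), (nat_lit 0xcc7855), (nat_lit 0x983e55), (nat_lit 0xf03c55), (nat_lit 0xd0774a), (nat_lit 0xf0674a), (nat_lit 0x794f41), (nat_lit 0xcc794a), (nat_lit 0x983f4a), (nat_lit 0xf03d4a), (nat_lit 629734), (nat_lit 469791),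 (nat_lit 0x7ccc15), (nat_lit 0x17151f), (nat_lit 469735), (nat_lit 404411), (nat_lit 0x7ecc0a), (nat_lit 0x1714e7), (nat_lit 0x1615bb), (nat_lit 0xd0be15), (nat_lit 0x470b1f), (nat_lit 0xccce15), (nat_lit 0x98f615), (nat_lit 0xed4c45), (nat_lit 0x431b1f), (nat_lit 0x2b511f), (nat_lit 0xd2be0a), (nat_lit 0x470ae7), (nat_lit 0x460bbb), (nat_lit 0xcece0a), (nat_lit 0x9af60a), (nat_lit 0xed4c0d), (nat_lit 0xeccca8), (nat_lit 0x431ae7), (nat_lit 0x2b50e7), (nat_lit 0x421bbb), (nat_lit 0x2a51bb), (nat_lit 0x9ce615), (nat_lit 0x78f815), (nat_lit 0x7d6845), (nat_lit 0x9cbc15), (nat_lit 0x37211f), (nat_lit 742175), (nat_lit 0x37051f), (nat_lit 0x9ee60a), (nat_lit 0x7af80a), (nat_lit 0x7d680d), (nat_lit 0x7ce8a8), (nat_lit 0x9ebc0a), (nat_lit 0x3720e7), (nat_lit 742119), (nat_lit 0x3704e7), (nat_lit 0x3621bb), (nat_lit 676795), (nat_lit 0x3605bb), (nat_lit 0xd17645),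 (nat_lit 0xf16645), (nat_lit 0x78ce15), (nat_lit 0xcd7845), (nat_lit 0x993e45), (nat_lit 0xf13c45), (nat_lit 727839), (nat_lit 0xd1760d), (nat_lit 0xd0f6a8), (nat_lit 0xf1660d), (nat_lit 0xf0e6a8), (nat_lit 0x7ace0a), (nat_lit 0xcd780d), (nat_lit 0xccf8a8), (nat_lit 0x993e0d), (nat_lit 0x98bea8), (nat_lit 0xf13c0d), (nat_lit 0xf0bca8), (nat_lit 727783), (nat_lit 662459), (nat_lit 0x7c4c6a), (nat_lit 404467), (nat_lit 371644), (nat_lit 404446), (nat_lit 0x7c4d51), (nat_lit 0x1615f3), (nat_lit 0x1595bc), (nat_lit 0x1615de), (nat_lit 0xd03e6a), (nat_lit 0xcc4e6a), (nat_lit 0x98766a), (nat_lit 0xd03f51), (nat_lit 0x460bf3), (nat_lit 0x458bbc), (nat_lit 0x460bde), (nat_lit 0xcc4f51), (nat_lit 0x987751), (nat_lit 0xeccd50), (nat_lit 0xec4ca9), (nat_lit 0xeccd42), (nat_lit 0x421bf3), (nat_lit 0x2a51f3), (nat_lit 0x419bbc), (nat_lit 0x29d1bc), (nat_lit 0x421bde),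 (nat_lit 0x2a51de), (nat_lit 0x9c666a), (nat_lit 0x78786a), (nat_lit 0x9c3c6a), (nat_lit 0x9c6751), (nat_lit 0x787951), (nat_lit 0x7ce950), (nat_lit 0x7c68a9), (nat_lit 0x7ce942), (nat_lit 0x9c3d51), (nat_lit 0x3621f3), (nat_lit 676851), (nat_lit 0x3605f3), (nat_lit 0x35a1bc), (nat_lit 644028), (nat_lit 0x3585bc), (nat_lit 0x3621de), (nat_lit 676830), (nat_lit 0x3605de), (nat_lit 0x784e6a), (nat_lit 0xd0f750), (nat_lit 0xd076a9), (nat_lit 0xd0f742), (nat_lit 0xf0e750), (nat_lit 0xf066a9), (nat_lit 0xf0e742), (nat_lit 0x784f51), (nat_lit 0xccf950), (nat_lit 0xcc78a9), (nat_lit 0xccf942), (nat_lit 0x98bf50), (nat_lit 0x983ea9), (nat_lit 0x98bf42), (nat_lit 0xf0bd50), (nat_lit 0xf03ca9), (nat_lit 0xf0bd42), (nat_lit 662515), (nat_lit 629692), (nat_lit 662494), (nat_lit 0x7d4c68), (nat_lit 371623), (nat_lit 0x7ecc50), (nat_lit 0x7d4c29), (nat_lit 0x7ccc85),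 (nat_lit 0x7ecc42), (nat_lit 0x1595a7), (nat_lit 0xd13e68), (nat_lit 0xcd4e68), (nat_lit 0x997668), (nat_lit 0xd2be50), (nat_lit 0xd13e29), (nat_lit 0xd0be85), (nat_lit 0xd2be42), (nat_lit 0x458ba7), (nat_lit 0xcece50), (nat_lit 0xcd4e29), (nat_lit 0xccce85), (nat_lit 0xcece42), (nat_lit 0x9af650), (nat_lit 0x997629), (nat_lit 0x98f685), (nat_lit 0x9af642), (nat_lit 0xec4c8d), (nat_lit 0x419ba7), (nat_lit 0x29d1a7), (nat_lit 0x9d6668), (nat_lit 0x797868), (nat_lit 0x9d3c68), (nat_lit 0x9ee650), (nat_lit 0x9d6629), (nat_lit 0x9ce685), (nat_lit 0x9ee642), (nat_lit 0x7af850), (nat_lit 0x797829), (nat_lit 0x78f885), (nat_lit 0x7af842), (nat_lit 0x7c688d), (nat_lit 0x9ebc50), (nat_lit 0x9d3c29), (nat_lit 0x9cbc85), (nat_lit 0x9ebc42), (nat_lit 0x35a1a7), (nat_lit 644007), (nat_lit 0x3585a7), (nat_lit 0x794e68), (nat_lit 0xd0768d), (nat_lit 0xf0668d), (nat_lit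 0x7ace50), (nat_lit 0x794e29), (nat_lit 0x78ce85), (nat_lit 0x7ace42), (nat_lit 0xcc788d), (nat_lit 0x983e8d), (nat_lit 0xf03c8d), (nat_lit 629671), (nat_lit 0x7c4c55), (nat_lit 0x7c4d4a), (nat_lit 0xd03e55), (nat_lit 0xcc4e55), (nat_lit 0x987655), (nat_lit 0xd03f4a), (nat_lit 0xcc4f4a), (nat_lit 0x98774a), (nat_lit 0x9c6655), (nat_lit 0x787855), (nat_lit 0x9c3c55), (nat_lit 0x9c674a), (nat_lit 0x78794a), (nat_lit 0x9c3d4a), (nat_lit 0x784e55), (nat_lit 0x784f4a), (nat_lit 0x7d4c45), (nat_lit 0x7d4c0d), (nat_lit 0x7ccca8), (nat_lit 0xd13e45), (nat_lit 0xcd4e45), (nat_lit 0x997645), (nat_lit 0xd13e0d), (nat_lit 0xd0bea8), (nat_lit 0xcd4e0d), (nat_lit 0xcccea8), (nat_lit 0x99760d), (nat_lit 0x98f6a8), (nat_lit 0x9d6645), (nat_lit 0x797845), (nat_lit 0x9d3c45), (nat_lit 0x9d660d), (nat_lit 0x9ce6a8), (nat_lit 0x79780d), (nat_lit 0x78f8a8), (nat_lit 0x9d3c0d),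 (nat_lit 0x9cbca8), (nat_lit 0x794e45), (nat_lit 0x794e0d), (nat_lit 0x78cea8), (nat_lit 0x7ccd50), (nat_lit 0x7c4ca9), (nat_lit 0x7ccd42), (nat_lit 0xd0bf50), (nat_lit 0xd03ea9), (nat_lit 0xd0bf42), (nat_lit 0xcccf50), (nat_lit 0xcc4ea9), (nat_lit 0xcccf42), (nat_lit 0x98f750), (nat_lit 0x9876a9), (nat_lit 0x98f742), (nat_lit 0x9ce750), (nat_lit 0x9c66a9), (nat_lit 0x9ce742), (nat_lit 0x78f950), (nat_lit 0x7878a9), (nat_lit 0x78f942), (nat_lit 0x9cbd50), (nat_lit 0x9c3ca9), (nat_lit 0x9cbd42), (nat_lit 0x78cf50), (nat_lit 0x784ea9), (nat_lit 0x78cf42), (nat_lit 0x7c4c8d), (nat_lit 0xd03e8d), (nat_lit 0xcc4e8d), (nat_lit 0x98768d), (nat_lit 0x9c668d), (nat_lit 0x78788d), (nat_lit 0x9c3c8d), (nat_lit 0x784e8d)]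
noncomputable def SB_lJ_W : List (List ℕ) := [[],
  [(nat_lit 0)],
  [(nat_lit 1)],
  [(nat_lit 2)],
  [(nat_lit 3)],
  [(nat_lit 4)],
  [(nat_lit 5)],
  [(nat_lit 6)],
  [(nat_lit 7)],
  [(nat_lit 0), (nat_lit 1)],
  [(nat_lit 0), (nat_lit 2)],
  [(nat_lit 0), (nat_lit 3)],
  [(nat_lit 0), (nat_lit 4)],
  [(nat_lit 0), (nat_lit 5)],
  [(nat_lit 0), (nat_lit 6)],
  [(nat_lit 0), (nat_lit 7)],
  [(nat_lit 1), (nat_lit 2)],
  [(nat_lit 1), (nat_lit 3)],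
  [(nat_lit 1), (nat_lit 4)],
  [(nat_lit 1), (nat_lit 5)],
  [(nat_lit 1), (nat_lit 6)],
  [(nat_lit 1), (nat_lit 7)],
  [(nat_lit 2), (nat_lit 3)],
  [(nat_lit 2), (nat_lit 4)],
  [(nat_lit 2), (nat_lit 5)],
  [(nat_lit 2), (nat_lit 6)],
  [(nat_lit 2), (nat_lit 7)],
  [(nat_lit 3), (nat_lit 4)],
  [(nat_lit 3), (nat_lit 5)],
  [(nat_lit 3), (nat_lit 6)],
  [(nat_lit 3), (nat_lit 7)],
  [(nat_lit 4), (nat_lit 5)],
  [(nat_lit 4), (nat_lit 6)],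
  [(nat_lit 4), (nat_lit 7)],
  [(nat_lit 5), (nat_lit 6)],
  [(nat_lit 5), (nat_lit 7)],
  [(nat_lit 6), (nat_lit 7)],
  [(nat_lit 7), (nat_lit 0)],
  [(nat_lit 7), (nat_lit 1)],
  [(nat_lit 7), (nat_lit 4)],
  [(nat_lit 7), (nat_lit 6)],
  [(nat_lit 7), (nat_lit 7)],
  [(nat_lit 0), (nat_lit 1), (nat_lit 2)],
  [(nat_lit 0), (nat_lit 1), (nat_lit 3)],
  [(nat_lit 0), (nat_lit 1), (nat_lit 4)],
  [(nat_lit 0), (nat_lit 1), (nat_lit 5)],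
  [(nat_lit 0), (nat_lit 1), (nat_lit 6)],
  [(nat_lit 0), (nat_lit 1), (nat_lit 7)],
  [(nat_lit 0), (nat_lit 2), (nat_lit 3)],
  [(nat_lit 0), (nat_lit 2), (nat_lit 4)],
  [(nat_lit 0), (nat_lit 2), (nat_lit 5)],
  [(nat_lit 0), (nat_lit 2), (nat_lit 6)],
  [(nat_lit 0), (nat_lit 2), (nat_lit 7)],
  [(nat_lit 0), (nat_lit 3), (nat_lit 4)],
  [(nat_lit 0), (nat_lit 3), (nat_lit 5)],
  [(nat_lit 0), (nat_lit 3), (nat_lit 6)],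
  [(nat_lit 0), (nat_lit 3), (nat_lit 7)],
  [(nat_lit 0), (nat_lit 4), (nat_lit 5)],
  [(nat_lit 0), (nat_lit 4), (nat_lit 6)],
  [(nat_lit 0), (nat_lit 4), (nat_lit 7)],
  [(nat_lit 0), (nat_lit 5), (nat_lit 6)],
  [(nat_lit 0), (nat_lit 5), (nat_lit 7)],
  [(nat_lit 0), (nat_lit 6), (nat_lit 7)],
  [(nat_lit 0), (nat_lit 7), (nat_lit 1)],
  [(nat_lit 0), (nat_lit 7), (nat_lit 4)],
  [(nat_lit 0), (nat_lit 7), (nat_lit 6)],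
  [(nat_lit 1), (nat_lit 2), (nat_lit 3)],
  [(nat_lit 1), (nat_lit 2), (nat_lit 4)],
  [(nat_lit 1), (nat_lit 2), (nat_lit 5)],
  [(nat_lit 1), (nat_lit 2), (nat_lit 6)],
  [(nat_lit 1), (nat_lit 2), (nat_lit 7)],
  [(nat_lit 1), (nat_lit 3), (nat_lit 4)],
  [(nat_lit 1), (nat_lit 3), (nat_lit 5)],
  [(nat_lit 1), (nat_lit 3), (nat_lit 6)],
  [(nat_lit 1), (nat_lit 3), (nat_lit 7)],
  [(nat_lit 1), (nat_lit 4), (nat_lit 5)],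
  [(nat_lit 1), (nat_lit 4), (nat_lit 6)],
  [(nat_lit 1), (nat_lit 5), (nat_lit 6)],
  [(nat_lit 1), (nat_lit 5), (nat_lit 7)],
  [(nat_lit 1), (nat_lit 6), (nat_lit 7)],
  [(nat_lit 1), (nat_lit 7), (nat_lit 0)],
  [(nat_lit 1), (nat_lit 7), (nat_lit 1)],
  [(nat_lit 1), (nat_lit 7), (nat_lit 6)],
  [(nat_lit 1), (nat_lit 7), (nat_lit 7)],
  [(nat_lit 2), (nat_lit 3), (nat_lit 4)],
  [(nat_lit 2), (nat_lit 3), (nat_lit 5)],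
  [(nat_lit 2), (nat_lit 3), (nat_lit 6)],
  [(nat_lit 2), (nat_lit 3), (nat_lit 7)],
  [(nat_lit 2), (nat_lit 4), (nat_lit 5)],
  [(nat_lit 2), (nat_lit 4), (nat_lit 6)],
  [(nat_lit 2), (nat_lit 4), (nat_lit 7)],
  [(nat_lit 2), (nat_lit 5), (nat_lit 6)],
  [(nat_lit 2), (nat_lit 5), (nat_lit 7)],
  [(nat_lit 2), (nat_lit 6), (nat_lit 7)],
  [(nat_lit 2), (nat_lit 7), (nat_lit 0)],
  [(nat_lit 2), (nat_lit 7), (nat_lit 1)],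
  [(nat_lit 2), (nat_lit 7), (nat_lit 4)],
  [(nat_lit 2), (nat_lit 7), (nat_lit 6)],
  [(nat_lit 2), (nat_lit 7), (nat_lit 7)],
  [(nat_lit 3), (nat_lit 4), (nat_lit 5)],
  [(nat_lit 3), (nat_lit 4), (nat_lit 6)],
  [(nat_lit 3), (nat_lit 4), (nat_lit 7)],
  [(nat_lit 3), (nat_lit 5), (nat_lit 6)],
  [(nat_lit 3), (nat_lit 5), (nat_lit 7)],
  [(nat_lit 3), (nat_lit 6), (nat_lit 7)],
  [(nat_lit 3), (nat_lit 7), (nat_lit 0)],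
  [(nat_lit 3), (nat_lit 7), (nat_lit 1)],
  [(nat_lit 3), (nat_lit 7), (nat_lit 4)],
  [(nat_lit 3), (nat_lit 7), (nat_lit 6)],
  [(nat_lit 3), (nat_lit 7), (nat_lit 7)],
  [(nat_lit 4), (nat_lit 5), (nat_lit 6)],
  [(nat_lit 4), (nat_lit 5), (nat_lit 7)],
  [(nat_lit 4), (nat_lit 6), (nat_lit 7)],
  [(nat_lit 4), (nat_lit 7), (nat_lit 6)],
  [(nat_lit 5), (nat_lit 6), (nat_lit 7)],
  [(nat_lit 5), (nat_lit 7), (nat_lit 0)],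
  [(nat_lit 5), (nat_lit 7), (nat_lit 1)],
  [(nat_lit 5), (nat_lit 7), (nat_lit 4)],
  [(nat_lit 5), (nat_lit 7), (nat_lit 6)],
  [(nat_lit 5), (nat_lit 7), (nat_lit 7)],
  [(nat_lit 6), (nat_lit 7), (nat_lit 0)],
  [(nat_lit 6), (nat_lit 7), (nat_lit 1)],
  [(nat_lit 6), (nat_lit 7), (nat_lit 4)],
  [(nat_lit 6), (nat_lit 7), (nat_lit 6)],
  [(nat_lit 6), (nat_lit 7), (nat_lit 7)],
  [(nat_lit 7), (nat_lit 0), (nat_lit 6)],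
  [(nat_lit 7), (nat_lit 1), (nat_lit 4)],
  [(nat_lit 7), (nat_lit 1), (nat_lit 6)],
  [(nat_lit 7), (nat_lit 4), (nat_lit 6)],
  [(nat_lit 7), (nat_lit 6), (nat_lit 7)],
  [(nat_lit 7), (nat_lit 7), (nat_lit 6)],
  [(nat_lit 0), (nat_lit 1), (nat_lit 2), (nat_lit 3)],
  [(nat_lit 0), (nat_lit 1), (nat_lit 2), (nat_lit 4)],
  [(nat_lit 0), (nat_lit 1), (nat_lit 2), (nat_lit 5)],
  [(nat_lit 0), (nat_lit 1), (nat_lit 2), (nat_lit 6)],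
  [(nat_lit 0), (nat_lit 1), (nat_lit 2), (nat_lit 7)],
  [(nat_lit 0), (nat_lit 1), (nat_lit 3), (nat_lit 4)],
  [(nat_lit 0), (nat_lit 1), (nat_lit 3), (nat_lit 5)],
  [(nat_lit 0), (nat_lit 1), (nat_lit 3), (nat_lit 6)],
  [(nat_lit 0), (nat_lit 1), (nat_lit 3), (nat_lit 7)],
  [(nat_lit 0), (nat_lit 1), (nat_lit 4), (nat_lit 5)],
  [(nat_lit 0), (nat_lit 1), (nat_lit 4), (nat_lit 6)],
  [(nat_lit 0), (nat_lit 1), (nat_lit 5), (nat_lit 6)],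
  [(nat_lit 0), (nat_lit 1), (nat_lit 5), (nat_lit 7)],
  [(nat_lit 0), (nat_lit 1), (nat_lit 6), (nat_lit 7)],
  [(nat_lit 0), (nat_lit 1), (nat_lit 7), (nat_lit 6)],
  [(nat_lit 0), (nat_lit 2), (nat_lit 3), (nat_lit 4)],
  [(nat_lit 0), (nat_lit 2), (nat_lit 3), (nat_lit 5)],
  [(nat_lit 0), (nat_lit 2), (nat_lit 3), (nat_lit 6)],
  [(nat_lit 0), (nat_lit 2), (nat_lit 3), (nat_lit 7)],
  [(nat_lit 0), (nat_lit 2), (nat_lit 4), (nat_lit 5)],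
  [(nat_lit 0), (nat_lit 2), (nat_lit 4), (nat_lit 6)],
  [(nat_lit 0), (nat_lit 2), (nat_lit 4), (nat_lit 7)],
  [(nat_lit 0), (nat_lit 2), (nat_lit 5), (nat_lit 6)],
  [(nat_lit 0), (nat_lit 2), (nat_lit 5), (nat_lit 7)],
  [(nat_lit 0), (nat_lit 2), (nat_lit 6), (nat_lit 7)],
  [(nat_lit 0), (nat_lit 2), (nat_lit 7), (nat_lit 1)],
  [(nat_lit 0), (nat_lit 2), (nat_lit 7), (nat_lit 4)],
  [(nat_lit 0), (nat_lit 2), (nat_lit 7), (nat_lit 6)],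
  [(nat_lit 0), (nat_lit 3), (nat_lit 4), (nat_lit 5)],
  [(nat_lit 0), (nat_lit 3), (nat_lit 4), (nat_lit 6)],
  [(nat_lit 0), (nat_lit 3), (nat_lit 4), (nat_lit 7)],
  [(nat_lit 0), (nat_lit 3), (nat_lit 5), (nat_lit 6)],
  [(nat_lit 0), (nat_lit 3), (nat_lit 5), (nat_lit 7)],
  [(nat_lit 0), (nat_lit 3), (nat_lit 6), (nat_lit 7)],
  [(nat_lit 0), (nat_lit 3), (nat_lit 7), (nat_lit 1)],
  [(nat_lit 0), (nat_lit 3), (nat_lit 7), (nat_lit 4)],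
  [(nat_lit 0), (nat_lit 3), (nat_lit 7), (nat_lit 6)],
  [(nat_lit 0), (nat_lit 4), (nat_lit 5), (nat_lit 6)],
  [(nat_lit 0), (nat_lit 4), (nat_lit 5), (nat_lit 7)],
  [(nat_lit 0), (nat_lit 4), (nat_lit 6), (nat_lit 7)],
  [(nat_lit 0), (nat_lit 4), (nat_lit 7), (nat_lit 6)],
  [(nat_lit 0), (nat_lit 5), (nat_lit 6), (nat_lit 7)],
  [(nat_lit 0), (nat_lit 5), (nat_lit 7), (nat_lit 1)],
  [(nat_lit 0), (nat_lit 5), (nat_lit 7), (nat_lit 4)],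
  [(nat_lit 0), (nat_lit 5), (nat_lit 7), (nat_lit 6)],
  [(nat_lit 0), (nat_lit 6), (nat_lit 7), (nat_lit 0)],
  [(nat_lit 0), (nat_lit 6), (nat_lit 7), (nat_lit 1)],
  [(nat_lit 0), (nat_lit 6), (nat_lit 7), (nat_lit 4)],
  [(nat_lit 0), (nat_lit 6), (nat_lit 7), (nat_lit 6)],
  [(nat_lit 0), (nat_lit 6), (nat_lit 7), (nat_lit 7)],
  [(nat_lit 0), (nat_lit 7), (nat_lit 1), (nat_lit 6)],
  [(nat_lit 0), (nat_lit 7), (nat_lit 4), (nat_lit 6)],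
  [(nat_lit 0), (nat_lit 7), (nat_lit 6), (nat_lit 7)],
  [(nat_lit 1), (nat_lit 2), (nat_lit 3), (nat_lit 4)],
  [(nat_lit 1), (nat_lit 2), (nat_lit 3), (nat_lit 5)],
  [(nat_lit 1), (nat_lit 2), (nat_lit 3), (nat_lit 6)],
  [(nat_lit 1), (nat_lit 2), (nat_lit 3), (nat_lit 7)],
  [(nat_lit 1), (nat_lit 2), (nat_lit 4), (nat_lit 5)],
  [(nat_lit 1), (nat_lit 2), (nat_lit 4), (nat_lit 6)],
  [(nat_lit 1), (nat_lit 2), (nat_lit 5), (nat_lit 6)],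
  [(nat_lit 1), (nat_lit 2), (nat_lit 5), (nat_lit 7)],
  [(nat_lit 1), (nat_lit 2), (nat_lit 6), (nat_lit 7)],
  [(nat_lit 1), (nat_lit 2), (nat_lit 7), (nat_lit 0)],
  [(nat_lit 1), (nat_lit 2), (nat_lit 7), (nat_lit 1)],
  [(nat_lit 1), (nat_lit 2), (nat_lit 7), (nat_lit 6)],
  [(nat_lit 1), (nat_lit 2), (nat_lit 7), (nat_lit 7)],
  [(nat_lit 1), (nat_lit 3), (nat_lit 4), (nat_lit 5)],
  [(nat_lit 1), (nat_lit 3), (nat_lit 4), (nat_lit 6)],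
  [(nat_lit 1), (nat_lit 3), (nat_lit 5), (nat_lit 6)],
  [(nat_lit 1), (nat_lit 3), (nat_lit 5), (nat_lit 7)],
  [(nat_lit 1), (nat_lit 3), (nat_lit 6), (nat_lit 7)],
  [(nat_lit 1), (nat_lit 3), (nat_lit 7), (nat_lit 0)],
  [(nat_lit 1), (nat_lit 3), (nat_lit 7), (nat_lit 1)],
  [(nat_lit 1), (nat_lit 3), (nat_lit 7), (nat_lit 6)],
  [(nat_lit 1), (nat_lit 3), (nat_lit 7), (nat_lit 7)],
  [(nat_lit 1), (nat_lit 4), (nat_lit 5), (nat_lit 6)],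
  [(nat_lit 1), (nat_lit 4), (nat_lit 6), (nat_lit 7)],
  [(nat_lit 1), (nat_lit 5), (nat_lit 6), (nat_lit 7)],
  [(nat_lit 1), (nat_lit 5), (nat_lit 7), (nat_lit 0)],
  [(nat_lit 1), (nat_lit 5), (nat_lit 7), (nat_lit 1)],
  [(nat_lit 1), (nat_lit 5), (nat_lit 7), (nat_lit 6)],
  [(nat_lit 1), (nat_lit 5), (nat_lit 7), (nat_lit 7)],
  [(nat_lit 1), (nat_lit 6), (nat_lit 7), (nat_lit 0)],
  [(nat_lit 1), (nat_lit 6), (nat_lit 7), (nat_lit 1)],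
  [(nat_lit 1), (nat_lit 6), (nat_lit 7), (nat_lit 4)],
  [(nat_lit 1), (nat_lit 6), (nat_lit 7), (nat_lit 6)],
  [(nat_lit 1), (nat_lit 6), (nat_lit 7), (nat_lit 7)],
  [(nat_lit 1), (nat_lit 7), (nat_lit 0), (nat_lit 6)],
  [(nat_lit 1), (nat_lit 7), (nat_lit 1), (nat_lit 6)],
  [(nat_lit 1), (nat_lit 7), (nat_lit 6), (nat_lit 7)],
  [(nat_lit 1), (nat_lit 7), (nat_lit 7), (nat_lit 6)],
  [(nat_lit 2), (nat_lit 3), (nat_lit 4), (nat_lit 5)],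
  [(nat_lit 2), (nat_lit 3), (nat_lit 4), (nat_lit 6)],
  [(nat_lit 2), (nat_lit 3), (nat_lit 4), (nat_lit 7)],
  [(nat_lit 2), (nat_lit 3), (nat_lit 5), (nat_lit 6)],
  [(nat_lit 2), (nat_lit 3), (nat_lit 5), (nat_lit 7)],
  [(nat_lit 2), (nat_lit 3), (nat_lit 6), (nat_lit 7)],
  [(nat_lit 2), (nat_lit 3), (nat_lit 7), (nat_lit 0)],
  [(nat_lit 2), (nat_lit 3), (nat_lit 7), (nat_lit 1)],
  [(nat_lit 2), (nat_lit 3), (nat_lit 7), (nat_lit 4)],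
  [(nat_lit 2), (nat_lit 3), (nat_lit 7), (nat_lit 6)],
  [(nat_lit 2), (nat_lit 3), (nat_lit 7), (nat_lit 7)],
  [(nat_lit 2), (nat_lit 4), (nat_lit 5), (nat_lit 6)],
  [(nat_lit 2), (nat_lit 4), (nat_lit 5), (nat_lit 7)],
  [(nat_lit 2), (nat_lit 4), (nat_lit 6), (nat_lit 7)],
  [(nat_lit 2), (nat_lit 4), (nat_lit 7), (nat_lit 6)],
  [(nat_lit 2), (nat_lit 5), (nat_lit 6), (nat_lit 7)],
  [(nat_lit 2), (nat_lit 5), (nat_lit 7), (nat_lit 0)],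
  [(nat_lit 2), (nat_lit 5), (nat_lit 7), (nat_lit 1)],
  [(nat_lit 2), (nat_lit 5), (nat_lit 7), (nat_lit 4)],
  [(nat_lit 2), (nat_lit 5), (nat_lit 7), (nat_lit 6)],
  [(nat_lit 2), (nat_lit 5), (nat_lit 7), (nat_lit 7)],
  [(nat_lit 2), (nat_lit 6), (nat_lit 7), (nat_lit 1)],
  [(nat_lit 2), (nat_lit 6), (nat_lit 7), (nat_lit 4)],
  [(nat_lit 2), (nat_lit 6), (nat_lit 7), (nat_lit 6)],
  [(nat_lit 2), (nat_lit 7), (nat_lit 0), (nat_lit 6)],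
  [(nat_lit 2), (nat_lit 7), (nat_lit 1), (nat_lit 4)],
  [(nat_lit 2), (nat_lit 7), (nat_lit 1), (nat_lit 6)],
  [(nat_lit 2), (nat_lit 7), (nat_lit 4), (nat_lit 6)],
  [(nat_lit 2), (nat_lit 7), (nat_lit 6), (nat_lit 7)],
  [(nat_lit 2), (nat_lit 7), (nat_lit 7), (nat_lit 6)],
  [(nat_lit 3), (nat_lit 4), (nat_lit 5), (nat_lit 6)],
  [(nat_lit 3), (nat_lit 4), (nat_lit 5), (nat_lit 7)],
  [(nat_lit 3), (nat_lit 4), (nat_lit 6), (nat_lit 7)],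
  [(nat_lit 3), (nat_lit 4), (nat_lit 7), (nat_lit 6)],
  [(nat_lit 3), (nat_lit 5), (nat_lit 7), (nat_lit 0)],
  [(nat_lit 3), (nat_lit 5), (nat_lit 7), (nat_lit 1)],
  [(nat_lit 3), (nat_lit 5), (nat_lit 7), (nat_lit 4)],
  [(nat_lit 3), (nat_lit 5), (nat_lit 7), (nat_lit 6)],
  [(nat_lit 3), (nat_lit 5), (nat_lit 7), (nat_lit 7)],
  [(nat_lit 3), (nat_lit 6), (nat_lit 7), (nat_lit 0)],
  [(nat_lit 3), (nat_lit 6), (nat_lit 7), (nat_lit 1)],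
  [(nat_lit 3), (nat_lit 6), (nat_lit 7), (nat_lit 6)],
  [(nat_lit 3), (nat_lit 6), (nat_lit 7), (nat_lit 7)],
  [(nat_lit 3), (nat_lit 7), (nat_lit 0), (nat_lit 6)],
  [(nat_lit 3), (nat_lit 7), (nat_lit 1), (nat_lit 4)],
  [(nat_lit 3), (nat_lit 7), (nat_lit 1), (nat_lit 6)],
  [(nat_lit 3), (nat_lit 7), (nat_lit 4), (nat_lit 6)],
  [(nat_lit 3), (nat_lit 7), (nat_lit 6), (nat_lit 7)],
  [(nat_lit 3), (nat_lit 7), (nat_lit 7), (nat_lit 6)],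
  [(nat_lit 4), (nat_lit 5), (nat_lit 6), (nat_lit 7)],
  [(nat_lit 4), (nat_lit 5), (nat_lit 7), (nat_lit 6)],
  [(nat_lit 4), (nat_lit 6), (nat_lit 7), (nat_lit 0)],
  [(nat_lit 4), (nat_lit 6), (nat_lit 7), (nat_lit 1)],
  [(nat_lit 4), (nat_lit 6), (nat_lit 7), (nat_lit 4)],
  [(nat_lit 4), (nat_lit 6), (nat_lit 7), (nat_lit 6)],
  [(nat_lit 4), (nat_lit 6), (nat_lit 7), (nat_lit 7)],
  [(nat_lit 4), (nat_lit 7), (nat_lit 6), (nat_lit 7)],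
  [(nat_lit 5), (nat_lit 6), (nat_lit 7), (nat_lit 6)],
  [(nat_lit 5), (nat_lit 7), (nat_lit 0), (nat_lit 6)],
  [(nat_lit 5), (nat_lit 7), (nat_lit 1), (nat_lit 4)],
  [(nat_lit 5), (nat_lit 7), (nat_lit 1), (nat_lit 6)],
  [(nat_lit 5), (nat_lit 7), (nat_lit 4), (nat_lit 6)],
  [(nat_lit 5), (nat_lit 7), (nat_lit 6), (nat_lit 7)],
  [(nat_lit 5), (nat_lit 7), (nat_lit 7), (nat_lit 6)],
  [(nat_lit 6), (nat_lit 7), (nat_lit 0), (nat_lit 6)],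
  [(nat_lit 6), (nat_lit 7), (nat_lit 1), (nat_lit 4)],
  [(nat_lit 6), (nat_lit 7), (nat_lit 1), (nat_lit 6)],
  [(nat_lit 6), (nat_lit 7), (nat_lit 4), (nat_lit 6)],
  [(nat_lit 6), (nat_lit 7), (nat_lit 6), (nat_lit 7)],
  [(nat_lit 6), (nat_lit 7), (nat_lit 7), (nat_lit 6)],
  [(nat_lit 7), (nat_lit 0), (nat_lit 6), (nat_lit 7)],
  [(nat_lit 7), (nat_lit 1), (nat_lit 4), (nat_lit 6)],
  [(nat_lit 7), (nat_lit 1), (nat_lit 6), (nat_lit 7)],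
  [(nat_lit 7), (nat_lit 4), (nat_lit 6), (nat_lit 7)],
  [(nat_lit 7), (nat_lit 6), (nat_lit 7), (nat_lit 0)],
  [(nat_lit 7), (nat_lit 6), (nat_lit 7), (nat_lit 1)],
  [(nat_lit 7), (nat_lit 6), (nat_lit 7), (nat_lit 4)],
  [(nat_lit 7), (nat_lit 6), (nat_lit 7), (nat_lit 7)],
  [(nat_lit 7), (nat_lit 7), (nat_lit 6), (nat_lit 7)],
  [(nat_lit 0), (nat_lit 1), (nat_lit 2), (nat_lit 3), (nat_lit 4)],
  [(nat_lit 0), (nat_lit 1), (nat_lit 2), (nat_lit 3), (nat_lit 5)],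
  [(nat_lit 0), (nat_lit 1), (nat_lit 2), (nat_lit 3), (nat_lit 6)],
  [(nat_lit 0), (nat_lit 1), (nat_lit 2), (nat_lit 3), (nat_lit 7)],
  [(nat_lit 0), (nat_lit 1), (nat_lit 2), (nat_lit 4), (nat_lit 5)],
  [(nat_lit 0), (nat_lit 1), (nat_lit 2), (nat_lit 4), (nat_lit 6)],
  [(nat_lit 0), (nat_lit 1), (nat_lit 2), (nat_lit 5), (nat_lit 6)],
  [(nat_lit 0), (nat_lit 1), (nat_lit 2), (nat_lit 5), (nat_lit 7)],
  [(nat_lit 0), (nat_lit 1), (nat_lit 2), (nat_lit 6), (nat_lit 7)],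
  [(nat_lit 0), (nat_lit 1), (nat_lit 2), (nat_lit 7), (nat_lit 6)],
  [(nat_lit 0), (nat_lit 1), (nat_lit 3), (nat_lit 4), (nat_lit 5)],
  [(nat_lit 0), (nat_lit 1), (nat_lit 3), (nat_lit 4), (nat_lit 6)],
  [(nat_lit 0), (nat_lit 1), (nat_lit 3), (nat_lit 5), (nat_lit 6)],
  [(nat_lit 0), (nat_lit 1), (nat_lit 3), (nat_lit 5), (nat_lit 7)],
  [(nat_lit 0), (nat_lit 1), (nat_lit 3), (nat_lit 6), (nat_lit 7)],
  [(nat_lit 0), (nat_lit 1), (nat_lit 3), (nat_lit 7), (nat_lit 6)],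
  [(nat_lit 0), (nat_lit 1), (nat_lit 4), (nat_lit 5), (nat_lit 6)],
  [(nat_lit 0), (nat_lit 1), (nat_lit 4), (nat_lit 6), (nat_lit 7)],
  [(nat_lit 0), (nat_lit 1), (nat_lit 5), (nat_lit 6), (nat_lit 7)],
  [(nat_lit 0), (nat_lit 1), (nat_lit 5), (nat_lit 7), (nat_lit 6)],
  [(nat_lit 0), (nat_lit 1), (nat_lit 6), (nat_lit 7), (nat_lit 0)],
  [(nat_lit 0), (nat_lit 1), (nat_lit 6), (nat_lit 7), (nat_lit 1)],
  [(nat_lit 0), (nat_lit 1), (nat_lit 6), (nat_lit 7), (nat_lit 4)],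
  [(nat_lit 0), (nat_lit 1), (nat_lit 6), (nat_lit 7), (nat_lit 6)],
  [(nat_lit 0), (nat_lit 1), (nat_lit 6), (nat_lit 7), (nat_lit 7)],
  [(nat_lit 0), (nat_lit 1), (nat_lit 7), (nat_lit 6), (nat_lit 7)],
  [(nat_lit 0), (nat_lit 2), (nat_lit 3), (nat_lit 4), (nat_lit 5)],
  [(nat_lit 0), (nat_lit 2), (nat_lit 3), (nat_lit 4), (nat_lit 6)],
  [(nat_lit 0), (nat_lit 2), (nat_lit 3), (nat_lit 4), (nat_lit 7)],
  [(nat_lit 0), (nat_lit 2), (nat_lit 3), (nat_lit 5), (nat_lit 6)],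
  [(nat_lit 0), (nat_lit 2), (nat_lit 3), (nat_lit 5), (nat_lit 7)],
  [(nat_lit 0), (nat_lit 2), (nat_lit 3), (nat_lit 6), (nat_lit 7)],
  [(nat_lit 0), (nat_lit 2), (nat_lit 3), (nat_lit 7), (nat_lit 1)],
  [(nat_lit 0), (nat_lit 2), (nat_lit 3), (nat_lit 7), (nat_lit 4)],
  [(nat_lit 0), (nat_lit 2), (nat_lit 3), (nat_lit 7), (nat_lit 6)],
  [(nat_lit 0), (nat_lit 2), (nat_lit 4), (nat_lit 5), (nat_lit 6)],
  [(nat_lit 0), (nat_lit 2), (nat_lit 4), (nat_lit 5), (nat_lit 7)],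
  [(nat_lit 0), (nat_lit 2), (nat_lit 4), (nat_lit 6), (nat_lit 7)],
  [(nat_lit 0), (nat_lit 2), (nat_lit 4), (nat_lit 7), (nat_lit 6)],
  [(nat_lit 0), (nat_lit 2), (nat_lit 5), (nat_lit 6), (nat_lit 7)],
  [(nat_lit 0), (nat_lit 2), (nat_lit 5), (nat_lit 7), (nat_lit 1)],
  [(nat_lit 0), (nat_lit 2), (nat_lit 5), (nat_lit 7), (nat_lit 4)],
  [(nat_lit 0), (nat_lit 2), (nat_lit 5), (nat_lit 7), (nat_lit 6)],
  [(nat_lit 0), (nat_lit 2), (nat_lit 6), (nat_lit 7), (nat_lit 1)],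
  [(nat_lit 0), (nat_lit 2), (nat_lit 6), (nat_lit 7), (nat_lit 4)],
  [(nat_lit 0), (nat_lit 2), (nat_lit 6), (nat_lit 7), (nat_lit 6)],
  [(nat_lit 0), (nat_lit 2), (nat_lit 7), (nat_lit 1), (nat_lit 6)],
  [(nat_lit 0), (nat_lit 2), (nat_lit 7), (nat_lit 4), (nat_lit 6)],
  [(nat_lit 0), (nat_lit 2), (nat_lit 7), (nat_lit 6), (nat_lit 7)],
  [(nat_lit 0), (nat_lit 3), (nat_lit 4), (nat_lit 5), (nat_lit 6)],
  [(nat_lit 0), (nat_lit 3), (nat_lit 4), (nat_lit 5), (nat_lit 7)],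
  [(nat_lit 0), (nat_lit 3), (nat_lit 4), (nat_lit 6), (nat_lit 7)],
  [(nat_lit 0), (nat_lit 3), (nat_lit 4), (nat_lit 7), (nat_lit 6)],
  [(nat_lit 0), (nat_lit 3), (nat_lit 5), (nat_lit 7), (nat_lit 1)],
  [(nat_lit 0), (nat_lit 3), (nat_lit 5), (nat_lit 7), (nat_lit 4)],
  [(nat_lit 0), (nat_lit 3), (nat_lit 5), (nat_lit 7), (nat_lit 6)],
  [(nat_lit 0), (nat_lit 3), (nat_lit 6), (nat_lit 7), (nat_lit 0)],
  [(nat_lit 0), (nat_lit 3), (nat_lit 6), (nat_lit 7), (nat_lit 1)],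
  [(nat_lit 0), (nat_lit 3), (nat_lit 6), (nat_lit 7), (nat_lit 6)],
  [(nat_lit 0), (nat_lit 3), (nat_lit 6), (nat_lit 7), (nat_lit 7)],
  [(nat_lit 0), (nat_lit 3), (nat_lit 7), (nat_lit 1), (nat_lit 6)],
  [(nat_lit 0), (nat_lit 3), (nat_lit 7), (nat_lit 4), (nat_lit 6)],
  [(nat_lit 0), (nat_lit 3), (nat_lit 7), (nat_lit 6), (nat_lit 7)],
  [(nat_lit 0), (nat_lit 4), (nat_lit 5), (nat_lit 6), (nat_lit 7)],
  [(nat_lit 0), (nat_lit 4), (nat_lit 5), (nat_lit 7), (nat_lit 6)],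
  [(nat_lit 0), (nat_lit 4), (nat_lit 6), (nat_lit 7), (nat_lit 0)],
  [(nat_lit 0), (nat_lit 4), (nat_lit 6), (nat_lit 7), (nat_lit 1)],
  [(nat_lit 0), (nat_lit 4), (nat_lit 6), (nat_lit 7), (nat_lit 4)],
  [(nat_lit 0), (nat_lit 4), (nat_lit 6), (nat_lit 7), (nat_lit 6)],
  [(nat_lit 0), (nat_lit 4), (nat_lit 6), (nat_lit 7), (nat_lit 7)],
  [(nat_lit 0), (nat_lit 4), (nat_lit 7), (nat_lit 6), (nat_lit 7)],
  [(nat_lit 0), (nat_lit 5), (nat_lit 6), (nat_lit 7), (nat_lit 6)],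
  [(nat_lit 0), (nat_lit 5), (nat_lit 7), (nat_lit 1), (nat_lit 6)],
  [(nat_lit 0), (nat_lit 5), (nat_lit 7), (nat_lit 4), (nat_lit 6)],
  [(nat_lit 0), (nat_lit 5), (nat_lit 7), (nat_lit 6), (nat_lit 7)],
  [(nat_lit 0), (nat_lit 6), (nat_lit 7), (nat_lit 0), (nat_lit 6)],
  [(nat_lit 0), (nat_lit 6), (nat_lit 7), (nat_lit 1), (nat_lit 4)],
  [(nat_lit 0), (nat_lit 6), (nat_lit 7), (nat_lit 1), (nat_lit 6)],
  [(nat_lit 0), (nat_lit 6), (nat_lit 7), (nat_lit 4), (nat_lit 6)],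
  [(nat_lit 0), (nat_lit 6), (nat_lit 7), (nat_lit 6), (nat_lit 7)],
  [(nat_lit 0), (nat_lit 6), (nat_lit 7), (nat_lit 7), (nat_lit 6)],
  [(nat_lit 0), (nat_lit 7), (nat_lit 1), (nat_lit 6), (nat_lit 7)],
  [(nat_lit 0), (nat_lit 7), (nat_lit 4), (nat_lit 6), (nat_lit 7)],
  [(nat_lit 0), (nat_lit 7), (nat_lit 6), (nat_lit 7), (nat_lit 0)],
  [(nat_lit 0), (nat_lit 7), (nat_lit 6), (nat_lit 7), (nat_lit 1)],
  [(nat_lit 0), (nat_lit 7), (nat_lit 6), (nat_lit 7), (nat_lit 4)],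
  [(nat_lit 0), (nat_lit 7), (nat_lit 6), (nat_lit 7), (nat_lit 7)],
  [(nat_lit 1), (nat_lit 2), (nat_lit 3), (nat_lit 4), (nat_lit 5)],
  [(nat_lit 1), (nat_lit 2), (nat_lit 3), (nat_lit 4), (nat_lit 6)],
  [(nat_lit 1), (nat_lit 2), (nat_lit 3), (nat_lit 5), (nat_lit 6)],
  [(nat_lit 1), (nat_lit 2), (nat_lit 3), (nat_lit 5), (nat_lit 7)],
  [(nat_lit 1), (nat_lit 2), (nat_lit 3), (nat_lit 6), (nat_lit 7)],
  [(nat_lit 1), (nat_lit 2), (nat_lit 3), (nat_lit 7), (nat_lit 0)],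
  [(nat_lit 1), (nat_lit 2), (nat_lit 3), (nat_lit 7), (nat_lit 1)],
  [(nat_lit 1), (nat_lit 2), (nat_lit 3), (nat_lit 7), (nat_lit 6)],
  [(nat_lit 1), (nat_lit 2), (nat_lit 3), (nat_lit 7), (nat_lit 7)],
  [(nat_lit 1), (nat_lit 2), (nat_lit 4), (nat_lit 5), (nat_lit 6)],
  [(nat_lit 1), (nat_lit 2), (nat_lit 4), (nat_lit 6), (nat_lit 7)],
  [(nat_lit 1), (nat_lit 2), (nat_lit 5), (nat_lit 6), (nat_lit 7)],
  [(nat_lit 1), (nat_lit 2), (nat_lit 5), (nat_lit 7), (nat_lit 0)],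
  [(nat_lit 1), (nat_lit 2), (nat_lit 5), (nat_lit 7), (nat_lit 1)],
  [(nat_lit 1), (nat_lit 2), (nat_lit 5), (nat_lit 7), (nat_lit 6)],
  [(nat_lit 1), (nat_lit 2), (nat_lit 5), (nat_lit 7), (nat_lit 7)],
  [(nat_lit 1), (nat_lit 2), (nat_lit 6), (nat_lit 7), (nat_lit 1)],
  [(nat_lit 1), (nat_lit 2), (nat_lit 6), (nat_lit 7), (nat_lit 4)],
  [(nat_lit 1), (nat_lit 2), (nat_lit 6), (nat_lit 7), (nat_lit 6)],
  [(nat_lit 1), (nat_lit 2), (nat_lit 7), (nat_lit 0), (nat_lit 6)],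
  [(nat_lit 1), (nat_lit 2), (nat_lit 7), (nat_lit 1), (nat_lit 6)],
  [(nat_lit 1), (nat_lit 2), (nat_lit 7), (nat_lit 6), (nat_lit 7)],
  [(nat_lit 1), (nat_lit 2), (nat_lit 7), (nat_lit 7), (nat_lit 6)],
  [(nat_lit 1), (nat_lit 3), (nat_lit 4), (nat_lit 5), (nat_lit 6)],
  [(nat_lit 1), (nat_lit 3), (nat_lit 4), (nat_lit 6), (nat_lit 7)],
  [(nat_lit 1), (nat_lit 3), (nat_lit 5), (nat_lit 7), (nat_lit 0)],
  [(nat_lit 1), (nat_lit 3), (nat_lit 5), (nat_lit 7), (nat_lit 1)],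
  [(nat_lit 1), (nat_lit 3), (nat_lit 5), (nat_lit 7), (nat_lit 6)],
  [(nat_lit 1), (nat_lit 3), (nat_lit 5), (nat_lit 7), (nat_lit 7)],
  [(nat_lit 1), (nat_lit 3), (nat_lit 6), (nat_lit 7), (nat_lit 0)],
  [(nat_lit 1), (nat_lit 3), (nat_lit 6), (nat_lit 7), (nat_lit 1)],
  [(nat_lit 1), (nat_lit 3), (nat_lit 6), (nat_lit 7), (nat_lit 6)],
  [(nat_lit 1), (nat_lit 3), (nat_lit 6), (nat_lit 7), (nat_lit 7)],
  [(nat_lit 1), (nat_lit 3), (nat_lit 7), (nat_lit 0), (nat_lit 6)],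
  [(nat_lit 1), (nat_lit 3), (nat_lit 7), (nat_lit 1), (nat_lit 6)],
  [(nat_lit 1), (nat_lit 3), (nat_lit 7), (nat_lit 6), (nat_lit 7)],
  [(nat_lit 1), (nat_lit 3), (nat_lit 7), (nat_lit 7), (nat_lit 6)],
  [(nat_lit 1), (nat_lit 4), (nat_lit 5), (nat_lit 6), (nat_lit 7)],
  [(nat_lit 1), (nat_lit 4), (nat_lit 6), (nat_lit 7), (nat_lit 0)],
  [(nat_lit 1), (nat_lit 4), (nat_lit 6), (nat_lit 7), (nat_lit 1)],
  [(nat_lit 1), (nat_lit 4), (nat_lit 6), (nat_lit 7), (nat_lit 4)],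
  [(nat_lit 1), (nat_lit 4), (nat_lit 6), (nat_lit 7), (nat_lit 6)],
  [(nat_lit 1), (nat_lit 4), (nat_lit 6), (nat_lit 7), (nat_lit 7)],
  [(nat_lit 1), (nat_lit 5), (nat_lit 6), (nat_lit 7), (nat_lit 6)],
  [(nat_lit 1), (nat_lit 5), (nat_lit 7), (nat_lit 0), (nat_lit 6)],
  [(nat_lit 1), (nat_lit 5), (nat_lit 7), (nat_lit 1), (nat_lit 6)],
  [(nat_lit 1), (nat_lit 5), (nat_lit 7), (nat_lit 6), (nat_lit 7)],
  [(nat_lit 1), (nat_lit 5), (nat_lit 7), (nat_lit 7), (nat_lit 6)],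
  [(nat_lit 1), (nat_lit 6), (nat_lit 7), (nat_lit 0), (nat_lit 6)],
  [(nat_lit 1), (nat_lit 6), (nat_lit 7), (nat_lit 1), (nat_lit 4)],
  [(nat_lit 1), (nat_lit 6), (nat_lit 7), (nat_lit 1), (nat_lit 6)],
  [(nat_lit 1), (nat_lit 6), (nat_lit 7), (nat_lit 4), (nat_lit 6)],
  [(nat_lit 1), (nat_lit 6), (nat_lit 7), (nat_lit 6), (nat_lit 7)],
  [(nat_lit 1), (nat_lit 6), (nat_lit 7), (nat_lit 7), (nat_lit 6)],
  [(nat_lit 1), (nat_lit 7), (nat_lit 0), (nat_lit 6), (nat_lit 7)],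
  [(nat_lit 1), (nat_lit 7), (nat_lit 1), (nat_lit 6), (nat_lit 7)],
  [(nat_lit 1), (nat_lit 7), (nat_lit 6), (nat_lit 7), (nat_lit 0)],
  [(nat_lit 1), (nat_lit 7), (nat_lit 6), (nat_lit 7), (nat_lit 1)],
  [(nat_lit 1), (nat_lit 7), (nat_lit 6), (nat_lit 7), (nat_lit 4)],
  [(nat_lit 1), (nat_lit 7), (nat_lit 6), (nat_lit 7), (nat_lit 7)],
  [(nat_lit 1), (nat_lit 7), (nat_lit 7), (nat_lit 6), (nat_lit 7)],
  [(nat_lit 2), (nat_lit 3), (nat_lit 4), (nat_lit 5), (nat_lit 6)],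
  [(nat_lit 2), (nat_lit 3), (nat_lit 4), (nat_lit 5), (nat_lit 7)],
  [(nat_lit 2), (nat_lit 3), (nat_lit 4), (nat_lit 6), (nat_lit 7)],
  [(nat_lit 2), (nat_lit 3), (nat_lit 4), (nat_lit 7), (nat_lit 6)],
  [(nat_lit 2), (nat_lit 3), (nat_lit 5), (nat_lit 7), (nat_lit 0)],
  [(nat_lit 2), (nat_lit 3), (nat_lit 5), (nat_lit 7), (nat_lit 1)],
  [(nat_lit 2), (nat_lit 3), (nat_lit 5), (nat_lit 7), (nat_lit 4)],
  [(nat_lit 2), (nat_lit 3), (nat_lit 5), (nat_lit 7), (nat_lit 6)],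
  [(nat_lit 2), (nat_lit 3), (nat_lit 5), (nat_lit 7), (nat_lit 7)],
  [(nat_lit 2), (nat_lit 3), (nat_lit 6), (nat_lit 7), (nat_lit 6)],
  [(nat_lit 2), (nat_lit 3), (nat_lit 7), (nat_lit 0), (nat_lit 6)],
  [(nat_lit 2), (nat_lit 3), (nat_lit 7), (nat_lit 1), (nat_lit 4)],
  [(nat_lit 2), (nat_lit 3), (nat_lit 7), (nat_lit 1), (nat_lit 6)],
  [(nat_lit 2), (nat_lit 3), (nat_lit 7), (nat_lit 4), (nat_lit 6)],
  [(nat_lit 2), (nat_lit 3), (nat_lit 7), (nat_lit 6), (nat_lit 7)],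
  [(nat_lit 2), (nat_lit 3), (nat_lit 7), (nat_lit 7), (nat_lit 6)],
  [(nat_lit 2), (nat_lit 4), (nat_lit 5), (nat_lit 6), (nat_lit 7)],
  [(nat_lit 2), (nat_lit 4), (nat_lit 5), (nat_lit 7), (nat_lit 6)],
  [(nat_lit 2), (nat_lit 4), (nat_lit 6), (nat_lit 7), (nat_lit 1)],
  [(nat_lit 2), (nat_lit 4), (nat_lit 6), (nat_lit 7), (nat_lit 4)],
  [(nat_lit 2), (nat_lit 4), (nat_lit 6), (nat_lit 7), (nat_lit 6)],
  [(nat_lit 2), (nat_lit 4), (nat_lit 7), (nat_lit 6), (nat_lit 7)],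
  [(nat_lit 2), (nat_lit 5), (nat_lit 6), (nat_lit 7), (nat_lit 6)],
  [(nat_lit 2), (nat_lit 5), (nat_lit 7), (nat_lit 0), (nat_lit 6)],
  [(nat_lit 2), (nat_lit 5), (nat_lit 7), (nat_lit 1), (nat_lit 4)],
  [(nat_lit 2), (nat_lit 5), (nat_lit 7), (nat_lit 1), (nat_lit 6)],
  [(nat_lit 2), (nat_lit 5), (nat_lit 7), (nat_lit 4), (nat_lit 6)],
  [(nat_lit 2), (nat_lit 5), (nat_lit 7), (nat_lit 6), (nat_lit 7)],
  [(nat_lit 2), (nat_lit 5), (nat_lit 7), (nat_lit 7), (nat_lit 6)],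
  [(nat_lit 2), (nat_lit 6), (nat_lit 7), (nat_lit 1), (nat_lit 6)],
  [(nat_lit 2), (nat_lit 6), (nat_lit 7), (nat_lit 4), (nat_lit 6)],
  [(nat_lit 2), (nat_lit 6), (nat_lit 7), (nat_lit 6), (nat_lit 7)],
  [(nat_lit 2), (nat_lit 7), (nat_lit 0), (nat_lit 6), (nat_lit 7)],
  [(nat_lit 2), (nat_lit 7), (nat_lit 1), (nat_lit 4), (nat_lit 6)],
  [(nat_lit 2), (nat_lit 7), (nat_lit 1), (nat_lit 6), (nat_lit 7)],
  [(nat_lit 2), (nat_lit 7), (nat_lit 4), (nat_lit 6), (nat_lit 7)],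
  [(nat_lit 2), (nat_lit 7), (nat_lit 6), (nat_lit 7), (nat_lit 1)],
  [(nat_lit 2), (nat_lit 7), (nat_lit 6), (nat_lit 7), (nat_lit 4)],
  [(nat_lit 2), (nat_lit 7), (nat_lit 7), (nat_lit 6), (nat_lit 7)],
  [(nat_lit 3), (nat_lit 4), (nat_lit 5), (nat_lit 7), (nat_lit 6)],
  [(nat_lit 3), (nat_lit 4), (nat_lit 6), (nat_lit 7), (nat_lit 0)],
  [(nat_lit 3), (nat_lit 4), (nat_lit 6), (nat_lit 7), (nat_lit 1)],
  [(nat_lit 3), (nat_lit 4), (nat_lit 6), (nat_lit 7), (nat_lit 6)],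
  [(nat_lit 3), (nat_lit 4), (nat_lit 6), (nat_lit 7), (nat_lit 7)],
  [(nat_lit 3), (nat_lit 4), (nat_lit 7), (nat_lit 6), (nat_lit 7)],
  [(nat_lit 3), (nat_lit 5), (nat_lit 7), (nat_lit 0), (nat_lit 6)],
  [(nat_lit 3), (nat_lit 5), (nat_lit 7), (nat_lit 1), (nat_lit 4)],
  [(nat_lit 3), (nat_lit 5), (nat_lit 7), (nat_lit 1), (nat_lit 6)],
  [(nat_lit 3), (nat_lit 5), (nat_lit 7), (nat_lit 4), (nat_lit 6)],
  [(nat_lit 3), (nat_lit 5), (nat_lit 7), (nat_lit 7), (nat_lit 6)],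
  [(nat_lit 3), (nat_lit 6), (nat_lit 7), (nat_lit 0), (nat_lit 6)],
  [(nat_lit 3), (nat_lit 6), (nat_lit 7), (nat_lit 1), (nat_lit 6)],
  [(nat_lit 3), (nat_lit 6), (nat_lit 7), (nat_lit 6), (nat_lit 7)],
  [(nat_lit 3), (nat_lit 6), (nat_lit 7), (nat_lit 7), (nat_lit 6)],
  [(nat_lit 3), (nat_lit 7), (nat_lit 0), (nat_lit 6), (nat_lit 7)],
  [(nat_lit 3), (nat_lit 7), (nat_lit 1), (nat_lit 4), (nat_lit 6)],
  [(nat_lit 3), (nat_lit 7), (nat_lit 1), (nat_lit 6), (nat_lit 7)],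
  [(nat_lit 3), (nat_lit 7), (nat_lit 4), (nat_lit 6), (nat_lit 7)],
  [(nat_lit 3), (nat_lit 7), (nat_lit 6), (nat_lit 7), (nat_lit 0)],
  [(nat_lit 3), (nat_lit 7), (nat_lit 6), (nat_lit 7), (nat_lit 1)],
  [(nat_lit 3), (nat_lit 7), (nat_lit 6), (nat_lit 7), (nat_lit 7)],
  [(nat_lit 3), (nat_lit 7), (nat_lit 7), (nat_lit 6), (nat_lit 7)],
  [(nat_lit 4), (nat_lit 5), (nat_lit 6), (nat_lit 7), (nat_lit 6)],
  [(nat_lit 4), (nat_lit 5), (nat_lit 7), (nat_lit 6), (nat_lit 7)],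
  [(nat_lit 4), (nat_lit 6), (nat_lit 7), (nat_lit 0), (nat_lit 6)],
  [(nat_lit 4), (nat_lit 6), (nat_lit 7), (nat_lit 1), (nat_lit 4)],
  [(nat_lit 4), (nat_lit 6), (nat_lit 7), (nat_lit 1), (nat_lit 6)],
  [(nat_lit 4), (nat_lit 6), (nat_lit 7), (nat_lit 4), (nat_lit 6)],
  [(nat_lit 4), (nat_lit 6), (nat_lit 7), (nat_lit 6), (nat_lit 7)],
  [(nat_lit 4), (nat_lit 6), (nat_lit 7), (nat_lit 7), (nat_lit 6)],
  [(nat_lit 4), (nat_lit 7), (nat_lit 6), (nat_lit 7), (nat_lit 0)],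
  [(nat_lit 4), (nat_lit 7), (nat_lit 6), (nat_lit 7), (nat_lit 1)],
  [(nat_lit 4), (nat_lit 7), (nat_lit 6), (nat_lit 7), (nat_lit 4)],
  [(nat_lit 4), (nat_lit 7), (nat_lit 6), (nat_lit 7), (nat_lit 7)],
  [(nat_lit 5), (nat_lit 6), (nat_lit 7), (nat_lit 6), (nat_lit 7)],
  [(nat_lit 5), (nat_lit 7), (nat_lit 0), (nat_lit 6), (nat_lit 7)],
  [(nat_lit 5), (nat_lit 7), (nat_lit 1), (nat_lit 4), (nat_lit 6)],
  [(nat_lit 5), (nat_lit 7), (nat_lit 1), (nat_lit 6), (nat_lit 7)],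
  [(nat_lit 5), (nat_lit 7), (nat_lit 4), (nat_lit 6), (nat_lit 7)],
  [(nat_lit 5), (nat_lit 7), (nat_lit 7), (nat_lit 6), (nat_lit 7)],
  [(nat_lit 6), (nat_lit 7), (nat_lit 0), (nat_lit 6), (nat_lit 7)],
  [(nat_lit 6), (nat_lit 7), (nat_lit 1), (nat_lit 4), (nat_lit 6)],
  [(nat_lit 6), (nat_lit 7), (nat_lit 1), (nat_lit 6), (nat_lit 7)],
  [(nat_lit 6), (nat_lit 7), (nat_lit 4), (nat_lit 6), (nat_lit 7)],
  [(nat_lit 6), (nat_lit 7), (nat_lit 6), (nat_lit 7), (nat_lit 0)],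
  [(nat_lit 6), (nat_lit 7), (nat_lit 6), (nat_lit 7), (nat_lit 1)],
  [(nat_lit 6), (nat_lit 7), (nat_lit 6), (nat_lit 7), (nat_lit 4)],
  [(nat_lit 6), (nat_lit 7), (nat_lit 6), (nat_lit 7), (nat_lit 7)],
  [(nat_lit 6), (nat_lit 7), (nat_lit 7), (nat_lit 6), (nat_lit 7)],
  [(nat_lit 7), (nat_lit 0), (nat_lit 6), (nat_lit 7), (nat_lit 0)],
  [(nat_lit 7), (nat_lit 0), (nat_lit 6), (nat_lit 7), (nat_lit 1)],
  [(nat_lit 7), (nat_lit 0), (nat_lit 6), (nat_lit 7), (nat_lit 4)],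
  [(nat_lit 7), (nat_lit 0), (nat_lit 6), (nat_lit 7), (nat_lit 7)],
  [(nat_lit 7), (nat_lit 1), (nat_lit 4), (nat_lit 6), (nat_lit 7)],
  [(nat_lit 7), (nat_lit 1), (nat_lit 6), (nat_lit 7), (nat_lit 0)],
  [(nat_lit 7), (nat_lit 1), (nat_lit 6), (nat_lit 7), (nat_lit 1)],
  [(nat_lit 7), (nat_lit 1), (nat_lit 6), (nat_lit 7), (nat_lit 4)],
  [(nat_lit 7), (nat_lit 1), (nat_lit 6), (nat_lit 7), (nat_lit 7)],
  [(nat_lit 7), (nat_lit 4), (nat_lit 6), (nat_lit 7), (nat_lit 0)],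
  [(nat_lit 7), (nat_lit 4), (nat_lit 6), (nat_lit 7), (nat_lit 1)],
  [(nat_lit 7), (nat_lit 4), (nat_lit 6), (nat_lit 7), (nat_lit 4)],
  [(nat_lit 7), (nat_lit 4), (nat_lit 6), (nat_lit 7), (nat_lit 7)],
  [(nat_lit 7), (nat_lit 6), (nat_lit 7), (nat_lit 1), (nat_lit 4)],
  [(nat_lit 7), (nat_lit 7), (nat_lit 6), (nat_lit 7), (nat_lit 0)],
  [(nat_lit 7), (nat_lit 7), (nat_lit 6), (nat_lit 7), (nat_lit 1)],
  [(nat_lit 7), (nat_lit 7), (nat_lit 6), (nat_lit 7), (nat_lit 4)],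
  [(nat_lit 7), (nat_lit 7), (nat_lit 6), (nat_lit 7), (nat_lit 7)],
  [(nat_lit 0), (nat_lit 1), (nat_lit 2), (nat_lit 3), (nat_lit 4), (nat_lit 5)],
  [(nat_lit 0), (nat_lit 1), (nat_lit 2), (nat_lit 3), (nat_lit 4), (nat_lit 6)],
  [(nat_lit 0), (nat_lit 1), (nat_lit 2), (nat_lit 3), (nat_lit 5), (nat_lit 6)],
  [(nat_lit 0), (nat_lit 1), (nat_lit 2), (nat_lit 3), (nat_lit 5), (nat_lit 7)],
  [(nat_lit 0), (nat_lit 1), (nat_lit 2), (nat_lit 3), (nat_lit 6), (nat_lit 7)],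
  [(nat_lit 0), (nat_lit 1), (nat_lit 2), (nat_lit 3), (nat_lit 7), (nat_lit 6)],
  [(nat_lit 0), (nat_lit 1), (nat_lit 2), (nat_lit 4), (nat_lit 5), (nat_lit 6)],
  [(nat_lit 0), (nat_lit 1), (nat_lit 2), (nat_lit 4), (nat_lit 6), (nat_lit 7)],
  [(nat_lit 0), (nat_lit 1), (nat_lit 2), (nat_lit 5), (nat_lit 6), (nat_lit 7)],
  [(nat_lit 0), (nat_lit 1), (nat_lit 2), (nat_lit 5), (nat_lit 7), (nat_lit 6)],
  [(nat_lit 0), (nat_lit 1), (nat_lit 2), (nat_lit 6), (nat_lit 7), (nat_lit 1)],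
  [(nat_lit 0), (nat_lit 1), (nat_lit 2), (nat_lit 6), (nat_lit 7), (nat_lit 4)],
  [(nat_lit 0), (nat_lit 1), (nat_lit 2), (nat_lit 6), (nat_lit 7), (nat_lit 6)],
  [(nat_lit 0), (nat_lit 1), (nat_lit 2), (nat_lit 7), (nat_lit 6), (nat_lit 7)],
  [(nat_lit 0), (nat_lit 1), (nat_lit 3), (nat_lit 4), (nat_lit 5), (nat_lit 6)],
  [(nat_lit 0), (nat_lit 1), (nat_lit 3), (nat_lit 4), (nat_lit 6), (nat_lit 7)],
  [(nat_lit 0), (nat_lit 1), (nat_lit 3), (nat_lit 5), (nat_lit 7), (nat_lit 6)],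
  [(nat_lit 0), (nat_lit 1), (nat_lit 3), (nat_lit 6), (nat_lit 7), (nat_lit 0)],
  [(nat_lit 0), (nat_lit 1), (nat_lit 3), (nat_lit 6), (nat_lit 7), (nat_lit 1)],
  [(nat_lit 0), (nat_lit 1), (nat_lit 3), (nat_lit 6), (nat_lit 7), (nat_lit 6)],
  [(nat_lit 0), (nat_lit 1), (nat_lit 3), (nat_lit 6), (nat_lit 7), (nat_lit 7)],
  [(nat_lit 0), (nat_lit 1), (nat_lit 3), (nat_lit 7), (nat_lit 6), (nat_lit 7)],
  [(nat_lit 0), (nat_lit 1), (nat_lit 4), (nat_lit 5), (nat_lit 6), (nat_lit 7)],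
  [(nat_lit 0), (nat_lit 1), (nat_lit 4), (nat_lit 6), (nat_lit 7), (nat_lit 0)],
  [(nat_lit 0), (nat_lit 1), (nat_lit 4), (nat_lit 6), (nat_lit 7), (nat_lit 1)],
  [(nat_lit 0), (nat_lit 1), (nat_lit 4), (nat_lit 6), (nat_lit 7), (nat_lit 4)],
  [(nat_lit 0), (nat_lit 1), (nat_lit 4), (nat_lit 6), (nat_lit 7), (nat_lit 6)],
  [(nat_lit 0), (nat_lit 1), (nat_lit 4), (nat_lit 6), (nat_lit 7), (nat_lit 7)],
  [(nat_lit 0), (nat_lit 1), (nat_lit 5), (nat_lit 6), (nat_lit 7), (nat_lit 6)],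
  [(nat_lit 0), (nat_lit 1), (nat_lit 5), (nat_lit 7), (nat_lit 6), (nat_lit 7)],
  [(nat_lit 0), (nat_lit 1), (nat_lit 6), (nat_lit 7), (nat_lit 0), (nat_lit 6)],
  [(nat_lit 0), (nat_lit 1), (nat_lit 6), (nat_lit 7), (nat_lit 1), (nat_lit 4)],
  [(nat_lit 0), (nat_lit 1), (nat_lit 6), (nat_lit 7), (nat_lit 1), (nat_lit 6)],
  [(nat_lit 0), (nat_lit 1), (nat_lit 6), (nat_lit 7), (nat_lit 4), (nat_lit 6)],
  [(nat_lit 0), (nat_lit 1), (nat_lit 6), (nat_lit 7), (nat_lit 6), (nat_lit 7)],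
  [(nat_lit 0), (nat_lit 1), (nat_lit 6), (nat_lit 7), (nat_lit 7), (nat_lit 6)],
  [(nat_lit 0), (nat_lit 1), (nat_lit 7), (nat_lit 6), (nat_lit 7), (nat_lit 0)],
  [(nat_lit 0), (nat_lit 1), (nat_lit 7), (nat_lit 6), (nat_lit 7), (nat_lit 1)],
  [(nat_lit 0), (nat_lit 1), (nat_lit 7), (nat_lit 6), (nat_lit 7), (nat_lit 4)],
  [(nat_lit 0), (nat_lit 1), (nat_lit 7), (nat_lit 6), (nat_lit 7), (nat_lit 7)],
  [(nat_lit 0), (nat_lit 2), (nat_lit 3), (nat_lit 4), (nat_lit 5), (nat_lit 6)],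
  [(nat_lit 0), (nat_lit 2), (nat_lit 3), (nat_lit 4), (nat_lit 5), (nat_lit 7)],
  [(nat_lit 0), (nat_lit 2), (nat_lit 3), (nat_lit 4), (nat_lit 6), (nat_lit 7)],
  [(nat_lit 0), (nat_lit 2), (nat_lit 3), (nat_lit 4), (nat_lit 7), (nat_lit 6)],
  [(nat_lit 0), (nat_lit 2), (nat_lit 3), (nat_lit 5), (nat_lit 7), (nat_lit 1)],
  [(nat_lit 0), (nat_lit 2), (nat_lit 3), (nat_lit 5), (nat_lit 7), (nat_lit 4)],
  [(nat_lit 0), (nat_lit 2), (nat_lit 3), (nat_lit 5), (nat_lit 7), (nat_lit 6)],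
  [(nat_lit 0), (nat_lit 2), (nat_lit 3), (nat_lit 6), (nat_lit 7), (nat_lit 6)],
  [(nat_lit 0), (nat_lit 2), (nat_lit 3), (nat_lit 7), (nat_lit 1), (nat_lit 6)],
  [(nat_lit 0), (nat_lit 2), (nat_lit 3), (nat_lit 7), (nat_lit 4), (nat_lit 6)],
  [(nat_lit 0), (nat_lit 2), (nat_lit 3), (nat_lit 7), (nat_lit 6), (nat_lit 7)],
  [(nat_lit 0), (nat_lit 2), (nat_lit 4), (nat_lit 5), (nat_lit 6), (nat_lit 7)],
  [(nat_lit 0), (nat_lit 2), (nat_lit 4), (nat_lit 5), (nat_lit 7), (nat_lit 6)],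
  [(nat_lit 0), (nat_lit 2), (nat_lit 4), (nat_lit 6), (nat_lit 7), (nat_lit 1)],
  [(nat_lit 0), (nat_lit 2), (nat_lit 4), (nat_lit 6), (nat_lit 7), (nat_lit 4)],
  [(nat_lit 0), (nat_lit 2), (nat_lit 4), (nat_lit 6), (nat_lit 7), (nat_lit 6)],
  [(nat_lit 0), (nat_lit 2), (nat_lit 4), (nat_lit 7), (nat_lit 6), (nat_lit 7)],
  [(nat_lit 0), (nat_lit 2), (nat_lit 5), (nat_lit 6), (nat_lit 7), (nat_lit 6)],
  [(nat_lit 0), (nat_lit 2), (nat_lit 5), (nat_lit 7), (nat_lit 1), (nat_lit 6)],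
  [(nat_lit 0), (nat_lit 2), (nat_lit 5), (nat_lit 7), (nat_lit 4), (nat_lit 6)],
  [(nat_lit 0), (nat_lit 2), (nat_lit 5), (nat_lit 7), (nat_lit 6), (nat_lit 7)],
  [(nat_lit 0), (nat_lit 2), (nat_lit 6), (nat_lit 7), (nat_lit 1), (nat_lit 6)],
  [(nat_lit 0), (nat_lit 2), (nat_lit 6), (nat_lit 7), (nat_lit 4), (nat_lit 6)],
  [(nat_lit 0), (nat_lit 2), (nat_lit 6), (nat_lit 7), (nat_lit 6), (nat_lit 7)],
  [(nat_lit 0), (nat_lit 2), (nat_lit 7), (nat_lit 1), (nat_lit 6), (nat_lit 7)],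
  [(nat_lit 0), (nat_lit 2), (nat_lit 7), (nat_lit 4), (nat_lit 6), (nat_lit 7)],
  [(nat_lit 0), (nat_lit 2), (nat_lit 7), (nat_lit 6), (nat_lit 7), (nat_lit 1)],
  [(nat_lit 0), (nat_lit 2), (nat_lit 7), (nat_lit 6), (nat_lit 7), (nat_lit 4)],
  [(nat_lit 0), (nat_lit 3), (nat_lit 4), (nat_lit 5), (nat_lit 7), (nat_lit 6)],
  [(nat_lit 0), (nat_lit 3), (nat_lit 4), (nat_lit 6), (nat_lit 7), (nat_lit 0)],
  [(nat_lit 0), (nat_lit 3), (nat_lit 4), (nat_lit 6), (nat_lit 7), (nat_lit 1)],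
  [(nat_lit 0), (nat_lit 3), (nat_lit 4), (nat_lit 6), (nat_lit 7), (nat_lit 6)],
  [(nat_lit 0), (nat_lit 3), (nat_lit 4), (nat_lit 6), (nat_lit 7), (nat_lit 7)],
  [(nat_lit 0), (nat_lit 3), (nat_lit 4), (nat_lit 7), (nat_lit 6), (nat_lit 7)],
  [(nat_lit 0), (nat_lit 3), (nat_lit 5), (nat_lit 7), (nat_lit 1), (nat_lit 6)],
  [(nat_lit 0), (nat_lit 3), (nat_lit 5), (nat_lit 7), (nat_lit 4), (nat_lit 6)],
  [(nat_lit 0), (nat_lit 3), (nat_lit 6), (nat_lit 7), (nat_lit 0), (nat_lit 6)],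
  [(nat_lit 0), (nat_lit 3), (nat_lit 6), (nat_lit 7), (nat_lit 1), (nat_lit 6)],
  [(nat_lit 0), (nat_lit 3), (nat_lit 6), (nat_lit 7), (nat_lit 6), (nat_lit 7)],
  [(nat_lit 0), (nat_lit 3), (nat_lit 6), (nat_lit 7), (nat_lit 7), (nat_lit 6)],
  [(nat_lit 0), (nat_lit 3), (nat_lit 7), (nat_lit 1), (nat_lit 6), (nat_lit 7)],
  [(nat_lit 0), (nat_lit 3), (nat_lit 7), (nat_lit 4), (nat_lit 6), (nat_lit 7)],
  [(nat_lit 0), (nat_lit 3), (nat_lit 7), (nat_lit 6), (nat_lit 7), (nat_lit 0)],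
  [(nat_lit 0), (nat_lit 3), (nat_lit 7), (nat_lit 6), (nat_lit 7), (nat_lit 1)],
  [(nat_lit 0), (nat_lit 3), (nat_lit 7), (nat_lit 6), (nat_lit 7), (nat_lit 7)],
  [(nat_lit 0), (nat_lit 4), (nat_lit 5), (nat_lit 6), (nat_lit 7), (nat_lit 6)],
  [(nat_lit 0), (nat_lit 4), (nat_lit 5), (nat_lit 7), (nat_lit 6), (nat_lit 7)],
  [(nat_lit 0), (nat_lit 4), (nat_lit 6), (nat_lit 7), (nat_lit 0), (nat_lit 6)],
  [(nat_lit 0), (nat_lit 4), (nat_lit 6), (nat_lit 7), (nat_lit 1), (nat_lit 4)],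
  [(nat_lit 0), (nat_lit 4), (nat_lit 6), (nat_lit 7), (nat_lit 1), (nat_lit 6)],
  [(nat_lit 0), (nat_lit 4), (nat_lit 6), (nat_lit 7), (nat_lit 4), (nat_lit 6)],
  [(nat_lit 0), (nat_lit 4), (nat_lit 6), (nat_lit 7), (nat_lit 6), (nat_lit 7)],
  [(nat_lit 0), (nat_lit 4), (nat_lit 6), (nat_lit 7), (nat_lit 7), (nat_lit 6)],
  [(nat_lit 0), (nat_lit 4), (nat_lit 7), (nat_lit 6), (nat_lit 7), (nat_lit 0)],
  [(nat_lit 0), (nat_lit 4), (nat_lit 7), (nat_lit 6), (nat_lit 7), (nat_lit 1)],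
  [(nat_lit 0), (nat_lit 4), (nat_lit 7), (nat_lit 6), (nat_lit 7), (nat_lit 4)],
  [(nat_lit 0), (nat_lit 4), (nat_lit 7), (nat_lit 6), (nat_lit 7), (nat_lit 7)],
  [(nat_lit 0), (nat_lit 5), (nat_lit 6), (nat_lit 7), (nat_lit 6), (nat_lit 7)],
  [(nat_lit 0), (nat_lit 5), (nat_lit 7), (nat_lit 1), (nat_lit 6), (nat_lit 7)],
  [(nat_lit 0), (nat_lit 5), (nat_lit 7), (nat_lit 4), (nat_lit 6), (nat_lit 7)],
  [(nat_lit 0), (nat_lit 6), (nat_lit 7), (nat_lit 0), (nat_lit 6), (nat_lit 7)],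
  [(nat_lit 0), (nat_lit 6), (nat_lit 7), (nat_lit 1), (nat_lit 4), (nat_lit 6)],
  [(nat_lit 0), (nat_lit 6), (nat_lit 7), (nat_lit 1), (nat_lit 6), (nat_lit 7)],
  [(nat_lit 0), (nat_lit 6), (nat_lit 7), (nat_lit 4), (nat_lit 6), (nat_lit 7)],
  [(nat_lit 0), (nat_lit 6), (nat_lit 7), (nat_lit 6), (nat_lit 7), (nat_lit 1)],
  [(nat_lit 0), (nat_lit 6), (nat_lit 7), (nat_lit 6), (nat_lit 7), (nat_lit 4)],
  [(nat_lit 0), (nat_lit 6), (nat_lit 7), (nat_lit 7), (nat_lit 6), (nat_lit 7)],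
  [(nat_lit 0), (nat_lit 7), (nat_lit 1), (nat_lit 6), (nat_lit 7), (nat_lit 0)],
  [(nat_lit 0), (nat_lit 7), (nat_lit 1), (nat_lit 6), (nat_lit 7), (nat_lit 1)],
  [(nat_lit 0), (nat_lit 7), (nat_lit 1), (nat_lit 6), (nat_lit 7), (nat_lit 4)],
  [(nat_lit 0), (nat_lit 7), (nat_lit 1), (nat_lit 6), (nat_lit 7), (nat_lit 7)],
  [(nat_lit 0), (nat_lit 7), (nat_lit 4), (nat_lit 6), (nat_lit 7), (nat_lit 0)],
  [(nat_lit 0), (nat_lit 7), (nat_lit 4), (nat_lit 6), (nat_lit 7), (nat_lit 1)],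
  [(nat_lit 0), (nat_lit 7), (nat_lit 4), (nat_lit 6), (nat_lit 7), (nat_lit 4)],
  [(nat_lit 0), (nat_lit 7), (nat_lit 4), (nat_lit 6), (nat_lit 7), (nat_lit 7)],
  [(nat_lit 0), (nat_lit 7), (nat_lit 6), (nat_lit 7), (nat_lit 1), (nat_lit 4)],
  [(nat_lit 1), (nat_lit 2), (nat_lit 3), (nat_lit 4), (nat_lit 5), (nat_lit 6)],
  [(nat_lit 1), (nat_lit 2), (nat_lit 3), (nat_lit 4), (nat_lit 6), (nat_lit 7)],
  [(nat_lit 1), (nat_lit 2), (nat_lit 3), (nat_lit 5), (nat_lit 7), (nat_lit 0)],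
  [(nat_lit 1), (nat_lit 2), (nat_lit 3), (nat_lit 5), (nat_lit 7), (nat_lit 1)],
  [(nat_lit 1), (nat_lit 2), (nat_lit 3), (nat_lit 5), (nat_lit 7), (nat_lit 6)],
  [(nat_lit 1), (nat_lit 2), (nat_lit 3), (nat_lit 5), (nat_lit 7), (nat_lit 7)],
  [(nat_lit 1), (nat_lit 2), (nat_lit 3), (nat_lit 6), (nat_lit 7), (nat_lit 6)],
  [(nat_lit 1), (nat_lit 2), (nat_lit 3), (nat_lit 7), (nat_lit 0), (nat_lit 6)],
  [(nat_lit 1), (nat_lit 2), (nat_lit 3), (nat_lit 7), (nat_lit 1), (nat_lit 6)],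
  [(nat_lit 1), (nat_lit 2), (nat_lit 3), (nat_lit 7), (nat_lit 6), (nat_lit 7)],
  [(nat_lit 1), (nat_lit 2), (nat_lit 3), (nat_lit 7), (nat_lit 7), (nat_lit 6)],
  [(nat_lit 1), (nat_lit 2), (nat_lit 4), (nat_lit 5), (nat_lit 6), (nat_lit 7)],
  [(nat_lit 1), (nat_lit 2), (nat_lit 4), (nat_lit 6), (nat_lit 7), (nat_lit 1)],
  [(nat_lit 1), (nat_lit 2), (nat_lit 4), (nat_lit 6), (nat_lit 7), (nat_lit 4)],
  [(nat_lit 1), (nat_lit 2), (nat_lit 4), (nat_lit 6), (nat_lit 7), (nat_lit 6)],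
  [(nat_lit 1), (nat_lit 2), (nat_lit 5), (nat_lit 6), (nat_lit 7), (nat_lit 6)],
  [(nat_lit 1), (nat_lit 2), (nat_lit 5), (nat_lit 7), (nat_lit 0), (nat_lit 6)],
  [(nat_lit 1), (nat_lit 2), (nat_lit 5), (nat_lit 7), (nat_lit 1), (nat_lit 6)],
  [(nat_lit 1), (nat_lit 2), (nat_lit 5), (nat_lit 7), (nat_lit 6), (nat_lit 7)],
  [(nat_lit 1), (nat_lit 2), (nat_lit 5), (nat_lit 7), (nat_lit 7), (nat_lit 6)],
  [(nat_lit 1), (nat_lit 2), (nat_lit 6), (nat_lit 7), (nat_lit 1), (nat_lit 6)],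
  [(nat_lit 1), (nat_lit 2), (nat_lit 6), (nat_lit 7), (nat_lit 4), (nat_lit 6)],
  [(nat_lit 1), (nat_lit 2), (nat_lit 6), (nat_lit 7), (nat_lit 6), (nat_lit 7)],
  [(nat_lit 1), (nat_lit 2), (nat_lit 7), (nat_lit 0), (nat_lit 6), (nat_lit 7)],
  [(nat_lit 1), (nat_lit 2), (nat_lit 7), (nat_lit 1), (nat_lit 6), (nat_lit 7)],
  [(nat_lit 1), (nat_lit 2), (nat_lit 7), (nat_lit 6), (nat_lit 7), (nat_lit 1)],
  [(nat_lit 1), (nat_lit 2), (nat_lit 7), (nat_lit 6), (nat_lit 7), (nat_lit 4)],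
  [(nat_lit 1), (nat_lit 2), (nat_lit 7), (nat_lit 7), (nat_lit 6), (nat_lit 7)],
  [(nat_lit 1), (nat_lit 3), (nat_lit 4), (nat_lit 6), (nat_lit 7), (nat_lit 0)],
  [(nat_lit 1), (nat_lit 3), (nat_lit 4), (nat_lit 6), (nat_lit 7), (nat_lit 1)],
  [(nat_lit 1), (nat_lit 3), (nat_lit 4), (nat_lit 6), (nat_lit 7), (nat_lit 6)],
  [(nat_lit 1), (nat_lit 3), (nat_lit 4), (nat_lit 6), (nat_lit 7), (nat_lit 7)],
  [(nat_lit 1), (nat_lit 3), (nat_lit 5), (nat_lit 7), (nat_lit 0), (nat_lit 6)],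
  [(nat_lit 1), (nat_lit 3), (nat_lit 5), (nat_lit 7), (nat_lit 1), (nat_lit 6)],
  [(nat_lit 1), (nat_lit 3), (nat_lit 5), (nat_lit 7), (nat_lit 7), (nat_lit 6)],
  [(nat_lit 1), (nat_lit 3), (nat_lit 6), (nat_lit 7), (nat_lit 0), (nat_lit 6)],
  [(nat_lit 1), (nat_lit 3), (nat_lit 6), (nat_lit 7), (nat_lit 1), (nat_lit 6)],
  [(nat_lit 1), (nat_lit 3), (nat_lit 6), (nat_lit 7), (nat_lit 6), (nat_lit 7)],
  [(nat_lit 1), (nat_lit 3), (nat_lit 6), (nat_lit 7), (nat_lit 7), (nat_lit 6)],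
  [(nat_lit 1), (nat_lit 3), (nat_lit 7), (nat_lit 0), (nat_lit 6), (nat_lit 7)],
  [(nat_lit 1), (nat_lit 3), (nat_lit 7), (nat_lit 1), (nat_lit 6), (nat_lit 7)],
  [(nat_lit 1), (nat_lit 3), (nat_lit 7), (nat_lit 6), (nat_lit 7), (nat_lit 0)],
  [(nat_lit 1), (nat_lit 3), (nat_lit 7), (nat_lit 6), (nat_lit 7), (nat_lit 1)],
  [(nat_lit 1), (nat_lit 3), (nat_lit 7), (nat_lit 6), (nat_lit 7), (nat_lit 7)],
  [(nat_lit 1), (nat_lit 3), (nat_lit 7), (nat_lit 7), (nat_lit 6), (nat_lit 7)],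
  [(nat_lit 1), (nat_lit 4), (nat_lit 5), (nat_lit 6), (nat_lit 7), (nat_lit 6)],
  [(nat_lit 1), (nat_lit 4), (nat_lit 6), (nat_lit 7), (nat_lit 0), (nat_lit 6)],
  [(nat_lit 1), (nat_lit 4), (nat_lit 6), (nat_lit 7), (nat_lit 1), (nat_lit 4)],
  [(nat_lit 1), (nat_lit 4), (nat_lit 6), (nat_lit 7), (nat_lit 1), (nat_lit 6)],
  [(nat_lit 1), (nat_lit 4), (nat_lit 6), (nat_lit 7), (nat_lit 4), (nat_lit 6)],
  [(nat_lit 1), (nat_lit 4), (nat_lit 6), (nat_lit 7), (nat_lit 7), (nat_lit 6)],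
  [(nat_lit 1), (nat_lit 5), (nat_lit 6), (nat_lit 7), (nat_lit 6), (nat_lit 7)],
  [(nat_lit 1), (nat_lit 5), (nat_lit 7), (nat_lit 0), (nat_lit 6), (nat_lit 7)],
  [(nat_lit 1), (nat_lit 5), (nat_lit 7), (nat_lit 1), (nat_lit 6), (nat_lit 7)],
  [(nat_lit 1), (nat_lit 5), (nat_lit 7), (nat_lit 7), (nat_lit 6), (nat_lit 7)],
  [(nat_lit 1), (nat_lit 6), (nat_lit 7), (nat_lit 0), (nat_lit 6), (nat_lit 7)],
  [(nat_lit 1), (nat_lit 6), (nat_lit 7), (nat_lit 1), (nat_lit 4), (nat_lit 6)],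
  [(nat_lit 1), (nat_lit 6), (nat_lit 7), (nat_lit 1), (nat_lit 6), (nat_lit 7)],
  [(nat_lit 1), (nat_lit 6), (nat_lit 7), (nat_lit 4), (nat_lit 6), (nat_lit 7)],
  [(nat_lit 1), (nat_lit 6), (nat_lit 7), (nat_lit 6), (nat_lit 7), (nat_lit 0)],
  [(nat_lit 1), (nat_lit 6), (nat_lit 7), (nat_lit 6), (nat_lit 7), (nat_lit 1)],
  [(nat_lit 1), (nat_lit 6), (nat_lit 7), (nat_lit 6), (nat_lit 7), (nat_lit 7)],
  [(nat_lit 1), (nat_lit 6), (nat_lit 7), (nat_lit 7), (nat_lit 6), (nat_lit 7)],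
  [(nat_lit 1), (nat_lit 7), (nat_lit 0), (nat_lit 6), (nat_lit 7), (nat_lit 0)],
  [(nat_lit 1), (nat_lit 7), (nat_lit 0), (nat_lit 6), (nat_lit 7), (nat_lit 1)],
  [(nat_lit 1), (nat_lit 7), (nat_lit 0), (nat_lit 6), (nat_lit 7), (nat_lit 4)],
  [(nat_lit 1), (nat_lit 7), (nat_lit 0), (nat_lit 6), (nat_lit 7), (nat_lit 7)],
  [(nat_lit 1), (nat_lit 7), (nat_lit 1), (nat_lit 6), (nat_lit 7), (nat_lit 0)],
  [(nat_lit 1), (nat_lit 7), (nat_lit 1), (nat_lit 6), (nat_lit 7), (nat_lit 1)],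
  [(nat_lit 1), (nat_lit 7), (nat_lit 1), (nat_lit 6), (nat_lit 7), (nat_lit 4)],
  [(nat_lit 1), (nat_lit 7), (nat_lit 1), (nat_lit 6), (nat_lit 7), (nat_lit 7)],
  [(nat_lit 1), (nat_lit 7), (nat_lit 6), (nat_lit 7), (nat_lit 1), (nat_lit 4)],
  [(nat_lit 1), (nat_lit 7), (nat_lit 7), (nat_lit 6), (nat_lit 7), (nat_lit 0)],
  [(nat_lit 1), (nat_lit 7), (nat_lit 7), (nat_lit 6), (nat_lit 7), (nat_lit 1)],
  [(nat_lit 1), (nat_lit 7), (nat_lit 7), (nat_lit 6), (nat_lit 7), (nat_lit 4)],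
  [(nat_lit 1), (nat_lit 7), (nat_lit 7), (nat_lit 6), (nat_lit 7), (nat_lit 7)],
  [(nat_lit 2), (nat_lit 3), (nat_lit 4), (nat_lit 5), (nat_lit 7), (nat_lit 6)],
  [(nat_lit 2), (nat_lit 3), (nat_lit 4), (nat_lit 6), (nat_lit 7), (nat_lit 6)],
  [(nat_lit 2), (nat_lit 3), (nat_lit 4), (nat_lit 7), (nat_lit 6), (nat_lit 7)],
  [(nat_lit 2), (nat_lit 3), (nat_lit 5), (nat_lit 7), (nat_lit 0), (nat_lit 6)],
  [(nat_lit 2), (nat_lit 3), (nat_lit 5), (nat_lit 7), (nat_lit 1), (nat_lit 4)],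
  [(nat_lit 2), (nat_lit 3), (nat_lit 5), (nat_lit 7), (nat_lit 1), (nat_lit 6)],
  [(nat_lit 2), (nat_lit 3), (nat_lit 5), (nat_lit 7), (nat_lit 4), (nat_lit 6)],
  [(nat_lit 2), (nat_lit 3), (nat_lit 5), (nat_lit 7), (nat_lit 7), (nat_lit 6)],
  [(nat_lit 2), (nat_lit 3), (nat_lit 6), (nat_lit 7), (nat_lit 6), (nat_lit 7)],
  [(nat_lit 2), (nat_lit 3), (nat_lit 7), (nat_lit 0), (nat_lit 6), (nat_lit 7)],
  [(nat_lit 2), (nat_lit 3), (nat_lit 7), (nat_lit 1), (nat_lit 4), (nat_lit 6)],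
  [(nat_lit 2), (nat_lit 3), (nat_lit 7), (nat_lit 1), (nat_lit 6), (nat_lit 7)],
  [(nat_lit 2), (nat_lit 3), (nat_lit 7), (nat_lit 4), (nat_lit 6), (nat_lit 7)],
  [(nat_lit 2), (nat_lit 3), (nat_lit 7), (nat_lit 7), (nat_lit 6), (nat_lit 7)],
  [(nat_lit 2), (nat_lit 4), (nat_lit 5), (nat_lit 6), (nat_lit 7), (nat_lit 6)],
  [(nat_lit 2), (nat_lit 4), (nat_lit 5), (nat_lit 7), (nat_lit 6), (nat_lit 7)],
  [(nat_lit 2), (nat_lit 4), (nat_lit 6), (nat_lit 7), (nat_lit 1), (nat_lit 6)],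
  [(nat_lit 2), (nat_lit 4), (nat_lit 6), (nat_lit 7), (nat_lit 4), (nat_lit 6)],
  [(nat_lit 2), (nat_lit 4), (nat_lit 6), (nat_lit 7), (nat_lit 6), (nat_lit 7)],
  [(nat_lit 2), (nat_lit 4), (nat_lit 7), (nat_lit 6), (nat_lit 7), (nat_lit 1)],
  [(nat_lit 2), (nat_lit 4), (nat_lit 7), (nat_lit 6), (nat_lit 7), (nat_lit 4)],
  [(nat_lit 2), (nat_lit 5), (nat_lit 6), (nat_lit 7), (nat_lit 6), (nat_lit 7)],
  [(nat_lit 2), (nat_lit 5), (nat_lit 7), (nat_lit 0), (nat_lit 6), (nat_lit 7)],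
  [(nat_lit 2), (nat_lit 5), (nat_lit 7), (nat_lit 1), (nat_lit 4), (nat_lit 6)],
  [(nat_lit 2), (nat_lit 5), (nat_lit 7), (nat_lit 1), (nat_lit 6), (nat_lit 7)],
  [(nat_lit 2), (nat_lit 5), (nat_lit 7), (nat_lit 4), (nat_lit 6), (nat_lit 7)],
  [(nat_lit 2), (nat_lit 5), (nat_lit 7), (nat_lit 7), (nat_lit 6), (nat_lit 7)],
  [(nat_lit 2), (nat_lit 6), (nat_lit 7), (nat_lit 1), (nat_lit 6), (nat_lit 7)],
  [(nat_lit 2), (nat_lit 6), (nat_lit 7), (nat_lit 4), (nat_lit 6), (nat_lit 7)],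
  [(nat_lit 2), (nat_lit 6), (nat_lit 7), (nat_lit 6), (nat_lit 7), (nat_lit 0)],
  [(nat_lit 2), (nat_lit 6), (nat_lit 7), (nat_lit 6), (nat_lit 7), (nat_lit 1)],
  [(nat_lit 2), (nat_lit 6), (nat_lit 7), (nat_lit 6), (nat_lit 7), (nat_lit 4)],
  [(nat_lit 2), (nat_lit 6), (nat_lit 7), (nat_lit 6), (nat_lit 7), (nat_lit 7)],
  [(nat_lit 2), (nat_lit 7), (nat_lit 0), (nat_lit 6), (nat_lit 7), (nat_lit 1)],
  [(nat_lit 2), (nat_lit 7), (nat_lit 0), (nat_lit 6), (nat_lit 7), (nat_lit 4)],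
  [(nat_lit 2), (nat_lit 7), (nat_lit 1), (nat_lit 4), (nat_lit 6), (nat_lit 7)],
  [(nat_lit 2), (nat_lit 7), (nat_lit 1), (nat_lit 6), (nat_lit 7), (nat_lit 1)],
  [(nat_lit 2), (nat_lit 7), (nat_lit 1), (nat_lit 6), (nat_lit 7), (nat_lit 4)],
  [(nat_lit 2), (nat_lit 7), (nat_lit 4), (nat_lit 6), (nat_lit 7), (nat_lit 1)],
  [(nat_lit 2), (nat_lit 7), (nat_lit 4), (nat_lit 6), (nat_lit 7), (nat_lit 4)],
  [(nat_lit 2), (nat_lit 7), (nat_lit 7), (nat_lit 6), (nat_lit 7), (nat_lit 1)],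
  [(nat_lit 2), (nat_lit 7), (nat_lit 7), (nat_lit 6), (nat_lit 7), (nat_lit 4)],
  [(nat_lit 3), (nat_lit 4), (nat_lit 6), (nat_lit 7), (nat_lit 0), (nat_lit 6)],
  [(nat_lit 3), (nat_lit 4), (nat_lit 6), (nat_lit 7), (nat_lit 1), (nat_lit 6)],
  [(nat_lit 3), (nat_lit 4), (nat_lit 6), (nat_lit 7), (nat_lit 6), (nat_lit 7)],
  [(nat_lit 3), (nat_lit 4), (nat_lit 6), (nat_lit 7), (nat_lit 7), (nat_lit 6)],
  [(nat_lit 3), (nat_lit 4), (nat_lit 7), (nat_lit 6), (nat_lit 7), (nat_lit 0)],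
  [(nat_lit 3), (nat_lit 4), (nat_lit 7), (nat_lit 6), (nat_lit 7), (nat_lit 1)],
  [(nat_lit 3), (nat_lit 4), (nat_lit 7), (nat_lit 6), (nat_lit 7), (nat_lit 7)],
  [(nat_lit 3), (nat_lit 5), (nat_lit 7), (nat_lit 1), (nat_lit 4), (nat_lit 6)],
  [(nat_lit 3), (nat_lit 6), (nat_lit 7), (nat_lit 0), (nat_lit 6), (nat_lit 7)],
  [(nat_lit 3), (nat_lit 6), (nat_lit 7), (nat_lit 1), (nat_lit 6), (nat_lit 7)],
  [(nat_lit 3), (nat_lit 6), (nat_lit 7), (nat_lit 6), (nat_lit 7), (nat_lit 0)],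
  [(nat_lit 3), (nat_lit 6), (nat_lit 7), (nat_lit 6), (nat_lit 7), (nat_lit 1)],
  [(nat_lit 3), (nat_lit 6), (nat_lit 7), (nat_lit 6), (nat_lit 7), (nat_lit 4)],
  [(nat_lit 3), (nat_lit 6), (nat_lit 7), (nat_lit 6), (nat_lit 7), (nat_lit 7)],
  [(nat_lit 3), (nat_lit 6), (nat_lit 7), (nat_lit 7), (nat_lit 6), (nat_lit 7)],
  [(nat_lit 3), (nat_lit 7), (nat_lit 0), (nat_lit 6), (nat_lit 7), (nat_lit 0)],
  [(nat_lit 3), (nat_lit 7), (nat_lit 0), (nat_lit 6), (nat_lit 7), (nat_lit 1)],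
  [(nat_lit 3), (nat_lit 7), (nat_lit 0), (nat_lit 6), (nat_lit 7), (nat_lit 7)],
  [(nat_lit 3), (nat_lit 7), (nat_lit 1), (nat_lit 4), (nat_lit 6), (nat_lit 7)],
  [(nat_lit 3), (nat_lit 7), (nat_lit 1), (nat_lit 6), (nat_lit 7), (nat_lit 0)],
  [(nat_lit 3), (nat_lit 7), (nat_lit 1), (nat_lit 6), (nat_lit 7), (nat_lit 1)],
  [(nat_lit 3), (nat_lit 7), (nat_lit 1), (nat_lit 6), (nat_lit 7), (nat_lit 7)],
  [(nat_lit 3), (nat_lit 7), (nat_lit 4), (nat_lit 6), (nat_lit 7), (nat_lit 0)],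
  [(nat_lit 3), (nat_lit 7), (nat_lit 4), (nat_lit 6), (nat_lit 7), (nat_lit 1)],
  [(nat_lit 3), (nat_lit 7), (nat_lit 4), (nat_lit 6), (nat_lit 7), (nat_lit 7)],
  [(nat_lit 3), (nat_lit 7), (nat_lit 7), (nat_lit 6), (nat_lit 7), (nat_lit 0)],
  [(nat_lit 3), (nat_lit 7), (nat_lit 7), (nat_lit 6), (nat_lit 7), (nat_lit 1)],
  [(nat_lit 3), (nat_lit 7), (nat_lit 7), (nat_lit 6), (nat_lit 7), (nat_lit 7)],
  [(nat_lit 4), (nat_lit 5), (nat_lit 6), (nat_lit 7), (nat_lit 6), (nat_lit 7)],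
  [(nat_lit 4), (nat_lit 6), (nat_lit 7), (nat_lit 0), (nat_lit 6), (nat_lit 7)],
  [(nat_lit 4), (nat_lit 6), (nat_lit 7), (nat_lit 1), (nat_lit 4), (nat_lit 6)],
  [(nat_lit 4), (nat_lit 6), (nat_lit 7), (nat_lit 1), (nat_lit 6), (nat_lit 7)],
  [(nat_lit 4), (nat_lit 6), (nat_lit 7), (nat_lit 4), (nat_lit 6), (nat_lit 7)],
  [(nat_lit 4), (nat_lit 6), (nat_lit 7), (nat_lit 7), (nat_lit 6), (nat_lit 7)],
  [(nat_lit 4), (nat_lit 7), (nat_lit 6), (nat_lit 7), (nat_lit 1), (nat_lit 4)],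
  [(nat_lit 5), (nat_lit 6), (nat_lit 7), (nat_lit 6), (nat_lit 7), (nat_lit 0)],
  [(nat_lit 5), (nat_lit 6), (nat_lit 7), (nat_lit 6), (nat_lit 7), (nat_lit 1)],
  [(nat_lit 5), (nat_lit 6), (nat_lit 7), (nat_lit 6), (nat_lit 7), (nat_lit 4)],
  [(nat_lit 5), (nat_lit 6), (nat_lit 7), (nat_lit 6), (nat_lit 7), (nat_lit 7)],
  [(nat_lit 5), (nat_lit 7), (nat_lit 1), (nat_lit 4), (nat_lit 6), (nat_lit 7)],
  [(nat_lit 6), (nat_lit 7), (nat_lit 0), (nat_lit 6), (nat_lit 7), (nat_lit 0)],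
  [(nat_lit 6), (nat_lit 7), (nat_lit 0), (nat_lit 6), (nat_lit 7), (nat_lit 1)],
  [(nat_lit 6), (nat_lit 7), (nat_lit 0), (nat_lit 6), (nat_lit 7), (nat_lit 4)],
  [(nat_lit 6), (nat_lit 7), (nat_lit 0), (nat_lit 6), (nat_lit 7), (nat_lit 7)],
  [(nat_lit 6), (nat_lit 7), (nat_lit 1), (nat_lit 4), (nat_lit 6), (nat_lit 7)],
  [(nat_lit 6), (nat_lit 7), (nat_lit 1), (nat_lit 6), (nat_lit 7), (nat_lit 0)],
  [(nat_lit 6), (nat_lit 7), (nat_lit 1), (nat_lit 6), (nat_lit 7), (nat_lit 1)],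
  [(nat_lit 6), (nat_lit 7), (nat_lit 1), (nat_lit 6), (nat_lit 7), (nat_lit 4)],
  [(nat_lit 6), (nat_lit 7), (nat_lit 1), (nat_lit 6), (nat_lit 7), (nat_lit 7)],
  [(nat_lit 6), (nat_lit 7), (nat_lit 4), (nat_lit 6), (nat_lit 7), (nat_lit 0)],
  [(nat_lit 6), (nat_lit 7), (nat_lit 4), (nat_lit 6), (nat_lit 7), (nat_lit 1)],
  [(nat_lit 6), (nat_lit 7), (nat_lit 4), (nat_lit 6), (nat_lit 7), (nat_lit 4)],
  [(nat_lit 6), (nat_lit 7), (nat_lit 4), (nat_lit 6), (nat_lit 7), (nat_lit 7)],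
  [(nat_lit 6), (nat_lit 7), (nat_lit 6), (nat_lit 7), (nat_lit 1), (nat_lit 4)],
  [(nat_lit 6), (nat_lit 7), (nat_lit 7), (nat_lit 6), (nat_lit 7), (nat_lit 0)],
  [(nat_lit 6), (nat_lit 7), (nat_lit 7), (nat_lit 6), (nat_lit 7), (nat_lit 1)],
  [(nat_lit 6), (nat_lit 7), (nat_lit 7), (nat_lit 6), (nat_lit 7), (nat_lit 4)],
  [(nat_lit 6), (nat_lit 7), (nat_lit 7), (nat_lit 6), (nat_lit 7), (nat_lit 7)],
  [(nat_lit 7), (nat_lit 0), (nat_lit 6), (nat_lit 7), (nat_lit 1), (nat_lit 4)],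
  [(nat_lit 7), (nat_lit 1), (nat_lit 4), (nat_lit 6), (nat_lit 7), (nat_lit 0)],
  [(nat_lit 7), (nat_lit 1), (nat_lit 4), (nat_lit 6), (nat_lit 7), (nat_lit 1)],
  [(nat_lit 7), (nat_lit 1), (nat_lit 4), (nat_lit 6), (nat_lit 7), (nat_lit 4)],
  [(nat_lit 7), (nat_lit 1), (nat_lit 4), (nat_lit 6), (nat_lit 7), (nat_lit 7)],
  [(nat_lit 7), (nat_lit 1), (nat_lit 6), (nat_lit 7), (nat_lit 1), (nat_lit 4)],
  [(nat_lit 7), (nat_lit 4), (nat_lit 6), (nat_lit 7), (nat_lit 1), (nat_lit 4)],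
  [(nat_lit 7), (nat_lit 7), (nat_lit 6), (nat_lit 7), (nat_lit 1), (nat_lit 4)],
  [(nat_lit 0), (nat_lit 1), (nat_lit 2), (nat_lit 3), (nat_lit 4), (nat_lit 5), (nat_lit 6)],
  [(nat_lit 0), (nat_lit 1), (nat_lit 2), (nat_lit 3), (nat_lit 4), (nat_lit 6), (nat_lit 7)],
  [(nat_lit 0), (nat_lit 1), (nat_lit 2), (nat_lit 3), (nat_lit 5), (nat_lit 7), (nat_lit 6)],
  [(nat_lit 0), (nat_lit 1), (nat_lit 2), (nat_lit 3), (nat_lit 6), (nat_lit 7), (nat_lit 6)],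
  [(nat_lit 0), (nat_lit 1), (nat_lit 2), (nat_lit 3), (nat_lit 7), (nat_lit 6), (nat_lit 7)],
  [(nat_lit 0), (nat_lit 1), (nat_lit 2), (nat_lit 4), (nat_lit 5), (nat_lit 6), (nat_lit 7)],
  [(nat_lit 0), (nat_lit 1), (nat_lit 2), (nat_lit 4), (nat_lit 6), (nat_lit 7), (nat_lit 1)],
  [(nat_lit 0), (nat_lit 1), (nat_lit 2), (nat_lit 4), (nat_lit 6), (nat_lit 7), (nat_lit 4)],
  [(nat_lit 0), (nat_lit 1), (nat_lit 2), (nat_lit 4), (nat_lit 6), (nat_lit 7), (nat_lit 6)],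
  [(nat_lit 0), (nat_lit 1), (nat_lit 2), (nat_lit 5), (nat_lit 6), (nat_lit 7), (nat_lit 6)],
  [(nat_lit 0), (nat_lit 1), (nat_lit 2), (nat_lit 5), (nat_lit 7), (nat_lit 6), (nat_lit 7)],
  [(nat_lit 0), (nat_lit 1), (nat_lit 2), (nat_lit 6), (nat_lit 7), (nat_lit 1), (nat_lit 6)],
  [(nat_lit 0), (nat_lit 1), (nat_lit 2), (nat_lit 6), (nat_lit 7), (nat_lit 4), (nat_lit 6)],
  [(nat_lit 0), (nat_lit 1), (nat_lit 2), (nat_lit 6), (nat_lit 7), (nat_lit 6), (nat_lit 7)],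
  [(nat_lit 0), (nat_lit 1), (nat_lit 2), (nat_lit 7), (nat_lit 6), (nat_lit 7), (nat_lit 1)],
  [(nat_lit 0), (nat_lit 1), (nat_lit 2), (nat_lit 7), (nat_lit 6), (nat_lit 7), (nat_lit 4)],
  [(nat_lit 0), (nat_lit 1), (nat_lit 3), (nat_lit 4), (nat_lit 6), (nat_lit 7), (nat_lit 0)],
  [(nat_lit 0), (nat_lit 1), (nat_lit 3), (nat_lit 4), (nat_lit 6), (nat_lit 7), (nat_lit 1)],
  [(nat_lit 0), (nat_lit 1), (nat_lit 3), (nat_lit 4), (nat_lit 6), (nat_lit 7), (nat_lit 6)],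
  [(nat_lit 0), (nat_lit 1), (nat_lit 3), (nat_lit 4), (nat_lit 6), (nat_lit 7), (nat_lit 7)],
  [(nat_lit 0), (nat_lit 1), (nat_lit 3), (nat_lit 6), (nat_lit 7), (nat_lit 0), (nat_lit 6)],
  [(nat_lit 0), (nat_lit 1), (nat_lit 3), (nat_lit 6), (nat_lit 7), (nat_lit 1), (nat_lit 6)],
  [(nat_lit 0), (nat_lit 1), (nat_lit 3), (nat_lit 6), (nat_lit 7), (nat_lit 6), (nat_lit 7)],
  [(nat_lit 0), (nat_lit 1), (nat_lit 3), (nat_lit 6), (nat_lit 7), (nat_lit 7), (nat_lit 6)],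
  [(nat_lit 0), (nat_lit 1), (nat_lit 3), (nat_lit 7), (nat_lit 6), (nat_lit 7), (nat_lit 0)],
  [(nat_lit 0), (nat_lit 1), (nat_lit 3), (nat_lit 7), (nat_lit 6), (nat_lit 7), (nat_lit 1)],
  [(nat_lit 0), (nat_lit 1), (nat_lit 3), (nat_lit 7), (nat_lit 6), (nat_lit 7), (nat_lit 7)],
  [(nat_lit 0), (nat_lit 1), (nat_lit 4), (nat_lit 5), (nat_lit 6), (nat_lit 7), (nat_lit 6)],
  [(nat_lit 0), (nat_lit 1), (nat_lit 4), (nat_lit 6), (nat_lit 7), (nat_lit 0), (nat_lit 6)],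
  [(nat_lit 0), (nat_lit 1), (nat_lit 4), (nat_lit 6), (nat_lit 7), (nat_lit 1), (nat_lit 4)],
  [(nat_lit 0), (nat_lit 1), (nat_lit 4), (nat_lit 6), (nat_lit 7), (nat_lit 1), (nat_lit 6)],
  [(nat_lit 0), (nat_lit 1), (nat_lit 4), (nat_lit 6), (nat_lit 7), (nat_lit 4), (nat_lit 6)],
  [(nat_lit 0), (nat_lit 1), (nat_lit 4), (nat_lit 6), (nat_lit 7), (nat_lit 7), (nat_lit 6)],
  [(nat_lit 0), (nat_lit 1), (nat_lit 5), (nat_lit 6), (nat_lit 7), (nat_lit 6), (nat_lit 7)],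
  [(nat_lit 0), (nat_lit 1), (nat_lit 6), (nat_lit 7), (nat_lit 0), (nat_lit 6), (nat_lit 7)],
  [(nat_lit 0), (nat_lit 1), (nat_lit 6), (nat_lit 7), (nat_lit 1), (nat_lit 4), (nat_lit 6)],
  [(nat_lit 0), (nat_lit 1), (nat_lit 6), (nat_lit 7), (nat_lit 1), (nat_lit 6), (nat_lit 7)],
  [(nat_lit 0), (nat_lit 1), (nat_lit 6), (nat_lit 7), (nat_lit 4), (nat_lit 6), (nat_lit 7)],
  [(nat_lit 0), (nat_lit 1), (nat_lit 6), (nat_lit 7), (nat_lit 7), (nat_lit 6), (nat_lit 7)],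
  [(nat_lit 0), (nat_lit 1), (nat_lit 7), (nat_lit 6), (nat_lit 7), (nat_lit 1), (nat_lit 4)],
  [(nat_lit 0), (nat_lit 2), (nat_lit 3), (nat_lit 4), (nat_lit 5), (nat_lit 7), (nat_lit 6)],
  [(nat_lit 0), (nat_lit 2), (nat_lit 3), (nat_lit 4), (nat_lit 6), (nat_lit 7), (nat_lit 6)],
  [(nat_lit 0), (nat_lit 2), (nat_lit 3), (nat_lit 4), (nat_lit 7), (nat_lit 6), (nat_lit 7)],
  [(nat_lit 0), (nat_lit 2), (nat_lit 3), (nat_lit 5), (nat_lit 7), (nat_lit 1), (nat_lit 6)],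
  [(nat_lit 0), (nat_lit 2), (nat_lit 3), (nat_lit 5), (nat_lit 7), (nat_lit 4), (nat_lit 6)],
  [(nat_lit 0), (nat_lit 2), (nat_lit 3), (nat_lit 6), (nat_lit 7), (nat_lit 6), (nat_lit 7)],
  [(nat_lit 0), (nat_lit 2), (nat_lit 3), (nat_lit 7), (nat_lit 1), (nat_lit 6), (nat_lit 7)],
  [(nat_lit 0), (nat_lit 2), (nat_lit 3), (nat_lit 7), (nat_lit 4), (nat_lit 6), (nat_lit 7)],
  [(nat_lit 0), (nat_lit 2), (nat_lit 4), (nat_lit 5), (nat_lit 6), (nat_lit 7), (nat_lit 6)],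
  [(nat_lit 0), (nat_lit 2), (nat_lit 4), (nat_lit 5), (nat_lit 7), (nat_lit 6), (nat_lit 7)],
  [(nat_lit 0), (nat_lit 2), (nat_lit 4), (nat_lit 6), (nat_lit 7), (nat_lit 1), (nat_lit 6)],
  [(nat_lit 0), (nat_lit 2), (nat_lit 4), (nat_lit 6), (nat_lit 7), (nat_lit 4), (nat_lit 6)],
  [(nat_lit 0), (nat_lit 2), (nat_lit 4), (nat_lit 6), (nat_lit 7), (nat_lit 6), (nat_lit 7)],
  [(nat_lit 0), (nat_lit 2), (nat_lit 4), (nat_lit 7), (nat_lit 6), (nat_lit 7), (nat_lit 1)],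
  [(nat_lit 0), (nat_lit 2), (nat_lit 4), (nat_lit 7), (nat_lit 6), (nat_lit 7), (nat_lit 4)],
  [(nat_lit 0), (nat_lit 2), (nat_lit 5), (nat_lit 6), (nat_lit 7), (nat_lit 6), (nat_lit 7)],
  [(nat_lit 0), (nat_lit 2), (nat_lit 5), (nat_lit 7), (nat_lit 1), (nat_lit 6), (nat_lit 7)],
  [(nat_lit 0), (nat_lit 2), (nat_lit 5), (nat_lit 7), (nat_lit 4), (nat_lit 6), (nat_lit 7)],
  [(nat_lit 0), (nat_lit 2), (nat_lit 6), (nat_lit 7), (nat_lit 1), (nat_lit 6), (nat_lit 7)],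
  [(nat_lit 0), (nat_lit 2), (nat_lit 6), (nat_lit 7), (nat_lit 4), (nat_lit 6), (nat_lit 7)],
  [(nat_lit 0), (nat_lit 2), (nat_lit 6), (nat_lit 7), (nat_lit 6), (nat_lit 7), (nat_lit 1)],
  [(nat_lit 0), (nat_lit 2), (nat_lit 6), (nat_lit 7), (nat_lit 6), (nat_lit 7), (nat_lit 4)],
  [(nat_lit 0), (nat_lit 2), (nat_lit 7), (nat_lit 1), (nat_lit 6), (nat_lit 7), (nat_lit 1)],
  [(nat_lit 0), (nat_lit 2), (nat_lit 7), (nat_lit 1), (nat_lit 6), (nat_lit 7), (nat_lit 4)],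
  [(nat_lit 0), (nat_lit 2), (nat_lit 7), (nat_lit 4), (nat_lit 6), (nat_lit 7), (nat_lit 1)],
  [(nat_lit 0), (nat_lit 2), (nat_lit 7), (nat_lit 4), (nat_lit 6), (nat_lit 7), (nat_lit 4)],
  [(nat_lit 0), (nat_lit 3), (nat_lit 4), (nat_lit 6), (nat_lit 7), (nat_lit 0), (nat_lit 6)],
  [(nat_lit 0), (nat_lit 3), (nat_lit 4), (nat_lit 6), (nat_lit 7), (nat_lit 1), (nat_lit 6)],
  [(nat_lit 0), (nat_lit 3), (nat_lit 4), (nat_lit 6), (nat_lit 7), (nat_lit 6), (nat_lit 7)],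
  [(nat_lit 0), (nat_lit 3), (nat_lit 4), (nat_lit 6), (nat_lit 7), (nat_lit 7), (nat_lit 6)],
  [(nat_lit 0), (nat_lit 3), (nat_lit 4), (nat_lit 7), (nat_lit 6), (nat_lit 7), (nat_lit 0)],
  [(nat_lit 0), (nat_lit 3), (nat_lit 4), (nat_lit 7), (nat_lit 6), (nat_lit 7), (nat_lit 1)],
  [(nat_lit 0), (nat_lit 3), (nat_lit 4), (nat_lit 7), (nat_lit 6), (nat_lit 7), (nat_lit 7)],
  [(nat_lit 0), (nat_lit 3), (nat_lit 6), (nat_lit 7), (nat_lit 0), (nat_lit 6), (nat_lit 7)],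
  [(nat_lit 0), (nat_lit 3), (nat_lit 6), (nat_lit 7), (nat_lit 1), (nat_lit 6), (nat_lit 7)],
  [(nat_lit 0), (nat_lit 3), (nat_lit 6), (nat_lit 7), (nat_lit 6), (nat_lit 7), (nat_lit 1)],
  [(nat_lit 0), (nat_lit 3), (nat_lit 6), (nat_lit 7), (nat_lit 6), (nat_lit 7), (nat_lit 4)],
  [(nat_lit 0), (nat_lit 3), (nat_lit 6), (nat_lit 7), (nat_lit 7), (nat_lit 6), (nat_lit 7)],
  [(nat_lit 0), (nat_lit 3), (nat_lit 7), (nat_lit 1), (nat_lit 6), (nat_lit 7), (nat_lit 0)],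
  [(nat_lit 0), (nat_lit 3), (nat_lit 7), (nat_lit 1), (nat_lit 6), (nat_lit 7), (nat_lit 1)],
  [(nat_lit 0), (nat_lit 3), (nat_lit 7), (nat_lit 1), (nat_lit 6), (nat_lit 7), (nat_lit 7)],
  [(nat_lit 0), (nat_lit 3), (nat_lit 7), (nat_lit 4), (nat_lit 6), (nat_lit 7), (nat_lit 0)],
  [(nat_lit 0), (nat_lit 3), (nat_lit 7), (nat_lit 4), (nat_lit 6), (nat_lit 7), (nat_lit 1)],
  [(nat_lit 0), (nat_lit 3), (nat_lit 7), (nat_lit 4), (nat_lit 6), (nat_lit 7), (nat_lit 7)],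
  [(nat_lit 0), (nat_lit 4), (nat_lit 5), (nat_lit 6), (nat_lit 7), (nat_lit 6), (nat_lit 7)],
  [(nat_lit 0), (nat_lit 4), (nat_lit 6), (nat_lit 7), (nat_lit 0), (nat_lit 6), (nat_lit 7)],
  [(nat_lit 0), (nat_lit 4), (nat_lit 6), (nat_lit 7), (nat_lit 1), (nat_lit 4), (nat_lit 6)],
  [(nat_lit 0), (nat_lit 4), (nat_lit 6), (nat_lit 7), (nat_lit 1), (nat_lit 6), (nat_lit 7)],
  [(nat_lit 0), (nat_lit 4), (nat_lit 6), (nat_lit 7), (nat_lit 4), (nat_lit 6), (nat_lit 7)],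
  [(nat_lit 0), (nat_lit 4), (nat_lit 6), (nat_lit 7), (nat_lit 7), (nat_lit 6), (nat_lit 7)],
  [(nat_lit 0), (nat_lit 4), (nat_lit 7), (nat_lit 6), (nat_lit 7), (nat_lit 1), (nat_lit 4)],
  [(nat_lit 0), (nat_lit 5), (nat_lit 6), (nat_lit 7), (nat_lit 6), (nat_lit 7), (nat_lit 1)],
  [(nat_lit 0), (nat_lit 5), (nat_lit 6), (nat_lit 7), (nat_lit 6), (nat_lit 7), (nat_lit 4)],
  [(nat_lit 0), (nat_lit 6), (nat_lit 7), (nat_lit 0), (nat_lit 6), (nat_lit 7), (nat_lit 1)],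
  [(nat_lit 0), (nat_lit 6), (nat_lit 7), (nat_lit 0), (nat_lit 6), (nat_lit 7), (nat_lit 4)],
  [(nat_lit 0), (nat_lit 6), (nat_lit 7), (nat_lit 1), (nat_lit 4), (nat_lit 6), (nat_lit 7)],
  [(nat_lit 0), (nat_lit 6), (nat_lit 7), (nat_lit 1), (nat_lit 6), (nat_lit 7), (nat_lit 1)],
  [(nat_lit 0), (nat_lit 6), (nat_lit 7), (nat_lit 1), (nat_lit 6), (nat_lit 7), (nat_lit 4)],
  [(nat_lit 0), (nat_lit 6), (nat_lit 7), (nat_lit 4), (nat_lit 6), (nat_lit 7), (nat_lit 1)],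
  [(nat_lit 0), (nat_lit 6), (nat_lit 7), (nat_lit 4), (nat_lit 6), (nat_lit 7), (nat_lit 4)],
  [(nat_lit 0), (nat_lit 6), (nat_lit 7), (nat_lit 7), (nat_lit 6), (nat_lit 7), (nat_lit 1)],
  [(nat_lit 0), (nat_lit 6), (nat_lit 7), (nat_lit 7), (nat_lit 6), (nat_lit 7), (nat_lit 4)],
  [(nat_lit 0), (nat_lit 7), (nat_lit 1), (nat_lit 6), (nat_lit 7), (nat_lit 1), (nat_lit 4)],
  [(nat_lit 0), (nat_lit 7), (nat_lit 4), (nat_lit 6), (nat_lit 7), (nat_lit 1), (nat_lit 4)],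
  [(nat_lit 1), (nat_lit 2), (nat_lit 3), (nat_lit 4), (nat_lit 6), (nat_lit 7), (nat_lit 6)],
  [(nat_lit 1), (nat_lit 2), (nat_lit 3), (nat_lit 5), (nat_lit 7), (nat_lit 0), (nat_lit 6)],
  [(nat_lit 1), (nat_lit 2), (nat_lit 3), (nat_lit 5), (nat_lit 7), (nat_lit 1), (nat_lit 6)],
  [(nat_lit 1), (nat_lit 2), (nat_lit 3), (nat_lit 5), (nat_lit 7), (nat_lit 7), (nat_lit 6)],
  [(nat_lit 1), (nat_lit 2), (nat_lit 3), (nat_lit 6), (nat_lit 7), (nat_lit 6), (nat_lit 7)],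
  [(nat_lit 1), (nat_lit 2), (nat_lit 3), (nat_lit 7), (nat_lit 0), (nat_lit 6), (nat_lit 7)],
  [(nat_lit 1), (nat_lit 2), (nat_lit 3), (nat_lit 7), (nat_lit 1), (nat_lit 6), (nat_lit 7)],
  [(nat_lit 1), (nat_lit 2), (nat_lit 3), (nat_lit 7), (nat_lit 7), (nat_lit 6), (nat_lit 7)],
  [(nat_lit 1), (nat_lit 2), (nat_lit 4), (nat_lit 5), (nat_lit 6), (nat_lit 7), (nat_lit 6)],
  [(nat_lit 1), (nat_lit 2), (nat_lit 4), (nat_lit 6), (nat_lit 7), (nat_lit 1), (nat_lit 6)],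
  [(nat_lit 1), (nat_lit 2), (nat_lit 4), (nat_lit 6), (nat_lit 7), (nat_lit 4), (nat_lit 6)],
  [(nat_lit 1), (nat_lit 2), (nat_lit 5), (nat_lit 6), (nat_lit 7), (nat_lit 6), (nat_lit 7)],
  [(nat_lit 1), (nat_lit 2), (nat_lit 5), (nat_lit 7), (nat_lit 0), (nat_lit 6), (nat_lit 7)],
  [(nat_lit 1), (nat_lit 2), (nat_lit 5), (nat_lit 7), (nat_lit 1), (nat_lit 6), (nat_lit 7)],
  [(nat_lit 1), (nat_lit 2), (nat_lit 5), (nat_lit 7), (nat_lit 7), (nat_lit 6), (nat_lit 7)],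
  [(nat_lit 1), (nat_lit 2), (nat_lit 6), (nat_lit 7), (nat_lit 1), (nat_lit 6), (nat_lit 7)],
  [(nat_lit 1), (nat_lit 2), (nat_lit 6), (nat_lit 7), (nat_lit 4), (nat_lit 6), (nat_lit 7)],
  [(nat_lit 1), (nat_lit 2), (nat_lit 6), (nat_lit 7), (nat_lit 6), (nat_lit 7), (nat_lit 0)],
  [(nat_lit 1), (nat_lit 2), (nat_lit 6), (nat_lit 7), (nat_lit 6), (nat_lit 7), (nat_lit 1)],
  [(nat_lit 1), (nat_lit 2), (nat_lit 6), (nat_lit 7), (nat_lit 6), (nat_lit 7), (nat_lit 7)],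
  [(nat_lit 1), (nat_lit 2), (nat_lit 7), (nat_lit 0), (nat_lit 6), (nat_lit 7), (nat_lit 1)],
  [(nat_lit 1), (nat_lit 2), (nat_lit 7), (nat_lit 0), (nat_lit 6), (nat_lit 7), (nat_lit 4)],
  [(nat_lit 1), (nat_lit 2), (nat_lit 7), (nat_lit 1), (nat_lit 6), (nat_lit 7), (nat_lit 1)],
  [(nat_lit 1), (nat_lit 2), (nat_lit 7), (nat_lit 1), (nat_lit 6), (nat_lit 7), (nat_lit 4)],
  [(nat_lit 1), (nat_lit 2), (nat_lit 7), (nat_lit 7), (nat_lit 6), (nat_lit 7), (nat_lit 1)],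
  [(nat_lit 1), (nat_lit 2), (nat_lit 7), (nat_lit 7), (nat_lit 6), (nat_lit 7), (nat_lit 4)],
  [(nat_lit 1), (nat_lit 3), (nat_lit 4), (nat_lit 6), (nat_lit 7), (nat_lit 0), (nat_lit 6)],
  [(nat_lit 1), (nat_lit 3), (nat_lit 4), (nat_lit 6), (nat_lit 7), (nat_lit 1), (nat_lit 6)],
  [(nat_lit 1), (nat_lit 3), (nat_lit 4), (nat_lit 6), (nat_lit 7), (nat_lit 7), (nat_lit 6)],
  [(nat_lit 1), (nat_lit 3), (nat_lit 6), (nat_lit 7), (nat_lit 0), (nat_lit 6), (nat_lit 7)],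
  [(nat_lit 1), (nat_lit 3), (nat_lit 6), (nat_lit 7), (nat_lit 1), (nat_lit 6), (nat_lit 7)],
  [(nat_lit 1), (nat_lit 3), (nat_lit 6), (nat_lit 7), (nat_lit 6), (nat_lit 7), (nat_lit 0)],
  [(nat_lit 1), (nat_lit 3), (nat_lit 6), (nat_lit 7), (nat_lit 6), (nat_lit 7), (nat_lit 1)],
  [(nat_lit 1), (nat_lit 3), (nat_lit 6), (nat_lit 7), (nat_lit 6), (nat_lit 7), (nat_lit 7)],
  [(nat_lit 1), (nat_lit 3), (nat_lit 6), (nat_lit 7), (nat_lit 7), (nat_lit 6), (nat_lit 7)],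
  [(nat_lit 1), (nat_lit 3), (nat_lit 7), (nat_lit 0), (nat_lit 6), (nat_lit 7), (nat_lit 0)],
  [(nat_lit 1), (nat_lit 3), (nat_lit 7), (nat_lit 0), (nat_lit 6), (nat_lit 7), (nat_lit 1)],
  [(nat_lit 1), (nat_lit 3), (nat_lit 7), (nat_lit 0), (nat_lit 6), (nat_lit 7), (nat_lit 7)],
  [(nat_lit 1), (nat_lit 3), (nat_lit 7), (nat_lit 1), (nat_lit 6), (nat_lit 7), (nat_lit 0)],
  [(nat_lit 1), (nat_lit 3), (nat_lit 7), (nat_lit 1), (nat_lit 6), (nat_lit 7), (nat_lit 1)],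
  [(nat_lit 1), (nat_lit 3), (nat_lit 7), (nat_lit 1), (nat_lit 6), (nat_lit 7), (nat_lit 7)],
  [(nat_lit 1), (nat_lit 3), (nat_lit 7), (nat_lit 7), (nat_lit 6), (nat_lit 7), (nat_lit 0)],
  [(nat_lit 1), (nat_lit 3), (nat_lit 7), (nat_lit 7), (nat_lit 6), (nat_lit 7), (nat_lit 1)],
  [(nat_lit 1), (nat_lit 3), (nat_lit 7), (nat_lit 7), (nat_lit 6), (nat_lit 7), (nat_lit 7)],
  [(nat_lit 1), (nat_lit 4), (nat_lit 6), (nat_lit 7), (nat_lit 1), (nat_lit 4), (nat_lit 6)],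
  [(nat_lit 1), (nat_lit 5), (nat_lit 6), (nat_lit 7), (nat_lit 6), (nat_lit 7), (nat_lit 0)],
  [(nat_lit 1), (nat_lit 5), (nat_lit 6), (nat_lit 7), (nat_lit 6), (nat_lit 7), (nat_lit 1)],
  [(nat_lit 1), (nat_lit 5), (nat_lit 6), (nat_lit 7), (nat_lit 6), (nat_lit 7), (nat_lit 7)],
  [(nat_lit 1), (nat_lit 6), (nat_lit 7), (nat_lit 0), (nat_lit 6), (nat_lit 7), (nat_lit 0)],
  [(nat_lit 1), (nat_lit 6), (nat_lit 7), (nat_lit 0), (nat_lit 6), (nat_lit 7), (nat_lit 1)],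
  [(nat_lit 1), (nat_lit 6), (nat_lit 7), (nat_lit 0), (nat_lit 6), (nat_lit 7), (nat_lit 7)],
  [(nat_lit 1), (nat_lit 6), (nat_lit 7), (nat_lit 1), (nat_lit 4), (nat_lit 6), (nat_lit 7)],
  [(nat_lit 1), (nat_lit 6), (nat_lit 7), (nat_lit 1), (nat_lit 6), (nat_lit 7), (nat_lit 0)],
  [(nat_lit 1), (nat_lit 6), (nat_lit 7), (nat_lit 1), (nat_lit 6), (nat_lit 7), (nat_lit 1)],
  [(nat_lit 1), (nat_lit 6), (nat_lit 7), (nat_lit 1), (nat_lit 6), (nat_lit 7), (nat_lit 7)],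
  [(nat_lit 1), (nat_lit 6), (nat_lit 7), (nat_lit 4), (nat_lit 6), (nat_lit 7), (nat_lit 0)],
  [(nat_lit 1), (nat_lit 6), (nat_lit 7), (nat_lit 4), (nat_lit 6), (nat_lit 7), (nat_lit 1)],
  [(nat_lit 1), (nat_lit 6), (nat_lit 7), (nat_lit 4), (nat_lit 6), (nat_lit 7), (nat_lit 7)],
  [(nat_lit 1), (nat_lit 6), (nat_lit 7), (nat_lit 7), (nat_lit 6), (nat_lit 7), (nat_lit 0)],
  [(nat_lit 1), (nat_lit 6), (nat_lit 7), (nat_lit 7), (nat_lit 6), (nat_lit 7), (nat_lit 1)],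
  [(nat_lit 1), (nat_lit 6), (nat_lit 7), (nat_lit 7), (nat_lit 6), (nat_lit 7), (nat_lit 7)],
  [(nat_lit 1), (nat_lit 7), (nat_lit 0), (nat_lit 6), (nat_lit 7), (nat_lit 1), (nat_lit 4)],
  [(nat_lit 1), (nat_lit 7), (nat_lit 1), (nat_lit 6), (nat_lit 7), (nat_lit 1), (nat_lit 4)],
  [(nat_lit 1), (nat_lit 7), (nat_lit 7), (nat_lit 6), (nat_lit 7), (nat_lit 1), (nat_lit 4)],
  [(nat_lit 2), (nat_lit 3), (nat_lit 4), (nat_lit 6), (nat_lit 7), (nat_lit 6), (nat_lit 7)],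
  [(nat_lit 2), (nat_lit 3), (nat_lit 5), (nat_lit 7), (nat_lit 1), (nat_lit 4), (nat_lit 6)],
  [(nat_lit 2), (nat_lit 3), (nat_lit 6), (nat_lit 7), (nat_lit 6), (nat_lit 7), (nat_lit 0)],
  [(nat_lit 2), (nat_lit 3), (nat_lit 6), (nat_lit 7), (nat_lit 6), (nat_lit 7), (nat_lit 1)],
  [(nat_lit 2), (nat_lit 3), (nat_lit 6), (nat_lit 7), (nat_lit 6), (nat_lit 7), (nat_lit 4)],
  [(nat_lit 2), (nat_lit 3), (nat_lit 6), (nat_lit 7), (nat_lit 6), (nat_lit 7), (nat_lit 7)],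
  [(nat_lit 2), (nat_lit 3), (nat_lit 7), (nat_lit 1), (nat_lit 4), (nat_lit 6), (nat_lit 7)],
  [(nat_lit 2), (nat_lit 4), (nat_lit 5), (nat_lit 6), (nat_lit 7), (nat_lit 6), (nat_lit 7)],
  [(nat_lit 2), (nat_lit 4), (nat_lit 6), (nat_lit 7), (nat_lit 1), (nat_lit 6), (nat_lit 7)],
  [(nat_lit 2), (nat_lit 4), (nat_lit 6), (nat_lit 7), (nat_lit 4), (nat_lit 6), (nat_lit 7)],
  [(nat_lit 2), (nat_lit 5), (nat_lit 6), (nat_lit 7), (nat_lit 6), (nat_lit 7), (nat_lit 0)],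
  [(nat_lit 2), (nat_lit 5), (nat_lit 6), (nat_lit 7), (nat_lit 6), (nat_lit 7), (nat_lit 1)],
  [(nat_lit 2), (nat_lit 5), (nat_lit 6), (nat_lit 7), (nat_lit 6), (nat_lit 7), (nat_lit 4)],
  [(nat_lit 2), (nat_lit 5), (nat_lit 6), (nat_lit 7), (nat_lit 6), (nat_lit 7), (nat_lit 7)],
  [(nat_lit 2), (nat_lit 5), (nat_lit 7), (nat_lit 1), (nat_lit 4), (nat_lit 6), (nat_lit 7)],
  [(nat_lit 2), (nat_lit 6), (nat_lit 7), (nat_lit 1), (nat_lit 6), (nat_lit 7), (nat_lit 0)],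
  [(nat_lit 2), (nat_lit 6), (nat_lit 7), (nat_lit 1), (nat_lit 6), (nat_lit 7), (nat_lit 1)],
  [(nat_lit 2), (nat_lit 6), (nat_lit 7), (nat_lit 1), (nat_lit 6), (nat_lit 7), (nat_lit 4)],
  [(nat_lit 2), (nat_lit 6), (nat_lit 7), (nat_lit 1), (nat_lit 6), (nat_lit 7), (nat_lit 7)],
  [(nat_lit 2), (nat_lit 6), (nat_lit 7), (nat_lit 4), (nat_lit 6), (nat_lit 7), (nat_lit 0)],
  [(nat_lit 2), (nat_lit 6), (nat_lit 7), (nat_lit 4), (nat_lit 6), (nat_lit 7), (nat_lit 1)],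
  [(nat_lit 2), (nat_lit 6), (nat_lit 7), (nat_lit 4), (nat_lit 6), (nat_lit 7), (nat_lit 4)],
  [(nat_lit 2), (nat_lit 6), (nat_lit 7), (nat_lit 4), (nat_lit 6), (nat_lit 7), (nat_lit 7)],
  [(nat_lit 2), (nat_lit 6), (nat_lit 7), (nat_lit 6), (nat_lit 7), (nat_lit 1), (nat_lit 4)],
  [(nat_lit 2), (nat_lit 7), (nat_lit 1), (nat_lit 4), (nat_lit 6), (nat_lit 7), (nat_lit 1)],
  [(nat_lit 2), (nat_lit 7), (nat_lit 1), (nat_lit 4), (nat_lit 6), (nat_lit 7), (nat_lit 4)],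
  [(nat_lit 3), (nat_lit 4), (nat_lit 6), (nat_lit 7), (nat_lit 0), (nat_lit 6), (nat_lit 7)],
  [(nat_lit 3), (nat_lit 4), (nat_lit 6), (nat_lit 7), (nat_lit 1), (nat_lit 6), (nat_lit 7)],
  [(nat_lit 3), (nat_lit 4), (nat_lit 6), (nat_lit 7), (nat_lit 7), (nat_lit 6), (nat_lit 7)],
  [(nat_lit 3), (nat_lit 6), (nat_lit 7), (nat_lit 0), (nat_lit 6), (nat_lit 7), (nat_lit 0)],
  [(nat_lit 3), (nat_lit 6), (nat_lit 7), (nat_lit 0), (nat_lit 6), (nat_lit 7), (nat_lit 1)],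
  [(nat_lit 3), (nat_lit 6), (nat_lit 7), (nat_lit 0), (nat_lit 6), (nat_lit 7), (nat_lit 4)],
  [(nat_lit 3), (nat_lit 6), (nat_lit 7), (nat_lit 0), (nat_lit 6), (nat_lit 7), (nat_lit 7)],
  [(nat_lit 3), (nat_lit 6), (nat_lit 7), (nat_lit 1), (nat_lit 6), (nat_lit 7), (nat_lit 0)],
  [(nat_lit 3), (nat_lit 6), (nat_lit 7), (nat_lit 1), (nat_lit 6), (nat_lit 7), (nat_lit 1)],
  [(nat_lit 3), (nat_lit 6), (nat_lit 7), (nat_lit 1), (nat_lit 6), (nat_lit 7), (nat_lit 4)],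
  [(nat_lit 3), (nat_lit 6), (nat_lit 7), (nat_lit 1), (nat_lit 6), (nat_lit 7), (nat_lit 7)],
  [(nat_lit 3), (nat_lit 6), (nat_lit 7), (nat_lit 6), (nat_lit 7), (nat_lit 1), (nat_lit 4)],
  [(nat_lit 3), (nat_lit 6), (nat_lit 7), (nat_lit 7), (nat_lit 6), (nat_lit 7), (nat_lit 0)],
  [(nat_lit 3), (nat_lit 6), (nat_lit 7), (nat_lit 7), (nat_lit 6), (nat_lit 7), (nat_lit 1)],
  [(nat_lit 3), (nat_lit 6), (nat_lit 7), (nat_lit 7), (nat_lit 6), (nat_lit 7), (nat_lit 4)],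
  [(nat_lit 3), (nat_lit 6), (nat_lit 7), (nat_lit 7), (nat_lit 6), (nat_lit 7), (nat_lit 7)],
  [(nat_lit 3), (nat_lit 7), (nat_lit 1), (nat_lit 4), (nat_lit 6), (nat_lit 7), (nat_lit 0)],
  [(nat_lit 3), (nat_lit 7), (nat_lit 1), (nat_lit 4), (nat_lit 6), (nat_lit 7), (nat_lit 1)],
  [(nat_lit 3), (nat_lit 7), (nat_lit 1), (nat_lit 4), (nat_lit 6), (nat_lit 7), (nat_lit 7)],
  [(nat_lit 4), (nat_lit 6), (nat_lit 7), (nat_lit 1), (nat_lit 4), (nat_lit 6), (nat_lit 7)],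
  [(nat_lit 5), (nat_lit 6), (nat_lit 7), (nat_lit 6), (nat_lit 7), (nat_lit 1), (nat_lit 4)],
  [(nat_lit 6), (nat_lit 7), (nat_lit 0), (nat_lit 6), (nat_lit 7), (nat_lit 1), (nat_lit 4)],
  [(nat_lit 6), (nat_lit 7), (nat_lit 1), (nat_lit 4), (nat_lit 6), (nat_lit 7), (nat_lit 0)],
  [(nat_lit 6), (nat_lit 7), (nat_lit 1), (nat_lit 4), (nat_lit 6), (nat_lit 7), (nat_lit 1)],
  [(nat_lit 6), (nat_lit 7), (nat_lit 1), (nat_lit 4), (nat_lit 6), (nat_lit 7), (nat_lit 4)],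
  [(nat_lit 6), (nat_lit 7), (nat_lit 1), (nat_lit 4), (nat_lit 6), (nat_lit 7), (nat_lit 7)],
  [(nat_lit 6), (nat_lit 7), (nat_lit 1), (nat_lit 6), (nat_lit 7), (nat_lit 1), (nat_lit 4)],
  [(nat_lit 6), (nat_lit 7), (nat_lit 4), (nat_lit 6), (nat_lit 7), (nat_lit 1), (nat_lit 4)],
  [(nat_lit 6), (nat_lit 7), (nat_lit 7), (nat_lit 6), (nat_lit 7), (nat_lit 1), (nat_lit 4)],
  [(nat_lit 7), (nat_lit 1), (nat_lit 4), (nat_lit 6), (nat_lit 7), (nat_lit 1), (nat_lit 4)],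
  [(nat_lit 0), (nat_lit 1), (nat_lit 2), (nat_lit 3), (nat_lit 4), (nat_lit 6), (nat_lit 7), (nat_lit 6)],
  [(nat_lit 0), (nat_lit 1), (nat_lit 2), (nat_lit 3), (nat_lit 6), (nat_lit 7), (nat_lit 6), (nat_lit 7)],
  [(nat_lit 0), (nat_lit 1), (nat_lit 2), (nat_lit 4), (nat_lit 5), (nat_lit 6), (nat_lit 7), (nat_lit 6)],
  [(nat_lit 0), (nat_lit 1), (nat_lit 2), (nat_lit 4), (nat_lit 6), (nat_lit 7), (nat_lit 1), (nat_lit 6)],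
  [(nat_lit 0), (nat_lit 1), (nat_lit 2), (nat_lit 4), (nat_lit 6), (nat_lit 7), (nat_lit 4), (nat_lit 6)],
  [(nat_lit 0), (nat_lit 1), (nat_lit 2), (nat_lit 5), (nat_lit 6), (nat_lit 7), (nat_lit 6), (nat_lit 7)],
  [(nat_lit 0), (nat_lit 1), (nat_lit 2), (nat_lit 6), (nat_lit 7), (nat_lit 1), (nat_lit 6), (nat_lit 7)],
  [(nat_lit 0), (nat_lit 1), (nat_lit 2), (nat_lit 6), (nat_lit 7), (nat_lit 4), (nat_lit 6), (nat_lit 7)],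
  [(nat_lit 0), (nat_lit 1), (nat_lit 3), (nat_lit 4), (nat_lit 6), (nat_lit 7), (nat_lit 0), (nat_lit 6)],
  [(nat_lit 0), (nat_lit 1), (nat_lit 3), (nat_lit 4), (nat_lit 6), (nat_lit 7), (nat_lit 1), (nat_lit 6)],
  [(nat_lit 0), (nat_lit 1), (nat_lit 3), (nat_lit 4), (nat_lit 6), (nat_lit 7), (nat_lit 7), (nat_lit 6)],
  [(nat_lit 0), (nat_lit 1), (nat_lit 3), (nat_lit 6), (nat_lit 7), (nat_lit 0), (nat_lit 6), (nat_lit 7)],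
  [(nat_lit 0), (nat_lit 1), (nat_lit 3), (nat_lit 6), (nat_lit 7), (nat_lit 1), (nat_lit 6), (nat_lit 7)],
  [(nat_lit 0), (nat_lit 1), (nat_lit 3), (nat_lit 6), (nat_lit 7), (nat_lit 7), (nat_lit 6), (nat_lit 7)],
  [(nat_lit 0), (nat_lit 1), (nat_lit 4), (nat_lit 6), (nat_lit 7), (nat_lit 1), (nat_lit 4), (nat_lit 6)],
  [(nat_lit 0), (nat_lit 1), (nat_lit 6), (nat_lit 7), (nat_lit 1), (nat_lit 4), (nat_lit 6), (nat_lit 7)],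
  [(nat_lit 0), (nat_lit 2), (nat_lit 3), (nat_lit 4), (nat_lit 6), (nat_lit 7), (nat_lit 6), (nat_lit 7)],
  [(nat_lit 0), (nat_lit 2), (nat_lit 3), (nat_lit 6), (nat_lit 7), (nat_lit 6), (nat_lit 7), (nat_lit 1)],
  [(nat_lit 0), (nat_lit 2), (nat_lit 3), (nat_lit 6), (nat_lit 7), (nat_lit 6), (nat_lit 7), (nat_lit 4)],
  [(nat_lit 0), (nat_lit 2), (nat_lit 4), (nat_lit 5), (nat_lit 6), (nat_lit 7), (nat_lit 6), (nat_lit 7)],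
  [(nat_lit 0), (nat_lit 2), (nat_lit 4), (nat_lit 6), (nat_lit 7), (nat_lit 1), (nat_lit 6), (nat_lit 7)],
  [(nat_lit 0), (nat_lit 2), (nat_lit 4), (nat_lit 6), (nat_lit 7), (nat_lit 4), (nat_lit 6), (nat_lit 7)],
  [(nat_lit 0), (nat_lit 2), (nat_lit 5), (nat_lit 6), (nat_lit 7), (nat_lit 6), (nat_lit 7), (nat_lit 1)],
  [(nat_lit 0), (nat_lit 2), (nat_lit 5), (nat_lit 6), (nat_lit 7), (nat_lit 6), (nat_lit 7), (nat_lit 4)],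
  [(nat_lit 0), (nat_lit 2), (nat_lit 6), (nat_lit 7), (nat_lit 1), (nat_lit 6), (nat_lit 7), (nat_lit 1)],
  [(nat_lit 0), (nat_lit 2), (nat_lit 6), (nat_lit 7), (nat_lit 1), (nat_lit 6), (nat_lit 7), (nat_lit 4)],
  [(nat_lit 0), (nat_lit 2), (nat_lit 6), (nat_lit 7), (nat_lit 4), (nat_lit 6), (nat_lit 7), (nat_lit 1)],
  [(nat_lit 0), (nat_lit 2), (nat_lit 6), (nat_lit 7), (nat_lit 4), (nat_lit 6), (nat_lit 7), (nat_lit 4)],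
  [(nat_lit 0), (nat_lit 3), (nat_lit 4), (nat_lit 6), (nat_lit 7), (nat_lit 0), (nat_lit 6), (nat_lit 7)],
  [(nat_lit 0), (nat_lit 3), (nat_lit 4), (nat_lit 6), (nat_lit 7), (nat_lit 1), (nat_lit 6), (nat_lit 7)],
  [(nat_lit 0), (nat_lit 3), (nat_lit 4), (nat_lit 6), (nat_lit 7), (nat_lit 7), (nat_lit 6), (nat_lit 7)],
  [(nat_lit 0), (nat_lit 3), (nat_lit 6), (nat_lit 7), (nat_lit 0), (nat_lit 6), (nat_lit 7), (nat_lit 1)],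
  [(nat_lit 0), (nat_lit 3), (nat_lit 6), (nat_lit 7), (nat_lit 0), (nat_lit 6), (nat_lit 7), (nat_lit 4)],
  [(nat_lit 0), (nat_lit 3), (nat_lit 6), (nat_lit 7), (nat_lit 1), (nat_lit 6), (nat_lit 7), (nat_lit 1)],
  [(nat_lit 0), (nat_lit 3), (nat_lit 6), (nat_lit 7), (nat_lit 1), (nat_lit 6), (nat_lit 7), (nat_lit 4)],
  [(nat_lit 0), (nat_lit 3), (nat_lit 6), (nat_lit 7), (nat_lit 7), (nat_lit 6), (nat_lit 7), (nat_lit 1)],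
  [(nat_lit 0), (nat_lit 3), (nat_lit 6), (nat_lit 7), (nat_lit 7), (nat_lit 6), (nat_lit 7), (nat_lit 4)],
  [(nat_lit 0), (nat_lit 4), (nat_lit 6), (nat_lit 7), (nat_lit 1), (nat_lit 4), (nat_lit 6), (nat_lit 7)],
  [(nat_lit 0), (nat_lit 6), (nat_lit 7), (nat_lit 1), (nat_lit 4), (nat_lit 6), (nat_lit 7), (nat_lit 1)],
  [(nat_lit 0), (nat_lit 6), (nat_lit 7), (nat_lit 1), (nat_lit 4), (nat_lit 6), (nat_lit 7), (nat_lit 4)],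
  [(nat_lit 1), (nat_lit 2), (nat_lit 3), (nat_lit 6), (nat_lit 7), (nat_lit 6), (nat_lit 7), (nat_lit 0)],
  [(nat_lit 1), (nat_lit 2), (nat_lit 3), (nat_lit 6), (nat_lit 7), (nat_lit 6), (nat_lit 7), (nat_lit 1)],
  [(nat_lit 1), (nat_lit 2), (nat_lit 3), (nat_lit 6), (nat_lit 7), (nat_lit 6), (nat_lit 7), (nat_lit 7)],
  [(nat_lit 1), (nat_lit 2), (nat_lit 5), (nat_lit 6), (nat_lit 7), (nat_lit 6), (nat_lit 7), (nat_lit 0)],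
  [(nat_lit 1), (nat_lit 2), (nat_lit 5), (nat_lit 6), (nat_lit 7), (nat_lit 6), (nat_lit 7), (nat_lit 1)],
  [(nat_lit 1), (nat_lit 2), (nat_lit 5), (nat_lit 6), (nat_lit 7), (nat_lit 6), (nat_lit 7), (nat_lit 7)],
  [(nat_lit 1), (nat_lit 2), (nat_lit 6), (nat_lit 7), (nat_lit 1), (nat_lit 6), (nat_lit 7), (nat_lit 0)],
  [(nat_lit 1), (nat_lit 2), (nat_lit 6), (nat_lit 7), (nat_lit 1), (nat_lit 6), (nat_lit 7), (nat_lit 1)],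
  [(nat_lit 1), (nat_lit 2), (nat_lit 6), (nat_lit 7), (nat_lit 1), (nat_lit 6), (nat_lit 7), (nat_lit 7)],
  [(nat_lit 1), (nat_lit 2), (nat_lit 6), (nat_lit 7), (nat_lit 4), (nat_lit 6), (nat_lit 7), (nat_lit 0)],
  [(nat_lit 1), (nat_lit 2), (nat_lit 6), (nat_lit 7), (nat_lit 4), (nat_lit 6), (nat_lit 7), (nat_lit 1)],
  [(nat_lit 1), (nat_lit 2), (nat_lit 6), (nat_lit 7), (nat_lit 4), (nat_lit 6), (nat_lit 7), (nat_lit 7)],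
  [(nat_lit 1), (nat_lit 3), (nat_lit 6), (nat_lit 7), (nat_lit 0), (nat_lit 6), (nat_lit 7), (nat_lit 0)],
  [(nat_lit 1), (nat_lit 3), (nat_lit 6), (nat_lit 7), (nat_lit 0), (nat_lit 6), (nat_lit 7), (nat_lit 1)],
  [(nat_lit 1), (nat_lit 3), (nat_lit 6), (nat_lit 7), (nat_lit 0), (nat_lit 6), (nat_lit 7), (nat_lit 7)],
  [(nat_lit 1), (nat_lit 3), (nat_lit 6), (nat_lit 7), (nat_lit 1), (nat_lit 6), (nat_lit 7), (nat_lit 0)],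
  [(nat_lit 1), (nat_lit 3), (nat_lit 6), (nat_lit 7), (nat_lit 1), (nat_lit 6), (nat_lit 7), (nat_lit 1)],
  [(nat_lit 1), (nat_lit 3), (nat_lit 6), (nat_lit 7), (nat_lit 1), (nat_lit 6), (nat_lit 7), (nat_lit 7)],
  [(nat_lit 1), (nat_lit 3), (nat_lit 6), (nat_lit 7), (nat_lit 7), (nat_lit 6), (nat_lit 7), (nat_lit 0)],
  [(nat_lit 1), (nat_lit 3), (nat_lit 6), (nat_lit 7), (nat_lit 7), (nat_lit 6), (nat_lit 7), (nat_lit 1)],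
  [(nat_lit 1), (nat_lit 3), (nat_lit 6), (nat_lit 7), (nat_lit 7), (nat_lit 6), (nat_lit 7), (nat_lit 7)],
  [(nat_lit 1), (nat_lit 6), (nat_lit 7), (nat_lit 1), (nat_lit 4), (nat_lit 6), (nat_lit 7), (nat_lit 0)],
  [(nat_lit 1), (nat_lit 6), (nat_lit 7), (nat_lit 1), (nat_lit 4), (nat_lit 6), (nat_lit 7), (nat_lit 1)],
  [(nat_lit 1), (nat_lit 6), (nat_lit 7), (nat_lit 1), (nat_lit 4), (nat_lit 6), (nat_lit 7), (nat_lit 7)],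
  [(nat_lit 2), (nat_lit 3), (nat_lit 6), (nat_lit 7), (nat_lit 6), (nat_lit 7), (nat_lit 1), (nat_lit 4)],
  [(nat_lit 2), (nat_lit 5), (nat_lit 6), (nat_lit 7), (nat_lit 6), (nat_lit 7), (nat_lit 1), (nat_lit 4)],
  [(nat_lit 2), (nat_lit 6), (nat_lit 7), (nat_lit 1), (nat_lit 6), (nat_lit 7), (nat_lit 1), (nat_lit 4)],
  [(nat_lit 2), (nat_lit 6), (nat_lit 7), (nat_lit 4), (nat_lit 6), (nat_lit 7), (nat_lit 1), (nat_lit 4)],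
  [(nat_lit 3), (nat_lit 6), (nat_lit 7), (nat_lit 0), (nat_lit 6), (nat_lit 7), (nat_lit 1), (nat_lit 4)],
  [(nat_lit 3), (nat_lit 6), (nat_lit 7), (nat_lit 1), (nat_lit 6), (nat_lit 7), (nat_lit 1), (nat_lit 4)],
  [(nat_lit 3), (nat_lit 6), (nat_lit 7), (nat_lit 7), (nat_lit 6), (nat_lit 7), (nat_lit 1), (nat_lit 4)],
  [(nat_lit 6), (nat_lit 7), (nat_lit 1), (nat_lit 4), (nat_lit 6), (nat_lit 7), (nat_lit 1), (nat_lit 4)]]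
noncomputable def SB_lJ_h (c : ℕ) : ℕ := Nat.mod c (nat_lit 123565)
theorem SB_lJ_E {G : Type*} [Group G] {R : ℕ → G → Prop} {a b q c d e u r p v j w h g k l : G}
    (M : Md0 S8_o SB_cs R [a, b, q, c, d, e, u, r, p, v, j, w, h, g, k, l]) :
    EnumS R SB_lJ (sp [a, r, c, u, p, v, j, h]) :=
  enumS_sp M.μ.1 (M.reps.tms M.μ.1 [(.v (nat_lit 0)), (.v (nat_lit 7)), (.v (nat_lit 3)), (.v (nat_lit 6)), (.v (nat_lit 8)), (.v (nat_lit 9)), (.v (nat_lit 10)), (.v (nat_lit 12))] (cs' := [(nat_lit 0xfac681), (nat_lit 0xf94748), (nat_lit 0xfab888), (nat_lit 0xdec688), (nat_lit 0xf8c62a), (nat_lit 0x8efc88), (nat_lit 0xab91a3), (nat_lit 0xfac611)]) (by decide +kernel))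
    (Ws := SB_lJ_W) (by decide +kernel) (by decide +kernel)
theorem SB_lJ_c {G : Type*} [Group G] {R : ℕ → G → Prop} {a b q c d e u r p v j w h g k l : G}
    (M : Md0 S8_o SB_cs R [a, b, q, c, d, e, u, r, p, v, j, w, h, g, k, l]) :
    #(sp [a, r, c, u, p, v, j, h]) = 1152 :=
  (SB_lJ_E M).card M.μ (h := SB_lJ_h) (by decide +kernel)
noncomputable def SB_T_t0 : ST := (.node (nat_lit 88) (.node (nat_lit 23) (.leaf (nat_lit 0)) (.node (nat_lit 25) (.leaf (nat_lit 7)) (.leaf (nat_lit 0)))) (.node (nat_lit 123) (.node (nat_lit 93) (.leaf (nat_lit 27)) (.leaf (nat_lit 0))) (.node (nat_lit 128) (.leaf (nat_lit 6)) (.leaf (nat_lit 0)))))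
noncomputable def SB_T_t1 : ST := (.node (nat_lit 170) (.node (nat_lit 93) (.node (nat_lit 35) (.node (nat_lit 27) (.node (nat_lit 26) (.leaf (nat_lit 0)) (.leaf (nat_lit 61))) (.node (nat_lit 32) (.leaf (nat_lit 8)) (.leaf (nat_lit 15)))) (.node (nat_lit 58) (.node (nat_lit 44) (.leaf (nat_lit 2)) (.leaf (nat_lit 18))) (.node (nat_lit 66) (.leaf (nat_lit 349)) (.node (nat_lit 81) (.leaf (nat_lit 12)) (.leaf (nat_lit 1)))))) (.node (nat_lit 122) (.node (nat_lit 112) (.node (nat_lit 105) (.leaf (nat_lit 15)) (.leaf (nat_lit 36))) (.node (nat_lit 115) (.leaf (nat_lit 112)) (.node (nat_lit 120) (.leaf (nat_lit 36)) (.leaf (nat_lit 129))))) (.node (nat_lit 149) (.node (nat_lit 140) (.leaf (nat_lit 36)) (.leaf (nat_lit 5))) (.node (nat_lit 162) (.leaf (nat_lit 0)) (.node (nat_lit 165) (.leaf (nat_lit 32)) (.leaf (nat_lit 7))))))) (.node (nat_lit 232) (.node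 (nat_lit 222) (.node (nat_lit 186) (.node (nat_lit 172) (.leaf (nat_lit 8)) (.leaf (nat_lit 7))) (.node (nat_lit 216) (.leaf (nat_lit 183)) (.leaf (nat_lit 6)))) (.node (nat_lit 226) (.node (nat_lit 223) (.leaf (nat_lit 0)) (.leaf (nat_lit 31))) (.node (nat_lit 229) (.leaf (nat_lit 6)) (.node (nat_lit 231) (.leaf (nat_lit 5)) (.leaf (nat_lit 35)))))) (.node (nat_lit 248) (.node (nat_lit 237) (.node (nat_lit 236) (.leaf (nat_lit 0)) (.leaf (nat_lit 15))) (.node (nat_lit 238) (.leaf (nat_lit 8)) (.node (nat_lit 241) (.leaf (nat_lit 9)) (.leaf (nat_lit 44))))) (.node (nat_lit 258) (.node (nat_lit 255) (.leaf (nat_lit 93)) (.leaf (nat_lit 235))) (.node (nat_lit 263) (.leaf (nat_lit 93)) (.node (nat_lit 265) (.leaf (nat_lit 250)) (.leaf (nat_lit 93))))))))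
noncomputable def SB_T_F : Fm := (.allS SB_lT (.and (.qf (.eq (.mul (.v (nat_lit 0)) (.mul (.mul (.mul (.v (nat_lit 1)) (.v (nat_lit 8))) (.v (nat_lit 4))) (.v (nat_lit 7)))) (.mul (.mul (.mul (.mul (.v (nat_lit 1)) (.v (nat_lit 8))) (.v (nat_lit 4))) (.v (nat_lit 7))) (.v (nat_lit 0))))) (.or (.qf (.not (.eq (.mul (.v (nat_lit 0)) (.v (nat_lit 0))) .one))) (.or (.qf (.eq (.v (nat_lit 0)) .one)) (.or (.exG SB_lT (fun cs => SB_T_t0.find (Nat.mod (nth (nat_lit 0) cs (nat_lit 0)) (nat_lit 129))) (.qf (.eq (.mul (.mul (.v (nat_lit 0)) (.v (nat_lit 1))) (.inv (.v (nat_lit 0)))) (.v (nat_lit 8))))) (.exG SB_lJ (fun cs => SB_T_t1.find (Nat.mod (nth (nat_lit 0) cs (nat_lit 0)) (nat_lit 271))) (.qf (.or (.or (.eq (.mul (.mul (.v (nat_lit 0)) (.v (nat_lit 1))) (.inv (.v (nat_lit 0)))) (.mul (.v (nat_lit 2)) (.v (nat_lit 9)))) (.eq (.mul (.mul (.v (nat_lit 0))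 (.v (nat_lit 1))) (.inv (.v (nat_lit 0)))) (.mul (.mul (.v (nat_lit 15)) (.mul (.v (nat_lit 2)) (.v (nat_lit 9)))) (.inv (.v (nat_lit 15)))))) (.or (.or (.eq (.mul (.mul (.v (nat_lit 0)) (.v (nat_lit 1))) (.inv (.v (nat_lit 0)))) (.mul (.mul (.mul (.v (nat_lit 2)) (.v (nat_lit 9))) (.v (nat_lit 5))) (.v (nat_lit 8)))) (.eq (.mul (.mul (.v (nat_lit 0)) (.v (nat_lit 1))) (.inv (.v (nat_lit 0)))) (.mul (.mul (.v (nat_lit 16)) (.mul (.mul (.mul (.v (nat_lit 2)) (.v (nat_lit 9))) (.v (nat_lit 5))) (.v (nat_lit 8)))) (.inv (.v (nat_lit 16)))))) (.eq (.mul (.mul (.v (nat_lit 0)) (.v (nat_lit 1))) (.inv (.v (nat_lit 0)))) (.mul (.mul (.v (nat_lit 17)) (.v (nat_lit 13))) (.inv (.v (nat_lit 17))))))))))))))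
theorem SB_T_chk : Fm.chk S8_o SB_T_F SB_cs = true := by decide +kernel
theorem SB_T {G : Type*} [Group G] {R : ℕ → G → Prop} {a b q c d e u r p v j w h g k l : G}
    (M : Md0 S8_o SB_cs R [a, b, q, c, d, e, u, r, p, v, j, w, h, g, k, l]) :
    ∀ t ∈ sp [a, r, c, u, p, v, j], t * (a * r * c * u) = a * r * c * u * t ∧ (t * t ≠ 1 ∨ t = 1 ∨ (∃ m ∈ sp [a, r, c, u, p, v, j], m * t * m⁻¹ = u) ∨ (∃ m ∈ sp [a, r, c, u, p, v, j, h], (m * t * m⁻¹ = a * r ∨ m * t * m⁻¹ = g * (a * r) * g⁻¹) ∨ (m * t * m⁻¹ = a * r * c * u ∨ m * t * m⁻¹ = k * (a * r * c * u) * k⁻¹) ∨ m * t * m⁻¹ = l * w * l⁻¹)) :=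
  have h : ∀ t, InS R SB_lT t → t * (a * r * c * u) = a * r * c * u * t ∧ (t * t ≠ 1 ∨ t = 1 ∨ (GoodS R SB_lT → SB_lT ≠ [] → ∃ m, InS R SB_lT m ∧ m * t * m⁻¹ = u) ∨ (GoodS R SB_lJ → SB_lJ ≠ [] → ∃ m, InS R SB_lJ m ∧ ((m * t * m⁻¹ = a * r ∨ m * t * m⁻¹ = g * (a * r) * g⁻¹) ∨ (m * t * m⁻¹ = a * r * c * u ∨ m * t * m⁻¹ = k * (a * r * c * u) * k⁻¹) ∨ m * t * m⁻¹ = l * w * l⁻¹))) :=
    Fm.sound M.μ SB_T_F SB_T_chk M.reps
  (fun t h0 => (And.imp (fun h1 => h1) (fun h1 => (Or.imp (fun h2 => h2) (fun h2 => (Or.imp (fun h3 => h3) (fun h3 => (Or.imp (fun h4 => (Exists.imp (fun m h5 => ⟨(SB_lT_E M).iff.1 h5.1, h5.2⟩) (h4 (SB_lT_E M).good (SB_lT_E M).ne))) (fun h4 => (Exists.imp (fun m h5 => ⟨(SB_lJ_E M).iff.1 h5.1, h5.2⟩) (h4 (SB_lJ_E M).good (SB_lJ_E M).ne))) h3)) h2)) h1)) (h t ((SB_lT_E M).iff.2 h0))))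
noncomputable def SB_S_F : Fm := (.allS SB_lS (.qf (.and (.mem (.v (nat_lit 0)) SB_lT) (.eq (.mul (.v (nat_lit 0)) (.v (nat_lit 7))) (.mul (.v (nat_lit 7)) (.v (nat_lit 0)))))))
theorem SB_S_chk : Fm.chk S8_o SB_S_F SB_cs = true := by decide +kernel
theorem SB_S {G : Type*} [Group G] {R : ℕ → G → Prop} {a b q c d e u r p v j w h g k l : G}
    (M : Md0 S8_o SB_cs R [a, b, q, c, d, e, u, r, p, v, j, w, h, g, k, l]) :
    ∀ t ∈ sp [a, r, c, u, p], t ∈ sp [a, r, c, u, p, v, j] ∧ t * u = u * t :=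
  have h : ∀ t, InS R SB_lS t → InS R SB_lT (t) ∧ t * u = u * t :=
    Fm.sound M.μ SB_S_F SB_S_chk M.reps
  (fun t h0 => ((and_congr (SB_lT_E M).iff Iff.rfl).1 (h t ((SB_lS_E M).iff.2 h0))))
noncomputable def SB_U_F : Fm := (.allS SB_lU (.qf (.eq (.mul (.v (nat_lit 0)) (.mul (.v (nat_lit 1)) (.v (nat_lit 8)))) (.mul (.mul (.v (nat_lit 1)) (.v (nat_lit 8))) (.v (nat_lit 0))))))
theorem SB_U_chk : Fm.chk S8_o SB_U_F SB_cs = true := by decide +kernel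
theorem SB_U {G : Type*} [Group G] {R : ℕ → G → Prop} {a b q c d e u r p v j w h g k l : G}
    (M : Md0 S8_o SB_cs R [a, b, q, c, d, e, u, r, p, v, j, w, h, g, k, l]) :
    ∀ t ∈ sp [a, r, c, u, p, v], t * (a * r) = a * r * t :=
  have h : ∀ t, InS R SB_lU t → t * (a * r) = a * r * t :=
    Fm.sound M.μ SB_U_F SB_U_chk M.reps
  (fun t h0 => (h t ((SB_lU_E M).iff.2 h0)))
noncomputable def SB_X_F : Fm := (.allS SB_lX (.and (.qf (.mem (.v (nat_lit 0)) SB_lT)) (.allS SB_lT (.qf (.not (.eq (.mul (.mul (.v (nat_lit 0)) (.v (nat_lit 1))) (.inv (.v (nat_lit 0)))) (.v (nat_lit 8))))))))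
theorem SB_X_chk : Fm.chk S8_o SB_X_F SB_cs = true := by decide +kernel
theorem SB_X {G : Type*} [Group G] {R : ℕ → G → Prop} {a b q c d e u r p v j w h g k l : G}
    (M : Md0 S8_o SB_cs R [a, b, q, c, d, e, u, r, p, v, j, w, h, g, k, l]) :
    ∀ t ∈ sp [a * r, a * c, a * u, p, v, j], t ∈ sp [a, r, c, u, p, v, j] ∧ (∀ m ∈ sp [a, r, c, u, p, v, j], m * t * m⁻¹ ≠ u) :=
  have h : ∀ t, InS R SB_lX t → InS R SB_lT (t) ∧ (∀ m, InS R SB_lT m → m * t * m⁻¹ ≠ u) :=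
    Fm.sound M.μ SB_X_F SB_X_chk M.reps
  (fun t h0 => (And.imp (fun h1 => ((SB_lT_E M).iff.1 h1)) (fun h1 => (fun m h2 => (h1 m ((SB_lT_E M).iff.2 h2)))) (h t ((SB_lX_E M).iff.2 h0))))
noncomputable def SB_e_F : Fm := (.qf (.and (.eq (.mul (.v (nat_lit 11)) (.mul (.mul (.v (nat_lit 1)) (.v (nat_lit 0))) (.mul (.v (nat_lit 4)) (.v (nat_lit 3))))) (.mul (.mul (.mul (.v (nat_lit 1)) (.v (nat_lit 0))) (.mul (.v (nat_lit 4)) (.v (nat_lit 3)))) (.v (nat_lit 11)))) (.not (.eq (.mul (.v (nat_lit 11)) (.mul (.v (nat_lit 1)) (.v (nat_lit 0)))) (.mul (.mul (.v (nat_lit 1)) (.v (nat_lit 0))) (.v (nat_lit 11)))))))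
theorem SB_e_chk : Fm.chk S8_o SB_e_F SB_cs = true := by decide +kernel
theorem SB_e {G : Type*} [Group G] {R : ℕ → G → Prop} {a b q c d e u r p v j w h g k l : G}
    (M : Md0 S8_o SB_cs R [a, b, q, c, d, e, u, r, p, v, j, w, h, g, k, l]) :
    w * (b * a * (d * c)) = b * a * (d * c) * w ∧ w * (b * a) ≠ b * a * w :=
  Fm.sound M.μ SB_e_F SB_e_chk M.reps
def TB {G : Type*} [Group G] (a s v p u w : G) : Prop :=
  a * a = 1 ∧
  s * s = 1 ∧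
  v * v = 1 ∧
  p * p = 1 ∧
  u * u = 1 ∧
  w * w = 1 ∧
  a * s = s * a ∧
  a * v = v * a ∧
  a * p = p * a ∧
  s * v = v * s ∧
  s * p = p * s ∧
  v * p = p * v ∧
  u * a = a * u ∧
  u * s = s * u ∧
  w * u = u * w ∧
  u * v * u⁻¹ = s * v ∧
  u * p * u⁻¹ = a * p ∧
  w * a * w⁻¹ = s ∧
  w * v * w⁻¹ = p ∧ True
noncomputable def TB_Rl : List (List ℕ) := [[0,0],
  [1,1],
  [2,2],
  [3,3],
  [4,4],
  [5,5],
  [1,0,1,0],
  [2,0,2,0],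
  [3,0,3,0],
  [2,1,2,1],
  [3,1,3,1],
  [3,2,3,2],
  [0,4,0,4],
  [1,4,1,4],
  [4,5,4,5],
  [1,2,4,2,4],
  [0,3,4,3,4],
  [1,5,0,5],
  [3,5,2,5]]
theorem TB_r {G : Type*} [Group G] {a s v p u w : G}
    (h : TB a s v p u w) :
    Rels (nthG [a, s, v, p, u, w]) TB_Rl :=
  rels_of_eqs ((InvI.cons h.1 (InvI.cons h.2.1 (InvI.cons h.2.2.1 (InvI.cons h.2.2.2.1 (InvI.cons h.2.2.2.2.1 (InvI.cons h.2.2.2.2.2.1 InvI.nil)))))) : InvI [a, s, v, p, u, w] [(nat_lit 0), (nat_lit 1), (nat_lit 2), (nat_lit 3), (nat_lit 4), (nat_lit 5)])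
    (show AllEq [a, s, v, p, u, w] [((.mul (.v (nat_lit 0)) (.v (nat_lit 0))), .one), ((.mul (.v (nat_lit 1)) (.v (nat_lit 1))), .one), ((.mul (.v (nat_lit 2)) (.v (nat_lit 2))), .one), ((.mul (.v (nat_lit 3)) (.v (nat_lit 3))), .one), ((.mul (.v (nat_lit 4)) (.v (nat_lit 4))), .one), ((.mul (.v (nat_lit 5)) (.v (nat_lit 5))), .one), ((.mul (.v (nat_lit 0)) (.v (nat_lit 1))), (.mul (.v (nat_lit 1)) (.v (nat_lit 0)))), ((.mul (.v (nat_lit 0)) (.v (nat_lit 2))), (.mul (.v (nat_lit 2)) (.v (nat_lit 0)))), ((.mul (.v (nat_lit 0)) (.v (nat_lit 3))), (.mul (.v (nat_lit 3)) (.v (nat_lit 0)))), ((.mul (.v (nat_lit 1)) (.v (nat_lit 2))), (.mul (.v (nat_lit 2)) (.v (nat_lit 1)))), ((.mul (.v (nat_lit 1)) (.v (nat_lit 3))), (.mul (.v (nat_lit 3)) (.v (nat_lit 1)))), ((.mul (.v (nat_lit 2)) (.v (nat_lit 3))), (.mul (.v (nat_lit 3)) (.v (nat_lit 2)))), ((.mul (.v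 (nat_lit 4)) (.v (nat_lit 0))), (.mul (.v (nat_lit 0)) (.v (nat_lit 4)))), ((.mul (.v (nat_lit 4)) (.v (nat_lit 1))), (.mul (.v (nat_lit 1)) (.v (nat_lit 4)))), ((.mul (.v (nat_lit 5)) (.v (nat_lit 4))), (.mul (.v (nat_lit 4)) (.v (nat_lit 5)))), ((.mul (.mul (.v (nat_lit 4)) (.v (nat_lit 2))) (.inv (.v (nat_lit 4)))), (.mul (.v (nat_lit 1)) (.v (nat_lit 2)))), ((.mul (.mul (.v (nat_lit 4)) (.v (nat_lit 3))) (.inv (.v (nat_lit 4)))), (.mul (.v (nat_lit 0)) (.v (nat_lit 3)))), ((.mul (.mul (.v (nat_lit 5)) (.v (nat_lit 0))) (.inv (.v (nat_lit 5)))), (.v (nat_lit 1))), ((.mul (.mul (.v (nat_lit 5)) (.v (nat_lit 2))) (.inv (.v (nat_lit 5)))), (.v (nat_lit 3)))] from h)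
    [(.v (nat_lit 0)), (.v (nat_lit 1)), (.v (nat_lit 2)), (.v (nat_lit 3)), (.v (nat_lit 4)), (.v (nat_lit 5))] (by decide +kernel)
noncomputable abbrev TB_o : Ops := pops (nat_lit 10) (nat_lit 4) (nat_lit 15) (nat_lit 0x9876543210)
noncomputable def TB_cs : List ℕ := [(nat_lit 0x9876534201), (nat_lit 0x8975643210), (nat_lit 0x6579843210), (nat_lit 0x9876510243), (nat_lit 0x8976534210), (nat_lit 0x4321098765)]
noncomputable def TB_L : List (List ℕ) := [[(nat_lit 0x9876543210), (nat_lit 0x9876534201), (nat_lit 0x9876510243), (nat_lit 0x4321098765), (nat_lit 0x9876501234), (nat_lit 0x4321089756), (nat_lit 0x4321065798), (nat_lit 0x4321056789)],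
  [(nat_lit 0x9876543210), (nat_lit 0x8975643210), (nat_lit 0x6579843210), (nat_lit 0x5678943210)],
  [(nat_lit 0x9876543210), (nat_lit 0x8976534210)]]
noncomputable def TB_WW : List (List (List ℕ)) := [[[],
  [(nat_lit 0)],
  [(nat_lit 3)],
  [(nat_lit 5)],
  [(nat_lit 0), (nat_lit 3)],
  [(nat_lit 0), (nat_lit 5)],
  [(nat_lit 3), (nat_lit 5)],
  [(nat_lit 0), (nat_lit 3), (nat_lit 5)]],
  [[],
  [(nat_lit 1)],
  [(nat_lit 2)],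
  [(nat_lit 1), (nat_lit 2)]],
  [[],
  [(nat_lit 4)]]]
noncomputable def TB_b1_S : List (List ℕ) := []
noncomputable def TB_b1_defs : List ℕ := [(nat_lit 0x0)]
noncomputable def TB_b1_recs : List ℕ := []
noncomputable def TB_b1_L0 : List ℕ := [nat_lit 0x7000001, nat_lit 0x8000000]
noncomputable def TB_b1_L : List (List ℕ) := [TB_b1_L0]
noncomputable def TB_b1_V : List ℕ := [(nat_lit 0x100000000)]
noncomputable def TB_b1_D : H26.Dag := ⟨[], [[0,0]], [], TB_b1_defs, TB_b1_recs⟩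
theorem TB_b1_c : TB_b1_D.checkTab TB_b1_S 2 1 TB_b1_V TB_b1_L = true := by decide +kernel
theorem TB_b1 : Bound TB_Rl 1 2 :=
  bound_dag (Bound.zero TB_Rl) (K := 1) (J := [0]) (by decide +kernel) TB_b1_c (by decide +kernel)
noncomputable def TB_b2_S0 : List ℕ := [nat_lit 0x1, nat_lit 0x7000001000008004004]
noncomputable def TB_b2_S : List (List ℕ) := [TB_b2_S0]
noncomputable def TB_b2_defs : List ℕ := [(nat_lit 0x10000000000000)]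
noncomputable def TB_b2_recs : List ℕ := [(nat_lit 0x100001000000000000)]
noncomputable def TB_b2_L0 : List ℕ := [nat_lit 0x1000000000007000001, nat_lit 0x5000001000008000000]
noncomputable def TB_b2_L : List (List ℕ) := [TB_b2_L0]
noncomputable def TB_b2_V : List ℕ := [(nat_lit 0x100000000)]
noncomputable def TB_b2_D : H26.Dag := ⟨[], [[0,0],
  [1,1],
  [1,0,1,0]], [0], TB_b2_defs, TB_b2_recs⟩
theorem TB_b2_c : TB_b2_D.checkTab TB_b2_S 2 2 TB_b2_V TB_b2_L = true := by decide +kernel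
theorem TB_b2 : Bound TB_Rl 2 4 :=
  bound_dag TB_b1 (K := 2) (J := [0,1,6]) (by decide +kernel) TB_b2_c (by decide +kernel)
noncomputable def TB_b3_S0 : List ℕ := [nat_lit 0x1, nat_lit 0x1, nat_lit 0x7000001000008004006, nat_lit 0x7000005000008004008]
noncomputable def TB_b3_S : List (List ℕ) := [TB_b3_S0]
noncomputable def TB_b3_defs : List ℕ := [(nat_lit 0x20000000000000)]
noncomputable def TB_b3_recs : List ℕ := [(nat_lit 0x10000100001000000100001010000000000000000000000)]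
noncomputable def TB_b3_L0 : List ℕ := [nat_lit 0x1000000000005000000000007000001, nat_lit 0x900000100000d000001000008000000]
noncomputable def TB_b3_L : List (List ℕ) := [TB_b3_L0]
noncomputable def TB_b3_V : List ℕ := [(nat_lit 0x100000000)]
noncomputable def TB_b3_D : H26.Dag := ⟨[], [[0,0],
  [1,1],
  [2,2],
  [2,0,2,0],
  [2,1,2,1]], [0,1], TB_b3_defs, TB_b3_recs⟩
theorem TB_b3_c : TB_b3_D.checkTab TB_b3_S 2 3 TB_b3_V TB_b3_L = true := by decide +kernel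
theorem TB_b3 : Bound TB_Rl 3 8 :=
  bound_dag TB_b2 (K := 3) (J := [0,1,2,7,9]) (by decide +kernel) TB_b3_c (by decide +kernel)
noncomputable def TB_b4_S0 : List ℕ := [nat_lit 0x1, nat_lit 0x1, nat_lit 0x1, nat_lit 0x7000001000008004008, nat_lit 0x700000500000800400a, nat_lit 0x700000900000800400c]
noncomputable def TB_b4_S : List (List ℕ) := [TB_b4_S0]
noncomputable def TB_b4_defs : List ℕ := [(nat_lit 0x30000000000000)]
noncomputable def TB_b4_recs : List ℕ := [(nat_lit 0x20000100001010000100001000000100001020000000000010000000000000000000000)]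
noncomputable def TB_b4_L0 : List ℕ := [nat_lit 0x1000000000005000000000009000000000007000001, nat_lit 0xd000001000011000001000015000001000008000000]
noncomputable def TB_b4_L : List (List ℕ) := [TB_b4_L0]
noncomputable def TB_b4_V : List ℕ := [(nat_lit 0x100000000)]
noncomputable def TB_b4_D : H26.Dag := ⟨[], [[0,0],
  [1,1],
  [2,2],
  [3,3],
  [3,0,3,0],
  [3,1,3,1],
  [3,2,3,2]], [0,1,2], TB_b4_defs, TB_b4_recs⟩
theorem TB_b4_c : TB_b4_D.checkTab TB_b4_S 2 4 TB_b4_V TB_b4_L = true := by decide +kernel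
theorem TB_b4 : Bound TB_Rl 4 16 :=
  bound_dag TB_b3 (K := 4) (J := [0,1,2,3,8,10,11]) (by decide +kernel) TB_b4_c (by decide +kernel)
noncomputable def TB_b5_S0 : List ℕ := [nat_lit 0x1, nat_lit 0x1, nat_lit 0x1, nat_lit 0x1, nat_lit 0x700000100000800800a, nat_lit 0x700000500000800800c, nat_lit 0x700000900000500000800c00e, nat_lit 0x700000d00000100000800c010]
noncomputable def TB_b5_S : List (List ℕ) := [TB_b5_S0]
noncomputable def TB_b5_defs : List ℕ := [(nat_lit 0x40000000000000)]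
noncomputable def TB_b5_recs : List ℕ := [(nat_lit 0x30000100001020000100001010000100001000000100001030000000000020000000000010000000000000000000000)]
noncomputable def TB_b5_L0 : List ℕ := [nat_lit 0x100000000000500000000000900000000000d000000000007000001, nat_lit 0x1100000100001500000100001900000100001d000001000008000000]
noncomputable def TB_b5_L : List (List ℕ) := [TB_b5_L0]
noncomputable def TB_b5_V : List ℕ := [(nat_lit 0x100000000)]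
noncomputable def TB_b5_D : H26.Dag := ⟨[], [[0,0],
  [1,1],
  [2,2],
  [3,3],
  [4,4],
  [0,4,0,4],
  [1,4,1,4],
  [1,2,4,2,4],
  [0,3,4,3,4]], [0,1,2,3], TB_b5_defs, TB_b5_recs⟩
theorem TB_b5_c : TB_b5_D.checkTab TB_b5_S 2 5 TB_b5_V TB_b5_L = true := by decide +kernel
theorem TB_b5 : Bound TB_Rl 5 32 :=
  bound_dag TB_b4 (K := 5) (J := [0,1,2,3,4,12,13,15,16]) (by decide +kernel) TB_b5_c (by decide +kernel)
noncomputable def TB_b6_S0 : List ℕ := [nat_lit 0x1, nat_lit 0x1, nat_lit 0x1, nat_lit 0x1, nat_lit 0x1, nat_lit 0x700001100000800800c, nat_lit 0x700000500000800800e, nat_lit 0x700000100000800000e, nat_lit 0x700000d000008008010, nat_lit 0x7000009000008000010]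
noncomputable def TB_b6_S : List (List ℕ) := [TB_b6_S0]
noncomputable def TB_b6_defs : List ℕ := [(nat_lit 0x50000000000000)]
noncomputable def TB_b6_recs : List ℕ := [(nat_lit 0x30000100001020000100001010000100001000000100001040000100001040000000000030000000000020000000000010000000000000000000000)]
noncomputable def TB_b6_L0 : List ℕ := [nat_lit 0x100000000000500000000000900000000000d000000000011000000000007000001, nat_lit 0x1900000100001d000001000021000001000025000001000015000001000008000000]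
noncomputable def TB_b6_L : List (List ℕ) := [TB_b6_L0]
noncomputable def TB_b6_V : List ℕ := [(nat_lit 0x100000000)]
noncomputable def TB_b6_D : H26.Dag := ⟨[], [[0,0],
  [1,1],
  [2,2],
  [3,3],
  [4,4],
  [5,5],
  [4,5,4,5],
  [1,5,0,5],
  [3,5,2,5]], [0,1,2,3,4], TB_b6_defs, TB_b6_recs⟩
theorem TB_b6_c : TB_b6_D.checkTab TB_b6_S 2 6 TB_b6_V TB_b6_L = true := by decide +kernel
theorem TB_b6 : Bound TB_Rl 6 64 :=
  bound_dag TB_b5 (K := 6) (J := [0,1,2,3,4,5,14,17,18]) (by decide +kernel) TB_b6_c (by decide +kernel)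
theorem TB_P : PModel (nat_lit 10) (nat_lit 4) (nat_lit 15) (nat_lit 0x9876543210) TB_cs TB_Rl TB_L 64 :=
  ⟨PkOK.of (by decide +kernel), by decide +kernel, by decide +kernel, TB_b6, ⟨TB_WW, by decide +kernel⟩,
    ⟨fun c => Nat.mod c (nat_lit 232), by decide +kernel⟩⟩
noncomputable def TB_soc_t0 : ST := (.node (nat_lit 57) (.node (nat_lit 28) (.node (nat_lit 11) (.node (nat_lit 5) (.leaf (nat_lit 0)) (.node (nat_lit 8) (.leaf (nat_lit 3)) (.leaf (nat_lit 0)))) (.node (nat_lit 18) (.node (nat_lit 17) (.leaf (nat_lit 3)) (.leaf (nat_lit 0))) (.node (nat_lit 24) (.leaf (nat_lit 3)) (.leaf (nat_lit 0))))) (.node (nat_lit 43) (.node (nat_lit 35) (.node (nat_lit 30) (.leaf (nat_lit 3)) (.leaf (nat_lit 0))) (.node (nat_lit 41) (.leaf (nat_lit 3)) (.leaf (nat_lit 0)))) (.node (nat_lit 51) (.node (nat_lit 47) (.leaf (nat_lit 3)) (.leaf (nat_lit 0))) (.node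 (nat_lit 54) (.leaf (nat_lit 3)) (.leaf (nat_lit 0)))))) (.node (nat_lit 78) (.node (nat_lit 65) (.node (nat_lit 62) (.leaf (nat_lit 3)) (.node (nat_lit 64) (.leaf (nat_lit 0)) (.leaf (nat_lit 3)))) (.node (nat_lit 70) (.node (nat_lit 66) (.leaf (nat_lit 0)) (.leaf (nat_lit 3))) (.node (nat_lit 75) (.leaf (nat_lit 0)) (.leaf (nat_lit 3))))) (.node (nat_lit 94) (.node (nat_lit 85) (.node (nat_lit 81) (.leaf (nat_lit 0)) (.leaf (nat_lit 3))) (.node (nat_lit 88) (.leaf (nat_lit 0)) (.leaf (nat_lit 3)))) (.node (nat_lit 100) (.node (nat_lit 96) (.leaf (nat_lit 0)) (.leaf (nat_lit 3))) (.node (nat_lit 105) (.leaf (nat_lit 0)) (.leaf (nat_lit 3)))))))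
noncomputable def TB_soc_t1 : ST := (.node (nat_lit 53) (.node (nat_lit 12) (.node (nat_lit 5) (.node (nat_lit 2) (.leaf (nat_lit 16)) (.leaf (nat_lit 32))) (.node (nat_lit 6) (.leaf (nat_lit 3)) (.node (nat_lit 9) (.leaf (nat_lit 32)) (.leaf (nat_lit 8))))) (.node (nat_lit 34) (.node (nat_lit 30) (.leaf (nat_lit 32)) (.node (nat_lit 32) (.leaf (nat_lit 8)) (.leaf (nat_lit 32)))) (.node (nat_lit 37) (.leaf (nat_lit 8)) (.node (nat_lit 51) (.leaf (nat_lit 32)) (.leaf (nat_lit 8)))))) (.node (nat_lit 77) (.node (nat_lit 57) (.node (nat_lit 56) (.leaf (nat_lit 32)) (.leaf (nat_lit 8))) (.node (nat_lit 59) (.leaf (nat_lit 32)) (.node (nat_lit 63) (.leaf (nat_lit 0)) (.leaf (nat_lit 32))))) (.node (nat_lit 82) (.node (nat_lit 79) (.leaf (nat_lit 8)) (.node (nat_lit 80) (.leaf (nat_lit 32)) (.leaf (nat_lit 3)))) (.node (nat_lit 84) (.leaf (nat_lit 32)) (.node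 (nat_lit 87) (.leaf (nat_lit 16)) (.leaf (nat_lit 32)))))))
noncomputable def TB_soc_F : Fm := (.all TB_L (.or (.qf (.eq (.v (nat_lit 0)) .one)) (.exF TB_L (fun cs => TB_soc_t1.find (Nat.mod (nth (nat_lit 0) cs (nat_lit 0)) (nat_lit 101))) (.exF TB_L (fun cs => TB_soc_t0.find (Nat.mod (Nat.add (nth (nat_lit 0) cs (nat_lit 0)) (Nat.mul (nat_lit 7919) (nth (nat_lit 0) cs (nat_lit 1)))) (nat_lit 107))) (.qf (.or (.eq (.mul (.mul (.v (nat_lit 0)) (.v (nat_lit 2))) (.inv (.v (nat_lit 0)))) (.mul (.v (nat_lit 3)) (.v (nat_lit 4)))) (.or (.eq (.mul (.mul (.v (nat_lit 0)) (.v (nat_lit 2))) (.inv (.v (nat_lit 0)))) (.mul (.v (nat_lit 3)) (.v (nat_lit 4)))) (.or (.eq (.mul (.mul (.v (nat_lit 0)) (.mul (.mul (.mul (.v (nat_lit 2)) (.v (nat_lit 1))) (.inv (.v (nat_lit 2)))) (.inv (.v (nat_lit 1))))) (.inv (.v (nat_lit 0)))) (.mul (.v (nat_lit 3)) (.v (nat_lit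 4)))) (.or (.eq (.mul (.mul (.v (nat_lit 0)) (.mul (.mul (.mul (.v (nat_lit 2)) (.v (nat_lit 1))) (.inv (.v (nat_lit 2)))) (.inv (.v (nat_lit 1))))) (.inv (.v (nat_lit 0)))) (.mul (.v (nat_lit 3)) (.v (nat_lit 4)))) (.or (.eq (.mul (.mul (.mul (.mul (.mul (.mul (.v (nat_lit 2)) (.v (nat_lit 1))) (.inv (.v (nat_lit 2)))) (.inv (.v (nat_lit 1)))) (.v (nat_lit 0))) (.inv (.mul (.mul (.mul (.v (nat_lit 2)) (.v (nat_lit 1))) (.inv (.v (nat_lit 2)))) (.inv (.v (nat_lit 1)))))) (.inv (.v (nat_lit 0)))) (.mul (.v (nat_lit 3)) (.v (nat_lit 4)))) (.eq (.mul (.mul (.mul (.mul (.mul (.mul (.v (nat_lit 2)) (.v (nat_lit 1))) (.inv (.v (nat_lit 2)))) (.inv (.v (nat_lit 1)))) (.v (nat_lit 0))) (.inv (.mul (.mul (.mul (.v (nat_lit 2)) (.v (nat_lit 1))) (.inv (.v (nat_lit 2)))) (.inv (.v (nat_lit 1)))))) (.inv (.v (nat_lit 0)))) (.mul (.v (nat_lit 3)) (.v (nat_lit 4))))))))))))))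
theorem TB_soc_chk : Fm.chk TB_o TB_soc_F TB_cs = true := by decide +kernel
theorem TB_soc {G : Type*} [Group G] {R : ℕ → G → Prop} {a s v p u w : G} {H : Subgroup G}
    (M : Mdl TB_o TB_cs TB_L R [a, s, v, p, u, w] H) :
    ∀ y_ ∈ H, y_ = 1 ∨ (∃ q_ ∈ H, ∃ k_ ∈ H, k_ * y_ * k_⁻¹ = a * s ∨ k_ * y_ * k_⁻¹ = a * s ∨ k_ * ⁅y_, q_⁆ * k_⁻¹ = a * s ∨ k_ * ⁅y_, q_⁆ * k_⁻¹ = a * s ∨ ⁅⁅y_, q_⁆, k_⁆ = a * s ∨ ⁅⁅y_, q_⁆, k_⁆ = a * s) :=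
  have h : ∀ y_, InL TB_o R TB_L y_ → y_ = 1 ∨ (Good TB_o R TB_L → prods TB_o TB_L TB_o.one ≠ [] → ∃ q_, InL TB_o R TB_L q_ ∧ (Good TB_o R TB_L → prods TB_o TB_L TB_o.one ≠ [] → ∃ k_, InL TB_o R TB_L k_ ∧ (k_ * y_ * k_⁻¹ = a * s ∨ k_ * y_ * k_⁻¹ = a * s ∨ k_ * ⁅y_, q_⁆ * k_⁻¹ = a * s ∨ k_ * ⁅y_, q_⁆ * k_⁻¹ = a * s ∨ ⁅⁅y_, q_⁆, k_⁆ = a * s ∨ ⁅⁅y_, q_⁆, k_⁆ = a * s))) :=
    Fm.sound M.μ TB_soc_F TB_soc_chk M.reps
  (fun y_ h0 => (Or.imp (fun h1 => h1) (fun h1 => (Exists.imp (fun q_ h2 => ⟨M.H.iff.1 h2.1, (Exists.imp (fun k_ h3 => ⟨M.H.iff.1 h3.1, h3.2⟩) (h2.2 M.H.good M.H.ne))⟩) (h1 M.H.good M.H.ne))) (h y_ (M.H.iff.2 h0))))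
theorem TB_mdl {G : Type*} [Group G] {a s v p u w : G}
    (h : TB a s v p u w)
    (n1 : a * s ≠ 1) :
    ∃ R, Mdl TB_o TB_cs TB_L R [a, s, v, p, u, w] (sp [a, s, v, p, u, w]) ∧ #(sp [a, s, v, p, u, w]) = 64 :=
  mdl_of TB_P rfl (TB_r h) (.mul (.v (nat_lit 0)) (.v (nat_lit 1))) (.mul (.v (nat_lit 0)) (.v (nat_lit 1))) n1 n1
    fun _ ms _ M hl => match ms, M, (hl : ms.length = 6) with
      | [_, _, _, _, _, _], M, _ => TB_soc M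
noncomputable def TB_lW : List ℕ := [(nat_lit 0x9876543210), (nat_lit 0x9876534201), (nat_lit 0x8975643210), (nat_lit 0x6579843210), (nat_lit 0x9876510243), (nat_lit 0x8975634201), (nat_lit 0x6579834201), (nat_lit 0x9876501234), (nat_lit 0x5678943210), (nat_lit 0x8975610243), (nat_lit 0x6579810243), (nat_lit 0x5678934201), (nat_lit 0x8975601234), (nat_lit 0x6579801234), (nat_lit 0x5678910243), (nat_lit 0x5678901234)]
noncomputable def TB_lW_W : List (List ℕ) := [[],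
  [(nat_lit 0)],
  [(nat_lit 1)],
  [(nat_lit 2)],
  [(nat_lit 3)],
  [(nat_lit 0), (nat_lit 1)],
  [(nat_lit 0), (nat_lit 2)],
  [(nat_lit 0), (nat_lit 3)],
  [(nat_lit 1), (nat_lit 2)],
  [(nat_lit 1), (nat_lit 3)],
  [(nat_lit 2), (nat_lit 3)],
  [(nat_lit 0), (nat_lit 1), (nat_lit 2)],
  [(nat_lit 0), (nat_lit 1), (nat_lit 3)],
  [(nat_lit 0), (nat_lit 2), (nat_lit 3)],
  [(nat_lit 1), (nat_lit 2), (nat_lit 3)],
  [(nat_lit 0), (nat_lit 1), (nat_lit 2), (nat_lit 3)]]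
noncomputable def TB_lW_h (c : ℕ) : ℕ := Nat.mod c (nat_lit 59)
theorem TB_lW_E {G : Type*} [Group G] {R : ℕ → G → Prop} {a s v p u w : G} {H : Subgroup G}
    (M : Mdl TB_o TB_cs TB_L R [a, s, v, p, u, w] H) :
    EnumS R TB_lW (sp [a, s, v, p]) :=
  enumS_sp M.μ.1 (M.reps.tms M.μ.1 [(.v (nat_lit 0)), (.v (nat_lit 1)), (.v (nat_lit 2)), (.v (nat_lit 3))] (cs' := [(nat_lit 0x9876534201), (nat_lit 0x8975643210), (nat_lit 0x6579843210), (nat_lit 0x9876510243)]) (by decide +kernel))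
    (Ws := TB_lW_W) (by decide +kernel) (by decide +kernel)
theorem TB_lW_c {G : Type*} [Group G] {R : ℕ → G → Prop} {a s v p u w : G} {H : Subgroup G}
    (M : Mdl TB_o TB_cs TB_L R [a, s, v, p, u, w] H) :
    #(sp [a, s, v, p]) = 16 :=
  (TB_lW_E M).card M.μ (h := TB_lW_h) (by decide +kernel)
noncomputable def TB_lU : List ℕ := [(nat_lit 0x9876543210), (nat_lit 0x9876534201), (nat_lit 0x8975643210), (nat_lit 0x6579843210), (nat_lit 0x9876510243), (nat_lit 0x4321098765), (nat_lit 0x8975634201), (nat_lit 0x6579834201), (nat_lit 0x9876501234), (nat_lit 0x4321089756), (nat_lit 0x5678943210), (nat_lit 0x8975610243), (nat_lit 0x3420198765), (nat_lit 0x6579810243), (nat_lit 0x1024398765), (nat_lit 0x4321065798), (nat_lit 0x5678934201), (nat_lit 0x8975601234), (nat_lit 0x3420189756), (nat_lit 0x6579801234), (nat_lit 0x1024389756), (nat_lit 0x4321056789),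 (nat_lit 0x5678910243), (nat_lit 0x123498765), (nat_lit 0x3420165798), (nat_lit 0x1024365798), (nat_lit 0x5678901234), (nat_lit 0x123489756), (nat_lit 0x3420156789), (nat_lit 0x1024356789), (nat_lit 0x123465798), (nat_lit 0x123456789)]
noncomputable def TB_lU_W : List (List ℕ) := [[],
  [(nat_lit 0)],
  [(nat_lit 1)],
  [(nat_lit 2)],
  [(nat_lit 3)],
  [(nat_lit 4)],
  [(nat_lit 0), (nat_lit 1)],
  [(nat_lit 0), (nat_lit 2)],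
  [(nat_lit 0), (nat_lit 3)],
  [(nat_lit 0), (nat_lit 4)],
  [(nat_lit 1), (nat_lit 2)],
  [(nat_lit 1), (nat_lit 3)],
  [(nat_lit 1), (nat_lit 4)],
  [(nat_lit 2), (nat_lit 3)],
  [(nat_lit 2), (nat_lit 4)],
  [(nat_lit 3), (nat_lit 4)],
  [(nat_lit 0), (nat_lit 1), (nat_lit 2)],
  [(nat_lit 0), (nat_lit 1), (nat_lit 3)],
  [(nat_lit 0), (nat_lit 1), (nat_lit 4)],
  [(nat_lit 0), (nat_lit 2), (nat_lit 3)],
  [(nat_lit 0), (nat_lit 2), (nat_lit 4)],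
  [(nat_lit 0), (nat_lit 3), (nat_lit 4)],
  [(nat_lit 1), (nat_lit 2), (nat_lit 3)],
  [(nat_lit 1), (nat_lit 2), (nat_lit 4)],
  [(nat_lit 1), (nat_lit 3), (nat_lit 4)],
  [(nat_lit 2), (nat_lit 3), (nat_lit 4)],
  [(nat_lit 0), (nat_lit 1), (nat_lit 2), (nat_lit 3)],
  [(nat_lit 0), (nat_lit 1), (nat_lit 2), (nat_lit 4)],
  [(nat_lit 0), (nat_lit 1), (nat_lit 3), (nat_lit 4)],
  [(nat_lit 0), (nat_lit 2), (nat_lit 3), (nat_lit 4)],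
  [(nat_lit 1), (nat_lit 2), (nat_lit 3), (nat_lit 4)],
  [(nat_lit 0), (nat_lit 1), (nat_lit 2), (nat_lit 3), (nat_lit 4)]]
noncomputable def TB_lU_h (c : ℕ) : ℕ := Nat.mod c (nat_lit 101)
theorem TB_lU_E {G : Type*} [Group G] {R : ℕ → G → Prop} {a s v p u w : G} {H : Subgroup G}
    (M : Mdl TB_o TB_cs TB_L R [a, s, v, p, u, w] H) :
    EnumS R TB_lU (sp [a, s, v, p, w]) :=
  enumS_sp M.μ.1 (M.reps.tms M.μ.1 [(.v (nat_lit 0)), (.v (nat_lit 1)), (.v (nat_lit 2)), (.v (nat_lit 3)), (.v (nat_lit 5))] (cs' := [(nat_lit 0x9876534201), (nat_lit 0x8975643210), (nat_lit 0x6579843210), (nat_lit 0x9876510243), (nat_lit 0x4321098765)]) (by decide +kernel))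
    (Ws := TB_lU_W) (by decide +kernel) (by decide +kernel)
theorem TB_lU_c {G : Type*} [Group G] {R : ℕ → G → Prop} {a s v p u w : G} {H : Subgroup G}
    (M : Mdl TB_o TB_cs TB_L R [a, s, v, p, u, w] H) :
    #(sp [a, s, v, p, w]) = 32 :=
  (TB_lU_E M).card M.μ (h := TB_lU_h) (by decide +kernel)
noncomputable def TB_lS : List ℕ := [(nat_lit 0x9876543210), (nat_lit 0x9876534201), (nat_lit 0x8975643210), (nat_lit 0x8976534210), (nat_lit 0x4321098765), (nat_lit 0x8975634201), (nat_lit 0x8976543201), (nat_lit 0x4321089756), (nat_lit 0x9875634210), (nat_lit 0x3420198765), (nat_lit 0x3421089765), (nat_lit 0x9875643201), (nat_lit 0x3420189756), (nat_lit 0x3421098756), (nat_lit 0x4320189765), (nat_lit 0x4320198756)]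
noncomputable def TB_lS_W : List (List ℕ) := [[],
  [(nat_lit 0)],
  [(nat_lit 1)],
  [(nat_lit 2)],
  [(nat_lit 3)],
  [(nat_lit 0), (nat_lit 1)],
  [(nat_lit 0), (nat_lit 2)],
  [(nat_lit 0), (nat_lit 3)],
  [(nat_lit 1), (nat_lit 2)],
  [(nat_lit 1), (nat_lit 3)],
  [(nat_lit 2), (nat_lit 3)],
  [(nat_lit 0), (nat_lit 1), (nat_lit 2)],
  [(nat_lit 0), (nat_lit 1), (nat_lit 3)],
  [(nat_lit 0), (nat_lit 2), (nat_lit 3)],
  [(nat_lit 1), (nat_lit 2), (nat_lit 3)],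
  [(nat_lit 0), (nat_lit 1), (nat_lit 2), (nat_lit 3)]]
noncomputable def TB_lS_h (c : ℕ) : ℕ := Nat.mod c (nat_lit 38)
theorem TB_lS_E {G : Type*} [Group G] {R : ℕ → G → Prop} {a s v p u w : G} {H : Subgroup G}
    (M : Mdl TB_o TB_cs TB_L R [a, s, v, p, u, w] H) :
    EnumS R TB_lS (sp [a, s, u, w]) :=
  enumS_sp M.μ.1 (M.reps.tms M.μ.1 [(.v (nat_lit 0)), (.v (nat_lit 1)), (.v (nat_lit 4)), (.v (nat_lit 5))] (cs' := [(nat_lit 0x9876534201), (nat_lit 0x8975643210), (nat_lit 0x8976534210), (nat_lit 0x4321098765)]) (by decide +kernel))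
    (Ws := TB_lS_W) (by decide +kernel) (by decide +kernel)
theorem TB_lS_c {G : Type*} [Group G] {R : ℕ → G → Prop} {a s v p u w : G} {H : Subgroup G}
    (M : Mdl TB_o TB_cs TB_L R [a, s, v, p, u, w] H) :
    #(sp [a, s, u, w]) = 16 :=
  (TB_lS_E M).card M.μ (h := TB_lS_h) (by decide +kernel)
noncomputable def TB_i_F : Fm := (.all TB_L (.qf (.and (.eq (.mul (.v (nat_lit 0)) (.mul (.v (nat_lit 1)) (.v (nat_lit 2)))) (.mul (.mul (.v (nat_lit 1)) (.v (nat_lit 2))) (.v (nat_lit 0)))) (.and (.mem (.pw (.v (nat_lit 0)) (nat_lit 2)) TB_lW) (.and (.or (.or (.mem (.v (nat_lit 0)) TB_lW) (.mem (.mul (.v (nat_lit 0)) (.v (nat_lit 5))) TB_lW)) (.or (.mem (.mul (.v (nat_lit 0)) (.v (nat_lit 6))) TB_lW) (.mem (.mul (.v (nat_lit 0)) (.mul (.v (nat_lit 5)) (.v (nat_lit 6)))) TB_lW))) (.or (.mem (.v (nat_lit 0)) TB_lU) (.mem (.mul (.v (nat_lit 0)) (.v (nat_lit 5)))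 TB_lU)))))))
theorem TB_i_chk : Fm.chk TB_o TB_i_F TB_cs = true := by decide +kernel
theorem TB_i {G : Type*} [Group G] {R : ℕ → G → Prop} {a s v p u w : G} {H : Subgroup G}
    (M : Mdl TB_o TB_cs TB_L R [a, s, v, p, u, w] H) :
    ∀ t ∈ H, t * (a * s) = a * s * t ∧ t ^ 2 ∈ sp [a, s, v, p] ∧ ((t ∈ sp [a, s, v, p] ∨ t * u ∈ sp [a, s, v, p]) ∨ t * w ∈ sp [a, s, v, p] ∨ t * (u * w) ∈ sp [a, s, v, p]) ∧ (t ∈ sp [a, s, v, p, w] ∨ t * u ∈ sp [a, s, v, p, w]) :=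
  have h : ∀ t, InL TB_o R TB_L t → t * (a * s) = a * s * t ∧ InS R TB_lW (t ^ 2) ∧ ((InS R TB_lW (t) ∨ InS R TB_lW (t * u)) ∨ InS R TB_lW (t * w) ∨ InS R TB_lW (t * (u * w))) ∧ (InS R TB_lU (t) ∨ InS R TB_lU (t * u)) :=
    Fm.sound M.μ TB_i_F TB_i_chk M.reps
  (fun t h0 => ((and_congr Iff.rfl (and_congr (TB_lW_E M).iff (and_congr (or_congr (or_congr (TB_lW_E M).iff (TB_lW_E M).iff) (or_congr (TB_lW_E M).iff (TB_lW_E M).iff)) (or_congr (TB_lU_E M).iff (TB_lU_E M).iff)))).1 (h t (M.H.iff.2 h0))))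
noncomputable def TB_inv_t0 : ST := (.node (nat_lit 66) (.node (nat_lit 35) (.node (nat_lit 19) (.leaf (nat_lit 16)) (.leaf (nat_lit 18))) (.node (nat_lit 52) (.leaf (nat_lit 48)) (.node (nat_lit 54) (.leaf (nat_lit 8)) (.leaf (nat_lit 0))))) (.node (nat_lit 112) (.node (nat_lit 82) (.leaf (nat_lit 8)) (.node (nat_lit 101) (.leaf (nat_lit 16)) (.leaf (nat_lit 0)))) (.node (nat_lit 113) (.leaf (nat_lit 16)) (.node (nat_lit 115) (.leaf (nat_lit 2)) (.leaf (nat_lit 0))))))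
noncomputable def TB_inv_F : Fm := (.all TB_L (.imp (.eq (.mul (.v (nat_lit 0)) (.v (nat_lit 0))) .one) (.or (.qf (.mem (.v (nat_lit 0)) TB_lW)) (.exF TB_L (fun cs => TB_inv_t0.find (Nat.mod (nth (nat_lit 0) cs (nat_lit 0)) (nat_lit 122))) (.qf (.or (.eq (.mul (.mul (.v (nat_lit 0)) (.v (nat_lit 1))) (.inv (.v (nat_lit 0)))) (.v (nat_lit 6))) (.or (.eq (.mul (.mul (.v (nat_lit 0)) (.v (nat_lit 1))) (.inv (.v (nat_lit 0)))) (.v (nat_lit 7))) (.eq (.mul (.mul (.v (nat_lit 0)) (.v (nat_lit 1))) (.inv (.v (nat_lit 0)))) (.mul (.v (nat_lit 6)) (.v (nat_lit 7)))))))))))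
theorem TB_inv_chk : Fm.chk TB_o TB_inv_F TB_cs = true := by decide +kernel
theorem TB_inv {G : Type*} [Group G] {R : ℕ → G → Prop} {a s v p u w : G} {H : Subgroup G}
    (M : Mdl TB_o TB_cs TB_L R [a, s, v, p, u, w] H) :
    ∀ t ∈ H, t * t = 1 → t ∈ sp [a, s, v, p] ∨ (∃ m ∈ H, m * t * m⁻¹ = u ∨ m * t * m⁻¹ = w ∨ m * t * m⁻¹ = u * w) :=
  have h : ∀ t, InL TB_o R TB_L t → t * t = 1 → InS R TB_lW (t) ∨ (Good TB_o R TB_L → prods TB_o TB_L TB_o.one ≠ [] → ∃ m, InL TB_o R TB_L m ∧ (m * t * m⁻¹ = u ∨ m * t * m⁻¹ = w ∨ m * t * m⁻¹ = u * w)) :=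
    Fm.sound M.μ TB_inv_F TB_inv_chk M.reps
  (fun t h0 => (fun h1 => (Or.imp (fun h2 => ((TB_lW_E M).iff.1 h2)) (fun h2 => (Exists.imp (fun m h3 => ⟨M.H.iff.1 h3.1, h3.2⟩) (h2 M.H.good M.H.ne))) ((h t (M.H.iff.2 h0)) h1))))
noncomputable def TB_W_t0 : ST := (.node (nat_lit 22) (.node (nat_lit 4) (.node (nat_lit 3) (.leaf (nat_lit 3)) (.leaf (nat_lit 32))) (.node (nat_lit 15) (.leaf (nat_lit 3)) (.node (nat_lit 16) (.leaf (nat_lit 35)) (.leaf (nat_lit 32))))) (.node (nat_lit 36) (.node (nat_lit 24) (.leaf (nat_lit 0)) (.node (nat_lit 25) (.leaf (nat_lit 3)) (.leaf (nat_lit 0)))) (.node (nat_lit 44) (.leaf (nat_lit 32)) (.node (nat_lit 45) (.leaf (nat_lit 35)) (.leaf (nat_lit 0))))))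
noncomputable def TB_W_F : Fm := (.allS TB_lW (.and (.qf (.and (.eq (.mul (.v (nat_lit 0)) (.v (nat_lit 1))) (.mul (.v (nat_lit 1)) (.v (nat_lit 0)))) (.and (.eq (.mul (.v (nat_lit 0)) (.v (nat_lit 2))) (.mul (.v (nat_lit 2)) (.v (nat_lit 0)))) (.and (.eq (.mul (.v (nat_lit 0)) (.v (nat_lit 3))) (.mul (.v (nat_lit 3)) (.v (nat_lit 0)))) (.eq (.mul (.v (nat_lit 0)) (.v (nat_lit 4))) (.mul (.v (nat_lit 4)) (.v (nat_lit 0)))))))) (.or (.qf (.eq (.v (nat_lit 0)) .one)) (.exF TB_L (fun cs => TB_W_t0.find (Nat.mod (nth (nat_lit 0) cs (nat_lit 0)) (nat_lit 49))) (.qf (.or (.or (.eq (.mul (.mul (.v (nat_lit 0)) (.v (nat_lit 1))) (.inv (.v (nat_lit 0)))) (.v (nat_lit 3))) (.eq (.mul (.mul (.v (nat_lit 0)) (.v (nat_lit 1))) (.inv (.v (nat_lit 0)))) (.v (nat_lit 4)))) (.or (.eq (.mul (.mul (.v (nat_lit 0)) (.v (nat_lit 1))) (.inv (.v (nat_lit 0)))) (.mul (.v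 (nat_lit 2)) (.v (nat_lit 3)))) (.or (.eq (.mul (.mul (.v (nat_lit 0)) (.v (nat_lit 1))) (.inv (.v (nat_lit 0)))) (.mul (.v (nat_lit 2)) (.v (nat_lit 4)))) (.or (.eq (.mul (.mul (.v (nat_lit 0)) (.v (nat_lit 1))) (.inv (.v (nat_lit 0)))) (.mul (.v (nat_lit 4)) (.v (nat_lit 5)))) (.eq (.mul (.mul (.v (nat_lit 0)) (.v (nat_lit 1))) (.inv (.v (nat_lit 0)))) (.mul (.mul (.v (nat_lit 3)) (.v (nat_lit 4))) (.v (nat_lit 5)))))))))))))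
theorem TB_W_chk : Fm.chk TB_o TB_W_F TB_cs = true := by decide +kernel
theorem TB_W {G : Type*} [Group G] {R : ℕ → G → Prop} {a s v p u w : G} {H : Subgroup G}
    (M : Mdl TB_o TB_cs TB_L R [a, s, v, p, u, w] H) :
    ∀ t ∈ sp [a, s, v, p], (t * a = a * t ∧ t * s = s * t ∧ t * v = v * t ∧ t * p = p * t) ∧ (t = 1 ∨ (∃ m ∈ H, (m * t * m⁻¹ = s ∨ m * t * m⁻¹ = v) ∨ m * t * m⁻¹ = a * s ∨ m * t * m⁻¹ = a * v ∨ m * t * m⁻¹ = v * p ∨ m * t * m⁻¹ = s * v * p)) :=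
  have h : ∀ t, InS R TB_lW t → (t * a = a * t ∧ t * s = s * t ∧ t * v = v * t ∧ t * p = p * t) ∧ (t = 1 ∨ (Good TB_o R TB_L → prods TB_o TB_L TB_o.one ≠ [] → ∃ m, InL TB_o R TB_L m ∧ ((m * t * m⁻¹ = s ∨ m * t * m⁻¹ = v) ∨ m * t * m⁻¹ = a * s ∨ m * t * m⁻¹ = a * v ∨ m * t * m⁻¹ = v * p ∨ m * t * m⁻¹ = s * v * p))) :=
    Fm.sound M.μ TB_W_F TB_W_chk M.reps
  (fun t h0 => (And.imp (fun h1 => h1) (fun h1 => (Or.imp (fun h2 => h2) (fun h2 => (Exists.imp (fun m h3 => ⟨M.H.iff.1 h3.1, h3.2⟩) (h2 M.H.good M.H.ne))) h1)) (h t ((TB_lW_E M).iff.2 h0))))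
noncomputable def TB_U_F : Fm := (.allS TB_lU (.all TB_L (.qf (.not (.eq (.mul (.mul (.v (nat_lit 0)) (.v (nat_lit 1))) (.inv (.v (nat_lit 0)))) (.v (nat_lit 6)))))))
theorem TB_U_chk : Fm.chk TB_o TB_U_F TB_cs = true := by decide +kernel
theorem TB_U {G : Type*} [Group G] {R : ℕ → G → Prop} {a s v p u w : G} {H : Subgroup G}
    (M : Mdl TB_o TB_cs TB_L R [a, s, v, p, u, w] H) :
    ∀ t ∈ sp [a, s, v, p, w], ∀ m ∈ H, m * t * m⁻¹ ≠ u :=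
  have h : ∀ t, InS R TB_lU t → ∀ m, InL TB_o R TB_L m → m * t * m⁻¹ ≠ u :=
    Fm.sound M.μ TB_U_F TB_U_chk M.reps
  (fun t h0 => (fun m h1 => ((h t ((TB_lU_E M).iff.2 h0)) m (M.H.iff.2 h1))))
noncomputable def TB_S_F : Fm := (.allS TB_lS (.qf (.eq (.mul (.v (nat_lit 0)) (.v (nat_lit 5))) (.mul (.v (nat_lit 5)) (.v (nat_lit 0))))))
theorem TB_S_chk : Fm.chk TB_o TB_S_F TB_cs = true := by decide +kernel
theorem TB_S {G : Type*} [Group G] {R : ℕ → G → Prop} {a s v p u w : G} {H : Subgroup G}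
    (M : Mdl TB_o TB_cs TB_L R [a, s, v, p, u, w] H) :
    ∀ t ∈ sp [a, s, u, w], t * u = u * t :=
  have h : ∀ t, InS R TB_lS t → t * u = u * t :=
    Fm.sound M.μ TB_S_F TB_S_chk M.reps
  (fun t h0 => (h t ((TB_lS_E M).iff.2 h0)))

end H2.L3
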