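import Cfsg.Agent.H2.LS3

/-! The certificate checker: homomorphisms on towers, packed tables (copied from `H6/DH4`). -/

set_option autoImplicit false
set_option linter.unusedSectionVars false

namespace H2.LS
open Cfsg Subgroup H16 H1.Am H24.SS H19

universe u
variable {G : Type u} [Group G] [Finite G] {F H X : Subgroup G} {p : Par} {el : ℕ → G} {N n x y a b c d e i j l P Q : ℕ}
  {M M' mul : Mu} {g g' w : G} {us vs xs ys es r : List ℕ} {s : St} {W ct : Wl}

theorem inl_lt (a : ¬ LS.inL p l (2 ^ i) = true) (b : x < 2 * 2 ^ i) (c : LS.inL p l x = true) : x < 2 ^ i := by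
  rw [inL, oo_iff, not_or, nt_iff, not_not] at a
  have k := fb_ne a.2
  have := bt_one.1 (show bt (Nat.shiftLeft 1 i) 1 = true by
    rw [show Nat.shiftLeft 1 i = 2 ^ i from Nat.one_shiftLeft i]; exact k.2)
  subst this
  have c := nt_iff.1 ((oo_iff.1 c).resolve_left a.1)
  obtain ⟨a', h', b'⟩ := p
  cases k.1
  by_contra j
  obtain rfl | rfl : x = 2 ∨ x = 3 := by omega
  all_goals exact c rfl
theorem gn_mem (h : 2 ^ i < 4096) : 2 ^ i ∈ gn := by
  exact (by decide : ∀ i < 12, 2 ^ i ∈ gn) i ((Nat.pow_lt_pow_iff_right (a := 2) (n := i) (m := 12) one_lt_two).1 h)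
theorem gn_pw (h : x ∈ gn) : ∃ i < 12, x = 2 ^ i := by revert x; decide

namespace Tm
variable (T : Tm F p el N M) {Γ : Type*} [Group Γ] {φ : ℕ → Γ}
include T
theorem pwd (h : n ∣ N) : ∃ k, n = 2 ^ k :=
  let ⟨_, e⟩ := T.pw; let ⟨k, _, a⟩ := (Nat.dvd_prime_pow Nat.prime_two).1 (e ▸ h); ⟨k, a⟩
theorem addL (h : 2 * n ∣ N) (a : x < n) (b : LS.inL p l n = true) : LS.inL p l (x + n) = true ↔ LS.inL p l x = true := by
  have := T.dle h
  rw [T.inL (by omega), T.inL (by omega), T.tw n h x a, mul_mem_cancel_right ((T.inL (by omega)).1 b)]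
theorem mulL (a : x < N) (b : y < N) (c : LS.inL p l x = true) (d : LS.inL p l y = true) : LS.inL p l (M x y) = true := by
  rw [T.inL (T.md.lt a b), T.md.ev a b]; exact mul_mem ((T.inL a).1 c) ((T.inL b).1 d)
/-- a map which is multiplicative on normal forms and respects the relations between the generators is a homomorphism -/
theorem th (hn : n ∣ N) (h4 : n ≤ 4096) (h0 : φ 0 = 1)
    (h1 : ∀ i x, 2 * 2 ^ i ∣ n → x < 2 ^ i → LS.inL p l x = true → LS.inL p l (2 ^ i) = true → φ (x + 2 ^ i) = φ x * φ (2 ^ i))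
    (h2 : ∀ g ∈ gn, g < n → LS.inL p l g = true → ∀ g' ∈ gn, g' ≤ g → LS.inL p l g' = true → φ (M g g') = φ g * φ g') :
    ∀ x < n, ∀ y < n, LS.inL p l x = true → LS.inL p l y = true → φ (M x y) = φ x * φ y := by
  have h := T.md
  suffices ∀ j, 2 ^ j ∣ n → ∀ x < 2 ^ j, ∀ y < 2 ^ j, LS.inL p l x = true → LS.inL p l y = true → φ (M x y) = φ x * φ y by
    obtain ⟨k, e⟩ := T.pwd hn
    exact e ▸ this k (e ▸ dvd_rfl)
  intro j
  induction j with
  | zero =>
    intro _ x a y b _ _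
    obtain rfl : x = 0 := by omega
    obtain rfl : y = 0 := by omega
    rw [(m0_iff h h.pos h.pos).2 (by simp [h.e0]), h0, mul_one]
  | succ j ih =>
    rw [pow_succ']
    intro d
    replace ih := ih ((dvd_mul_left _ _).trans d)
    by_cases Lm : LS.inL p l (2 ^ j) = true
    swap
    · exact fun x a y b c e => ih x (inl_lt Lm a c) y (inl_lt Lm b e) c e
    have dN := d.trans hn
    have dm := (dvd_mul_left _ _).trans dN
    have l1 := T.dle dN
    have l2 := Nat.le_of_dvd (Nat.pos_of_dvd_of_pos hn h.pos) d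
    have p0 : 0 < 2 ^ j := Nat.two_pow_pos j
    have gm := gn_mem (i := j) (by omega)
    have h1' := fun x => h1 j x d
    have tw := T.tw _ dN
    have cl := T.cl _ dm
    have cl2 := T.cl _ dN
    have aL := fun x (a : x < 2 ^ j) => T.addL (l := l) dN a Lm
    have sb : ∀ i ≤ j, ∀ x < 2 ^ i, LS.inL p l x = true → ∃ x' < 2 ^ j, LS.inL p l x' = true ∧
        el (2 ^ j) * el x = el x' * el (2 ^ j) ∧ φ (2 ^ j) * φ x = φ x' * φ (2 ^ j) := fun i => by
      induction i with
      | zero =>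
        intro _ x a b
        obtain rfl : x = 0 := by omega
        exact ⟨0, p0, b, by simp [h.e0], by simp [h0]⟩
      | succ i ii =>
        intro a x b c
        rw [pow_succ'] at b
        replace ii := ii (by omega)
        by_cases k : x < 2 ^ i
        · exact ii x k c
        have Li : LS.inL p l (2 ^ i) = true := by_contra fun e => k (inl_lt e b c)
        have di : 2 * 2 ^ i ∣ 2 ^ j := pow_succ' 2 i ▸ pow_dvd_pow 2 a
        have li := Nat.le_of_dvd p0 di
        have pi : 0 < 2 ^ i := Nat.two_pow_pos i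
        obtain ⟨x, rfl⟩ : ∃ y, x = y + 2 ^ i := ⟨x - 2 ^ i, by omega⟩
        have lx : x < 2 ^ i := by omega
        replace c := (T.addL (di.trans dm) lx Li).1 c
        obtain ⟨x', b1, b2, b3, b4⟩ := ii x lx c
        have e1 := h.ev (x := 2 ^ j) (y := 2 ^ i) (by omega) (by omega)
        have e2 := h2 _ gm (by omega) Lm _ (gn_mem (i := i) (by omega)) (by omega) Li
        have e3 := cl2 (2 ^ j) (by omega) (2 ^ i) (by omega)
        have e4 := T.mulL (l := l) (x := 2 ^ j) (y := 2 ^ i) (by omega) (by omega) Lm Li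
        have e5 : ¬ M (2 ^ j) (2 ^ i) < 2 ^ j := fun q => by
          have := (T.el_Kn (h := dm) (by omega)).2 q
          rw [e1, mul_mem_cancel_right ((T.el_Kn (h := dm) (by omega)).2 (by omega)), T.el_Kn (by omega)] at this
          omega
        obtain ⟨w, ew⟩ : ∃ y, M (2 ^ j) (2 ^ i) = y + 2 ^ j := ⟨M (2 ^ j) (2 ^ i) - 2 ^ j, by omega⟩
        rw [ew] at e1 e2 e3 e4
        have lw : w < 2 ^ j := by omega
        replace e4 := (aL w lw).1 e4
        rw [tw w lw] at e1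
        rw [h1' w lw e4 Lm] at e2
        refine ⟨M x' w, cl _ b1 _ lw, T.mulL (by omega) (by omega) b2 e4, ?_, ?_⟩
        · rw [T.tw _ (di.trans dm) x lx, h.ev (by omega) (by omega), ← mul_assoc, b3, mul_assoc, ← e1, mul_assoc]
        · rw [h1 i x (di.trans ((dvd_mul_left _ _).trans d)) lx c Li, ih _ b1 _ lw b2 e4, ← mul_assoc, b4, mul_assoc, ← e2,
            mul_assoc]
    replace sb := sb j le_rfl
    have e1 := h.ev (x := 2 ^ j) (y := 2 ^ j) (by omega) (by omega)
    have e2 := h2 _ gm (by omega) Lm _ gm le_rfl Lm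
    have e4 := T.mulL (l := l) (x := 2 ^ j) (y := 2 ^ j) (by omega) (by omega) Lm Lm
    have e3 : M (2 ^ j) (2 ^ j) < 2 ^ j := by_contra fun q => by
      have := cl2 (2 ^ j) (by omega) (2 ^ j) (by omega)
      obtain ⟨w, ew⟩ : ∃ y, M (2 ^ j) (2 ^ j) = y + 2 ^ j := ⟨M (2 ^ j) (2 ^ j) - 2 ^ j, by omega⟩
      rw [ew, tw w (by omega)] at e1
      have := h.inj (by omega) (by omega) (mul_right_cancel e1)
      omega
    generalize M (2 ^ j) (2 ^ j) = w at e1 e2 e3 e4
    generalize 2 ^ j = m at *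
    have dc : ∀ x < 2 * m, LS.inL p l x = true → (x < m ∨ ∃ y < m, LS.inL p l y = true ∧ x = y + m) := fun x a b =>
      (lt_or_ge x m).imp_right fun c => ⟨x - m, by omega, (aL _ (by omega)).1 (by rwa [Nat.sub_add_cancel c]), by omega⟩
    intro x a0 y b0 c e
    have d1 := dc x a0 c
    have d2 := dc y b0 e
    rcases d1 with a | ⟨x', a, c', rfl⟩ <;> rcases d2 with b | ⟨y', b, e', rfl⟩
    · exact ih x a y b c e
    · clear e; rename' y' => y, e' => e
      have k := cl x a y b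
      rw [(mb_iff h (c := M x y + m) (by omega) (by omega) (by omega)).2 (by
        rw [tw _ k, tw _ b, h.ev (by omega) (by omega), mul_assoc]), h1' _ k (T.mulL (by omega) (by omega) c e) Lm,
        h1' _ b e Lm, ih x a y b c e, mul_assoc]
    · clear c; rename' x' => x, c' => c
      obtain ⟨y', b1, b2, b3, b4⟩ := sb y b e
      have k := cl x a y' b1
      rw [(mb_iff h (c := M x y' + m) (by omega) (by omega) (by omega)).2 (by
        rw [tw _ k, tw _ a, h.ev (by omega) (by omega), mul_assoc, b3, mul_assoc]),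
        h1' _ k (T.mulL (by omega) (by omega) c b2) Lm, h1' _ a c Lm, ih x a y' b1 c b2, mul_assoc, mul_assoc, b4]
    · clear c e; rename' x' => x, c' => c, y' => y, e' => e
      obtain ⟨y', b1, b2, b3, b4⟩ := sb y b e
      have k := cl x a y' b1
      have k' := cl _ k _ e3
      rw [(mb_iff h (c := M (M x y') w) (by omega) (by omega) (by omega)).2 (by
        rw [tw _ a, tw _ b, h.ev (by omega) (by omega), h.ev (by omega) (by omega), e1, mul_assoc, ← mul_assoc (el m), b3]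
        simp only [mul_assoc]), ih _ k _ e3 (T.mulL (by omega) (by omega) c b2) e4, ih x a y' b1 c b2, h1' _ a c Lm,
        h1' _ b e Lm, e2, mul_assoc (φ x) (φ m), ← mul_assoc (φ m), b4]
      simp only [mul_assoc]
theorem hom (hn : n ∣ N) (h : ∀ x < n, ∀ y < n, LS.inL p l x = true → LS.inL p l y = true → φ (M x y) = φ x * φ y) :
    ∃ ψ : ↥(T.Kn hn ⊓ HL F l) →* Γ, ∀ x < n, ∀ k, ψ ⟨el x, k⟩ = φ x := by
  have l1 := T.dle hn
  choose ix i1 i2 using fun g : ↥(T.Kn hn ⊓ HL F l) => T.mem_Kn.1 g.2.1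
  have L : ∀ g, LS.inL p l (ix g) = true := fun g => (T.inL ((i1 g).trans_le l1)).2 (i2 g ▸ g.2.2)
  refine ⟨.mk' (fun g => φ (ix g)) fun a b => ?_, fun x a k => congrArg φ (T.md.inj ((i1 _).trans_le l1) (a.trans_le l1) (i2 _))⟩
  rw [← h _ (i1 a) _ (i1 b) (L a) (L b), (mb_iff T.md ((i1 a).trans_le l1) ((i1 b).trans_le l1) ((i1 (a * b)).trans_le l1)).2
    (by rw [i2, i2, i2]; rfl)]
end Tm
theorem thK_s {f : Fn} (c : thK p l n M M' f = true) : ∀ g ∈ gn, g < n → LS.inL p l g = true → ∀ g' ∈ gn, g' ≤ g →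
    LS.inL p l g' = true → f (M g g') = M' (f g) (f g') := fun g a b d g' a' b' d' => by
  have := allB_iff.1 c g a
  rw [oo_iff, oo_iff, Nat.ble_eq, nt_iff] at this
  have := allB_iff.1 ((this.resolve_left b.not_ge).resolve_left (· d)) g' a'
  rw [oo_iff, oo_iff, Nat.blt_eq, nt_iff, Nat.beq_eq] at this
  exact (this.resolve_left b'.not_gt).resolve_left (· d')

/-! characters of order two -/
def sgn (b : Bool) : ℤˣ := cond b (-1) 1
theorem sgn_one {b : Bool} : sgn b = 1 ↔ b = false := by cases b <;> decide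
theorem sgn_xor {a b : Bool} : sgn (!bq a b) = sgn a * sgn b := by cases a <;> cases b <;> decide
theorem bt_add (h : x < 2 ^ i) : bt (x + 2 ^ i) j = !bq (bt x j) (bt (2 ^ i) j) := by
  have e : ∀ x, bt x j = x.testBit j := fun x => Bool.eq_iff_iff.2 bt_iff
  rw [e, e, e, add_comm, ← mul_one (2 ^ i), Nat.two_pow_add_eq_or_of_lt h, mul_one, Nat.testBit_or, Nat.testBit_two_pow]
  by_cases k : i = j
  · subst k; rw [Nat.testBit_lt_two_pow h]; simp [bq]
  · rw [decide_eq_false k]; cases x.testBit j <;> rfl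
theorem chi_add (h : x < 2 ^ i) : LS.chi c (x + 2 ^ i) = !bq (LS.chi c x) (LS.chi c (2 ^ i)) := by
  let f : ℕ → ℕ → Bool := fun x n => Nat.rec false (fun i ih => Bool.rec ih (!ih) (bt c i &&' bt x i)) n
  suffices ∀ n, f (x + 2 ^ i) n = !bq (f x n) (f (2 ^ i) n) from this 12
  intro n
  induction n with
  | zero => rfl
  | succ n ih =>
    change (Bool.rec (f _ n) (!f _ n) (bt c n &&' bt (x + 2 ^ i) n) : Bool) = !bq (Bool.rec (f x n) (!f x n) (bt c n &&' bt x n))
      (Bool.rec (f _ n) (!f _ n) (bt c n &&' bt (2 ^ i) n))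
    rw [ih, bt_add h]
    cases f x n <;> cases f (2 ^ i) n <;> cases bt c n <;> cases bt x n <;> cases bt (2 ^ i) n <;> rfl
theorem chi_zero : LS.chi c 0 = false := by
  let f : ℕ → Bool := fun n => Nat.rec false (fun i ih => Bool.rec ih (!ih) (bt c i &&' bt 0 i)) n
  suffices ∀ n, f n = false from this 12
  intro n
  induction n with
  | zero => rfl
  | succ n ih =>
    change (Bool.rec (f n) (!f n) (bt c n &&' bt 0 n) : Bool) = false
    rw [ih, Bool.eq_false_iff.2 (bt_zero (x := n))]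
    cases bt c n <;> rfl
theorem Tm.chi_mul (T : Tm F p el N M) (h : hmK p l N M c = true) : ∀ x < N, ∀ y < N, LS.inL p l x = true → LS.inL p l y = true →
    sgn (LS.chi c (M x y)) = sgn (LS.chi c x) * sgn (LS.chi c y) := by
  obtain ⟨h4, h⟩ := an_iff.1 h
  refine T.th (φ := fun x => sgn (LS.chi c x)) dvd_rfl (Nat.ble_eq.mp h4) (sgn_one.2 chi_zero)
    (fun i x _ a _ _ => by rw [chi_add a, sgn_xor]) fun g a b d g' a' b' d' => ?_
  have := allB_iff.1 h g a
  rw [oo_iff, oo_iff, Nat.ble_eq, nt_iff] at this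
  have := allB_iff.1 ((this.resolve_left b.not_ge).resolve_left (· d)) g' a'
  rw [oo_iff, oo_iff, Nat.blt_eq, nt_iff, bq_iff] at this
  rw [(this.resolve_left b'.not_gt).resolve_left (· d'), sgn_xor]
theorem Tm.chi (T : Tm F p el N M) (h : hmK p l N M c = true) :
    ∃ ψ : ↥(T.md.K ⊓ HL F l) →* ℤˣ, ∀ x < N, ∀ k, ψ ⟨el x, k⟩ = sgn (LS.chi c x) := T.hom dvd_rfl (T.chi_mul h)

/-! packed tables -/
theorem l2_eq : l2 P x = P / 4096 ^ x % 4096 := by
  change (P >>> (x * 12)) &&& (2 ^ 12 - 1) = _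
  rw [Nat.and_two_pow_sub_one_eq_mod, Nat.shiftRight_eq_div_pow, mul_comm x, pow_mul]; rfl
theorem sh_eq : Nat.shiftLeft P (Nat.mul x (nat_lit 12)) = P * 4096 ^ x := by
  change P <<< (x * 12) = _
  rw [Nat.shiftLeft_eq, mul_comm x, pow_mul]; rfl
theorem l2_lo (h : x < n) : l2 (P + Q * 4096 ^ n) x = l2 P x := by
  obtain ⟨k, rfl⟩ := Nat.exists_eq_add_of_lt h
  rw [l2_eq, l2_eq, show Q * 4096 ^ (x + k + 1) = Q * 4096 ^ k * 4096 * 4096 ^ x by ring,
    Nat.add_mul_div_right _ _ (by positivity), Nat.add_mul_mod_self_right]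
theorem l2_hi (h : P < 4096 ^ n) : l2 (P + Q * 4096 ^ n) (x + n) = l2 Q x := by
  rw [l2_eq, l2_eq, add_comm x, pow_add, ← Nat.div_div_eq_div_mul, Nat.add_mul_div_right _ _ (by positivity),
    Nat.div_eq_of_lt h, zero_add]
theorem dig {f : ℕ → ℕ} (h : ∀ x < n, f x < 4096) : ∑ x ∈ Finset.range n, f x * 4096 ^ x < 4096 ^ n ∧
    ∀ x < n, l2 (∑ x ∈ Finset.range n, f x * 4096 ^ x) x = f x := by
  induction n with
  | zero => simp
  | succ n ih =>
    obtain ⟨a, b⟩ := ih fun x k => h x (k.trans n.lt_succ_self)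
    have := h n n.lt_succ_self
    rw [Finset.sum_range_succ]
    refine ⟨by
      have := Nat.mul_le_mul_right (4096 ^ n) (Nat.le_of_lt_succ (show f n < 4095 + 1 from this))
      rw [pow_succ]; omega, fun x k => ?_⟩
    rcases Nat.lt_succ_iff_lt_or_eq.1 k with k | rfl
    · rw [l2_lo k, b x k]
    · have e := l2_hi (x := 0) (Q := f x) a
      rw [zero_add] at e
      rw [e, l2_eq, pow_zero, Nat.div_one, Nat.mod_eq_of_lt this]
theorem bld_aux {n' : ℕ} (cl : ∀ x < n', ∀ y < n', M x y < n') (h4 : n' ≤ 4096) (hv : ∀ v ∈ vs, v < n')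
    {k : ℕ → ℕ → Bool} (hP : P < 4096 ^ n) (hl : ∀ x < n, l2 P x < n') (c : bld M vs n P k = true) :
    ∃ Q, k (n * 2 ^ vs.length) Q = true ∧ (∀ x < n, l2 Q x = l2 P x) ∧ (∀ x < n * 2 ^ vs.length, l2 Q x < n') ∧
      ∀ i < vs.length, ∀ x < n * 2 ^ i, l2 Q (x + n * 2 ^ i) = M (l2 Q x) (n1 vs i) := by
  induction vs generalizing n P with
  | nil => exact ⟨P, (mul_one n).symm ▸ c, fun _ _ => rfl, by simpa using hl, nofun⟩
  | cons v vs ih =>
    have c' : (force (Nat.add P (Nat.shiftLeft (loop2 (fun x => Nat.shiftLeft (M (l2 P x) v) (Nat.mul x (nat_lit 12)))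
      (nat_lit 0) n) (Nat.mul n (nat_lit 12)))) fun P => force (Nat.mul n 2) fun n => bld M vs n P k) = true := c
    rw [force_eq, force_eq, loop2_eq_sum, sh_eq] at c'
    simp only [show ∀ x, nat_lit 0 + x = x from Nat.zero_add, sh_eq] at c'
    have lv := hv v List.mem_cons_self
    obtain ⟨a, b⟩ := dig (n := n) (f := fun x => M (l2 P x) v) fun x h => (cl _ (hl x h) _ lv).trans_le h4
    generalize ∑ x ∈ Finset.range n, M (l2 P x) v * 4096 ^ x = S at a b c'
    have hi : ∀ x < n, l2 (P + S * 4096 ^ n) (x + n) = M (l2 P x) v := fun x h => by rw [l2_hi hP, b x h]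
    obtain ⟨Q, q1, q2, q3, q4⟩ := ih (n := n * 2) (P := P + S * 4096 ^ n) (fun v h => hv v (List.mem_cons_of_mem _ h))
      (by rw [pow_mul, sq]; nlinarith) (fun x h => by
        by_cases j : x < n
        · rw [l2_lo j]; exact hl x j
        · obtain ⟨x, rfl⟩ : ∃ y, x = y + n := ⟨x - n, by omega⟩
          rw [hi x (by omega)]
          exact cl _ (hl x (by omega)) _ lv) c'
    rw [List.length_cons, pow_succ', ← mul_assoc]
    refine ⟨Q, q1, fun x h => by rw [q2 x (by omega), l2_lo h], q3, ?_⟩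
    rintro (_ | i) h x j
    · rw [pow_zero, mul_one] at j ⊢
      rw [q2 _ (by omega), hi x j, q2 x (by omega), l2_lo j]; rfl
    · rw [pow_succ', ← mul_assoc] at j ⊢
      exact q4 i (by omega) x j
theorem bld_s {n' : ℕ} (cl : ∀ x < n', ∀ y < n', M x y < n') (h4 : n' ≤ 4096) (h0 : 0 < n') (hv : ∀ v ∈ vs, v < n')
    {k : ℕ → ℕ → Bool} (c : bld M vs 1 0 k = true) :
    ∃ Q, k (2 ^ vs.length) Q = true ∧ l2 Q 0 = 0 ∧ (∀ x < 2 ^ vs.length, l2 Q x < n') ∧
      ∀ i < vs.length, ∀ x < 2 ^ i, l2 Q (x + 2 ^ i) = M (l2 Q x) (n1 vs i) := by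
  have z : l2 0 0 = 0 := rfl
  obtain ⟨Q, a, b, c, d⟩ := bld_aux cl h4 hv (by decide) (fun x h => by rwa [Nat.lt_one_iff.1 h, z]) c
  simp only [one_mul] at a c d
  exact ⟨Q, a, (b 0 one_pos).trans z, c, d⟩
/-- the table built from images of the generators in a second model, checked by `thK`, is a homomorphism -/
theorem Tm.bld {Γ : Type*} [Group Γ] {el' : ℕ → Γ} {n' : ℕ} (T : Tm F p el N M) (hn : n ∣ N) (h4 : n ≤ 4096)
    (ml : ∀ x < n', ∀ y < n', el' (M' x y) = el' x * el' y) (e0 : el' 0 = 1) (hl : n ∣ 2 ^ vs.length) (hv : ∀ v ∈ vs, v < n')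
    (q0 : l2 Q 0 = 0) (q1 : ∀ x < 2 ^ vs.length, l2 Q x < n')
    (q2 : ∀ i < vs.length, ∀ x < 2 ^ i, l2 Q (x + 2 ^ i) = M' (l2 Q x) (n1 vs i)) (c : thK p l n M M' (l2 Q) = true) :
    ∀ x < n, ∀ y < n, LS.inL p l x = true → LS.inL p l y = true → el' (l2 Q (M x y)) = el' (l2 Q x) * el' (l2 Q y) := by
  have l1 := Nat.le_of_dvd (Nat.two_pow_pos _) hl
  refine T.th (φ := fun x => el' (l2 Q x)) hn h4 (by rw [q0, e0]) (fun i x a b _ _ => ?_) fun g a b d g' a' b' d' => ?_
  · have := Nat.le_of_dvd (Nat.two_pow_pos _) (a.trans hl)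
    have li : i < vs.length := (Nat.pow_lt_pow_iff_right (a := 2) one_lt_two).1 (by omega)
    have lv : n1 vs i < n' := hv _ (nth_mem_of_lt (nat_lit 0) vs li)
    have e := q2 i li 0 (Nat.two_pow_pos i)
    rw [zero_add] at e
    rw [q2 i li x b, e, ml _ (q1 x (by omega)) _ lv, ml _ (q1 0 (by omega)) _ lv, q0, e0, one_mul]
  · rw [thK_s c g a b d g' a' b' d', ml _ (q1 g (by omega)) _ (q1 g' (by omega))]

end H2.LS
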