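import Cfsg.Agent.H2.LTCd0

/-! Certificates. -/

set_option autoImplicit false
set_option maxRecDepth 100000
set_option Elab.async false
set_option linter.all false

namespace H2.LS.C
noncomputable section
def c0 : Ct := (.n (nat_lit 0x10004006004000800c008005003001c012002000808c04a001009805000200b005800400e007000801400a0010020011a) (.n (nat_lit 0x10004006005002800dc) (.n (nat_lit 0x200080120) (.n (nat_lit 0x8002004003801c0060010038011c) (.n (nat_lit 0x2000801a0) (.n (nat_lit 0x800200400400240060010038019c) (.n (nat_lit 0x4001002001400e00b009808de) .e .e) .e) (.n (nat_lit 0x2000801800400100200122) (.n (nat_lit 0x200080100060010010008002004001800c0040010098050006001005802c006001003801c006002000800c00800600380246) (.n (nat_lit 0) (.n (nat_lit 0x400100180144) .e .e) (.n (nat_lit 0) (.n (nat_lit 0x2000801c0060010010008002004001800c0040010098050006001005802c006001003801c006002000800c00800600380246) (.n (nat_lit 0) (.n (nat_lit 0x4001001801c4) .e .e) (.n (nat_lit 0) (.n (nat_lit 0x4001002801c4) .e .e) (.n (nat_lit 0) (.n (nat_lit 0x4001002001c4) .e .e) (.n (nat_lit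 0) (.n (nat_lit 0x4001005800c002002001000400800300180040060070048008002007003800c00400100580346) (.n (nat_lit 0) (.n (nat_lit 0x4001009800c002002001000400800300280040060070058008002023012800c00400100980546) (.n (nat_lit 0) (.n (nat_lit 0x100040460030008008004001002000c008001001801c00e00200100046) .e .e) (.n (nat_lit 0) (.n (nat_lit 0x40010098008002004002004c002009003003400200400300409) .e .e) .e)) .e) (.n (nat_lit 0) (.n (nat_lit 0x1000400c004000802800c001001804c02800100200303) .e .e) .e)) .e) (.n (nat_lit 0) (.n (nat_lit 0x1000400c004000802800c00100200203) .e .e) .e))))) .e) (.n (nat_lit 0) (.n (nat_lit 0x400100200144) .e .e) (.n (nat_lit 0) (.n (nat_lit 0x800200700180040040020008010006003000800c00a0050010008002003002001800e00800480286) (.n (nat_lit 0) (.n (nat_lit 0x4001001801c4) .e .e) (.n (nat_lit 0) (.n (nat_lit 0x100040160030008008004001002000c006001001801c01200200100046) .e .e) (.n (nat_lit 0) (.n (nat_lit 0x4001002001c4) .e .e) (.n (nat_lit 0) (.n (nat_lit 0x4001002801c4) .e .e) (.n (nat_lit 0) (.n (nat_lit 0x100040160030008008004001002000c006001001801c01200200100046)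 .e .e) (.n (nat_lit 0) (.n (nat_lit 0x400100280243) .e .e) (.n (nat_lit 0) (.n (nat_lit 0x4001003001c4) .e .e) .e))))))) .e) (.n (nat_lit 0) (.n (nat_lit 0x2000801800800100200183) .e .e) .e))))) .e) .e)) .e) (.n (nat_lit 0x2000801000400100200122) (.n (nat_lit 0x4001002000c0020020010004008003001800800201300a000c00200b005800c002007003800c004001001801000a00600380246) (.n (nat_lit 0) (.n (nat_lit 0x400100180144) .e .e) (.n (nat_lit 0) (.n (nat_lit 0x400100200144) .e .e) (.n (nat_lit 0) (.n (nat_lit 0x4001003800c0020020010004008003001800800201300a000c00200b005800c002007003800c004001001801000a00600380246) (.n (nat_lit 0) (.n (nat_lit 0x4001001801c4) .e .e) (.n (nat_lit 0) (.n (nat_lit 0x4001002001c4) .e .e) (.n (nat_lit 0) (.n (nat_lit 0x4001002801c4) .e .e) (.n (nat_lit 0) (.n (nat_lit 0x4001003001c4) .e .e) (.n (nat_lit 0) (.n (nat_lit 0x40010038008002004002001c002003005802c00200400280249) .e .e) (.n (nat_lit 0) (.n (nat_lit 0x40010038008002004002001c00200400280209) .e .e) .e)))))) .e) (.n (nat_lit 0) (.n (nat_lit 0x4001003800c0020020010004008003001800800201300a000c00200b005800c002007003800c004001001801000a00600380246)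 (.n (nat_lit 0) (.n (nat_lit 0x4001001801c4) .e .e) (.n (nat_lit 0) (.n (nat_lit 0x4001002001c4) .e .e) (.n (nat_lit 0) (.n (nat_lit 0x4001003001c4) .e .e) (.n (nat_lit 0) (.n (nat_lit 0x4001002801c4) .e .e) (.n (nat_lit 0) (.n (nat_lit 0x40010038008002004002001c002003005802c00200500200209) .e .e) (.n (nat_lit 0) (.n (nat_lit 0x40010038008002004002001c002003005802c00200500200209) .e .e) .e)))))) .e) (.n (nat_lit 0) (.n (nat_lit 0x4001003800800200b00280100020040020014002003005802c00200500200189) .e .e) (.n (nat_lit 0) (.n (nat_lit 0x4001003800800200b00280100020040020014002003005802c00200500200189) .e .e) .e)))))) .e) .e)) .e) .e)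
theorem e0 : top rules p [] g0 c0 = true := by decide +kernel
end
end H2.LS.C
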