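import Cfsg.Agent.H2.LD4

/-! Generated: models of the alternating group of degree six, the symmetric group of degree five and a product of two symmetric groups of degree three. -/

set_option maxRecDepth 100000
set_option maxHeartbeats 4000000
set_option linter.unusedVariables false

open Subgroup
open scoped commutatorElement
namespace H2.L3
open H0 H0.PM H16 H19 H10.X

def A6r {G : Type*} [Group G] (p q v w : G) : Prop :=
  p ^ 3 = 1 ∧
  q ^ 3 = 1 ∧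
  v ^ 3 = 1 ∧
  w ^ 3 = 1 ∧
  (p * q) ^ 2 = 1 ∧
  (p * v) ^ 2 = 1 ∧
  (p * w) ^ 2 = 1 ∧
  (q * v) ^ 2 = 1 ∧
  (q * w) ^ 2 = 1 ∧
  (v * w) ^ 2 = 1 ∧ True
theorem A6r.map {G G' : Type*} [Group G] [Group G'] {p q v w : G} (h : A6r p q v w) (f : G →* G') :
    A6r (f p) (f q) (f v) (f w) :=
  ⟨by simpa only [map_mul, map_pow, map_inv, map_one, map_commutatorElement] using congrArg f h.1,
   by simpa only [map_mul, map_pow, map_inv, map_one, map_commutatorElement] using congrArg f h.2.1,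
   by simpa only [map_mul, map_pow, map_inv, map_one, map_commutatorElement] using congrArg f h.2.2.1,
   by simpa only [map_mul, map_pow, map_inv, map_one, map_commutatorElement] using congrArg f h.2.2.2.1,
   by simpa only [map_mul, map_pow, map_inv, map_one, map_commutatorElement] using congrArg f h.2.2.2.2.1,
   by simpa only [map_mul, map_pow, map_inv, map_one, map_commutatorElement] using congrArg f h.2.2.2.2.2.1,
   by simpa only [map_mul, map_pow, map_inv, map_one, map_commutatorElement] using congrArg f h.2.2.2.2.2.2.1,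
   by simpa only [map_mul, map_pow, map_inv, map_one, map_commutatorElement] using congrArg f h.2.2.2.2.2.2.2.1,
   by simpa only [map_mul, map_pow, map_inv, map_one, map_commutatorElement] using congrArg f h.2.2.2.2.2.2.2.2.1,
   by simpa only [map_mul, map_pow, map_inv, map_one, map_commutatorElement] using congrArg f h.2.2.2.2.2.2.2.2.2.1, trivial⟩
theorem A6r.comap {G G' : Type*} [Group G] [Group G'] {p q v w : G} {f : G →* G'} (hf : Function.Injective f)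
    (h : A6r (f p) (f q) (f v) (f w)) : A6r p q v w :=
  ⟨hf (by simpa only [map_mul, map_pow, map_inv, map_one, map_commutatorElement] using h.1),
   hf (by simpa only [map_mul, map_pow, map_inv, map_one, map_commutatorElement] using h.2.1),
   hf (by simpa only [map_mul, map_pow, map_inv, map_one, map_commutatorElement] using h.2.2.1),
   hf (by simpa only [map_mul, map_pow, map_inv, map_one, map_commutatorElement] using h.2.2.2.1),
   hf (by simpa only [map_mul, map_pow, map_inv, map_one, map_commutatorElement] using h.2.2.2.2.1),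
   hf (by simpa only [map_mul, map_pow, map_inv, map_one, map_commutatorElement] using h.2.2.2.2.2.1),
   hf (by simpa only [map_mul, map_pow, map_inv, map_one, map_commutatorElement] using h.2.2.2.2.2.2.1),
   hf (by simpa only [map_mul, map_pow, map_inv, map_one, map_commutatorElement] using h.2.2.2.2.2.2.2.1),
   hf (by simpa only [map_mul, map_pow, map_inv, map_one, map_commutatorElement] using h.2.2.2.2.2.2.2.2.1),
   hf (by simpa only [map_mul, map_pow, map_inv, map_one, map_commutatorElement] using h.2.2.2.2.2.2.2.2.2.1), trivial⟩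
noncomputable def A6_Rl : List (List ℕ) := [[0,1],
  [1,0],
  [2,3],
  [3,2],
  [4,5],
  [5,4],
  [6,7],
  [7,6],
  [0,0,0],
  [2,2,2],
  [4,4,4],
  [6,6,6],
  [2,0,2,0],
  [4,0,4,0],
  [6,0,6,0],
  [4,2,4,2],
  [6,2,6,2],
  [6,4,6,4]]
theorem A6_r {G : Type*} [Group G] {p q v w : G}
    (h : A6r p q v w) :
    Rels (nthG [p, p⁻¹, q, q⁻¹, v, v⁻¹, w, w⁻¹]) A6_Rl :=
  rels_of_eqs (InvI.nil : InvI [p, q, v, w] [])
    (show AllEq [p, q, v, w] [((.pw (.v (nat_lit 0)) (nat_lit 3)), .one), ((.pw (.v (nat_lit 1)) (nat_lit 3)), .one), ((.pw (.v (nat_lit 2)) (nat_lit 3)), .one), ((.pw (.v (nat_lit 3)) (nat_lit 3)), .one), ((.pw (.mul (.v (nat_lit 0)) (.v (nat_lit 1))) (nat_lit 2)), .one), ((.pw (.mul (.v (nat_lit 0)) (.v (nat_lit 2))) (nat_lit 2)), .one), ((.pw (.mul (.v (nat_lit 0)) (.v (nat_lit 3))) (nat_lit 2)), .one), ((.pw (.mul (.v (nat_lit 1)) (.v (nat_lit 2))) (nat_lit 2)), .one), ((.pw (.mul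 (.v (nat_lit 1)) (.v (nat_lit 3))) (nat_lit 2)), .one), ((.pw (.mul (.v (nat_lit 2)) (.v (nat_lit 3))) (nat_lit 2)), .one)] from h)
    [(.v (nat_lit 0)), (.inv (.v (nat_lit 0))), (.v (nat_lit 1)), (.inv (.v (nat_lit 1))), (.v (nat_lit 2)), (.inv (.v (nat_lit 2))), (.v (nat_lit 3)), (.inv (.v (nat_lit 3)))] (by decide +kernel)
noncomputable abbrev A6_o : Ops := pops (nat_lit 6) (nat_lit 3) (nat_lit 7) (nat_lit 181896)
noncomputable def A6_cs : List ℕ := [(nat_lit 181777), (nat_lit 181826), (nat_lit 180377), (nat_lit 180867), (nat_lit 165537), (nat_lit 169604), (nat_lit 18089), (nat_lit 50821)]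
noncomputable def A6_L : List (List ℕ) := [[(nat_lit 181896), (nat_lit 181777), (nat_lit 181826), (nat_lit 180867), (nat_lit 169604), (nat_lit 50821)],
  [(nat_lit 181896), (nat_lit 180944), (nat_lit 181336), (nat_lit 173664), (nat_lit 83560)],
  [(nat_lit 181896), (nat_lit 174280), (nat_lit 177416), (nat_lit 116040)],
  [(nat_lit 181896), (nat_lit 120968), (nat_lit 146056)]]
noncomputable def A6_WW : List (List (List ℕ)) := [[[],
  [(nat_lit 0)],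
  [(nat_lit 1)],
  [(nat_lit 3)],
  [(nat_lit 5)],
  [(nat_lit 7)]],
  [[],
  [(nat_lit 0), (nat_lit 3)],
  [(nat_lit 2), (nat_lit 1)],
  [(nat_lit 4), (nat_lit 1)],
  [(nat_lit 6), (nat_lit 1)]],
  [[],
  [(nat_lit 0), (nat_lit 3), (nat_lit 4), (nat_lit 1)],
  [(nat_lit 0), (nat_lit 5), (nat_lit 2), (nat_lit 1)],
  [(nat_lit 0), (nat_lit 7), (nat_lit 2), (nat_lit 1)]],
  [[],
  [(nat_lit 2), (nat_lit 5), (nat_lit 6), (nat_lit 3)],
  [(nat_lit 2), (nat_lit 7), (nat_lit 4), (nat_lit 3)]]]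
noncomputable def A6_b2_S0 : List ℕ := [nat_lit 0xb000008006004]
noncomputable def A6_b2_S : List (List ℕ) := [A6_b2_S0]
noncomputable def A6_b2_defs : List ℕ := [(nat_lit 0x1000000000000000000000)]
noncomputable def A6_b2_recs : List ℕ := [(nat_lit 0x10000100002)]
noncomputable def A6_b2_L0 : List ℕ := [nat_lit 0x700000100000b000002, nat_lit 0x2000002000008000000, nat_lit 0xc000000000001000001]
noncomputable def A6_b2_L : List (List ℕ) := [A6_b2_L0]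
noncomputable def A6_b2_V : List ℕ := [(nat_lit 0x20000000100000000)]
noncomputable def A6_b2_D : H26.Dag := ⟨[1,0], [[0,1],
  [1,0],
  [0,0,0]], [], A6_b2_defs, A6_b2_recs⟩
theorem A6_b2_c : A6_b2_D.checkTab A6_b2_S 3 2 A6_b2_V A6_b2_L = true := by decide +kernel
theorem A6_b2 : Bound A6_Rl 2 3 :=
  bound_dag (Bound.zero A6_Rl) (K := 2) (J := [0,1,8]) (by decide +kernel) A6_b2_c (by decide +kernel)
noncomputable def A6_b4_S0 : List ℕ := [nat_lit 0x1, nat_lit 0xb00000800600a, nat_lit 0xb00000200000800a00c, nat_lit 0xf000009006008, nat_lit 0xf00000500000d00600c]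
noncomputable def A6_b4_S : List (List ℕ) := [A6_b4_S0]
noncomputable def A6_b4_defs : List ℕ := [(nat_lit 0x100001003000000020000000000000)]
noncomputable def A6_b4_recs : List ℕ := [(nat_lit 0x30000300003010000200003010000100002030000100002000000000000)]
noncomputable def A6_b4_L0 : List ℕ := [nat_lit 0x100000000000200000000000700000100000b000002, nat_lit 0xa00000200000f000003000006000002000008000000, nat_lit 0xe00000300000900000100000c000000000005000001, nat_lit 0x1000000100000d000002000012000003000011000003]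
noncomputable def A6_b4_L : List (List ℕ) := [A6_b4_L0]
noncomputable def A6_b4_V : List ℕ := [(nat_lit 0x3000000020000000100000000)]
noncomputable def A6_b4_D : H26.Dag := ⟨[1,0,3,2], [[0,1],
  [1,0],
  [2,3],
  [3,2],
  [0,0,0],
  [2,2,2],
  [2,0,2,0]], [0,1], A6_b4_defs, A6_b4_recs⟩
theorem A6_b4_c : A6_b4_D.checkTab A6_b4_S 4 4 A6_b4_V A6_b4_L = true := by decide +kernel
theorem A6_b4 : Bound A6_Rl 4 12 :=
  bound_dag A6_b2 (K := 4) (J := [0,1,2,3,8,9,12]) (by decide +kernel) A6_b4_c (by decide +kernel)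
noncomputable def A6_b6_S0 : List ℕ := [nat_lit 0x1, nat_lit 0x1, nat_lit 0xb000008006010, nat_lit 0xb00000200000800a014, nat_lit 0xb00000600000800a016, nat_lit 0xf00000d00600c, nat_lit 0xf000011000015006012, nat_lit 0xf000009000015006014, nat_lit 0x1300001100600e, nat_lit 0x1300000d00002100a012, nat_lit 0x13000009000021006016]
noncomputable def A6_b6_S : List (List ℕ) := [A6_b6_S0]
noncomputable def A6_b6_defs : List ℕ := [(nat_lit 0x30000100100001005000000040000000000000)]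
noncomputable def A6_b6_recs : List ℕ := [(nat_lit 0x50000400004010000400004030000200004050000300003030000300003010000200003030000100002010000100002050000100002020000000000000000000000)]
noncomputable def A6_b6_L0 : List ℕ := [nat_lit 0x100000000000200000000000500000000000600000000000700000100000b000002, nat_lit 0xe00000200000f00000300001200000200001300000400000a000002000008000000, nat_lit 0x1600000300000d00000100002200000400001100000100000c000000000009000001, nat_lit 0x1000000100001500000200001a00000300001900000300001e00000300001d000003, nat_lit 0x2600000400002500000400001400000100002100000200002a000004000029000004]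
noncomputable def A6_b6_L : List (List ℕ) := [A6_b6_L0]
noncomputable def A6_b6_V : List ℕ := [(nat_lit 0x400000003000000020000000100000000)]
noncomputable def A6_b6_D : H26.Dag := ⟨[1,0,3,2,5,4], [[0,1],
  [1,0],
  [2,3],
  [3,2],
  [4,5],
  [5,4],
  [0,0,0],
  [2,2,2],
  [4,4,4],
  [2,0,2,0],
  [4,0,4,0],
  [4,2,4,2]], [0,1,2,3], A6_b6_defs, A6_b6_recs⟩
theorem A6_b6_c : A6_b6_D.checkTab A6_b6_S 5 6 A6_b6_V A6_b6_L = true := by decide +kernel
theorem A6_b6 : Bound A6_Rl 6 60 :=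
  bound_dag A6_b4 (K := 6) (J := [0,1,2,3,4,5,8,9,10,12,13,15]) (by decide +kernel) A6_b6_c (by decide +kernel)
noncomputable def A6_b8_S0 : List ℕ := [nat_lit 0x1, nat_lit 0x1, nat_lit 0x1, nat_lit 0xb000008006016, nat_lit 0xb00000200000800a01c, nat_lit 0xb00000600000800a020, nat_lit 0xb00000a00000800a022, nat_lit 0xf000011006010, nat_lit 0xf00001500001d006018, nat_lit 0xf00001900001d00601a, nat_lit 0xf00000d00001d00601c, nat_lit 0x13000015006012, nat_lit 0x1300001100002d00a018, nat_lit 0x1300001900002d00601e, nat_lit 0x1300000d00002d006020, nat_lit 0x17000019006014, nat_lit 0x1700001100003d00a01a, nat_lit 0x1700001500003d00a01e, nat_lit 0x1700000d00003d006022]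
noncomputable def A6_b8_S : List (List ℕ) := [A6_b8_S0]
noncomputable def A6_b8_defs : List ℕ := [(nat_lit 0x5000010030000100100001007000000060000000000000)]
noncomputable def A6_b8_recs : List ℕ := [(nat_lit 0x70000500005030000500005010000500005050000200005070000400004050000400004010000400004030000200004070000300003050000300003030000300003010000200003050000100002030000100002010000100002070000100002040000000000020000000000000000000000)]
noncomputable def A6_b8_L0 : List ℕ := [nat_lit 0x100000000000200000000000500000000000600000000000900000000000a00000000000700000100000b000002, nat_lit 0x1200000200000f00000300001600000200001300000400001a00000200001700000500000e000002000008000000, nat_lit 0x1e00000300001100000100002e00000400001500000100003e00000500001900000100000c00000000000d000001, nat_lit 0x1000000100001d00000200002200000300002100000300002600000300002500000300002a000003000029000003, nat_lit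 0x3200000400003100000400001400000100002d00000200003600000400003500000400003a000004000039000004, nat_lit 0x4200000500004100000500004600000500004500000500001800000100003d00000200004a000005000049000005]
noncomputable def A6_b8_L : List (List ℕ) := [A6_b8_L0]
noncomputable def A6_b8_V : List ℕ := [(nat_lit 0x50000000400000003000000020000000100000000)]
noncomputable def A6_b8_D : H26.Dag := ⟨[1,0,3,2,5,4,7,6], [[0,1],
  [1,0],
  [2,3],
  [3,2],
  [4,5],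
  [5,4],
  [6,7],
  [7,6],
  [0,0,0],
  [2,2,2],
  [4,4,4],
  [6,6,6],
  [2,0,2,0],
  [4,0,4,0],
  [6,0,6,0],
  [4,2,4,2],
  [6,2,6,2],
  [6,4,6,4]], [0,1,2,3,4,5], A6_b8_defs, A6_b8_recs⟩
theorem A6_b8_c : A6_b8_D.checkTab A6_b8_S 6 8 A6_b8_V A6_b8_L = true := by decide +kernel
theorem A6_b8 : Bound A6_Rl 8 360 :=
  bound_dag A6_b6 (K := 8) (J := [0,1,2,3,4,5,6,7,8,9,10,11,12,13,14,15,16,17]) (by decide +kernel) A6_b8_c (by decide +kernel)
theorem A6_P : PModel (nat_lit 6) (nat_lit 3) (nat_lit 7) (nat_lit 181896) A6_cs A6_Rl A6_L 360 :=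
  ⟨PkOK.of (by decide +kernel), by decide +kernel, by decide +kernel, A6_b8, ⟨A6_WW, by decide +kernel⟩,
    ⟨fun c => Nat.mod c (nat_lit 5689), by decide +kernel⟩⟩
noncomputable def A6_soc_t0 : ST := (.node (nat_lit 7893) (.node (nat_lit 4023) (.node (nat_lit 1707) (.node (nat_lit 1047) (.node (nat_lit 560) (.node (nat_lit 311) (.node (nat_lit 163) (.node (nat_lit 158) (.leaf (nat_lit 87)) (.leaf (nat_lit 3))) (.node (nat_lit 170) (.leaf (nat_lit 252)) (.node (nat_lit 295) (.leaf (nat_lit 24)) (.leaf (nat_lit 241))))) (.node (nat_lit 418) (.node (nat_lit 412) (.leaf (nat_lit 252)) (.leaf (nat_lit 213))) (.node (nat_lit 515) (.leaf (nat_lit 3)) (.node (nat_lit 556) (.leaf (nat_lit 36)) (.leaf (nat_lit 222)))))) (.node (nat_lit 846) (.node (nat_lit 626) (.node (nat_lit 607) (.leaf (nat_lit 312)) (.leaf (nat_lit 211))) (.node (nat_lit 687) (.leaf (nat_lit 241)) (.node (nat_lit 830) (.leaf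 (nat_lit 18)) (.leaf (nat_lit 243))))) (.node (nat_lit 960) (.node (nat_lit 854) (.leaf (nat_lit 24)) (.node (nat_lit 932) (.leaf (nat_lit 243)) (.leaf (nat_lit 33)))) (.node (nat_lit 1008) (.leaf (nat_lit 63)) (.node (nat_lit 1028) (.leaf (nat_lit 222)) (.leaf (nat_lit 111))))))) (.node (nat_lit 1282) (.node (nat_lit 1184) (.node (nat_lit 1118) (.node (nat_lit 1100) (.leaf (nat_lit 12)) (.leaf (nat_lit 303))) (.node (nat_lit 1123) (.leaf (nat_lit 183)) (.node (nat_lit 1169) (.leaf (nat_lit 27)) (.leaf (nat_lit 72))))) (.node (nat_lit 1212) (.node (nat_lit 1201) (.leaf (nat_lit 3)) (.node (nat_lit 1207) (.leaf (nat_lit 36)) (.leaf (nat_lit 1)))) (.node (nat_lit 1220) (.leaf (nat_lit 63)) (.node (nat_lit 1237) (.leaf (nat_lit 27)) (.leaf (nat_lit 342)))))) (.node (nat_lit 1594) (.node (nat_lit 1432) (.node (nat_lit 1349) (.leaf (nat_lit 87)) (.leaf (nat_lit 111))) (.node (nat_lit 1506) (.leaf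 (nat_lit 153)) (.node (nat_lit 1528) (.leaf (nat_lit 102)) (.leaf (nat_lit 111))))) (.node (nat_lit 1627) (.node (nat_lit 1604) (.leaf (nat_lit 183)) (.node (nat_lit 1623) (.leaf (nat_lit 1)) (.leaf (nat_lit 147)))) (.node (nat_lit 1645) (.leaf (nat_lit 222)) (.node (nat_lit 1675) (.leaf (nat_lit 111)) (.leaf (nat_lit 87)))))))) (.node (nat_lit 2823) (.node (nat_lit 2405) (.node (nat_lit 1878) (.node (nat_lit 1805) (.node (nat_lit 1728) (.leaf (nat_lit 24)) (.leaf (nat_lit 93))) (.node (nat_lit 1849) (.leaf (nat_lit 87)) (.node (nat_lit 1867) (.leaf (nat_lit 111)) (.leaf (nat_lit 276))))) (.node (nat_lit 2003) (.node (nat_lit 1924) (.leaf (nat_lit 303)) (.leaf (nat_lit 12))) (.node (nat_lit 2164) (.leaf (nat_lit 87)) (.node (nat_lit 2340) (.leaf (nat_lit 301)) (.leaf (nat_lit 261)))))) (.node (nat_lit 2516) (.node (nat_lit 2478) (.node (nat_lit 2459) (.leaf (nat_lit 241)) (.leaf (nat_lit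 222))) (.node (nat_lit 2492) (.leaf (nat_lit 241)) (.node (nat_lit 2512) (.leaf (nat_lit 303)) (.leaf (nat_lit 1))))) (.node (nat_lit 2723) (.node (nat_lit 2585) (.leaf (nat_lit 21)) (.node (nat_lit 2704) (.leaf (nat_lit 18)) (.leaf (nat_lit 252)))) (.node (nat_lit 2785) (.leaf (nat_lit 27)) (.node (nat_lit 2806) (.leaf (nat_lit 1)) (.leaf (nat_lit 24))))))) (.node (nat_lit 3518) (.node (nat_lit 3227) (.node (nat_lit 3012) (.node (nat_lit 2827) (.leaf (nat_lit 102)) (.leaf (nat_lit 1))) (.node (nat_lit 3048) (.leaf (nat_lit 87)) (.node (nat_lit 3073) (.leaf (nat_lit 276)) (.leaf (nat_lit 267))))) (.node (nat_lit 3405) (.node (nat_lit 3319) (.leaf (nat_lit 36)) (.node (nat_lit 3352) (.leaf (nat_lit 121)) (.leaf (nat_lit 111)))) (.node (nat_lit 3441) (.leaf (nat_lit 87)) (.node (nat_lit 3468) (.leaf (nat_lit 24)) (.leaf (nat_lit 261)))))) (.node (nat_lit 3616) (.node (nat_lit 3547) (.node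 (nat_lit 3525) (.leaf (nat_lit 183)) (.leaf (nat_lit 211))) (.node (nat_lit 3599) (.leaf (nat_lit 147)) (.node (nat_lit 3608) (.leaf (nat_lit 0)) (.leaf (nat_lit 222))))) (.node (nat_lit 3843) (.node (nat_lit 3627) (.leaf (nat_lit 261)) (.node (nat_lit 3636) (.leaf (nat_lit 36)) (.leaf (nat_lit 42)))) (.node (nat_lit 3892) (.leaf (nat_lit 183)) (.node (nat_lit 4004) (.leaf (nat_lit 1)) (.leaf (nat_lit 87))))))))) (.node (nat_lit 6175) (.node (nat_lit 4902) (.node (nat_lit 4563) (.node (nat_lit 4288) (.node (nat_lit 4059) (.node (nat_lit 4042) (.leaf (nat_lit 147)) (.leaf (nat_lit 3))) (.node (nat_lit 4086) (.leaf (nat_lit 18)) (.node (nat_lit 4223) (.leaf (nat_lit 63)) (.leaf (nat_lit 87))))) (.node (nat_lit 4319) (.node (nat_lit 4300) (.leaf (nat_lit 151)) (.leaf (nat_lit 303))) (.node (nat_lit 4342) (.leaf (nat_lit 1)) (.node (nat_lit 4560) (.leaf (nat_lit 3)) (.leaf (nat_lit 303))))))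 (.node (nat_lit 4753) (.node (nat_lit 4615) (.node (nat_lit 4565) (.leaf (nat_lit 111)) (.leaf (nat_lit 12))) (.node (nat_lit 4616) (.leaf (nat_lit 36)) (.node (nat_lit 4627) (.leaf (nat_lit 87)) (.leaf (nat_lit 132))))) (.node (nat_lit 4802) (.node (nat_lit 4778) (.leaf (nat_lit 18)) (.node (nat_lit 4782) (.leaf (nat_lit 156)) (.leaf (nat_lit 24)))) (.node (nat_lit 4810) (.leaf (nat_lit 121)) (.node (nat_lit 4816) (.leaf (nat_lit 36)) (.leaf (nat_lit 303))))))) (.node (nat_lit 5712) (.node (nat_lit 5289) (.node (nat_lit 4967) (.node (nat_lit 4940) (.leaf (nat_lit 241)) (.leaf (nat_lit 111))) (.node (nat_lit 4976) (.leaf (nat_lit 312)) (.node (nat_lit 5054) (.leaf (nat_lit 267)) (.leaf (nat_lit 222))))) (.node (nat_lit 5473) (.node (nat_lit 5414) (.leaf (nat_lit 12)) (.node (nat_lit 5427) (.leaf (nat_lit 18)) (.leaf (nat_lit 282)))) (.node (nat_lit 5581) (.leaf (nat_lit 267)) (.node (nat_lit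 5583) (.leaf (nat_lit 150)) (.leaf (nat_lit 21)))))) (.node (nat_lit 5930) (.node (nat_lit 5783) (.node (nat_lit 5767) (.leaf (nat_lit 243)) (.leaf (nat_lit 183))) (.node (nat_lit 5827) (.leaf (nat_lit 21)) (.node (nat_lit 5839) (.leaf (nat_lit 333)) (.leaf (nat_lit 150))))) (.node (nat_lit 6137) (.node (nat_lit 6060) (.leaf (nat_lit 87)) (.node (nat_lit 6073) (.leaf (nat_lit 222)) (.leaf (nat_lit 151)))) (.node (nat_lit 6154) (.leaf (nat_lit 342)) (.node (nat_lit 6163) (.leaf (nat_lit 18)) (.leaf (nat_lit 111)))))))) (.node (nat_lit 7295) (.node (nat_lit 6685) (.node (nat_lit 6344) (.node (nat_lit 6295) (.node (nat_lit 6293) (.leaf (nat_lit 18)) (.leaf (nat_lit 111))) (.node (nat_lit 6323) (.leaf (nat_lit 156)) (.node (nat_lit 6340) (.leaf (nat_lit 87)) (.leaf (nat_lit 267))))) (.node (nat_lit 6555) (.node (nat_lit 6530) (.leaf (nat_lit 12)) (.node (nat_lit 6544) (.leaf (nat_lit 3)) (.leaf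 (nat_lit 1)))) (.node (nat_lit 6597) (.leaf (nat_lit 156)) (.node (nat_lit 6681) (.leaf (nat_lit 1)) (.leaf (nat_lit 63)))))) (.node (nat_lit 7049) (.node (nat_lit 6908) (.node (nat_lit 6827) (.leaf (nat_lit 1)) (.leaf (nat_lit 192))) (.node (nat_lit 6916) (.leaf (nat_lit 3)) (.node (nat_lit 6928) (.leaf (nat_lit 24)) (.leaf (nat_lit 241))))) (.node (nat_lit 7180) (.node (nat_lit 7050) (.leaf (nat_lit 276)) (.node (nat_lit 7095) (.leaf (nat_lit 12)) (.leaf (nat_lit 1)))) (.node (nat_lit 7185) (.leaf (nat_lit 241)) (.node (nat_lit 7208) (.leaf (nat_lit 1)) (.leaf (nat_lit 3))))))) (.node (nat_lit 7660) (.node (nat_lit 7479) (.node (nat_lit 7376) (.node (nat_lit 7371) (.leaf (nat_lit 12)) (.leaf (nat_lit 27))) (.node (nat_lit 7387) (.leaf (nat_lit 267)) (.node (nat_lit 7413) (.leaf (nat_lit 18)) (.leaf (nat_lit 342))))) (.node (nat_lit 7543) (.node (nat_lit 7495) (.leaf (nat_lit 30)) (.node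 (nat_lit 7530) (.leaf (nat_lit 192)) (.leaf (nat_lit 87)))) (.node (nat_lit 7571) (.leaf (nat_lit 156)) (.node (nat_lit 7627) (.leaf (nat_lit 267)) (.leaf (nat_lit 222)))))) (.node (nat_lit 7760) (.node (nat_lit 7678) (.node (nat_lit 7676) (.leaf (nat_lit 87)) (.leaf (nat_lit 123))) (.node (nat_lit 7719) (.leaf (nat_lit 241)) (.node (nat_lit 7723) (.leaf (nat_lit 156)) (.leaf (nat_lit 3))))) (.node (nat_lit 7802) (.node (nat_lit 7768) (.leaf (nat_lit 303)) (.node (nat_lit 7778) (.leaf (nat_lit 211)) (.leaf (nat_lit 121)))) (.node (nat_lit 7867) (.leaf (nat_lit 303)) (.node (nat_lit 7883) (.leaf (nat_lit 342)) (.leaf (nat_lit 12)))))))))) (.node (nat_lit 13002) (.node (nat_lit 9971) (.node (nat_lit 8880) (.node (nat_lit 8497) (.node (nat_lit 8104) (.node (nat_lit 8028) (.node (nat_lit 8023) (.leaf (nat_lit 111)) (.leaf (nat_lit 3))) (.node (nat_lit 8047) (.leaf (nat_lit 18)) (.node (nat_lit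 8053) (.leaf (nat_lit 267)) (.leaf (nat_lit 87))))) (.node (nat_lit 8213) (.node (nat_lit 8211) (.leaf (nat_lit 211)) (.leaf (nat_lit 276))) (.node (nat_lit 8328) (.leaf (nat_lit 12)) (.node (nat_lit 8423) (.leaf (nat_lit 18)) (.leaf (nat_lit 102)))))) (.node (nat_lit 8595) (.node (nat_lit 8533) (.node (nat_lit 8516) (.leaf (nat_lit 151)) (.leaf (nat_lit 27))) (.node (nat_lit 8564) (.leaf (nat_lit 93)) (.node (nat_lit 8584) (.leaf (nat_lit 1)) (.leaf (nat_lit 63))))) (.node (nat_lit 8839) (.node (nat_lit 8635) (.leaf (nat_lit 342)) (.node (nat_lit 8756) (.leaf (nat_lit 12)) (.leaf (nat_lit 24)))) (.node (nat_lit 8860) (.leaf (nat_lit 12)) (.node (nat_lit 8871) (.leaf (nat_lit 183)) (.leaf (nat_lit 87))))))) (.node (nat_lit 9583) (.node (nat_lit 9125) (.node (nat_lit 9035) (.node (nat_lit 8995) (.leaf (nat_lit 222)) (.leaf (nat_lit 342))) (.node (nat_lit 9078) (.leaf (nat_lit 126)) (.node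 (nat_lit 9091) (.leaf (nat_lit 342)) (.leaf (nat_lit 12))))) (.node (nat_lit 9260) (.node (nat_lit 9143) (.leaf (nat_lit 24)) (.node (nat_lit 9217) (.leaf (nat_lit 342)) (.leaf (nat_lit 162)))) (.node (nat_lit 9472) (.leaf (nat_lit 87)) (.node (nat_lit 9536) (.leaf (nat_lit 93)) (.leaf (nat_lit 63)))))) (.node (nat_lit 9683) (.node (nat_lit 9616) (.node (nat_lit 9607) (.leaf (nat_lit 342)) (.leaf (nat_lit 21))) (.node (nat_lit 9632) (.leaf (nat_lit 211)) (.node (nat_lit 9673) (.leaf (nat_lit 21)) (.leaf (nat_lit 151))))) (.node (nat_lit 9829) (.node (nat_lit 9686) (.leaf (nat_lit 12)) (.node (nat_lit 9799) (.leaf (nat_lit 63)) (.leaf (nat_lit 1)))) (.node (nat_lit 9853) (.leaf (nat_lit 241)) (.node (nat_lit 9895) (.leaf (nat_lit 121)) (.leaf (nat_lit 12)))))))) (.node (nat_lit 10864) (.node (nat_lit 10491) (.node (nat_lit 10227) (.node (nat_lit 10016) (.node (nat_lit 9989) (.leaf (nat_lit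 267)) (.leaf (nat_lit 0))) (.node (nat_lit 10033) (.leaf (nat_lit 27)) (.node (nat_lit 10074) (.leaf (nat_lit 63)) (.leaf (nat_lit 252))))) (.node (nat_lit 10435) (.node (nat_lit 10354) (.leaf (nat_lit 24)) (.node (nat_lit 10421) (.leaf (nat_lit 342)) (.leaf (nat_lit 192)))) (.node (nat_lit 10471) (.leaf (nat_lit 24)) (.node (nat_lit 10479) (.leaf (nat_lit 87)) (.leaf (nat_lit 156)))))) (.node (nat_lit 10681) (.node (nat_lit 10567) (.node (nat_lit 10499) (.leaf (nat_lit 276)) (.leaf (nat_lit 102))) (.node (nat_lit 10611) (.leaf (nat_lit 270)) (.node (nat_lit 10620) (.leaf (nat_lit 1)) (.leaf (nat_lit 333))))) (.node (nat_lit 10784) (.node (nat_lit 10716) (.leaf (nat_lit 156)) (.node (nat_lit 10783) (.leaf (nat_lit 261)) (.leaf (nat_lit 222)))) (.node (nat_lit 10787) (.leaf (nat_lit 183)) (.node (nat_lit 10855) (.leaf (nat_lit 132)) (.leaf (nat_lit 213))))))) (.node (nat_lit 12009) (.node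 (nat_lit 11435) (.node (nat_lit 11129) (.node (nat_lit 11120) (.leaf (nat_lit 261)) (.leaf (nat_lit 3))) (.node (nat_lit 11188) (.leaf (nat_lit 241)) (.node (nat_lit 11299) (.leaf (nat_lit 87)) (.leaf (nat_lit 222))))) (.node (nat_lit 11931) (.node (nat_lit 11724) (.leaf (nat_lit 252)) (.node (nat_lit 11869) (.leaf (nat_lit 12)) (.leaf (nat_lit 1)))) (.node (nat_lit 11936) (.leaf (nat_lit 27)) (.node (nat_lit 11967) (.leaf (nat_lit 303)) (.leaf (nat_lit 183)))))) (.node (nat_lit 12155) (.node (nat_lit 12088) (.node (nat_lit 12035) (.leaf (nat_lit 342)) (.leaf (nat_lit 12))) (.node (nat_lit 12100) (.leaf (nat_lit 147)) (.node (nat_lit 12103) (.leaf (nat_lit 301)) (.leaf (nat_lit 1))))) (.node (nat_lit 12314) (.node (nat_lit 12300) (.leaf (nat_lit 24)) (.node (nat_lit 12307) (.leaf (nat_lit 301)) (.leaf (nat_lit 156)))) (.node (nat_lit 12915) (.leaf (nat_lit 3)) (.node (nat_lit 12973) (.leaf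 (nat_lit 18)) (.leaf (nat_lit 87))))))))) (.node (nat_lit 15159) (.node (nat_lit 13871) (.node (nat_lit 13323) (.node (nat_lit 13189) (.node (nat_lit 13071) (.node (nat_lit 13040) (.leaf (nat_lit 18)) (.leaf (nat_lit 132))) (.node (nat_lit 13080) (.leaf (nat_lit 222)) (.node (nat_lit 13102) (.leaf (nat_lit 3)) (.leaf (nat_lit 156))))) (.node (nat_lit 13221) (.node (nat_lit 13207) (.leaf (nat_lit 18)) (.leaf (nat_lit 213))) (.node (nat_lit 13232) (.leaf (nat_lit 12)) (.node (nat_lit 13295) (.leaf (nat_lit 303)) (.leaf (nat_lit 222)))))) (.node (nat_lit 13581) (.node (nat_lit 13378) (.node (nat_lit 13327) (.leaf (nat_lit 18)) (.leaf (nat_lit 156))) (.node (nat_lit 13526) (.leaf (nat_lit 222)) (.node (nat_lit 13531) (.leaf (nat_lit 121)) (.leaf (nat_lit 27))))) (.node (nat_lit 13719) (.node (nat_lit 13632) (.leaf (nat_lit 303)) (.node (nat_lit 13666) (.leaf (nat_lit 301)) (.leaf (nat_lit 156))))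 (.node (nat_lit 13757) (.leaf (nat_lit 1)) (.node (nat_lit 13772) (.leaf (nat_lit 156)) (.leaf (nat_lit 93))))))) (.node (nat_lit 14251) (.node (nat_lit 13988) (.node (nat_lit 13936) (.node (nat_lit 13887) (.leaf (nat_lit 102)) (.leaf (nat_lit 63))) (.node (nat_lit 13964) (.leaf (nat_lit 303)) (.node (nat_lit 13972) (.leaf (nat_lit 1)) (.leaf (nat_lit 276))))) (.node (nat_lit 14176) (.node (nat_lit 14052) (.leaf (nat_lit 147)) (.node (nat_lit 14156) (.leaf (nat_lit 273)) (.leaf (nat_lit 303)))) (.node (nat_lit 14180) (.leaf (nat_lit 1)) (.node (nat_lit 14187) (.leaf (nat_lit 27)) (.leaf (nat_lit 63)))))) (.node (nat_lit 14788) (.node (nat_lit 14381) (.node (nat_lit 14276) (.leaf (nat_lit 132)) (.leaf (nat_lit 252))) (.node (nat_lit 14478) (.leaf (nat_lit 93)) (.node (nat_lit 14546) (.leaf (nat_lit 102)) (.leaf (nat_lit 132))))) (.node (nat_lit 14991) (.node (nat_lit 14808) (.leaf (nat_lit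 303)) (.node (nat_lit 14987) (.leaf (nat_lit 342)) (.leaf (nat_lit 36)))) (.node (nat_lit 15053) (.leaf (nat_lit 1)) (.node (nat_lit 15134) (.leaf (nat_lit 121)) (.leaf (nat_lit 63)))))))) (.node (nat_lit 16642) (.node (nat_lit 15947) (.node (nat_lit 15643) (.node (nat_lit 15567) (.node (nat_lit 15531) (.leaf (nat_lit 12)) (.leaf (nat_lit 156))) (.node (nat_lit 15601) (.leaf (nat_lit 192)) (.node (nat_lit 15632) (.leaf (nat_lit 121)) (.leaf (nat_lit 1))))) (.node (nat_lit 15907) (.node (nat_lit 15780) (.leaf (nat_lit 12)) (.node (nat_lit 15892) (.leaf (nat_lit 27)) (.leaf (nat_lit 246)))) (.node (nat_lit 15912) (.leaf (nat_lit 12)) (.node (nat_lit 15922) (.leaf (nat_lit 147)) (.leaf (nat_lit 121)))))) (.node (nat_lit 16245) (.node (nat_lit 16143) (.node (nat_lit 16064) (.leaf (nat_lit 102)) (.leaf (nat_lit 147))) (.node (nat_lit 16147) (.leaf (nat_lit 1)) (.node (nat_lit 16237) (.leaf (nat_lit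 222)) (.leaf (nat_lit 111))))) (.node (nat_lit 16392) (.node (nat_lit 16327) (.leaf (nat_lit 12)) (.node (nat_lit 16391) (.leaf (nat_lit 301)) (.leaf (nat_lit 211)))) (.node (nat_lit 16426) (.leaf (nat_lit 183)) (.node (nat_lit 16478) (.leaf (nat_lit 156)) (.leaf (nat_lit 3))))))) (.node (nat_lit 17424) (.node (nat_lit 16940) (.node (nat_lit 16861) (.node (nat_lit 16713) (.leaf (nat_lit 24)) (.leaf (nat_lit 102))) (.node (nat_lit 16890) (.leaf (nat_lit 342)) (.node (nat_lit 16936) (.leaf (nat_lit 156)) (.leaf (nat_lit 27))))) (.node (nat_lit 17181) (.node (nat_lit 17098) (.leaf (nat_lit 12)) (.node (nat_lit 17124) (.leaf (nat_lit 303)) (.leaf (nat_lit 111)))) (.node (nat_lit 17193) (.leaf (nat_lit 63)) (.node (nat_lit 17363) (.leaf (nat_lit 192)) (.leaf (nat_lit 312)))))) (.node (nat_lit 17988) (.node (nat_lit 17729) (.node (nat_lit 17540) (.leaf (nat_lit 303)) (.leaf (nat_lit 151))) (.node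 (nat_lit 17852) (.leaf (nat_lit 63)) (.node (nat_lit 17949) (.leaf (nat_lit 121)) (.leaf (nat_lit 6))))) (.node (nat_lit 18328) (.node (nat_lit 18055) (.leaf (nat_lit 147)) (.node (nat_lit 18140) (.leaf (nat_lit 213)) (.leaf (nat_lit 27)))) (.node (nat_lit 18335) (.leaf (nat_lit 222)) (.node (nat_lit 18336) (.leaf (nat_lit 111)) (.leaf (nat_lit 141)))))))))))
noncomputable def A6_soc_t1 : ST := (.node (nat_lit 5356) (.node (nat_lit 2478) (.node (nat_lit 1201) (.node (nat_lit 618) (.node (nat_lit 233) (.node (nat_lit 81) (.node (nat_lit 52) (.node (nat_lit 41) (.leaf (nat_lit 6)) (.leaf (nat_lit 150))) (.node (nat_lit 72) (.leaf (nat_lit 120)) (.leaf (nat_lit 270)))) (.node (nat_lit 135) (.node (nat_lit 129) (.leaf (nat_lit 150)) (.leaf (nat_lit 0))) (.node (nat_lit 174) (.leaf (nat_lit 126)) (.node (nat_lit 216) (.leaf (nat_lit 0)) (.leaf (nat_lit 270)))))) (.node (nat_lit 480) (.node (nat_lit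 340) (.node (nat_lit 234) (.leaf (nat_lit 30)) (.leaf (nat_lit 0))) (.node (nat_lit 368) (.leaf (nat_lit 30)) (.node (nat_lit 479) (.leaf (nat_lit 6)) (.leaf (nat_lit 180))))) (.node (nat_lit 522) (.node (nat_lit 513) (.leaf (nat_lit 30)) (.leaf (nat_lit 90))) (.node (nat_lit 528) (.leaf (nat_lit 0)) (.node (nat_lit 570) (.leaf (nat_lit 270)) (.leaf (nat_lit 150))))))) (.node (nat_lit 1053) (.node (nat_lit 765) (.node (nat_lit 655) (.node (nat_lit 619) (.leaf (nat_lit 30)) (.leaf (nat_lit 0))) (.node (nat_lit 695) (.leaf (nat_lit 30)) (.leaf (nat_lit 150)))) (.node (nat_lit 920) (.node (nat_lit 914) (.leaf (nat_lit 0)) (.leaf (nat_lit 300))) (.node (nat_lit 931) (.leaf (nat_lit 210)) (.node (nat_lit 1008) (.leaf (nat_lit 330)) (.leaf (nat_lit 301)))))) (.node (nat_lit 1110) (.node (nat_lit 1073) (.node (nat_lit 1054) (.leaf (nat_lit 150)) (.leaf (nat_lit 0))) (.node (nat_lit 1076) (.leaf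 (nat_lit 120)) (.node (nat_lit 1095) (.leaf (nat_lit 270)) (.leaf (nat_lit 30))))) (.node (nat_lit 1113) (.node (nat_lit 1111) (.leaf (nat_lit 120)) (.leaf (nat_lit 0))) (.node (nat_lit 1152) (.leaf (nat_lit 150)) (.node (nat_lit 1181) (.leaf (nat_lit 30)) (.leaf (nat_lit 270)))))))) (.node (nat_lit 1801) (.node (nat_lit 1474) (.node (nat_lit 1324) (.node (nat_lit 1254) (.node (nat_lit 1205) (.leaf (nat_lit 120)) (.leaf (nat_lit 6))) (.node (nat_lit 1307) (.leaf (nat_lit 111)) (.leaf (nat_lit 270)))) (.node (nat_lit 1438) (.node (nat_lit 1404) (.leaf (nat_lit 0)) (.leaf (nat_lit 120))) (.node (nat_lit 1439) (.leaf (nat_lit 300)) (.node (nat_lit 1468) (.leaf (nat_lit 30)) (.leaf (nat_lit 180)))))) (.node (nat_lit 1650) (.node (nat_lit 1503) (.node (nat_lit 1480) (.leaf (nat_lit 30)) (.leaf (nat_lit 0))) (.node (nat_lit 1600) (.leaf (nat_lit 60)) (.node (nat_lit 1613) (.leaf (nat_lit 6)) (.leaf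 (nat_lit 180))))) (.node (nat_lit 1714) (.node (nat_lit 1699) (.leaf (nat_lit 0)) (.leaf (nat_lit 30))) (.node (nat_lit 1740) (.leaf (nat_lit 180)) (.node (nat_lit 1784) (.leaf (nat_lit 270)) (.leaf (nat_lit 181))))))) (.node (nat_lit 2005) (.node (nat_lit 1853) (.node (nat_lit 1841) (.node (nat_lit 1833) (.leaf (nat_lit 270)) (.leaf (nat_lit 150))) (.node (nat_lit 1843) (.leaf (nat_lit 300)) (.leaf (nat_lit 270)))) (.node (nat_lit 1976) (.node (nat_lit 1935) (.leaf (nat_lit 6)) (.leaf (nat_lit 120))) (.node (nat_lit 1995) (.leaf (nat_lit 0)) (.node (nat_lit 2000) (.leaf (nat_lit 150)) (.leaf (nat_lit 30)))))) (.node (nat_lit 2196) (.node (nat_lit 2054) (.node (nat_lit 2035) (.leaf (nat_lit 120)) (.leaf (nat_lit 30))) (.node (nat_lit 2063) (.leaf (nat_lit 120)) (.node (nat_lit 2142) (.leaf (nat_lit 30)) (.leaf (nat_lit 270))))) (.node (nat_lit 2331) (.node (nat_lit 2322) (.leaf (nat_lit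 210)) (.leaf (nat_lit 0))) (.node (nat_lit 2427) (.leaf (nat_lit 30)) (.node (nat_lit 2440) (.leaf (nat_lit 150)) (.leaf (nat_lit 120))))))))) (.node (nat_lit 3811) (.node (nat_lit 3306) (.node (nat_lit 2816) (.node (nat_lit 2634) (.node (nat_lit 2617) (.node (nat_lit 2510) (.leaf (nat_lit 0)) (.leaf (nat_lit 120))) (.node (nat_lit 2632) (.leaf (nat_lit 210)) (.leaf (nat_lit 180)))) (.node (nat_lit 2739) (.node (nat_lit 2691) (.leaf (nat_lit 60)) (.leaf (nat_lit 270))) (.node (nat_lit 2740) (.leaf (nat_lit 30)) (.node (nat_lit 2778) (.leaf (nat_lit 300)) (.leaf (nat_lit 150)))))) (.node (nat_lit 3114) (.node (nat_lit 3007) (.node (nat_lit 2862) (.leaf (nat_lit 151)) (.leaf (nat_lit 30))) (.node (nat_lit 3075) (.leaf (nat_lit 240)) (.node (nat_lit 3077) (.leaf (nat_lit 30)) (.leaf (nat_lit 240))))) (.node (nat_lit 3217) (.node (nat_lit 3126) (.leaf (nat_lit 270)) (.leaf (nat_lit 240))) (.node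 (nat_lit 3254) (.leaf (nat_lit 150)) (.node (nat_lit 3271) (.leaf (nat_lit 0)) (.leaf (nat_lit 126))))))) (.node (nat_lit 3540) (.node (nat_lit 3413) (.node (nat_lit 3360) (.node (nat_lit 3352) (.leaf (nat_lit 30)) (.leaf (nat_lit 180))) (.node (nat_lit 3411) (.leaf (nat_lit 120)) (.leaf (nat_lit 180)))) (.node (nat_lit 3462) (.node (nat_lit 3448) (.leaf (nat_lit 30)) (.leaf (nat_lit 150))) (.node (nat_lit 3465) (.leaf (nat_lit 30)) (.node (nat_lit 3516) (.leaf (nat_lit 120)) (.leaf (nat_lit 270)))))) (.node (nat_lit 3644) (.node (nat_lit 3580) (.node (nat_lit 3567) (.leaf (nat_lit 120)) (.leaf (nat_lit 210))) (.node (nat_lit 3593) (.leaf (nat_lit 270)) (.node (nat_lit 3610) (.leaf (nat_lit 6)) (.leaf (nat_lit 120))))) (.node (nat_lit 3672) (.node (nat_lit 3659) (.leaf (nat_lit 300)) (.leaf (nat_lit 120))) (.node (nat_lit 3737) (.leaf (nat_lit 150)) (.node (nat_lit 3776) (.leaf (nat_lit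 120)) (.leaf (nat_lit 150)))))))) (.node (nat_lit 4477) (.node (nat_lit 4083) (.node (nat_lit 3889) (.node (nat_lit 3852) (.node (nat_lit 3814) (.leaf (nat_lit 30)) (.leaf (nat_lit 120))) (.node (nat_lit 3869) (.leaf (nat_lit 180)) (.leaf (nat_lit 150)))) (.node (nat_lit 4002) (.node (nat_lit 3980) (.leaf (nat_lit 30)) (.leaf (nat_lit 150))) (.node (nat_lit 4044) (.leaf (nat_lit 30)) (.node (nat_lit 4048) (.leaf (nat_lit 90)) (.leaf (nat_lit 270)))))) (.node (nat_lit 4196) (.node (nat_lit 4104) (.node (nat_lit 4098) (.leaf (nat_lit 156)) (.leaf (nat_lit 120))) (.node (nat_lit 4139) (.leaf (nat_lit 246)) (.node (nat_lit 4141) (.leaf (nat_lit 30)) (.leaf (nat_lit 330))))) (.node (nat_lit 4335) (.node (nat_lit 4256) (.leaf (nat_lit 0)) (.leaf (nat_lit 120))) (.node (nat_lit 4336) (.leaf (nat_lit 150)) (.node (nat_lit 4375) (.leaf (nat_lit 0)) (.leaf (nat_lit 120))))))) (.node (nat_lit 4989)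 (.node (nat_lit 4671) (.node (nat_lit 4595) (.node (nat_lit 4561) (.leaf (nat_lit 270)) (.leaf (nat_lit 120))) (.node (nat_lit 4596) (.leaf (nat_lit 150)) (.node (nat_lit 4631) (.leaf (nat_lit 151)) (.leaf (nat_lit 0))))) (.node (nat_lit 4770) (.node (nat_lit 4680) (.leaf (nat_lit 120)) (.leaf (nat_lit 0))) (.node (nat_lit 4776) (.leaf (nat_lit 30)) (.node (nat_lit 4881) (.leaf (nat_lit 120)) (.leaf (nat_lit 180)))))) (.node (nat_lit 5150) (.node (nat_lit 5075) (.node (nat_lit 5016) (.leaf (nat_lit 6)) (.leaf (nat_lit 120))) (.node (nat_lit 5112) (.leaf (nat_lit 30)) (.node (nat_lit 5145) (.leaf (nat_lit 0)) (.leaf (nat_lit 150))))) (.node (nat_lit 5215) (.node (nat_lit 5198) (.leaf (nat_lit 120)) (.leaf (nat_lit 0))) (.node (nat_lit 5227) (.leaf (nat_lit 6)) (.node (nat_lit 5341) (.leaf (nat_lit 120)) (.leaf (nat_lit 180)))))))))) (.node (nat_lit 7623) (.node (nat_lit 6293) (.node (nat_lit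 5773) (.node (nat_lit 5612) (.node (nat_lit 5448) (.node (nat_lit 5405) (.node (nat_lit 5376) (.leaf (nat_lit 120)) (.leaf (nat_lit 270))) (.node (nat_lit 5411) (.leaf (nat_lit 120)) (.leaf (nat_lit 180)))) (.node (nat_lit 5553) (.node (nat_lit 5513) (.leaf (nat_lit 120)) (.leaf (nat_lit 0))) (.node (nat_lit 5566) (.leaf (nat_lit 120)) (.node (nat_lit 5590) (.leaf (nat_lit 30)) (.leaf (nat_lit 0)))))) (.node (nat_lit 5709) (.node (nat_lit 5663) (.node (nat_lit 5614) (.leaf (nat_lit 120)) (.leaf (nat_lit 30))) (.node (nat_lit 5695) (.leaf (nat_lit 60)) (.node (nat_lit 5705) (.leaf (nat_lit 120)) (.leaf (nat_lit 156))))) (.node (nat_lit 5727) (.node (nat_lit 5710) (.leaf (nat_lit 150)) (.leaf (nat_lit 120))) (.node (nat_lit 5744) (.leaf (nat_lit 30)) (.node (nat_lit 5761) (.leaf (nat_lit 150)) (.leaf (nat_lit 30))))))) (.node (nat_lit 5972) (.node (nat_lit 5901) (.node (nat_lit 5811) (.node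 (nat_lit 5797) (.leaf (nat_lit 6)) (.leaf (nat_lit 30))) (.node (nat_lit 5850) (.leaf (nat_lit 150)) (.leaf (nat_lit 120)))) (.node (nat_lit 5930) (.node (nat_lit 5920) (.leaf (nat_lit 150)) (.leaf (nat_lit 30))) (.node (nat_lit 5939) (.leaf (nat_lit 180)) (.node (nat_lit 5940) (.leaf (nat_lit 90)) (.leaf (nat_lit 126)))))) (.node (nat_lit 6080) (.node (nat_lit 6031) (.node (nat_lit 6007) (.leaf (nat_lit 300)) (.leaf (nat_lit 150))) (.node (nat_lit 6072) (.leaf (nat_lit 0)) (.node (nat_lit 6074) (.leaf (nat_lit 151)) (.leaf (nat_lit 150))))) (.node (nat_lit 6114) (.node (nat_lit 6102) (.leaf (nat_lit 0)) (.leaf (nat_lit 120))) (.node (nat_lit 6186) (.leaf (nat_lit 270)) (.node (nat_lit 6266) (.leaf (nat_lit 120)) (.leaf (nat_lit 30)))))))) (.node (nat_lit 6882) (.node (nat_lit 6447) (.node (nat_lit 6335) (.node (nat_lit 6298) (.node (nat_lit 6294) (.leaf (nat_lit 126)) (.leaf (nat_lit 150)))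 (.node (nat_lit 6315) (.leaf (nat_lit 120)) (.leaf (nat_lit 30)))) (.node (nat_lit 6357) (.node (nat_lit 6347) (.leaf (nat_lit 150)) (.leaf (nat_lit 120))) (.node (nat_lit 6394) (.leaf (nat_lit 30)) (.node (nat_lit 6396) (.leaf (nat_lit 270)) (.leaf (nat_lit 120)))))) (.node (nat_lit 6715) (.node (nat_lit 6536) (.node (nat_lit 6490) (.leaf (nat_lit 60)) (.leaf (nat_lit 31))) (.node (nat_lit 6555) (.leaf (nat_lit 120)) (.node (nat_lit 6639) (.leaf (nat_lit 30)) (.leaf (nat_lit 246))))) (.node (nat_lit 6734) (.node (nat_lit 6716) (.leaf (nat_lit 30)) (.leaf (nat_lit 180))) (.node (nat_lit 6792) (.leaf (nat_lit 0)) (.node (nat_lit 6849) (.leaf (nat_lit 270)) (.leaf (nat_lit 30))))))) (.node (nat_lit 7250) (.node (nat_lit 6959) (.node (nat_lit 6897) (.node (nat_lit 6891) (.leaf (nat_lit 270)) (.leaf (nat_lit 30))) (.node (nat_lit 6910) (.leaf (nat_lit 150)) (.node (nat_lit 6931) (.leaf (nat_lit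 6)) (.leaf (nat_lit 180))))) (.node (nat_lit 7171) (.node (nat_lit 7131) (.leaf (nat_lit 150)) (.leaf (nat_lit 6))) (.node (nat_lit 7177) (.leaf (nat_lit 180)) (.node (nat_lit 7180) (.leaf (nat_lit 30)) (.leaf (nat_lit 111)))))) (.node (nat_lit 7416) (.node (nat_lit 7351) (.node (nat_lit 7275) (.leaf (nat_lit 0)) (.leaf (nat_lit 30))) (.node (nat_lit 7395) (.leaf (nat_lit 6)) (.node (nat_lit 7415) (.leaf (nat_lit 120)) (.leaf (nat_lit 270))))) (.node (nat_lit 7484) (.node (nat_lit 7441) (.leaf (nat_lit 30)) (.leaf (nat_lit 120))) (.node (nat_lit 7518) (.leaf (nat_lit 150)) (.node (nat_lit 7526) (.leaf (nat_lit 120)) (.leaf (nat_lit 150))))))))) (.node (nat_lit 9056) (.node (nat_lit 8133) (.node (nat_lit 7912) (.node (nat_lit 7833) (.node (nat_lit 7741) (.node (nat_lit 7699) (.leaf (nat_lit 120)) (.leaf (nat_lit 300))) (.node (nat_lit 7751) (.leaf (nat_lit 30)) (.leaf (nat_lit 0)))) (.node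 (nat_lit 7869) (.node (nat_lit 7834) (.leaf (nat_lit 240)) (.leaf (nat_lit 246))) (.node (nat_lit 7903) (.leaf (nat_lit 150)) (.node (nat_lit 7911) (.leaf (nat_lit 240)) (.leaf (nat_lit 150)))))) (.node (nat_lit 8013) (.node (nat_lit 7952) (.node (nat_lit 7920) (.leaf (nat_lit 0)) (.leaf (nat_lit 126))) (.node (nat_lit 7962) (.leaf (nat_lit 240)) (.node (nat_lit 7971) (.leaf (nat_lit 270)) (.leaf (nat_lit 30))))) (.node (nat_lit 8044) (.node (nat_lit 8030) (.leaf (nat_lit 210)) (.leaf (nat_lit 120))) (.node (nat_lit 8095) (.leaf (nat_lit 6)) (.node (nat_lit 8114) (.leaf (nat_lit 150)) (.leaf (nat_lit 120))))))) (.node (nat_lit 8696) (.node (nat_lit 8275) (.node (nat_lit 8172) (.node (nat_lit 8146) (.leaf (nat_lit 180)) (.leaf (nat_lit 150))) (.node (nat_lit 8273) (.leaf (nat_lit 0)) (.leaf (nat_lit 150)))) (.node (nat_lit 8417) (.node (nat_lit 8371) (.leaf (nat_lit 120)) (.leaf (nat_lit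 270))) (.node (nat_lit 8658) (.leaf (nat_lit 120)) (.node (nat_lit 8693) (.leaf (nat_lit 180)) (.leaf (nat_lit 0)))))) (.node (nat_lit 8872) (.node (nat_lit 8745) (.node (nat_lit 8697) (.leaf (nat_lit 150)) (.leaf (nat_lit 30))) (.node (nat_lit 8815) (.leaf (nat_lit 0)) (.node (nat_lit 8853) (.leaf (nat_lit 270)) (.leaf (nat_lit 30))))) (.node (nat_lit 8933) (.node (nat_lit 8889) (.leaf (nat_lit 0)) (.leaf (nat_lit 180))) (.node (nat_lit 9051) (.leaf (nat_lit 240)) (.node (nat_lit 9052) (.leaf (nat_lit 120)) (.leaf (nat_lit 240)))))))) (.node (nat_lit 9729) (.node (nat_lit 9508) (.node (nat_lit 9296) (.node (nat_lit 9147) (.node (nat_lit 9135) (.leaf (nat_lit 30)) (.leaf (nat_lit 120))) (.node (nat_lit 9184) (.leaf (nat_lit 270)) (.leaf (nat_lit 30)))) (.node (nat_lit 9438) (.node (nat_lit 9401) (.leaf (nat_lit 120)) (.leaf (nat_lit 180))) (.node (nat_lit 9469) (.leaf (nat_lit 270)) (.node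 (nat_lit 9492) (.leaf (nat_lit 0)) (.leaf (nat_lit 270)))))) (.node (nat_lit 9647) (.node (nat_lit 9530) (.node (nat_lit 9520) (.leaf (nat_lit 30)) (.leaf (nat_lit 120))) (.node (nat_lit 9611) (.leaf (nat_lit 150)) (.node (nat_lit 9635) (.leaf (nat_lit 120)) (.leaf (nat_lit 60))))) (.node (nat_lit 9672) (.node (nat_lit 9659) (.leaf (nat_lit 300)) (.leaf (nat_lit 120))) (.node (nat_lit 9681) (.leaf (nat_lit 0)) (.node (nat_lit 9712) (.leaf (nat_lit 300)) (.leaf (nat_lit 270))))))) (.node (nat_lit 10075) (.node (nat_lit 9885) (.node (nat_lit 9814) (.node (nat_lit 9787) (.leaf (nat_lit 120)) (.leaf (nat_lit 270))) (.node (nat_lit 9836) (.leaf (nat_lit 120)) (.node (nat_lit 9884) (.leaf (nat_lit 150)) (.leaf (nat_lit 30))))) (.node (nat_lit 9997) (.node (nat_lit 9975) (.leaf (nat_lit 270)) (.leaf (nat_lit 150))) (.node (nat_lit 9998) (.leaf (nat_lit 30)) (.node (nat_lit 10003) (.leaf (nat_lit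 150)) (.leaf (nat_lit 120)))))) (.node (nat_lit 10199) (.node (nat_lit 10094) (.node (nat_lit 10081) (.leaf (nat_lit 30)) (.leaf (nat_lit 180))) (.node (nat_lit 10109) (.leaf (nat_lit 120)) (.node (nat_lit 10182) (.leaf (nat_lit 60)) (.leaf (nat_lit 120))))) (.node (nat_lit 10263) (.node (nat_lit 10231) (.leaf (nat_lit 270)) (.leaf (nat_lit 120))) (.node (nat_lit 10301) (.leaf (nat_lit 270)) (.node (nat_lit 10333) (.leaf (nat_lit 120)) (.leaf (nat_lit 30)))))))))))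
noncomputable def A6_soc_F : Fm := (.all A6_L (.or (.qf (.eq (.v (nat_lit 0)) .one)) (.exF A6_L (fun cs => A6_soc_t1.find (Nat.mod (nth (nat_lit 0) cs (nat_lit 0)) (nat_lit 10338))) (.exF A6_L (fun cs => A6_soc_t0.find (Nat.mod (Nat.add (nth (nat_lit 0) cs (nat_lit 0)) (Nat.mul (nat_lit 7919) (nth (nat_lit 0) cs (nat_lit 1)))) (nat_lit 18420))) (.qf (.or (.eq (.mul (.mul (.v (nat_lit 0)) (.v (nat_lit 2))) (.inv (.v (nat_lit 0)))) (.v (nat_lit 3))) (.or (.eq (.mul (.mul (.v (nat_lit 0)) (.v (nat_lit 2))) (.inv (.v (nat_lit 0)))) (.v (nat_lit 3))) (.or (.eq (.mul (.mul (.v (nat_lit 0)) (.mul (.mul (.mul (.v (nat_lit 2)) (.v (nat_lit 1))) (.inv (.v (nat_lit 2)))) (.inv (.v (nat_lit 1))))) (.inv (.v (nat_lit 0)))) (.v (nat_lit 3))) (.or (.eq (.mul (.mul (.v (nat_lit 0)) (.mul (.mul (.mul (.v (nat_lit 2)) (.v (nat_lit 1))) (.inv (.v (nat_lit 2)))) (.inv (.v (nat_lit 1))))) (.inv (.v (nat_lit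 0)))) (.v (nat_lit 3))) (.or (.eq (.mul (.mul (.mul (.mul (.mul (.mul (.v (nat_lit 2)) (.v (nat_lit 1))) (.inv (.v (nat_lit 2)))) (.inv (.v (nat_lit 1)))) (.v (nat_lit 0))) (.inv (.mul (.mul (.mul (.v (nat_lit 2)) (.v (nat_lit 1))) (.inv (.v (nat_lit 2)))) (.inv (.v (nat_lit 1)))))) (.inv (.v (nat_lit 0)))) (.v (nat_lit 3))) (.eq (.mul (.mul (.mul (.mul (.mul (.mul (.v (nat_lit 2)) (.v (nat_lit 1))) (.inv (.v (nat_lit 2)))) (.inv (.v (nat_lit 1)))) (.v (nat_lit 0))) (.inv (.mul (.mul (.mul (.v (nat_lit 2)) (.v (nat_lit 1))) (.inv (.v (nat_lit 2)))) (.inv (.v (nat_lit 1)))))) (.inv (.v (nat_lit 0)))) (.v (nat_lit 3)))))))))))))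
theorem A6_soc_chk : Fm.chk A6_o A6_soc_F A6_cs = true := by decide +kernel
theorem A6_soc {G : Type*} [Group G] {R : ℕ → G → Prop} {p p_i q q_i v v_i w w_i : G} {H : Subgroup G}
    (M : Mdl A6_o A6_cs A6_L R [p, p_i, q, q_i, v, v_i, w, w_i] H) :
    ∀ y_ ∈ H, y_ = 1 ∨ (∃ q_ ∈ H, ∃ k_ ∈ H, k_ * y_ * k_⁻¹ = p ∨ k_ * y_ * k_⁻¹ = p ∨ k_ * ⁅y_, q_⁆ * k_⁻¹ = p ∨ k_ * ⁅y_, q_⁆ * k_⁻¹ = p ∨ ⁅⁅y_, q_⁆, k_⁆ = p ∨ ⁅⁅y_, q_⁆, k_⁆ = p) :=
  have h : ∀ y_, InL A6_o R A6_L y_ → y_ = 1 ∨ (Good A6_o R A6_L → prods A6_o A6_L A6_o.one ≠ [] → ∃ q_, InL A6_o R A6_L q_ ∧ (Good A6_o R A6_L → prods A6_o A6_L A6_o.one ≠ [] → ∃ k_, InL A6_o R A6_L k_ ∧ (k_ * y_ * k_⁻¹ = p ∨ k_ * y_ * k_⁻¹ = p ∨ k_ * ⁅y_, q_⁆ * k_⁻¹ = p ∨ k_ * ⁅y_, q_⁆ * k_⁻¹ = p ∨ ⁅⁅y_, q_⁆, k_⁆ = p ∨ ⁅⁅y_, q_⁆, k_⁆ = p))) :=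
    Fm.sound M.μ A6_soc_F A6_soc_chk M.reps
  (fun y_ h0 => (Or.imp (fun h1 => h1) (fun h1 => (Exists.imp (fun q_ h2 => ⟨M.H.iff.1 h2.1, (Exists.imp (fun k_ h3 => ⟨M.H.iff.1 h3.1, h3.2⟩) (h2.2 M.H.good M.H.ne))⟩) (h1 M.H.good M.H.ne))) (h y_ (M.H.iff.2 h0))))
theorem A6_mdl {G : Type*} [Group G] {p q v w : G}
    (h : A6r p q v w)
    (n1 : p ≠ 1) :
    ∃ R, Mdl A6_o A6_cs A6_L R [p, p⁻¹, q, q⁻¹, v, v⁻¹, w, w⁻¹] (sp [p, p⁻¹, q, q⁻¹, v, v⁻¹, w, w⁻¹]) ∧ #(sp [p, p⁻¹, q, q⁻¹, v, v⁻¹, w, w⁻¹]) = 360 :=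
  mdl_of A6_P rfl (A6_r h) (.v (nat_lit 0)) (.v (nat_lit 0)) n1 n1
    fun _ ms _ M hl => match ms, M, (hl : ms.length = 8) with
      | [_, _, _, _, _, _, _, _], M, _ => A6_soc M
noncomputable def MA_cs : List ℕ := [(nat_lit 181777), (nat_lit 181826), (nat_lit 180377), (nat_lit 180867), (nat_lit 165537), (nat_lit 169604), (nat_lit 18089), (nat_lit 50821), (nat_lit 181777), (nat_lit 120968), (nat_lit 66403), (nat_lit 83777), (nat_lit 99114), (nat_lit 176800)]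
theorem MA_ext {G : Type*} [Group G] {R : ℕ → G → Prop} {p q v w : G} {H : Subgroup G}
    (M : Mdl A6_o A6_cs A6_L R [p, p⁻¹, q, q⁻¹, v, v⁻¹, w, w⁻¹] H) :
    ∃ a b i s x y : G, Mdl A6_o MA_cs A6_L R [p, p⁻¹, q, q⁻¹, v, v⁻¹, w, w⁻¹, a, b, i, s, x, y] H :=
  ⟨Tm.sem [p, p⁻¹, q, q⁻¹, v, v⁻¹, w, w⁻¹] (.v (nat_lit 0)), Tm.sem [p, p⁻¹, q, q⁻¹, v, v⁻¹, w, w⁻¹] (.mul (.mul (.mul (.v (nat_lit 3)) (.v (nat_lit 6))) (.v (nat_lit 5))) (.v (nat_lit 2))), Tm.sem [p, p⁻¹, q, q⁻¹, v, v⁻¹, w, w⁻¹] (.mul (.mul (.mul (.mul (.v (nat_lit 4)) (.v (nat_lit 1))) (.v (nat_lit 6))) (.v (nat_lit 2))) (.v (nat_lit 0))), Tm.sem [p, p⁻¹, q, q⁻¹, v, v⁻¹, w, w⁻¹] (.mul (.mul (.v (nat_lit 0)) (.v (nat_lit 7))) (.v (nat_lit 0))), Tm.sem [p, p⁻¹, q, q⁻¹, v, v⁻¹, w, w⁻¹] (.mul (.mul (.mul (.v (nat_lit 3)) (.v (nat_lit 6))) (.v (nat_lit 4))) (.v (nat_lit 1))), Tm.sem [p, p⁻¹, q, q⁻¹, v, v⁻¹, w, w⁻¹] (.mul (.v (nat_lit 3))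 (.v (nat_lit 4))), M.μ, M.reps.tms M.μ.1 [(.v (nat_lit 0)), (.v (nat_lit 1)), (.v (nat_lit 2)), (.v (nat_lit 3)), (.v (nat_lit 4)), (.v (nat_lit 5)), (.v (nat_lit 6)), (.v (nat_lit 7)), (.v (nat_lit 0)), (.mul (.mul (.mul (.v (nat_lit 3)) (.v (nat_lit 6))) (.v (nat_lit 5))) (.v (nat_lit 2))), (.mul (.mul (.mul (.mul (.v (nat_lit 4)) (.v (nat_lit 1))) (.v (nat_lit 6))) (.v (nat_lit 2))) (.v (nat_lit 0))), (.mul (.mul (.v (nat_lit 0)) (.v (nat_lit 7))) (.v (nat_lit 0))), (.mul (.mul (.mul (.v (nat_lit 3)) (.v (nat_lit 6))) (.v (nat_lit 4))) (.v (nat_lit 1))), (.mul (.v (nat_lit 3)) (.v (nat_lit 4)))] (cs' := MA_cs) (by decide +kernel),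
    tms_mem M.le [(.v (nat_lit 0)), (.v (nat_lit 1)), (.v (nat_lit 2)), (.v (nat_lit 3)), (.v (nat_lit 4)), (.v (nat_lit 5)), (.v (nat_lit 6)), (.v (nat_lit 7)), (.v (nat_lit 0)), (.mul (.mul (.mul (.v (nat_lit 3)) (.v (nat_lit 6))) (.v (nat_lit 5))) (.v (nat_lit 2))), (.mul (.mul (.mul (.mul (.v (nat_lit 4)) (.v (nat_lit 1))) (.v (nat_lit 6))) (.v (nat_lit 2))) (.v (nat_lit 0))), (.mul (.mul (.v (nat_lit 0)) (.v (nat_lit 7))) (.v (nat_lit 0))), (.mul (.mul (.mul (.v (nat_lit 3)) (.v (nat_lit 6))) (.v (nat_lit 4))) (.v (nat_lit 1))), (.mul (.v (nat_lit 3)) (.v (nat_lit 4)))], M.H⟩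
noncomputable def MA_lP : List ℕ := [(nat_lit 181896), (nat_lit 181777), (nat_lit 120968), (nat_lit 181826), (nat_lit 120849), (nat_lit 146056), (nat_lit 120898), (nat_lit 145937), (nat_lit 145986)]
noncomputable def MA_lP_W : List (List ℕ) := [[],
  [(nat_lit 0)],
  [(nat_lit 1)],
  [(nat_lit 0), (nat_lit 0)],
  [(nat_lit 0), (nat_lit 1)],
  [(nat_lit 1), (nat_lit 1)],
  [(nat_lit 0), (nat_lit 0), (nat_lit 1)],
  [(nat_lit 0), (nat_lit 1), (nat_lit 1)],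
  [(nat_lit 0), (nat_lit 0), (nat_lit 1), (nat_lit 1)]]
noncomputable def MA_lP_h (c : ℕ) : ℕ := Nat.mod c (nat_lit 12)
theorem MA_lP_E {G : Type*} [Group G] {R : ℕ → G → Prop} {p q v w a b i s x y : G} {H : Subgroup G}
    (M : Mdl A6_o MA_cs A6_L R [p, p⁻¹, q, q⁻¹, v, v⁻¹, w, w⁻¹, a, b, i, s, x, y] H) :
    EnumS R MA_lP (sp [a, b]) :=
  enumS_sp M.μ.1 (M.reps.tms M.μ.1 [(.v (nat_lit 8)), (.v (nat_lit 9))] (cs' := [(nat_lit 181777), (nat_lit 120968)]) (by decide +kernel))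
    (Ws := MA_lP_W) (by decide +kernel) (by decide +kernel)
theorem MA_lP_c {G : Type*} [Group G] {R : ℕ → G → Prop} {p q v w a b i s x y : G} {H : Subgroup G}
    (M : Mdl A6_o MA_cs A6_L R [p, p⁻¹, q, q⁻¹, v, v⁻¹, w, w⁻¹, a, b, i, s, x, y] H) :
    #(sp [a, b]) = 9 :=
  (MA_lP_E M).card M.μ (h := MA_lP_h) (by decide +kernel)
noncomputable def MA_lN : List ℕ := [(nat_lit 181896), (nat_lit 181777), (nat_lit 120968), (nat_lit 66403), (nat_lit 181826), (nat_lit 120849), (nat_lit 66284), (nat_lit 146056), (nat_lit 41315), (nat_lit 5475), (nat_lit 178305), (nat_lit 120898), (nat_lit 66333), (nat_lit 145937), (nat_lit 41196), (nat_lit 5356), (nat_lit 178256), (nat_lit 153217), (nat_lit 117377), (nat_lit 178186), (nat_lit 69980), (nat_lit 145986), (nat_lit 41245), (nat_lit 5405), (nat_lit 153168), (nat_lit 117328), (nat_lit 69931), (nat_lit 153098), (nat_lit 9052), (nat_lit 117258), (nat_lit 34140),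 (nat_lit 69861), (nat_lit 9003), (nat_lit 34091), (nat_lit 8933), (nat_lit 34021)]
noncomputable def MA_lN_W : List (List ℕ) := [[],
  [(nat_lit 0)],
  [(nat_lit 1)],
  [(nat_lit 2)],
  [(nat_lit 0), (nat_lit 0)],
  [(nat_lit 0), (nat_lit 1)],
  [(nat_lit 0), (nat_lit 2)],
  [(nat_lit 1), (nat_lit 1)],
  [(nat_lit 1), (nat_lit 2)],
  [(nat_lit 2), (nat_lit 0)],
  [(nat_lit 2), (nat_lit 2)],
  [(nat_lit 0), (nat_lit 0), (nat_lit 1)],
  [(nat_lit 0), (nat_lit 0), (nat_lit 2)],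
  [(nat_lit 0), (nat_lit 1), (nat_lit 1)],
  [(nat_lit 0), (nat_lit 1), (nat_lit 2)],
  [(nat_lit 0), (nat_lit 2), (nat_lit 0)],
  [(nat_lit 0), (nat_lit 2), (nat_lit 2)],
  [(nat_lit 1), (nat_lit 2), (nat_lit 2)],
  [(nat_lit 2), (nat_lit 0), (nat_lit 2)],
  [(nat_lit 2), (nat_lit 2), (nat_lit 0)],
  [(nat_lit 2), (nat_lit 2), (nat_lit 2)],
  [(nat_lit 0), (nat_lit 0), (nat_lit 1), (nat_lit 1)],
  [(nat_lit 0), (nat_lit 0), (nat_lit 1), (nat_lit 2)],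
  [(nat_lit 0), (nat_lit 0), (nat_lit 2), (nat_lit 0)],
  [(nat_lit 0), (nat_lit 1), (nat_lit 2), (nat_lit 2)],
  [(nat_lit 0), (nat_lit 2), (nat_lit 0), (nat_lit 2)],
  [(nat_lit 0), (nat_lit 2), (nat_lit 2), (nat_lit 2)],
  [(nat_lit 1), (nat_lit 2), (nat_lit 2), (nat_lit 0)],
  [(nat_lit 1), (nat_lit 2), (nat_lit 2), (nat_lit 2)],
  [(nat_lit 2), (nat_lit 0), (nat_lit 2), (nat_lit 0)],
  [(nat_lit 2), (nat_lit 0), (nat_lit 2), (nat_lit 2)],
  [(nat_lit 2), (nat_lit 2), (nat_lit 0), (nat_lit 2)],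
  [(nat_lit 0), (nat_lit 1), (nat_lit 2), (nat_lit 2), (nat_lit 2)],
  [(nat_lit 0), (nat_lit 2), (nat_lit 0), (nat_lit 2), (nat_lit 2)],
  [(nat_lit 1), (nat_lit 2), (nat_lit 2), (nat_lit 0), (nat_lit 2)],
  [(nat_lit 2), (nat_lit 0), (nat_lit 2), (nat_lit 0), (nat_lit 2)]]
noncomputable def MA_lN_h (c : ℕ) : ℕ := Nat.mod c (nat_lit 142)
theorem MA_lN_E {G : Type*} [Group G] {R : ℕ → G → Prop} {p q v w a b i s x y : G} {H : Subgroup G}
    (M : Mdl A6_o MA_cs A6_L R [p, p⁻¹, q, q⁻¹, v, v⁻¹, w, w⁻¹, a, b, i, s, x, y] H) :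
    EnumS R MA_lN (sp [a, b, i]) :=
  enumS_sp M.μ.1 (M.reps.tms M.μ.1 [(.v (nat_lit 8)), (.v (nat_lit 9)), (.v (nat_lit 10))] (cs' := [(nat_lit 181777), (nat_lit 120968), (nat_lit 66403)]) (by decide +kernel))
    (Ws := MA_lN_W) (by decide +kernel) (by decide +kernel)
theorem MA_lN_c {G : Type*} [Group G] {R : ℕ → G → Prop} {p q v w a b i s x y : G} {H : Subgroup G}
    (M : Mdl A6_o MA_cs A6_L R [p, p⁻¹, q, q⁻¹, v, v⁻¹, w, w⁻¹, a, b, i, s, x, y] H) :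
    #(sp [a, b, i]) = 36 :=
  (MA_lN_E M).card M.μ (h := MA_lN_h) (by decide +kernel)
noncomputable def MA_lT : List ℕ := [(nat_lit 181896), (nat_lit 66403), (nat_lit 83777), (nat_lit 178305), (nat_lit 168099), (nat_lit 164508), (nat_lit 69980), (nat_lit 80200)]
noncomputable def MA_lT_W : List (List ℕ) := [[],
  [(nat_lit 0)],
  [(nat_lit 1)],
  [(nat_lit 0), (nat_lit 0)],
  [(nat_lit 0), (nat_lit 1)],
  [(nat_lit 1), (nat_lit 0)],
  [(nat_lit 0), (nat_lit 0), (nat_lit 0)],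
  [(nat_lit 0), (nat_lit 0), (nat_lit 1)]]
noncomputable def MA_lT_h (c : ℕ) : ℕ := Nat.mod c (nat_lit 13)
theorem MA_lT_E {G : Type*} [Group G] {R : ℕ → G → Prop} {p q v w a b i s x y : G} {H : Subgroup G}
    (M : Mdl A6_o MA_cs A6_L R [p, p⁻¹, q, q⁻¹, v, v⁻¹, w, w⁻¹, a, b, i, s, x, y] H) :
    EnumS R MA_lT (sp [i, s]) :=
  enumS_sp M.μ.1 (M.reps.tms M.μ.1 [(.v (nat_lit 10)), (.v (nat_lit 11))] (cs' := [(nat_lit 66403), (nat_lit 83777)]) (by decide +kernel))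
    (Ws := MA_lT_W) (by decide +kernel) (by decide +kernel)
theorem MA_lT_c {G : Type*} [Group G] {R : ℕ → G → Prop} {p q v w a b i s x y : G} {H : Subgroup G}
    (M : Mdl A6_o MA_cs A6_L R [p, p⁻¹, q, q⁻¹, v, v⁻¹, w, w⁻¹, a, b, i, s, x, y] H) :
    #(sp [i, s]) = 8 :=
  (MA_lT_E M).card M.μ (h := MA_lT_h) (by decide +kernel)
noncomputable def MA_lV : List ℕ := [(nat_lit 181896), (nat_lit 178305), (nat_lit 164508), (nat_lit 168099)]
noncomputable def MA_lV_W : List (List ℕ) := [[],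
  [(nat_lit 0)],
  [(nat_lit 1)],
  [(nat_lit 0), (nat_lit 1)]]
noncomputable def MA_lV_h (c : ℕ) : ℕ := Nat.mod c (nat_lit 5)
theorem MA_lV_E {G : Type*} [Group G] {R : ℕ → G → Prop} {p q v w a b i s x y : G} {H : Subgroup G}
    (M : Mdl A6_o MA_cs A6_L R [p, p⁻¹, q, q⁻¹, v, v⁻¹, w, w⁻¹, a, b, i, s, x, y] H) :
    EnumS R MA_lV (sp [i * i, i * s]) :=
  enumS_sp M.μ.1 (M.reps.tms M.μ.1 [(.mul (.v (nat_lit 10)) (.v (nat_lit 10))), (.mul (.v (nat_lit 10)) (.v (nat_lit 11)))] (cs' := [(nat_lit 178305), (nat_lit 164508)]) (by decide +kernel))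
    (Ws := MA_lV_W) (by decide +kernel) (by decide +kernel)
theorem MA_lV_c {G : Type*} [Group G] {R : ℕ → G → Prop} {p q v w a b i s x y : G} {H : Subgroup G}
    (M : Mdl A6_o MA_cs A6_L R [p, p⁻¹, q, q⁻¹, v, v⁻¹, w, w⁻¹, a, b, i, s, x, y] H) :
    #(sp [i * i, i * s]) = 4 :=
  (MA_lV_E M).card M.μ (h := MA_lV_h) (by decide +kernel)
noncomputable def MA_lG : List ℕ := [(nat_lit 181896), (nat_lit 99114), (nat_lit 176800), (nat_lit 66403), (nat_lit 83777), (nat_lit 43548), (nat_lit 35050), (nat_lit 47125), (nat_lit 102677), (nat_lit 105218), (nat_lit 170136), (nat_lit 72003), (nat_lit 78177), (nat_lit 142017), (nat_lit 67929), (nat_lit 178305), (nat_lit 168099), (nat_lit 131797), (nat_lit 78660), (nat_lit 164508), (nat_lit 141835), (nat_lit 152776), (nat_lit 21596), (nat_lit 172124), (nat_lit 132714), (nat_lit 143445), (nat_lit 6357), (nat_lit 136725), (nat_lit 135402), (nat_lit 14442),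 (nat_lit 54307), (nat_lit 49365), (nat_lit 50730), (nat_lit 54804), (nat_lit 51906), (nat_lit 50205), (nat_lit 99597), (nat_lit 119050), (nat_lit 82251), (nat_lit 151761), (nat_lit 180377), (nat_lit 166027), (nat_lit 136389), (nat_lit 69980), (nat_lit 169604), (nat_lit 18005), (nat_lit 109124), (nat_lit 139469), (nat_lit 67404), (nat_lit 176268), (nat_lit 80200), (nat_lit 120065), (nat_lit 10851), (nat_lit 100437), (nat_lit 137936), (nat_lit 109320), (nat_lit 18089), (nat_lit 109089), (nat_lit 21729), (nat_lit 152643), (nat_lit 119904), (nat_lit 21771), (nat_lit 116040), (nat_lit 172299), (nat_lit 87816), (nat_lit 86556), (nat_lit 9052), (nat_lit 13077), (nat_lit 5475), (nat_lit 5930), (nat_lit 143914), (nat_lit 86115), (nat_lit 114794), (nat_lit 21155), (nat_lit 115221), (nat_lit 17130), (nat_lit 152601), (nat_lit 164963), (nat_lit 152083), (nat_lit 140008), (nat_lit 9836), (nat_lit 165460),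 (nat_lit 145986), (nat_lit 132189), (nat_lit 17613), (nat_lit 144397), (nat_lit 133834), (nat_lit 19034), (nat_lit 43051), (nat_lit 34021), (nat_lit 47650), (nat_lit 46124), (nat_lit 53474), (nat_lit 42533), (nat_lit 107269), (nat_lit 132329), (nat_lit 165537), (nat_lit 180867), (nat_lit 13413), (nat_lit 118868), (nat_lit 82776), (nat_lit 106793), (nat_lit 22611), (nat_lit 115781), (nat_lit 119568), (nat_lit 51024), (nat_lit 43779), (nat_lit 54552), (nat_lit 119820), (nat_lit 17515), (nat_lit 106597), (nat_lit 22114), (nat_lit 152258), (nat_lit 103720), (nat_lit 71520), (nat_lit 54468), (nat_lit 11033), (nat_lit 41315), (nat_lit 34581), (nat_lit 45354), (nat_lit 104490), (nat_lit 117328), (nat_lit 43744), (nat_lit 66333), (nat_lit 12972), (nat_lit 99156), (nat_lit 50821), (nat_lit 79941), (nat_lit 14673), (nat_lit 47426), (nat_lit 79913), (nat_lit 46432), (nat_lit 35491), (nat_lit 117377),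 (nat_lit 115753), (nat_lit 172257), (nat_lit 87585), (nat_lit 86787), (nat_lit 86752), (nat_lit 172579), (nat_lit 173825), (nat_lit 146056), (nat_lit 88075), (nat_lit 174280), (nat_lit 84680), (nat_lit 10571), (nat_lit 120968), (nat_lit 53404), (nat_lit 72227), (nat_lit 88257), (nat_lit 17753), (nat_lit 6812), (nat_lit 144705), (nat_lit 86297), (nat_lit 34140), (nat_lit 80641), (nat_lit 22681), (nat_lit 108865), (nat_lit 68188), (nat_lit 14477), (nat_lit 10956), (nat_lit 141912), (nat_lit 165145), (nat_lit 15009), (nat_lit 120849), (nat_lit 10473), (nat_lit 139371), (nat_lit 108648), (nat_lit 9003), (nat_lit 107360), (nat_lit 164627), (nat_lit 78632), (nat_lit 71212), (nat_lit 5972), (nat_lit 5405), (nat_lit 15114), (nat_lit 137754), (nat_lit 67691), (nat_lit 100962), (nat_lit 6315), (nat_lit 103461), (nat_lit 6882), (nat_lit 140841), (nat_lit 174147), (nat_lit 136235), (nat_lit 14932),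 (nat_lit 177220), (nat_lit 151642), (nat_lit 140869), (nat_lit 8933), (nat_lit 139805), (nat_lit 51731), (nat_lit 43205), (nat_lit 55322), (nat_lit 10333), (nat_lit 99436), (nat_lit 101137), (nat_lit 53523), (nat_lit 42792), (nat_lit 107052), (nat_lit 41196), (nat_lit 22289), (nat_lit 35155), (nat_lit 46341), (nat_lit 35610), (nat_lit 117258), (nat_lit 55504), (nat_lit 164578), (nat_lit 144208), (nat_lit 131755), (nat_lit 181777), (nat_lit 178186), (nat_lit 47272), (nat_lit 13609), (nat_lit 50499), (nat_lit 41245), (nat_lit 55042), (nat_lit 119330), (nat_lit 21274), (nat_lit 120898), (nat_lit 50408), (nat_lit 178256), (nat_lit 83469), (nat_lit 181441), (nat_lit 139609), (nat_lit 153217), (nat_lit 168988), (nat_lit 34658), (nat_lit 47888), (nat_lit 34091), (nat_lit 181826), (nat_lit 67789), (nat_lit 168218), (nat_lit 72472), (nat_lit 104784), (nat_lit 45396), (nat_lit 102572), (nat_lit 144005),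 (nat_lit 131930), (nat_lit 18250), (nat_lit 135507), (nat_lit 71429), (nat_lit 69861), (nat_lit 168148), (nat_lit 137026), (nat_lit 135325), (nat_lit 170178), (nat_lit 136536), (nat_lit 137859), (nat_lit 133785), (nat_lit 47748), (nat_lit 34973), (nat_lit 35540), (nat_lit 87620), (nat_lit 172740), (nat_lit 173664), (nat_lit 145937), (nat_lit 174105), (nat_lit 88152), (nat_lit 105120), (nat_lit 143529), (nat_lit 80480), (nat_lit 82153), (nat_lit 10081), (nat_lit 118945), (nat_lit 55427), (nat_lit 54944), (nat_lit 177416), (nat_lit 151691), (nat_lit 141128), (nat_lit 84505), (nat_lit 13644), (nat_lit 101004), (nat_lit 51864), (nat_lit 19083), (nat_lit 103748), (nat_lit 86220), (nat_lit 173580), (nat_lit 172824), (nat_lit 132427), (nat_lit 72388), (nat_lit 78093), (nat_lit 22156), (nat_lit 106828), (nat_lit 43352), (nat_lit 42820), (nat_lit 68363), (nat_lit 69931), (nat_lit 5797), (nat_lit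 102754), (nat_lit 83560), (nat_lit 108557), (nat_lit 165068), (nat_lit 80396), (nat_lit 45221), (nat_lit 82013), (nat_lit 49498), (nat_lit 166097), (nat_lit 71912), (nat_lit 170003), (nat_lit 176401), (nat_lit 152216), (nat_lit 82475), (nat_lit 180944), (nat_lit 17235), (nat_lit 115368), (nat_lit 34476), (nat_lit 67369), (nat_lit 115025), (nat_lit 17053), (nat_lit 21204), (nat_lit 153168), (nat_lit 19153), (nat_lit 133715), (nat_lit 6931), (nat_lit 169219), (nat_lit 9997), (nat_lit 153098), (nat_lit 84547), (nat_lit 22730), (nat_lit 180307), (nat_lit 104980), (nat_lit 177185), (nat_lit 180762), (nat_lit 181336), (nat_lit 78373), (nat_lit 132945), (nat_lit 176226), (nat_lit 165978), (nat_lit 100521), (nat_lit 98981), (nat_lit 176660), (nat_lit 66284), (nat_lit 169506), (nat_lit 136872), (nat_lit 71709), (nat_lit 5356), (nat_lit 181259), (nat_lit 144488), (nat_lit 169744), (nat_lit 119428),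 (nat_lit 176898), (nat_lit 67173), (nat_lit 180426), (nat_lit 49323), (nat_lit 169184), (nat_lit 104581), (nat_lit 6490), (nat_lit 143690), (nat_lit 100682), (nat_lit 13154), (nat_lit 82629), (nat_lit 165642), (nat_lit 115522), (nat_lit 132749), (nat_lit 114829), (nat_lit 99681), (nat_lit 77932), (nat_lit 140099), (nat_lit 68321)]
noncomputable def MA_lG_W : List (List ℕ) := [[],
  [(nat_lit 0)],
  [(nat_lit 1)],
  [(nat_lit 2)],
  [(nat_lit 3)],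
  [(nat_lit 0), (nat_lit 0)],
  [(nat_lit 0), (nat_lit 1)],
  [(nat_lit 0), (nat_lit 2)],
  [(nat_lit 0), (nat_lit 3)],
  [(nat_lit 1), (nat_lit 0)],
  [(nat_lit 1), (nat_lit 1)],
  [(nat_lit 1), (nat_lit 2)],
  [(nat_lit 1), (nat_lit 3)],
  [(nat_lit 2), (nat_lit 0)],
  [(nat_lit 2), (nat_lit 1)],
  [(nat_lit 2), (nat_lit 2)],
  [(nat_lit 2), (nat_lit 3)],
  [(nat_lit 3), (nat_lit 0)],
  [(nat_lit 3), (nat_lit 1)],
  [(nat_lit 3), (nat_lit 2)],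
  [(nat_lit 0), (nat_lit 0), (nat_lit 1)],
  [(nat_lit 0), (nat_lit 0), (nat_lit 2)],
  [(nat_lit 0), (nat_lit 0), (nat_lit 3)],
  [(nat_lit 0), (nat_lit 1), (nat_lit 0)],
  [(nat_lit 0), (nat_lit 1), (nat_lit 1)],
  [(nat_lit 0), (nat_lit 1), (nat_lit 2)],
  [(nat_lit 0), (nat_lit 1), (nat_lit 3)],
  [(nat_lit 0), (nat_lit 2), (nat_lit 1)],
  [(nat_lit 0), (nat_lit 2), (nat_lit 2)],
  [(nat_lit 0), (nat_lit 2), (nat_lit 3)],
  [(nat_lit 0), (nat_lit 3), (nat_lit 0)],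
  [(nat_lit 0), (nat_lit 3), (nat_lit 1)],
  [(nat_lit 0), (nat_lit 3), (nat_lit 2)],
  [(nat_lit 1), (nat_lit 0), (nat_lit 0)],
  [(nat_lit 1), (nat_lit 0), (nat_lit 1)],
  [(nat_lit 1), (nat_lit 0), (nat_lit 2)],
  [(nat_lit 1), (nat_lit 0), (nat_lit 3)],
  [(nat_lit 1), (nat_lit 1), (nat_lit 0)],
  [(nat_lit 1), (nat_lit 1), (nat_lit 2)],
  [(nat_lit 1), (nat_lit 2), (nat_lit 0)],
  [(nat_lit 1), (nat_lit 2), (nat_lit 2)],
  [(nat_lit 1), (nat_lit 2), (nat_lit 3)],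
  [(nat_lit 1), (nat_lit 3), (nat_lit 0)],
  [(nat_lit 1), (nat_lit 3), (nat_lit 1)],
  [(nat_lit 1), (nat_lit 3), (nat_lit 2)],
  [(nat_lit 2), (nat_lit 0), (nat_lit 0)],
  [(nat_lit 2), (nat_lit 0), (nat_lit 1)],
  [(nat_lit 2), (nat_lit 1), (nat_lit 0)],
  [(nat_lit 2), (nat_lit 1), (nat_lit 1)],
  [(nat_lit 2), (nat_lit 1), (nat_lit 2)],
  [(nat_lit 2), (nat_lit 2), (nat_lit 3)],
  [(nat_lit 2), (nat_lit 3), (nat_lit 0)],
  [(nat_lit 3), (nat_lit 0), (nat_lit 0)],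
  [(nat_lit 3), (nat_lit 0), (nat_lit 1)],
  [(nat_lit 3), (nat_lit 1), (nat_lit 0)],
  [(nat_lit 3), (nat_lit 2), (nat_lit 0)],
  [(nat_lit 0), (nat_lit 0), (nat_lit 1), (nat_lit 0)],
  [(nat_lit 0), (nat_lit 0), (nat_lit 1), (nat_lit 1)],
  [(nat_lit 0), (nat_lit 0), (nat_lit 1), (nat_lit 2)],
  [(nat_lit 0), (nat_lit 0), (nat_lit 1), (nat_lit 3)],
  [(nat_lit 0), (nat_lit 0), (nat_lit 2), (nat_lit 1)],
  [(nat_lit 0), (nat_lit 0), (nat_lit 3), (nat_lit 1)],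
  [(nat_lit 0), (nat_lit 1), (nat_lit 0), (nat_lit 0)],
  [(nat_lit 0), (nat_lit 1), (nat_lit 0), (nat_lit 1)],
  [(nat_lit 0), (nat_lit 1), (nat_lit 0), (nat_lit 2)],
  [(nat_lit 0), (nat_lit 1), (nat_lit 0), (nat_lit 3)],
  [(nat_lit 0), (nat_lit 1), (nat_lit 1), (nat_lit 0)],
  [(nat_lit 0), (nat_lit 1), (nat_lit 1), (nat_lit 2)],
  [(nat_lit 0), (nat_lit 1), (nat_lit 2), (nat_lit 0)],
  [(nat_lit 0), (nat_lit 1), (nat_lit 2), (nat_lit 2)],
  [(nat_lit 0), (nat_lit 1), (nat_lit 2), (nat_lit 3)],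
  [(nat_lit 0), (nat_lit 1), (nat_lit 3), (nat_lit 0)],
  [(nat_lit 0), (nat_lit 1), (nat_lit 3), (nat_lit 2)],
  [(nat_lit 0), (nat_lit 2), (nat_lit 1), (nat_lit 0)],
  [(nat_lit 0), (nat_lit 2), (nat_lit 1), (nat_lit 1)],
  [(nat_lit 0), (nat_lit 2), (nat_lit 1), (nat_lit 2)],
  [(nat_lit 0), (nat_lit 3), (nat_lit 0), (nat_lit 1)],
  [(nat_lit 0), (nat_lit 3), (nat_lit 1), (nat_lit 0)],
  [(nat_lit 1), (nat_lit 0), (nat_lit 0), (nat_lit 1)],
  [(nat_lit 1), (nat_lit 0), (nat_lit 0), (nat_lit 2)],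
  [(nat_lit 1), (nat_lit 0), (nat_lit 0), (nat_lit 3)],
  [(nat_lit 1), (nat_lit 0), (nat_lit 1), (nat_lit 0)],
  [(nat_lit 1), (nat_lit 0), (nat_lit 1), (nat_lit 1)],
  [(nat_lit 1), (nat_lit 0), (nat_lit 1), (nat_lit 2)],
  [(nat_lit 1), (nat_lit 0), (nat_lit 1), (nat_lit 3)],
  [(nat_lit 1), (nat_lit 0), (nat_lit 2), (nat_lit 1)],
  [(nat_lit 1), (nat_lit 0), (nat_lit 2), (nat_lit 2)],
  [(nat_lit 1), (nat_lit 0), (nat_lit 2), (nat_lit 3)],
  [(nat_lit 1), (nat_lit 0), (nat_lit 3), (nat_lit 0)],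
  [(nat_lit 1), (nat_lit 0), (nat_lit 3), (nat_lit 1)],
  [(nat_lit 1), (nat_lit 0), (nat_lit 3), (nat_lit 2)],
  [(nat_lit 1), (nat_lit 1), (nat_lit 0), (nat_lit 0)],
  [(nat_lit 1), (nat_lit 1), (nat_lit 0), (nat_lit 1)],
  [(nat_lit 1), (nat_lit 1), (nat_lit 0), (nat_lit 2)],
  [(nat_lit 1), (nat_lit 1), (nat_lit 0), (nat_lit 3)],
  [(nat_lit 1), (nat_lit 1), (nat_lit 2), (nat_lit 0)],
  [(nat_lit 1), (nat_lit 1), (nat_lit 2), (nat_lit 2)],
  [(nat_lit 1), (nat_lit 1), (nat_lit 2), (nat_lit 3)],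
  [(nat_lit 1), (nat_lit 2), (nat_lit 0), (nat_lit 0)],
  [(nat_lit 1), (nat_lit 2), (nat_lit 0), (nat_lit 1)],
  [(nat_lit 1), (nat_lit 2), (nat_lit 2), (nat_lit 3)],
  [(nat_lit 1), (nat_lit 2), (nat_lit 3), (nat_lit 0)],
  [(nat_lit 1), (nat_lit 3), (nat_lit 0), (nat_lit 0)],
  [(nat_lit 1), (nat_lit 3), (nat_lit 0), (nat_lit 1)],
  [(nat_lit 1), (nat_lit 3), (nat_lit 2), (nat_lit 0)],
  [(nat_lit 2), (nat_lit 0), (nat_lit 1), (nat_lit 0)],
  [(nat_lit 2), (nat_lit 0), (nat_lit 1), (nat_lit 1)],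
  [(nat_lit 2), (nat_lit 0), (nat_lit 1), (nat_lit 2)],
  [(nat_lit 2), (nat_lit 0), (nat_lit 1), (nat_lit 3)],
  [(nat_lit 2), (nat_lit 1), (nat_lit 0), (nat_lit 0)],
  [(nat_lit 2), (nat_lit 1), (nat_lit 0), (nat_lit 1)],
  [(nat_lit 2), (nat_lit 1), (nat_lit 0), (nat_lit 2)],
  [(nat_lit 2), (nat_lit 1), (nat_lit 0), (nat_lit 3)],
  [(nat_lit 2), (nat_lit 1), (nat_lit 2), (nat_lit 0)],
  [(nat_lit 2), (nat_lit 1), (nat_lit 2), (nat_lit 2)],
  [(nat_lit 2), (nat_lit 3), (nat_lit 0), (nat_lit 1)],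
  [(nat_lit 3), (nat_lit 0), (nat_lit 0), (nat_lit 1)],
  [(nat_lit 3), (nat_lit 0), (nat_lit 1), (nat_lit 0)],
  [(nat_lit 3), (nat_lit 0), (nat_lit 1), (nat_lit 1)],
  [(nat_lit 3), (nat_lit 0), (nat_lit 1), (nat_lit 2)],
  [(nat_lit 3), (nat_lit 0), (nat_lit 1), (nat_lit 3)],
  [(nat_lit 3), (nat_lit 1), (nat_lit 0), (nat_lit 1)],
  [(nat_lit 3), (nat_lit 2), (nat_lit 0), (nat_lit 1)],
  [(nat_lit 0), (nat_lit 0), (nat_lit 1), (nat_lit 0), (nat_lit 0)],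
  [(nat_lit 0), (nat_lit 0), (nat_lit 1), (nat_lit 0), (nat_lit 1)],
  [(nat_lit 0), (nat_lit 0), (nat_lit 1), (nat_lit 0), (nat_lit 2)],
  [(nat_lit 0), (nat_lit 0), (nat_lit 1), (nat_lit 1), (nat_lit 0)],
  [(nat_lit 0), (nat_lit 0), (nat_lit 1), (nat_lit 2), (nat_lit 0)],
  [(nat_lit 0), (nat_lit 0), (nat_lit 1), (nat_lit 3), (nat_lit 0)],
  [(nat_lit 0), (nat_lit 0), (nat_lit 2), (nat_lit 1), (nat_lit 0)],
  [(nat_lit 0), (nat_lit 0), (nat_lit 3), (nat_lit 1), (nat_lit 0)],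
  [(nat_lit 0), (nat_lit 1), (nat_lit 0), (nat_lit 0), (nat_lit 1)],
  [(nat_lit 0), (nat_lit 1), (nat_lit 0), (nat_lit 0), (nat_lit 2)],
  [(nat_lit 0), (nat_lit 1), (nat_lit 0), (nat_lit 0), (nat_lit 3)],
  [(nat_lit 0), (nat_lit 1), (nat_lit 0), (nat_lit 1), (nat_lit 0)],
  [(nat_lit 0), (nat_lit 1), (nat_lit 0), (nat_lit 1), (nat_lit 1)],
  [(nat_lit 0), (nat_lit 1), (nat_lit 0), (nat_lit 1), (nat_lit 2)],
  [(nat_lit 0), (nat_lit 1), (nat_lit 0), (nat_lit 1), (nat_lit 3)],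
  [(nat_lit 0), (nat_lit 1), (nat_lit 0), (nat_lit 2), (nat_lit 1)],
  [(nat_lit 0), (nat_lit 1), (nat_lit 0), (nat_lit 2), (nat_lit 2)],
  [(nat_lit 0), (nat_lit 1), (nat_lit 0), (nat_lit 2), (nat_lit 3)],
  [(nat_lit 0), (nat_lit 1), (nat_lit 0), (nat_lit 3), (nat_lit 0)],
  [(nat_lit 0), (nat_lit 1), (nat_lit 0), (nat_lit 3), (nat_lit 1)],
  [(nat_lit 0), (nat_lit 1), (nat_lit 0), (nat_lit 3), (nat_lit 2)],
  [(nat_lit 0), (nat_lit 1), (nat_lit 1), (nat_lit 0), (nat_lit 0)],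
  [(nat_lit 0), (nat_lit 1), (nat_lit 1), (nat_lit 0), (nat_lit 1)],
  [(nat_lit 0), (nat_lit 1), (nat_lit 1), (nat_lit 0), (nat_lit 2)],
  [(nat_lit 0), (nat_lit 1), (nat_lit 1), (nat_lit 0), (nat_lit 3)],
  [(nat_lit 0), (nat_lit 1), (nat_lit 1), (nat_lit 2), (nat_lit 0)],
  [(nat_lit 0), (nat_lit 1), (nat_lit 2), (nat_lit 0), (nat_lit 0)],
  [(nat_lit 0), (nat_lit 1), (nat_lit 2), (nat_lit 0), (nat_lit 1)],
  [(nat_lit 0), (nat_lit 1), (nat_lit 2), (nat_lit 3), (nat_lit 0)],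
  [(nat_lit 0), (nat_lit 1), (nat_lit 3), (nat_lit 0), (nat_lit 0)],
  [(nat_lit 0), (nat_lit 1), (nat_lit 3), (nat_lit 0), (nat_lit 1)],
  [(nat_lit 0), (nat_lit 1), (nat_lit 3), (nat_lit 2), (nat_lit 0)],
  [(nat_lit 0), (nat_lit 2), (nat_lit 1), (nat_lit 0), (nat_lit 0)],
  [(nat_lit 0), (nat_lit 2), (nat_lit 1), (nat_lit 0), (nat_lit 1)],
  [(nat_lit 0), (nat_lit 2), (nat_lit 1), (nat_lit 0), (nat_lit 2)],
  [(nat_lit 0), (nat_lit 2), (nat_lit 1), (nat_lit 2), (nat_lit 0)],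
  [(nat_lit 0), (nat_lit 3), (nat_lit 0), (nat_lit 1), (nat_lit 0)],
  [(nat_lit 0), (nat_lit 3), (nat_lit 0), (nat_lit 1), (nat_lit 2)],
  [(nat_lit 0), (nat_lit 3), (nat_lit 0), (nat_lit 1), (nat_lit 3)],
  [(nat_lit 0), (nat_lit 3), (nat_lit 1), (nat_lit 0), (nat_lit 1)],
  [(nat_lit 1), (nat_lit 0), (nat_lit 0), (nat_lit 1), (nat_lit 0)],
  [(nat_lit 1), (nat_lit 0), (nat_lit 0), (nat_lit 1), (nat_lit 1)],
  [(nat_lit 1), (nat_lit 0), (nat_lit 0), (nat_lit 1), (nat_lit 2)],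
  [(nat_lit 1), (nat_lit 0), (nat_lit 0), (nat_lit 1), (nat_lit 3)],
  [(nat_lit 1), (nat_lit 0), (nat_lit 0), (nat_lit 2), (nat_lit 1)],
  [(nat_lit 1), (nat_lit 0), (nat_lit 0), (nat_lit 3), (nat_lit 1)],
  [(nat_lit 1), (nat_lit 0), (nat_lit 1), (nat_lit 0), (nat_lit 0)],
  [(nat_lit 1), (nat_lit 0), (nat_lit 1), (nat_lit 0), (nat_lit 1)],
  [(nat_lit 1), (nat_lit 0), (nat_lit 1), (nat_lit 0), (nat_lit 2)],
  [(nat_lit 1), (nat_lit 0), (nat_lit 1), (nat_lit 0), (nat_lit 3)],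
  [(nat_lit 1), (nat_lit 0), (nat_lit 1), (nat_lit 1), (nat_lit 0)],
  [(nat_lit 1), (nat_lit 0), (nat_lit 1), (nat_lit 1), (nat_lit 2)],
  [(nat_lit 1), (nat_lit 0), (nat_lit 1), (nat_lit 2), (nat_lit 2)],
  [(nat_lit 1), (nat_lit 0), (nat_lit 1), (nat_lit 2), (nat_lit 3)],
  [(nat_lit 1), (nat_lit 0), (nat_lit 1), (nat_lit 3), (nat_lit 0)],
  [(nat_lit 1), (nat_lit 0), (nat_lit 1), (nat_lit 3), (nat_lit 2)],
  [(nat_lit 1), (nat_lit 0), (nat_lit 2), (nat_lit 1), (nat_lit 0)],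
  [(nat_lit 1), (nat_lit 0), (nat_lit 2), (nat_lit 1), (nat_lit 1)],
  [(nat_lit 1), (nat_lit 0), (nat_lit 2), (nat_lit 1), (nat_lit 2)],
  [(nat_lit 1), (nat_lit 0), (nat_lit 3), (nat_lit 0), (nat_lit 1)],
  [(nat_lit 1), (nat_lit 0), (nat_lit 3), (nat_lit 1), (nat_lit 0)],
  [(nat_lit 1), (nat_lit 1), (nat_lit 0), (nat_lit 0), (nat_lit 1)],
  [(nat_lit 1), (nat_lit 1), (nat_lit 0), (nat_lit 0), (nat_lit 3)],
  [(nat_lit 1), (nat_lit 1), (nat_lit 0), (nat_lit 1), (nat_lit 0)],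
  [(nat_lit 1), (nat_lit 1), (nat_lit 0), (nat_lit 1), (nat_lit 1)],
  [(nat_lit 1), (nat_lit 1), (nat_lit 0), (nat_lit 1), (nat_lit 2)],
  [(nat_lit 1), (nat_lit 1), (nat_lit 0), (nat_lit 1), (nat_lit 3)],
  [(nat_lit 1), (nat_lit 1), (nat_lit 0), (nat_lit 2), (nat_lit 1)],
  [(nat_lit 1), (nat_lit 1), (nat_lit 0), (nat_lit 3), (nat_lit 0)],
  [(nat_lit 1), (nat_lit 1), (nat_lit 0), (nat_lit 3), (nat_lit 1)],
  [(nat_lit 1), (nat_lit 1), (nat_lit 0), (nat_lit 3), (nat_lit 2)],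
  [(nat_lit 1), (nat_lit 1), (nat_lit 2), (nat_lit 0), (nat_lit 0)],
  [(nat_lit 1), (nat_lit 1), (nat_lit 2), (nat_lit 0), (nat_lit 1)],
  [(nat_lit 1), (nat_lit 1), (nat_lit 2), (nat_lit 3), (nat_lit 0)],
  [(nat_lit 1), (nat_lit 2), (nat_lit 0), (nat_lit 1), (nat_lit 1)],
  [(nat_lit 1), (nat_lit 2), (nat_lit 0), (nat_lit 1), (nat_lit 2)],
  [(nat_lit 1), (nat_lit 2), (nat_lit 0), (nat_lit 1), (nat_lit 3)],
  [(nat_lit 1), (nat_lit 2), (nat_lit 3), (nat_lit 0), (nat_lit 1)],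
  [(nat_lit 1), (nat_lit 3), (nat_lit 0), (nat_lit 0), (nat_lit 1)],
  [(nat_lit 1), (nat_lit 3), (nat_lit 0), (nat_lit 1), (nat_lit 0)],
  [(nat_lit 1), (nat_lit 3), (nat_lit 0), (nat_lit 1), (nat_lit 1)],
  [(nat_lit 1), (nat_lit 3), (nat_lit 0), (nat_lit 1), (nat_lit 2)],
  [(nat_lit 1), (nat_lit 3), (nat_lit 0), (nat_lit 1), (nat_lit 3)],
  [(nat_lit 1), (nat_lit 3), (nat_lit 2), (nat_lit 0), (nat_lit 1)],
  [(nat_lit 2), (nat_lit 0), (nat_lit 1), (nat_lit 0), (nat_lit 0)],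
  [(nat_lit 2), (nat_lit 0), (nat_lit 1), (nat_lit 0), (nat_lit 1)],
  [(nat_lit 2), (nat_lit 0), (nat_lit 1), (nat_lit 0), (nat_lit 2)],
  [(nat_lit 2), (nat_lit 0), (nat_lit 1), (nat_lit 1), (nat_lit 0)],
  [(nat_lit 2), (nat_lit 0), (nat_lit 1), (nat_lit 2), (nat_lit 0)],
  [(nat_lit 2), (nat_lit 0), (nat_lit 1), (nat_lit 3), (nat_lit 0)],
  [(nat_lit 2), (nat_lit 1), (nat_lit 0), (nat_lit 0), (nat_lit 1)],
  [(nat_lit 2), (nat_lit 1), (nat_lit 0), (nat_lit 1), (nat_lit 0)],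
  [(nat_lit 2), (nat_lit 1), (nat_lit 0), (nat_lit 1), (nat_lit 1)],
  [(nat_lit 2), (nat_lit 1), (nat_lit 0), (nat_lit 1), (nat_lit 2)],
  [(nat_lit 2), (nat_lit 1), (nat_lit 0), (nat_lit 1), (nat_lit 3)],
  [(nat_lit 2), (nat_lit 1), (nat_lit 0), (nat_lit 2), (nat_lit 1)],
  [(nat_lit 2), (nat_lit 1), (nat_lit 0), (nat_lit 3), (nat_lit 1)],
  [(nat_lit 2), (nat_lit 1), (nat_lit 2), (nat_lit 0), (nat_lit 1)],
  [(nat_lit 2), (nat_lit 3), (nat_lit 0), (nat_lit 1), (nat_lit 0)],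
  [(nat_lit 3), (nat_lit 0), (nat_lit 0), (nat_lit 1), (nat_lit 0)],
  [(nat_lit 3), (nat_lit 0), (nat_lit 1), (nat_lit 0), (nat_lit 0)],
  [(nat_lit 3), (nat_lit 0), (nat_lit 1), (nat_lit 0), (nat_lit 1)],
  [(nat_lit 3), (nat_lit 0), (nat_lit 1), (nat_lit 0), (nat_lit 2)],
  [(nat_lit 3), (nat_lit 0), (nat_lit 1), (nat_lit 2), (nat_lit 0)],
  [(nat_lit 3), (nat_lit 1), (nat_lit 0), (nat_lit 1), (nat_lit 0)],
  [(nat_lit 3), (nat_lit 1), (nat_lit 0), (nat_lit 1), (nat_lit 1)],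
  [(nat_lit 3), (nat_lit 1), (nat_lit 0), (nat_lit 1), (nat_lit 2)],
  [(nat_lit 3), (nat_lit 2), (nat_lit 0), (nat_lit 1), (nat_lit 0)],
  [(nat_lit 0), (nat_lit 0), (nat_lit 1), (nat_lit 0), (nat_lit 0), (nat_lit 1)],
  [(nat_lit 0), (nat_lit 0), (nat_lit 1), (nat_lit 0), (nat_lit 0), (nat_lit 3)],
  [(nat_lit 0), (nat_lit 0), (nat_lit 1), (nat_lit 0), (nat_lit 1), (nat_lit 0)],
  [(nat_lit 0), (nat_lit 0), (nat_lit 1), (nat_lit 0), (nat_lit 1), (nat_lit 2)],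
  [(nat_lit 0), (nat_lit 0), (nat_lit 1), (nat_lit 0), (nat_lit 1), (nat_lit 3)],
  [(nat_lit 0), (nat_lit 0), (nat_lit 1), (nat_lit 0), (nat_lit 2), (nat_lit 3)],
  [(nat_lit 0), (nat_lit 0), (nat_lit 1), (nat_lit 1), (nat_lit 0), (nat_lit 1)],
  [(nat_lit 0), (nat_lit 0), (nat_lit 1), (nat_lit 1), (nat_lit 0), (nat_lit 2)],
  [(nat_lit 0), (nat_lit 0), (nat_lit 1), (nat_lit 1), (nat_lit 0), (nat_lit 3)],
  [(nat_lit 0), (nat_lit 0), (nat_lit 1), (nat_lit 2), (nat_lit 0), (nat_lit 0)],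
  [(nat_lit 0), (nat_lit 0), (nat_lit 1), (nat_lit 2), (nat_lit 0), (nat_lit 1)],
  [(nat_lit 0), (nat_lit 0), (nat_lit 1), (nat_lit 3), (nat_lit 0), (nat_lit 0)],
  [(nat_lit 0), (nat_lit 0), (nat_lit 2), (nat_lit 1), (nat_lit 0), (nat_lit 0)],
  [(nat_lit 0), (nat_lit 0), (nat_lit 2), (nat_lit 1), (nat_lit 0), (nat_lit 1)],
  [(nat_lit 0), (nat_lit 0), (nat_lit 2), (nat_lit 1), (nat_lit 0), (nat_lit 2)],
  [(nat_lit 0), (nat_lit 1), (nat_lit 0), (nat_lit 0), (nat_lit 1), (nat_lit 0)],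
  [(nat_lit 0), (nat_lit 1), (nat_lit 0), (nat_lit 0), (nat_lit 1), (nat_lit 1)],
  [(nat_lit 0), (nat_lit 1), (nat_lit 0), (nat_lit 0), (nat_lit 1), (nat_lit 2)],
  [(nat_lit 0), (nat_lit 1), (nat_lit 0), (nat_lit 0), (nat_lit 2), (nat_lit 1)],
  [(nat_lit 0), (nat_lit 1), (nat_lit 0), (nat_lit 0), (nat_lit 3), (nat_lit 1)],
  [(nat_lit 0), (nat_lit 1), (nat_lit 0), (nat_lit 1), (nat_lit 0), (nat_lit 0)],
  [(nat_lit 0), (nat_lit 1), (nat_lit 0), (nat_lit 1), (nat_lit 0), (nat_lit 2)],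
  [(nat_lit 0), (nat_lit 1), (nat_lit 0), (nat_lit 1), (nat_lit 1), (nat_lit 2)],
  [(nat_lit 0), (nat_lit 1), (nat_lit 0), (nat_lit 1), (nat_lit 2), (nat_lit 2)],
  [(nat_lit 0), (nat_lit 1), (nat_lit 0), (nat_lit 1), (nat_lit 2), (nat_lit 3)],
  [(nat_lit 0), (nat_lit 1), (nat_lit 0), (nat_lit 1), (nat_lit 3), (nat_lit 0)],
  [(nat_lit 0), (nat_lit 1), (nat_lit 0), (nat_lit 1), (nat_lit 3), (nat_lit 2)],
  [(nat_lit 0), (nat_lit 1), (nat_lit 0), (nat_lit 2), (nat_lit 1), (nat_lit 1)],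
  [(nat_lit 0), (nat_lit 1), (nat_lit 0), (nat_lit 3), (nat_lit 0), (nat_lit 1)],
  [(nat_lit 0), (nat_lit 1), (nat_lit 0), (nat_lit 3), (nat_lit 1), (nat_lit 0)],
  [(nat_lit 0), (nat_lit 1), (nat_lit 1), (nat_lit 0), (nat_lit 0), (nat_lit 1)],
  [(nat_lit 0), (nat_lit 1), (nat_lit 1), (nat_lit 0), (nat_lit 1), (nat_lit 0)],
  [(nat_lit 0), (nat_lit 1), (nat_lit 1), (nat_lit 0), (nat_lit 1), (nat_lit 1)],
  [(nat_lit 0), (nat_lit 1), (nat_lit 1), (nat_lit 0), (nat_lit 1), (nat_lit 2)],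
  [(nat_lit 0), (nat_lit 1), (nat_lit 1), (nat_lit 0), (nat_lit 1), (nat_lit 3)],
  [(nat_lit 0), (nat_lit 1), (nat_lit 1), (nat_lit 0), (nat_lit 2), (nat_lit 1)],
  [(nat_lit 0), (nat_lit 1), (nat_lit 1), (nat_lit 0), (nat_lit 3), (nat_lit 0)],
  [(nat_lit 0), (nat_lit 1), (nat_lit 1), (nat_lit 0), (nat_lit 3), (nat_lit 1)],
  [(nat_lit 0), (nat_lit 1), (nat_lit 1), (nat_lit 0), (nat_lit 3), (nat_lit 2)],
  [(nat_lit 0), (nat_lit 1), (nat_lit 1), (nat_lit 2), (nat_lit 0), (nat_lit 1)],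
  [(nat_lit 0), (nat_lit 1), (nat_lit 2), (nat_lit 0), (nat_lit 1), (nat_lit 1)],
  [(nat_lit 0), (nat_lit 1), (nat_lit 2), (nat_lit 0), (nat_lit 1), (nat_lit 2)],
  [(nat_lit 0), (nat_lit 1), (nat_lit 2), (nat_lit 0), (nat_lit 1), (nat_lit 3)],
  [(nat_lit 0), (nat_lit 1), (nat_lit 2), (nat_lit 3), (nat_lit 0), (nat_lit 1)],
  [(nat_lit 0), (nat_lit 1), (nat_lit 3), (nat_lit 0), (nat_lit 0), (nat_lit 1)],
  [(nat_lit 0), (nat_lit 1), (nat_lit 3), (nat_lit 0), (nat_lit 1), (nat_lit 1)],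
  [(nat_lit 0), (nat_lit 1), (nat_lit 3), (nat_lit 0), (nat_lit 1), (nat_lit 2)],
  [(nat_lit 0), (nat_lit 1), (nat_lit 3), (nat_lit 0), (nat_lit 1), (nat_lit 3)],
  [(nat_lit 0), (nat_lit 1), (nat_lit 3), (nat_lit 2), (nat_lit 0), (nat_lit 1)],
  [(nat_lit 0), (nat_lit 2), (nat_lit 1), (nat_lit 0), (nat_lit 0), (nat_lit 1)],
  [(nat_lit 0), (nat_lit 2), (nat_lit 1), (nat_lit 0), (nat_lit 1), (nat_lit 0)],
  [(nat_lit 0), (nat_lit 2), (nat_lit 1), (nat_lit 0), (nat_lit 1), (nat_lit 1)],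
  [(nat_lit 0), (nat_lit 2), (nat_lit 1), (nat_lit 0), (nat_lit 1), (nat_lit 2)],
  [(nat_lit 0), (nat_lit 2), (nat_lit 1), (nat_lit 0), (nat_lit 1), (nat_lit 3)],
  [(nat_lit 0), (nat_lit 2), (nat_lit 1), (nat_lit 0), (nat_lit 2), (nat_lit 1)],
  [(nat_lit 0), (nat_lit 2), (nat_lit 1), (nat_lit 2), (nat_lit 0), (nat_lit 1)],
  [(nat_lit 0), (nat_lit 3), (nat_lit 0), (nat_lit 1), (nat_lit 0), (nat_lit 0)],
  [(nat_lit 0), (nat_lit 3), (nat_lit 0), (nat_lit 1), (nat_lit 0), (nat_lit 1)],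
  [(nat_lit 0), (nat_lit 3), (nat_lit 0), (nat_lit 1), (nat_lit 0), (nat_lit 2)],
  [(nat_lit 0), (nat_lit 3), (nat_lit 0), (nat_lit 1), (nat_lit 2), (nat_lit 0)],
  [(nat_lit 0), (nat_lit 3), (nat_lit 1), (nat_lit 0), (nat_lit 1), (nat_lit 0)],
  [(nat_lit 0), (nat_lit 3), (nat_lit 1), (nat_lit 0), (nat_lit 1), (nat_lit 1)],
  [(nat_lit 0), (nat_lit 3), (nat_lit 1), (nat_lit 0), (nat_lit 1), (nat_lit 2)],
  [(nat_lit 1), (nat_lit 0), (nat_lit 0), (nat_lit 1), (nat_lit 1), (nat_lit 0)],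
  [(nat_lit 1), (nat_lit 0), (nat_lit 0), (nat_lit 1), (nat_lit 2), (nat_lit 0)],
  [(nat_lit 1), (nat_lit 0), (nat_lit 0), (nat_lit 2), (nat_lit 1), (nat_lit 0)],
  [(nat_lit 1), (nat_lit 0), (nat_lit 1), (nat_lit 0), (nat_lit 1), (nat_lit 1)],
  [(nat_lit 1), (nat_lit 0), (nat_lit 1), (nat_lit 0), (nat_lit 2), (nat_lit 1)],
  [(nat_lit 1), (nat_lit 0), (nat_lit 1), (nat_lit 0), (nat_lit 2), (nat_lit 2)],
  [(nat_lit 1), (nat_lit 0), (nat_lit 1), (nat_lit 0), (nat_lit 2), (nat_lit 3)],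
  [(nat_lit 1), (nat_lit 0), (nat_lit 1), (nat_lit 0), (nat_lit 3), (nat_lit 0)],
  [(nat_lit 1), (nat_lit 0), (nat_lit 1), (nat_lit 0), (nat_lit 3), (nat_lit 1)],
  [(nat_lit 1), (nat_lit 0), (nat_lit 1), (nat_lit 0), (nat_lit 3), (nat_lit 2)],
  [(nat_lit 1), (nat_lit 0), (nat_lit 1), (nat_lit 1), (nat_lit 0), (nat_lit 1)],
  [(nat_lit 1), (nat_lit 0), (nat_lit 1), (nat_lit 1), (nat_lit 0), (nat_lit 2)],
  [(nat_lit 1), (nat_lit 0), (nat_lit 1), (nat_lit 1), (nat_lit 0), (nat_lit 3)],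
  [(nat_lit 1), (nat_lit 0), (nat_lit 1), (nat_lit 3), (nat_lit 0), (nat_lit 1)],
  [(nat_lit 1), (nat_lit 0), (nat_lit 2), (nat_lit 1), (nat_lit 0), (nat_lit 2)],
  [(nat_lit 1), (nat_lit 0), (nat_lit 3), (nat_lit 0), (nat_lit 1), (nat_lit 0)],
  [(nat_lit 1), (nat_lit 0), (nat_lit 3), (nat_lit 0), (nat_lit 1), (nat_lit 2)],
  [(nat_lit 1), (nat_lit 0), (nat_lit 3), (nat_lit 0), (nat_lit 1), (nat_lit 3)],
  [(nat_lit 1), (nat_lit 1), (nat_lit 0), (nat_lit 0), (nat_lit 1), (nat_lit 2)],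
  [(nat_lit 1), (nat_lit 1), (nat_lit 0), (nat_lit 0), (nat_lit 1), (nat_lit 3)],
  [(nat_lit 1), (nat_lit 1), (nat_lit 0), (nat_lit 0), (nat_lit 3), (nat_lit 1)],
  [(nat_lit 1), (nat_lit 1), (nat_lit 0), (nat_lit 1), (nat_lit 0), (nat_lit 1)],
  [(nat_lit 1), (nat_lit 1), (nat_lit 0), (nat_lit 1), (nat_lit 1), (nat_lit 2)],
  [(nat_lit 1), (nat_lit 1), (nat_lit 0), (nat_lit 1), (nat_lit 2), (nat_lit 3)],
  [(nat_lit 1), (nat_lit 1), (nat_lit 0), (nat_lit 1), (nat_lit 3), (nat_lit 0)],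
  [(nat_lit 1), (nat_lit 1), (nat_lit 0), (nat_lit 2), (nat_lit 1), (nat_lit 2)],
  [(nat_lit 1), (nat_lit 1), (nat_lit 0), (nat_lit 3), (nat_lit 1), (nat_lit 0)],
  [(nat_lit 1), (nat_lit 1), (nat_lit 2), (nat_lit 0), (nat_lit 1), (nat_lit 3)],
  [(nat_lit 1), (nat_lit 2), (nat_lit 0), (nat_lit 1), (nat_lit 1), (nat_lit 0)],
  [(nat_lit 1), (nat_lit 2), (nat_lit 0), (nat_lit 1), (nat_lit 2), (nat_lit 0)],
  [(nat_lit 1), (nat_lit 2), (nat_lit 3), (nat_lit 0), (nat_lit 1), (nat_lit 0)],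
  [(nat_lit 1), (nat_lit 3), (nat_lit 0), (nat_lit 0), (nat_lit 1), (nat_lit 0)],
  [(nat_lit 1), (nat_lit 3), (nat_lit 0), (nat_lit 1), (nat_lit 0), (nat_lit 1)],
  [(nat_lit 1), (nat_lit 3), (nat_lit 2), (nat_lit 0), (nat_lit 1), (nat_lit 0)],
  [(nat_lit 2), (nat_lit 0), (nat_lit 1), (nat_lit 0), (nat_lit 0), (nat_lit 1)],
  [(nat_lit 2), (nat_lit 0), (nat_lit 1), (nat_lit 0), (nat_lit 2), (nat_lit 1)],
  [(nat_lit 2), (nat_lit 0), (nat_lit 1), (nat_lit 1), (nat_lit 0), (nat_lit 0)],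
  [(nat_lit 2), (nat_lit 0), (nat_lit 1), (nat_lit 1), (nat_lit 0), (nat_lit 1)],
  [(nat_lit 2), (nat_lit 0), (nat_lit 1), (nat_lit 1), (nat_lit 0), (nat_lit 2)],
  [(nat_lit 2), (nat_lit 0), (nat_lit 1), (nat_lit 2), (nat_lit 0), (nat_lit 1)],
  [(nat_lit 2), (nat_lit 0), (nat_lit 1), (nat_lit 3), (nat_lit 0), (nat_lit 1)],
  [(nat_lit 2), (nat_lit 1), (nat_lit 0), (nat_lit 0), (nat_lit 1), (nat_lit 0)],
  [(nat_lit 2), (nat_lit 1), (nat_lit 0), (nat_lit 0), (nat_lit 1), (nat_lit 1)],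
  [(nat_lit 2), (nat_lit 1), (nat_lit 0), (nat_lit 1), (nat_lit 1), (nat_lit 0)],
  [(nat_lit 2), (nat_lit 1), (nat_lit 2), (nat_lit 0), (nat_lit 1), (nat_lit 1)],
  [(nat_lit 2), (nat_lit 3), (nat_lit 0), (nat_lit 1), (nat_lit 0), (nat_lit 1)],
  [(nat_lit 3), (nat_lit 0), (nat_lit 1), (nat_lit 0), (nat_lit 2), (nat_lit 1)],
  [(nat_lit 3), (nat_lit 2), (nat_lit 0), (nat_lit 1), (nat_lit 0), (nat_lit 1)],
  [(nat_lit 0), (nat_lit 0), (nat_lit 1), (nat_lit 0), (nat_lit 0), (nat_lit 1), (nat_lit 1)],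
  [(nat_lit 0), (nat_lit 0), (nat_lit 1), (nat_lit 0), (nat_lit 0), (nat_lit 3), (nat_lit 1)],
  [(nat_lit 0), (nat_lit 0), (nat_lit 1), (nat_lit 0), (nat_lit 1), (nat_lit 2), (nat_lit 2)],
  [(nat_lit 0), (nat_lit 0), (nat_lit 1), (nat_lit 0), (nat_lit 1), (nat_lit 3), (nat_lit 0)],
  [(nat_lit 0), (nat_lit 0), (nat_lit 1), (nat_lit 1), (nat_lit 0), (nat_lit 1), (nat_lit 1)],
  [(nat_lit 0), (nat_lit 0), (nat_lit 1), (nat_lit 1), (nat_lit 0), (nat_lit 1), (nat_lit 2)],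
  [(nat_lit 0), (nat_lit 0), (nat_lit 1), (nat_lit 1), (nat_lit 0), (nat_lit 1), (nat_lit 3)],
  [(nat_lit 0), (nat_lit 0), (nat_lit 1), (nat_lit 1), (nat_lit 0), (nat_lit 2), (nat_lit 1)],
  [(nat_lit 0), (nat_lit 0), (nat_lit 1), (nat_lit 1), (nat_lit 0), (nat_lit 3), (nat_lit 1)],
  [(nat_lit 0), (nat_lit 0), (nat_lit 1), (nat_lit 2), (nat_lit 0), (nat_lit 1), (nat_lit 1)],
  [(nat_lit 0), (nat_lit 0), (nat_lit 1), (nat_lit 2), (nat_lit 0), (nat_lit 1), (nat_lit 3)],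
  [(nat_lit 0), (nat_lit 0), (nat_lit 2), (nat_lit 1), (nat_lit 0), (nat_lit 1), (nat_lit 1)],
  [(nat_lit 0), (nat_lit 0), (nat_lit 2), (nat_lit 1), (nat_lit 0), (nat_lit 1), (nat_lit 3)],
  [(nat_lit 0), (nat_lit 0), (nat_lit 2), (nat_lit 1), (nat_lit 0), (nat_lit 2), (nat_lit 1)],
  [(nat_lit 0), (nat_lit 1), (nat_lit 0), (nat_lit 3), (nat_lit 0), (nat_lit 1), (nat_lit 3)],
  [(nat_lit 0), (nat_lit 1), (nat_lit 1), (nat_lit 0), (nat_lit 1), (nat_lit 0), (nat_lit 1)],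
  [(nat_lit 0), (nat_lit 1), (nat_lit 1), (nat_lit 0), (nat_lit 2), (nat_lit 1), (nat_lit 2)],
  [(nat_lit 0), (nat_lit 2), (nat_lit 1), (nat_lit 2), (nat_lit 0), (nat_lit 1), (nat_lit 1)]]
noncomputable def MA_lG_h (c : ℕ) : ℕ := Nat.mod c (nat_lit 3678)
theorem MA_lG_E {G : Type*} [Group G] {R : ℕ → G → Prop} {p q v w a b i s x y : G} {H : Subgroup G}
    (M : Mdl A6_o MA_cs A6_L R [p, p⁻¹, q, q⁻¹, v, v⁻¹, w, w⁻¹, a, b, i, s, x, y] H) :
    EnumS R MA_lG (sp [x, y, i, s]) :=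
  enumS_sp M.μ.1 (M.reps.tms M.μ.1 [(.v (nat_lit 12)), (.v (nat_lit 13)), (.v (nat_lit 10)), (.v (nat_lit 11))] (cs' := [(nat_lit 99114), (nat_lit 176800), (nat_lit 66403), (nat_lit 83777)]) (by decide +kernel))
    (Ws := MA_lG_W) (by decide +kernel) (by decide +kernel)
theorem MA_lG_c {G : Type*} [Group G] {R : ℕ → G → Prop} {p q v w a b i s x y : G} {H : Subgroup G}
    (M : Mdl A6_o MA_cs A6_L R [p, p⁻¹, q, q⁻¹, v, v⁻¹, w, w⁻¹, a, b, i, s, x, y] H) :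
    #(sp [x, y, i, s]) = 360 :=
  (MA_lG_E M).card M.μ (h := MA_lG_h) (by decide +kernel)
noncomputable def MA_ti_F : Fm := (.all A6_L (.allS MA_lP (.imp (.mem (.mul (.mul (.v (nat_lit 1)) (.v (nat_lit 0))) (.inv (.v (nat_lit 1)))) MA_lP) (.qf (.or (.eq (.v (nat_lit 0)) .one) (.mem (.v (nat_lit 1)) MA_lN))))))
theorem MA_ti_chk : Fm.chk A6_o MA_ti_F MA_cs = true := by decide +kernel
theorem MA_ti {G : Type*} [Group G] {R : ℕ → G → Prop} {p q v w a b i s x y : G} {H : Subgroup G}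
    (M : Mdl A6_o MA_cs A6_L R [p, p⁻¹, q, q⁻¹, v, v⁻¹, w, w⁻¹, a, b, i, s, x, y] H) :
    ∀ g ∈ H, ∀ u ∈ sp [a, b], g * u * g⁻¹ ∈ sp [a, b] → u = 1 ∨ g ∈ sp [a, b, i] :=
  have h : ∀ g, InL A6_o R A6_L g → ∀ u, InS R MA_lP u → InS R MA_lP (g * u * g⁻¹) → u = 1 ∨ InS R MA_lN (g) :=
    Fm.sound M.μ MA_ti_F MA_ti_chk M.reps
  (fun g h0 => (fun u h1 => (fun h2 => ((or_congr Iff.rfl (MA_lN_E M).iff).1 (((h g (M.H.iff.2 h0)) u ((MA_lP_E M).iff.2 h1)) ((MA_lP_E M).iff.2 h2))))))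
noncomputable def MA_n_F : Fm := (.allS MA_lN (.allS MA_lP (.qf (.mem (.mul (.mul (.v (nat_lit 1)) (.v (nat_lit 0))) (.inv (.v (nat_lit 1)))) MA_lP))))
theorem MA_n_chk : Fm.chk A6_o MA_n_F MA_cs = true := by decide +kernel
theorem MA_n {G : Type*} [Group G] {R : ℕ → G → Prop} {p q v w a b i s x y : G} {H : Subgroup G}
    (M : Mdl A6_o MA_cs A6_L R [p, p⁻¹, q, q⁻¹, v, v⁻¹, w, w⁻¹, a, b, i, s, x, y] H) :
    ∀ g ∈ sp [a, b, i], ∀ u ∈ sp [a, b], g * u * g⁻¹ ∈ sp [a, b] :=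
  have h : ∀ g, InS R MA_lN g → ∀ u, InS R MA_lP u → InS R MA_lP (g * u * g⁻¹) :=
    Fm.sound M.μ MA_n_F MA_n_chk M.reps
  (fun g h0 => (fun u h1 => ((MA_lP_E M).iff.1 ((h g ((MA_lN_E M).iff.2 h0)) u ((MA_lP_E M).iff.2 h1)))))
noncomputable def MA_nf_F : Fm := (.allS MA_lN (.allS MA_lN (.imp (.eq (.mul (.v (nat_lit 1)) (.v (nat_lit 1))) .one) (.imp (.eq (.mul (.v (nat_lit 0)) (.v (nat_lit 0))) .one) (.imp (.eq (.mul (.v (nat_lit 1)) (.v (nat_lit 0))) (.mul (.v (nat_lit 0)) (.v (nat_lit 1)))) (.qf (.or (.eq (.v (nat_lit 1)) .one) (.or (.eq (.v (nat_lit 0)) .one) (.eq (.v (nat_lit 1)) (.v (nat_lit 0)))))))))))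
theorem MA_nf_chk : Fm.chk A6_o MA_nf_F MA_cs = true := by decide +kernel
theorem MA_nf {G : Type*} [Group G] {R : ℕ → G → Prop} {p q v w a b i s x y : G} {H : Subgroup G}
    (M : Mdl A6_o MA_cs A6_L R [p, p⁻¹, q, q⁻¹, v, v⁻¹, w, w⁻¹, a, b, i, s, x, y] H) :
    ∀ g ∈ sp [a, b, i], ∀ k ∈ sp [a, b, i], g * g = 1 → k * k = 1 → g * k = k * g → g = 1 ∨ k = 1 ∨ g = k :=
  have h : ∀ g, InS R MA_lN g → ∀ k, InS R MA_lN k → g * g = 1 → k * k = 1 → g * k = k * g → g = 1 ∨ k = 1 ∨ g = k :=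
    Fm.sound M.μ MA_nf_F MA_nf_chk M.reps
  (fun g h0 => (fun k h1 => ((h g ((MA_lN_E M).iff.2 h0)) k ((MA_lN_E M).iff.2 h1))))
noncomputable def MA_e_F : Fm := (.qf (.and (.mem (.v (nat_lit 10)) MA_lN) (.and (.not (.mem (.v (nat_lit 11)) MA_lN)) (.and (.mem (.v (nat_lit 8)) MA_lP) (.and (.not (.eq (.v (nat_lit 8)) .one)) (.and (.eq (.mul (.mul (.v (nat_lit 10)) (.v (nat_lit 10))) (.mul (.v (nat_lit 10)) (.v (nat_lit 10)))) .one) (.and (.eq (.mul (.v (nat_lit 11)) (.v (nat_lit 11))) .one) (.and (.eq (.mul (.mul (.v (nat_lit 11)) (.v (nat_lit 10))) (.inv (.v (nat_lit 11)))) (.inv (.v (nat_lit 10)))) (.and (.not (.eq (.mul (.v (nat_lit 10)) (.v (nat_lit 10))) .one)) (.and (.not (.eq (.v (nat_lit 11)) .one)) (.and (.not (.eq (.mul (.v (nat_lit 10)) (.v (nat_lit 10))) (.v (nat_lit 11)))) (.and (.eq (.mul (.mul (.v (nat_lit 12)) (.mul (.v (nat_lit 10)) (.v (nat_lit 10)))) (.inv (.v (nat_lit 12))))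 (.v (nat_lit 11))) (.and (.eq (.mul (.mul (.v (nat_lit 12)) (.v (nat_lit 11))) (.inv (.v (nat_lit 12)))) (.mul (.mul (.v (nat_lit 10)) (.v (nat_lit 10))) (.v (nat_lit 11)))) (.and (.eq (.mul (.mul (.v (nat_lit 13)) (.mul (.v (nat_lit 10)) (.v (nat_lit 10)))) (.inv (.v (nat_lit 13)))) (.mul (.v (nat_lit 10)) (.v (nat_lit 11)))) (.and (.eq (.mul (.mul (.v (nat_lit 13)) (.mul (.v (nat_lit 10)) (.v (nat_lit 11)))) (.inv (.v (nat_lit 13)))) (.mul (.mul (.v (nat_lit 10)) (.v (nat_lit 10))) (.mul (.v (nat_lit 10)) (.v (nat_lit 11))))) (.and (.eq (.pw (.v (nat_lit 12)) (nat_lit 3)) .one) (.and (.eq (.pw (.v (nat_lit 13)) (nat_lit 3)) .one) (.and (.eq (.mul (.mul (.v (nat_lit 10)) (.v (nat_lit 12))) (.mul (.v (nat_lit 10)) (.v (nat_lit 12)))) (.v (nat_lit 11))) (.and (.eq (.mul (.mul (.v (nat_lit 10)) (.v (nat_lit 13))) (.mul (.v (nat_lit 10)) (.v (nat_lit 13)))) (.mul (.v (nat_lit 10)) (.v (nat_lit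 11)))) (.and (.not (.eq (.mul (.v (nat_lit 10)) (.v (nat_lit 11))) .one)) (.not (.eq (.mul (.v (nat_lit 10)) (.v (nat_lit 10))) (.mul (.v (nat_lit 10)) (.v (nat_lit 11)))))))))))))))))))))))))
theorem MA_e_chk : Fm.chk A6_o MA_e_F MA_cs = true := by decide +kernel
theorem MA_e {G : Type*} [Group G] {R : ℕ → G → Prop} {p q v w a b i s x y : G} {H : Subgroup G}
    (M : Mdl A6_o MA_cs A6_L R [p, p⁻¹, q, q⁻¹, v, v⁻¹, w, w⁻¹, a, b, i, s, x, y] H) :
    i ∈ sp [a, b, i] ∧ s ∉ sp [a, b, i] ∧ a ∈ sp [a, b] ∧ a ≠ 1 ∧ i * i * (i * i) = 1 ∧ s * s = 1 ∧ s * i * s⁻¹ = i⁻¹ ∧ i * i ≠ 1 ∧ s ≠ 1 ∧ i * i ≠ s ∧ x * (i * i) * x⁻¹ = s ∧ x * s * x⁻¹ = i * i * s ∧ y * (i * i) * y⁻¹ = i * s ∧ y * (i * s) * y⁻¹ = i * i * (i * s) ∧ x ^ 3 = 1 ∧ y ^ 3 = 1 ∧ i * x * (i * x) = s ∧ i * y * (i * y) = i * s ∧ i * s ≠ 1 ∧ i * i ≠ i * s :=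
  have h : InS R MA_lN (i) ∧ ¬ InS R MA_lN (s) ∧ InS R MA_lP (a) ∧ a ≠ 1 ∧ i * i * (i * i) = 1 ∧ s * s = 1 ∧ s * i * s⁻¹ = i⁻¹ ∧ i * i ≠ 1 ∧ s ≠ 1 ∧ i * i ≠ s ∧ x * (i * i) * x⁻¹ = s ∧ x * s * x⁻¹ = i * i * s ∧ y * (i * i) * y⁻¹ = i * s ∧ y * (i * s) * y⁻¹ = i * i * (i * s) ∧ x ^ 3 = 1 ∧ y ^ 3 = 1 ∧ i * x * (i * x) = s ∧ i * y * (i * y) = i * s ∧ i * s ≠ 1 ∧ i * i ≠ i * s :=
    Fm.sound M.μ MA_e_F MA_e_chk M.reps
  ((and_congr (MA_lN_E M).iff (and_congr (not_congr (MA_lN_E M).iff) (and_congr (MA_lP_E M).iff Iff.rfl))).1 h)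
noncomputable def MA_iv_F : Fm := (.allS MA_lP (.qf (.eq (.mul (.mul (.mul (.mul (.v (nat_lit 11)) (.v (nat_lit 11))) (.v (nat_lit 0))) (.inv (.mul (.v (nat_lit 11)) (.v (nat_lit 11))))) (.v (nat_lit 0))) .one)))
theorem MA_iv_chk : Fm.chk A6_o MA_iv_F MA_cs = true := by decide +kernel
theorem MA_iv {G : Type*} [Group G] {R : ℕ → G → Prop} {p q v w a b i s x y : G} {H : Subgroup G}
    (M : Mdl A6_o MA_cs A6_L R [p, p⁻¹, q, q⁻¹, v, v⁻¹, w, w⁻¹, a, b, i, s, x, y] H) :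
    ∀ u ∈ sp [a, b], i * i * u * (i * i)⁻¹ * u = 1 :=
  have h : ∀ u, InS R MA_lP u → i * i * u * (i * i)⁻¹ * u = 1 :=
    Fm.sound M.μ MA_iv_F MA_iv_chk M.reps
  (fun u h0 => (h u ((MA_lP_E M).iff.2 h0)))
noncomputable def MA_ct_F : Fm := (.all A6_L (.imp (.eq (.mul (.v (nat_lit 0)) (.mul (.v (nat_lit 11)) (.v (nat_lit 11)))) (.mul (.mul (.v (nat_lit 11)) (.v (nat_lit 11))) (.v (nat_lit 0)))) (.qf (.eq (.pw (.v (nat_lit 0)) (nat_lit 4)) .one))))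
theorem MA_ct_chk : Fm.chk A6_o MA_ct_F MA_cs = true := by decide +kernel
theorem MA_ct {G : Type*} [Group G] {R : ℕ → G → Prop} {p q v w a b i s x y : G} {H : Subgroup G}
    (M : Mdl A6_o MA_cs A6_L R [p, p⁻¹, q, q⁻¹, v, v⁻¹, w, w⁻¹, a, b, i, s, x, y] H) :
    ∀ g ∈ H, g * (i * i) = i * i * g → g ^ 4 = 1 :=
  have h : ∀ g, InL A6_o R A6_L g → g * (i * i) = i * i * g → g ^ 4 = 1 :=
    Fm.sound M.μ MA_ct_F MA_ct_chk M.reps
  (fun g h0 => (h g (M.H.iff.2 h0)))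
noncomputable def MA_gen_F : Fm := (.all A6_L (.qf (.mem (.v (nat_lit 0)) MA_lG)))
theorem MA_gen_chk : Fm.chk A6_o MA_gen_F MA_cs = true := by decide +kernel
theorem MA_gen {G : Type*} [Group G] {R : ℕ → G → Prop} {p q v w a b i s x y : G} {H : Subgroup G}
    (M : Mdl A6_o MA_cs A6_L R [p, p⁻¹, q, q⁻¹, v, v⁻¹, w, w⁻¹, a, b, i, s, x, y] H) :
    ∀ g ∈ H, g ∈ sp [x, y, i, s] :=
  have h : ∀ g, InL A6_o R A6_L g → InS R MA_lG (g) :=
    Fm.sound M.μ MA_gen_F MA_gen_chk M.reps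
  (fun g h0 => ((MA_lG_E M).iff.1 (h g (M.H.iff.2 h0))))
noncomputable def MA_inv_t0 : ST := (.node (nat_lit 2704) (.node (nat_lit 1052) (.node (nat_lit 332) (.node (nat_lit 154) (.node (nat_lit 76) (.node (nat_lit 37) (.node (nat_lit 34) (.leaf (nat_lit 0)) (.leaf (nat_lit 6))) (.node (nat_lit 44) (.leaf (nat_lit 0)) (.leaf (nat_lit 1)))) (.node (nat_lit 105) (.node (nat_lit 93) (.leaf (nat_lit 0)) (.leaf (nat_lit 1))) (.node (nat_lit 145) (.leaf (nat_lit 0)) (.node (nat_lit 152) (.leaf (nat_lit 6)) (.leaf (nat_lit 1)))))) (.node (nat_lit 259) (.node (nat_lit 194) (.node (nat_lit 163) (.leaf (nat_lit 0)) (.leaf (nat_lit 1))) (.node (nat_lit 227) (.leaf (nat_lit 0)) (.node (nat_lit 233) (.leaf (nat_lit 6)) (.leaf (nat_lit 0))))) (.node (nat_lit 266) (.node (nat_lit 261) (.leaf (nat_lit 6)) (.leaf (nat_lit 0))) (.node (nat_lit 284) (.leaf (nat_lit 1)) (.node (nat_lit 324) (.leaf (nat_lit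 0)) (.leaf (nat_lit 1))))))) (.node (nat_lit 812) (.node (nat_lit 716) (.node (nat_lit 354) (.node (nat_lit 348) (.leaf (nat_lit 0)) (.leaf (nat_lit 1))) (.node (nat_lit 520) (.leaf (nat_lit 0)) (.node (nat_lit 523) (.leaf (nat_lit 1)) (.leaf (nat_lit 0))))) (.node (nat_lit 784) (.node (nat_lit 728) (.leaf (nat_lit 1)) (.leaf (nat_lit 0))) (.node (nat_lit 788) (.leaf (nat_lit 6)) (.node (nat_lit 800) (.leaf (nat_lit 0)) (.leaf (nat_lit 6)))))) (.node (nat_lit 908) (.node (nat_lit 865) (.node (nat_lit 856) (.leaf (nat_lit 0)) (.leaf (nat_lit 1))) (.node (nat_lit 866) (.leaf (nat_lit 6)) (.node (nat_lit 875) (.leaf (nat_lit 0)) (.leaf (nat_lit 6))))) (.node (nat_lit 924) (.node (nat_lit 915) (.leaf (nat_lit 0)) (.leaf (nat_lit 6))) (.node (nat_lit 972) (.leaf (nat_lit 0)) (.node (nat_lit 973) (.leaf (nat_lit 1)) (.leaf (nat_lit 0)))))))) (.node (nat_lit 2069) (.node (nat_lit 1515) (.node (nat_lit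 1187) (.node (nat_lit 1123) (.node (nat_lit 1064) (.leaf (nat_lit 1)) (.leaf (nat_lit 0))) (.node (nat_lit 1169) (.leaf (nat_lit 1)) (.leaf (nat_lit 0)))) (.node (nat_lit 1355) (.node (nat_lit 1194) (.leaf (nat_lit 6)) (.leaf (nat_lit 0))) (.node (nat_lit 1357) (.leaf (nat_lit 6)) (.node (nat_lit 1504) (.leaf (nat_lit 0)) (.leaf (nat_lit 6)))))) (.node (nat_lit 1817) (.node (nat_lit 1570) (.node (nat_lit 1564) (.leaf (nat_lit 0)) (.leaf (nat_lit 6))) (.node (nat_lit 1749) (.leaf (nat_lit 0)) (.node (nat_lit 1760) (.leaf (nat_lit 1)) (.leaf (nat_lit 0))))) (.node (nat_lit 1826) (.node (nat_lit 1824) (.leaf (nat_lit 1)) (.leaf (nat_lit 0))) (.node (nat_lit 1889) (.leaf (nat_lit 6)) (.node (nat_lit 2004) (.leaf (nat_lit 0)) (.leaf (nat_lit 1))))))) (.node (nat_lit 2540) (.node (nat_lit 2373) (.node (nat_lit 2153) (.node (nat_lit 2149) (.leaf (nat_lit 0)) (.leaf (nat_lit 6))) (.node (nat_lit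 2219) (.leaf (nat_lit 0)) (.node (nat_lit 2273) (.leaf (nat_lit 6)) (.leaf (nat_lit 0))))) (.node (nat_lit 2466) (.node (nat_lit 2384) (.leaf (nat_lit 1)) (.leaf (nat_lit 0))) (.node (nat_lit 2473) (.leaf (nat_lit 6)) (.node (nat_lit 2513) (.leaf (nat_lit 1)) (.leaf (nat_lit 0)))))) (.node (nat_lit 2602) (.node (nat_lit 2589) (.node (nat_lit 2562) (.leaf (nat_lit 1)) (.leaf (nat_lit 0))) (.node (nat_lit 2593) (.leaf (nat_lit 1)) (.node (nat_lit 2595) (.leaf (nat_lit 6)) (.leaf (nat_lit 0))))) (.node (nat_lit 2628) (.node (nat_lit 2604) (.leaf (nat_lit 1)) (.leaf (nat_lit 0))) (.node (nat_lit 2632) (.leaf (nat_lit 1)) (.node (nat_lit 2691) (.leaf (nat_lit 0)) (.leaf (nat_lit 6))))))))) (.node (nat_lit 4012) (.node (nat_lit 3473) (.node (nat_lit 3020) (.node (nat_lit 2858) (.node (nat_lit 2709) (.node (nat_lit 2707) (.leaf (nat_lit 0)) (.leaf (nat_lit 6))) (.node (nat_lit 2856) (.leaf (nat_lit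 0)) (.leaf (nat_lit 1)))) (.node (nat_lit 2922) (.node (nat_lit 2906) (.leaf (nat_lit 0)) (.leaf (nat_lit 1))) (.node (nat_lit 2949) (.leaf (nat_lit 0)) (.node (nat_lit 2955) (.leaf (nat_lit 6)) (.leaf (nat_lit 0)))))) (.node (nat_lit 3178) (.node (nat_lit 3083) (.node (nat_lit 3025) (.leaf (nat_lit 1)) (.leaf (nat_lit 0))) (.node (nat_lit 3096) (.leaf (nat_lit 6)) (.node (nat_lit 3160) (.leaf (nat_lit 0)) (.leaf (nat_lit 1))))) (.node (nat_lit 3365) (.node (nat_lit 3347) (.leaf (nat_lit 0)) (.leaf (nat_lit 6))) (.node (nat_lit 3427) (.leaf (nat_lit 0)) (.node (nat_lit 3429) (.leaf (nat_lit 1)) (.leaf (nat_lit 0))))))) (.node (nat_lit 3725) (.node (nat_lit 3546) (.node (nat_lit 3498) (.node (nat_lit 3476) (.leaf (nat_lit 1)) (.leaf (nat_lit 0))) (.node (nat_lit 3522) (.leaf (nat_lit 6)) (.node (nat_lit 3540) (.leaf (nat_lit 0)) (.leaf (nat_lit 1))))) (.node (nat_lit 3628) (.node (nat_lit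 3621) (.leaf (nat_lit 0)) (.leaf (nat_lit 6))) (.node (nat_lit 3691) (.leaf (nat_lit 0)) (.node (nat_lit 3723) (.leaf (nat_lit 6)) (.leaf (nat_lit 0)))))) (.node (nat_lit 3865) (.node (nat_lit 3740) (.node (nat_lit 3736) (.leaf (nat_lit 1)) (.leaf (nat_lit 0))) (.node (nat_lit 3789) (.leaf (nat_lit 6)) (.node (nat_lit 3856) (.leaf (nat_lit 0)) (.leaf (nat_lit 1))))) (.node (nat_lit 3947) (.node (nat_lit 3936) (.leaf (nat_lit 0)) (.leaf (nat_lit 6))) (.node (nat_lit 3970) (.leaf (nat_lit 0)) (.node (nat_lit 3981) (.leaf (nat_lit 6)) (.leaf (nat_lit 0)))))))) (.node (nat_lit 4444) (.node (nat_lit 4098) (.node (nat_lit 4052) (.node (nat_lit 4045) (.node (nat_lit 4034) (.leaf (nat_lit 1)) (.leaf (nat_lit 0))) (.node (nat_lit 4049) (.leaf (nat_lit 6)) (.leaf (nat_lit 0)))) (.node (nat_lit 4061) (.node (nat_lit 4056) (.leaf (nat_lit 1)) (.leaf (nat_lit 0))) (.node (nat_lit 4065) (.leaf (nat_lit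 1)) (.node (nat_lit 4097) (.leaf (nat_lit 0)) (.leaf (nat_lit 1)))))) (.node (nat_lit 4264) (.node (nat_lit 4163) (.node (nat_lit 4131) (.leaf (nat_lit 0)) (.leaf (nat_lit 1))) (.node (nat_lit 4226) (.leaf (nat_lit 0)) (.node (nat_lit 4229) (.leaf (nat_lit 1)) (.leaf (nat_lit 0))))) (.node (nat_lit 4309) (.node (nat_lit 4267) (.leaf (nat_lit 6)) (.leaf (nat_lit 0))) (.node (nat_lit 4316) (.leaf (nat_lit 6)) (.node (nat_lit 4442) (.leaf (nat_lit 0)) (.leaf (nat_lit 1))))))) (.node (nat_lit 4954) (.node (nat_lit 4834) (.node (nat_lit 4769) (.node (nat_lit 4481) (.leaf (nat_lit 6)) (.leaf (nat_lit 0))) (.node (nat_lit 4776) (.leaf (nat_lit 6)) (.node (nat_lit 4825) (.leaf (nat_lit 0)) (.leaf (nat_lit 1))))) (.node (nat_lit 4905) (.node (nat_lit 4867) (.leaf (nat_lit 0)) (.leaf (nat_lit 6))) (.node (nat_lit 4932) (.leaf (nat_lit 0)) (.node (nat_lit 4939) (.leaf (nat_lit 1)) (.leaf (nat_lit 0))))))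 (.node (nat_lit 5130) (.node (nat_lit 5066) (.node (nat_lit 5000) (.leaf (nat_lit 1)) (.leaf (nat_lit 0))) (.node (nat_lit 5072) (.leaf (nat_lit 6)) (.node (nat_lit 5081) (.leaf (nat_lit 0)) (.leaf (nat_lit 1))))) (.node (nat_lit 5154) (.node (nat_lit 5148) (.leaf (nat_lit 0)) (.leaf (nat_lit 1))) (.node (nat_lit 5259) (.leaf (nat_lit 0)) (.node (nat_lit 5261) (.leaf (nat_lit 6)) (.leaf (nat_lit 0))))))))))
noncomputable def MA_inv_t1 : ST := (.node (nat_lit 1997) (.node (nat_lit 850) (.node (nat_lit 314) (.node (nat_lit 114) (.node (nat_lit 71) (.node (nat_lit 14) (.leaf (nat_lit 1)) (.node (nat_lit 41) (.leaf (nat_lit 6)) (.leaf (nat_lit 1)))) (.node (nat_lit 96) (.node (nat_lit 75) (.leaf (nat_lit 6)) (.leaf (nat_lit 1))) (.node (nat_lit 104) (.leaf (nat_lit 6)) (.leaf (nat_lit 1))))) (.node (nat_lit 220) (.node (nat_lit 190) (.node (nat_lit 125) (.leaf (nat_lit 6)) (.leaf (nat_lit 1)))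 (.node (nat_lit 205) (.leaf (nat_lit 6)) (.leaf (nat_lit 1)))) (.node (nat_lit 239) (.node (nat_lit 234) (.leaf (nat_lit 6)) (.leaf (nat_lit 1))) (.node (nat_lit 254) (.leaf (nat_lit 6)) (.leaf (nat_lit 1)))))) (.node (nat_lit 420) (.node (nat_lit 363) (.node (nat_lit 324) (.node (nat_lit 318) (.leaf (nat_lit 6)) (.leaf (nat_lit 1))) (.node (nat_lit 334) (.leaf (nat_lit 6)) (.leaf (nat_lit 1)))) (.node (nat_lit 403) (.node (nat_lit 384) (.leaf (nat_lit 6)) (.leaf (nat_lit 1))) (.node (nat_lit 409) (.leaf (nat_lit 6)) (.leaf (nat_lit 1))))) (.node (nat_lit 459) (.node (nat_lit 450) (.node (nat_lit 442) (.leaf (nat_lit 6)) (.leaf (nat_lit 1))) (.node (nat_lit 458) (.leaf (nat_lit 6)) (.leaf (nat_lit 1)))) (.node (nat_lit 511) (.node (nat_lit 477) (.leaf (nat_lit 6)) (.leaf (nat_lit 1))) (.node (nat_lit 558) (.leaf (nat_lit 6)) (.leaf (nat_lit 1))))))) (.node (nat_lit 1573) (.node (nat_lit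 1150) (.node (nat_lit 940) (.node (nat_lit 902) (.node (nat_lit 863) (.leaf (nat_lit 6)) (.leaf (nat_lit 1))) (.node (nat_lit 910) (.leaf (nat_lit 6)) (.leaf (nat_lit 1)))) (.node (nat_lit 1030) (.node (nat_lit 980) (.leaf (nat_lit 6)) (.leaf (nat_lit 1))) (.node (nat_lit 1062) (.leaf (nat_lit 6)) (.leaf (nat_lit 1))))) (.node (nat_lit 1393) (.node (nat_lit 1162) (.node (nat_lit 1160) (.leaf (nat_lit 6)) (.leaf (nat_lit 1))) (.node (nat_lit 1206) (.leaf (nat_lit 6)) (.leaf (nat_lit 1)))) (.node (nat_lit 1457) (.node (nat_lit 1447) (.leaf (nat_lit 6)) (.leaf (nat_lit 1))) (.node (nat_lit 1546) (.leaf (nat_lit 6)) (.leaf (nat_lit 1)))))) (.node (nat_lit 1811) (.node (nat_lit 1719) (.node (nat_lit 1656) (.node (nat_lit 1632) (.leaf (nat_lit 6)) (.leaf (nat_lit 1))) (.node (nat_lit 1673) (.leaf (nat_lit 6)) (.leaf (nat_lit 1)))) (.node (nat_lit 1800) (.node (nat_lit 1731) (.leaf (nat_lit 6))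 (.leaf (nat_lit 1))) (.node (nat_lit 1809) (.leaf (nat_lit 6)) (.leaf (nat_lit 1))))) (.node (nat_lit 1902) (.node (nat_lit 1859) (.node (nat_lit 1853) (.leaf (nat_lit 6)) (.leaf (nat_lit 1))) (.node (nat_lit 1901) (.leaf (nat_lit 6)) (.leaf (nat_lit 1)))) (.node (nat_lit 1954) (.node (nat_lit 1948) (.leaf (nat_lit 6)) (.leaf (nat_lit 1))) (.node (nat_lit 1970) (.leaf (nat_lit 6)) (.leaf (nat_lit 1)))))))) (.node (nat_lit 3688) (.node (nat_lit 2815) (.node (nat_lit 2376) (.node (nat_lit 2125) (.node (nat_lit 2090) (.node (nat_lit 2028) (.leaf (nat_lit 6)) (.leaf (nat_lit 1))) (.node (nat_lit 2115) (.leaf (nat_lit 6)) (.leaf (nat_lit 1)))) (.node (nat_lit 2154) (.node (nat_lit 2140) (.leaf (nat_lit 6)) (.leaf (nat_lit 1))) (.node (nat_lit 2319) (.leaf (nat_lit 6)) (.leaf (nat_lit 1))))) (.node (nat_lit 2700) (.node (nat_lit 2454) (.node (nat_lit 2398) (.leaf (nat_lit 6)) (.leaf (nat_lit 1)))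 (.node (nat_lit 2494) (.leaf (nat_lit 6)) (.leaf (nat_lit 1)))) (.node (nat_lit 2781) (.node (nat_lit 2706) (.leaf (nat_lit 6)) (.leaf (nat_lit 1))) (.node (nat_lit 2783) (.leaf (nat_lit 6)) (.leaf (nat_lit 1)))))) (.node (nat_lit 3337) (.node (nat_lit 3020) (.node (nat_lit 2966) (.node (nat_lit 2828) (.leaf (nat_lit 6)) (.leaf (nat_lit 1))) (.node (nat_lit 2992) (.leaf (nat_lit 6)) (.leaf (nat_lit 1)))) (.node (nat_lit 3160) (.node (nat_lit 3033) (.leaf (nat_lit 6)) (.leaf (nat_lit 1))) (.node (nat_lit 3298) (.leaf (nat_lit 6)) (.leaf (nat_lit 1))))) (.node (nat_lit 3584) (.node (nat_lit 3495) (.node (nat_lit 3374) (.leaf (nat_lit 6)) (.leaf (nat_lit 1))) (.node (nat_lit 3529) (.leaf (nat_lit 6)) (.leaf (nat_lit 1)))) (.node (nat_lit 3620) (.node (nat_lit 3612) (.leaf (nat_lit 6)) (.leaf (nat_lit 1))) (.node (nat_lit 3663) (.leaf (nat_lit 6)) (.leaf (nat_lit 1))))))) (.node (nat_lit 4211)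 (.node (nat_lit 4036) (.node (nat_lit 3844) (.node (nat_lit 3736) (.node (nat_lit 3727) (.leaf (nat_lit 6)) (.leaf (nat_lit 1))) (.node (nat_lit 3742) (.leaf (nat_lit 6)) (.leaf (nat_lit 1)))) (.node (nat_lit 3937) (.node (nat_lit 3872) (.leaf (nat_lit 6)) (.leaf (nat_lit 1))) (.node (nat_lit 3973) (.leaf (nat_lit 6)) (.leaf (nat_lit 1))))) (.node (nat_lit 4107) (.node (nat_lit 4052) (.node (nat_lit 4042) (.leaf (nat_lit 6)) (.leaf (nat_lit 1))) (.node (nat_lit 4055) (.leaf (nat_lit 6)) (.leaf (nat_lit 1)))) (.node (nat_lit 4177) (.node (nat_lit 4163) (.leaf (nat_lit 6)) (.leaf (nat_lit 1))) (.node (nat_lit 4184) (.leaf (nat_lit 6)) (.leaf (nat_lit 1)))))) (.node (nat_lit 4610) (.node (nat_lit 4378) (.node (nat_lit 4266) (.node (nat_lit 4238) (.leaf (nat_lit 6)) (.leaf (nat_lit 1))) (.node (nat_lit 4307) (.leaf (nat_lit 6)) (.leaf (nat_lit 1)))) (.node (nat_lit 4458) (.node (nat_lit 4451)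 (.leaf (nat_lit 6)) (.leaf (nat_lit 1))) (.node (nat_lit 4528) (.leaf (nat_lit 6)) (.leaf (nat_lit 1))))) (.node (nat_lit 4759) (.node (nat_lit 4658) (.node (nat_lit 4622) (.leaf (nat_lit 6)) (.leaf (nat_lit 1))) (.node (nat_lit 4713) (.leaf (nat_lit 6)) (.leaf (nat_lit 1)))) (.node (nat_lit 5001) (.node (nat_lit 4766) (.leaf (nat_lit 6)) (.leaf (nat_lit 1))) (.node (nat_lit 5084) (.leaf (nat_lit 6)) (.leaf (nat_lit 1)))))))))
noncomputable def MA_inv_t2 : ST := (.node (nat_lit 4414) (.node (nat_lit 2038) (.node (nat_lit 946) (.node (nat_lit 547) (.node (nat_lit 258) (.node (nat_lit 196) (.node (nat_lit 51) (.leaf (nat_lit 4)) (.node (nat_lit 164) (.leaf (nat_lit 3)) (.leaf (nat_lit 2)))) (.node (nat_lit 223) (.leaf (nat_lit 0)) (.node (nat_lit 248) (.leaf (nat_lit 2)) (.leaf (nat_lit 4))))) (.node (nat_lit 295) (.node (nat_lit 270) (.leaf (nat_lit 2)) (.node (nat_lit 273) (.leaf (nat_lit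 1)) (.leaf (nat_lit 2)))) (.node (nat_lit 440) (.node (nat_lit 351) (.leaf (nat_lit 7)) (.leaf (nat_lit 5))) (.node (nat_lit 452) (.leaf (nat_lit 7)) (.leaf (nat_lit 5)))))) (.node (nat_lit 651) (.node (nat_lit 574) (.node (nat_lit 565) (.leaf (nat_lit 1)) (.node (nat_lit 567) (.leaf (nat_lit 0)) (.leaf (nat_lit 2)))) (.node (nat_lit 629) (.leaf (nat_lit 5)) (.node (nat_lit 649) (.leaf (nat_lit 4)) (.leaf (nat_lit 0))))) (.node (nat_lit 778) (.node (nat_lit 657) (.leaf (nat_lit 5)) (.node (nat_lit 678) (.leaf (nat_lit 4)) (.leaf (nat_lit 0)))) (.node (nat_lit 859) (.node (nat_lit 810) (.leaf (nat_lit 2)) (.leaf (nat_lit 5))) (.node (nat_lit 874) (.leaf (nat_lit 4)) (.leaf (nat_lit 2))))))) (.node (nat_lit 1357) (.node (nat_lit 1127) (.node (nat_lit 984) (.node (nat_lit 966) (.leaf (nat_lit 0)) (.node (nat_lit 968) (.leaf (nat_lit 4)) (.leaf (nat_lit 1)))) (.node (nat_lit 1036) (.leaf (nat_lit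 4)) (.node (nat_lit 1058) (.leaf (nat_lit 2)) (.leaf (nat_lit 0))))) (.node (nat_lit 1202) (.node (nat_lit 1141) (.leaf (nat_lit 4)) (.node (nat_lit 1148) (.leaf (nat_lit 2)) (.leaf (nat_lit 0)))) (.node (nat_lit 1244) (.node (nat_lit 1223) (.leaf (nat_lit 7)) (.leaf (nat_lit 0))) (.node (nat_lit 1265) (.leaf (nat_lit 7)) (.leaf (nat_lit 4)))))) (.node (nat_lit 1630) (.node (nat_lit 1562) (.node (nat_lit 1461) (.leaf (nat_lit 5)) (.node (nat_lit 1519) (.leaf (nat_lit 0)) (.leaf (nat_lit 3)))) (.node (nat_lit 1610) (.node (nat_lit 1567) (.leaf (nat_lit 5)) (.leaf (nat_lit 2))) (.node (nat_lit 1625) (.leaf (nat_lit 1)) (.leaf (nat_lit 0))))) (.node (nat_lit 1750) (.node (nat_lit 1735) (.leaf (nat_lit 2)) (.node (nat_lit 1737) (.leaf (nat_lit 0)) (.leaf (nat_lit 5)))) (.node (nat_lit 1907) (.node (nat_lit 1779) (.leaf (nat_lit 7)) (.leaf (nat_lit 2))) (.node (nat_lit 2032) (.leaf (nat_lit 0))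 (.leaf (nat_lit 5)))))))) (.node (nat_lit 3294) (.node (nat_lit 2505) (.node (nat_lit 2226) (.node (nat_lit 2174) (.node (nat_lit 2072) (.leaf (nat_lit 0)) (.node (nat_lit 2172) (.leaf (nat_lit 2)) (.leaf (nat_lit 4)))) (.node (nat_lit 2197) (.leaf (nat_lit 2)) (.node (nat_lit 2205) (.leaf (nat_lit 4)) (.leaf (nat_lit 2))))) (.node (nat_lit 2339) (.node (nat_lit 2253) (.leaf (nat_lit 4)) (.node (nat_lit 2299) (.leaf (nat_lit 0)) (.leaf (nat_lit 1)))) (.node (nat_lit 2452) (.node (nat_lit 2425) (.leaf (nat_lit 0)) (.leaf (nat_lit 5))) (.node (nat_lit 2493) (.leaf (nat_lit 0)) (.leaf (nat_lit 5)))))) (.node (nat_lit 2967) (.node (nat_lit 2672) (.node (nat_lit 2553) (.leaf (nat_lit 0)) (.node (nat_lit 2584) (.leaf (nat_lit 4)) (.leaf (nat_lit 0)))) (.node (nat_lit 2868) (.node (nat_lit 2759) (.leaf (nat_lit 4)) (.leaf (nat_lit 1))) (.node (nat_lit 2945) (.leaf (nat_lit 4)) (.leaf (nat_lit 2)))))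 (.node (nat_lit 3110) (.node (nat_lit 2989) (.leaf (nat_lit 0)) (.node (nat_lit 3086) (.leaf (nat_lit 2)) (.leaf (nat_lit 0)))) (.node (nat_lit 3153) (.node (nat_lit 3118) (.leaf (nat_lit 2)) (.leaf (nat_lit 0))) (.node (nat_lit 3202) (.leaf (nat_lit 7)) (.leaf (nat_lit 2))))))) (.node (nat_lit 3971) (.node (nat_lit 3579) (.node (nat_lit 3447) (.node (nat_lit 3361) (.leaf (nat_lit 0)) (.node (nat_lit 3386) (.leaf (nat_lit 2)) (.leaf (nat_lit 3)))) (.node (nat_lit 3502) (.leaf (nat_lit 0)) (.node (nat_lit 3557) (.leaf (nat_lit 2)) (.leaf (nat_lit 4))))) (.node (nat_lit 3816) (.node (nat_lit 3683) (.leaf (nat_lit 0)) (.node (nat_lit 3791) (.leaf (nat_lit 1)) (.leaf (nat_lit 4)))) (.node (nat_lit 3895) (.node (nat_lit 3890) (.leaf (nat_lit 2)) (.leaf (nat_lit 4))) (.node (nat_lit 3960) (.leaf (nat_lit 0)) (.leaf (nat_lit 2)))))) (.node (nat_lit 4257) (.node (nat_lit 4123) (.node (nat_lit 4009)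 (.leaf (nat_lit 0)) (.node (nat_lit 4090) (.leaf (nat_lit 5)) (.leaf (nat_lit 3)))) (.node (nat_lit 4185) (.node (nat_lit 4138) (.leaf (nat_lit 2)) (.leaf (nat_lit 3))) (.node (nat_lit 4217) (.leaf (nat_lit 5)) (.leaf (nat_lit 2))))) (.node (nat_lit 4299) (.node (nat_lit 4276) (.leaf (nat_lit 1)) (.node (nat_lit 4287) (.leaf (nat_lit 5)) (.leaf (nat_lit 7)))) (.node (nat_lit 4336) (.node (nat_lit 4308) (.leaf (nat_lit 2)) (.leaf (nat_lit 5))) (.node (nat_lit 4401) (.leaf (nat_lit 7)) (.leaf (nat_lit 4))))))))) (.node (nat_lit 6987) (.node (nat_lit 5765) (.node (nat_lit 5171) (.node (nat_lit 4707) (.node (nat_lit 4658) (.node (nat_lit 4491) (.leaf (nat_lit 0)) (.node (nat_lit 4595) (.leaf (nat_lit 7)) (.leaf (nat_lit 5)))) (.node (nat_lit 4678) (.leaf (nat_lit 3)) (.node (nat_lit 4690) (.leaf (nat_lit 5)) (.leaf (nat_lit 2))))) (.node (nat_lit 5012) (.node (nat_lit 4728) (.leaf (nat_lit 3))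 (.node (nat_lit 4764) (.leaf (nat_lit 2)) (.leaf (nat_lit 5)))) (.node (nat_lit 5043) (.node (nat_lit 5023) (.leaf (nat_lit 2)) (.leaf (nat_lit 5))) (.node (nat_lit 5112) (.leaf (nat_lit 3)) (.leaf (nat_lit 0)))))) (.node (nat_lit 5530) (.node (nat_lit 5324) (.node (nat_lit 5250) (.leaf (nat_lit 2)) (.node (nat_lit 5321) (.leaf (nat_lit 0)) (.leaf (nat_lit 7)))) (.node (nat_lit 5405) (.node (nat_lit 5396) (.leaf (nat_lit 0)) (.leaf (nat_lit 4))) (.node (nat_lit 5498) (.leaf (nat_lit 0)) (.leaf (nat_lit 4))))) (.node (nat_lit 5664) (.node (nat_lit 5621) (.leaf (nat_lit 0)) (.node (nat_lit 5651) (.leaf (nat_lit 2)) (.leaf (nat_lit 0)))) (.node (nat_lit 5706) (.node (nat_lit 5687) (.leaf (nat_lit 2)) (.leaf (nat_lit 0))) (.node (nat_lit 5716) (.leaf (nat_lit 2)) (.leaf (nat_lit 4))))))) (.node (nat_lit 6430) (.node (nat_lit 6079) (.node (nat_lit 5937) (.node (nat_lit 5825) (.leaf (nat_lit 5))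 (.node (nat_lit 5895) (.leaf (nat_lit 7)) (.leaf (nat_lit 3)))) (.node (nat_lit 6000) (.leaf (nat_lit 4)) (.node (nat_lit 6058) (.leaf (nat_lit 0)) (.leaf (nat_lit 4))))) (.node (nat_lit 6280) (.node (nat_lit 6092) (.leaf (nat_lit 0)) (.node (nat_lit 6113) (.leaf (nat_lit 3)) (.leaf (nat_lit 4)))) (.node (nat_lit 6357) (.node (nat_lit 6318) (.leaf (nat_lit 2)) (.leaf (nat_lit 4))) (.node (nat_lit 6427) (.leaf (nat_lit 3)) (.leaf (nat_lit 0)))))) (.node (nat_lit 6664) (.node (nat_lit 6493) (.node (nat_lit 6462) (.leaf (nat_lit 4)) (.node (nat_lit 6484) (.leaf (nat_lit 0)) (.leaf (nat_lit 1)))) (.node (nat_lit 6520) (.node (nat_lit 6512) (.leaf (nat_lit 4)) (.leaf (nat_lit 3))) (.node (nat_lit 6535) (.leaf (nat_lit 5)) (.leaf (nat_lit 2))))) (.node (nat_lit 6871) (.node (nat_lit 6666) (.leaf (nat_lit 0)) (.node (nat_lit 6697) (.leaf (nat_lit 7)) (.leaf (nat_lit 0)))) (.node (nat_lit 6959)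 (.node (nat_lit 6878) (.leaf (nat_lit 5)) (.leaf (nat_lit 0))) (.node (nat_lit 6973) (.leaf (nat_lit 3)) (.leaf (nat_lit 2)))))))) (.node (nat_lit 7618) (.node (nat_lit 7229) (.node (nat_lit 7051) (.node (nat_lit 7006) (.node (nat_lit 6996) (.leaf (nat_lit 1)) (.node (nat_lit 6997) (.leaf (nat_lit 4)) (.leaf (nat_lit 0)))) (.node (nat_lit 7013) (.leaf (nat_lit 5)) (.node (nat_lit 7024) (.leaf (nat_lit 0)) (.leaf (nat_lit 5))))) (.node (nat_lit 7134) (.node (nat_lit 7055) (.leaf (nat_lit 0)) (.node (nat_lit 7125) (.leaf (nat_lit 2)) (.leaf (nat_lit 4)))) (.node (nat_lit 7169) (.node (nat_lit 7135) (.leaf (nat_lit 5)) (.leaf (nat_lit 7))) (.node (nat_lit 7226) (.leaf (nat_lit 0)) (.leaf (nat_lit 1)))))) (.node (nat_lit 7478) (.node (nat_lit 7303) (.node (nat_lit 7262) (.leaf (nat_lit 3)) (.node (nat_lit 7292) (.leaf (nat_lit 1)) (.leaf (nat_lit 2)))) (.node (nat_lit 7411) (.node (nat_lit 7382)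 (.leaf (nat_lit 5)) (.leaf (nat_lit 2))) (.node (nat_lit 7452) (.leaf (nat_lit 0)) (.leaf (nat_lit 2))))) (.node (nat_lit 7530) (.node (nat_lit 7481) (.leaf (nat_lit 0)) (.node (nat_lit 7503) (.leaf (nat_lit 2)) (.leaf (nat_lit 0)))) (.node (nat_lit 7600) (.node (nat_lit 7555) (.leaf (nat_lit 5)) (.leaf (nat_lit 0))) (.node (nat_lit 7610) (.leaf (nat_lit 4)) (.leaf (nat_lit 0))))))) (.node (nat_lit 8244) (.node (nat_lit 7878) (.node (nat_lit 7785) (.node (nat_lit 7667) (.leaf (nat_lit 2)) (.node (nat_lit 7747) (.leaf (nat_lit 1)) (.leaf (nat_lit 4)))) (.node (nat_lit 7805) (.leaf (nat_lit 5)) (.node (nat_lit 7845) (.leaf (nat_lit 2)) (.leaf (nat_lit 0))))) (.node (nat_lit 7951) (.node (nat_lit 7897) (.leaf (nat_lit 2)) (.node (nat_lit 7949) (.leaf (nat_lit 0)) (.leaf (nat_lit 2)))) (.node (nat_lit 8219) (.node (nat_lit 7967) (.leaf (nat_lit 5)) (.leaf (nat_lit 0))) (.node (nat_lit 8228)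 (.leaf (nat_lit 4)) (.leaf (nat_lit 1)))))) (.node (nat_lit 8330) (.node (nat_lit 8294) (.node (nat_lit 8274) (.leaf (nat_lit 0)) (.node (nat_lit 8284) (.leaf (nat_lit 7)) (.leaf (nat_lit 1)))) (.node (nat_lit 8321) (.node (nat_lit 8298) (.leaf (nat_lit 5)) (.leaf (nat_lit 1))) (.node (nat_lit 8323) (.leaf (nat_lit 0)) (.leaf (nat_lit 7))))) (.node (nat_lit 8390) (.node (nat_lit 8336) (.leaf (nat_lit 5)) (.node (nat_lit 8375) (.leaf (nat_lit 2)) (.leaf (nat_lit 3)))) (.node (nat_lit 8457) (.node (nat_lit 8426) (.leaf (nat_lit 4)) (.leaf (nat_lit 5))) (.node (nat_lit 8467) (.leaf (nat_lit 4)) (.leaf (nat_lit 2))))))))))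
noncomputable def MA_inv_t3 : ST := (.node (nat_lit 2017) (.node (nat_lit 969) (.node (nat_lit 547) (.node (nat_lit 237) (.node (nat_lit 115) (.node (nat_lit 64) (.node (nat_lit 45) (.leaf (nat_lit 0)) (.leaf (nat_lit 1))) (.node (nat_lit 69) (.leaf (nat_lit 0)) (.leaf (nat_lit 1)))) (.node (nat_lit 193) (.node (nat_lit 192) (.leaf (nat_lit 0)) (.leaf (nat_lit 1))) (.node (nat_lit 225) (.leaf (nat_lit 0)) (.leaf (nat_lit 1))))) (.node (nat_lit 360) (.node (nat_lit 329) (.node (nat_lit 314) (.leaf (nat_lit 0)) (.leaf (nat_lit 1))) (.node (nat_lit 346) (.leaf (nat_lit 0)) (.leaf (nat_lit 1)))) (.node (nat_lit 418) (.node (nat_lit 405) (.leaf (nat_lit 0)) (.leaf (nat_lit 1))) (.node (nat_lit 466) (.leaf (nat_lit 0)) (.node (nat_lit 541) (.leaf (nat_lit 1)) (.leaf (nat_lit 0))))))) (.node (nat_lit 808) (.node (nat_lit 697) (.node (nat_lit 666) (.node (nat_lit 570) (.leaf (nat_lit 1)) (.leaf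 (nat_lit 0))) (.node (nat_lit 668) (.leaf (nat_lit 1)) (.leaf (nat_lit 0)))) (.node (nat_lit 741) (.node (nat_lit 714) (.leaf (nat_lit 1)) (.leaf (nat_lit 0))) (.node (nat_lit 746) (.leaf (nat_lit 1)) (.node (nat_lit 756) (.leaf (nat_lit 0)) (.leaf (nat_lit 1)))))) (.node (nat_lit 899) (.node (nat_lit 889) (.node (nat_lit 885) (.leaf (nat_lit 0)) (.leaf (nat_lit 1))) (.node (nat_lit 892) (.leaf (nat_lit 0)) (.leaf (nat_lit 1)))) (.node (nat_lit 921) (.node (nat_lit 915) (.leaf (nat_lit 0)) (.leaf (nat_lit 1))) (.node (nat_lit 931) (.leaf (nat_lit 0)) (.node (nat_lit 944) (.leaf (nat_lit 1)) (.leaf (nat_lit 0)))))))) (.node (nat_lit 1437) (.node (nat_lit 1152) (.node (nat_lit 1002) (.node (nat_lit 996) (.node (nat_lit 976) (.leaf (nat_lit 1)) (.leaf (nat_lit 0))) (.node (nat_lit 1000) (.leaf (nat_lit 1)) (.leaf (nat_lit 0)))) (.node (nat_lit 1058) (.node (nat_lit 1057) (.leaf (nat_lit 1))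 (.leaf (nat_lit 0))) (.node (nat_lit 1105) (.leaf (nat_lit 1)) (.node (nat_lit 1128) (.leaf (nat_lit 0)) (.leaf (nat_lit 1)))))) (.node (nat_lit 1251) (.node (nat_lit 1211) (.node (nat_lit 1184) (.leaf (nat_lit 0)) (.leaf (nat_lit 1))) (.node (nat_lit 1241) (.leaf (nat_lit 0)) (.leaf (nat_lit 1)))) (.node (nat_lit 1330) (.node (nat_lit 1300) (.leaf (nat_lit 0)) (.leaf (nat_lit 1))) (.node (nat_lit 1333) (.leaf (nat_lit 0)) (.node (nat_lit 1379) (.leaf (nat_lit 1)) (.leaf (nat_lit 0))))))) (.node (nat_lit 1770) (.node (nat_lit 1681) (.node (nat_lit 1576) (.node (nat_lit 1540) (.leaf (nat_lit 1)) (.leaf (nat_lit 0))) (.node (nat_lit 1648) (.leaf (nat_lit 1)) (.leaf (nat_lit 0)))) (.node (nat_lit 1698) (.node (nat_lit 1692) (.leaf (nat_lit 1)) (.leaf (nat_lit 0))) (.node (nat_lit 1705) (.leaf (nat_lit 1)) (.node (nat_lit 1768) (.leaf (nat_lit 0)) (.leaf (nat_lit 1)))))) (.node (nat_lit 1914)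 (.node (nat_lit 1861) (.node (nat_lit 1817) (.leaf (nat_lit 0)) (.leaf (nat_lit 1))) (.node (nat_lit 1865) (.leaf (nat_lit 0)) (.leaf (nat_lit 1)))) (.node (nat_lit 1938) (.node (nat_lit 1936) (.leaf (nat_lit 0)) (.leaf (nat_lit 1))) (.node (nat_lit 1963) (.leaf (nat_lit 0)) (.node (nat_lit 1987) (.leaf (nat_lit 1)) (.leaf (nat_lit 0))))))))) (.node (nat_lit 3083) (.node (nat_lit 2458) (.node (nat_lit 2210) (.node (nat_lit 2114) (.node (nat_lit 2066) (.node (nat_lit 2033) (.leaf (nat_lit 1)) (.leaf (nat_lit 0))) (.node (nat_lit 2068) (.leaf (nat_lit 1)) (.leaf (nat_lit 0)))) (.node (nat_lit 2149) (.node (nat_lit 2124) (.leaf (nat_lit 1)) (.leaf (nat_lit 0))) (.node (nat_lit 2169) (.leaf (nat_lit 1)) (.leaf (nat_lit 0))))) (.node (nat_lit 2380) (.node (nat_lit 2320) (.node (nat_lit 2274) (.leaf (nat_lit 1)) (.leaf (nat_lit 0))) (.node (nat_lit 2323) (.leaf (nat_lit 1)) (.leaf (nat_lit 0))))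 (.node (nat_lit 2400) (.node (nat_lit 2396) (.leaf (nat_lit 1)) (.leaf (nat_lit 0))) (.node (nat_lit 2418) (.leaf (nat_lit 1)) (.node (nat_lit 2428) (.leaf (nat_lit 0)) (.leaf (nat_lit 1))))))) (.node (nat_lit 2776) (.node (nat_lit 2645) (.node (nat_lit 2473) (.node (nat_lit 2464) (.leaf (nat_lit 0)) (.leaf (nat_lit 1))) (.node (nat_lit 2564) (.leaf (nat_lit 0)) (.leaf (nat_lit 1)))) (.node (nat_lit 2674) (.node (nat_lit 2649) (.leaf (nat_lit 0)) (.leaf (nat_lit 1))) (.node (nat_lit 2706) (.leaf (nat_lit 0)) (.node (nat_lit 2732) (.leaf (nat_lit 1)) (.leaf (nat_lit 0)))))) (.node (nat_lit 2845) (.node (nat_lit 2820) (.node (nat_lit 2801) (.leaf (nat_lit 1)) (.leaf (nat_lit 0))) (.node (nat_lit 2843) (.leaf (nat_lit 1)) (.leaf (nat_lit 0)))) (.node (nat_lit 2976) (.node (nat_lit 2905) (.leaf (nat_lit 1)) (.leaf (nat_lit 0))) (.node (nat_lit 3048) (.leaf (nat_lit 1)) (.node (nat_lit 3080)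 (.leaf (nat_lit 0)) (.leaf (nat_lit 1)))))))) (.node (nat_lit 3682) (.node (nat_lit 3360) (.node (nat_lit 3248) (.node (nat_lit 3157) (.node (nat_lit 3139) (.leaf (nat_lit 0)) (.leaf (nat_lit 1))) (.node (nat_lit 3204) (.leaf (nat_lit 0)) (.leaf (nat_lit 1)))) (.node (nat_lit 3324) (.node (nat_lit 3298) (.leaf (nat_lit 0)) (.leaf (nat_lit 1))) (.node (nat_lit 3328) (.leaf (nat_lit 0)) (.node (nat_lit 3338) (.leaf (nat_lit 1)) (.leaf (nat_lit 0)))))) (.node (nat_lit 3465) (.node (nat_lit 3417) (.node (nat_lit 3385) (.leaf (nat_lit 1)) (.leaf (nat_lit 0))) (.node (nat_lit 3444) (.leaf (nat_lit 1)) (.leaf (nat_lit 0)))) (.node (nat_lit 3491) (.node (nat_lit 3490) (.leaf (nat_lit 1)) (.leaf (nat_lit 0))) (.node (nat_lit 3514) (.leaf (nat_lit 1)) (.node (nat_lit 3523) (.leaf (nat_lit 0)) (.leaf (nat_lit 1))))))) (.node (nat_lit 4084) (.node (nat_lit 3881) (.node (nat_lit 3856) (.node (nat_lit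 3729) (.leaf (nat_lit 0)) (.leaf (nat_lit 1))) (.node (nat_lit 3877) (.leaf (nat_lit 0)) (.leaf (nat_lit 1)))) (.node (nat_lit 3909) (.node (nat_lit 3908) (.leaf (nat_lit 0)) (.leaf (nat_lit 1))) (.node (nat_lit 3944) (.leaf (nat_lit 0)) (.node (nat_lit 3962) (.leaf (nat_lit 1)) (.leaf (nat_lit 0)))))) (.node (nat_lit 4154) (.node (nat_lit 4121) (.node (nat_lit 4108) (.leaf (nat_lit 1)) (.leaf (nat_lit 0))) (.node (nat_lit 4132) (.leaf (nat_lit 1)) (.leaf (nat_lit 0)))) (.node (nat_lit 4168) (.node (nat_lit 4163) (.leaf (nat_lit 1)) (.leaf (nat_lit 0))) (.node (nat_lit 4260) (.leaf (nat_lit 1)) (.node (nat_lit 4272) (.leaf (nat_lit 0)) (.leaf (nat_lit 1))))))))))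
noncomputable def MA_inv_F : Fm := (.all A6_L (.or (.qf (.eq (.v (nat_lit 0)) .one)) (.or (.qf (.eq (.v (nat_lit 0)) (.mul (.v (nat_lit 11)) (.v (nat_lit 11))))) (.or (.exG MA_lT (fun cs => MA_inv_t0.find (Nat.mod (nth (nat_lit 0) cs (nat_lit 0)) (nat_lit 5312))) (.qf (.eq (.mul (.v (nat_lit 1)) (.mul (.mul (.v (nat_lit 0)) (.v (nat_lit 1))) (.inv (.v (nat_lit 0))))) (.mul (.v (nat_lit 12)) (.v (nat_lit 12)))))) (.exG MA_lT (fun cs => MA_inv_t3.find (Nat.mod (nth (nat_lit 0) cs (nat_lit 0)) (nat_lit 4280))) (.exG MA_lT (fun cs => MA_inv_t2.find (Nat.mod (Nat.add (nth (nat_lit 0) cs (nat_lit 1)) (Nat.mul (nat_lit 7919) (nth (nat_lit 0) cs (nat_lit 0)))) (nat_lit 8521))) (.exG MA_lT (fun cs => MA_inv_t1.find (Nat.mod (Nat.add (Nat.add (nth (nat_lit 0) cs (nat_lit 2)) (Nat.mul (nat_lit 7919) (nth (nat_lit 0) cs (nat_lit 0)))) (Nat.mul (nat_lit 104729) (nth (nat_lit 0) cs (nat_lit 1)))) (nat_lit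 5226))) (.qf (.eq (.mul (.mul (.mul (.v (nat_lit 3)) (.mul (.mul (.v (nat_lit 2)) (.v (nat_lit 3))) (.inv (.v (nat_lit 2))))) (.mul (.mul (.v (nat_lit 1)) (.v (nat_lit 3))) (.inv (.v (nat_lit 1))))) (.mul (.mul (.v (nat_lit 0)) (.mul (.mul (.v (nat_lit 3)) (.mul (.mul (.v (nat_lit 2)) (.v (nat_lit 3))) (.inv (.v (nat_lit 2))))) (.mul (.mul (.v (nat_lit 1)) (.v (nat_lit 3))) (.inv (.v (nat_lit 1)))))) (.inv (.v (nat_lit 0))))) (.mul (.v (nat_lit 14)) (.v (nat_lit 14))))))))))))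
theorem MA_inv_chk : Fm.chk A6_o MA_inv_F MA_cs = true := by decide +kernel
theorem MA_inv {G : Type*} [Group G] {R : ℕ → G → Prop} {p q v w a b i s x y : G} {H : Subgroup G}
    (M : Mdl A6_o MA_cs A6_L R [p, p⁻¹, q, q⁻¹, v, v⁻¹, w, w⁻¹, a, b, i, s, x, y] H) :
    ∀ g ∈ H, g = 1 ∨ g = i * i ∨ (∃ k ∈ sp [i, s], g * (k * g * k⁻¹) = i * i) ∨ (∃ m ∈ sp [i, s], ∃ l ∈ sp [i, s], ∃ k ∈ sp [i, s], g * (m * g * m⁻¹) * (l * g * l⁻¹) * (k * (g * (m * g * m⁻¹) * (l * g * l⁻¹)) * k⁻¹) = i * i) :=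
  have h : ∀ g, InL A6_o R A6_L g → g = 1 ∨ g = i * i ∨ (GoodS R MA_lT → MA_lT ≠ [] → ∃ k, InS R MA_lT k ∧ g * (k * g * k⁻¹) = i * i) ∨ (GoodS R MA_lT → MA_lT ≠ [] → ∃ m, InS R MA_lT m ∧ (GoodS R MA_lT → MA_lT ≠ [] → ∃ l, InS R MA_lT l ∧ (GoodS R MA_lT → MA_lT ≠ [] → ∃ k, InS R MA_lT k ∧ g * (m * g * m⁻¹) * (l * g * l⁻¹) * (k * (g * (m * g * m⁻¹) * (l * g * l⁻¹)) * k⁻¹) = i * i))) :=
    Fm.sound M.μ MA_inv_F MA_inv_chk M.reps
  (fun g h0 => (Or.imp (fun h1 => h1) (fun h1 => (Or.imp (fun h2 => h2) (fun h2 => (Or.imp (fun h3 => (Exists.imp (fun k h4 => ⟨(MA_lT_E M).iff.1 h4.1, h4.2⟩) (h3 (MA_lT_E M).good (MA_lT_E M).ne))) (fun h3 => (Exists.imp (fun m h4 => ⟨(MA_lT_E M).iff.1 h4.1, (Exists.imp (fun l h5 => ⟨(MA_lT_E M).iff.1 h5.1, (Exists.imp (fun k h6 => ⟨(MA_lT_E M).iff.1 h6.1, h6.2⟩) (h5.2 (MA_lT_E M).good (MA_lT_E M).ne))⟩) (h4.2 (MA_lT_E M).good (MA_lT_E M).ne))⟩) (h3 (MA_lT_E M).good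 (MA_lT_E M).ne))) h2)) h1)) (h g (M.H.iff.2 h0))))
noncomputable def MA_v3_F : Fm := (.all A6_L (.imp (.eq (.pw (.v (nat_lit 0)) (nat_lit 3)) .one) (.or (.qf (.eq (.v (nat_lit 0)) .one)) (.exS MA_lV (.exS MA_lV (.qf (.not (.eq (.pw (.mul (.mul (.v (nat_lit 2)) (.mul (.mul (.v (nat_lit 1)) (.v (nat_lit 2))) (.inv (.v (nat_lit 1))))) (.mul (.mul (.v (nat_lit 0)) (.v (nat_lit 2))) (.inv (.v (nat_lit 0))))) (nat_lit 3)) .one))))))))
theorem MA_v3_chk : Fm.chk A6_o MA_v3_F MA_cs = true := by decide +kernel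
theorem MA_v3 {G : Type*} [Group G] {R : ℕ → G → Prop} {p q v w a b i s x y : G} {H : Subgroup G}
    (M : Mdl A6_o MA_cs A6_L R [p, p⁻¹, q, q⁻¹, v, v⁻¹, w, w⁻¹, a, b, i, s, x, y] H) :
    ∀ g ∈ H, g ^ 3 = 1 → g = 1 ∨ (∃ m ∈ sp [i * i, i * s], ∃ l ∈ sp [i * i, i * s], (g * (m * g * m⁻¹) * (l * g * l⁻¹)) ^ 3 ≠ 1) :=
  have h : ∀ g, InL A6_o R A6_L g → g ^ 3 = 1 → g = 1 ∨ (GoodS R MA_lV → ∃ m, InS R MA_lV m ∧ (GoodS R MA_lV → ∃ l, InS R MA_lV l ∧ (g * (m * g * m⁻¹) * (l * g * l⁻¹)) ^ 3 ≠ 1)) :=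
    Fm.sound M.μ MA_v3_F MA_v3_chk M.reps
  (fun g h0 => (fun h1 => (Or.imp (fun h2 => h2) (fun h2 => (Exists.imp (fun m h3 => ⟨(MA_lV_E M).iff.1 h3.1, (Exists.imp (fun l h4 => ⟨(MA_lV_E M).iff.1 h4.1, h4.2⟩) (h3.2 (MA_lV_E M).good))⟩) (h2 (MA_lV_E M).good))) ((h g (M.H.iff.2 h0)) h1))))
noncomputable def MA_ex_F : Fm := (.all A6_L (.qf (.or (.eq (.pw (.v (nat_lit 0)) (nat_lit 3)) .one) (.eq (.pw (.v (nat_lit 0)) (nat_lit 20)) .one))))
theorem MA_ex_chk : Fm.chk A6_o MA_ex_F MA_cs = true := by decide +kernel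
theorem MA_ex {G : Type*} [Group G] {R : ℕ → G → Prop} {p q v w a b i s x y : G} {H : Subgroup G}
    (M : Mdl A6_o MA_cs A6_L R [p, p⁻¹, q, q⁻¹, v, v⁻¹, w, w⁻¹, a, b, i, s, x, y] H) :
    ∀ g ∈ H, g ^ 3 = 1 ∨ g ^ 20 = 1 :=
  have h : ∀ g, InL A6_o R A6_L g → g ^ 3 = 1 ∨ g ^ 20 = 1 :=
    Fm.sound M.μ MA_ex_F MA_ex_chk M.reps
  (fun g h0 => (h g (M.H.iff.2 h0)))
def C5 {G : Type*} [Group G] (c d e u : G) : Prop :=
  c * c = 1 ∧
  d * d = 1 ∧
  e * e = 1 ∧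
  u * u = 1 ∧
  (d * c) ^ 3 = 1 ∧
  (e * d) ^ 3 = 1 ∧
  (u * e) ^ 3 = 1 ∧
  c * e = e * c ∧
  c * u = u * c ∧
  d * u = u * d ∧ True
theorem C5.map {G G' : Type*} [Group G] [Group G'] {c d e u : G} (h : C5 c d e u) (f : G →* G') :
    C5 (f c) (f d) (f e) (f u) :=
  ⟨by simpa only [map_mul, map_pow, map_inv, map_one, map_commutatorElement] using congrArg f h.1,
   by simpa only [map_mul, map_pow, map_inv, map_one, map_commutatorElement] using congrArg f h.2.1,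
   by simpa only [map_mul, map_pow, map_inv, map_one, map_commutatorElement] using congrArg f h.2.2.1,
   by simpa only [map_mul, map_pow, map_inv, map_one, map_commutatorElement] using congrArg f h.2.2.2.1,
   by simpa only [map_mul, map_pow, map_inv, map_one, map_commutatorElement] using congrArg f h.2.2.2.2.1,
   by simpa only [map_mul, map_pow, map_inv, map_one, map_commutatorElement] using congrArg f h.2.2.2.2.2.1,
   by simpa only [map_mul, map_pow, map_inv, map_one, map_commutatorElement] using congrArg f h.2.2.2.2.2.2.1,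
   by simpa only [map_mul, map_pow, map_inv, map_one, map_commutatorElement] using congrArg f h.2.2.2.2.2.2.2.1,
   by simpa only [map_mul, map_pow, map_inv, map_one, map_commutatorElement] using congrArg f h.2.2.2.2.2.2.2.2.1,
   by simpa only [map_mul, map_pow, map_inv, map_one, map_commutatorElement] using congrArg f h.2.2.2.2.2.2.2.2.2.1, trivial⟩
theorem C5.comap {G G' : Type*} [Group G] [Group G'] {c d e u : G} {f : G →* G'} (hf : Function.Injective f)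
    (h : C5 (f c) (f d) (f e) (f u)) : C5 c d e u :=
  ⟨hf (by simpa only [map_mul, map_pow, map_inv, map_one, map_commutatorElement] using h.1),
   hf (by simpa only [map_mul, map_pow, map_inv, map_one, map_commutatorElement] using h.2.1),
   hf (by simpa only [map_mul, map_pow, map_inv, map_one, map_commutatorElement] using h.2.2.1),
   hf (by simpa only [map_mul, map_pow, map_inv, map_one, map_commutatorElement] using h.2.2.2.1),
   hf (by simpa only [map_mul, map_pow, map_inv, map_one, map_commutatorElement] using h.2.2.2.2.1),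
   hf (by simpa only [map_mul, map_pow, map_inv, map_one, map_commutatorElement] using h.2.2.2.2.2.1),
   hf (by simpa only [map_mul, map_pow, map_inv, map_one, map_commutatorElement] using h.2.2.2.2.2.2.1),
   hf (by simpa only [map_mul, map_pow, map_inv, map_one, map_commutatorElement] using h.2.2.2.2.2.2.2.1),
   hf (by simpa only [map_mul, map_pow, map_inv, map_one, map_commutatorElement] using h.2.2.2.2.2.2.2.2.1),
   hf (by simpa only [map_mul, map_pow, map_inv, map_one, map_commutatorElement] using h.2.2.2.2.2.2.2.2.2.1), trivial⟩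
noncomputable def S5_Rl : List (List ℕ) := [[0,0],
  [1,1],
  [2,2],
  [3,3],
  [0,1,0,1,0,1],
  [1,2,1,2,1,2],
  [2,3,2,3,2,3],
  [2,0,2,0],
  [3,0,3,0],
  [3,1,3,1]]
theorem S5_r {G : Type*} [Group G] {c d e u : G}
    (h : C5 c d e u) :
    Rels (nthG [c, d, e, u]) S5_Rl :=
  rels_of_eqs ((InvI.cons h.1 (InvI.cons h.2.1 (InvI.cons h.2.2.1 (InvI.cons h.2.2.2.1 InvI.nil)))) : InvI [c, d, e, u] [(nat_lit 0), (nat_lit 1), (nat_lit 2), (nat_lit 3)])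
    (show AllEq [c, d, e, u] [((.mul (.v (nat_lit 0)) (.v (nat_lit 0))), .one), ((.mul (.v (nat_lit 1)) (.v (nat_lit 1))), .one), ((.mul (.v (nat_lit 2)) (.v (nat_lit 2))), .one), ((.mul (.v (nat_lit 3)) (.v (nat_lit 3))), .one), ((.pw (.mul (.v (nat_lit 1)) (.v (nat_lit 0))) (nat_lit 3)), .one), ((.pw (.mul (.v (nat_lit 2)) (.v (nat_lit 1))) (nat_lit 3)), .one), ((.pw (.mul (.v (nat_lit 3)) (.v (nat_lit 2))) (nat_lit 3)), .one), ((.mul (.v (nat_lit 0)) (.v (nat_lit 2))), (.mul (.v (nat_lit 2)) (.v (nat_lit 0)))), ((.mul (.v (nat_lit 0)) (.v (nat_lit 3))), (.mul (.v (nat_lit 3)) (.v (nat_lit 0)))), ((.mul (.v (nat_lit 1)) (.v (nat_lit 3))), (.mul (.v (nat_lit 3)) (.v (nat_lit 1))))] from h)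
    [(.v (nat_lit 0)), (.v (nat_lit 1)), (.v (nat_lit 2)), (.v (nat_lit 3))] (by decide +kernel)
noncomputable abbrev S5_o : Ops := pops (nat_lit 5) (nat_lit 3) (nat_lit 7) (nat_lit 18056)
noncomputable def S5_cs : List ℕ := [(nat_lit 18049), (nat_lit 18000), (nat_lit 17608), (nat_lit 14472)]
noncomputable def S5_L : List (List ℕ) := [[(nat_lit 18056), (nat_lit 18049), (nat_lit 17986), (nat_lit 17475), (nat_lit 13380)],
  [(nat_lit 18056), (nat_lit 18000), (nat_lit 17496), (nat_lit 13408)],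
  [(nat_lit 18056), (nat_lit 17608), (nat_lit 13576)],
  [(nat_lit 18056), (nat_lit 14472)]]
noncomputable def S5_WW : List (List (List ℕ)) := [[[],
  [(nat_lit 0)],
  [(nat_lit 0), (nat_lit 1)],
  [(nat_lit 0), (nat_lit 1), (nat_lit 2)],
  [(nat_lit 0), (nat_lit 1), (nat_lit 2), (nat_lit 3)]],
  [[],
  [(nat_lit 1)],
  [(nat_lit 1), (nat_lit 2)],
  [(nat_lit 1), (nat_lit 2), (nat_lit 3)]],
  [[],
  [(nat_lit 2)],
  [(nat_lit 2), (nat_lit 3)]],
  [[],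
  [(nat_lit 3)]]]
noncomputable def S5_b1_S : List (List ℕ) := []
noncomputable def S5_b1_defs : List ℕ := [(nat_lit 0x0)]
noncomputable def S5_b1_recs : List ℕ := []
noncomputable def S5_b1_L0 : List ℕ := [nat_lit 0x7000001, nat_lit 0x8000000]
noncomputable def S5_b1_L : List (List ℕ) := [S5_b1_L0]
noncomputable def S5_b1_V : List ℕ := [(nat_lit 0x100000000)]
noncomputable def S5_b1_D : H26.Dag := ⟨[], [[0,0]], [], S5_b1_defs, S5_b1_recs⟩
theorem S5_b1_c : S5_b1_D.checkTab S5_b1_S 2 1 S5_b1_V S5_b1_L = true := by decide +kernel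
theorem S5_b1 : Bound S5_Rl 1 2 :=
  bound_dag (Bound.zero S5_Rl) (K := 1) (J := [0]) (by decide +kernel) S5_b1_c (by decide +kernel)
noncomputable def S5_b2_S0 : List ℕ := [nat_lit 0x1, nat_lit 0xb00000700000100000800000c004004]
noncomputable def S5_b2_S : List (List ℕ) := [S5_b2_S0]
noncomputable def S5_b2_defs : List ℕ := [(nat_lit 0x10010000000000000)]
noncomputable def S5_b2_recs : List ℕ := [(nat_lit 0x10000200002000000000000)]
noncomputable def S5_b2_L0 : List ℕ := [nat_lit 0x1000000000007000001, nat_lit 0xb000002000008000000, nat_lit 0xc000001000005000002]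
noncomputable def S5_b2_L : List (List ℕ) := [S5_b2_L0]
noncomputable def S5_b2_V : List ℕ := [(nat_lit 0x20000000100000000)]
noncomputable def S5_b2_D : H26.Dag := ⟨[], [[0,0],
  [1,1],
  [0,1,0,1,0,1]], [0], S5_b2_defs, S5_b2_recs⟩
theorem S5_b2_c : S5_b2_D.checkTab S5_b2_S 3 2 S5_b2_V S5_b2_L = true := by decide +kernel
theorem S5_b2 : Bound S5_Rl 2 6 :=
  bound_dag S5_b1 (K := 2) (J := [0,1,4]) (by decide +kernel) S5_b2_c (by decide +kernel)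
noncomputable def S5_b3_S0 : List ℕ := [nat_lit 0x1, nat_lit 0x1, nat_lit 0x700000100000800400a, nat_lit 0xb00000700000500000800000c004008, nat_lit 0xf00000d00001000800a, nat_lit 0xf00000b00000900000c000010004006]
noncomputable def S5_b3_S : List (List ℕ) := [S5_b3_S0]
noncomputable def S5_b3_defs : List ℕ := [(nat_lit 0x2001000010020000000000000)]
noncomputable def S5_b3_recs : List ℕ := [(nat_lit 0x10000300003020000300003020000200002000000100001010000000000000000000000)]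
noncomputable def S5_b3_L0 : List ℕ := [nat_lit 0x1000000000005000000000007000001, nat_lit 0x900000100000b000002000008000000, nat_lit 0xf00000300000c00000100000d000002, nat_lit 0x10000002000015000003000011000003]
noncomputable def S5_b3_L : List (List ℕ) := [S5_b3_L0]
noncomputable def S5_b3_V : List ℕ := [(nat_lit 0x3000000020000000100000000)]
noncomputable def S5_b3_D : H26.Dag := ⟨[], [[0,0],
  [1,1],
  [2,2],
  [0,1,0,1,0,1],
  [1,2,1,2,1,2],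
  [2,0,2,0]], [0,1], S5_b3_defs, S5_b3_recs⟩
theorem S5_b3_c : S5_b3_D.checkTab S5_b3_S 4 3 S5_b3_V S5_b3_L = true := by decide +kernel
theorem S5_b3 : Bound S5_Rl 3 24 :=
  bound_dag S5_b2 (K := 3) (J := [0,1,2,4,5,7]) (by decide +kernel) S5_b3_c (by decide +kernel)
noncomputable def S5_b4_S0 : List ℕ := [nat_lit 0x1, nat_lit 0x1, nat_lit 0x1, nat_lit 0x7000001000008004010, nat_lit 0x7000005000008004012, nat_lit 0xb00000d00000c00400e, nat_lit 0xb00000700000900000800000c00400c, nat_lit 0xf000019000010008012, nat_lit 0xf00000b00001100000c00001000400a, nat_lit 0x1300002100001400800e, nat_lit 0x1300001d000014008010, nat_lit 0x1300000f000015000010000014004008]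
noncomputable def S5_b4_S : List (List ℕ) := [S5_b4_S0]
noncomputable def S5_b4_defs : List ℕ := [(nat_lit 0x300100002002000010030000000000000)]
noncomputable def S5_b4_recs : List ℕ := [(nat_lit 0x10000400004030000400004020000400004020000300003030000300003030000200002000000200002010000100001000000100001020000000000010000000000000000000000)]
noncomputable def S5_b4_L0 : List ℕ := [nat_lit 0x1000000000005000000000009000000000007000001, nat_lit 0xd00000100001100000100000b000002000008000000, nat_lit 0x1500000200000f00000300000c000001000019000002, nat_lit 0x1300000400001000000200002100000300001d000003, nat_lit 0x1400000300002d000004000025000004000029000004]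
noncomputable def S5_b4_L : List (List ℕ) := [S5_b4_L0]
noncomputable def S5_b4_V : List ℕ := [(nat_lit 0x400000003000000020000000100000000)]
noncomputable def S5_b4_D : H26.Dag := ⟨[], [[0,0],
  [1,1],
  [2,2],
  [3,3],
  [0,1,0,1,0,1],
  [1,2,1,2,1,2],
  [2,3,2,3,2,3],
  [2,0,2,0],
  [3,0,3,0],
  [3,1,3,1]], [0,1,2], S5_b4_defs, S5_b4_recs⟩
theorem S5_b4_c : S5_b4_D.checkTab S5_b4_S 5 4 S5_b4_V S5_b4_L = true := by decide +kernel
theorem S5_b4 : Bound S5_Rl 4 120 :=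
  bound_dag S5_b3 (K := 4) (J := [0,1,2,3,4,5,6,7,8,9]) (by decide +kernel) S5_b4_c (by decide +kernel)
theorem S5_P : PModel (nat_lit 5) (nat_lit 3) (nat_lit 7) (nat_lit 18056) S5_cs S5_Rl S5_L 120 :=
  ⟨PkOK.of (by decide +kernel), by decide +kernel, by decide +kernel, S5_b4, ⟨S5_WW, by decide +kernel⟩,
    ⟨fun c => Nat.mod c (nat_lit 708), by decide +kernel⟩⟩
noncomputable def S5_soc_t0 : ST := (.node (nat_lit 382) (.node (nat_lit 210) (.node (nat_lit 152) (.node (nat_lit 102) (.node (nat_lit 70) (.node (nat_lit 54) (.leaf (nat_lit 2)) (.node (nat_lit 61) (.leaf (nat_lit 5)) (.leaf (nat_lit 78)))) (.node (nat_lit 86) (.node (nat_lit 79) (.leaf (nat_lit 43)) (.leaf (nat_lit 1))) (.node (nat_lit 92) (.leaf (nat_lit 70)) (.leaf (nat_lit 78))))) (.node (nat_lit 126) (.node (nat_lit 104) (.leaf (nat_lit 63)) (.node (nat_lit 107) (.leaf (nat_lit 2)) (.leaf (nat_lit 43)))) (.node (nat_lit 136)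 (.node (nat_lit 128) (.leaf (nat_lit 1)) (.leaf (nat_lit 5))) (.node (nat_lit 143) (.leaf (nat_lit 2)) (.leaf (nat_lit 78)))))) (.node (nat_lit 187) (.node (nat_lit 158) (.node (nat_lit 154) (.leaf (nat_lit 2)) (.node (nat_lit 157) (.leaf (nat_lit 90)) (.leaf (nat_lit 18)))) (.node (nat_lit 166) (.node (nat_lit 165) (.leaf (nat_lit 22)) (.leaf (nat_lit 18))) (.node (nat_lit 172) (.leaf (nat_lit 110)) (.leaf (nat_lit 23))))) (.node (nat_lit 198) (.node (nat_lit 195) (.node (nat_lit 189) (.leaf (nat_lit 43)) (.leaf (nat_lit 18))) (.node (nat_lit 196) (.leaf (nat_lit 5)) (.leaf (nat_lit 1)))) (.node (nat_lit 200) (.node (nat_lit 199) (.leaf (nat_lit 110)) (.leaf (nat_lit 5))) (.node (nat_lit 201) (.leaf (nat_lit 103)) (.leaf (nat_lit 50))))))) (.node (nat_lit 289) (.node (nat_lit 260) (.node (nat_lit 222) (.node (nat_lit 217) (.leaf (nat_lit 5)) (.node (nat_lit 220) (.leaf (nat_lit 78)) (.leaf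 (nat_lit 103)))) (.node (nat_lit 240) (.node (nat_lit 237) (.leaf (nat_lit 110)) (.leaf (nat_lit 2))) (.node (nat_lit 259) (.leaf (nat_lit 43)) (.leaf (nat_lit 1))))) (.node (nat_lit 272) (.node (nat_lit 264) (.leaf (nat_lit 2)) (.node (nat_lit 270) (.leaf (nat_lit 43)) (.leaf (nat_lit 103)))) (.node (nat_lit 283) (.node (nat_lit 276) (.leaf (nat_lit 43)) (.leaf (nat_lit 78))) (.node (nat_lit 285) (.leaf (nat_lit 1)) (.leaf (nat_lit 50)))))) (.node (nat_lit 309) (.node (nat_lit 292) (.node (nat_lit 290) (.leaf (nat_lit 20)) (.node (nat_lit 291) (.leaf (nat_lit 18)) (.leaf (nat_lit 1)))) (.node (nat_lit 304) (.node (nat_lit 294) (.leaf (nat_lit 2)) (.leaf (nat_lit 103))) (.node (nat_lit 308) (.leaf (nat_lit 5)) (.leaf (nat_lit 2))))) (.node (nat_lit 342) (.node (nat_lit 331) (.node (nat_lit 328) (.leaf (nat_lit 50)) (.leaf (nat_lit 5))) (.node (nat_lit 340) (.leaf (nat_lit 110)) (.leaf (nat_lit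 0)))) (.node (nat_lit 359) (.node (nat_lit 351) (.leaf (nat_lit 50)) (.leaf (nat_lit 5))) (.node (nat_lit 367) (.leaf (nat_lit 110)) (.leaf (nat_lit 78)))))))) (.node (nat_lit 562) (.node (nat_lit 477) (.node (nat_lit 443) (.node (nat_lit 418) (.node (nat_lit 393) (.leaf (nat_lit 80)) (.node (nat_lit 408) (.leaf (nat_lit 2)) (.leaf (nat_lit 10)))) (.node (nat_lit 437) (.node (nat_lit 429) (.leaf (nat_lit 50)) (.leaf (nat_lit 43))) (.node (nat_lit 438) (.leaf (nat_lit 5)) (.leaf (nat_lit 1))))) (.node (nat_lit 460) (.node (nat_lit 451) (.leaf (nat_lit 5)) (.node (nat_lit 459) (.leaf (nat_lit 50)) (.leaf (nat_lit 25)))) (.node (nat_lit 469) (.node (nat_lit 466) (.leaf (nat_lit 5)) (.leaf (nat_lit 103))) (.node (nat_lit 475) (.leaf (nat_lit 18)) (.leaf (nat_lit 50)))))) (.node (nat_lit 510) (.node (nat_lit 490) (.node (nat_lit 484) (.leaf (nat_lit 18)) (.node (nat_lit 488) (.leaf (nat_lit 5))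 (.leaf (nat_lit 110)))) (.node (nat_lit 500) (.node (nat_lit 496) (.leaf (nat_lit 103)) (.leaf (nat_lit 110))) (.node (nat_lit 501) (.leaf (nat_lit 78)) (.leaf (nat_lit 18))))) (.node (nat_lit 543) (.node (nat_lit 523) (.node (nat_lit 512) (.leaf (nat_lit 3)) (.leaf (nat_lit 103))) (.node (nat_lit 529) (.leaf (nat_lit 78)) (.leaf (nat_lit 85)))) (.node (nat_lit 559) (.node (nat_lit 557) (.leaf (nat_lit 2)) (.leaf (nat_lit 1))) (.node (nat_lit 560) (.leaf (nat_lit 50)) (.leaf (nat_lit 103))))))) (.node (nat_lit 644) (.node (nat_lit 594) (.node (nat_lit 573) (.node (nat_lit 564) (.leaf (nat_lit 43)) (.node (nat_lit 571) (.leaf (nat_lit 18)) (.leaf (nat_lit 1)))) (.node (nat_lit 584) (.node (nat_lit 578) (.leaf (nat_lit 110)) (.leaf (nat_lit 5))) (.node (nat_lit 593) (.leaf (nat_lit 50)) (.leaf (nat_lit 5))))) (.node (nat_lit 603) (.node (nat_lit 598) (.node (nat_lit 595) (.leaf (nat_lit 43))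 (.leaf (nat_lit 1))) (.node (nat_lit 600) (.leaf (nat_lit 50)) (.leaf (nat_lit 30)))) (.node (nat_lit 627) (.node (nat_lit 608) (.leaf (nat_lit 1)) (.leaf (nat_lit 78))) (.node (nat_lit 634) (.leaf (nat_lit 10)) (.leaf (nat_lit 18)))))) (.node (nat_lit 691) (.node (nat_lit 672) (.node (nat_lit 653) (.leaf (nat_lit 5)) (.node (nat_lit 668) (.leaf (nat_lit 110)) (.leaf (nat_lit 2)))) (.node (nat_lit 681) (.node (nat_lit 674) (.leaf (nat_lit 83)) (.leaf (nat_lit 1))) (.node (nat_lit 690) (.leaf (nat_lit 18)) (.leaf (nat_lit 110))))) (.node (nat_lit 746) (.node (nat_lit 726) (.node (nat_lit 699) (.leaf (nat_lit 0)) (.leaf (nat_lit 2))) (.node (nat_lit 734) (.leaf (nat_lit 78)) (.leaf (nat_lit 5)))) (.node (nat_lit 777) (.node (nat_lit 772) (.leaf (nat_lit 78)) (.leaf (nat_lit 103))) (.node (nat_lit 778) (.leaf (nat_lit 0)) (.leaf (nat_lit 103)))))))))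
noncomputable def S5_soc_t1 : ST := (.node (nat_lit 229) (.node (nat_lit 133) (.node (nat_lit 58) (.node (nat_lit 23) (.node (nat_lit 15) (.leaf (nat_lit 60)) (.leaf (nat_lit 0))) (.node (nat_lit 25) (.leaf (nat_lit 60)) (.node (nat_lit 30) (.leaf (nat_lit 5)) (.leaf (nat_lit 60))))) (.node (nat_lit 67) (.node (nat_lit 59) (.leaf (nat_lit 0)) (.node (nat_lit 61) (.leaf (nat_lit 60)) (.leaf (nat_lit 0)))) (.node (nat_lit 77) (.leaf (nat_lit 60)) (.node (nat_lit 87) (.leaf (nat_lit 5)) (.leaf (nat_lit 60)))))) (.node (nat_lit 193) (.node (nat_lit 146) (.node (nat_lit 135) (.leaf (nat_lit 5)) (.leaf (nat_lit 60))) (.node (nat_lit 147) (.leaf (nat_lit 0)) (.node (nat_lit 155) (.leaf (nat_lit 1)) (.leaf (nat_lit 60))))) (.node (nat_lit 203) (.node (nat_lit 196) (.leaf (nat_lit 0)) (.node (nat_lit 198) (.leaf (nat_lit 20)) (.leaf (nat_lit 60)))) (.node (nat_lit 212) (.leaf (nat_lit 20)) (.node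 (nat_lit 223) (.leaf (nat_lit 60)) (.leaf (nat_lit 0))))))) (.node (nat_lit 647) (.node (nat_lit 412) (.node (nat_lit 291) (.node (nat_lit 288) (.leaf (nat_lit 60)) (.leaf (nat_lit 0))) (.node (nat_lit 300) (.leaf (nat_lit 60)) (.node (nat_lit 305) (.leaf (nat_lit 0)) (.leaf (nat_lit 60))))) (.node (nat_lit 526) (.node (nat_lit 433) (.leaf (nat_lit 0)) (.node (nat_lit 505) (.leaf (nat_lit 60)) (.leaf (nat_lit 0)))) (.node (nat_lit 582) (.leaf (nat_lit 60)) (.node (nat_lit 613) (.leaf (nat_lit 0)) (.leaf (nat_lit 60)))))) (.node (nat_lit 696) (.node (nat_lit 664) (.node (nat_lit 649) (.leaf (nat_lit 0)) (.node (nat_lit 657) (.leaf (nat_lit 60)) (.leaf (nat_lit 20)))) (.node (nat_lit 667) (.leaf (nat_lit 0)) (.node (nat_lit 677) (.leaf (nat_lit 60)) (.leaf (nat_lit 0))))) (.node (nat_lit 727) (.node (nat_lit 713) (.leaf (nat_lit 60)) (.node (nat_lit 723) (.leaf (nat_lit 0)) (.leaf (nat_lit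 60)))) (.node (nat_lit 728) (.leaf (nat_lit 20)) (.node (nat_lit 738) (.leaf (nat_lit 0)) (.leaf (nat_lit 60))))))))
noncomputable def S5_soc_F : Fm := (.all S5_L (.or (.qf (.eq (.v (nat_lit 0)) .one)) (.exF S5_L (fun cs => S5_soc_t1.find (Nat.mod (nth (nat_lit 0) cs (nat_lit 0)) (nat_lit 751))) (.exF S5_L (fun cs => S5_soc_t0.find (Nat.mod (Nat.add (nth (nat_lit 0) cs (nat_lit 0)) (Nat.mul (nat_lit 7919) (nth (nat_lit 0) cs (nat_lit 1)))) (nat_lit 790))) (.qf (.or (.eq (.mul (.mul (.v (nat_lit 0)) (.v (nat_lit 2))) (.inv (.v (nat_lit 0)))) (.mul (.v (nat_lit 4)) (.v (nat_lit 3)))) (.or (.eq (.mul (.mul (.v (nat_lit 0)) (.v (nat_lit 2))) (.inv (.v (nat_lit 0)))) (.mul (.v (nat_lit 4)) (.v (nat_lit 3)))) (.or (.eq (.mul (.mul (.v (nat_lit 0)) (.mul (.mul (.mul (.v (nat_lit 2)) (.v (nat_lit 1))) (.inv (.v (nat_lit 2)))) (.inv (.v (nat_lit 1))))) (.inv (.v (nat_lit 0)))) (.mul (.v (nat_lit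 4)) (.v (nat_lit 3)))) (.or (.eq (.mul (.mul (.v (nat_lit 0)) (.mul (.mul (.mul (.v (nat_lit 2)) (.v (nat_lit 1))) (.inv (.v (nat_lit 2)))) (.inv (.v (nat_lit 1))))) (.inv (.v (nat_lit 0)))) (.mul (.v (nat_lit 4)) (.v (nat_lit 3)))) (.or (.eq (.mul (.mul (.mul (.mul (.mul (.mul (.v (nat_lit 2)) (.v (nat_lit 1))) (.inv (.v (nat_lit 2)))) (.inv (.v (nat_lit 1)))) (.v (nat_lit 0))) (.inv (.mul (.mul (.mul (.v (nat_lit 2)) (.v (nat_lit 1))) (.inv (.v (nat_lit 2)))) (.inv (.v (nat_lit 1)))))) (.inv (.v (nat_lit 0)))) (.mul (.v (nat_lit 4)) (.v (nat_lit 3)))) (.eq (.mul (.mul (.mul (.mul (.mul (.mul (.v (nat_lit 2)) (.v (nat_lit 1))) (.inv (.v (nat_lit 2)))) (.inv (.v (nat_lit 1)))) (.v (nat_lit 0))) (.inv (.mul (.mul (.mul (.v (nat_lit 2)) (.v (nat_lit 1))) (.inv (.v (nat_lit 2)))) (.inv (.v (nat_lit 1)))))) (.inv (.v (nat_lit 0)))) (.mul (.v (nat_lit 4)) (.v (nat_lit 3))))))))))))))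
theorem S5_soc_chk : Fm.chk S5_o S5_soc_F S5_cs = true := by decide +kernel
theorem S5_soc {G : Type*} [Group G] {R : ℕ → G → Prop} {c d e u : G} {H : Subgroup G}
    (M : Mdl S5_o S5_cs S5_L R [c, d, e, u] H) :
    ∀ y_ ∈ H, y_ = 1 ∨ (∃ q_ ∈ H, ∃ k_ ∈ H, k_ * y_ * k_⁻¹ = d * c ∨ k_ * y_ * k_⁻¹ = d * c ∨ k_ * ⁅y_, q_⁆ * k_⁻¹ = d * c ∨ k_ * ⁅y_, q_⁆ * k_⁻¹ = d * c ∨ ⁅⁅y_, q_⁆, k_⁆ = d * c ∨ ⁅⁅y_, q_⁆, k_⁆ = d * c) :=
  have h : ∀ y_, InL S5_o R S5_L y_ → y_ = 1 ∨ (Good S5_o R S5_L → prods S5_o S5_L S5_o.one ≠ [] → ∃ q_, InL S5_o R S5_L q_ ∧ (Good S5_o R S5_L → prods S5_o S5_L S5_o.one ≠ [] → ∃ k_, InL S5_o R S5_L k_ ∧ (k_ * y_ * k_⁻¹ = d * c ∨ k_ * y_ * k_⁻¹ = d * c ∨ k_ * ⁅y_, q_⁆ * k_⁻¹ = d * c ∨ k_ * ⁅y_, q_⁆ * k_⁻¹ = d * c ∨ ⁅⁅y_, q_⁆, k_⁆ = d * c ∨ ⁅⁅y_, q_⁆, k_⁆ = d * c))) :=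
    Fm.sound M.μ S5_soc_F S5_soc_chk M.reps
  (fun y_ h0 => (Or.imp (fun h1 => h1) (fun h1 => (Exists.imp (fun q_ h2 => ⟨M.H.iff.1 h2.1, (Exists.imp (fun k_ h3 => ⟨M.H.iff.1 h3.1, h3.2⟩) (h2.2 M.H.good M.H.ne))⟩) (h1 M.H.good M.H.ne))) (h y_ (M.H.iff.2 h0))))
theorem S5_mdl {G : Type*} [Group G] {c d e u : G}
    (h : C5 c d e u)
    (n1 : d * c ≠ 1) :
    ∃ R, Mdl S5_o S5_cs S5_L R [c, d, e, u] (sp [c, d, e, u]) ∧ #(sp [c, d, e, u]) = 120 :=
  mdl_of S5_P rfl (S5_r h) (.mul (.v (nat_lit 1)) (.v (nat_lit 0))) (.mul (.v (nat_lit 1)) (.v (nat_lit 0))) n1 n1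
    fun _ ms _ M hl => match ms, M, (hl : ms.length = 4) with
      | [_, _, _, _], M, _ => S5_soc M
noncomputable def S5_lA : List ℕ := [(nat_lit 18056), (nat_lit 17986), (nat_lit 17601), (nat_lit 14465), (nat_lit 17937), (nat_lit 17419), (nat_lit 14346), (nat_lit 17104), (nat_lit 13576), (nat_lit 14416), (nat_lit 10440), (nat_lit 17496), (nat_lit 17027), (nat_lit 13380), (nat_lit 10307), (nat_lit 16586), (nat_lit 16537), (nat_lit 12561), (nat_lit 13058), (nat_lit 9985), (nat_lit 10265), (nat_lit 6338), (nat_lit 16922), (nat_lit 13345), (nat_lit 16467), (nat_lit 12428), (nat_lit 12820), (nat_lit 9740), (nat_lit 6163), (nat_lit 12960), (nat_lit 8984), (nat_lit 8459), (nat_lit 5904), (nat_lit 6296), (nat_lit 9824), (nat_lit 2257), (nat_lit 2187), (nat_lit 1802), (nat_lit 12386), (nat_lit 8900), (nat_lit 8284), (nat_lit 5764), (nat_lit 2138), (nat_lit 1620), (nat_lit 8417), (nat_lit 4378),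 (nat_lit 5379), (nat_lit 1305), (nat_lit 1697), (nat_lit 5666), (nat_lit 8739), (nat_lit 4308), (nat_lit 5148), (nat_lit 1228), (nat_lit 5344), (nat_lit 787), (nat_lit 738), (nat_lit 1123), (nat_lit 4259), (nat_lit 668)]
noncomputable def S5_lA_W : List (List ℕ) := [[],
  [(nat_lit 0)],
  [(nat_lit 1)],
  [(nat_lit 2)],
  [(nat_lit 0), (nat_lit 0)],
  [(nat_lit 0), (nat_lit 1)],
  [(nat_lit 0), (nat_lit 2)],
  [(nat_lit 1), (nat_lit 0)],
  [(nat_lit 1), (nat_lit 2)],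
  [(nat_lit 2), (nat_lit 0)],
  [(nat_lit 2), (nat_lit 1)],
  [(nat_lit 0), (nat_lit 0), (nat_lit 1)],
  [(nat_lit 0), (nat_lit 1), (nat_lit 0)],
  [(nat_lit 0), (nat_lit 1), (nat_lit 2)],
  [(nat_lit 0), (nat_lit 2), (nat_lit 1)],
  [(nat_lit 1), (nat_lit 0), (nat_lit 0)],
  [(nat_lit 1), (nat_lit 0), (nat_lit 1)],
  [(nat_lit 1), (nat_lit 0), (nat_lit 2)],
  [(nat_lit 1), (nat_lit 2), (nat_lit 0)],
  [(nat_lit 1), (nat_lit 2), (nat_lit 1)],
  [(nat_lit 2), (nat_lit 0), (nat_lit 1)],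
  [(nat_lit 2), (nat_lit 1), (nat_lit 0)],
  [(nat_lit 0), (nat_lit 0), (nat_lit 1), (nat_lit 0)],
  [(nat_lit 0), (nat_lit 0), (nat_lit 1), (nat_lit 2)],
  [(nat_lit 0), (nat_lit 1), (nat_lit 0), (nat_lit 0)],
  [(nat_lit 0), (nat_lit 1), (nat_lit 0), (nat_lit 2)],
  [(nat_lit 0), (nat_lit 1), (nat_lit 2), (nat_lit 0)],
  [(nat_lit 0), (nat_lit 1), (nat_lit 2), (nat_lit 1)],
  [(nat_lit 0), (nat_lit 2), (nat_lit 1), (nat_lit 0)],
  [(nat_lit 1), (nat_lit 0), (nat_lit 1), (nat_lit 2)],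
  [(nat_lit 1), (nat_lit 0), (nat_lit 2), (nat_lit 1)],
  [(nat_lit 1), (nat_lit 2), (nat_lit 0), (nat_lit 1)],
  [(nat_lit 1), (nat_lit 2), (nat_lit 1), (nat_lit 0)],
  [(nat_lit 2), (nat_lit 0), (nat_lit 1), (nat_lit 0)],
  [(nat_lit 2), (nat_lit 0), (nat_lit 1), (nat_lit 2)],
  [(nat_lit 2), (nat_lit 1), (nat_lit 0), (nat_lit 0)],
  [(nat_lit 2), (nat_lit 1), (nat_lit 0), (nat_lit 1)],
  [(nat_lit 2), (nat_lit 1), (nat_lit 0), (nat_lit 2)],
  [(nat_lit 0), (nat_lit 0), (nat_lit 1), (nat_lit 0), (nat_lit 2)],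
  [(nat_lit 0), (nat_lit 1), (nat_lit 0), (nat_lit 2), (nat_lit 1)],
  [(nat_lit 0), (nat_lit 1), (nat_lit 2), (nat_lit 0), (nat_lit 1)],
  [(nat_lit 0), (nat_lit 1), (nat_lit 2), (nat_lit 1), (nat_lit 0)],
  [(nat_lit 0), (nat_lit 2), (nat_lit 1), (nat_lit 0), (nat_lit 1)],
  [(nat_lit 0), (nat_lit 2), (nat_lit 1), (nat_lit 0), (nat_lit 2)],
  [(nat_lit 1), (nat_lit 0), (nat_lit 1), (nat_lit 2), (nat_lit 1)],
  [(nat_lit 1), (nat_lit 0), (nat_lit 2), (nat_lit 1), (nat_lit 0)],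
  [(nat_lit 1), (nat_lit 2), (nat_lit 0), (nat_lit 1), (nat_lit 0)],
  [(nat_lit 1), (nat_lit 2), (nat_lit 1), (nat_lit 0), (nat_lit 1)],
  [(nat_lit 2), (nat_lit 0), (nat_lit 1), (nat_lit 0), (nat_lit 2)],
  [(nat_lit 2), (nat_lit 0), (nat_lit 1), (nat_lit 2), (nat_lit 0)],
  [(nat_lit 0), (nat_lit 0), (nat_lit 1), (nat_lit 0), (nat_lit 2), (nat_lit 1)],
  [(nat_lit 0), (nat_lit 1), (nat_lit 0), (nat_lit 2), (nat_lit 1), (nat_lit 0)],
  [(nat_lit 0), (nat_lit 1), (nat_lit 2), (nat_lit 0), (nat_lit 1), (nat_lit 0)],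
  [(nat_lit 0), (nat_lit 1), (nat_lit 2), (nat_lit 1), (nat_lit 0), (nat_lit 1)],
  [(nat_lit 1), (nat_lit 0), (nat_lit 1), (nat_lit 2), (nat_lit 1), (nat_lit 0)],
  [(nat_lit 1), (nat_lit 0), (nat_lit 2), (nat_lit 1), (nat_lit 0), (nat_lit 1)],
  [(nat_lit 1), (nat_lit 0), (nat_lit 2), (nat_lit 1), (nat_lit 0), (nat_lit 2)],
  [(nat_lit 2), (nat_lit 0), (nat_lit 1), (nat_lit 2), (nat_lit 0), (nat_lit 1)],
  [(nat_lit 0), (nat_lit 0), (nat_lit 1), (nat_lit 0), (nat_lit 2), (nat_lit 1), (nat_lit 0)],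
  [(nat_lit 0), (nat_lit 1), (nat_lit 0), (nat_lit 2), (nat_lit 1), (nat_lit 0), (nat_lit 1)]]
noncomputable def S5_lA_h (c : ℕ) : ℕ := Nat.mod c (nat_lit 236)
theorem S5_lA_E {G : Type*} [Group G] {R : ℕ → G → Prop} {c d e u : G} {H : Subgroup G}
    (M : Mdl S5_o S5_cs S5_L R [c, d, e, u] H) :
    EnumS R S5_lA (sp [d * c, e * c, u * c]) :=
  enumS_sp M.μ.1 (M.reps.tms M.μ.1 [(.mul (.v (nat_lit 1)) (.v (nat_lit 0))), (.mul (.v (nat_lit 2)) (.v (nat_lit 0))), (.mul (.v (nat_lit 3)) (.v (nat_lit 0)))] (cs' := [(nat_lit 17986), (nat_lit 17601), (nat_lit 14465)]) (by decide +kernel))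
    (Ws := S5_lA_W) (by decide +kernel) (by decide +kernel)
theorem S5_lA_c {G : Type*} [Group G] {R : ℕ → G → Prop} {c d e u : G} {H : Subgroup G}
    (M : Mdl S5_o S5_cs S5_L R [c, d, e, u] H) :
    #(sp [d * c, e * c, u * c]) = 60 :=
  (S5_lA_E M).card M.μ (h := S5_lA_h) (by decide +kernel)
noncomputable def S5_lG : List ℕ := [(nat_lit 18056), (nat_lit 18049), (nat_lit 18000), (nat_lit 17608), (nat_lit 14472), (nat_lit 17986), (nat_lit 17601), (nat_lit 14465), (nat_lit 17937), (nat_lit 17496), (nat_lit 14416), (nat_lit 17104), (nat_lit 13576), (nat_lit 10440), (nat_lit 17930), (nat_lit 17475), (nat_lit 14402), (nat_lit 17090), (nat_lit 13569), (nat_lit 10433), (nat_lit 17433), (nat_lit 14353), (nat_lit 17048), (nat_lit 13408), (nat_lit 10328), (nat_lit 16593), (nat_lit 13072), (nat_lit 9992), (nat_lit 6352), (nat_lit 17419), (nat_lit 14346), (nat_lit 17027), (nat_lit 13380), (nat_lit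 10307), (nat_lit 16586), (nat_lit 13058), (nat_lit 9985), (nat_lit 6338), (nat_lit 16922), (nat_lit 13345), (nat_lit 10265), (nat_lit 16537), (nat_lit 12960), (nat_lit 9824), (nat_lit 6296), (nat_lit 12561), (nat_lit 8984), (nat_lit 5904), (nat_lit 2257), (nat_lit 16915), (nat_lit 13324), (nat_lit 10251), (nat_lit 16523), (nat_lit 12932), (nat_lit 9796), (nat_lit 6275), (nat_lit 12554), (nat_lit 8963), (nat_lit 5890), (nat_lit 2250), (nat_lit 16474), (nat_lit 12834), (nat_lit 9761), (nat_lit 6170), (nat_lit 12449), (nat_lit 8928), (nat_lit 5792), (nat_lit 2201), (nat_lit 8473), (nat_lit 5400), (nat_lit 1809), (nat_lit 16467), (nat_lit 12820), (nat_lit 9740), (nat_lit 6163), (nat_lit 12428), (nat_lit 8900), (nat_lit 5764), (nat_lit 2187), (nat_lit 8459), (nat_lit 5379), (nat_lit 1802), (nat_lit 12386), (nat_lit 8739), (nat_lit 5666), (nat_lit 2138), (nat_lit 8417), (nat_lit 5344), (nat_lit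 1697), (nat_lit 4378), (nat_lit 1305), (nat_lit 12372), (nat_lit 8732), (nat_lit 5652), (nat_lit 2131), (nat_lit 8396), (nat_lit 5316), (nat_lit 1676), (nat_lit 4371), (nat_lit 1291), (nat_lit 8291), (nat_lit 5155), (nat_lit 1634), (nat_lit 4322), (nat_lit 1249), (nat_lit 794), (nat_lit 8284), (nat_lit 5148), (nat_lit 1620), (nat_lit 4308), (nat_lit 1228), (nat_lit 787), (nat_lit 4259), (nat_lit 1123), (nat_lit 738), (nat_lit 4252), (nat_lit 1116), (nat_lit 724), (nat_lit 675), (nat_lit 668)]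
noncomputable def S5_lG_W : List (List ℕ) := [[],
  [(nat_lit 0)],
  [(nat_lit 1)],
  [(nat_lit 2)],
  [(nat_lit 3)],
  [(nat_lit 0), (nat_lit 1)],
  [(nat_lit 0), (nat_lit 2)],
  [(nat_lit 0), (nat_lit 3)],
  [(nat_lit 1), (nat_lit 0)],
  [(nat_lit 1), (nat_lit 2)],
  [(nat_lit 1), (nat_lit 3)],
  [(nat_lit 2), (nat_lit 1)],
  [(nat_lit 2), (nat_lit 3)],
  [(nat_lit 3), (nat_lit 2)],
  [(nat_lit 0), (nat_lit 1), (nat_lit 0)],
  [(nat_lit 0), (nat_lit 1), (nat_lit 2)],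
  [(nat_lit 0), (nat_lit 1), (nat_lit 3)],
  [(nat_lit 0), (nat_lit 2), (nat_lit 1)],
  [(nat_lit 0), (nat_lit 2), (nat_lit 3)],
  [(nat_lit 0), (nat_lit 3), (nat_lit 2)],
  [(nat_lit 1), (nat_lit 0), (nat_lit 2)],
  [(nat_lit 1), (nat_lit 0), (nat_lit 3)],
  [(nat_lit 1), (nat_lit 2), (nat_lit 1)],
  [(nat_lit 1), (nat_lit 2), (nat_lit 3)],
  [(nat_lit 1), (nat_lit 3), (nat_lit 2)],
  [(nat_lit 2), (nat_lit 1), (nat_lit 0)],
  [(nat_lit 2), (nat_lit 1), (nat_lit 3)],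
  [(nat_lit 2), (nat_lit 3), (nat_lit 2)],
  [(nat_lit 3), (nat_lit 2), (nat_lit 1)],
  [(nat_lit 0), (nat_lit 1), (nat_lit 0), (nat_lit 2)],
  [(nat_lit 0), (nat_lit 1), (nat_lit 0), (nat_lit 3)],
  [(nat_lit 0), (nat_lit 1), (nat_lit 2), (nat_lit 1)],
  [(nat_lit 0), (nat_lit 1), (nat_lit 2), (nat_lit 3)],
  [(nat_lit 0), (nat_lit 1), (nat_lit 3), (nat_lit 2)],
  [(nat_lit 0), (nat_lit 2), (nat_lit 1), (nat_lit 0)],
  [(nat_lit 0), (nat_lit 2), (nat_lit 1), (nat_lit 3)],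
  [(nat_lit 0), (nat_lit 2), (nat_lit 3), (nat_lit 2)],
  [(nat_lit 0), (nat_lit 3), (nat_lit 2), (nat_lit 1)],
  [(nat_lit 1), (nat_lit 0), (nat_lit 2), (nat_lit 1)],
  [(nat_lit 1), (nat_lit 0), (nat_lit 2), (nat_lit 3)],
  [(nat_lit 1), (nat_lit 0), (nat_lit 3), (nat_lit 2)],
  [(nat_lit 1), (nat_lit 2), (nat_lit 1), (nat_lit 0)],
  [(nat_lit 1), (nat_lit 2), (nat_lit 1), (nat_lit 3)],
  [(nat_lit 1), (nat_lit 2), (nat_lit 3), (nat_lit 2)],
  [(nat_lit 1), (nat_lit 3), (nat_lit 2), (nat_lit 1)],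
  [(nat_lit 2), (nat_lit 1), (nat_lit 0), (nat_lit 3)],
  [(nat_lit 2), (nat_lit 1), (nat_lit 3), (nat_lit 2)],
  [(nat_lit 2), (nat_lit 3), (nat_lit 2), (nat_lit 1)],
  [(nat_lit 3), (nat_lit 2), (nat_lit 1), (nat_lit 0)],
  [(nat_lit 0), (nat_lit 1), (nat_lit 0), (nat_lit 2), (nat_lit 1)],
  [(nat_lit 0), (nat_lit 1), (nat_lit 0), (nat_lit 2), (nat_lit 3)],
  [(nat_lit 0), (nat_lit 1), (nat_lit 0), (nat_lit 3), (nat_lit 2)],
  [(nat_lit 0), (nat_lit 1), (nat_lit 2), (nat_lit 1), (nat_lit 0)],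
  [(nat_lit 0), (nat_lit 1), (nat_lit 2), (nat_lit 1), (nat_lit 3)],
  [(nat_lit 0), (nat_lit 1), (nat_lit 2), (nat_lit 3), (nat_lit 2)],
  [(nat_lit 0), (nat_lit 1), (nat_lit 3), (nat_lit 2), (nat_lit 1)],
  [(nat_lit 0), (nat_lit 2), (nat_lit 1), (nat_lit 0), (nat_lit 3)],
  [(nat_lit 0), (nat_lit 2), (nat_lit 1), (nat_lit 3), (nat_lit 2)],
  [(nat_lit 0), (nat_lit 2), (nat_lit 3), (nat_lit 2), (nat_lit 1)],
  [(nat_lit 0), (nat_lit 3), (nat_lit 2), (nat_lit 1), (nat_lit 0)],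
  [(nat_lit 1), (nat_lit 0), (nat_lit 2), (nat_lit 1), (nat_lit 0)],
  [(nat_lit 1), (nat_lit 0), (nat_lit 2), (nat_lit 1), (nat_lit 3)],
  [(nat_lit 1), (nat_lit 0), (nat_lit 2), (nat_lit 3), (nat_lit 2)],
  [(nat_lit 1), (nat_lit 0), (nat_lit 3), (nat_lit 2), (nat_lit 1)],
  [(nat_lit 1), (nat_lit 2), (nat_lit 1), (nat_lit 0), (nat_lit 3)],
  [(nat_lit 1), (nat_lit 2), (nat_lit 1), (nat_lit 3), (nat_lit 2)],
  [(nat_lit 1), (nat_lit 2), (nat_lit 3), (nat_lit 2), (nat_lit 1)],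
  [(nat_lit 1), (nat_lit 3), (nat_lit 2), (nat_lit 1), (nat_lit 0)],
  [(nat_lit 2), (nat_lit 1), (nat_lit 0), (nat_lit 3), (nat_lit 2)],
  [(nat_lit 2), (nat_lit 1), (nat_lit 3), (nat_lit 2), (nat_lit 1)],
  [(nat_lit 2), (nat_lit 3), (nat_lit 2), (nat_lit 1), (nat_lit 0)],
  [(nat_lit 0), (nat_lit 1), (nat_lit 0), (nat_lit 2), (nat_lit 1), (nat_lit 0)],
  [(nat_lit 0), (nat_lit 1), (nat_lit 0), (nat_lit 2), (nat_lit 1), (nat_lit 3)],
  [(nat_lit 0), (nat_lit 1), (nat_lit 0), (nat_lit 2), (nat_lit 3), (nat_lit 2)],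
  [(nat_lit 0), (nat_lit 1), (nat_lit 0), (nat_lit 3), (nat_lit 2), (nat_lit 1)],
  [(nat_lit 0), (nat_lit 1), (nat_lit 2), (nat_lit 1), (nat_lit 0), (nat_lit 3)],
  [(nat_lit 0), (nat_lit 1), (nat_lit 2), (nat_lit 1), (nat_lit 3), (nat_lit 2)],
  [(nat_lit 0), (nat_lit 1), (nat_lit 2), (nat_lit 3), (nat_lit 2), (nat_lit 1)],
  [(nat_lit 0), (nat_lit 1), (nat_lit 3), (nat_lit 2), (nat_lit 1), (nat_lit 0)],
  [(nat_lit 0), (nat_lit 2), (nat_lit 1), (nat_lit 0), (nat_lit 3), (nat_lit 2)],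
  [(nat_lit 0), (nat_lit 2), (nat_lit 1), (nat_lit 3), (nat_lit 2), (nat_lit 1)],
  [(nat_lit 0), (nat_lit 2), (nat_lit 3), (nat_lit 2), (nat_lit 1), (nat_lit 0)],
  [(nat_lit 1), (nat_lit 0), (nat_lit 2), (nat_lit 1), (nat_lit 0), (nat_lit 3)],
  [(nat_lit 1), (nat_lit 0), (nat_lit 2), (nat_lit 1), (nat_lit 3), (nat_lit 2)],
  [(nat_lit 1), (nat_lit 0), (nat_lit 2), (nat_lit 3), (nat_lit 2), (nat_lit 1)],
  [(nat_lit 1), (nat_lit 0), (nat_lit 3), (nat_lit 2), (nat_lit 1), (nat_lit 0)],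
  [(nat_lit 1), (nat_lit 2), (nat_lit 1), (nat_lit 0), (nat_lit 3), (nat_lit 2)],
  [(nat_lit 1), (nat_lit 2), (nat_lit 1), (nat_lit 3), (nat_lit 2), (nat_lit 1)],
  [(nat_lit 1), (nat_lit 2), (nat_lit 3), (nat_lit 2), (nat_lit 1), (nat_lit 0)],
  [(nat_lit 2), (nat_lit 1), (nat_lit 0), (nat_lit 3), (nat_lit 2), (nat_lit 1)],
  [(nat_lit 2), (nat_lit 1), (nat_lit 3), (nat_lit 2), (nat_lit 1), (nat_lit 0)],
  [(nat_lit 0), (nat_lit 1), (nat_lit 0), (nat_lit 2), (nat_lit 1), (nat_lit 0), (nat_lit 3)],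
  [(nat_lit 0), (nat_lit 1), (nat_lit 0), (nat_lit 2), (nat_lit 1), (nat_lit 3), (nat_lit 2)],
  [(nat_lit 0), (nat_lit 1), (nat_lit 0), (nat_lit 2), (nat_lit 3), (nat_lit 2), (nat_lit 1)],
  [(nat_lit 0), (nat_lit 1), (nat_lit 0), (nat_lit 3), (nat_lit 2), (nat_lit 1), (nat_lit 0)],
  [(nat_lit 0), (nat_lit 1), (nat_lit 2), (nat_lit 1), (nat_lit 0), (nat_lit 3), (nat_lit 2)],
  [(nat_lit 0), (nat_lit 1), (nat_lit 2), (nat_lit 1), (nat_lit 3), (nat_lit 2), (nat_lit 1)],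
  [(nat_lit 0), (nat_lit 1), (nat_lit 2), (nat_lit 3), (nat_lit 2), (nat_lit 1), (nat_lit 0)],
  [(nat_lit 0), (nat_lit 2), (nat_lit 1), (nat_lit 0), (nat_lit 3), (nat_lit 2), (nat_lit 1)],
  [(nat_lit 0), (nat_lit 2), (nat_lit 1), (nat_lit 3), (nat_lit 2), (nat_lit 1), (nat_lit 0)],
  [(nat_lit 1), (nat_lit 0), (nat_lit 2), (nat_lit 1), (nat_lit 0), (nat_lit 3), (nat_lit 2)],
  [(nat_lit 1), (nat_lit 0), (nat_lit 2), (nat_lit 1), (nat_lit 3), (nat_lit 2), (nat_lit 1)],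
  [(nat_lit 1), (nat_lit 0), (nat_lit 2), (nat_lit 3), (nat_lit 2), (nat_lit 1), (nat_lit 0)],
  [(nat_lit 1), (nat_lit 2), (nat_lit 1), (nat_lit 0), (nat_lit 3), (nat_lit 2), (nat_lit 1)],
  [(nat_lit 1), (nat_lit 2), (nat_lit 1), (nat_lit 3), (nat_lit 2), (nat_lit 1), (nat_lit 0)],
  [(nat_lit 2), (nat_lit 1), (nat_lit 0), (nat_lit 3), (nat_lit 2), (nat_lit 1), (nat_lit 0)],
  [(nat_lit 0), (nat_lit 1), (nat_lit 0), (nat_lit 2), (nat_lit 1), (nat_lit 0), (nat_lit 3), (nat_lit 2)],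
  [(nat_lit 0), (nat_lit 1), (nat_lit 0), (nat_lit 2), (nat_lit 1), (nat_lit 3), (nat_lit 2), (nat_lit 1)],
  [(nat_lit 0), (nat_lit 1), (nat_lit 0), (nat_lit 2), (nat_lit 3), (nat_lit 2), (nat_lit 1), (nat_lit 0)],
  [(nat_lit 0), (nat_lit 1), (nat_lit 2), (nat_lit 1), (nat_lit 0), (nat_lit 3), (nat_lit 2), (nat_lit 1)],
  [(nat_lit 0), (nat_lit 1), (nat_lit 2), (nat_lit 1), (nat_lit 3), (nat_lit 2), (nat_lit 1), (nat_lit 0)],
  [(nat_lit 0), (nat_lit 2), (nat_lit 1), (nat_lit 0), (nat_lit 3), (nat_lit 2), (nat_lit 1), (nat_lit 0)],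
  [(nat_lit 1), (nat_lit 0), (nat_lit 2), (nat_lit 1), (nat_lit 0), (nat_lit 3), (nat_lit 2), (nat_lit 1)],
  [(nat_lit 1), (nat_lit 0), (nat_lit 2), (nat_lit 1), (nat_lit 3), (nat_lit 2), (nat_lit 1), (nat_lit 0)],
  [(nat_lit 1), (nat_lit 2), (nat_lit 1), (nat_lit 0), (nat_lit 3), (nat_lit 2), (nat_lit 1), (nat_lit 0)],
  [(nat_lit 0), (nat_lit 1), (nat_lit 0), (nat_lit 2), (nat_lit 1), (nat_lit 0), (nat_lit 3), (nat_lit 2), (nat_lit 1)],
  [(nat_lit 0), (nat_lit 1), (nat_lit 0), (nat_lit 2), (nat_lit 1), (nat_lit 3), (nat_lit 2), (nat_lit 1), (nat_lit 0)],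
  [(nat_lit 0), (nat_lit 1), (nat_lit 2), (nat_lit 1), (nat_lit 0), (nat_lit 3), (nat_lit 2), (nat_lit 1), (nat_lit 0)],
  [(nat_lit 1), (nat_lit 0), (nat_lit 2), (nat_lit 1), (nat_lit 0), (nat_lit 3), (nat_lit 2), (nat_lit 1), (nat_lit 0)],
  [(nat_lit 0), (nat_lit 1), (nat_lit 0), (nat_lit 2), (nat_lit 1), (nat_lit 0), (nat_lit 3), (nat_lit 2), (nat_lit 1), (nat_lit 0)]]
noncomputable def S5_lG_h (c : ℕ) : ℕ := Nat.mod c (nat_lit 915)
theorem S5_lG_E {G : Type*} [Group G] {R : ℕ → G → Prop} {c d e u : G} {H : Subgroup G}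
    (M : Mdl S5_o S5_cs S5_L R [c, d, e, u] H) :
    EnumS R S5_lG (sp [c, d, e, u]) :=
  enumS_sp M.μ.1 (M.reps.tms M.μ.1 [(.v (nat_lit 0)), (.v (nat_lit 1)), (.v (nat_lit 2)), (.v (nat_lit 3))] (cs' := [(nat_lit 18049), (nat_lit 18000), (nat_lit 17608), (nat_lit 14472)]) (by decide +kernel))
    (Ws := S5_lG_W) (by decide +kernel) (by decide +kernel)
theorem S5_lG_c {G : Type*} [Group G] {R : ℕ → G → Prop} {c d e u : G} {H : Subgroup G}
    (M : Mdl S5_o S5_cs S5_L R [c, d, e, u] H) :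
    #(sp [c, d, e, u]) = 120 :=
  (S5_lG_E M).card M.μ (h := S5_lG_h) (by decide +kernel)
noncomputable def S5_rel_f_F : Fm := (.qf (.and (.eq (.mul (.v (nat_lit 0)) (.v (nat_lit 0))) .one) (.and (.eq (.mul (.v (nat_lit 1)) (.v (nat_lit 1))) .one) (.and (.eq (.mul (.v (nat_lit 2)) (.v (nat_lit 2))) .one) (.and (.eq (.mul (.v (nat_lit 3)) (.v (nat_lit 3))) .one) (.and (.eq (.pw (.mul (.v (nat_lit 1)) (.v (nat_lit 0))) (nat_lit 3)) .one) (.and (.eq (.pw (.mul (.v (nat_lit 2)) (.v (nat_lit 1))) (nat_lit 3)) .one) (.and (.eq (.pw (.mul (.v (nat_lit 3)) (.v (nat_lit 2))) (nat_lit 3)) .one) (.and (.eq (.mul (.v (nat_lit 0)) (.v (nat_lit 2))) (.mul (.v (nat_lit 2)) (.v (nat_lit 0)))) (.and (.eq (.mul (.v (nat_lit 0)) (.v (nat_lit 3))) (.mul (.v (nat_lit 3)) (.v (nat_lit 0)))) (.eq (.mul (.v (nat_lit 1)) (.v (nat_lit 3))) (.mul (.v (nat_lit 3)) (.v (nat_lit 1))))))))))))))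
theorem S5_rel_f_chk : Fm.chk S5_o S5_rel_f_F S5_cs = true := by decide +kernel
theorem S5_rel_f {G : Type*} [Group G] {R : ℕ → G → Prop} {c d e u : G} {H : Subgroup G}
    (M : Mdl S5_o S5_cs S5_L R [c, d, e, u] H) :
    c * c = 1 ∧ d * d = 1 ∧ e * e = 1 ∧ u * u = 1 ∧ (d * c) ^ 3 = 1 ∧ (e * d) ^ 3 = 1 ∧ (u * e) ^ 3 = 1 ∧ c * e = e * c ∧ c * u = u * c ∧ d * u = u * d :=
  Fm.sound M.μ S5_rel_f_F S5_rel_f_chk M.reps
theorem S5_rel {G : Type*} [Group G] {R : ℕ → G → Prop} {c d e u : G} {H : Subgroup G}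
    (M : Mdl S5_o S5_cs S5_L R [c, d, e, u] H) :
    C5 c d e u :=
  have h := S5_rel_f M
  ⟨h.1, h.2.1, h.2.2.1, h.2.2.2.1, h.2.2.2.2.1, h.2.2.2.2.2.1, h.2.2.2.2.2.2.1, h.2.2.2.2.2.2.2.1, h.2.2.2.2.2.2.2.2.1, h.2.2.2.2.2.2.2.2.2, trivial⟩
noncomputable def S5_ord_F : Fm := (.allS S5_lA (.qf (.or (.eq (.pw (.v (nat_lit 0)) (nat_lit 2)) .one) (.or (.eq (.pw (.v (nat_lit 0)) (nat_lit 3)) .one) (.eq (.pw (.v (nat_lit 0)) (nat_lit 5)) .one)))))
theorem S5_ord_chk : Fm.chk S5_o S5_ord_F S5_cs = true := by decide +kernel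
theorem S5_ord {G : Type*} [Group G] {R : ℕ → G → Prop} {c d e u : G} {H : Subgroup G}
    (M : Mdl S5_o S5_cs S5_L R [c, d, e, u] H) :
    ∀ g ∈ sp [d * c, e * c, u * c], g ^ 2 = 1 ∨ g ^ 3 = 1 ∨ g ^ 5 = 1 :=
  have h : ∀ g, InS R S5_lA g → g ^ 2 = 1 ∨ g ^ 3 = 1 ∨ g ^ 5 = 1 :=
    Fm.sound M.μ S5_ord_F S5_ord_chk M.reps
  (fun g h0 => (h g ((S5_lA_E M).iff.2 h0)))
noncomputable def S5_p3_t0 : ST := (.node (nat_lit 20) (.node (nat_lit 11) (.node (nat_lit 7) (.node (nat_lit 3) (.leaf (nat_lit 6)) (.leaf (nat_lit 1))) (.node (nat_lit 8) (.leaf (nat_lit 8)) (.leaf (nat_lit 2)))) (.node (nat_lit 15) (.node (nat_lit 12) (.leaf (nat_lit 3)) (.leaf (nat_lit 1))) (.node (nat_lit 17) (.leaf (nat_lit 2)) (.leaf (nat_lit 1))))) (.node (nat_lit 26) (.node (nat_lit 23) (.node (nat_lit 22) (.leaf (nat_lit 5)) (.leaf (nat_lit 3))) (.node (nat_lit 24) (.leaf (nat_lit 6)) (.leaf (nat_lit 3)))) (.node (nat_lit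 31) (.node (nat_lit 29) (.leaf (nat_lit 1)) (.leaf (nat_lit 2))) (.node (nat_lit 35) (.leaf (nat_lit 5)) (.node (nat_lit 36) (.leaf (nat_lit 2)) (.leaf (nat_lit 8)))))))
noncomputable def S5_p3_F : Fm := (.allS S5_lA (.imp (.eq (.pw (.v (nat_lit 0)) (nat_lit 3)) .one) (.or (.qf (.eq (.v (nat_lit 0)) .one)) (.exG S5_lA (fun cs => S5_p3_t0.find (Nat.mod (nth (nat_lit 0) cs (nat_lit 0)) (nat_lit 39))) (.qf (.not (.eq (.pw (.mul (.v (nat_lit 1)) (.mul (.mul (.v (nat_lit 0)) (.v (nat_lit 1))) (.inv (.v (nat_lit 0))))) (nat_lit 3)) .one)))))))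
theorem S5_p3_chk : Fm.chk S5_o S5_p3_F S5_cs = true := by decide +kernel
theorem S5_p3 {G : Type*} [Group G] {R : ℕ → G → Prop} {c d e u : G} {H : Subgroup G}
    (M : Mdl S5_o S5_cs S5_L R [c, d, e, u] H) :
    ∀ g ∈ sp [d * c, e * c, u * c], g ^ 3 = 1 → g = 1 ∨ (∃ m ∈ sp [d * c, e * c, u * c], (g * (m * g * m⁻¹)) ^ 3 ≠ 1) :=
  have h : ∀ g, InS R S5_lA g → g ^ 3 = 1 → g = 1 ∨ (GoodS R S5_lA → S5_lA ≠ [] → ∃ m, InS R S5_lA m ∧ (g * (m * g * m⁻¹)) ^ 3 ≠ 1) :=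
    Fm.sound M.μ S5_p3_F S5_p3_chk M.reps
  (fun g h0 => (fun h1 => (Or.imp (fun h2 => h2) (fun h2 => (Exists.imp (fun m h3 => ⟨(S5_lA_E M).iff.1 h3.1, h3.2⟩) (h2 (S5_lA_E M).good (S5_lA_E M).ne))) ((h g ((S5_lA_E M).iff.2 h0)) h1))))
noncomputable def S5_c3_t0 : ST := (.node (nat_lit 46) (.node (nat_lit 22) (.node (nat_lit 4) (.node (nat_lit 3) (.leaf (nat_lit 25)) (.leaf (nat_lit 110))) (.node (nat_lit 8) (.leaf (nat_lit 18)) (.node (nat_lit 12) (.leaf (nat_lit 90)) (.leaf (nat_lit 43))))) (.node (nat_lit 24) (.node (nat_lit 23) (.leaf (nat_lit 23)) (.leaf (nat_lit 20))) (.node (nat_lit 25) (.leaf (nat_lit 3)) (.node (nat_lit 26) (.leaf (nat_lit 10)) (.leaf (nat_lit 50)))))) (.node (nat_lit 66) (.node (nat_lit 54) (.node (nat_lit 50) (.leaf (nat_lit 0)) (.leaf (nat_lit 30))) (.node (nat_lit 56) (.leaf (nat_lit 83)) (.node (nat_lit 59) (.leaf (nat_lit 103)) (.leaf (nat_lit 85))))) (.node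 (nat_lit 70) (.node (nat_lit 68) (.leaf (nat_lit 78)) (.leaf (nat_lit 70))) (.node (nat_lit 74) (.leaf (nat_lit 80)) (.node (nat_lit 75) (.leaf (nat_lit 63)) (.leaf (nat_lit 5)))))))
noncomputable def S5_c3_F : Fm := (.allS S5_lA (.imp (.eq (.pw (.v (nat_lit 0)) (nat_lit 3)) .one) (.or (.qf (.eq (.v (nat_lit 0)) .one)) (.exF S5_L (fun cs => S5_c3_t0.find (Nat.mod (nth (nat_lit 0) cs (nat_lit 0)) (nat_lit 78))) (.qf (.eq (.mul (.mul (.v (nat_lit 0)) (.v (nat_lit 1))) (.inv (.v (nat_lit 0)))) (.mul (.v (nat_lit 3)) (.v (nat_lit 2)))))))))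
theorem S5_c3_chk : Fm.chk S5_o S5_c3_F S5_cs = true := by decide +kernel
theorem S5_c3 {G : Type*} [Group G] {R : ℕ → G → Prop} {c d e u : G} {H : Subgroup G}
    (M : Mdl S5_o S5_cs S5_L R [c, d, e, u] H) :
    ∀ g ∈ sp [d * c, e * c, u * c], g ^ 3 = 1 → g = 1 ∨ (∃ m ∈ H, m * g * m⁻¹ = d * c) :=
  have h : ∀ g, InS R S5_lA g → g ^ 3 = 1 → g = 1 ∨ (Good S5_o R S5_L → prods S5_o S5_L S5_o.one ≠ [] → ∃ m, InL S5_o R S5_L m ∧ m * g * m⁻¹ = d * c) :=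
    Fm.sound M.μ S5_c3_F S5_c3_chk M.reps
  (fun g h0 => (fun h1 => (Or.imp (fun h2 => h2) (fun h2 => (Exists.imp (fun m h3 => ⟨M.H.iff.1 h3.1, h3.2⟩) (h2 M.H.good M.H.ne))) ((h g ((S5_lA_E M).iff.2 h0)) h1))))
noncomputable def S5_n_F : Fm := (.all S5_L (.allS S5_lA (.qf (.mem (.mul (.mul (.v (nat_lit 1)) (.v (nat_lit 0))) (.inv (.v (nat_lit 1)))) S5_lA))))
theorem S5_n_chk : Fm.chk S5_o S5_n_F S5_cs = true := by decide +kernel
theorem S5_n {G : Type*} [Group G] {R : ℕ → G → Prop} {c d e u : G} {H : Subgroup G}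
    (M : Mdl S5_o S5_cs S5_L R [c, d, e, u] H) :
    ∀ m ∈ H, ∀ g ∈ sp [d * c, e * c, u * c], m * g * m⁻¹ ∈ sp [d * c, e * c, u * c] :=
  have h : ∀ m, InL S5_o R S5_L m → ∀ g, InS R S5_lA g → InS R S5_lA (m * g * m⁻¹) :=
    Fm.sound M.μ S5_n_F S5_n_chk M.reps
  (fun m h0 => (fun g h1 => ((S5_lA_E M).iff.1 ((h m (M.H.iff.2 h0)) g ((S5_lA_E M).iff.2 h1)))))
noncomputable def S5_e_F : Fm := (.qf (.and (.mem (.mul (.v (nat_lit 0)) (.v (nat_lit 3))) S5_lA) (.and (.eq (.mul (.mul (.v (nat_lit 0)) (.v (nat_lit 3))) (.mul (.v (nat_lit 0)) (.v (nat_lit 3)))) .one) (.and (.not (.eq (.mul (.v (nat_lit 0)) (.v (nat_lit 3))) .one)) (.and (.eq (.mul (.mul (.mul (.mul (.v (nat_lit 0)) (.v (nat_lit 3))) (.mul (.v (nat_lit 1)) (.v (nat_lit 0)))) (.inv (.mul (.v (nat_lit 0)) (.v (nat_lit 3))))) (.mul (.v (nat_lit 1)) (.v (nat_lit 0)))) .one) (.and (.not (.eq (.mul (.v (nat_lit 1)) (.v (nat_lit 0))) .one))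 (.and (.not (.eq (.pw (.mul (.v (nat_lit 1)) (.v (nat_lit 0))) (nat_lit 2)) .one)) (.and (.not (.mem (.v (nat_lit 0)) S5_lA)) (.and (.not (.mem (.v (nat_lit 1)) S5_lA)) (.and (.not (.mem (.v (nat_lit 2)) S5_lA)) (.and (.not (.mem (.v (nat_lit 3)) S5_lA)) (.and (.not (.eq (.mul (.v (nat_lit 0)) (.v (nat_lit 2))) .one)) (.and (.not (.eq (.mul (.v (nat_lit 1)) (.v (nat_lit 3))) .one)) (.and (.mem (.mul (.v (nat_lit 0)) (.v (nat_lit 2))) S5_lA) (.and (.mem (.mul (.v (nat_lit 1)) (.v (nat_lit 3))) S5_lA) (.and (.mem (.mul (.v (nat_lit 1)) (.v (nat_lit 0))) S5_lA) (.and (.mem (.mul (.v (nat_lit 2)) (.v (nat_lit 1))) S5_lA) (.mem (.mul (.v (nat_lit 3)) (.v (nat_lit 2))) S5_lA))))))))))))))))))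
theorem S5_e_chk : Fm.chk S5_o S5_e_F S5_cs = true := by decide +kernel
theorem S5_e {G : Type*} [Group G] {R : ℕ → G → Prop} {c d e u : G} {H : Subgroup G}
    (M : Mdl S5_o S5_cs S5_L R [c, d, e, u] H) :
    c * u ∈ sp [d * c, e * c, u * c] ∧ c * u * (c * u) = 1 ∧ c * u ≠ 1 ∧ c * u * (d * c) * (c * u)⁻¹ * (d * c) = 1 ∧ d * c ≠ 1 ∧ (d * c) ^ 2 ≠ 1 ∧ c ∉ sp [d * c, e * c, u * c] ∧ d ∉ sp [d * c, e * c, u * c] ∧ e ∉ sp [d * c, e * c, u * c] ∧ u ∉ sp [d * c, e * c, u * c] ∧ c * e ≠ 1 ∧ d * u ≠ 1 ∧ c * e ∈ sp [d * c, e * c, u * c] ∧ d * u ∈ sp [d * c, e * c, u * c] ∧ d * c ∈ sp [d * c, e * c, u * c] ∧ e * d ∈ sp [d * c, e * c, u * c] ∧ u * e ∈ sp [d * c, e * c, u * c] :=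
  have h : InS R S5_lA (c * u) ∧ c * u * (c * u) = 1 ∧ c * u ≠ 1 ∧ c * u * (d * c) * (c * u)⁻¹ * (d * c) = 1 ∧ d * c ≠ 1 ∧ (d * c) ^ 2 ≠ 1 ∧ ¬ InS R S5_lA (c) ∧ ¬ InS R S5_lA (d) ∧ ¬ InS R S5_lA (e) ∧ ¬ InS R S5_lA (u) ∧ c * e ≠ 1 ∧ d * u ≠ 1 ∧ InS R S5_lA (c * e) ∧ InS R S5_lA (d * u) ∧ InS R S5_lA (d * c) ∧ InS R S5_lA (e * d) ∧ InS R S5_lA (u * e) :=
    Fm.sound M.μ S5_e_F S5_e_chk M.reps
  ((and_congr (S5_lA_E M).iff (and_congr Iff.rfl (and_congr Iff.rfl (and_congr Iff.rfl (and_congr Iff.rfl (and_congr Iff.rfl (and_congr (not_congr (S5_lA_E M).iff) (and_congr (not_congr (S5_lA_E M).iff) (and_congr (not_congr (S5_lA_E M).iff) (and_congr (not_congr (S5_lA_E M).iff) (and_congr Iff.rfl (and_congr Iff.rfl (and_congr (S5_lA_E M).iff (and_congr (S5_lA_E M).iff (and_congr (S5_lA_E M).iff (and_congr (S5_lA_E M).iff (S5_lA_E M).iff)))))))))))))))).1 h)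
noncomputable def S5_cc_F : Fm := (.allS S5_lA (.imp (.eq (.mul (.v (nat_lit 0)) (.mul (.v (nat_lit 2)) (.v (nat_lit 1)))) (.mul (.mul (.v (nat_lit 2)) (.v (nat_lit 1))) (.v (nat_lit 0)))) (.qf (.or (.eq (.v (nat_lit 0)) .one) (.or (.eq (.v (nat_lit 0)) (.mul (.v (nat_lit 2)) (.v (nat_lit 1)))) (.eq (.v (nat_lit 0)) (.inv (.mul (.v (nat_lit 2)) (.v (nat_lit 1))))))))))
theorem S5_cc_chk : Fm.chk S5_o S5_cc_F S5_cs = true := by decide +kernel
theorem S5_cc {G : Type*} [Group G] {R : ℕ → G → Prop} {c d e u : G} {H : Subgroup G}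
    (M : Mdl S5_o S5_cs S5_L R [c, d, e, u] H) :
    ∀ g ∈ sp [d * c, e * c, u * c], g * (d * c) = d * c * g → g = 1 ∨ g = d * c ∨ g = (d * c)⁻¹ :=
  have h : ∀ g, InS R S5_lA g → g * (d * c) = d * c * g → g = 1 ∨ g = d * c ∨ g = (d * c)⁻¹ :=
    Fm.sound M.μ S5_cc_F S5_cc_chk M.reps
  (fun g h0 => (h g ((S5_lA_E M).iff.2 h0)))
noncomputable def S5_cm_t0 : ST := (.node (nat_lit 452) (.node (nat_lit 248) (.node (nat_lit 121) (.node (nat_lit 82) (.node (nat_lit 45) (.leaf (nat_lit 35)) (.node (nat_lit 54) (.leaf (nat_lit 1)) (.leaf (nat_lit 18)))) (.node (nat_lit 90) (.node (nat_lit 84) (.leaf (nat_lit 10)) (.leaf (nat_lit 22))) (.node (nat_lit 95) (.leaf (nat_lit 19)) (.leaf (nat_lit 32))))) (.node (nat_lit 155) (.node (nat_lit 146) (.leaf (nat_lit 14)) (.node (nat_lit 152) (.leaf (nat_lit 46)) (.leaf (nat_lit 8)))) (.node (nat_lit 240) (.node (nat_lit 187) (.leaf (nat_lit 11)) (.leaf (nat_lit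 7))) (.node (nat_lit 244) (.leaf (nat_lit 36)) (.leaf (nat_lit 42)))))) (.node (nat_lit 344) (.node (nat_lit 298) (.node (nat_lit 272) (.leaf (nat_lit 21)) (.node (nat_lit 283) (.leaf (nat_lit 17)) (.leaf (nat_lit 12)))) (.node (nat_lit 315) (.node (nat_lit 304) (.leaf (nat_lit 33)) (.leaf (nat_lit 23))) (.node (nat_lit 324) (.leaf (nat_lit 28)) (.leaf (nat_lit 36))))) (.node (nat_lit 399) (.node (nat_lit 351) (.node (nat_lit 347) (.leaf (nat_lit 15)) (.leaf (nat_lit 20))) (.node (nat_lit 359) (.leaf (nat_lit 6)) (.leaf (nat_lit 10)))) (.node (nat_lit 419) (.node (nat_lit 417) (.leaf (nat_lit 21)) (.leaf (nat_lit 30))) (.node (nat_lit 449) (.leaf (nat_lit 3)) (.leaf (nat_lit 21))))))) (.node (nat_lit 668) (.node (nat_lit 568) (.node (nat_lit 508) (.node (nat_lit 460) (.leaf (nat_lit 35)) (.node (nat_lit 506) (.leaf (nat_lit 12)) (.leaf (nat_lit 9)))) (.node (nat_lit 530) (.node (nat_lit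 523) (.leaf (nat_lit 5)) (.leaf (nat_lit 3))) (.node (nat_lit 559) (.leaf (nat_lit 16)) (.leaf (nat_lit 8))))) (.node (nat_lit 617) (.node (nat_lit 604) (.node (nat_lit 600) (.leaf (nat_lit 32)) (.leaf (nat_lit 55))) (.node (nat_lit 608) (.leaf (nat_lit 14)) (.leaf (nat_lit 47)))) (.node (nat_lit 628) (.node (nat_lit 627) (.leaf (nat_lit 6)) (.leaf (nat_lit 10))) (.node (nat_lit 660) (.leaf (nat_lit 45)) (.leaf (nat_lit 55)))))) (.node (nat_lit 731) (.node (nat_lit 704) (.node (nat_lit 682) (.leaf (nat_lit 35)) (.node (nat_lit 692) (.leaf (nat_lit 29)) (.leaf (nat_lit 10)))) (.node (nat_lit 714) (.node (nat_lit 706) (.leaf (nat_lit 0)) (.leaf (nat_lit 22))) (.node (nat_lit 725) (.leaf (nat_lit 10)) (.leaf (nat_lit 2))))) (.node (nat_lit 792) (.node (nat_lit 762) (.node (nat_lit 740) (.leaf (nat_lit 17)) (.leaf (nat_lit 21))) (.node (nat_lit 770) (.leaf (nat_lit 15)) (.leaf (nat_lit 8))))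 (.node (nat_lit 820) (.node (nat_lit 814) (.leaf (nat_lit 37)) (.leaf (nat_lit 13))) (.node (nat_lit 824) (.leaf (nat_lit 47)) (.leaf (nat_lit 31))))))))
noncomputable def S5_cm_t1 : ST := (.node (nat_lit 114) (.node (nat_lit 48) (.node (nat_lit 17) (.node (nat_lit 11) (.node (nat_lit 4) (.leaf (nat_lit 1)) (.node (nat_lit 7) (.leaf (nat_lit 4)) (.leaf (nat_lit 5)))) (.node (nat_lit 14) (.leaf (nat_lit 3)) (.node (nat_lit 16) (.leaf (nat_lit 1)) (.leaf (nat_lit 7))))) (.node (nat_lit 27) (.node (nat_lit 20) (.leaf (nat_lit 4)) (.node (nat_lit 24) (.leaf (nat_lit 7)) (.leaf (nat_lit 9)))) (.node (nat_lit 32) (.node (nat_lit 30) (.leaf (nat_lit 3)) (.leaf (nat_lit 2))) (.node (nat_lit 45) (.leaf (nat_lit 1)) (.leaf (nat_lit 2)))))) (.node (nat_lit 69) (.node (nat_lit 63) (.node (nat_lit 50) (.leaf (nat_lit 5)) (.node (nat_lit 53) (.leaf (nat_lit 3)) (.leaf (nat_lit 2)))) (.node (nat_lit 64)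 (.leaf (nat_lit 5)) (.node (nat_lit 66) (.leaf (nat_lit 4)) (.leaf (nat_lit 1))))) (.node (nat_lit 78) (.node (nat_lit 73) (.leaf (nat_lit 12)) (.node (nat_lit 76) (.leaf (nat_lit 1)) (.leaf (nat_lit 3)))) (.node (nat_lit 100) (.node (nat_lit 79) (.leaf (nat_lit 1)) (.leaf (nat_lit 7))) (.node (nat_lit 112) (.leaf (nat_lit 1)) (.leaf (nat_lit 4))))))) (.node (nat_lit 160) (.node (nat_lit 130) (.node (nat_lit 124) (.node (nat_lit 117) (.leaf (nat_lit 1)) (.node (nat_lit 120) (.leaf (nat_lit 2)) (.leaf (nat_lit 0)))) (.node (nat_lit 125) (.leaf (nat_lit 2)) (.node (nat_lit 129) (.leaf (nat_lit 3)) (.leaf (nat_lit 4))))) (.node (nat_lit 152) (.node (nat_lit 133) (.leaf (nat_lit 6)) (.node (nat_lit 137) (.leaf (nat_lit 4)) (.leaf (nat_lit 1)))) (.node (nat_lit 157) (.node (nat_lit 156) (.leaf (nat_lit 7)) (.leaf (nat_lit 8))) (.node (nat_lit 159) (.leaf (nat_lit 3)) (.leaf (nat_lit 1)))))) (.node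 (nat_lit 187) (.node (nat_lit 179) (.node (nat_lit 164) (.leaf (nat_lit 6)) (.node (nat_lit 168) (.leaf (nat_lit 1)) (.leaf (nat_lit 3)))) (.node (nat_lit 183) (.leaf (nat_lit 2)) (.node (nat_lit 186) (.leaf (nat_lit 1)) (.leaf (nat_lit 5))))) (.node (nat_lit 196) (.node (nat_lit 191) (.leaf (nat_lit 3)) (.node (nat_lit 192) (.leaf (nat_lit 4)) (.leaf (nat_lit 2)))) (.node (nat_lit 202) (.node (nat_lit 199) (.leaf (nat_lit 3)) (.leaf (nat_lit 5))) (.node (nat_lit 216) (.leaf (nat_lit 1)) (.leaf (nat_lit 6))))))))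
noncomputable def S5_cm_F : Fm := (.allS S5_lA (.exG S5_lA (fun cs => S5_cm_t1.find (Nat.mod (nth (nat_lit 0) cs (nat_lit 0)) (nat_lit 236))) (.exG S5_lA (fun cs => S5_cm_t0.find (Nat.mod (Nat.add (nth (nat_lit 0) cs (nat_lit 1)) (Nat.mul (nat_lit 7919) (nth (nat_lit 0) cs (nat_lit 0)))) (nat_lit 836))) (.qf (.eq (.v (nat_lit 2)) (.mul (.mul (.mul (.v (nat_lit 1)) (.v (nat_lit 0))) (.inv (.v (nat_lit 1)))) (.inv (.v (nat_lit 0)))))))))
theorem S5_cm_chk : Fm.chk S5_o S5_cm_F S5_cs = true := by decide +kernel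
theorem S5_cm {G : Type*} [Group G] {R : ℕ → G → Prop} {c d e u : G} {H : Subgroup G}
    (M : Mdl S5_o S5_cs S5_L R [c, d, e, u] H) :
    ∀ g ∈ sp [d * c, e * c, u * c], ∃ m ∈ sp [d * c, e * c, u * c], ∃ l ∈ sp [d * c, e * c, u * c], g = ⁅m, l⁆ :=
  have h : ∀ g, InS R S5_lA g → (GoodS R S5_lA → S5_lA ≠ [] → ∃ m, InS R S5_lA m ∧ (GoodS R S5_lA → S5_lA ≠ [] → ∃ l, InS R S5_lA l ∧ g = ⁅m, l⁆)) :=
    Fm.sound M.μ S5_cm_F S5_cm_chk M.reps
  (fun g h0 => (Exists.imp (fun m h1 => ⟨(S5_lA_E M).iff.1 h1.1, (Exists.imp (fun l h2 => ⟨(S5_lA_E M).iff.1 h2.1, h2.2⟩) (h1.2 (S5_lA_E M).good (S5_lA_E M).ne))⟩) ((h g ((S5_lA_E M).iff.2 h0)) (S5_lA_E M).good (S5_lA_E M).ne)))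
noncomputable def S5_iv_F : Fm := (.allS S5_lA (.imp (.eq (.mul (.mul (.v (nat_lit 0)) (.mul (.v (nat_lit 2)) (.v (nat_lit 1)))) (.inv (.v (nat_lit 0)))) (.inv (.mul (.v (nat_lit 2)) (.v (nat_lit 1))))) (.qf (.or (.eq (.v (nat_lit 0)) (.mul (.v (nat_lit 1)) (.v (nat_lit 4)))) (.or (.eq (.v (nat_lit 0)) (.mul (.mul (.v (nat_lit 1)) (.v (nat_lit 4))) (.mul (.v (nat_lit 2)) (.v (nat_lit 1))))) (.eq (.v (nat_lit 0)) (.mul (.mul (.v (nat_lit 1)) (.v (nat_lit 4))) (.inv (.mul (.v (nat_lit 2)) (.v (nat_lit 1)))))))))))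
theorem S5_iv_chk : Fm.chk S5_o S5_iv_F S5_cs = true := by decide +kernel
theorem S5_iv {G : Type*} [Group G] {R : ℕ → G → Prop} {c d e u : G} {H : Subgroup G}
    (M : Mdl S5_o S5_cs S5_L R [c, d, e, u] H) :
    ∀ g ∈ sp [d * c, e * c, u * c], g * (d * c) * g⁻¹ = (d * c)⁻¹ → g = c * u ∨ g = c * u * (d * c) ∨ g = c * u * (d * c)⁻¹ :=
  have h : ∀ g, InS R S5_lA g → g * (d * c) * g⁻¹ = (d * c)⁻¹ → g = c * u ∨ g = c * u * (d * c) ∨ g = c * u * (d * c)⁻¹ :=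
    Fm.sound M.μ S5_iv_F S5_iv_chk M.reps
  (fun g h0 => (h g ((S5_lA_E M).iff.2 h0)))
noncomputable def S5_i2_F : Fm := (.all S5_L (.all S5_L (.qf (.or (.mem (.v (nat_lit 1)) S5_lA) (.or (.mem (.v (nat_lit 0)) S5_lA) (.mem (.mul (.v (nat_lit 1)) (.v (nat_lit 0))) S5_lA))))))
theorem S5_i2_chk : Fm.chk S5_o S5_i2_F S5_cs = true := by decide +kernel
theorem S5_i2 {G : Type*} [Group G] {R : ℕ → G → Prop} {c d e u : G} {H : Subgroup G}
    (M : Mdl S5_o S5_cs S5_L R [c, d, e, u] H) :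
    ∀ g ∈ H, ∀ k ∈ H, g ∈ sp [d * c, e * c, u * c] ∨ k ∈ sp [d * c, e * c, u * c] ∨ g * k ∈ sp [d * c, e * c, u * c] :=
  have h : ∀ g, InL S5_o R S5_L g → ∀ k, InL S5_o R S5_L k → InS R S5_lA (g) ∨ InS R S5_lA (k) ∨ InS R S5_lA (g * k) :=
    Fm.sound M.μ S5_i2_F S5_i2_chk M.reps
  (fun g h0 => (fun k h1 => ((or_congr (S5_lA_E M).iff (or_congr (S5_lA_E M).iff (S5_lA_E M).iff)).1 ((h g (M.H.iff.2 h0)) k (M.H.iff.2 h1)))))
noncomputable def S5_f_F : Fm := (.exG S5_lA (fun _ => (nat_lit 13)) (.qf (.and (.eq (.pw (.v (nat_lit 0)) (nat_lit 5)) .one) (.not (.eq (.v (nat_lit 0)) .one)))))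
theorem S5_f_chk : Fm.chk S5_o S5_f_F S5_cs = true := by decide +kernel
theorem S5_f {G : Type*} [Group G] {R : ℕ → G → Prop} {c d e u : G} {H : Subgroup G}
    (M : Mdl S5_o S5_cs S5_L R [c, d, e, u] H) :
    ∃ g ∈ sp [d * c, e * c, u * c], g ^ 5 = 1 ∧ g ≠ 1 :=
  have h : (GoodS R S5_lA → S5_lA ≠ [] → ∃ g, InS R S5_lA g ∧ g ^ 5 = 1 ∧ g ≠ 1) :=
    Fm.sound M.μ S5_f_F S5_f_chk M.reps
  (Exists.imp (fun g h0 => ⟨(S5_lA_E M).iff.1 h0.1, h0.2⟩) (h (S5_lA_E M).good (S5_lA_E M).ne))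
noncomputable def S5_b_F : Fm := (.exG S5_lA (fun _ => (nat_lit 58)) (.qf (.and (.eq (.mul (.v (nat_lit 0)) (.v (nat_lit 0))) .one) (.and (.not (.eq (.v (nat_lit 0)) .one)) (.and (.eq (.mul (.v (nat_lit 0)) (.mul (.v (nat_lit 1)) (.v (nat_lit 4)))) (.mul (.mul (.v (nat_lit 1)) (.v (nat_lit 4))) (.v (nat_lit 0)))) (.not (.eq (.mul (.v (nat_lit 0)) (.mul (.v (nat_lit 1)) (.v (nat_lit 4)))) .one)))))))
theorem S5_b_chk : Fm.chk S5_o S5_b_F S5_cs = true := by decide +kernel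
theorem S5_b {G : Type*} [Group G] {R : ℕ → G → Prop} {c d e u : G} {H : Subgroup G}
    (M : Mdl S5_o S5_cs S5_L R [c, d, e, u] H) :
    ∃ g ∈ sp [d * c, e * c, u * c], g * g = 1 ∧ g ≠ 1 ∧ g * (c * u) = c * u * g ∧ g * (c * u) ≠ 1 :=
  have h : (GoodS R S5_lA → S5_lA ≠ [] → ∃ g, InS R S5_lA g ∧ g * g = 1 ∧ g ≠ 1 ∧ g * (c * u) = c * u * g ∧ g * (c * u) ≠ 1) :=
    Fm.sound M.μ S5_b_F S5_b_chk M.reps
  (Exists.imp (fun g h0 => ⟨(S5_lA_E M).iff.1 h0.1, h0.2⟩) (h (S5_lA_E M).good (S5_lA_E M).ne))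
noncomputable def S5_gen_F : Fm := (.all S5_L (.qf (.mem (.v (nat_lit 0)) S5_lG)))
theorem S5_gen_chk : Fm.chk S5_o S5_gen_F S5_cs = true := by decide +kernel
theorem S5_gen {G : Type*} [Group G] {R : ℕ → G → Prop} {c d e u : G} {H : Subgroup G}
    (M : Mdl S5_o S5_cs S5_L R [c, d, e, u] H) :
    ∀ g ∈ H, g ∈ sp [c, d, e, u] :=
  have h : ∀ g, InL S5_o R S5_L g → InS R S5_lG (g) :=
    Fm.sound M.μ S5_gen_F S5_gen_chk M.reps
  (fun g h0 => ((S5_lG_E M).iff.1 (h g (M.H.iff.2 h0))))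
def SS {G : Type*} [Group G] (a b p q : G) : Prop :=
  a ^ 3 = 1 ∧
  b ^ 3 = 1 ∧
  a * b = b * a ∧
  p * p = 1 ∧
  q * q = 1 ∧
  p * q = q * p ∧
  p * a * p⁻¹ = a ∧
  p * b * p⁻¹ = b⁻¹ ∧
  q * a * q⁻¹ = a⁻¹ ∧
  q * b * q⁻¹ = b⁻¹ ∧ True
noncomputable def SS_Rl : List (List ℕ) := [[0,1],
  [1,0],
  [2,3],
  [3,2],
  [4,4],
  [5,5],
  [0,0,0],
  [2,2,2],
  [3,1,2,0],
  [5,4,5,4],
  [1,4,0,4],
  [2,4,2,4],
  [0,5,0,5],
  [2,5,2,5]]
theorem SS_r {G : Type*} [Group G] {a b p q : G}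
    (h : SS a b p q) :
    Rels (nthG [a, a⁻¹, b, b⁻¹, p, q]) SS_Rl :=
  rels_of_eqs ((InvI.cons h.2.2.2.1 (InvI.cons h.2.2.2.2.1 InvI.nil)) : InvI [a, b, p, q] [(nat_lit 2), (nat_lit 3)])
    (show AllEq [a, b, p, q] [((.pw (.v (nat_lit 0)) (nat_lit 3)), .one), ((.pw (.v (nat_lit 1)) (nat_lit 3)), .one), ((.mul (.v (nat_lit 0)) (.v (nat_lit 1))), (.mul (.v (nat_lit 1)) (.v (nat_lit 0)))), ((.mul (.v (nat_lit 2)) (.v (nat_lit 2))), .one), ((.mul (.v (nat_lit 3)) (.v (nat_lit 3))), .one), ((.mul (.v (nat_lit 2)) (.v (nat_lit 3))), (.mul (.v (nat_lit 3)) (.v (nat_lit 2)))), ((.mul (.mul (.v (nat_lit 2)) (.v (nat_lit 0))) (.inv (.v (nat_lit 2)))), (.v (nat_lit 0))), ((.mul (.mul (.v (nat_lit 2)) (.v (nat_lit 1))) (.inv (.v (nat_lit 2)))), (.inv (.v (nat_lit 1)))), ((.mul (.mul (.v (nat_lit 3)) (.v (nat_lit 0))) (.inv (.v (nat_lit 3)))), (.inv (.v (nat_lit 0)))), ((.mul (.mul (.v (nat_lit 3))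 (.v (nat_lit 1))) (.inv (.v (nat_lit 3)))), (.inv (.v (nat_lit 1))))] from h)
    [(.v (nat_lit 0)), (.inv (.v (nat_lit 0))), (.v (nat_lit 1)), (.inv (.v (nat_lit 1))), (.v (nat_lit 2)), (.v (nat_lit 3))] (by decide +kernel)
noncomputable abbrev SS_o : Ops := pops (nat_lit 6) (nat_lit 3) (nat_lit 7) (nat_lit 181896)
noncomputable def SS_cs : List ℕ := [(nat_lit 181777), (nat_lit 181826), (nat_lit 120968), (nat_lit 146056), (nat_lit 178312), (nat_lit 178305)]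
noncomputable def SS_L : List (List ℕ) := [[(nat_lit 181896), (nat_lit 181777), (nat_lit 181826)],
  [(nat_lit 181896), (nat_lit 120968), (nat_lit 146056)],
  [(nat_lit 181896), (nat_lit 153168)],
  [(nat_lit 181896), (nat_lit 153224)]]
noncomputable def SS_WW : List (List (List ℕ)) := [[[],
  [(nat_lit 0)],
  [(nat_lit 1)]],
  [[],
  [(nat_lit 2)],
  [(nat_lit 3)]],
  [[],
  [(nat_lit 0), (nat_lit 2), (nat_lit 5)]],
  [[],
  [(nat_lit 2), (nat_lit 4)]]]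
noncomputable def SS_b2_S0 : List ℕ := [nat_lit 0xb000008006004]
noncomputable def SS_b2_S : List (List ℕ) := [SS_b2_S0]
noncomputable def SS_b2_defs : List ℕ := [(nat_lit 0x1000000000000000000000)]
noncomputable def SS_b2_recs : List ℕ := [(nat_lit 0x10000100002)]
noncomputable def SS_b2_L0 : List ℕ := [nat_lit 0x700000100000b000002, nat_lit 0x2000002000008000000, nat_lit 0xc000000000001000001]
noncomputable def SS_b2_L : List (List ℕ) := [SS_b2_L0]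
noncomputable def SS_b2_V : List ℕ := [(nat_lit 0x20000000100000000)]
noncomputable def SS_b2_D : H26.Dag := ⟨[1,0], [[0,1],
  [1,0],
  [0,0,0]], [], SS_b2_defs, SS_b2_recs⟩
theorem SS_b2_c : SS_b2_D.checkTab SS_b2_S 3 2 SS_b2_V SS_b2_L = true := by decide +kernel
theorem SS_b2 : Bound SS_Rl 2 3 :=
  bound_dag (Bound.zero SS_Rl) (K := 2) (J := [0,1,6]) (by decide +kernel) SS_b2_c (by decide +kernel)
noncomputable def SS_b4_S0 : List ℕ := [nat_lit 0x1, nat_lit 0x700000200000800c00a, nat_lit 0xb000008006008, nat_lit 0xb00000100000c00400a]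
noncomputable def SS_b4_S : List (List ℕ) := [SS_b4_S0]
noncomputable def SS_b4_defs : List ℕ := [(nat_lit 0x3000000020000000000000)]
noncomputable def SS_b4_recs : List ℕ := [(nat_lit 0x10000200002030000100002000000100001000000000000)]
noncomputable def SS_b4_L0 : List ℕ := [nat_lit 0x100000000000200000000000700000100000b000002, nat_lit 0x500000100000600000100000a000002000008000000, nat_lit 0xe00000200000d00000200000c000000000009000001]
noncomputable def SS_b4_L : List (List ℕ) := [SS_b4_L0]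
noncomputable def SS_b4_V : List ℕ := [(nat_lit 0x20000000100000000)]
noncomputable def SS_b4_D : H26.Dag := ⟨[1,0,3,2], [[0,1],
  [1,0],
  [2,3],
  [3,2],
  [2,2,2],
  [3,1,2,0]], [0,1], SS_b4_defs, SS_b4_recs⟩
theorem SS_b4_c : SS_b4_D.checkTab SS_b4_S 3 4 SS_b4_V SS_b4_L = true := by decide +kernel
theorem SS_b4 : Bound SS_Rl 4 9 :=
  bound_dag SS_b2 (K := 4) (J := [0,1,2,3,7,8]) (by decide +kernel) SS_b4_c (by decide +kernel)
noncomputable def SS_b5_S0 : List ℕ := [nat_lit 0x1, nat_lit 0x1, nat_lit 0x700000200000800800a, nat_lit 0x700000500000800800c]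
noncomputable def SS_b5_S : List (List ℕ) := [SS_b5_S0]
noncomputable def SS_b5_defs : List ℕ := [(nat_lit 0x40000000000000)]
noncomputable def SS_b5_recs : List ℕ := [(nat_lit 0x20000100001000000100001020000000000000000000000)]
noncomputable def SS_b5_L0 : List ℕ := [nat_lit 0x1000000000002000000000005000000000006000000000007000001, nat_lit 0x900000100000a00000100000d00000100000e000001000008000000]
noncomputable def SS_b5_L : List (List ℕ) := [SS_b5_L0]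
noncomputable def SS_b5_V : List ℕ := [(nat_lit 0x100000000)]
noncomputable def SS_b5_D : H26.Dag := ⟨[1,0,3,2,4], [[0,1],
  [1,0],
  [2,3],
  [3,2],
  [4,4],
  [1,4,0,4],
  [2,4,2,4]], [0,1,2,3], SS_b5_defs, SS_b5_recs⟩
theorem SS_b5_c : SS_b5_D.checkTab SS_b5_S 2 5 SS_b5_V SS_b5_L = true := by decide +kernel
theorem SS_b5 : Bound SS_Rl 5 18 :=
  bound_dag SS_b4 (K := 5) (J := [0,1,2,3,4,10,11]) (by decide +kernel) SS_b5_c (by decide +kernel)
noncomputable def SS_b6_S0 : List ℕ := [nat_lit 0x1, nat_lit 0x1, nat_lit 0x1, nat_lit 0x700000900000800400c, nat_lit 0x700000100000800800e, nat_lit 0x7000005000008008010]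
noncomputable def SS_b6_S : List (List ℕ) := [SS_b6_S0]
noncomputable def SS_b6_defs : List ℕ := [(nat_lit 0x50000000000000)]
noncomputable def SS_b6_recs : List ℕ := [(nat_lit 0x20000100001000000100001040000100001040000000000020000000000000000000000)]
noncomputable def SS_b6_L0 : List ℕ := [nat_lit 0x1000000000002000000000005000000000006000000000009000000000007000001, nat_lit 0x1100000100001200000100001500000100001600000100000d000001000008000000]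
noncomputable def SS_b6_L : List (List ℕ) := [SS_b6_L0]
noncomputable def SS_b6_V : List ℕ := [(nat_lit 0x100000000)]
noncomputable def SS_b6_D : H26.Dag := ⟨[1,0,3,2,4,5], [[0,1],
  [1,0],
  [2,3],
  [3,2],
  [4,4],
  [5,5],
  [5,4,5,4],
  [0,5,0,5],
  [2,5,2,5]], [0,1,2,3,4], SS_b6_defs, SS_b6_recs⟩
theorem SS_b6_c : SS_b6_D.checkTab SS_b6_S 2 6 SS_b6_V SS_b6_L = true := by decide +kernel
theorem SS_b6 : Bound SS_Rl 6 36 :=
  bound_dag SS_b5 (K := 6) (J := [0,1,2,3,4,5,9,12,13]) (by decide +kernel) SS_b6_c (by decide +kernel)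
theorem SS_P : PModel (nat_lit 6) (nat_lit 3) (nat_lit 7) (nat_lit 181896) SS_cs SS_Rl SS_L 36 :=
  ⟨PkOK.of (by decide +kernel), by decide +kernel, by decide +kernel, SS_b6, ⟨SS_WW, by decide +kernel⟩,
    ⟨fun c => Nat.mod c (nat_lit 74), by decide +kernel⟩⟩
noncomputable def SS_soc_t0 : ST := (.node (nat_lit 77) (.node (nat_lit 38) (.node (nat_lit 26) (.node (nat_lit 21) (.leaf (nat_lit 0)) (.node (nat_lit 22) (.leaf (nat_lit 18)) (.leaf (nat_lit 0)))) (.node (nat_lit 32) (.leaf (nat_lit 18)) (.node (nat_lit 37) (.leaf (nat_lit 0)) (.leaf (nat_lit 9))))) (.node (nat_lit 65) (.node (nat_lit 42) (.leaf (nat_lit 0)) (.node (nat_lit 54) (.leaf (nat_lit 18)) (.leaf (nat_lit 0)))) (.node (nat_lit 69) (.leaf (nat_lit 18)) (.node (nat_lit 76) (.leaf (nat_lit 0)) (.leaf (nat_lit 18)))))) (.node (nat_lit 136) (.node (nat_lit 93) (.node (nat_lit 79) (.leaf (nat_lit 0)) (.node (nat_lit 92) (.leaf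 (nat_lit 9)) (.leaf (nat_lit 18)))) (.node (nat_lit 97) (.leaf (nat_lit 0)) (.node (nat_lit 101) (.leaf (nat_lit 18)) (.leaf (nat_lit 9))))) (.node (nat_lit 166) (.node (nat_lit 144) (.leaf (nat_lit 18)) (.node (nat_lit 165) (.leaf (nat_lit 0)) (.leaf (nat_lit 18)))) (.node (nat_lit 179) (.node (nat_lit 174) (.leaf (nat_lit 0)) (.leaf (nat_lit 9))) (.node (nat_lit 182) (.leaf (nat_lit 18)) (.leaf (nat_lit 0)))))))
noncomputable def SS_soc_t1 : ST := (.node (nat_lit 52) (.node (nat_lit 32) (.node (nat_lit 19) (.node (nat_lit 3) (.leaf (nat_lit 18)) (.node (nat_lit 8) (.leaf (nat_lit 9)) (.leaf (nat_lit 18)))) (.node (nat_lit 22) (.leaf (nat_lit 0)) (.node (nat_lit 31) (.leaf (nat_lit 18)) (.leaf (nat_lit 9))))) (.node (nat_lit 43) (.node (nat_lit 36) (.leaf (nat_lit 18)) (.node (nat_lit 41) (.leaf (nat_lit 9)) (.leaf (nat_lit 18)))) (.node (nat_lit 47) (.leaf (nat_lit 3)) (.node (nat_lit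 48) (.leaf (nat_lit 0)) (.leaf (nat_lit 18)))))) (.node (nat_lit 69) (.node (nat_lit 62) (.node (nat_lit 57) (.leaf (nat_lit 9)) (.node (nat_lit 61) (.leaf (nat_lit 18)) (.leaf (nat_lit 1)))) (.node (nat_lit 64) (.leaf (nat_lit 18)) (.node (nat_lit 66) (.leaf (nat_lit 0)) (.leaf (nat_lit 3))))) (.node (nat_lit 75) (.node (nat_lit 70) (.leaf (nat_lit 18)) (.node (nat_lit 73) (.leaf (nat_lit 9)) (.leaf (nat_lit 18)))) (.node (nat_lit 77) (.leaf (nat_lit 9)) (.node (nat_lit 78) (.leaf (nat_lit 0)) (.leaf (nat_lit 18)))))))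
noncomputable def SS_soc_F : Fm := (.all SS_L (.or (.qf (.eq (.v (nat_lit 0)) .one)) (.exF SS_L (fun cs => SS_soc_t1.find (Nat.mod (nth (nat_lit 0) cs (nat_lit 0)) (nat_lit 79))) (.exF SS_L (fun cs => SS_soc_t0.find (Nat.mod (Nat.add (nth (nat_lit 0) cs (nat_lit 0)) (Nat.mul (nat_lit 7919) (nth (nat_lit 0) cs (nat_lit 1)))) (nat_lit 183))) (.qf (.or (.eq (.mul (.mul (.v (nat_lit 0)) (.v (nat_lit 2))) (.inv (.v (nat_lit 0)))) (.v (nat_lit 3))) (.or (.eq (.mul (.mul (.v (nat_lit 0)) (.v (nat_lit 2))) (.inv (.v (nat_lit 0)))) (.v (nat_lit 5))) (.or (.eq (.mul (.mul (.v (nat_lit 0)) (.mul (.mul (.mul (.v (nat_lit 2)) (.v (nat_lit 1))) (.inv (.v (nat_lit 2)))) (.inv (.v (nat_lit 1))))) (.inv (.v (nat_lit 0)))) (.v (nat_lit 3))) (.or (.eq (.mul (.mul (.v (nat_lit 0)) (.mul (.mul (.mul (.v (nat_lit 2)) (.v (nat_lit 1))) (.inv (.v (nat_lit 2)))) (.inv (.v (nat_lit 1))))) (.inv (.v (nat_lit 0))))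 (.v (nat_lit 5))) (.or (.eq (.mul (.mul (.mul (.mul (.mul (.mul (.v (nat_lit 2)) (.v (nat_lit 1))) (.inv (.v (nat_lit 2)))) (.inv (.v (nat_lit 1)))) (.v (nat_lit 0))) (.inv (.mul (.mul (.mul (.v (nat_lit 2)) (.v (nat_lit 1))) (.inv (.v (nat_lit 2)))) (.inv (.v (nat_lit 1)))))) (.inv (.v (nat_lit 0)))) (.v (nat_lit 3))) (.eq (.mul (.mul (.mul (.mul (.mul (.mul (.v (nat_lit 2)) (.v (nat_lit 1))) (.inv (.v (nat_lit 2)))) (.inv (.v (nat_lit 1)))) (.v (nat_lit 0))) (.inv (.mul (.mul (.mul (.v (nat_lit 2)) (.v (nat_lit 1))) (.inv (.v (nat_lit 2)))) (.inv (.v (nat_lit 1)))))) (.inv (.v (nat_lit 0)))) (.v (nat_lit 5)))))))))))))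
theorem SS_soc_chk : Fm.chk SS_o SS_soc_F SS_cs = true := by decide +kernel
theorem SS_soc {G : Type*} [Group G] {R : ℕ → G → Prop} {a a_i b b_i p q : G} {H : Subgroup G}
    (M : Mdl SS_o SS_cs SS_L R [a, a_i, b, b_i, p, q] H) :
    ∀ y_ ∈ H, y_ = 1 ∨ (∃ q_ ∈ H, ∃ k_ ∈ H, k_ * y_ * k_⁻¹ = a ∨ k_ * y_ * k_⁻¹ = b ∨ k_ * ⁅y_, q_⁆ * k_⁻¹ = a ∨ k_ * ⁅y_, q_⁆ * k_⁻¹ = b ∨ ⁅⁅y_, q_⁆, k_⁆ = a ∨ ⁅⁅y_, q_⁆, k_⁆ = b) :=
  have h : ∀ y_, InL SS_o R SS_L y_ → y_ = 1 ∨ (Good SS_o R SS_L → prods SS_o SS_L SS_o.one ≠ [] → ∃ q_, InL SS_o R SS_L q_ ∧ (Good SS_o R SS_L → prods SS_o SS_L SS_o.one ≠ [] → ∃ k_, InL SS_o R SS_L k_ ∧ (k_ * y_ * k_⁻¹ = a ∨ k_ * y_ * k_⁻¹ = b ∨ k_ * ⁅y_, q_⁆ * k_⁻¹ = a ∨ k_ * ⁅y_, q_⁆ * k_⁻¹ = b ∨ ⁅⁅y_, q_⁆, k_⁆ = a ∨ ⁅⁅y_, q_⁆, k_⁆ = b))) :=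
    Fm.sound M.μ SS_soc_F SS_soc_chk M.reps
  (fun y_ h0 => (Or.imp (fun h1 => h1) (fun h1 => (Exists.imp (fun q_ h2 => ⟨M.H.iff.1 h2.1, (Exists.imp (fun k_ h3 => ⟨M.H.iff.1 h3.1, h3.2⟩) (h2.2 M.H.good M.H.ne))⟩) (h1 M.H.good M.H.ne))) (h y_ (M.H.iff.2 h0))))
theorem SS_mdl {G : Type*} [Group G] {a b p q : G}
    (h : SS a b p q)
    (n1 : a ≠ 1) (n2 : b ≠ 1) :
    ∃ R, Mdl SS_o SS_cs SS_L R [a, a⁻¹, b, b⁻¹, p, q] (sp [a, a⁻¹, b, b⁻¹, p, q]) ∧ #(sp [a, a⁻¹, b, b⁻¹, p, q]) = 36 :=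
  mdl_of SS_P rfl (SS_r h) (.v (nat_lit 0)) (.v (nat_lit 2)) n1 n2
    fun _ ms _ M hl => match ms, M, (hl : ms.length = 6) with
      | [_, _, _, _, _, _], M, _ => SS_soc M
noncomputable def SS_lL : List ℕ := [(nat_lit 181896), (nat_lit 120968), (nat_lit 178312), (nat_lit 146056), (nat_lit 153224), (nat_lit 117384)]
noncomputable def SS_lL_W : List (List ℕ) := [[],
  [(nat_lit 0)],
  [(nat_lit 1)],
  [(nat_lit 0), (nat_lit 0)],
  [(nat_lit 0), (nat_lit 1)],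
  [(nat_lit 1), (nat_lit 0)]]
noncomputable def SS_lL_h (c : ℕ) : ℕ := Nat.mod c (nat_lit 11)
theorem SS_lL_E {G : Type*} [Group G] {R : ℕ → G → Prop} {a b p q : G} {H : Subgroup G}
    (M : Mdl SS_o SS_cs SS_L R [a, a⁻¹, b, b⁻¹, p, q] H) :
    EnumS R SS_lL (sp [b, p]) :=
  enumS_sp M.μ.1 (M.reps.tms M.μ.1 [(.v (nat_lit 2)), (.v (nat_lit 4))] (cs' := [(nat_lit 120968), (nat_lit 178312)]) (by decide +kernel))
    (Ws := SS_lL_W) (by decide +kernel) (by decide +kernel)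
theorem SS_lL_c {G : Type*} [Group G] {R : ℕ → G → Prop} {a b p q : G} {H : Subgroup G}
    (M : Mdl SS_o SS_cs SS_L R [a, a⁻¹, b, b⁻¹, p, q] H) :
    #(sp [b, p]) = 6 :=
  (SS_lL_E M).card M.μ (h := SS_lL_h) (by decide +kernel)
noncomputable def SS_Lc_F : Fm := (.all SS_L (.imp (.eq (.mul (.v (nat_lit 0)) (.v (nat_lit 0))) .one) (.imp (.eq (.mul (.v (nat_lit 0)) (.v (nat_lit 1))) (.mul (.v (nat_lit 1)) (.v (nat_lit 0)))) (.qf (.mem (.v (nat_lit 0)) SS_lL)))))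
theorem SS_Lc_chk : Fm.chk SS_o SS_Lc_F SS_cs = true := by decide +kernel
theorem SS_Lc {G : Type*} [Group G] {R : ℕ → G → Prop} {a b p q : G} {H : Subgroup G}
    (M : Mdl SS_o SS_cs SS_L R [a, a⁻¹, b, b⁻¹, p, q] H) :
    ∀ g ∈ H, g * g = 1 → g * a = a * g → g ∈ sp [b, p] :=
  have h : ∀ g, InL SS_o R SS_L g → g * g = 1 → g * a = a * g → InS R SS_lL (g) :=
    Fm.sound M.μ SS_Lc_F SS_Lc_chk M.reps
  (fun g h0 => (fun h1 => (fun h2 => ((SS_lL_E M).iff.1 (((h g (M.H.iff.2 h0)) h1) h2)))))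

end H2.L3
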