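import Cfsg.Agent.H27.MS1
import Cfsg.Agent.H2.B12b

/-! S5899: a Sylow `2`-subgroup of a minimal insoluble group does not split over a chief factor
of `Φ(N)` (Gaschütz). -/

set_option autoImplicit false
set_option linter.unusedVariables false

namespace H2.MV
open Cfsg Subgroup H18 H17.GS H28.S H2.GW
open H19 hiding eq_bot_mono
open H28.NG hiding Hyp Uniq Ch
open H27.MS

universe u

theorem lf : LF.{u} := fun {G} _ _ {N Q T Q₀ X} h n0 lt hT hX hle => by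
  have : Fact (Nat.Prime 2) := ⟨Nat.prime_two⟩
  have qn := h.nq.le
  have qt : Q ≤ T := h.syl.le_of_norm' h.nq.le h.pg (h.syl.le.trans h.nq.norm)
  have qq : Q ≤ N(Q) := qn.trans h.nq.norm
  have nK : N ≤ N(Q₀ ⊔ ⁅Q, Q⁆) := norms_sup n0.norm (norms_comm h.nq.norm h.nq.norm)
  have kq : Q₀ ⊔ ⁅Q, Q⁆ ≤ Q := sup_le lt.le (commg_le_left qq)
  have nle : ¬ Q ≤ Q₀ ⊔ ⁅Q, Q⁆ := fun e => lt.not_ge
    (H29.commutator_lt_mod h.pg.isPGroup h.pg.isPGroup qq (qn.trans n0.norm) (qn.trans n0.norm) e)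
  generalize hK : Q₀ ⊔ ⁅Q, Q⁆ = K at nK kq nle
  have k0 : Q₀ ≤ K := hK ▸ le_sup_left
  have kc : ⁅Q, Q⁆ ≤ K := hK ▸ le_sup_right
  have tn := h.syl.le
  have xK : X ≤ N(K) := (hX.trans tn).trans nK
  have qK : Q ≤ N(K) := qn.trans nK
  have sd : Sdprod (quo K Q) (quo K X) (quo K T) := by
    refine ⟨quo_norms ((hX.trans tn).trans h.nq.norm), ?_, ?_⟩
    · rw [← quo_sup qK xK, le_antisymm (sup_le qt hX) (sup_comm X Q ▸ hT)]
    · rw [← quo_inf kq, inf_comm]; exact quo_eq_bot (hle.trans k0)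
  have hs := h.syl.quo (K := K) nK
  obtain ⟨E, hE⟩ := H2.BG.gaschutz_amb (h.nq.quo K) ((ab_quo_iff qK).2 kc) hs.le
    ((h.pg.quo K).coprime hs.idx) sd
  have eN : E ≤ quo K N := hE.sup ▸ le_sup_right
  have l : qpre K E ≤ N := qpre_le (kq.trans qn) eN
  have k : N ≤ Q ⊔ qpre K E := by
    have := (quo_le_iff nK).1 hE.sup.ge
    rwa [qpre_sup, qpre_quo_of_le qK kq] at this
  by_cases e : qpre K E = N
  · have : quo K Q ≤ E := (quo_le_iff qK).2 (e ▸ qn)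
    exact nle ((quo_eq_bot_iff qK).1 (by rw [← hE.inf, inf_eq_left.2 this]))
  · exact h.ns (sol_mono (sol_sup h.pg.sol (h.sol _ (l.lt_of_ne e)) (l.trans h.nq.norm)) k)

theorem f1 : F1.{u} := fun {G} _ _ {N Q T A} h q0 hA hAT hT => by
  obtain ⟨W, hW⟩ := H18.abelem_exists_compl Nat.prime_two hA (U := A ⊓ Q) inf_le_left
  have wa : W ≤ A := hW.sup ▸ le_sup_right
  refine lf (Q₀ := ⊥) (X := W) h ⟨bot_le, by rw [normalizer_eq_top]; exact le_top⟩ (bot_lt_iff_ne_bot.2 q0) (hT.trans ?_) (wa.trans hAT) ?_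
  · refine sup_le ?_ le_sup_right
    rw [← hW.sup]
    exact sup_le (inf_le_right.trans le_sup_right) le_sup_left
  · rw [← hW.inf]
    exact le_inf (inf_le_inf_right _ wa) inf_le_left

end H2.MV
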