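import Cfsg.Agent.H27.MS2
import Cfsg.Agent.H1.SF12

/-! S5899, component type: central extensions of dihedral `2`-groups. -/

set_option autoImplicit false
set_option linter.unusedVariables false
set_option linter.unusedSectionVars false

namespace H2.MV
open Cfsg Subgroup H18 H17.GS H28.S H2.GW
open H19 hiding eq_bot_mono
open H28.NG hiding Hyp Uniq Ch
open H27.MS

universe u
variable {G : Type u} [Group G] [Finite G] {N Q T X Y : Subgroup G} {a b : G}

theorem two (ha : a ∈ N(X)) (aa : a * a ∈ X) (hY : Y ≤ X ⊔ zpowers a) : #Y ≤ #(Y ⊓ X) * 2 := by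
  have k {u} (hu : u ∈ Y) (h0 : u ∉ X) : u * a⁻¹ ∈ X := by
    obtain ⟨x, hx, _, ⟨n, rfl⟩, rfl⟩ := (mem_sup_of_norm (zpowers_le' ha)).1 (hY hu)
    obtain ⟨m, rfl | rfl⟩ := Int.even_or_odd' n
    · exact (h0 (mul_mem hx (by simp only; rw [zpow_mul, zpow_two]; exact zpow_mem aa m))).elim
    · simp only
      rw [zpow_add, zpow_one, mul_assoc, mul_inv_cancel_right, zpow_mul, zpow_two]
      exact mul_mem hx (zpow_mem aa m)
  refine card_le_two fun u hu v hv u0 v0 => ?_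
  convert mul_mem (mul_mem (k hu u0) (conj_mem_of_norm ha (k hv v0))) aa using 1
  group

theorem two' (ha : a ∈ N(X)) (aa : a * a ∈ X) : #(X ⊔ zpowers a) ≤ #X * 2 := by
  have := two ha aa le_rfl
  rwa [inf_eq_right.2 le_sup_left] at this

theorem zp_odd (h : H19.PG 2 (zpowers a)) (m : ℤ) : a ∈ zpowers (a ^ (2 * m + 1)) := by
  have : Fact (Nat.Prime 2) := ⟨Nat.prime_two⟩
  obtain ⟨k, hk⟩ := h.isPGroup ⟨a, mem_zpowers a⟩
  have hk' : a ^ (2 ^ k : ℤ) = 1 := by simpa [← zpow_natCast] using congrArg Subtype.val hk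
  obtain ⟨r, s, e⟩ : IsCoprime ((2 : ℤ) ^ k) (2 * m + 1) :=
    IsCoprime.pow_left (Int.isCoprime_iff_gcd_eq_one.2 (by simp [Int.gcd_comm 2]))
  refine ⟨s, ?_⟩
  show (a ^ (2 * m + 1)) ^ s = a
  rw [← zpow_mul, show (2 * m + 1) * s = 1 - 2 ^ k * r by linear_combination e, zpow_sub, zpow_mul, hk']
  simp

theorem dih (hT : H19.PG 2 T) (qc : T ≤ C(Q)) (qd : Q ≤ ⁅T, T⁆) (q0 : Q ≠ ⊥) (aa : a * a ∈ Q) (bb : b * b ∈ Q)
    (e : T = Q ⊔ zpowers a ⊔ zpowers b) : Cyc ⁅T, T⁆ ∧ ∀ E ≤ T, Abelem 2 E → #E ≤ 4 := by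
  have qT : Q ≤ T := e ▸ le_sup_left.trans le_sup_left
  have aT : a ∈ T := e ▸ mem_sup_left (mem_sup_right (mem_zpowers a))
  have bT : b ∈ T := e ▸ mem_sup_right (mem_zpowers b)
  have c {q t} (hq : q ∈ Q) (ht : t ∈ T) : q * t = t * q := mem_cent.1 (qc ht) q hq
  obtain ⟨y, hy⟩ : ∃ y, y = a * b * a⁻¹ * b⁻¹ := ⟨_, rfl⟩
  have yT : y ∈ ⁅T, T⁆ := hy ▸ comm_mem aT bT
  have TT : ⁅T, T⁆ ≤ T := commg_le_left le_normalizer
  have ya : a * y * a⁻¹ = y⁻¹ := by
    rw [hy, show a * (a * b * a⁻¹ * b⁻¹) * a⁻¹ = a * a * b * (a⁻¹ * b⁻¹ * a⁻¹) by group, c aa bT]; group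
  have yb : b * y * b⁻¹ = y⁻¹ := by
    rw [hy, show b * (a * b * a⁻¹ * b⁻¹) * b⁻¹ = b * a * b * ((b * b) * a)⁻¹ by group, c bb aT]; group
  have nz {g z : G} (k : g * z * g⁻¹ = z⁻¹) : g ∈ N(zpowers z) :=
    mem_norm_iff_cj.2 (by rw [cj_zpowers, k, zpowers_inv])
  have qy : Q ≤ C(zpowers y) := (cents_symm qc).trans (cent_mono (zpowers_le' (TT yT)))
  have nY : T ≤ N(zpowers y) := e ▸ sup_le (sup_le (norms_of_cents qy) (zpowers_le' (nz ya))) (zpowers_le' (nz yb))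
  have d : ⁅T, T⁆ = zpowers y := by
    refine le_antisymm (commg_of_Cm ?_) (zpowers_le' yT)
    have ca : T ≤ Cm (zpowers y) (zpowers a) := e ▸ sup_le (sup_le
      (Cm_of_cent (qT.trans nY) ((cents_symm qc).trans (cent_mono (zpowers_le' aT))))
      (Cm_of_cent (zpowers_le' (nY aT)) (zp_cent (zpowers_le' (mem_cent1_self a)))))
      (zpowers_le' ((mem_Cm1 (nY aT)).2 ⟨nY bT, by
        convert inv_mem (mem_zpowers y) using 1; rw [hy]; group⟩))
    have cb : T ≤ Cm (zpowers y) (zpowers b) := e ▸ sup_le (sup_le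
      (Cm_of_cent (qT.trans nY) ((cents_symm qc).trans (cent_mono (zpowers_le' bT))))
      (zpowers_le' ((mem_Cm1 (nY bT)).2 ⟨nY aT, hy ▸ mem_zpowers _⟩)))
      (Cm_of_cent (zpowers_le' (nY bT)) (zp_cent (zpowers_le' (mem_cent1_self b))))
    have := Cm_sup (sup_le (qT.trans nY) (zpowers_le' (nY aT))) (zpowers_le' (nY bT))
      (Cm_sup (qT.trans nY) (zpowers_le' (nY aT)) (Cm_of_cent nY qc) ca) cb
    rwa [← e] at this
  refine ⟨d ▸ cyc_zpowers y, fun E hE ab => ?_⟩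
  have py : H19.PG 2 (zpowers y) := hT.of_le (d ▸ TT)
  rw [d] at qd
  have nq {t} (ht : t ∈ T) : t ∈ N(Q) := norms_of_cents qc ht
  by_cases k : Q ≤ zpowers (y ^ (2 : ℤ))
  · obtain ⟨m, hm⟩ := k (mul_mem aa bb)
    have x2 : y ^ (2 * m + 1) = a * b * (a * b) := by
      have hm' : y ^ (2 * m) = a * a * (b * b) := by rw [zpow_mul]; exact hm
      rw [zpow_add, zpow_one, hm', c (mul_mem aa bb) (TT (d ▸ mem_zpowers y)), hy,
        show a * b * a⁻¹ * b⁻¹ * (a * a * (b * b)) = a * b * a⁻¹ * (b⁻¹ * (a * a)) * (b * b) by group,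
        ← c aa (inv_mem bT)]
      group
    have yx : zpowers y ≤ zpowers (a * b) := zpowers_le' (zpowers_le' (x2 ▸ mul_mem (mem_zpowers _) (mem_zpowers _))
      (zp_odd py m))
    have qx := qd.trans yx
    have an : a ∈ N(zpowers (a * b)) := mem_norm_of_cj_le (by
      rw [cj_zpowers]
      refine zpowers_le' ?_
      convert mul_mem (qx (mul_mem aa bb)) (inv_mem (mem_zpowers (a * b))) using 1
      group)
    have h1 := two an (qx aa) (hE.trans (e ▸ sup_le (sup_le (qx.trans le_sup_left) le_sup_right) (zpowers_le' (by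
      convert mul_mem (mem_sup_right (inv_mem (mem_zpowers a)) : a⁻¹ ∈ zpowers (a * b) ⊔ zpowers a)
        (mem_sup_left (mem_zpowers (a * b))) using 1
      group))))
    have h2 : #(E ⊓ zpowers (a * b)) ≤ 2 := by
      by_contra! j
      obtain ⟨n, hn⟩ := (H19.abelem_pg Nat.prime_two (abelem_mono ab (inf_le_left (b := zpowers (a * b))))).exists_card
      obtain ⟨B, hB⟩ := H1.el_of_le_card (n := 2) (abelem_mono ab (inf_le_left (b := zpowers (a * b)))) (by
        rw [hn] at j ⊢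
        exact Nat.pow_le_pow_right two_pos (by by_contra! i; interval_cases n <;> simp at j))
      exact hB.not_cyc (cyc_mono (cyc_zpowers (a * b)) (hB.le.trans inf_le_right))
    omega
  · obtain ⟨q, hq, q2⟩ := SetLike.not_le_iff_exists.1 k
    obtain ⟨n, rfl⟩ := qd hq
    obtain ⟨m, rfl | rfl⟩ := Int.even_or_odd' n
    · exact (q2 ⟨m, (zpow_mul y 2 m).symm⟩).elim
    have yQ : y ∈ Q := zpowers_le' hq (zp_odd py m)
    have yy : y * y = 1 := by
      have := ya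
      rw [← c yQ aT, mul_inv_cancel_right] at this
      nth_rewrite 1 [this]
      exact inv_mul_cancel y
    have y0 : y ≠ 1 := fun j => q0 (le_bot_iff.1 (by simpa [j] using qd))
    have h1 := card_le qd
    rw [card_zp yy y0] at h1
    have h2 := two' (nq aT) aa
    have h3 := two' (X := Q ⊔ zpowers a) (a := b) (norm_sup_zp ((cj_of_mem_norm (nq bT)).trans_le le_sup_left) (by
      convert mul_mem_sup (inv_mem yQ) (mem_zpowers a) using 1
      rw [hy]; group)) (mem_sup_left bb)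
    rw [← e] at h3
    by_contra! j
    have ET : E = T := by_contra fun i => by have := pg_lt_card hT (hE.lt_of_ne i); omega
    exact y0 (mem_bot.1 ((comm_iff_der.1 (ET ▸ ab.1)).le yT))

/-- Klein four quotients -/
theorem kl_gen (hT : H19.PG 2 T) (qT : Q ≤ T) (c : #T = 4 * #Q) :
    ∃ a ∈ T, ∃ b ∈ T, (a ∈ N(Q) → a * a ∈ Q → T = Q ⊔ zpowers a ⊔ zpowers b) := by
  have p := card_pos Q
  obtain ⟨a, aT, a0⟩ := SetLike.not_le_iff_exists.1 fun j : T ≤ Q => by have := card_le j; omega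
  have l1 : Q ⊔ zpowers a ≤ T := sup_le qT (zpowers_le' aT)
  have h1 := pg_lt_card (hT.of_le l1) (lt_of_le_not_ge le_sup_left fun j => a0 (j (mem_sup_right (mem_zpowers a))))
  by_cases k : T ≤ Q ⊔ zpowers a
  · refine ⟨a, aT, a, aT, fun n aa => ?_⟩
    have := two' n aa
    have := card_le k
    omega
  obtain ⟨b, bT, b0⟩ := SetLike.not_le_iff_exists.1 k
  have l2 := sup_le l1 (zpowers_le' bT)
  have h2 := pg_lt_card (hT.of_le l2) (lt_of_le_not_ge le_sup_left fun j => b0 (j (mem_sup_right (mem_zpowers b))))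
  exact ⟨a, aT, b, bT, fun _ _ => (eq_of_le_of_card_ge l2 (by omega)).symm⟩

end H2.MV
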