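import Cfsg.Agent.H27.MS3
import Cfsg.Agent.H12.MS0
import Cfsg.Agent.H3.MS1

/-! S5899, part 3: normalizers of elementary subgroups with a group of transvections. -/

set_option autoImplicit false
set_option linter.unusedVariables false
set_option linter.unusedSectionVars false

namespace H2.MV
open Cfsg Subgroup H18 H17.GS H28.S H2.GW
open H19 hiding eq_bot_mono
open H28.NG hiding Hyp Uniq Ch
open H27.MS H12.MS

universe u

def TL : Prop := ∀ {G : Type u} [Group G] [Finite G] {X D : Subgroup G} {z y t : G}, Hy G → K4 z y →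
  Abelem 2 X → V4 z y ≤ X → H19.PG 2 D → D ≤ N(X) → D ≤ Cm (zpowers z) X → X ⊓ C(D) ≤ zpowers z →
  t ∈ N(X) → t * z * t⁻¹ = z * y → N(X) ≤ N(V4 z y) ∨ (#X = 8 ∧ ∃ Q T, Bd N(X) Q T X)

variable {G : Type u} [Group G] [Finite G] {N Q T W X D : Subgroup G} {z y t e : G}

theorem nz_cent (hz : z * z = 1) : N(zpowers z) ≤ C[z] := fun a ha => mem_cent1_conj.2
  (((mem_zp hz).1 (conj_mem_of_norm ha (mem_zpowers z))).elim
    (fun e => by rw [conj_eq_one_iff.1 e]; group) id)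

/-- `Q` centralizes every element which `N` centralizes modulo `W` -/
theorem tl_cent (bk : BK.{u}) (b : Bd N Q T W) (he : e ∈ C(W)) (hc : ∀ n ∈ N, n * e * n⁻¹ * e⁻¹ ∈ W) :
    Q ≤ C[e] := by
  obtain ⟨-, a, -, cV, nV, -, tr, -⟩ := bk b
  by_contra k
  obtain ⟨g, g1, g2⟩ := SetLike.not_le_iff_exists.1 k
  have g0 : g * e * g⁻¹ * e⁻¹ ≠ 1 := fun c => g2 (mem_cent1_conj.2 (mul_inv_eq_one.1 c))
  have S : ∀ w ∈ W, ∃ h ∈ Q, h * e * h⁻¹ * e⁻¹ = w := fun w hw => by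
    by_cases w1 : w = 1
    · exact ⟨1, one_mem _, by rw [w1]; group⟩
    obtain ⟨n, n1, n2⟩ := tr _ (hc g (b.nq.le g1)) w hw g0 w1
    have m := conj_mem_of_norm (b.nq.norm n1) g1
    refine ⟨_, m, ?_⟩
    have c1 := mem_cent.1 (cV ▸ m : n * g * n⁻¹ ∈ C(W)) _ (hc n n1)
    have c2 := mem_cent.1 (ab_cent a (hc _ (b.nq.le m))) _ (hc n n1)
    rw [← n2]
    calc _ = (n * e * n⁻¹ * e⁻¹) * (n * g * n⁻¹ * e * (n * g * n⁻¹)⁻¹ * e⁻¹) * (n * e * n⁻¹ * e⁻¹)⁻¹ := by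
          rw [c2]; group
      _ = ((n * e * n⁻¹ * e⁻¹) * (n * g * n⁻¹)) * e * (n * g * n⁻¹)⁻¹ * e⁻¹ * (n * e * n⁻¹ * e⁻¹)⁻¹ := by group
      _ = _ := by rw [c1]; group
  have f := b.toFr.fr (inf_le_left : N ⊓ C[e] ≤ N) fun n hn => by
    obtain ⟨h, h1, h2⟩ := S _ (hc n hn)
    have : h⁻¹ * n ∈ N ⊓ C[e] := ⟨N.mul_mem (N.inv_mem (b.nq.le h1)) hn, mem_cent1_conj.2 (by
      calc _ = h⁻¹ * (n * e * n⁻¹ * e⁻¹) * e * h := by group
        _ = _ := by rw [← h2]; group)⟩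
    have := mul_mem (mem_sup_right h1 : h ∈ N ⊓ C[e] ⊔ Q) (mem_sup_left this)
    simpa using this
  exact g2 (f.ge (b.nq.le g1)).2

theorem tl (lc : LC.{u}) (mb1 : MB1.{u}) (bk : BK.{u}) : TL.{u} :=
    fun {G} _ _ {X D z y t} hy k4 a h1 pg q qc dq p r => by
  have zz := k4.tt
  have l : Kc (zpowers z) N(X) ≤ X := Kc_le_of (zpowers_le' (h1 (left_mem_V4 z y))) le_rfl
  set W := Kc (zpowers z) N(X) with hW
  have n : N(X) ≤ N(W) := Kc_norm
  have zW : z ∈ W := le_Kc (mem_zpowers z)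
  have yW : V4 z y ≤ W := V4_le.2 ⟨zW, (mul_mem_cancel_left zW).1 (r ▸ conj_mem_of_norm (n p) zW)⟩
  have W0 : W ≠ ⊥ := ne_bot_of_mem zW k4.t1
  have zD : ∀ {E}, E ≤ X → D ≤ N(E) → E ≠ ⊥ → z ∈ E := fun {E} e1 e2 e0 => by
    obtain ⟨d, b, c⟩ := exists_ne_one (((ab_pg a).of_le e1).meet_cent pg e2 e0)
    exact ((mem_zp zz).1 (dq ⟨e1 b.1, b.2⟩)).resolve_left c ▸ b.1
  have key : ∀ M, M ⊴ N(X) → (∀ x ∈ M, Odd (orderOf x) → x ∈ C(W)) → M ≤ C(W) := fun M i j =>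
    cents_symm (Kc_le_of (zpowers_le' (zD (inf_le_left.trans l) (norms_inf (q.trans n)
      (norms_cent (q.trans i.norm))) (meet_cent_rel ((ab_pg a).of_le l) W0
      (i.le.trans n) j)).2) (norms_cent i.norm))
  have c := qc.trans (Cm_anti l)
  have Xz : X ≤ N(zpowers z) := (cents_of_comm a.1 le_rfl (zpowers_le' (l zW))).trans (cent_le_norm _)
  have cz := card_zp zz k4.t1
  by_cases s : Sol N(X)
  · obtain ⟨F', m⟩ := exists_Md (ea_bot (abelem_mono a l)) s n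
      (le_top.trans norm_bot.ge) fun N i _ j => by
        rw [Cm_bot] at j ⊢
        exact key N i j
    have i := m.tv zz q c
    have j := pair_eq zz (l.trans Xz) c
    rw [Cm_bot, ← inf_assoc, inf_eq_left.2 q] at i
    have k := card_le ((inf_le_inf_right _ l).trans dq : W ⊓ C(D) ≤ zpowers z)
    rw [cz] at k
    have : #W ≤ #(V4 z y) := Nat.le_of_mul_le_mul_right (by rw [j, k4.card]; nlinarith) (card_pos (D ⊓ C(W)))
    exact .inl (eq_of_le_of_card_ge yW this ▸ n)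
  obtain ⟨T, hT⟩ := exists_syl 2 N(X)
  obtain ⟨L, -⟩ := lc hy (ne_bot_mono l W0) (ab_pg a) le_rfl s hT
  set Q := Oc {2} N(X)
  have yz : y ∉ zpowers z := fun k => ((mem_zp zz).1 k).elim k4.s1 k4.ne.symm
  have QW : Q ≤ C(W) := cents_symm (Kc_le_of (zpowers_le' (zD (inf_le_left.trans l) (norms_inf (q.trans n)
    (norms_cent (q.trans L.nq.norm))) (((ab_pg a).of_le l).meet_cent L.pg (L.nq.le.trans n) W0)).2)
    (norms_cent L.nq.norm))
  obtain ⟨d, d1, d2⟩ : ∃ d ∈ D, d ∉ C[y] := SetLike.not_le_iff_exists.1 fun k =>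
    yz (dq ⟨h1 (right_mem_V4 z y), le_cent1_iff.1 k⟩)
  have y1 := yW (right_mem_V4 z y)
  have dQ : d ∉ Q := fun k => d2 (mem_cent1_symm.1 (le_cent1_iff.2 (QW k) y1))
  have sc : Sec N(X) Q ⊥ W := sec_bot (abelem_mono a l) n QW fun k =>
    d2 (mem_cent1_symm.1 (le_cent1_iff.2 (k (q d1)) y1))
  obtain ⟨-, s0, c8⟩ := mb1 L.toFr sc (q d1) dQ (by
    rw [Eb, Cm_bot, cent_zpowers, pow_one, mul_comm]
    exact card_le_cent zz (Cm_symm (zpowers_le' (c d1)) (l.trans Xz)))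
  rw [sup_bot_eq] at s0 c8
  have e : ⁅W, N(X)⁆ = W := le_antisymm (commg_le_left n) (Kc_le_of (zpowers_le' (zD
    ((commg_le_left n).trans l) (q.trans s0.nV) fun k => by simp [k] at c8)) s0.nV)
  rw [e] at c8
  have b : Bd N(X) Q T W := ⟨L, sc, by simpa using c8⟩
  obtain ⟨P, R, pt⟩ := (bk b).2.2.2.2.2.2.2.2 z zW k4.t1
  have nW : N(X) ≤ Cm W X := (L.smp _ (inf_normal_of_norm' (norms_Cm n le_rfl))).elim
    (fun k => (dQ (k ⟨q d1, Cm_mono (zpowers_le' zW) (q.trans n) qc d1⟩)).elim) fun k => k.ge.trans inf_le_right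
  have QX : Q ≤ C(X) := cents_symm fun x hx => le_cent1_iff.1 (tl_cent bk b
    (cents_of_comm a.1 le_rfl l hx) fun g hg => (nW hg).2 x hx)
  have DR : D ≤ R := fun g hg => pt.ker g (pt.eP ▸ ⟨q hg, nz_cent zz (qc hg).1⟩) (c hg)
  have i := H3.MS.card_inf DR pt.QR
  have j := pair_eq zz Xz qc
  have k := card_le dq
  have m := card_le (inf_le_inf_left D QX)
  have m0 := card_pos Q
  rw [cz] at k
  rw [pt.cR] at i
  have i' : #D ≤ 4 * #(D ⊓ Q) := Nat.le_of_mul_le_mul_right (by linarith) m0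
  have : #X ≤ #W := Nat.le_of_mul_le_mul_right (by rw [j, b.c8]; nlinarith) (card_pos (D ⊓ C(X)))
  have e' := eq_of_le_of_card_ge l this
  exact .inr ⟨e' ▸ b.c8, Q, T, e' ▸ b⟩

end H2.MV
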