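import Cfsg.Agent.H2.NA1g

/-! Generated: the normalizer of a three-subgroup of the alternating group of degree nine. -/

set_option maxRecDepth 100000
set_option maxHeartbeats 4000000
set_option linter.unusedVariables false

open Subgroup
open scoped commutatorElement
namespace H2.N9
open H0 H0.PM H16 H19 H10.X

noncomputable def HH_Rl : List (List ℕ) := [[0,1],
  [1,0],
  [2,3],
  [3,2],
  [4,5],
  [5,4],
  [6,7],
  [7,6],
  [8,8],
  [9,9],
  [0,0,0],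
  [2,2,2],
  [4,4,4],
  [3,1,2,0],
  [5,1,4,0],
  [5,3,4,2],
  [6,6,6],
  [1,7,4,6],
  [3,7,0,6],
  [5,7,2,6],
  [6,8,6,8],
  [4,8,4,8],
  [2,8,0,8],
  [9,8,9,8],
  [5,9,4,9],
  [0,9,0,9],
  [2,9,2,9],
  [6,9,6,9,6,9]]
theorem HH_r {G : Type*} [Group G] {a b e x s c : G}
    (h : HH a b e x s c) :
    Rels (nthG [a, a⁻¹, b, b⁻¹, e, e⁻¹, x, x⁻¹, s, c]) HH_Rl :=
  rels_of_eqs ((InvI.cons h.2.2.2.2.2.2.2.2.2.2.1 (InvI.cons h.2.2.2.2.2.2.2.2.2.2.2.2.2.2.1 InvI.nil)) : InvI [a, b, e, x, s, c] [(nat_lit 4), (nat_lit 5)])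
    (show AllEq [a, b, e, x, s, c] [((.pw (.v (nat_lit 0)) (nat_lit 3)), .one), ((.pw (.v (nat_lit 1)) (nat_lit 3)), .one), ((.pw (.v (nat_lit 2)) (nat_lit 3)), .one), ((.mul (.v (nat_lit 0)) (.v (nat_lit 1))), (.mul (.v (nat_lit 1)) (.v (nat_lit 0)))), ((.mul (.v (nat_lit 0)) (.v (nat_lit 2))), (.mul (.v (nat_lit 2)) (.v (nat_lit 0)))), ((.mul (.v (nat_lit 1)) (.v (nat_lit 2))), (.mul (.v (nat_lit 2)) (.v (nat_lit 1)))), ((.pw (.v (nat_lit 3)) (nat_lit 3)), .one), ((.mul (.mul (.v (nat_lit 3)) (.v (nat_lit 2))) (.inv (.v (nat_lit 3)))), (.v (nat_lit 0))), ((.mul (.mul (.v (nat_lit 3)) (.v (nat_lit 0))) (.inv (.v (nat_lit 3)))), (.v (nat_lit 1))), ((.mul (.mul (.v (nat_lit 3)) (.v (nat_lit 1))) (.inv (.v (nat_lit 3)))), (.v (nat_lit 2))), ((.mul (.v (nat_lit 4)) (.v (nat_lit 4))), .one), ((.mul (.mul (.v (nat_lit 4)) (.v (nat_lit 3))) (.inv (.v (nat_lit 4)))), (.inv (.v (nat_lit 3)))),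 ((.mul (.mul (.v (nat_lit 4)) (.v (nat_lit 2))) (.inv (.v (nat_lit 4)))), (.inv (.v (nat_lit 2)))), ((.mul (.mul (.v (nat_lit 4)) (.v (nat_lit 0))) (.inv (.v (nat_lit 4)))), (.inv (.v (nat_lit 1)))), ((.mul (.v (nat_lit 5)) (.v (nat_lit 5))), .one), ((.mul (.v (nat_lit 4)) (.v (nat_lit 5))), (.mul (.v (nat_lit 5)) (.v (nat_lit 4)))), ((.mul (.v (nat_lit 5)) (.v (nat_lit 2))), (.mul (.v (nat_lit 2)) (.v (nat_lit 5)))), ((.mul (.mul (.v (nat_lit 5)) (.v (nat_lit 0))) (.inv (.v (nat_lit 5)))), (.inv (.v (nat_lit 0)))), ((.mul (.mul (.v (nat_lit 5)) (.v (nat_lit 1))) (.inv (.v (nat_lit 5)))), (.inv (.v (nat_lit 1)))), ((.pw (.mul (.v (nat_lit 5)) (.v (nat_lit 3))) (nat_lit 3)), .one)] from h)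
    [(.v (nat_lit 0)), (.inv (.v (nat_lit 0))), (.v (nat_lit 1)), (.inv (.v (nat_lit 1))), (.v (nat_lit 2)), (.inv (.v (nat_lit 2))), (.v (nat_lit 3)), (.inv (.v (nat_lit 3))), (.v (nat_lit 4)), (.v (nat_lit 5))] (by decide +kernel)
noncomputable abbrev HH_o : Ops := pops (nat_lit 9) (nat_lit 4) (nat_lit 15) (nat_lit 0x876543210)
noncomputable def HH_cs : List ℕ := [(nat_lit 0x876543021), (nat_lit 0x876543102), (nat_lit 0x876354210), (nat_lit 0x876435210), (nat_lit 0x687543210), (nat_lit 0x768543210), (nat_lit 0x210876543), (nat_lit 0x543210876), (nat_lit 0x786120453), (nat_lit 0x876453120)]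
noncomputable def HH_L : List (List ℕ) := [[(nat_lit 0x876543210), (nat_lit 0x876543021), (nat_lit 0x876543102), (nat_lit 0x210876543), (nat_lit 0x543210876), (nat_lit 0x210876354), (nat_lit 0x543210687), (nat_lit 0x786120345), (nat_lit 0x543210768)],
  [(nat_lit 0x876543210), (nat_lit 0x876354210), (nat_lit 0x876435210), (nat_lit 0x453786120), (nat_lit 0x453678120), (nat_lit 0x453867120)],
  [(nat_lit 0x876543210), (nat_lit 0x687543210), (nat_lit 0x768543210)],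
  [(nat_lit 0x876543210), (nat_lit 0x876453120)],
  [(nat_lit 0x876543210), (nat_lit 0x786453210)]]
noncomputable def HH_WW : List (List (List ℕ)) := [[[],
  [(nat_lit 0)],
  [(nat_lit 1)],
  [(nat_lit 6)],
  [(nat_lit 7)],
  [(nat_lit 0), (nat_lit 6)],
  [(nat_lit 0), (nat_lit 7)],
  [(nat_lit 0), (nat_lit 8)],
  [(nat_lit 1), (nat_lit 7)]],
  [[],
  [(nat_lit 2)],
  [(nat_lit 3)],
  [(nat_lit 6), (nat_lit 8)],
  [(nat_lit 2), (nat_lit 6), (nat_lit 8)],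
  [(nat_lit 3), (nat_lit 6), (nat_lit 8)]],
  [[],
  [(nat_lit 4)],
  [(nat_lit 5)]],
  [[],
  [(nat_lit 9)]],
  [[],
  [(nat_lit 7), (nat_lit 9), (nat_lit 6)]]]
noncomputable def HH_b2_S0 : List ℕ := [nat_lit 0xb000008006004]
noncomputable def HH_b2_S : List (List ℕ) := [HH_b2_S0]
noncomputable def HH_b2_defs : List ℕ := [(nat_lit 0x1000000000000000000000)]
noncomputable def HH_b2_recs : List ℕ := [(nat_lit 0x10000100002)]
noncomputable def HH_b2_L0 : List ℕ := [nat_lit 0x700000100000b000002, nat_lit 0x2000002000008000000, nat_lit 0xc000000000001000001]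
noncomputable def HH_b2_L : List (List ℕ) := [HH_b2_L0]
noncomputable def HH_b2_V : List ℕ := [(nat_lit 0x20000000100000000)]
noncomputable def HH_b2_D : H26.Dag := ⟨[1,0], [[0,1],
  [1,0],
  [0,0,0]], [], HH_b2_defs, HH_b2_recs⟩
theorem HH_b2_c : HH_b2_D.checkTab HH_b2_S 3 2 HH_b2_V HH_b2_L = true := by decide +kernel
theorem HH_b2 : Bound HH_Rl 2 3 :=
  bound_dag (Bound.zero HH_Rl) (K := 2) (J := [0,1,10]) (by decide +kernel) HH_b2_c (by decide +kernel)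
noncomputable def HH_b4_S0 : List ℕ := [nat_lit 0x1, nat_lit 0x700000200000800c00a, nat_lit 0xb000008006008, nat_lit 0xb00000100000c00400a]
noncomputable def HH_b4_S : List (List ℕ) := [HH_b4_S0]
noncomputable def HH_b4_defs : List ℕ := [(nat_lit 0x3000000020000000000000)]
noncomputable def HH_b4_recs : List ℕ := [(nat_lit 0x10000200002030000100002000000100001000000000000)]
noncomputable def HH_b4_L0 : List ℕ := [nat_lit 0x100000000000200000000000700000100000b000002, nat_lit 0x500000100000600000100000a000002000008000000, nat_lit 0xe00000200000d00000200000c000000000009000001]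
noncomputable def HH_b4_L : List (List ℕ) := [HH_b4_L0]
noncomputable def HH_b4_V : List ℕ := [(nat_lit 0x20000000100000000)]
noncomputable def HH_b4_D : H26.Dag := ⟨[1,0,3,2], [[0,1],
  [1,0],
  [2,3],
  [3,2],
  [2,2,2],
  [3,1,2,0]], [0,1], HH_b4_defs, HH_b4_recs⟩
theorem HH_b4_c : HH_b4_D.checkTab HH_b4_S 3 4 HH_b4_V HH_b4_L = true := by decide +kernel
theorem HH_b4 : Bound HH_Rl 4 9 :=
  bound_dag HH_b2 (K := 4) (J := [0,1,2,3,11,13]) (by decide +kernel) HH_b4_c (by decide +kernel)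
noncomputable def HH_b6_S0 : List ℕ := [nat_lit 0x1, nat_lit 0x1, nat_lit 0x700000200000800c00e, nat_lit 0x700000600000800c010, nat_lit 0xb00000800600c, nat_lit 0xb00000100000c00400e, nat_lit 0xb00000500000c004010]
noncomputable def HH_b6_S : List (List ℕ) := [HH_b6_S0]
noncomputable def HH_b6_defs : List ℕ := [(nat_lit 0x5000000040000000000000)]
noncomputable def HH_b6_recs : List ℕ := [(nat_lit 0x30000200002010000200002050000100002020000100001000000100001020000000000000000000000)]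
noncomputable def HH_b6_L0 : List ℕ := [nat_lit 0x100000000000200000000000500000000000600000000000700000100000b000002, nat_lit 0x900000100000a00000100000d00000100000e000001000012000002000008000000, nat_lit 0x1600000200001500000200001a00000200001900000200000c000000000011000001]
noncomputable def HH_b6_L : List (List ℕ) := [HH_b6_L0]
noncomputable def HH_b6_V : List ℕ := [(nat_lit 0x20000000100000000)]
noncomputable def HH_b6_D : H26.Dag := ⟨[1,0,3,2,5,4], [[0,1],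
  [1,0],
  [2,3],
  [3,2],
  [4,5],
  [5,4],
  [4,4,4],
  [5,1,4,0],
  [5,3,4,2]], [0,1,2,3], HH_b6_defs, HH_b6_recs⟩
theorem HH_b6_c : HH_b6_D.checkTab HH_b6_S 3 6 HH_b6_V HH_b6_L = true := by decide +kernel
theorem HH_b6 : Bound HH_Rl 6 27 :=
  bound_dag HH_b4 (K := 6) (J := [0,1,2,3,4,5,12,14,15]) (by decide +kernel) HH_b6_c (by decide +kernel)
noncomputable def HH_b8_S0 : List ℕ := [nat_lit 0x1, nat_lit 0x1, nat_lit 0x1, nat_lit 0x7000009000008000012, nat_lit 0x7000001000008000014, nat_lit 0x7000005000008000016, nat_lit 0xb000008006010, nat_lit 0xb00000200000c008012, nat_lit 0xb00000600000c008014, nat_lit 0xb00000a00000c008016]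
noncomputable def HH_b8_S : List (List ℕ) := [HH_b8_S0]
noncomputable def HH_b8_defs : List ℕ := [(nat_lit 0x7000000060000000000000)]
noncomputable def HH_b8_recs : List ℕ := [(nat_lit 0x20000200002000000200002040000200002070000100002050000100001030000100001010000100001040000000000020000000000000000000000)]
noncomputable def HH_b8_L0 : List ℕ := [nat_lit 0x100000000000200000000000500000000000600000000000900000000000a00000000000700000100000b000002, nat_lit 0xe00000100000d00000100001200000100001100000100001600000100001500000100001a000002000008000000, nat_lit 0x2100000200002200000200002500000200002600000200001d00000200001e00000200000c000000000019000001]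
noncomputable def HH_b8_L : List (List ℕ) := [HH_b8_L0]
noncomputable def HH_b8_V : List ℕ := [(nat_lit 0x20000000100000000)]
noncomputable def HH_b8_D : H26.Dag := ⟨[1,0,3,2,5,4,7,6], [[0,1],
  [1,0],
  [2,3],
  [3,2],
  [4,5],
  [5,4],
  [6,7],
  [7,6],
  [6,6,6],
  [1,7,4,6],
  [3,7,0,6],
  [5,7,2,6]], [0,1,2,3,4,5], HH_b8_defs, HH_b8_recs⟩
theorem HH_b8_c : HH_b8_D.checkTab HH_b8_S 3 8 HH_b8_V HH_b8_L = true := by decide +kernel
theorem HH_b8 : Bound HH_Rl 8 81 :=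
  bound_dag HH_b6 (K := 8) (J := [0,1,2,3,4,5,6,7,16,17,18,19]) (by decide +kernel) HH_b8_c (by decide +kernel)
noncomputable def HH_b9_S0 : List ℕ := [nat_lit 0x1, nat_lit 0x1, nat_lit 0x1, nat_lit 0x1, nat_lit 0x700000d000008008012, nat_lit 0x7000009000008008014, nat_lit 0x7000005000008008016, nat_lit 0x7000001000008000016]
noncomputable def HH_b9_S : List (List ℕ) := [HH_b9_S0]
noncomputable def HH_b9_defs : List ℕ := [(nat_lit 0x80000000000000)]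
noncomputable def HH_b9_recs : List ℕ := [(nat_lit 0x20000100001000000100001040000100001060000100001060000000000040000000000020000000000000000000000)]
noncomputable def HH_b9_L0 : List ℕ := [nat_lit 0x100000000000200000000000500000000000600000000000900000000000a00000000000d00000000000e000000000007000001, nat_lit 0x1900000100001a00000100001d00000100001e000001000015000001000016000001000011000001000012000001000008000000]
noncomputable def HH_b9_L : List (List ℕ) := [HH_b9_L0]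
noncomputable def HH_b9_V : List ℕ := [(nat_lit 0x100000000)]
noncomputable def HH_b9_D : H26.Dag := ⟨[1,0,3,2,5,4,7,6,8], [[0,1],
  [1,0],
  [2,3],
  [3,2],
  [4,5],
  [5,4],
  [6,7],
  [7,6],
  [8,8],
  [6,8,6,8],
  [4,8,4,8],
  [2,8,0,8]], [0,1,2,3,4,5,6,7], HH_b9_defs, HH_b9_recs⟩
theorem HH_b9_c : HH_b9_D.checkTab HH_b9_S 2 9 HH_b9_V HH_b9_L = true := by decide +kernel
theorem HH_b9 : Bound HH_Rl 9 162 :=
  bound_dag HH_b8 (K := 9) (J := [0,1,2,3,4,5,6,7,8,20,21,22]) (by decide +kernel) HH_b9_c (by decide +kernel)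
noncomputable def HH_b10_S0 : List ℕ := [nat_lit 0x1, nat_lit 0x1, nat_lit 0x1, nat_lit 0x1, nat_lit 0x1, nat_lit 0x700001100000800401e, nat_lit 0x700000a000008008020, nat_lit 0x7000001000008008022, nat_lit 0x7000005000008008024, nat_lit 0xb00001900000c000016, nat_lit 0xb00001d00000c000018, nat_lit 0xb00002100000c00001a, nat_lit 0xf00000c006014, nat_lit 0xf00001e000010008016, nat_lit 0xf000022000010008018, nat_lit 0xf00001a00001000801a, nat_lit 0xf00001500000c00a01c, nat_lit 0xf00000700000e00000800000c00a026]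
noncomputable def HH_b10_S : List (List ℕ) := [HH_b10_S0]
noncomputable def HH_b10_defs : List ℕ := [(nat_lit 0x700001006000010090000000000000)]
noncomputable def HH_b10_recs : List ℕ := [(nat_lit 0x90000200003080000200003020000300003000000300003040000300003070000200003050000200002030000200002010000200002020000100001000000100001040000100001080000100001080000000000060000000000040000000000020000000000000000000000)]
noncomputable def HH_b10_L0 : List ℕ := [nat_lit 0x100000000000200000000000500000000000600000000000900000000000a00000000000d00000000000e000000000011000000000007000001, nat_lit 0x1d00000100001e00000100002100000100002200000100001900000100001a00000100000b00000200000f000003000015000001000008000000, nat_lit 0x2600000200002500000200002a00000200002900000200002e00000200002d00000200003200000300000c000001000042000003000046000003, nat_lit 0x3900000300003a00000300003d00000300003e000003000035000003000036000003000010000001000031000002000041000002000045000002]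
noncomputable def HH_b10_L : List (List ℕ) := [HH_b10_L0]
noncomputable def HH_b10_V : List ℕ := [(nat_lit 0x3000000020000000100000000)]
noncomputable def HH_b10_D : H26.Dag := ⟨[1,0,3,2,5,4,7,6,8,9], [[0,1],
  [1,0],
  [2,3],
  [3,2],
  [4,5],
  [5,4],
  [6,7],
  [7,6],
  [8,8],
  [9,9],
  [6,6,6],
  [1,7,4,6],
  [3,7,0,6],
  [5,7,2,6],
  [6,8,6,8],
  [9,8,9,8],
  [5,9,4,9],
  [0,9,0,9],
  [2,9,2,9],
  [6,9,6,9,6,9]], [0,1,2,3,4,5,6,7,8], HH_b10_defs, HH_b10_recs⟩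
theorem HH_b10_c : HH_b10_D.checkTab HH_b10_S 4 10 HH_b10_V HH_b10_L = true := by decide +kernel
theorem HH_b10 : Bound HH_Rl 10 648 :=
  bound_dag HH_b9 (K := 10) (J := [0,1,2,3,4,5,6,7,8,9,16,17,18,19,20,23,24,25,26,27]) (by decide +kernel) HH_b10_c (by decide +kernel)
theorem HH_P : PModel (nat_lit 9) (nat_lit 4) (nat_lit 15) (nat_lit 0x876543210) HH_cs HH_Rl HH_L 648 :=
  ⟨PkOK.of (by decide +kernel), by decide +kernel, by decide +kernel, HH_b10, ⟨HH_WW, by decide +kernel⟩,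
    ⟨fun c => Nat.mod c (nat_lit 8728), by decide +kernel⟩⟩
noncomputable def HH_soc_t0 : ST := (.node (nat_lit 38743) (.node (nat_lit 19263) (.node (nat_lit 9497) (.node (nat_lit 4593) (.node (nat_lit 2535) (.node (nat_lit 1150) (.node (nat_lit 471) (.node (nat_lit 378) (.node (nat_lit 133) (.leaf (nat_lit 354)) (.leaf (nat_lit 3))) (.node (nat_lit 427) (.leaf (nat_lit 1)) (.leaf (nat_lit 162)))) (.node (nat_lit 1055) (.node (nat_lit 955) (.leaf (nat_lit 1)) (.leaf (nat_lit 162))) (.node (nat_lit 1066) (.leaf (nat_lit 354)) (.leaf (nat_lit 3))))) (.node (nat_lit 1974) (.node (nat_lit 1682) (.node (nat_lit 1623) (.leaf (nat_lit 162)) (.leaf (nat_lit 30))) (.node (nat_lit 1856) (.leaf (nat_lit 3)) (.leaf (nat_lit 1)))) (.node (nat_lit 2311) (.node (nat_lit 2222) (.leaf (nat_lit 0)) (.leaf (nat_lit 3))) (.node (nat_lit 2345) (.leaf (nat_lit 1)) (.node (nat_lit 2486) (.leaf (nat_lit 30))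 (.leaf (nat_lit 486))))))) (.node (nat_lit 3949) (.node (nat_lit 3180) (.node (nat_lit 3026) (.node (nat_lit 2671) (.leaf (nat_lit 1)) (.leaf (nat_lit 354))) (.node (nat_lit 3068) (.leaf (nat_lit 162)) (.leaf (nat_lit 30)))) (.node (nat_lit 3604) (.node (nat_lit 3350) (.leaf (nat_lit 162)) (.leaf (nat_lit 3))) (.node (nat_lit 3858) (.leaf (nat_lit 1)) (.node (nat_lit 3907) (.leaf (nat_lit 486)) (.leaf (nat_lit 1)))))) (.node (nat_lit 4199) (.node (nat_lit 4056) (.node (nat_lit 3999) (.leaf (nat_lit 354)) (.leaf (nat_lit 30))) (.node (nat_lit 4090) (.leaf (nat_lit 354)) (.leaf (nat_lit 162)))) (.node (nat_lit 4376) (.node (nat_lit 4292) (.leaf (nat_lit 30)) (.leaf (nat_lit 3))) (.node (nat_lit 4456) (.leaf (nat_lit 0)) (.node (nat_lit 4565) (.leaf (nat_lit 3)) (.leaf (nat_lit 1)))))))) (.node (nat_lit 7239) (.node (nat_lit 6406) (.node (nat_lit 5064) (.node (nat_lit 4688) (.node (nat_lit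 4634) (.leaf (nat_lit 162)) (.leaf (nat_lit 0))) (.node (nat_lit 4922) (.leaf (nat_lit 354)) (.leaf (nat_lit 30)))) (.node (nat_lit 5743) (.node (nat_lit 5608) (.leaf (nat_lit 1)) (.leaf (nat_lit 30))) (.node (nat_lit 6091) (.leaf (nat_lit 1)) (.node (nat_lit 6357) (.leaf (nat_lit 162)) (.leaf (nat_lit 1)))))) (.node (nat_lit 6966) (.node (nat_lit 6576) (.node (nat_lit 6449) (.leaf (nat_lit 162)) (.leaf (nat_lit 1))) (.node (nat_lit 6939) (.leaf (nat_lit 3)) (.leaf (nat_lit 0)))) (.node (nat_lit 7128) (.node (nat_lit 7036) (.leaf (nat_lit 3)) (.leaf (nat_lit 1))) (.node (nat_lit 7175) (.leaf (nat_lit 162)) (.node (nat_lit 7225) (.leaf (nat_lit 354)) (.leaf (nat_lit 30))))))) (.node (nat_lit 8232) (.node (nat_lit 7639) (.node (nat_lit 7404) (.node (nat_lit 7264) (.leaf (nat_lit 0)) (.leaf (nat_lit 354))) (.node (nat_lit 7509) (.leaf (nat_lit 486)) (.leaf (nat_lit 30)))) (.node (nat_lit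 7656) (.node (nat_lit 7644) (.leaf (nat_lit 354)) (.leaf (nat_lit 0))) (.node (nat_lit 8053) (.leaf (nat_lit 162)) (.node (nat_lit 8199) (.leaf (nat_lit 1)) (.leaf (nat_lit 354)))))) (.node (nat_lit 8732) (.node (nat_lit 8318) (.node (nat_lit 8290) (.leaf (nat_lit 30)) (.leaf (nat_lit 1))) (.node (nat_lit 8468) (.leaf (nat_lit 0)) (.leaf (nat_lit 354)))) (.node (nat_lit 8969) (.node (nat_lit 8774) (.leaf (nat_lit 1)) (.leaf (nat_lit 327))) (.node (nat_lit 9137) (.leaf (nat_lit 1)) (.node (nat_lit 9155) (.leaf (nat_lit 30)) (.leaf (nat_lit 3))))))))) (.node (nat_lit 14054) (.node (nat_lit 11231) (.node (nat_lit 10262) (.node (nat_lit 9881) (.node (nat_lit 9631) (.node (nat_lit 9627) (.leaf (nat_lit 327)) (.leaf (nat_lit 1))) (.node (nat_lit 9801) (.leaf (nat_lit 3)) (.leaf (nat_lit 1)))) (.node (nat_lit 10233) (.node (nat_lit 10003) (.leaf (nat_lit 162)) (.leaf (nat_lit 327))) (.node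 (nat_lit 10253) (.leaf (nat_lit 3)) (.leaf (nat_lit 354))))) (.node (nat_lit 10828) (.node (nat_lit 10690) (.node (nat_lit 10630) (.leaf (nat_lit 0)) (.leaf (nat_lit 486))) (.node (nat_lit 10745) (.leaf (nat_lit 327)) (.leaf (nat_lit 162)))) (.node (nat_lit 10999) (.node (nat_lit 10996) (.leaf (nat_lit 354)) (.leaf (nat_lit 3))) (.node (nat_lit 11107) (.leaf (nat_lit 1)) (.node (nat_lit 11142) (.leaf (nat_lit 0)) (.leaf (nat_lit 3))))))) (.node (nat_lit 12126) (.node (nat_lit 11468) (.node (nat_lit 11371) (.node (nat_lit 11279) (.leaf (nat_lit 162)) (.leaf (nat_lit 1))) (.node (nat_lit 11389) (.leaf (nat_lit 354)) (.leaf (nat_lit 3)))) (.node (nat_lit 11782) (.node (nat_lit 11694) (.leaf (nat_lit 162)) (.leaf (nat_lit 354))) (.node (nat_lit 11937) (.leaf (nat_lit 3)) (.node (nat_lit 11958) (.leaf (nat_lit 0)) (.leaf (nat_lit 1)))))) (.node (nat_lit 13043) (.node (nat_lit 12466) (.node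 (nat_lit 12339) (.leaf (nat_lit 30)) (.leaf (nat_lit 354))) (.node (nat_lit 13040) (.leaf (nat_lit 1)) (.leaf (nat_lit 3)))) (.node (nat_lit 13459) (.node (nat_lit 13251) (.leaf (nat_lit 162)) (.leaf (nat_lit 0))) (.node (nat_lit 13713) (.leaf (nat_lit 3)) (.node (nat_lit 13939) (.leaf (nat_lit 30)) (.leaf (nat_lit 1)))))))) (.node (nat_lit 16844) (.node (nat_lit 15689) (.node (nat_lit 14831) (.node (nat_lit 14457) (.node (nat_lit 14225) (.leaf (nat_lit 354)) (.leaf (nat_lit 1))) (.node (nat_lit 14711) (.leaf (nat_lit 162)) (.leaf (nat_lit 1)))) (.node (nat_lit 15442) (.node (nat_lit 14865) (.leaf (nat_lit 3)) (.leaf (nat_lit 0))) (.node (nat_lit 15455) (.leaf (nat_lit 3)) (.node (nat_lit 15574) (.leaf (nat_lit 1)) (.leaf (nat_lit 3)))))) (.node (nat_lit 16165) (.node (nat_lit 15996) (.node (nat_lit 15692) (.leaf (nat_lit 354)) (.leaf (nat_lit 1))) (.node (nat_lit 16037) (.leaf (nat_lit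 3)) (.leaf (nat_lit 354)))) (.node (nat_lit 16459) (.node (nat_lit 16430) (.leaf (nat_lit 3)) (.leaf (nat_lit 162))) (.node (nat_lit 16653) (.leaf (nat_lit 1)) (.node (nat_lit 16827) (.leaf (nat_lit 0)) (.leaf (nat_lit 162))))))) (.node (nat_lit 18313) (.node (nat_lit 17205) (.node (nat_lit 17121) (.node (nat_lit 16932) (.leaf (nat_lit 327)) (.leaf (nat_lit 30))) (.node (nat_lit 17165) (.leaf (nat_lit 3)) (.leaf (nat_lit 1)))) (.node (nat_lit 17655) (.node (nat_lit 17296) (.leaf (nat_lit 327)) (.leaf (nat_lit 1))) (.node (nat_lit 17780) (.leaf (nat_lit 30)) (.node (nat_lit 17930) (.leaf (nat_lit 162)) (.leaf (nat_lit 354)))))) (.node (nat_lit 19040) (.node (nat_lit 18915) (.node (nat_lit 18681) (.leaf (nat_lit 162)) (.leaf (nat_lit 1))) (.node (nat_lit 18929) (.leaf (nat_lit 354)) (.leaf (nat_lit 0)))) (.node (nat_lit 19054) (.node (nat_lit 19050) (.leaf (nat_lit 354)) (.leaf (nat_lit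 1))) (.node (nat_lit 19184) (.leaf (nat_lit 3)) (.node (nat_lit 19211) (.leaf (nat_lit 354)) (.leaf (nat_lit 3)))))))))) (.node (nat_lit 27194) (.node (nat_lit 23182) (.node (nat_lit 20881) (.node (nat_lit 20172) (.node (nat_lit 19685) (.node (nat_lit 19424) (.node (nat_lit 19326) (.leaf (nat_lit 354)) (.leaf (nat_lit 1))) (.node (nat_lit 19496) (.leaf (nat_lit 3)) (.leaf (nat_lit 354)))) (.node (nat_lit 19962) (.node (nat_lit 19888) (.leaf (nat_lit 0)) (.leaf (nat_lit 3))) (.node (nat_lit 20005) (.leaf (nat_lit 30)) (.leaf (nat_lit 162))))) (.node (nat_lit 20595) (.node (nat_lit 20431) (.node (nat_lit 20422) (.leaf (nat_lit 3)) (.leaf (nat_lit 1))) (.node (nat_lit 20565) (.leaf (nat_lit 327)) (.leaf (nat_lit 3)))) (.node (nat_lit 20711) (.node (nat_lit 20597) (.leaf (nat_lit 354)) (.leaf (nat_lit 162))) (.node (nat_lit 20794) (.leaf (nat_lit 1)) (.node (nat_lit 20807) (.leaf (nat_lit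 354)) (.leaf (nat_lit 3))))))) (.node (nat_lit 21918) (.node (nat_lit 21390) (.node (nat_lit 21260) (.node (nat_lit 21077) (.leaf (nat_lit 354)) (.leaf (nat_lit 3))) (.node (nat_lit 21317) (.leaf (nat_lit 327)) (.leaf (nat_lit 30)))) (.node (nat_lit 21800) (.node (nat_lit 21764) (.leaf (nat_lit 1)) (.leaf (nat_lit 0))) (.node (nat_lit 21855) (.leaf (nat_lit 3)) (.node (nat_lit 21889) (.leaf (nat_lit 354)) (.leaf (nat_lit 1)))))) (.node (nat_lit 22586) (.node (nat_lit 22018) (.node (nat_lit 21923) (.leaf (nat_lit 0)) (.leaf (nat_lit 30))) (.node (nat_lit 22113) (.leaf (nat_lit 354)) (.leaf (nat_lit 1)))) (.node (nat_lit 22674) (.node (nat_lit 22650) (.leaf (nat_lit 30)) (.leaf (nat_lit 3))) (.node (nat_lit 23091) (.leaf (nat_lit 0)) (.node (nat_lit 23136) (.leaf (nat_lit 3)) (.leaf (nat_lit 30)))))))) (.node (nat_lit 25339) (.node (nat_lit 24089) (.node (nat_lit 23777) (.node (nat_lit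 23231) (.node (nat_lit 23185) (.leaf (nat_lit 1)) (.leaf (nat_lit 3))) (.node (nat_lit 23274) (.leaf (nat_lit 162)) (.leaf (nat_lit 1)))) (.node (nat_lit 23816) (.node (nat_lit 23814) (.leaf (nat_lit 30)) (.leaf (nat_lit 0))) (.node (nat_lit 23851) (.leaf (nat_lit 354)) (.node (nat_lit 24033) (.leaf (nat_lit 327)) (.leaf (nat_lit 3)))))) (.node (nat_lit 24481) (.node (nat_lit 24212) (.node (nat_lit 24143) (.leaf (nat_lit 354)) (.leaf (nat_lit 1))) (.node (nat_lit 24266) (.leaf (nat_lit 162)) (.leaf (nat_lit 354)))) (.node (nat_lit 24946) (.node (nat_lit 24878) (.leaf (nat_lit 162)) (.leaf (nat_lit 1))) (.node (nat_lit 25115) (.leaf (nat_lit 354)) (.node (nat_lit 25149) (.leaf (nat_lit 1)) (.leaf (nat_lit 30))))))) (.node (nat_lit 26704) (.node (nat_lit 26027) (.node (nat_lit 25773) (.node (nat_lit 25599) (.leaf (nat_lit 0)) (.leaf (nat_lit 327))) (.node (nat_lit 25853) (.leaf (nat_lit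 486)) (.leaf (nat_lit 162)))) (.node (nat_lit 26317) (.node (nat_lit 26184) (.leaf (nat_lit 1)) (.leaf (nat_lit 0))) (.node (nat_lit 26322) (.leaf (nat_lit 3)) (.node (nat_lit 26544) (.leaf (nat_lit 327)) (.leaf (nat_lit 3)))))) (.node (nat_lit 26967) (.node (nat_lit 26753) (.node (nat_lit 26706) (.leaf (nat_lit 30)) (.leaf (nat_lit 162))) (.node (nat_lit 26803) (.leaf (nat_lit 354)) (.leaf (nat_lit 30)))) (.node (nat_lit 27003) (.node (nat_lit 26980) (.leaf (nat_lit 354)) (.leaf (nat_lit 0))) (.node (nat_lit 27078) (.leaf (nat_lit 30)) (.node (nat_lit 27145) (.leaf (nat_lit 354)) (.leaf (nat_lit 486))))))))) (.node (nat_lit 32807) (.node (nat_lit 30603) (.node (nat_lit 28104) (.node (nat_lit 27433) (.node (nat_lit 27369) (.node (nat_lit 27260) (.leaf (nat_lit 162)) (.leaf (nat_lit 3))) (.node (nat_lit 27377) (.leaf (nat_lit 1)) (.leaf (nat_lit 486)))) (.node (nat_lit 27736) (.node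 (nat_lit 27492) (.leaf (nat_lit 0)) (.leaf (nat_lit 354))) (.node (nat_lit 27932) (.leaf (nat_lit 162)) (.leaf (nat_lit 0))))) (.node (nat_lit 29868) (.node (nat_lit 29205) (.node (nat_lit 28209) (.leaf (nat_lit 1)) (.leaf (nat_lit 354))) (.node (nat_lit 29581) (.leaf (nat_lit 1)) (.leaf (nat_lit 327)))) (.node (nat_lit 30313) (.node (nat_lit 30134) (.leaf (nat_lit 162)) (.leaf (nat_lit 1))) (.node (nat_lit 30371) (.leaf (nat_lit 354)) (.node (nat_lit 30427) (.leaf (nat_lit 486)) (.leaf (nat_lit 3))))))) (.node (nat_lit 31578) (.node (nat_lit 31003) (.node (nat_lit 30766) (.node (nat_lit 30764) (.leaf (nat_lit 486)) (.leaf (nat_lit 1))) (.node (nat_lit 30813) (.leaf (nat_lit 354)) (.leaf (nat_lit 1)))) (.node (nat_lit 31198) (.node (nat_lit 31187) (.leaf (nat_lit 354)) (.leaf (nat_lit 0))) (.node (nat_lit 31435) (.leaf (nat_lit 327)) (.node (nat_lit 31536) (.leaf (nat_lit 354)) (.leaf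 (nat_lit 1)))))) (.node (nat_lit 32009) (.node (nat_lit 31917) (.node (nat_lit 31653) (.leaf (nat_lit 3)) (.leaf (nat_lit 0))) (.node (nat_lit 31959) (.leaf (nat_lit 30)) (.leaf (nat_lit 3)))) (.node (nat_lit 32570) (.node (nat_lit 32194) (.leaf (nat_lit 30)) (.leaf (nat_lit 1))) (.node (nat_lit 32605) (.leaf (nat_lit 327)) (.node (nat_lit 32653) (.leaf (nat_lit 1)) (.leaf (nat_lit 3)))))))) (.node (nat_lit 35880) (.node (nat_lit 34406) (.node (nat_lit 33566) (.node (nat_lit 33302) (.node (nat_lit 33018) (.leaf (nat_lit 327)) (.leaf (nat_lit 3))) (.node (nat_lit 33549) (.leaf (nat_lit 354)) (.leaf (nat_lit 0)))) (.node (nat_lit 34006) (.node (nat_lit 33992) (.leaf (nat_lit 1)) (.leaf (nat_lit 354))) (.node (nat_lit 34035) (.leaf (nat_lit 0)) (.node (nat_lit 34288) (.leaf (nat_lit 162)) (.leaf (nat_lit 354)))))) (.node (nat_lit 34762) (.node (nat_lit 34567) (.node (nat_lit 34501) (.leaf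 (nat_lit 30)) (.leaf (nat_lit 0))) (.node (nat_lit 34627) (.leaf (nat_lit 3)) (.leaf (nat_lit 162)))) (.node (nat_lit 35420) (.node (nat_lit 35196) (.leaf (nat_lit 0)) (.leaf (nat_lit 162))) (.node (nat_lit 35754) (.leaf (nat_lit 1)) (.node (nat_lit 35796) (.leaf (nat_lit 0)) (.leaf (nat_lit 327))))))) (.node (nat_lit 37536) (.node (nat_lit 36537) (.node (nat_lit 36151) (.node (nat_lit 35904) (.leaf (nat_lit 162)) (.leaf (nat_lit 354))) (.node (nat_lit 36463) (.leaf (nat_lit 1)) (.leaf (nat_lit 0)))) (.node (nat_lit 36743) (.node (nat_lit 36568) (.leaf (nat_lit 3)) (.leaf (nat_lit 162))) (.node (nat_lit 37422) (.leaf (nat_lit 1)) (.node (nat_lit 37457) (.leaf (nat_lit 162)) (.leaf (nat_lit 327)))))) (.node (nat_lit 38259) (.node (nat_lit 37998) (.node (nat_lit 37895) (.leaf (nat_lit 1)) (.leaf (nat_lit 30))) (.node (nat_lit 38168) (.leaf (nat_lit 162)) (.leaf (nat_lit 3)))) (.node (nat_lit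 38493) (.node (nat_lit 38378) (.leaf (nat_lit 1)) (.leaf (nat_lit 3))) (.node (nat_lit 38618) (.leaf (nat_lit 354)) (.node (nat_lit 38628) (.leaf (nat_lit 30)) (.leaf (nat_lit 1))))))))))) (.node (nat_lit 58000) (.node (nat_lit 49315) (.node (nat_lit 43611) (.node (nat_lit 41135) (.node (nat_lit 39750) (.node (nat_lit 39377) (.node (nat_lit 38893) (.node (nat_lit 38789) (.leaf (nat_lit 0)) (.leaf (nat_lit 3))) (.node (nat_lit 39286) (.leaf (nat_lit 354)) (.leaf (nat_lit 327)))) (.node (nat_lit 39629) (.node (nat_lit 39523) (.leaf (nat_lit 1)) (.leaf (nat_lit 30))) (.node (nat_lit 39736) (.leaf (nat_lit 3)) (.leaf (nat_lit 354))))) (.node (nat_lit 40173) (.node (nat_lit 40009) (.node (nat_lit 39794) (.leaf (nat_lit 3)) (.leaf (nat_lit 162))) (.node (nat_lit 40013) (.leaf (nat_lit 327)) (.leaf (nat_lit 162)))) (.node (nat_lit 40601) (.node (nat_lit 40289) (.leaf (nat_lit 354)) (.leaf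 (nat_lit 1))) (.node (nat_lit 40676) (.leaf (nat_lit 0)) (.node (nat_lit 40968) (.leaf (nat_lit 327)) (.leaf (nat_lit 1))))))) (.node (nat_lit 42725) (.node (nat_lit 41757) (.node (nat_lit 41394) (.node (nat_lit 41224) (.leaf (nat_lit 3)) (.leaf (nat_lit 162))) (.node (nat_lit 41617) (.leaf (nat_lit 3)) (.leaf (nat_lit 1)))) (.node (nat_lit 41854) (.node (nat_lit 41808) (.leaf (nat_lit 354)) (.leaf (nat_lit 327))) (.node (nat_lit 42015) (.leaf (nat_lit 1)) (.node (nat_lit 42678) (.leaf (nat_lit 3)) (.leaf (nat_lit 162)))))) (.node (nat_lit 42888) (.node (nat_lit 42766) (.node (nat_lit 42763) (.leaf (nat_lit 354)) (.leaf (nat_lit 3))) (.node (nat_lit 42852) (.leaf (nat_lit 30)) (.leaf (nat_lit 1)))) (.node (nat_lit 43340) (.node (nat_lit 43226) (.leaf (nat_lit 3)) (.leaf (nat_lit 1))) (.node (nat_lit 43400) (.leaf (nat_lit 486)) (.node (nat_lit 43515) (.leaf (nat_lit 0)) (.leaf (nat_lit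 1)))))))) (.node (nat_lit 46078) (.node (nat_lit 44547) (.node (nat_lit 43924) (.node (nat_lit 43881) (.node (nat_lit 43766) (.leaf (nat_lit 3)) (.leaf (nat_lit 0))) (.node (nat_lit 43884) (.leaf (nat_lit 3)) (.leaf (nat_lit 1)))) (.node (nat_lit 44099) (.node (nat_lit 44091) (.leaf (nat_lit 0)) (.leaf (nat_lit 162))) (.node (nat_lit 44194) (.leaf (nat_lit 30)) (.node (nat_lit 44404) (.leaf (nat_lit 1)) (.leaf (nat_lit 30)))))) (.node (nat_lit 45351) (.node (nat_lit 44993) (.node (nat_lit 44843) (.leaf (nat_lit 162)) (.leaf (nat_lit 1))) (.node (nat_lit 45080) (.leaf (nat_lit 354)) (.leaf (nat_lit 0)))) (.node (nat_lit 45817) (.node (nat_lit 45390) (.leaf (nat_lit 486)) (.leaf (nat_lit 354))) (.node (nat_lit 45895) (.leaf (nat_lit 1)) (.node (nat_lit 45987) (.leaf (nat_lit 3)) (.leaf (nat_lit 327))))))) (.node (nat_lit 47682) (.node (nat_lit 46772) (.node (nat_lit 46263) (.node (nat_lit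 46207) (.leaf (nat_lit 1)) (.leaf (nat_lit 3))) (.node (nat_lit 46655) (.leaf (nat_lit 354)) (.leaf (nat_lit 3)))) (.node (nat_lit 47571) (.node (nat_lit 46959) (.leaf (nat_lit 162)) (.leaf (nat_lit 1))) (.node (nat_lit 47648) (.leaf (nat_lit 0)) (.node (nat_lit 47667) (.leaf (nat_lit 354)) (.leaf (nat_lit 30)))))) (.node (nat_lit 48340) (.node (nat_lit 48157) (.node (nat_lit 47904) (.leaf (nat_lit 1)) (.leaf (nat_lit 0))) (.node (nat_lit 48278) (.leaf (nat_lit 1)) (.leaf (nat_lit 354)))) (.node (nat_lit 48577) (.node (nat_lit 48403) (.leaf (nat_lit 486)) (.leaf (nat_lit 3))) (.node (nat_lit 48699) (.leaf (nat_lit 486)) (.node (nat_lit 49050) (.leaf (nat_lit 162)) (.leaf (nat_lit 3))))))))) (.node (nat_lit 53845) (.node (nat_lit 52150) (.node (nat_lit 50391) (.node (nat_lit 49998) (.node (nat_lit 49712) (.node (nat_lit 49538) (.leaf (nat_lit 162)) (.leaf (nat_lit 0))) (.node (nat_lit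 49949) (.leaf (nat_lit 1)) (.leaf (nat_lit 486)))) (.node (nat_lit 50181) (.node (nat_lit 50009) (.leaf (nat_lit 162)) (.leaf (nat_lit 3))) (.node (nat_lit 50290) (.leaf (nat_lit 486)) (.leaf (nat_lit 354))))) (.node (nat_lit 50856) (.node (nat_lit 50776) (.node (nat_lit 50558) (.leaf (nat_lit 1)) (.leaf (nat_lit 3))) (.node (nat_lit 50831) (.leaf (nat_lit 327)) (.leaf (nat_lit 0)))) (.node (nat_lit 51566) (.node (nat_lit 51392) (.leaf (nat_lit 354)) (.leaf (nat_lit 3))) (.node (nat_lit 51894) (.leaf (nat_lit 486)) (.node (nat_lit 51932) (.leaf (nat_lit 30)) (.leaf (nat_lit 3))))))) (.node (nat_lit 53219) (.node (nat_lit 52847) (.node (nat_lit 52366) (.node (nat_lit 52182) (.leaf (nat_lit 0)) (.leaf (nat_lit 162))) (.node (nat_lit 52540) (.leaf (nat_lit 327)) (.leaf (nat_lit 1)))) (.node (nat_lit 52938) (.node (nat_lit 52880) (.leaf (nat_lit 354)) (.leaf (nat_lit 30))) (.node (nat_lit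 52951) (.leaf (nat_lit 1)) (.node (nat_lit 53057) (.leaf (nat_lit 0)) (.leaf (nat_lit 3)))))) (.node (nat_lit 53480) (.node (nat_lit 53307) (.node (nat_lit 53290) (.leaf (nat_lit 1)) (.leaf (nat_lit 0))) (.node (nat_lit 53477) (.leaf (nat_lit 1)) (.leaf (nat_lit 327)))) (.node (nat_lit 53570) (.node (nat_lit 53568) (.leaf (nat_lit 354)) (.leaf (nat_lit 1))) (.node (nat_lit 53617) (.leaf (nat_lit 354)) (.node (nat_lit 53747) (.leaf (nat_lit 1)) (.leaf (nat_lit 0)))))))) (.node (nat_lit 55374) (.node (nat_lit 54416) (.node (nat_lit 54086) (.node (nat_lit 53866) (.node (nat_lit 53854) (.leaf (nat_lit 354)) (.leaf (nat_lit 162))) (.node (nat_lit 54002) (.leaf (nat_lit 354)) (.leaf (nat_lit 327)))) (.node (nat_lit 54145) (.node (nat_lit 54144) (.leaf (nat_lit 162)) (.leaf (nat_lit 1))) (.node (nat_lit 54202) (.leaf (nat_lit 327)) (.node (nat_lit 54282) (.leaf (nat_lit 354)) (.leaf (nat_lit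 327)))))) (.node (nat_lit 54774) (.node (nat_lit 54503) (.node (nat_lit 54457) (.leaf (nat_lit 354)) (.leaf (nat_lit 162))) (.node (nat_lit 54740) (.leaf (nat_lit 0)) (.leaf (nat_lit 354)))) (.node (nat_lit 54823) (.node (nat_lit 54813) (.leaf (nat_lit 162)) (.leaf (nat_lit 354))) (.node (nat_lit 54998) (.leaf (nat_lit 162)) (.node (nat_lit 55120) (.leaf (nat_lit 1)) (.leaf (nat_lit 30))))))) (.node (nat_lit 57114) (.node (nat_lit 56533) (.node (nat_lit 56041) (.node (nat_lit 55972) (.leaf (nat_lit 327)) (.leaf (nat_lit 1))) (.node (nat_lit 56159) (.leaf (nat_lit 162)) (.leaf (nat_lit 486)))) (.node (nat_lit 56741) (.node (nat_lit 56703) (.leaf (nat_lit 1)) (.leaf (nat_lit 327))) (.node (nat_lit 56843) (.leaf (nat_lit 30)) (.node (nat_lit 57092) (.leaf (nat_lit 162)) (.leaf (nat_lit 354)))))) (.node (nat_lit 57531) (.node (nat_lit 57366) (.node (nat_lit 57194) (.leaf (nat_lit 1)) (.leaf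 (nat_lit 3))) (.node (nat_lit 57370) (.leaf (nat_lit 162)) (.leaf (nat_lit 1)))) (.node (nat_lit 57763) (.node (nat_lit 57580) (.leaf (nat_lit 486)) (.leaf (nat_lit 1))) (.node (nat_lit 57909) (.leaf (nat_lit 162)) (.node (nat_lit 57965) (.leaf (nat_lit 30)) (.leaf (nat_lit 3)))))))))) (.node (nat_lit 67208) (.node (nat_lit 62453) (.node (nat_lit 60360) (.node (nat_lit 59589) (.node (nat_lit 59207) (.node (nat_lit 58864) (.node (nat_lit 58595) (.leaf (nat_lit 162)) (.leaf (nat_lit 30))) (.node (nat_lit 58961) (.leaf (nat_lit 327)) (.leaf (nat_lit 1)))) (.node (nat_lit 59341) (.node (nat_lit 59281) (.leaf (nat_lit 327)) (.leaf (nat_lit 30))) (.node (nat_lit 59372) (.leaf (nat_lit 3)) (.leaf (nat_lit 162))))) (.node (nat_lit 59967) (.node (nat_lit 59785) (.node (nat_lit 59591) (.leaf (nat_lit 354)) (.leaf (nat_lit 162))) (.node (nat_lit 59925) (.leaf (nat_lit 3)) (.leaf (nat_lit 0))))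 (.node (nat_lit 60079) (.node (nat_lit 60030) (.leaf (nat_lit 30)) (.leaf (nat_lit 1))) (.node (nat_lit 60249) (.leaf (nat_lit 162)) (.node (nat_lit 60340) (.leaf (nat_lit 3)) (.leaf (nat_lit 1))))))) (.node (nat_lit 61492) (.node (nat_lit 60757) (.node (nat_lit 60709) (.node (nat_lit 60699) (.leaf (nat_lit 3)) (.leaf (nat_lit 354))) (.node (nat_lit 60713) (.leaf (nat_lit 1)) (.leaf (nat_lit 3)))) (.node (nat_lit 60817) (.node (nat_lit 60802) (.leaf (nat_lit 486)) (.leaf (nat_lit 162))) (.node (nat_lit 60972) (.leaf (nat_lit 0)) (.node (nat_lit 60989) (.leaf (nat_lit 3)) (.leaf (nat_lit 162)))))) (.node (nat_lit 61963) (.node (nat_lit 61626) (.node (nat_lit 61605) (.leaf (nat_lit 0)) (.leaf (nat_lit 162))) (.node (nat_lit 61821) (.leaf (nat_lit 0)) (.leaf (nat_lit 30)))) (.node (nat_lit 62166) (.node (nat_lit 62090) (.leaf (nat_lit 1)) (.leaf (nat_lit 327))) (.node (nat_lit 62187) (.leaf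 (nat_lit 0)) (.node (nat_lit 62303) (.leaf (nat_lit 1)) (.leaf (nat_lit 30)))))))) (.node (nat_lit 65145) (.node (nat_lit 63304) (.node (nat_lit 62642) (.node (nat_lit 62507) (.node (nat_lit 62466) (.leaf (nat_lit 0)) (.leaf (nat_lit 3))) (.node (nat_lit 62521) (.leaf (nat_lit 30)) (.leaf (nat_lit 0)))) (.node (nat_lit 62918) (.node (nat_lit 62753) (.leaf (nat_lit 1)) (.leaf (nat_lit 162))) (.node (nat_lit 63256) (.leaf (nat_lit 486)) (.node (nat_lit 63277) (.leaf (nat_lit 1)) (.leaf (nat_lit 162)))))) (.node (nat_lit 64303) (.node (nat_lit 63982) (.node (nat_lit 63935) (.leaf (nat_lit 3)) (.leaf (nat_lit 1))) (.node (nat_lit 64189) (.leaf (nat_lit 30)) (.leaf (nat_lit 162)))) (.node (nat_lit 64669) (.node (nat_lit 64421) (.leaf (nat_lit 486)) (.leaf (nat_lit 1))) (.node (nat_lit 64887) (.leaf (nat_lit 3)) (.node (nat_lit 65131) (.leaf (nat_lit 0)) (.leaf (nat_lit 354))))))) (.node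 (nat_lit 66290) (.node (nat_lit 65510) (.node (nat_lit 65395) (.node (nat_lit 65367) (.leaf (nat_lit 3)) (.leaf (nat_lit 354))) (.node (nat_lit 65455) (.leaf (nat_lit 1)) (.leaf (nat_lit 3)))) (.node (nat_lit 66140) (.node (nat_lit 65692) (.leaf (nat_lit 0)) (.leaf (nat_lit 3))) (.node (nat_lit 66144) (.leaf (nat_lit 162)) (.node (nat_lit 66266) (.leaf (nat_lit 486)) (.leaf (nat_lit 162)))))) (.node (nat_lit 66656) (.node (nat_lit 66396) (.node (nat_lit 66363) (.leaf (nat_lit 354)) (.leaf (nat_lit 0))) (.node (nat_lit 66537) (.leaf (nat_lit 3)) (.leaf (nat_lit 1)))) (.node (nat_lit 66780) (.node (nat_lit 66688) (.leaf (nat_lit 3)) (.leaf (nat_lit 1))) (.node (nat_lit 66895) (.leaf (nat_lit 162)) (.node (nat_lit 67132) (.leaf (nat_lit 0)) (.leaf (nat_lit 3))))))))) (.node (nat_lit 72635) (.node (nat_lit 70132) (.node (nat_lit 68384) (.node (nat_lit 67640) (.node (nat_lit 67408) (.node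 (nat_lit 67228) (.leaf (nat_lit 30)) (.leaf (nat_lit 0))) (.node (nat_lit 67512) (.leaf (nat_lit 30)) (.leaf (nat_lit 162)))) (.node (nat_lit 67735) (.node (nat_lit 67727) (.leaf (nat_lit 30)) (.leaf (nat_lit 354))) (.node (nat_lit 68109) (.leaf (nat_lit 1)) (.node (nat_lit 68367) (.leaf (nat_lit 354)) (.leaf (nat_lit 0)))))) (.node (nat_lit 68765) (.node (nat_lit 68621) (.node (nat_lit 68504) (.leaf (nat_lit 1)) (.leaf (nat_lit 3))) (.node (nat_lit 68681) (.leaf (nat_lit 1)) (.leaf (nat_lit 3)))) (.node (nat_lit 69365) (.node (nat_lit 68791) (.leaf (nat_lit 0)) (.leaf (nat_lit 327))) (.node (nat_lit 69776) (.leaf (nat_lit 1)) (.node (nat_lit 69868) (.leaf (nat_lit 0)) (.leaf (nat_lit 354))))))) (.node (nat_lit 71144) (.node (nat_lit 70559) (.node (nat_lit 70167) (.node (nat_lit 70136) (.leaf (nat_lit 1)) (.leaf (nat_lit 3))) (.node (nat_lit 70517) (.leaf (nat_lit 0)) (.leaf (nat_lit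 327)))) (.node (nat_lit 70961) (.node (nat_lit 70572) (.leaf (nat_lit 354)) (.leaf (nat_lit 0))) (.node (nat_lit 70970) (.leaf (nat_lit 1)) (.node (nat_lit 71037) (.leaf (nat_lit 327)) (.leaf (nat_lit 354)))))) (.node (nat_lit 71730) (.node (nat_lit 71565) (.node (nat_lit 71510) (.leaf (nat_lit 486)) (.leaf (nat_lit 3))) (.node (nat_lit 71610) (.leaf (nat_lit 354)) (.leaf (nat_lit 1)))) (.node (nat_lit 72118) (.node (nat_lit 71996) (.leaf (nat_lit 3)) (.leaf (nat_lit 327))) (.node (nat_lit 72194) (.leaf (nat_lit 1)) (.node (nat_lit 72425) (.leaf (nat_lit 3)) (.leaf (nat_lit 354)))))))) (.node (nat_lit 75049) (.node (nat_lit 73561) (.node (nat_lit 72857) (.node (nat_lit 72692) (.node (nat_lit 72679) (.leaf (nat_lit 3)) (.leaf (nat_lit 1))) (.node (nat_lit 72797) (.leaf (nat_lit 3)) (.leaf (nat_lit 1)))) (.node (nat_lit 72895) (.node (nat_lit 72868) (.leaf (nat_lit 354)) (.leaf (nat_lit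 162))) (.node (nat_lit 72936) (.leaf (nat_lit 3)) (.node (nat_lit 73358) (.leaf (nat_lit 354)) (.leaf (nat_lit 1)))))) (.node (nat_lit 74195) (.node (nat_lit 73743) (.node (nat_lit 73726) (.leaf (nat_lit 327)) (.leaf (nat_lit 162))) (.node (nat_lit 74020) (.leaf (nat_lit 327)) (.leaf (nat_lit 3)))) (.node (nat_lit 74554) (.node (nat_lit 74270) (.leaf (nat_lit 1)) (.leaf (nat_lit 162))) (.node (nat_lit 74698) (.leaf (nat_lit 354)) (.node (nat_lit 75045) (.leaf (nat_lit 30)) (.leaf (nat_lit 354))))))) (.node (nat_lit 75651) (.node (nat_lit 75222) (.node (nat_lit 75107) (.node (nat_lit 75094) (.leaf (nat_lit 162)) (.leaf (nat_lit 3))) (.node (nat_lit 75170) (.leaf (nat_lit 1)) (.leaf (nat_lit 3)))) (.node (nat_lit 75379) (.node (nat_lit 75344) (.leaf (nat_lit 327)) (.leaf (nat_lit 1))) (.node (nat_lit 75466) (.leaf (nat_lit 354)) (.node (nat_lit 75563) (.leaf (nat_lit 0)) (.leaf (nat_lit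 162)))))) (.node (nat_lit 76023) (.node (nat_lit 75786) (.node (nat_lit 75737) (.leaf (nat_lit 354)) (.leaf (nat_lit 486))) (.node (nat_lit 75817) (.leaf (nat_lit 1)) (.leaf (nat_lit 3)))) (.node (nat_lit 76111) (.node (nat_lit 76083) (.leaf (nat_lit 1)) (.leaf (nat_lit 354))) (.node (nat_lit 76281) (.leaf (nat_lit 1)) (.node (nat_lit 76323) (.leaf (nat_lit 327)) (.leaf (nat_lit 3))))))))))))
noncomputable def HH_soc_t1 : ST := (.node (nat_lit 4485) (.node (nat_lit 2223) (.node (nat_lit 848) (.node (nat_lit 416) (.node (nat_lit 205) (.node (nat_lit 98) (.node (nat_lit 47) (.node (nat_lit 36) (.leaf (nat_lit 162)) (.node (nat_lit 42) (.leaf (nat_lit 324)) (.leaf (nat_lit 378)))) (.node (nat_lit 67) (.node (nat_lit 57) (.leaf (nat_lit 162)) (.leaf (nat_lit 378))) (.node (nat_lit 89) (.leaf (nat_lit 324)) (.leaf (nat_lit 486))))) (.node (nat_lit 133) (.node (nat_lit 113) (.node (nat_lit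 108) (.leaf (nat_lit 54)) (.leaf (nat_lit 324))) (.node (nat_lit 132) (.leaf (nat_lit 163)) (.leaf (nat_lit 162)))) (.node (nat_lit 147) (.node (nat_lit 134) (.leaf (nat_lit 324)) (.leaf (nat_lit 54))) (.node (nat_lit 191) (.leaf (nat_lit 324)) (.leaf (nat_lit 486)))))) (.node (nat_lit 322) (.node (nat_lit 267) (.node (nat_lit 228) (.leaf (nat_lit 324)) (.node (nat_lit 249) (.leaf (nat_lit 9)) (.leaf (nat_lit 54)))) (.node (nat_lit 292) (.node (nat_lit 287) (.leaf (nat_lit 378)) (.leaf (nat_lit 54))) (.node (nat_lit 317) (.leaf (nat_lit 324)) (.leaf (nat_lit 10))))) (.node (nat_lit 372) (.node (nat_lit 351) (.node (nat_lit 338) (.leaf (nat_lit 324)) (.leaf (nat_lit 486))) (.node (nat_lit 359) (.leaf (nat_lit 324)) (.leaf (nat_lit 55)))) (.node (nat_lit 393) (.node (nat_lit 383) (.leaf (nat_lit 324)) (.leaf (nat_lit 162))) (.node (nat_lit 404) (.leaf (nat_lit 333)) (.leaf (nat_lit 162)))))))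 (.node (nat_lit 618) (.node (nat_lit 527) (.node (nat_lit 465) (.node (nat_lit 417) (.leaf (nat_lit 486)) (.node (nat_lit 435) (.leaf (nat_lit 0)) (.leaf (nat_lit 324)))) (.node (nat_lit 476) (.node (nat_lit 468) (.leaf (nat_lit 378)) (.leaf (nat_lit 324))) (.node (nat_lit 486) (.leaf (nat_lit 162)) (.leaf (nat_lit 324))))) (.node (nat_lit 562) (.node (nat_lit 542) (.node (nat_lit 531) (.leaf (nat_lit 486)) (.leaf (nat_lit 324))) (.node (nat_lit 552) (.leaf (nat_lit 162)) (.leaf (nat_lit 378)))) (.node (nat_lit 591) (.node (nat_lit 584) (.leaf (nat_lit 324)) (.leaf (nat_lit 486))) (.node (nat_lit 608) (.leaf (nat_lit 324)) (.leaf (nat_lit 9)))))) (.node (nat_lit 721) (.node (nat_lit 657) (.node (nat_lit 628) (.node (nat_lit 623) (.leaf (nat_lit 333)) (.leaf (nat_lit 540))) (.node (nat_lit 644) (.leaf (nat_lit 324)) (.leaf (nat_lit 540)))) (.node (nat_lit 700) (.node (nat_lit 686) (.leaf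 (nat_lit 324)) (.leaf (nat_lit 9))) (.node (nat_lit 716) (.leaf (nat_lit 324)) (.leaf (nat_lit 9))))) (.node (nat_lit 759) (.node (nat_lit 736) (.node (nat_lit 735) (.leaf (nat_lit 324)) (.leaf (nat_lit 378))) (.node (nat_lit 752) (.leaf (nat_lit 324)) (.leaf (nat_lit 486)))) (.node (nat_lit 816) (.node (nat_lit 782) (.leaf (nat_lit 324)) (.leaf (nat_lit 487))) (.node (nat_lit 833) (.leaf (nat_lit 324)) (.leaf (nat_lit 486)))))))) (.node (nat_lit 1876) (.node (nat_lit 1211) (.node (nat_lit 963) (.node (nat_lit 882) (.node (nat_lit 867) (.leaf (nat_lit 9)) (.node (nat_lit 869) (.leaf (nat_lit 324)) (.leaf (nat_lit 487)))) (.node (nat_lit 928) (.node (nat_lit 888) (.leaf (nat_lit 324)) (.leaf (nat_lit 333))) (.node (nat_lit 960) (.leaf (nat_lit 324)) (.leaf (nat_lit 378))))) (.node (nat_lit 1052) (.node (nat_lit 1006) (.node (nat_lit 986) (.leaf (nat_lit 324)) (.leaf (nat_lit 486))) (.node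 (nat_lit 1022) (.leaf (nat_lit 324)) (.leaf (nat_lit 55)))) (.node (nat_lit 1118) (.node (nat_lit 1086) (.leaf (nat_lit 486)) (.leaf (nat_lit 324))) (.node (nat_lit 1152) (.leaf (nat_lit 486)) (.leaf (nat_lit 324)))))) (.node (nat_lit 1751) (.node (nat_lit 1568) (.node (nat_lit 1277) (.node (nat_lit 1255) (.leaf (nat_lit 540)) (.leaf (nat_lit 324))) (.node (nat_lit 1466) (.leaf (nat_lit 540)) (.leaf (nat_lit 324)))) (.node (nat_lit 1693) (.node (nat_lit 1621) (.leaf (nat_lit 162)) (.leaf (nat_lit 54))) (.node (nat_lit 1736) (.leaf (nat_lit 162)) (.leaf (nat_lit 324))))) (.node (nat_lit 1804) (.node (nat_lit 1790) (.node (nat_lit 1769) (.leaf (nat_lit 351)) (.leaf (nat_lit 324))) (.node (nat_lit 1793) (.leaf (nat_lit 333)) (.leaf (nat_lit 162)))) (.node (nat_lit 1846) (.node (nat_lit 1823) (.leaf (nat_lit 54)) (.leaf (nat_lit 324))) (.node (nat_lit 1862) (.leaf (nat_lit 54)) (.leaf (nat_lit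 324))))))) (.node (nat_lit 2074) (.node (nat_lit 1978) (.node (nat_lit 1959) (.node (nat_lit 1906) (.leaf (nat_lit 163)) (.node (nat_lit 1928) (.leaf (nat_lit 54)) (.leaf (nat_lit 27)))) (.node (nat_lit 1963) (.node (nat_lit 1961) (.leaf (nat_lit 54)) (.leaf (nat_lit 324))) (.node (nat_lit 1976) (.leaf (nat_lit 54)) (.leaf (nat_lit 351))))) (.node (nat_lit 2034) (.node (nat_lit 2015) (.node (nat_lit 1994) (.leaf (nat_lit 162)) (.leaf (nat_lit 324))) (.node (nat_lit 2031) (.leaf (nat_lit 333)) (.leaf (nat_lit 54)))) (.node (nat_lit 2055) (.node (nat_lit 2045) (.leaf (nat_lit 324)) (.leaf (nat_lit 27))) (.node (nat_lit 2063) (.leaf (nat_lit 324)) (.leaf (nat_lit 54)))))) (.node (nat_lit 2161) (.node (nat_lit 2131) (.node (nat_lit 2093) (.node (nat_lit 2089) (.leaf (nat_lit 162)) (.leaf (nat_lit 351))) (.node (nat_lit 2116) (.leaf (nat_lit 324)) (.leaf (nat_lit 162)))) (.node (nat_lit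 2146) (.node (nat_lit 2132) (.leaf (nat_lit 54)) (.leaf (nat_lit 324))) (.node (nat_lit 2147) (.leaf (nat_lit 162)) (.leaf (nat_lit 324))))) (.node (nat_lit 2198) (.node (nat_lit 2184) (.node (nat_lit 2177) (.leaf (nat_lit 9)) (.leaf (nat_lit 324))) (.node (nat_lit 2188) (.leaf (nat_lit 54)) (.leaf (nat_lit 162)))) (.node (nat_lit 2203) (.node (nat_lit 2201) (.leaf (nat_lit 1)) (.leaf (nat_lit 324))) (.node (nat_lit 2214) (.leaf (nat_lit 162)) (.leaf (nat_lit 171))))))))) (.node (nat_lit 2865) (.node (nat_lit 2526) (.node (nat_lit 2370) (.node (nat_lit 2303) (.node (nat_lit 2285) (.node (nat_lit 2246) (.leaf (nat_lit 324)) (.node (nat_lit 2264) (.leaf (nat_lit 162)) (.leaf (nat_lit 324)))) (.node (nat_lit 2299) (.node (nat_lit 2294) (.leaf (nat_lit 333)) (.leaf (nat_lit 351))) (.node (nat_lit 2301) (.leaf (nat_lit 54)) (.leaf (nat_lit 162))))) (.node (nat_lit 2318) (.node (nat_lit 2315)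 (.node (nat_lit 2314) (.leaf (nat_lit 324)) (.leaf (nat_lit 351))) (.node (nat_lit 2316) (.leaf (nat_lit 1)) (.leaf (nat_lit 163)))) (.node (nat_lit 2357) (.node (nat_lit 2356) (.leaf (nat_lit 324)) (.leaf (nat_lit 486))) (.node (nat_lit 2360) (.leaf (nat_lit 324)) (.leaf (nat_lit 27)))))) (.node (nat_lit 2447) (.node (nat_lit 2412) (.node (nat_lit 2372) (.node (nat_lit 2371) (.leaf (nat_lit 324)) (.leaf (nat_lit 171))) (.node (nat_lit 2401) (.leaf (nat_lit 324)) (.leaf (nat_lit 162)))) (.node (nat_lit 2428) (.node (nat_lit 2423) (.leaf (nat_lit 324)) (.leaf (nat_lit 27))) (.node (nat_lit 2431) (.leaf (nat_lit 486)) (.leaf (nat_lit 162))))) (.node (nat_lit 2473) (.node (nat_lit 2462) (.node (nat_lit 2454) (.leaf (nat_lit 324)) (.leaf (nat_lit 162))) (.node (nat_lit 2471) (.leaf (nat_lit 378)) (.leaf (nat_lit 324)))) (.node (nat_lit 2484) (.node (nat_lit 2483) (.leaf (nat_lit 10)) (.leaf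 (nat_lit 324))) (.node (nat_lit 2486) (.leaf (nat_lit 162)) (.leaf (nat_lit 324))))))) (.node (nat_lit 2687) (.node (nat_lit 2581) (.node (nat_lit 2541) (.node (nat_lit 2528) (.leaf (nat_lit 54)) (.node (nat_lit 2540) (.leaf (nat_lit 324)) (.leaf (nat_lit 27)))) (.node (nat_lit 2564) (.node (nat_lit 2550) (.leaf (nat_lit 171)) (.leaf (nat_lit 324))) (.node (nat_lit 2565) (.leaf (nat_lit 1)) (.leaf (nat_lit 324))))) (.node (nat_lit 2630) (.node (nat_lit 2589) (.node (nat_lit 2584) (.leaf (nat_lit 486)) (.leaf (nat_lit 162))) (.node (nat_lit 2611) (.leaf (nat_lit 324)) (.leaf (nat_lit 487)))) (.node (nat_lit 2656) (.node (nat_lit 2640) (.leaf (nat_lit 1)) (.leaf (nat_lit 324))) (.node (nat_lit 2672) (.leaf (nat_lit 9)) (.leaf (nat_lit 324)))))) (.node (nat_lit 2718) (.node (nat_lit 2708) (.node (nat_lit 2696) (.node (nat_lit 2694) (.leaf (nat_lit 378)) (.leaf (nat_lit 487))) (.node (nat_lit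 2698) (.leaf (nat_lit 324)) (.leaf (nat_lit 9)))) (.node (nat_lit 2711) (.node (nat_lit 2709) (.leaf (nat_lit 324)) (.leaf (nat_lit 163))) (.node (nat_lit 2713) (.leaf (nat_lit 324)) (.leaf (nat_lit 540))))) (.node (nat_lit 2811) (.node (nat_lit 2789) (.node (nat_lit 2766) (.leaf (nat_lit 324)) (.leaf (nat_lit 540))) (.node (nat_lit 2798) (.leaf (nat_lit 351)) (.leaf (nat_lit 324)))) (.node (nat_lit 2851) (.node (nat_lit 2814) (.leaf (nat_lit 162)) (.leaf (nat_lit 324))) (.node (nat_lit 2855) (.leaf (nat_lit 55)) (.leaf (nat_lit 27)))))))) (.node (nat_lit 4028) (.node (nat_lit 3189) (.node (nat_lit 2957) (.node (nat_lit 2919) (.node (nat_lit 2881) (.leaf (nat_lit 324)) (.node (nat_lit 2896) (.leaf (nat_lit 486)) (.leaf (nat_lit 324)))) (.node (nat_lit 2938) (.node (nat_lit 2923) (.leaf (nat_lit 540)) (.leaf (nat_lit 486))) (.node (nat_lit 2949) (.leaf (nat_lit 9)) (.leaf (nat_lit 540)))))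 (.node (nat_lit 3051) (.node (nat_lit 3036) (.node (nat_lit 2967) (.leaf (nat_lit 378)) (.leaf (nat_lit 324))) (.node (nat_lit 3049) (.leaf (nat_lit 486)) (.leaf (nat_lit 324)))) (.node (nat_lit 3106) (.node (nat_lit 3053) (.leaf (nat_lit 9)) (.leaf (nat_lit 324))) (.node (nat_lit 3136) (.leaf (nat_lit 540)) (.leaf (nat_lit 324)))))) (.node (nat_lit 3757) (.node (nat_lit 3319) (.node (nat_lit 3261) (.node (nat_lit 3222) (.leaf (nat_lit 486)) (.leaf (nat_lit 324))) (.node (nat_lit 3276) (.leaf (nat_lit 9)) (.leaf (nat_lit 540)))) (.node (nat_lit 3546) (.node (nat_lit 3444) (.leaf (nat_lit 324)) (.leaf (nat_lit 487))) (.node (nat_lit 3735) (.leaf (nat_lit 486)) (.leaf (nat_lit 54))))) (.node (nat_lit 3926) (.node (nat_lit 3860) (.node (nat_lit 3859) (.leaf (nat_lit 324)) (.leaf (nat_lit 63))) (.node (nat_lit 3873) (.leaf (nat_lit 54)) (.leaf (nat_lit 324)))) (.node (nat_lit 3990) (.node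 (nat_lit 3960) (.leaf (nat_lit 171)) (.leaf (nat_lit 54))) (.node (nat_lit 4006) (.leaf (nat_lit 9)) (.leaf (nat_lit 324))))))) (.node (nat_lit 4291) (.node (nat_lit 4145) (.node (nat_lit 4084) (.node (nat_lit 4049) (.leaf (nat_lit 163)) (.node (nat_lit 4052) (.leaf (nat_lit 162)) (.leaf (nat_lit 324)))) (.node (nat_lit 4130) (.node (nat_lit 4124) (.leaf (nat_lit 63)) (.leaf (nat_lit 324))) (.node (nat_lit 4143) (.leaf (nat_lit 162)) (.leaf (nat_lit 324))))) (.node (nat_lit 4252) (.node (nat_lit 4195) (.node (nat_lit 4164) (.leaf (nat_lit 171)) (.leaf (nat_lit 324))) (.node (nat_lit 4196) (.leaf (nat_lit 63)) (.leaf (nat_lit 162)))) (.node (nat_lit 4260) (.node (nat_lit 4253) (.leaf (nat_lit 324)) (.leaf (nat_lit 171))) (.node (nat_lit 4276) (.leaf (nat_lit 162)) (.leaf (nat_lit 324)))))) (.node (nat_lit 4368) (.node (nat_lit 4312) (.node (nat_lit 4301) (.node (nat_lit 4296) (.leaf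 (nat_lit 333)) (.leaf (nat_lit 0))) (.node (nat_lit 4304) (.leaf (nat_lit 324)) (.leaf (nat_lit 162)))) (.node (nat_lit 4354) (.node (nat_lit 4326) (.leaf (nat_lit 378)) (.leaf (nat_lit 54))) (.node (nat_lit 4355) (.leaf (nat_lit 63)) (.leaf (nat_lit 54))))) (.node (nat_lit 4421) (.node (nat_lit 4384) (.node (nat_lit 4370) (.leaf (nat_lit 324)) (.leaf (nat_lit 163))) (.node (nat_lit 4420) (.leaf (nat_lit 324)) (.leaf (nat_lit 63)))) (.node (nat_lit 4450) (.node (nat_lit 4428) (.leaf (nat_lit 163)) (.leaf (nat_lit 54))) (.node (nat_lit 4481) (.leaf (nat_lit 324)) (.leaf (nat_lit 54)))))))))) (.node (nat_lit 6550) (.node (nat_lit 5331) (.node (nat_lit 4807) (.node (nat_lit 4640) (.node (nat_lit 4547) (.node (nat_lit 4523) (.node (nat_lit 4501) (.leaf (nat_lit 9)) (.node (nat_lit 4516) (.leaf (nat_lit 324)) (.leaf (nat_lit 333)))) (.node (nat_lit 4537) (.node (nat_lit 4526) (.leaf (nat_lit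 162)) (.leaf (nat_lit 324))) (.node (nat_lit 4544) (.leaf (nat_lit 378)) (.leaf (nat_lit 54))))) (.node (nat_lit 4577) (.node (nat_lit 4556) (.node (nat_lit 4553) (.leaf (nat_lit 324)) (.leaf (nat_lit 54))) (.node (nat_lit 4574) (.leaf (nat_lit 324)) (.leaf (nat_lit 10)))) (.node (nat_lit 4596) (.node (nat_lit 4595) (.leaf (nat_lit 324)) (.leaf (nat_lit 540))) (.node (nat_lit 4608) (.leaf (nat_lit 162)) (.leaf (nat_lit 324)))))) (.node (nat_lit 4695) (.node (nat_lit 4661) (.node (nat_lit 4653) (.leaf (nat_lit 162)) (.node (nat_lit 4654) (.leaf (nat_lit 54)) (.leaf (nat_lit 324)))) (.node (nat_lit 4679) (.node (nat_lit 4674) (.leaf (nat_lit 486)) (.leaf (nat_lit 0))) (.node (nat_lit 4690) (.leaf (nat_lit 324)) (.leaf (nat_lit 63))))) (.node (nat_lit 4784) (.node (nat_lit 4720) (.node (nat_lit 4706) (.leaf (nat_lit 324)) (.leaf (nat_lit 54))) (.node (nat_lit 4763) (.leaf (nat_lit 324))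 (.leaf (nat_lit 486)))) (.node (nat_lit 4796) (.node (nat_lit 4786) (.leaf (nat_lit 487)) (.leaf (nat_lit 333))) (.node (nat_lit 4799) (.leaf (nat_lit 324)) (.leaf (nat_lit 162))))))) (.node (nat_lit 5031) (.node (nat_lit 4899) (.node (nat_lit 4826) (.node (nat_lit 4821) (.leaf (nat_lit 378)) (.node (nat_lit 4823) (.leaf (nat_lit 54)) (.leaf (nat_lit 162)))) (.node (nat_lit 4878) (.node (nat_lit 4865) (.leaf (nat_lit 324)) (.leaf (nat_lit 486))) (.node (nat_lit 4880) (.leaf (nat_lit 324)) (.leaf (nat_lit 9))))) (.node (nat_lit 4976) (.node (nat_lit 4931) (.node (nat_lit 4923) (.leaf (nat_lit 324)) (.leaf (nat_lit 162))) (.node (nat_lit 4945) (.leaf (nat_lit 55)) (.leaf (nat_lit 324)))) (.node (nat_lit 4995) (.node (nat_lit 4988) (.leaf (nat_lit 162)) (.leaf (nat_lit 486))) (.node (nat_lit 5009) (.leaf (nat_lit 324)) (.leaf (nat_lit 540)))))) (.node (nat_lit 5156) (.node (nat_lit 5090)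 (.node (nat_lit 5048) (.node (nat_lit 5039) (.leaf (nat_lit 324)) (.leaf (nat_lit 540))) (.node (nat_lit 5051) (.leaf (nat_lit 54)) (.leaf (nat_lit 324)))) (.node (nat_lit 5105) (.node (nat_lit 5103) (.leaf (nat_lit 9)) (.leaf (nat_lit 324))) (.node (nat_lit 5124) (.leaf (nat_lit 540)) (.leaf (nat_lit 324))))) (.node (nat_lit 5258) (.node (nat_lit 5216) (.node (nat_lit 5163) (.leaf (nat_lit 486)) (.leaf (nat_lit 324))) (.node (nat_lit 5220) (.leaf (nat_lit 540)) (.leaf (nat_lit 324)))) (.node (nat_lit 5288) (.node (nat_lit 5279) (.leaf (nat_lit 9)) (.leaf (nat_lit 486))) (.node (nat_lit 5309) (.leaf (nat_lit 9)) (.leaf (nat_lit 486)))))))) (.node (nat_lit 6249) (.node (nat_lit 5972) (.node (nat_lit 5711) (.node (nat_lit 5441) (.node (nat_lit 5375) (.leaf (nat_lit 324)) (.node (nat_lit 5388) (.leaf (nat_lit 486)) (.leaf (nat_lit 324)))) (.node (nat_lit 5558) (.node (nat_lit 5556) (.leaf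 (nat_lit 487)) (.leaf (nat_lit 324))) (.node (nat_lit 5658) (.leaf (nat_lit 486)) (.leaf (nat_lit 324))))) (.node (nat_lit 5857) (.node (nat_lit 5783) (.node (nat_lit 5723) (.leaf (nat_lit 486)) (.leaf (nat_lit 54))) (.node (nat_lit 5825) (.leaf (nat_lit 540)) (.leaf (nat_lit 324)))) (.node (nat_lit 5891) (.node (nat_lit 5878) (.leaf (nat_lit 171)) (.leaf (nat_lit 54))) (.node (nat_lit 5950) (.leaf (nat_lit 0)) (.leaf (nat_lit 162)))))) (.node (nat_lit 6116) (.node (nat_lit 6024) (.node (nat_lit 6008) (.node (nat_lit 5993) (.leaf (nat_lit 324)) (.leaf (nat_lit 162))) (.node (nat_lit 6016) (.leaf (nat_lit 27)) (.leaf (nat_lit 162)))) (.node (nat_lit 6096) (.node (nat_lit 6082) (.leaf (nat_lit 324)) (.leaf (nat_lit 163))) (.node (nat_lit 6103) (.leaf (nat_lit 27)) (.leaf (nat_lit 54))))) (.node (nat_lit 6197) (.node (nat_lit 6140) (.node (nat_lit 6133) (.leaf (nat_lit 0)) (.leaf (nat_lit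 163))) (.node (nat_lit 6193) (.leaf (nat_lit 324)) (.leaf (nat_lit 54)))) (.node (nat_lit 6233) (.node (nat_lit 6218) (.leaf (nat_lit 324)) (.leaf (nat_lit 54))) (.node (nat_lit 6235) (.leaf (nat_lit 27)) (.leaf (nat_lit 162))))))) (.node (nat_lit 6395) (.node (nat_lit 6352) (.node (nat_lit 6286) (.node (nat_lit 6257) (.leaf (nat_lit 324)) (.node (nat_lit 6279) (.leaf (nat_lit 54)) (.leaf (nat_lit 378)))) (.node (nat_lit 6323) (.node (nat_lit 6289) (.leaf (nat_lit 10)) (.leaf (nat_lit 324))) (.node (nat_lit 6350) (.leaf (nat_lit 27)) (.leaf (nat_lit 324))))) (.node (nat_lit 6373) (.node (nat_lit 6365) (.node (nat_lit 6362) (.leaf (nat_lit 162)) (.leaf (nat_lit 378))) (.node (nat_lit 6366) (.leaf (nat_lit 324)) (.leaf (nat_lit 1)))) (.node (nat_lit 6382) (.node (nat_lit 6381) (.leaf (nat_lit 162)) (.leaf (nat_lit 324))) (.node (nat_lit 6391) (.leaf (nat_lit 54)) (.leaf (nat_lit 324))))))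 (.node (nat_lit 6458) (.node (nat_lit 6434) (.node (nat_lit 6416) (.node (nat_lit 6403) (.leaf (nat_lit 9)) (.leaf (nat_lit 162))) (.node (nat_lit 6418) (.leaf (nat_lit 324)) (.leaf (nat_lit 54)))) (.node (nat_lit 6445) (.node (nat_lit 6437) (.leaf (nat_lit 351)) (.leaf (nat_lit 324))) (.node (nat_lit 6448) (.leaf (nat_lit 162)) (.leaf (nat_lit 171))))) (.node (nat_lit 6519) (.node (nat_lit 6482) (.node (nat_lit 6460) (.leaf (nat_lit 324)) (.leaf (nat_lit 162))) (.node (nat_lit 6503) (.leaf (nat_lit 54)) (.leaf (nat_lit 162)))) (.node (nat_lit 6548) (.node (nat_lit 6535) (.leaf (nat_lit 324)) (.leaf (nat_lit 162))) (.node (nat_lit 6549) (.leaf (nat_lit 27)) (.leaf (nat_lit 378))))))))) (.node (nat_lit 7069) (.node (nat_lit 6784) (.node (nat_lit 6685) (.node (nat_lit 6606) (.node (nat_lit 6574) (.node (nat_lit 6559) (.leaf (nat_lit 163)) (.node (nat_lit 6571) (.leaf (nat_lit 324)) (.leaf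 (nat_lit 162)))) (.node (nat_lit 6591) (.node (nat_lit 6587) (.leaf (nat_lit 324)) (.leaf (nat_lit 378))) (.node (nat_lit 6592) (.leaf (nat_lit 27)) (.leaf (nat_lit 486))))) (.node (nat_lit 6626) (.node (nat_lit 6616) (.node (nat_lit 6613) (.leaf (nat_lit 324)) (.leaf (nat_lit 487))) (.node (nat_lit 6617) (.leaf (nat_lit 324)) (.leaf (nat_lit 378)))) (.node (nat_lit 6635) (.node (nat_lit 6628) (.leaf (nat_lit 324)) (.leaf (nat_lit 171))) (.node (nat_lit 6652) (.leaf (nat_lit 324)) (.leaf (nat_lit 162)))))) (.node (nat_lit 6730) (.node (nat_lit 6707) (.node (nat_lit 6688) (.node (nat_lit 6686) (.leaf (nat_lit 540)) (.leaf (nat_lit 324))) (.node (nat_lit 6704) (.leaf (nat_lit 162)) (.leaf (nat_lit 1)))) (.node (nat_lit 6719) (.node (nat_lit 6718) (.leaf (nat_lit 324)) (.leaf (nat_lit 162))) (.node (nat_lit 6728) (.leaf (nat_lit 333)) (.leaf (nat_lit 324))))) (.node (nat_lit 6760) (.node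 (nat_lit 6751) (.node (nat_lit 6743) (.leaf (nat_lit 10)) (.leaf (nat_lit 324))) (.node (nat_lit 6752) (.leaf (nat_lit 486)) (.leaf (nat_lit 162)))) (.node (nat_lit 6774) (.node (nat_lit 6773) (.leaf (nat_lit 54)) (.leaf (nat_lit 324))) (.node (nat_lit 6775) (.leaf (nat_lit 378)) (.leaf (nat_lit 171))))))) (.node (nat_lit 6928) (.node (nat_lit 6857) (.node (nat_lit 6817) (.node (nat_lit 6796) (.leaf (nat_lit 324)) (.node (nat_lit 6799) (.leaf (nat_lit 162)) (.leaf (nat_lit 324)))) (.node (nat_lit 6838) (.node (nat_lit 6818) (.leaf (nat_lit 486)) (.leaf (nat_lit 162))) (.node (nat_lit 6851) (.leaf (nat_lit 540)) (.leaf (nat_lit 324))))) (.node (nat_lit 6886) (.node (nat_lit 6875) (.node (nat_lit 6868) (.leaf (nat_lit 378)) (.leaf (nat_lit 540))) (.node (nat_lit 6877) (.leaf (nat_lit 324)) (.leaf (nat_lit 54)))) (.node (nat_lit 6890) (.node (nat_lit 6887) (.leaf (nat_lit 324)) (.leaf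 (nat_lit 378))) (.node (nat_lit 6897) (.leaf (nat_lit 9)) (.leaf (nat_lit 324)))))) (.node (nat_lit 6970) (.node (nat_lit 6944) (.node (nat_lit 6932) (.node (nat_lit 6929) (.leaf (nat_lit 486)) (.leaf (nat_lit 351))) (.node (nat_lit 6943) (.leaf (nat_lit 324)) (.leaf (nat_lit 163)))) (.node (nat_lit 6955) (.node (nat_lit 6953) (.leaf (nat_lit 333)) (.leaf (nat_lit 324))) (.node (nat_lit 6968) (.leaf (nat_lit 486)) (.leaf (nat_lit 324))))) (.node (nat_lit 7043) (.node (nat_lit 7000) (.node (nat_lit 6984) (.leaf (nat_lit 9)) (.leaf (nat_lit 324))) (.node (nat_lit 7021) (.leaf (nat_lit 486)) (.leaf (nat_lit 55)))) (.node (nat_lit 7055) (.node (nat_lit 7045) (.leaf (nat_lit 324)) (.leaf (nat_lit 162))) (.node (nat_lit 7066) (.leaf (nat_lit 324)) (.leaf (nat_lit 54)))))))) (.node (nat_lit 7553) (.node (nat_lit 7246) (.node (nat_lit 7138) (.node (nat_lit 7108) (.node (nat_lit 7087) (.leaf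 (nat_lit 324)) (.node (nat_lit 7100) (.leaf (nat_lit 9)) (.leaf (nat_lit 324)))) (.node (nat_lit 7117) (.node (nat_lit 7112) (.leaf (nat_lit 486)) (.leaf (nat_lit 378))) (.node (nat_lit 7121) (.leaf (nat_lit 9)) (.leaf (nat_lit 324))))) (.node (nat_lit 7183) (.node (nat_lit 7153) (.node (nat_lit 7141) (.leaf (nat_lit 486)) (.leaf (nat_lit 324))) (.node (nat_lit 7180) (.leaf (nat_lit 486)) (.leaf (nat_lit 9)))) (.node (nat_lit 7214) (.node (nat_lit 7195) (.leaf (nat_lit 487)) (.leaf (nat_lit 540))) (.node (nat_lit 7217) (.leaf (nat_lit 333)) (.leaf (nat_lit 324)))))) (.node (nat_lit 7387) (.node (nat_lit 7285) (.node (nat_lit 7270) (.node (nat_lit 7254) (.leaf (nat_lit 486)) (.leaf (nat_lit 324))) (.node (nat_lit 7283) (.leaf (nat_lit 9)) (.leaf (nat_lit 324)))) (.node (nat_lit 7363) (.node (nat_lit 7310) (.leaf (nat_lit 540)) (.leaf (nat_lit 324))) (.node (nat_lit 7370) (.leaf (nat_lit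 487)) (.leaf (nat_lit 324))))) (.node (nat_lit 7479) (.node (nat_lit 7423) (.node (nat_lit 7400) (.leaf (nat_lit 486)) (.leaf (nat_lit 324))) (.node (nat_lit 7453) (.leaf (nat_lit 55)) (.leaf (nat_lit 486)))) (.node (nat_lit 7510) (.node (nat_lit 7495) (.leaf (nat_lit 324)) (.leaf (nat_lit 486))) (.node (nat_lit 7531) (.leaf (nat_lit 9)) (.leaf (nat_lit 487))))))) (.node (nat_lit 8194) (.node (nat_lit 7801) (.node (nat_lit 7678) (.node (nat_lit 7612) (.leaf (nat_lit 324)) (.node (nat_lit 7625) (.leaf (nat_lit 540)) (.leaf (nat_lit 324)))) (.node (nat_lit 7780) (.node (nat_lit 7720) (.leaf (nat_lit 540)) (.leaf (nat_lit 324))) (.node (nat_lit 7792) (.leaf (nat_lit 486)) (.leaf (nat_lit 162))))) (.node (nat_lit 7969) (.node (nat_lit 7945) (.node (nat_lit 7845) (.leaf (nat_lit 486)) (.leaf (nat_lit 163))) (.node (nat_lit 7947) (.leaf (nat_lit 324)) (.leaf (nat_lit 162)))) (.node (nat_lit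 8094) (.node (nat_lit 8062) (.leaf (nat_lit 324)) (.leaf (nat_lit 9))) (.node (nat_lit 8115) (.leaf (nat_lit 54)) (.leaf (nat_lit 162)))))) (.node (nat_lit 8347) (.node (nat_lit 8263) (.node (nat_lit 8224) (.node (nat_lit 8215) (.leaf (nat_lit 324)) (.leaf (nat_lit 0))) (.node (nat_lit 8245) (.leaf (nat_lit 9)) (.leaf (nat_lit 54)))) (.node (nat_lit 8329) (.node (nat_lit 8283) (.leaf (nat_lit 378)) (.leaf (nat_lit 162))) (.node (nat_lit 8340) (.leaf (nat_lit 324)) (.leaf (nat_lit 171))))) (.node (nat_lit 8413) (.node (nat_lit 8379) (.node (nat_lit 8364) (.leaf (nat_lit 324)) (.leaf (nat_lit 162))) (.node (nat_lit 8398) (.leaf (nat_lit 171)) (.leaf (nat_lit 54)))) (.node (nat_lit 8452) (.node (nat_lit 8442) (.leaf (nat_lit 324)) (.leaf (nat_lit 10))) (.node (nat_lit 8472) (.leaf (nat_lit 324)) (.leaf (nat_lit 162)))))))))))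
noncomputable def HH_soc_F : Fm := (.all HH_L (.or (.qf (.eq (.v (nat_lit 0)) .one)) (.exF HH_L (fun cs => HH_soc_t1.find (Nat.mod (nth (nat_lit 0) cs (nat_lit 0)) (nat_lit 8491))) (.exF HH_L (fun cs => HH_soc_t0.find (Nat.mod (Nat.add (nth (nat_lit 0) cs (nat_lit 0)) (Nat.mul (nat_lit 7919) (nth (nat_lit 0) cs (nat_lit 1)))) (nat_lit 76477))) (.qf (.or (.eq (.mul (.mul (.v (nat_lit 0)) (.v (nat_lit 2))) (.inv (.v (nat_lit 0)))) (.v (nat_lit 3))) (.or (.eq (.mul (.mul (.v (nat_lit 0)) (.v (nat_lit 2))) (.inv (.v (nat_lit 0)))) (.v (nat_lit 3))) (.or (.eq (.mul (.mul (.v (nat_lit 0)) (.mul (.mul (.mul (.v (nat_lit 2)) (.v (nat_lit 1))) (.inv (.v (nat_lit 2)))) (.inv (.v (nat_lit 1))))) (.inv (.v (nat_lit 0)))) (.v (nat_lit 3))) (.or (.eq (.mul (.mul (.v (nat_lit 0)) (.mul (.mul (.mul (.v (nat_lit 2)) (.v (nat_lit 1))) (.inv (.v (nat_lit 2)))) (.inv (.v (nat_lit 1))))) (.inv (.v (nat_lit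 0)))) (.v (nat_lit 3))) (.or (.eq (.mul (.mul (.mul (.mul (.mul (.mul (.v (nat_lit 2)) (.v (nat_lit 1))) (.inv (.v (nat_lit 2)))) (.inv (.v (nat_lit 1)))) (.v (nat_lit 0))) (.inv (.mul (.mul (.mul (.v (nat_lit 2)) (.v (nat_lit 1))) (.inv (.v (nat_lit 2)))) (.inv (.v (nat_lit 1)))))) (.inv (.v (nat_lit 0)))) (.v (nat_lit 3))) (.eq (.mul (.mul (.mul (.mul (.mul (.mul (.v (nat_lit 2)) (.v (nat_lit 1))) (.inv (.v (nat_lit 2)))) (.inv (.v (nat_lit 1)))) (.v (nat_lit 0))) (.inv (.mul (.mul (.mul (.v (nat_lit 2)) (.v (nat_lit 1))) (.inv (.v (nat_lit 2)))) (.inv (.v (nat_lit 1)))))) (.inv (.v (nat_lit 0)))) (.v (nat_lit 3)))))))))))))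
theorem HH_soc_chk : Fm.chk HH_o HH_soc_F HH_cs = true := by decide +kernel
theorem HH_soc {G : Type*} [Group G] {R : ℕ → G → Prop} {a a_i b b_i e e_i x x_i s c : G} {H : Subgroup G}
    (M : Mdl HH_o HH_cs HH_L R [a, a_i, b, b_i, e, e_i, x, x_i, s, c] H) :
    ∀ y_ ∈ H, y_ = 1 ∨ (∃ q_ ∈ H, ∃ k_ ∈ H, k_ * y_ * k_⁻¹ = a ∨ k_ * y_ * k_⁻¹ = a ∨ k_ * ⁅y_, q_⁆ * k_⁻¹ = a ∨ k_ * ⁅y_, q_⁆ * k_⁻¹ = a ∨ ⁅⁅y_, q_⁆, k_⁆ = a ∨ ⁅⁅y_, q_⁆, k_⁆ = a) :=
  have h : ∀ y_, InL HH_o R HH_L y_ → y_ = 1 ∨ (Good HH_o R HH_L → prods HH_o HH_L HH_o.one ≠ [] → ∃ q_, InL HH_o R HH_L q_ ∧ (Good HH_o R HH_L → prods HH_o HH_L HH_o.one ≠ [] → ∃ k_, InL HH_o R HH_L k_ ∧ (k_ * y_ * k_⁻¹ = a ∨ k_ * y_ * k_⁻¹ = a ∨ k_ * ⁅y_, q_⁆ * k_⁻¹ = a ∨ k_ * ⁅y_, q_⁆ * k_⁻¹ = a ∨ ⁅⁅y_, q_⁆, k_⁆ = a ∨ ⁅⁅y_, q_⁆, k_⁆ = a))) :=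
    Fm.sound M.μ HH_soc_F HH_soc_chk M.reps
  (fun y_ h0 => (Or.imp (fun h1 => h1) (fun h1 => (Exists.imp (fun q_ h2 => ⟨M.H.iff.1 h2.1, (Exists.imp (fun k_ h3 => ⟨M.H.iff.1 h3.1, h3.2⟩) (h2.2 M.H.good M.H.ne))⟩) (h1 M.H.good M.H.ne))) (h y_ (M.H.iff.2 h0))))
theorem HH_mdl {G : Type*} [Group G] {a b e x s c : G}
    (h : HH a b e x s c)
    (n1 : a ≠ 1) :
    ∃ R, Mdl HH_o HH_cs HH_L R [a, a⁻¹, b, b⁻¹, e, e⁻¹, x, x⁻¹, s, c] (sp [a, a⁻¹, b, b⁻¹, e, e⁻¹, x, x⁻¹, s, c]) ∧ #(sp [a, a⁻¹, b, b⁻¹, e, e⁻¹, x, x⁻¹, s, c]) = 648 :=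
  mdl_of HH_P rfl (HH_r h) (.v (nat_lit 0)) (.v (nat_lit 0)) n1 n1
    fun _ ms _ M hl => match ms, M, (hl : ms.length = 10) with
      | [_, _, _, _, _, _, _, _, _, _], M, _ => HH_soc M
noncomputable def HX_cs : List ℕ := [(nat_lit 0x876543021), (nat_lit 0x876543102), (nat_lit 0x876354210), (nat_lit 0x876435210), (nat_lit 0x687543210), (nat_lit 0x768543210), (nat_lit 0x210876543), (nat_lit 0x543210876), (nat_lit 0x786120453), (nat_lit 0x876453120), (nat_lit 0x687354021), (nat_lit 0x876435021), (nat_lit 0x786453210), (nat_lit 0x876210453)]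
theorem HX_ext {G : Type*} [Group G] {R : ℕ → G → Prop} {a b e x s c : G} {H : Subgroup G}
    (M : Mdl HH_o HH_cs HH_L R [a, a⁻¹, b, b⁻¹, e, e⁻¹, x, x⁻¹, s, c] H) :
    Mdl HH_o HX_cs HH_L R [a, a⁻¹, b, b⁻¹, e, e⁻¹, x, x⁻¹, s, c, a * b * e, a * b⁻¹, x * c * x⁻¹, s * (x * c * x⁻¹)] H :=
  ⟨M.μ, M.reps.tms M.μ.1 [(.v (nat_lit 0)), (.v (nat_lit 1)), (.v (nat_lit 2)), (.v (nat_lit 3)), (.v (nat_lit 4)), (.v (nat_lit 5)), (.v (nat_lit 6)), (.v (nat_lit 7)), (.v (nat_lit 8)), (.v (nat_lit 9)), (.mul (.mul (.v (nat_lit 0)) (.v (nat_lit 2))) (.v (nat_lit 4))), (.mul (.v (nat_lit 0)) (.inv (.v (nat_lit 2)))), (.mul (.mul (.v (nat_lit 6)) (.v (nat_lit 9))) (.inv (.v (nat_lit 6)))), (.mul (.v (nat_lit 8)) (.mul (.mul (.v (nat_lit 6)) (.v (nat_lit 9))) (.inv (.v (nat_lit 6)))))] (cs' := HX_cs) (by decide +kernel),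
    tms_mem M.le [(.v (nat_lit 0)), (.v (nat_lit 1)), (.v (nat_lit 2)), (.v (nat_lit 3)), (.v (nat_lit 4)), (.v (nat_lit 5)), (.v (nat_lit 6)), (.v (nat_lit 7)), (.v (nat_lit 8)), (.v (nat_lit 9)), (.mul (.mul (.v (nat_lit 0)) (.v (nat_lit 2))) (.v (nat_lit 4))), (.mul (.v (nat_lit 0)) (.inv (.v (nat_lit 2)))), (.mul (.mul (.v (nat_lit 6)) (.v (nat_lit 9))) (.inv (.v (nat_lit 6)))), (.mul (.v (nat_lit 8)) (.mul (.mul (.v (nat_lit 6)) (.v (nat_lit 9))) (.inv (.v (nat_lit 6)))))], M.H⟩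
noncomputable def HX_r_f_F : Fm := (.qf (.and (.eq (.pw (.v (nat_lit 0)) (nat_lit 3)) .one) (.and (.eq (.pw (.v (nat_lit 2)) (nat_lit 3)) .one) (.and (.eq (.pw (.v (nat_lit 4)) (nat_lit 3)) .one) (.and (.eq (.mul (.v (nat_lit 0)) (.v (nat_lit 2))) (.mul (.v (nat_lit 2)) (.v (nat_lit 0)))) (.and (.eq (.mul (.v (nat_lit 0)) (.v (nat_lit 4))) (.mul (.v (nat_lit 4)) (.v (nat_lit 0)))) (.and (.eq (.mul (.v (nat_lit 2)) (.v (nat_lit 4))) (.mul (.v (nat_lit 4)) (.v (nat_lit 2)))) (.and (.eq (.pw (.v (nat_lit 6)) (nat_lit 3)) .one) (.and (.eq (.mul (.mul (.v (nat_lit 6)) (.v (nat_lit 4))) (.inv (.v (nat_lit 6)))) (.v (nat_lit 0))) (.and (.eq (.mul (.mul (.v (nat_lit 6)) (.v (nat_lit 0))) (.inv (.v (nat_lit 6)))) (.v (nat_lit 2))) (.and (.eq (.mul (.mul (.v (nat_lit 6)) (.v (nat_lit 2))) (.inv (.v (nat_lit 6)))) (.v (nat_lit 4))) (.and (.eq (.mul (.v (nat_lit 8)) (.v (nat_lit 8))) .one) (.and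 (.eq (.mul (.mul (.v (nat_lit 8)) (.v (nat_lit 6))) (.inv (.v (nat_lit 8)))) (.inv (.v (nat_lit 6)))) (.and (.eq (.mul (.mul (.v (nat_lit 8)) (.v (nat_lit 4))) (.inv (.v (nat_lit 8)))) (.inv (.v (nat_lit 4)))) (.and (.eq (.mul (.mul (.v (nat_lit 8)) (.v (nat_lit 0))) (.inv (.v (nat_lit 8)))) (.inv (.v (nat_lit 2)))) (.and (.eq (.mul (.v (nat_lit 9)) (.v (nat_lit 9))) .one) (.and (.eq (.mul (.v (nat_lit 8)) (.v (nat_lit 9))) (.mul (.v (nat_lit 9)) (.v (nat_lit 8)))) (.and (.eq (.mul (.v (nat_lit 9)) (.v (nat_lit 4))) (.mul (.v (nat_lit 4)) (.v (nat_lit 9)))) (.and (.eq (.mul (.mul (.v (nat_lit 9)) (.v (nat_lit 0))) (.inv (.v (nat_lit 9)))) (.inv (.v (nat_lit 0)))) (.and (.eq (.mul (.mul (.v (nat_lit 9)) (.v (nat_lit 2))) (.inv (.v (nat_lit 9)))) (.inv (.v (nat_lit 2)))) (.eq (.pw (.mul (.v (nat_lit 9)) (.v (nat_lit 6))) (nat_lit 3)) .one)))))))))))))))))))))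
theorem HX_r_f_chk : Fm.chk HH_o HX_r_f_F HX_cs = true := by decide +kernel
theorem HX_r_f {G : Type*} [Group G] {R : ℕ → G → Prop} {a b e x s c z y d r : G} {H : Subgroup G}
    (M : Mdl HH_o HX_cs HH_L R [a, a⁻¹, b, b⁻¹, e, e⁻¹, x, x⁻¹, s, c, z, y, d, r] H) :
    a ^ 3 = 1 ∧ b ^ 3 = 1 ∧ e ^ 3 = 1 ∧ a * b = b * a ∧ a * e = e * a ∧ b * e = e * b ∧ x ^ 3 = 1 ∧ x * e * x⁻¹ = a ∧ x * a * x⁻¹ = b ∧ x * b * x⁻¹ = e ∧ s * s = 1 ∧ s * x * s⁻¹ = x⁻¹ ∧ s * e * s⁻¹ = e⁻¹ ∧ s * a * s⁻¹ = b⁻¹ ∧ c * c = 1 ∧ s * c = c * s ∧ c * e = e * c ∧ c * a * c⁻¹ = a⁻¹ ∧ c * b * c⁻¹ = b⁻¹ ∧ (c * x) ^ 3 = 1 :=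
  Fm.sound M.μ HX_r_f_F HX_r_f_chk M.reps
theorem HX_r {G : Type*} [Group G] {R : ℕ → G → Prop} {a b e x s c z y d r : G} {H : Subgroup G}
    (M : Mdl HH_o HX_cs HH_L R [a, a⁻¹, b, b⁻¹, e, e⁻¹, x, x⁻¹, s, c, z, y, d, r] H) :
    HH a b e x s c :=
  have h := HX_r_f M
  ⟨h.1, h.2.1, h.2.2.1, h.2.2.2.1, h.2.2.2.2.1, h.2.2.2.2.2.1, h.2.2.2.2.2.2.1, h.2.2.2.2.2.2.2.1, h.2.2.2.2.2.2.2.2.1, h.2.2.2.2.2.2.2.2.2.1, h.2.2.2.2.2.2.2.2.2.2.1, h.2.2.2.2.2.2.2.2.2.2.2.1, h.2.2.2.2.2.2.2.2.2.2.2.2.1, h.2.2.2.2.2.2.2.2.2.2.2.2.2.1, h.2.2.2.2.2.2.2.2.2.2.2.2.2.2.1, h.2.2.2.2.2.2.2.2.2.2.2.2.2.2.2.1, h.2.2.2.2.2.2.2.2.2.2.2.2.2.2.2.2.1, h.2.2.2.2.2.2.2.2.2.2.2.2.2.2.2.2.2.1, h.2.2.2.2.2.2.2.2.2.2.2.2.2.2.2.2.2.2.1, h.2.2.2.2.2.2.2.2.2.2.2.2.2.2.2.2.2.2.2, trivial⟩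
noncomputable def HX_lJ : List ℕ := [(nat_lit 0x876543210), (nat_lit 0x876543021), (nat_lit 0x876354210), (nat_lit 0x687543210), (nat_lit 0x876543102), (nat_lit 0x876354021), (nat_lit 0x687543021), (nat_lit 0x876435210), (nat_lit 0x687354210), (nat_lit 0x768543210), (nat_lit 0x876354102), (nat_lit 0x687543102), (nat_lit 0x876435021), (nat_lit 0x687354021), (nat_lit 0x768543021), (nat_lit 0x687435210), (nat_lit 0x768354210), (nat_lit 0x876435102), (nat_lit 0x687354102), (nat_lit 0x768543102), (nat_lit 0x687435021), (nat_lit 0x768354021), (nat_lit 0x768435210), (nat_lit 0x687435102), (nat_lit 0x768354102), (nat_lit 0x768435021), (nat_lit 0x768435102)]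
noncomputable def HX_lJ_W : List (List ℕ) := [[],
  [(nat_lit 0)],
  [(nat_lit 1)],
  [(nat_lit 2)],
  [(nat_lit 0), (nat_lit 0)],
  [(nat_lit 0), (nat_lit 1)],
  [(nat_lit 0), (nat_lit 2)],
  [(nat_lit 1), (nat_lit 1)],
  [(nat_lit 1), (nat_lit 2)],
  [(nat_lit 2), (nat_lit 2)],
  [(nat_lit 0), (nat_lit 0), (nat_lit 1)],
  [(nat_lit 0), (nat_lit 0), (nat_lit 2)],
  [(nat_lit 0), (nat_lit 1), (nat_lit 1)],
  [(nat_lit 0), (nat_lit 1), (nat_lit 2)],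
  [(nat_lit 0), (nat_lit 2), (nat_lit 2)],
  [(nat_lit 1), (nat_lit 1), (nat_lit 2)],
  [(nat_lit 1), (nat_lit 2), (nat_lit 2)],
  [(nat_lit 0), (nat_lit 0), (nat_lit 1), (nat_lit 1)],
  [(nat_lit 0), (nat_lit 0), (nat_lit 1), (nat_lit 2)],
  [(nat_lit 0), (nat_lit 0), (nat_lit 2), (nat_lit 2)],
  [(nat_lit 0), (nat_lit 1), (nat_lit 1), (nat_lit 2)],
  [(nat_lit 0), (nat_lit 1), (nat_lit 2), (nat_lit 2)],
  [(nat_lit 1), (nat_lit 1), (nat_lit 2), (nat_lit 2)],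
  [(nat_lit 0), (nat_lit 0), (nat_lit 1), (nat_lit 1), (nat_lit 2)],
  [(nat_lit 0), (nat_lit 0), (nat_lit 1), (nat_lit 2), (nat_lit 2)],
  [(nat_lit 0), (nat_lit 1), (nat_lit 1), (nat_lit 2), (nat_lit 2)],
  [(nat_lit 0), (nat_lit 0), (nat_lit 1), (nat_lit 1), (nat_lit 2), (nat_lit 2)]]
noncomputable def HX_lJ_h (c : ℕ) : ℕ := Nat.mod c (nat_lit 101)
theorem HX_lJ_E {G : Type*} [Group G] {R : ℕ → G → Prop} {a b e x s c z y d r : G} {H : Subgroup G}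
    (M : Mdl HH_o HX_cs HH_L R [a, a⁻¹, b, b⁻¹, e, e⁻¹, x, x⁻¹, s, c, z, y, d, r] H) :
    EnumS R HX_lJ (sp [a, b, e]) :=
  enumS_sp M.μ.1 (M.reps.tms M.μ.1 [(.v (nat_lit 0)), (.v (nat_lit 2)), (.v (nat_lit 4))] (cs' := [(nat_lit 0x876543021), (nat_lit 0x876354210), (nat_lit 0x687543210)]) (by decide +kernel))
    (Ws := HX_lJ_W) (by decide +kernel) (by decide +kernel)
theorem HX_lJ_c {G : Type*} [Group G] {R : ℕ → G → Prop} {a b e x s c z y d r : G} {H : Subgroup G}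
    (M : Mdl HH_o HX_cs HH_L R [a, a⁻¹, b, b⁻¹, e, e⁻¹, x, x⁻¹, s, c, z, y, d, r] H) :
    #(sp [a, b, e]) = 27 :=
  (HX_lJ_E M).card M.μ (h := HX_lJ_h) (by decide +kernel)
noncomputable def HX_lS : List ℕ := [(nat_lit 0x876543210), (nat_lit 0x876543021), (nat_lit 0x876354210), (nat_lit 0x687543210), (nat_lit 0x210876543), (nat_lit 0x876543102), (nat_lit 0x876354021), (nat_lit 0x687543021), (nat_lit 0x210876354), (nat_lit 0x876435210), (nat_lit 0x687354210), (nat_lit 0x210687543), (nat_lit 0x768543210), (nat_lit 0x21876543), (nat_lit 0x543210876), (nat_lit 0x876354102), (nat_lit 0x687543102), (nat_lit 0x210876435), (nat_lit 0x876435021), (nat_lit 0x687354021), (nat_lit 0x210687354), (nat_lit 0x768543021), (nat_lit 0x21876354), (nat_lit 0x543210687), (nat_lit 0x687435210), (nat_lit 0x210768543), (nat_lit 0x768354210), (nat_lit 0x21687543), (nat_lit 0x543021876), (nat_lit 0x102876543),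 (nat_lit 0x354210876), (nat_lit 0x876435102), (nat_lit 0x687354102), (nat_lit 0x210687435), (nat_lit 0x768543102), (nat_lit 0x21876435), (nat_lit 0x543210768), (nat_lit 0x687435021), (nat_lit 0x210768354), (nat_lit 0x768354021), (nat_lit 0x21687354), (nat_lit 0x543021687), (nat_lit 0x102876354), (nat_lit 0x354210687), (nat_lit 0x768435210), (nat_lit 0x21768543), (nat_lit 0x543102876), (nat_lit 0x102687543), (nat_lit 0x354021876), (nat_lit 0x435210876), (nat_lit 0x687435102), (nat_lit 0x210768435), (nat_lit 0x768354102), (nat_lit 0x21687435), (nat_lit 0x543021768), (nat_lit 0x102876435), (nat_lit 0x354210768), (nat_lit 0x768435021), (nat_lit 0x21768354), (nat_lit 0x543102687), (nat_lit 0x102687354), (nat_lit 0x354021687), (nat_lit 0x435210687), (nat_lit 0x102768543), (nat_lit 0x354102876), (nat_lit 0x435021876), (nat_lit 0x768435102), (nat_lit 0x21768435), (nat_lit 0x543102768), (nat_lit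 0x102687435), (nat_lit 0x354021768), (nat_lit 0x435210768), (nat_lit 0x102768354), (nat_lit 0x354102687), (nat_lit 0x435021687), (nat_lit 0x435102876), (nat_lit 0x102768435), (nat_lit 0x354102768), (nat_lit 0x435021768), (nat_lit 0x435102687), (nat_lit 0x435102768)]
noncomputable def HX_lS_W : List (List ℕ) := [[],
  [(nat_lit 0)],
  [(nat_lit 1)],
  [(nat_lit 2)],
  [(nat_lit 3)],
  [(nat_lit 0), (nat_lit 0)],
  [(nat_lit 0), (nat_lit 1)],
  [(nat_lit 0), (nat_lit 2)],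
  [(nat_lit 0), (nat_lit 3)],
  [(nat_lit 1), (nat_lit 1)],
  [(nat_lit 1), (nat_lit 2)],
  [(nat_lit 1), (nat_lit 3)],
  [(nat_lit 2), (nat_lit 2)],
  [(nat_lit 2), (nat_lit 3)],
  [(nat_lit 3), (nat_lit 3)],
  [(nat_lit 0), (nat_lit 0), (nat_lit 1)],
  [(nat_lit 0), (nat_lit 0), (nat_lit 2)],
  [(nat_lit 0), (nat_lit 0), (nat_lit 3)],
  [(nat_lit 0), (nat_lit 1), (nat_lit 1)],
  [(nat_lit 0), (nat_lit 1), (nat_lit 2)],
  [(nat_lit 0), (nat_lit 1), (nat_lit 3)],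
  [(nat_lit 0), (nat_lit 2), (nat_lit 2)],
  [(nat_lit 0), (nat_lit 2), (nat_lit 3)],
  [(nat_lit 0), (nat_lit 3), (nat_lit 3)],
  [(nat_lit 1), (nat_lit 1), (nat_lit 2)],
  [(nat_lit 1), (nat_lit 1), (nat_lit 3)],
  [(nat_lit 1), (nat_lit 2), (nat_lit 2)],
  [(nat_lit 1), (nat_lit 2), (nat_lit 3)],
  [(nat_lit 1), (nat_lit 3), (nat_lit 3)],
  [(nat_lit 2), (nat_lit 2), (nat_lit 3)],
  [(nat_lit 2), (nat_lit 3), (nat_lit 3)],
  [(nat_lit 0), (nat_lit 0), (nat_lit 1), (nat_lit 1)],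
  [(nat_lit 0), (nat_lit 0), (nat_lit 1), (nat_lit 2)],
  [(nat_lit 0), (nat_lit 0), (nat_lit 1), (nat_lit 3)],
  [(nat_lit 0), (nat_lit 0), (nat_lit 2), (nat_lit 2)],
  [(nat_lit 0), (nat_lit 0), (nat_lit 2), (nat_lit 3)],
  [(nat_lit 0), (nat_lit 0), (nat_lit 3), (nat_lit 3)],
  [(nat_lit 0), (nat_lit 1), (nat_lit 1), (nat_lit 2)],
  [(nat_lit 0), (nat_lit 1), (nat_lit 1), (nat_lit 3)],
  [(nat_lit 0), (nat_lit 1), (nat_lit 2), (nat_lit 2)],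
  [(nat_lit 0), (nat_lit 1), (nat_lit 2), (nat_lit 3)],
  [(nat_lit 0), (nat_lit 1), (nat_lit 3), (nat_lit 3)],
  [(nat_lit 0), (nat_lit 2), (nat_lit 2), (nat_lit 3)],
  [(nat_lit 0), (nat_lit 2), (nat_lit 3), (nat_lit 3)],
  [(nat_lit 1), (nat_lit 1), (nat_lit 2), (nat_lit 2)],
  [(nat_lit 1), (nat_lit 1), (nat_lit 2), (nat_lit 3)],
  [(nat_lit 1), (nat_lit 1), (nat_lit 3), (nat_lit 3)],
  [(nat_lit 1), (nat_lit 2), (nat_lit 2), (nat_lit 3)],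
  [(nat_lit 1), (nat_lit 2), (nat_lit 3), (nat_lit 3)],
  [(nat_lit 2), (nat_lit 2), (nat_lit 3), (nat_lit 3)],
  [(nat_lit 0), (nat_lit 0), (nat_lit 1), (nat_lit 1), (nat_lit 2)],
  [(nat_lit 0), (nat_lit 0), (nat_lit 1), (nat_lit 1), (nat_lit 3)],
  [(nat_lit 0), (nat_lit 0), (nat_lit 1), (nat_lit 2), (nat_lit 2)],
  [(nat_lit 0), (nat_lit 0), (nat_lit 1), (nat_lit 2), (nat_lit 3)],
  [(nat_lit 0), (nat_lit 0), (nat_lit 1), (nat_lit 3), (nat_lit 3)],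
  [(nat_lit 0), (nat_lit 0), (nat_lit 2), (nat_lit 2), (nat_lit 3)],
  [(nat_lit 0), (nat_lit 0), (nat_lit 2), (nat_lit 3), (nat_lit 3)],
  [(nat_lit 0), (nat_lit 1), (nat_lit 1), (nat_lit 2), (nat_lit 2)],
  [(nat_lit 0), (nat_lit 1), (nat_lit 1), (nat_lit 2), (nat_lit 3)],
  [(nat_lit 0), (nat_lit 1), (nat_lit 1), (nat_lit 3), (nat_lit 3)],
  [(nat_lit 0), (nat_lit 1), (nat_lit 2), (nat_lit 2), (nat_lit 3)],
  [(nat_lit 0), (nat_lit 1), (nat_lit 2), (nat_lit 3), (nat_lit 3)],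
  [(nat_lit 0), (nat_lit 2), (nat_lit 2), (nat_lit 3), (nat_lit 3)],
  [(nat_lit 1), (nat_lit 1), (nat_lit 2), (nat_lit 2), (nat_lit 3)],
  [(nat_lit 1), (nat_lit 1), (nat_lit 2), (nat_lit 3), (nat_lit 3)],
  [(nat_lit 1), (nat_lit 2), (nat_lit 2), (nat_lit 3), (nat_lit 3)],
  [(nat_lit 0), (nat_lit 0), (nat_lit 1), (nat_lit 1), (nat_lit 2), (nat_lit 2)],
  [(nat_lit 0), (nat_lit 0), (nat_lit 1), (nat_lit 1), (nat_lit 2), (nat_lit 3)],
  [(nat_lit 0), (nat_lit 0), (nat_lit 1), (nat_lit 1), (nat_lit 3), (nat_lit 3)],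
  [(nat_lit 0), (nat_lit 0), (nat_lit 1), (nat_lit 2), (nat_lit 2), (nat_lit 3)],
  [(nat_lit 0), (nat_lit 0), (nat_lit 1), (nat_lit 2), (nat_lit 3), (nat_lit 3)],
  [(nat_lit 0), (nat_lit 0), (nat_lit 2), (nat_lit 2), (nat_lit 3), (nat_lit 3)],
  [(nat_lit 0), (nat_lit 1), (nat_lit 1), (nat_lit 2), (nat_lit 2), (nat_lit 3)],
  [(nat_lit 0), (nat_lit 1), (nat_lit 1), (nat_lit 2), (nat_lit 3), (nat_lit 3)],
  [(nat_lit 0), (nat_lit 1), (nat_lit 2), (nat_lit 2), (nat_lit 3), (nat_lit 3)],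
  [(nat_lit 1), (nat_lit 1), (nat_lit 2), (nat_lit 2), (nat_lit 3), (nat_lit 3)],
  [(nat_lit 0), (nat_lit 0), (nat_lit 1), (nat_lit 1), (nat_lit 2), (nat_lit 2), (nat_lit 3)],
  [(nat_lit 0), (nat_lit 0), (nat_lit 1), (nat_lit 1), (nat_lit 2), (nat_lit 3), (nat_lit 3)],
  [(nat_lit 0), (nat_lit 0), (nat_lit 1), (nat_lit 2), (nat_lit 2), (nat_lit 3), (nat_lit 3)],
  [(nat_lit 0), (nat_lit 1), (nat_lit 1), (nat_lit 2), (nat_lit 2), (nat_lit 3), (nat_lit 3)],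
  [(nat_lit 0), (nat_lit 0), (nat_lit 1), (nat_lit 1), (nat_lit 2), (nat_lit 2), (nat_lit 3), (nat_lit 3)]]
noncomputable def HX_lS_h (c : ℕ) : ℕ := Nat.mod c (nat_lit 608)
theorem HX_lS_E {G : Type*} [Group G] {R : ℕ → G → Prop} {a b e x s c z y d r : G} {H : Subgroup G}
    (M : Mdl HH_o HX_cs HH_L R [a, a⁻¹, b, b⁻¹, e, e⁻¹, x, x⁻¹, s, c, z, y, d, r] H) :
    EnumS R HX_lS (sp [a, b, e, x]) :=
  enumS_sp M.μ.1 (M.reps.tms M.μ.1 [(.v (nat_lit 0)), (.v (nat_lit 2)), (.v (nat_lit 4)), (.v (nat_lit 6))] (cs' := [(nat_lit 0x876543021), (nat_lit 0x876354210), (nat_lit 0x687543210), (nat_lit 0x210876543)]) (by decide +kernel))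
    (Ws := HX_lS_W) (by decide +kernel) (by decide +kernel)
theorem HX_lS_c {G : Type*} [Group G] {R : ℕ → G → Prop} {a b e x s c z y d r : G} {H : Subgroup G}
    (M : Mdl HH_o HX_cs HH_L R [a, a⁻¹, b, b⁻¹, e, e⁻¹, x, x⁻¹, s, c, z, y, d, r] H) :
    #(sp [a, b, e, x]) = 81 :=
  (HX_lS_E M).card M.μ (h := HX_lS_h) (by decide +kernel)
noncomputable def HX_lY : List ℕ := [(nat_lit 0x876543210), (nat_lit 0x876543021), (nat_lit 0x876354210), (nat_lit 0x687543210), (nat_lit 0x786120453), (nat_lit 0x876543102), (nat_lit 0x876354021), (nat_lit 0x687543021), (nat_lit 0x786120345), (nat_lit 0x876435210), (nat_lit 0x687354210), (nat_lit 0x786012453), (nat_lit 0x768543210), (nat_lit 0x678120453), (nat_lit 0x786201453), (nat_lit 0x786120534), (nat_lit 0x867120453), (nat_lit 0x876354102), (nat_lit 0x687543102), (nat_lit 0x876435021), (nat_lit 0x687354021), (nat_lit 0x786012345), (nat_lit 0x768543021),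 (nat_lit 0x678120345), (nat_lit 0x786201345), (nat_lit 0x867120345), (nat_lit 0x687435210), (nat_lit 0x768354210), (nat_lit 0x678012453), (nat_lit 0x786012534), (nat_lit 0x867012453), (nat_lit 0x678201453), (nat_lit 0x678120534), (nat_lit 0x786201534), (nat_lit 0x867201453), (nat_lit 0x867120534), (nat_lit 0x876435102), (nat_lit 0x687354102), (nat_lit 0x768543102), (nat_lit 0x687435021), (nat_lit 0x768354021), (nat_lit 0x678012345), (nat_lit 0x867012345), (nat_lit 0x678201345), (nat_lit 0x867201345), (nat_lit 0x768435210), (nat_lit 0x678012534), (nat_lit 0x867012534), (nat_lit 0x678201534), (nat_lit 0x867201534), (nat_lit 0x687435102), (nat_lit 0x768354102), (nat_lit 0x768435021), (nat_lit 0x768435102)]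
noncomputable def HX_lY_W : List (List ℕ) := [[],
  [(nat_lit 0)],
  [(nat_lit 1)],
  [(nat_lit 2)],
  [(nat_lit 3)],
  [(nat_lit 0), (nat_lit 0)],
  [(nat_lit 0), (nat_lit 1)],
  [(nat_lit 0), (nat_lit 2)],
  [(nat_lit 0), (nat_lit 3)],
  [(nat_lit 1), (nat_lit 1)],
  [(nat_lit 1), (nat_lit 2)],
  [(nat_lit 1), (nat_lit 3)],
  [(nat_lit 2), (nat_lit 2)],
  [(nat_lit 2), (nat_lit 3)],
  [(nat_lit 3), (nat_lit 0)],
  [(nat_lit 3), (nat_lit 1)],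
  [(nat_lit 3), (nat_lit 2)],
  [(nat_lit 0), (nat_lit 0), (nat_lit 1)],
  [(nat_lit 0), (nat_lit 0), (nat_lit 2)],
  [(nat_lit 0), (nat_lit 1), (nat_lit 1)],
  [(nat_lit 0), (nat_lit 1), (nat_lit 2)],
  [(nat_lit 0), (nat_lit 1), (nat_lit 3)],
  [(nat_lit 0), (nat_lit 2), (nat_lit 2)],
  [(nat_lit 0), (nat_lit 2), (nat_lit 3)],
  [(nat_lit 0), (nat_lit 3), (nat_lit 0)],
  [(nat_lit 0), (nat_lit 3), (nat_lit 2)],
  [(nat_lit 1), (nat_lit 1), (nat_lit 2)],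
  [(nat_lit 1), (nat_lit 2), (nat_lit 2)],
  [(nat_lit 1), (nat_lit 2), (nat_lit 3)],
  [(nat_lit 1), (nat_lit 3), (nat_lit 1)],
  [(nat_lit 1), (nat_lit 3), (nat_lit 2)],
  [(nat_lit 2), (nat_lit 3), (nat_lit 0)],
  [(nat_lit 2), (nat_lit 3), (nat_lit 1)],
  [(nat_lit 3), (nat_lit 0), (nat_lit 1)],
  [(nat_lit 3), (nat_lit 0), (nat_lit 2)],
  [(nat_lit 3), (nat_lit 1), (nat_lit 2)],
  [(nat_lit 0), (nat_lit 0), (nat_lit 1), (nat_lit 1)],
  [(nat_lit 0), (nat_lit 0), (nat_lit 1), (nat_lit 2)],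
  [(nat_lit 0), (nat_lit 0), (nat_lit 2), (nat_lit 2)],
  [(nat_lit 0), (nat_lit 1), (nat_lit 1), (nat_lit 2)],
  [(nat_lit 0), (nat_lit 1), (nat_lit 2), (nat_lit 2)],
  [(nat_lit 0), (nat_lit 1), (nat_lit 2), (nat_lit 3)],
  [(nat_lit 0), (nat_lit 1), (nat_lit 3), (nat_lit 2)],
  [(nat_lit 0), (nat_lit 2), (nat_lit 3), (nat_lit 0)],
  [(nat_lit 0), (nat_lit 3), (nat_lit 0), (nat_lit 2)],
  [(nat_lit 1), (nat_lit 1), (nat_lit 2), (nat_lit 2)],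
  [(nat_lit 1), (nat_lit 2), (nat_lit 3), (nat_lit 1)],
  [(nat_lit 1), (nat_lit 3), (nat_lit 1), (nat_lit 2)],
  [(nat_lit 2), (nat_lit 3), (nat_lit 0), (nat_lit 1)],
  [(nat_lit 3), (nat_lit 0), (nat_lit 1), (nat_lit 2)],
  [(nat_lit 0), (nat_lit 0), (nat_lit 1), (nat_lit 1), (nat_lit 2)],
  [(nat_lit 0), (nat_lit 0), (nat_lit 1), (nat_lit 2), (nat_lit 2)],
  [(nat_lit 0), (nat_lit 1), (nat_lit 1), (nat_lit 2), (nat_lit 2)],
  [(nat_lit 3), (nat_lit 0), (nat_lit 1), (nat_lit 2), (nat_lit 3)]]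
noncomputable def HX_lY_h (c : ℕ) : ℕ := Nat.mod c (nat_lit 199)
theorem HX_lY_E {G : Type*} [Group G] {R : ℕ → G → Prop} {a b e x s c z y d r : G} {H : Subgroup G}
    (M : Mdl HH_o HX_cs HH_L R [a, a⁻¹, b, b⁻¹, e, e⁻¹, x, x⁻¹, s, c, z, y, d, r] H) :
    EnumS R HX_lY (sp [a, b, e, s]) :=
  enumS_sp M.μ.1 (M.reps.tms M.μ.1 [(.v (nat_lit 0)), (.v (nat_lit 2)), (.v (nat_lit 4)), (.v (nat_lit 8))] (cs' := [(nat_lit 0x876543021), (nat_lit 0x876354210), (nat_lit 0x687543210), (nat_lit 0x786120453)]) (by decide +kernel))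
    (Ws := HX_lY_W) (by decide +kernel) (by decide +kernel)
theorem HX_lY_c {G : Type*} [Group G] {R : ℕ → G → Prop} {a b e x s c z y d r : G} {H : Subgroup G}
    (M : Mdl HH_o HX_cs HH_L R [a, a⁻¹, b, b⁻¹, e, e⁻¹, x, x⁻¹, s, c, z, y, d, r] H) :
    #(sp [a, b, e, s]) = 54 :=
  (HX_lY_E M).card M.μ (h := HX_lY_h) (by decide +kernel)
noncomputable def HX_lE : List ℕ := [(nat_lit 0x876543210), (nat_lit 0x876543021), (nat_lit 0x876354210), (nat_lit 0x687543210), (nat_lit 0x876210453), (nat_lit 0x876543102), (nat_lit 0x876354021), (nat_lit 0x687543021), (nat_lit 0x876210345), (nat_lit 0x876435210), (nat_lit 0x687354210), (nat_lit 0x876021453), (nat_lit 0x768543210), (nat_lit 0x687210453), (nat_lit 0x876210534), (nat_lit 0x876453120), (nat_lit 0x876354102), (nat_lit 0x687543102), (nat_lit 0x876435021), (nat_lit 0x687354021), (nat_lit 0x876021345), (nat_lit 0x768543021), (nat_lit 0x687210345),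 (nat_lit 0x876453012), (nat_lit 0x687435210), (nat_lit 0x876102453), (nat_lit 0x768354210), (nat_lit 0x687021453), (nat_lit 0x876021534), (nat_lit 0x876345120), (nat_lit 0x768210453), (nat_lit 0x687210534), (nat_lit 0x687453120), (nat_lit 0x876453201), (nat_lit 0x876534120), (nat_lit 0x876120543), (nat_lit 0x876435102), (nat_lit 0x687354102), (nat_lit 0x768543102), (nat_lit 0x687435021), (nat_lit 0x876102345), (nat_lit 0x768354021), (nat_lit 0x687021345), (nat_lit 0x876345012), (nat_lit 0x768210345), (nat_lit 0x687453012), (nat_lit 0x876534012), (nat_lit 0x876120354), (nat_lit 0x768435210), (nat_lit 0x687102453), (nat_lit 0x876102534), (nat_lit 0x768021453), (nat_lit 0x687021534), (nat_lit 0x687345120), (nat_lit 0x876345201), (nat_lit 0x876012543), (nat_lit 0x768210534), (nat_lit 0x768453120), (nat_lit 0x687453201), (nat_lit 0x687534120), (nat_lit 0x687120543), (nat_lit 0x876534201),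 (nat_lit 0x876120435), (nat_lit 0x876201543), (nat_lit 0x687435102), (nat_lit 0x768354102), (nat_lit 0x768435021), (nat_lit 0x687102345), (nat_lit 0x768021345), (nat_lit 0x687345012), (nat_lit 0x876012354), (nat_lit 0x768453012), (nat_lit 0x687534012), (nat_lit 0x687120354), (nat_lit 0x876201354), (nat_lit 0x768102453), (nat_lit 0x687102534), (nat_lit 0x768021534), (nat_lit 0x768345120), (nat_lit 0x687345201), (nat_lit 0x687012543), (nat_lit 0x876012435), (nat_lit 0x768453201), (nat_lit 0x768534120), (nat_lit 0x768120543), (nat_lit 0x687534201), (nat_lit 0x687120435), (nat_lit 0x687201543), (nat_lit 0x876201435), (nat_lit 0x768435102), (nat_lit 0x768102345), (nat_lit 0x768345012), (nat_lit 0x687012354), (nat_lit 0x768534012), (nat_lit 0x768120354), (nat_lit 0x687201354), (nat_lit 0x768102534), (nat_lit 0x768345201), (nat_lit 0x768012543), (nat_lit 0x687012435), (nat_lit 0x768534201),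 (nat_lit 0x768120435), (nat_lit 0x768201543), (nat_lit 0x687201435), (nat_lit 0x768012354), (nat_lit 0x768201354), (nat_lit 0x768012435), (nat_lit 0x768201435)]
noncomputable def HX_lE_W : List (List ℕ) := [[],
  [(nat_lit 0)],
  [(nat_lit 1)],
  [(nat_lit 2)],
  [(nat_lit 3)],
  [(nat_lit 0), (nat_lit 0)],
  [(nat_lit 0), (nat_lit 1)],
  [(nat_lit 0), (nat_lit 2)],
  [(nat_lit 0), (nat_lit 3)],
  [(nat_lit 1), (nat_lit 1)],
  [(nat_lit 1), (nat_lit 2)],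
  [(nat_lit 1), (nat_lit 3)],
  [(nat_lit 2), (nat_lit 2)],
  [(nat_lit 2), (nat_lit 3)],
  [(nat_lit 3), (nat_lit 1)],
  [(nat_lit 3), (nat_lit 3)],
  [(nat_lit 0), (nat_lit 0), (nat_lit 1)],
  [(nat_lit 0), (nat_lit 0), (nat_lit 2)],
  [(nat_lit 0), (nat_lit 1), (nat_lit 1)],
  [(nat_lit 0), (nat_lit 1), (nat_lit 2)],
  [(nat_lit 0), (nat_lit 1), (nat_lit 3)],
  [(nat_lit 0), (nat_lit 2), (nat_lit 2)],
  [(nat_lit 0), (nat_lit 2), (nat_lit 3)],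
  [(nat_lit 0), (nat_lit 3), (nat_lit 3)],
  [(nat_lit 1), (nat_lit 1), (nat_lit 2)],
  [(nat_lit 1), (nat_lit 1), (nat_lit 3)],
  [(nat_lit 1), (nat_lit 2), (nat_lit 2)],
  [(nat_lit 1), (nat_lit 2), (nat_lit 3)],
  [(nat_lit 1), (nat_lit 3), (nat_lit 1)],
  [(nat_lit 1), (nat_lit 3), (nat_lit 3)],
  [(nat_lit 2), (nat_lit 2), (nat_lit 3)],
  [(nat_lit 2), (nat_lit 3), (nat_lit 1)],
  [(nat_lit 2), (nat_lit 3), (nat_lit 3)],
  [(nat_lit 3), (nat_lit 1), (nat_lit 3)],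
  [(nat_lit 3), (nat_lit 3), (nat_lit 1)],
  [(nat_lit 3), (nat_lit 3), (nat_lit 3)],
  [(nat_lit 0), (nat_lit 0), (nat_lit 1), (nat_lit 1)],
  [(nat_lit 0), (nat_lit 0), (nat_lit 1), (nat_lit 2)],
  [(nat_lit 0), (nat_lit 0), (nat_lit 2), (nat_lit 2)],
  [(nat_lit 0), (nat_lit 1), (nat_lit 1), (nat_lit 2)],
  [(nat_lit 0), (nat_lit 1), (nat_lit 1), (nat_lit 3)],
  [(nat_lit 0), (nat_lit 1), (nat_lit 2), (nat_lit 2)],
  [(nat_lit 0), (nat_lit 1), (nat_lit 2), (nat_lit 3)],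
  [(nat_lit 0), (nat_lit 1), (nat_lit 3), (nat_lit 3)],
  [(nat_lit 0), (nat_lit 2), (nat_lit 2), (nat_lit 3)],
  [(nat_lit 0), (nat_lit 2), (nat_lit 3), (nat_lit 3)],
  [(nat_lit 0), (nat_lit 3), (nat_lit 3), (nat_lit 1)],
  [(nat_lit 0), (nat_lit 3), (nat_lit 3), (nat_lit 3)],
  [(nat_lit 1), (nat_lit 1), (nat_lit 2), (nat_lit 2)],
  [(nat_lit 1), (nat_lit 1), (nat_lit 2), (nat_lit 3)],
  [(nat_lit 1), (nat_lit 1), (nat_lit 3), (nat_lit 1)],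
  [(nat_lit 1), (nat_lit 2), (nat_lit 2), (nat_lit 3)],
  [(nat_lit 1), (nat_lit 2), (nat_lit 3), (nat_lit 1)],
  [(nat_lit 1), (nat_lit 2), (nat_lit 3), (nat_lit 3)],
  [(nat_lit 1), (nat_lit 3), (nat_lit 1), (nat_lit 3)],
  [(nat_lit 1), (nat_lit 3), (nat_lit 3), (nat_lit 3)],
  [(nat_lit 2), (nat_lit 2), (nat_lit 3), (nat_lit 1)],
  [(nat_lit 2), (nat_lit 2), (nat_lit 3), (nat_lit 3)],
  [(nat_lit 2), (nat_lit 3), (nat_lit 1), (nat_lit 3)],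
  [(nat_lit 2), (nat_lit 3), (nat_lit 3), (nat_lit 1)],
  [(nat_lit 2), (nat_lit 3), (nat_lit 3), (nat_lit 3)],
  [(nat_lit 3), (nat_lit 1), (nat_lit 3), (nat_lit 1)],
  [(nat_lit 3), (nat_lit 1), (nat_lit 3), (nat_lit 3)],
  [(nat_lit 3), (nat_lit 3), (nat_lit 1), (nat_lit 3)],
  [(nat_lit 0), (nat_lit 0), (nat_lit 1), (nat_lit 1), (nat_lit 2)],
  [(nat_lit 0), (nat_lit 0), (nat_lit 1), (nat_lit 2), (nat_lit 2)],
  [(nat_lit 0), (nat_lit 1), (nat_lit 1), (nat_lit 2), (nat_lit 2)],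
  [(nat_lit 0), (nat_lit 1), (nat_lit 1), (nat_lit 2), (nat_lit 3)],
  [(nat_lit 0), (nat_lit 1), (nat_lit 2), (nat_lit 2), (nat_lit 3)],
  [(nat_lit 0), (nat_lit 1), (nat_lit 2), (nat_lit 3), (nat_lit 3)],
  [(nat_lit 0), (nat_lit 1), (nat_lit 3), (nat_lit 3), (nat_lit 3)],
  [(nat_lit 0), (nat_lit 2), (nat_lit 2), (nat_lit 3), (nat_lit 3)],
  [(nat_lit 0), (nat_lit 2), (nat_lit 3), (nat_lit 3), (nat_lit 1)],
  [(nat_lit 0), (nat_lit 2), (nat_lit 3), (nat_lit 3), (nat_lit 3)],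
  [(nat_lit 0), (nat_lit 3), (nat_lit 3), (nat_lit 1), (nat_lit 3)],
  [(nat_lit 1), (nat_lit 1), (nat_lit 2), (nat_lit 2), (nat_lit 3)],
  [(nat_lit 1), (nat_lit 1), (nat_lit 2), (nat_lit 3), (nat_lit 1)],
  [(nat_lit 1), (nat_lit 2), (nat_lit 2), (nat_lit 3), (nat_lit 1)],
  [(nat_lit 1), (nat_lit 2), (nat_lit 2), (nat_lit 3), (nat_lit 3)],
  [(nat_lit 1), (nat_lit 2), (nat_lit 3), (nat_lit 1), (nat_lit 3)],
  [(nat_lit 1), (nat_lit 2), (nat_lit 3), (nat_lit 3), (nat_lit 3)],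
  [(nat_lit 1), (nat_lit 3), (nat_lit 1), (nat_lit 3), (nat_lit 3)],
  [(nat_lit 2), (nat_lit 2), (nat_lit 3), (nat_lit 1), (nat_lit 3)],
  [(nat_lit 2), (nat_lit 2), (nat_lit 3), (nat_lit 3), (nat_lit 1)],
  [(nat_lit 2), (nat_lit 2), (nat_lit 3), (nat_lit 3), (nat_lit 3)],
  [(nat_lit 2), (nat_lit 3), (nat_lit 1), (nat_lit 3), (nat_lit 1)],
  [(nat_lit 2), (nat_lit 3), (nat_lit 1), (nat_lit 3), (nat_lit 3)],
  [(nat_lit 2), (nat_lit 3), (nat_lit 3), (nat_lit 1), (nat_lit 3)],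
  [(nat_lit 3), (nat_lit 1), (nat_lit 3), (nat_lit 1), (nat_lit 3)],
  [(nat_lit 0), (nat_lit 0), (nat_lit 1), (nat_lit 1), (nat_lit 2), (nat_lit 2)],
  [(nat_lit 0), (nat_lit 1), (nat_lit 1), (nat_lit 2), (nat_lit 2), (nat_lit 3)],
  [(nat_lit 0), (nat_lit 1), (nat_lit 2), (nat_lit 2), (nat_lit 3), (nat_lit 3)],
  [(nat_lit 0), (nat_lit 1), (nat_lit 2), (nat_lit 3), (nat_lit 3), (nat_lit 3)],
  [(nat_lit 0), (nat_lit 2), (nat_lit 2), (nat_lit 3), (nat_lit 3), (nat_lit 1)],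
  [(nat_lit 0), (nat_lit 2), (nat_lit 2), (nat_lit 3), (nat_lit 3), (nat_lit 3)],
  [(nat_lit 0), (nat_lit 2), (nat_lit 3), (nat_lit 3), (nat_lit 1), (nat_lit 3)],
  [(nat_lit 1), (nat_lit 1), (nat_lit 2), (nat_lit 2), (nat_lit 3), (nat_lit 1)],
  [(nat_lit 1), (nat_lit 2), (nat_lit 2), (nat_lit 3), (nat_lit 1), (nat_lit 3)],
  [(nat_lit 1), (nat_lit 2), (nat_lit 2), (nat_lit 3), (nat_lit 3), (nat_lit 3)],
  [(nat_lit 1), (nat_lit 2), (nat_lit 3), (nat_lit 1), (nat_lit 3), (nat_lit 3)],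
  [(nat_lit 2), (nat_lit 2), (nat_lit 3), (nat_lit 1), (nat_lit 3), (nat_lit 1)],
  [(nat_lit 2), (nat_lit 2), (nat_lit 3), (nat_lit 1), (nat_lit 3), (nat_lit 3)],
  [(nat_lit 2), (nat_lit 2), (nat_lit 3), (nat_lit 3), (nat_lit 1), (nat_lit 3)],
  [(nat_lit 2), (nat_lit 3), (nat_lit 1), (nat_lit 3), (nat_lit 1), (nat_lit 3)],
  [(nat_lit 0), (nat_lit 1), (nat_lit 2), (nat_lit 2), (nat_lit 3), (nat_lit 3), (nat_lit 3)],
  [(nat_lit 0), (nat_lit 2), (nat_lit 2), (nat_lit 3), (nat_lit 3), (nat_lit 1), (nat_lit 3)],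
  [(nat_lit 1), (nat_lit 2), (nat_lit 2), (nat_lit 3), (nat_lit 1), (nat_lit 3), (nat_lit 3)],
  [(nat_lit 2), (nat_lit 2), (nat_lit 3), (nat_lit 1), (nat_lit 3), (nat_lit 1), (nat_lit 3)]]
noncomputable def HX_lE_h (c : ℕ) : ℕ := Nat.mod c (nat_lit 1726)
theorem HX_lE_E {G : Type*} [Group G] {R : ℕ → G → Prop} {a b e x s c z y d r : G} {H : Subgroup G}
    (M : Mdl HH_o HX_cs HH_L R [a, a⁻¹, b, b⁻¹, e, e⁻¹, x, x⁻¹, s, c, z, y, d, r] H) :
    EnumS R HX_lE (sp [a, b, e, r]) :=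
  enumS_sp M.μ.1 (M.reps.tms M.μ.1 [(.v (nat_lit 0)), (.v (nat_lit 2)), (.v (nat_lit 4)), (.v (nat_lit 13))] (cs' := [(nat_lit 0x876543021), (nat_lit 0x876354210), (nat_lit 0x687543210), (nat_lit 0x876210453)]) (by decide +kernel))
    (Ws := HX_lE_W) (by decide +kernel) (by decide +kernel)
theorem HX_lE_c {G : Type*} [Group G] {R : ℕ → G → Prop} {a b e x s c z y d r : G} {H : Subgroup G}
    (M : Mdl HH_o HX_cs HH_L R [a, a⁻¹, b, b⁻¹, e, e⁻¹, x, x⁻¹, s, c, z, y, d, r] H) :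
    #(sp [a, b, e, r]) = 108 :=
  (HX_lE_E M).card M.μ (h := HX_lE_h) (by decide +kernel)
noncomputable def HX_lB : List ℕ := [(nat_lit 0x876543210), (nat_lit 0x876543021), (nat_lit 0x876354210), (nat_lit 0x876210453), (nat_lit 0x876543102), (nat_lit 0x876354021), (nat_lit 0x876210345), (nat_lit 0x876435210), (nat_lit 0x876021453), (nat_lit 0x876210534), (nat_lit 0x876453120), (nat_lit 0x876354102), (nat_lit 0x876435021), (nat_lit 0x876021345), (nat_lit 0x876453012), (nat_lit 0x876102453), (nat_lit 0x876021534), (nat_lit 0x876345120), (nat_lit 0x876453201), (nat_lit 0x876534120), (nat_lit 0x876120543), (nat_lit 0x876435102), (nat_lit 0x876102345), (nat_lit 0x876345012), (nat_lit 0x876534012), (nat_lit 0x876120354), (nat_lit 0x876102534), (nat_lit 0x876345201), (nat_lit 0x876012543), (nat_lit 0x876534201), (nat_lit 0x876120435), (nat_lit 0x876201543), (nat_lit 0x876012354), (nat_lit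 0x876201354), (nat_lit 0x876012435), (nat_lit 0x876201435)]
noncomputable def HX_lB_W : List (List ℕ) := [[],
  [(nat_lit 0)],
  [(nat_lit 1)],
  [(nat_lit 2)],
  [(nat_lit 0), (nat_lit 0)],
  [(nat_lit 0), (nat_lit 1)],
  [(nat_lit 0), (nat_lit 2)],
  [(nat_lit 1), (nat_lit 1)],
  [(nat_lit 1), (nat_lit 2)],
  [(nat_lit 2), (nat_lit 1)],
  [(nat_lit 2), (nat_lit 2)],
  [(nat_lit 0), (nat_lit 0), (nat_lit 1)],
  [(nat_lit 0), (nat_lit 1), (nat_lit 1)],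
  [(nat_lit 0), (nat_lit 1), (nat_lit 2)],
  [(nat_lit 0), (nat_lit 2), (nat_lit 2)],
  [(nat_lit 1), (nat_lit 1), (nat_lit 2)],
  [(nat_lit 1), (nat_lit 2), (nat_lit 1)],
  [(nat_lit 1), (nat_lit 2), (nat_lit 2)],
  [(nat_lit 2), (nat_lit 1), (nat_lit 2)],
  [(nat_lit 2), (nat_lit 2), (nat_lit 1)],
  [(nat_lit 2), (nat_lit 2), (nat_lit 2)],
  [(nat_lit 0), (nat_lit 0), (nat_lit 1), (nat_lit 1)],
  [(nat_lit 0), (nat_lit 1), (nat_lit 1), (nat_lit 2)],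
  [(nat_lit 0), (nat_lit 1), (nat_lit 2), (nat_lit 2)],
  [(nat_lit 0), (nat_lit 2), (nat_lit 2), (nat_lit 1)],
  [(nat_lit 0), (nat_lit 2), (nat_lit 2), (nat_lit 2)],
  [(nat_lit 1), (nat_lit 1), (nat_lit 2), (nat_lit 1)],
  [(nat_lit 1), (nat_lit 2), (nat_lit 1), (nat_lit 2)],
  [(nat_lit 1), (nat_lit 2), (nat_lit 2), (nat_lit 2)],
  [(nat_lit 2), (nat_lit 1), (nat_lit 2), (nat_lit 1)],
  [(nat_lit 2), (nat_lit 1), (nat_lit 2), (nat_lit 2)],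
  [(nat_lit 2), (nat_lit 2), (nat_lit 1), (nat_lit 2)],
  [(nat_lit 0), (nat_lit 1), (nat_lit 2), (nat_lit 2), (nat_lit 2)],
  [(nat_lit 0), (nat_lit 2), (nat_lit 2), (nat_lit 1), (nat_lit 2)],
  [(nat_lit 1), (nat_lit 2), (nat_lit 1), (nat_lit 2), (nat_lit 2)],
  [(nat_lit 2), (nat_lit 1), (nat_lit 2), (nat_lit 1), (nat_lit 2)]]
noncomputable def HX_lB_h (c : ℕ) : ℕ := Nat.mod c (nat_lit 131)
theorem HX_lB_E {G : Type*} [Group G] {R : ℕ → G → Prop} {a b e x s c z y d r : G} {H : Subgroup G}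
    (M : Mdl HH_o HX_cs HH_L R [a, a⁻¹, b, b⁻¹, e, e⁻¹, x, x⁻¹, s, c, z, y, d, r] H) :
    EnumS R HX_lB (sp [a, b, r]) :=
  enumS_sp M.μ.1 (M.reps.tms M.μ.1 [(.v (nat_lit 0)), (.v (nat_lit 2)), (.v (nat_lit 13))] (cs' := [(nat_lit 0x876543021), (nat_lit 0x876354210), (nat_lit 0x876210453)]) (by decide +kernel))
    (Ws := HX_lB_W) (by decide +kernel) (by decide +kernel)
theorem HX_lB_c {G : Type*} [Group G] {R : ℕ → G → Prop} {a b e x s c z y d r : G} {H : Subgroup G}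
    (M : Mdl HH_o HX_cs HH_L R [a, a⁻¹, b, b⁻¹, e, e⁻¹, x, x⁻¹, s, c, z, y, d, r] H) :
    #(sp [a, b, r]) = 36 :=
  (HX_lB_E M).card M.μ (h := HX_lB_h) (by decide +kernel)
noncomputable def HX_lU : List ℕ := [(nat_lit 0x876543210), (nat_lit 0x876543021), (nat_lit 0x876354210), (nat_lit 0x876543102), (nat_lit 0x876354021), (nat_lit 0x876435210), (nat_lit 0x876354102), (nat_lit 0x876435021), (nat_lit 0x876435102)]
noncomputable def HX_lU_W : List (List ℕ) := [[],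
  [(nat_lit 0)],
  [(nat_lit 1)],
  [(nat_lit 0), (nat_lit 0)],
  [(nat_lit 0), (nat_lit 1)],
  [(nat_lit 1), (nat_lit 1)],
  [(nat_lit 0), (nat_lit 0), (nat_lit 1)],
  [(nat_lit 0), (nat_lit 1), (nat_lit 1)],
  [(nat_lit 0), (nat_lit 0), (nat_lit 1), (nat_lit 1)]]
noncomputable def HX_lU_h (c : ℕ) : ℕ := Nat.mod c (nat_lit 28)
theorem HX_lU_E {G : Type*} [Group G] {R : ℕ → G → Prop} {a b e x s c z y d r : G} {H : Subgroup G}
    (M : Mdl HH_o HX_cs HH_L R [a, a⁻¹, b, b⁻¹, e, e⁻¹, x, x⁻¹, s, c, z, y, d, r] H) :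
    EnumS R HX_lU (sp [a, b]) :=
  enumS_sp M.μ.1 (M.reps.tms M.μ.1 [(.v (nat_lit 0)), (.v (nat_lit 2))] (cs' := [(nat_lit 0x876543021), (nat_lit 0x876354210)]) (by decide +kernel))
    (Ws := HX_lU_W) (by decide +kernel) (by decide +kernel)
theorem HX_lU_c {G : Type*} [Group G] {R : ℕ → G → Prop} {a b e x s c z y d r : G} {H : Subgroup G}
    (M : Mdl HH_o HX_cs HH_L R [a, a⁻¹, b, b⁻¹, e, e⁻¹, x, x⁻¹, s, c, z, y, d, r] H) :
    #(sp [a, b]) = 9 :=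
  (HX_lU_E M).card M.μ (h := HX_lU_h) (by decide +kernel)
noncomputable def HX_lL : List ℕ := [(nat_lit 0x876543210), (nat_lit 0x876354021), (nat_lit 0x687543210), (nat_lit 0x876435102), (nat_lit 0x687354021), (nat_lit 0x768543210), (nat_lit 0x687435102), (nat_lit 0x768354021), (nat_lit 0x768435102)]
noncomputable def HX_lL_W : List (List ℕ) := [[],
  [(nat_lit 0)],
  [(nat_lit 1)],
  [(nat_lit 0), (nat_lit 0)],
  [(nat_lit 0), (nat_lit 1)],
  [(nat_lit 1), (nat_lit 1)],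
  [(nat_lit 0), (nat_lit 0), (nat_lit 1)],
  [(nat_lit 0), (nat_lit 1), (nat_lit 1)],
  [(nat_lit 0), (nat_lit 0), (nat_lit 1), (nat_lit 1)]]
noncomputable def HX_lL_h (c : ℕ) : ℕ := Nat.mod c (nat_lit 13)
theorem HX_lL_E {G : Type*} [Group G] {R : ℕ → G → Prop} {a b e x s c z y d r : G} {H : Subgroup G}
    (M : Mdl HH_o HX_cs HH_L R [a, a⁻¹, b, b⁻¹, e, e⁻¹, x, x⁻¹, s, c, z, y, d, r] H) :
    EnumS R HX_lL (sp [a * b, e]) :=
  enumS_sp M.μ.1 (M.reps.tms M.μ.1 [(.mul (.v (nat_lit 0)) (.v (nat_lit 2))), (.v (nat_lit 4))] (cs' := [(nat_lit 0x876354021), (nat_lit 0x687543210)]) (by decide +kernel))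
    (Ws := HX_lL_W) (by decide +kernel) (by decide +kernel)
theorem HX_lL_c {G : Type*} [Group G] {R : ℕ → G → Prop} {a b e x s c z y d r : G} {H : Subgroup G}
    (M : Mdl HH_o HX_cs HH_L R [a, a⁻¹, b, b⁻¹, e, e⁻¹, x, x⁻¹, s, c, z, y, d, r] H) :
    #(sp [a * b, e]) = 9 :=
  (HX_lL_E M).card M.μ (h := HX_lL_h) (by decide +kernel)
noncomputable def HX_lV : List ℕ := [(nat_lit 0x876543210), (nat_lit 0x210876543), (nat_lit 0x687354021), (nat_lit 0x543210876), (nat_lit 0x21687354), (nat_lit 0x768435102), (nat_lit 0x354021687), (nat_lit 0x102768435), (nat_lit 0x435102768)]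
noncomputable def HX_lV_W : List (List ℕ) := [[],
  [(nat_lit 0)],
  [(nat_lit 1)],
  [(nat_lit 0), (nat_lit 0)],
  [(nat_lit 0), (nat_lit 1)],
  [(nat_lit 1), (nat_lit 1)],
  [(nat_lit 0), (nat_lit 0), (nat_lit 1)],
  [(nat_lit 0), (nat_lit 1), (nat_lit 1)],
  [(nat_lit 0), (nat_lit 0), (nat_lit 1), (nat_lit 1)]]
noncomputable def HX_lV_h (c : ℕ) : ℕ := Nat.mod c (nat_lit 17)
theorem HX_lV_E {G : Type*} [Group G] {R : ℕ → G → Prop} {a b e x s c z y d r : G} {H : Subgroup G}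
    (M : Mdl HH_o HX_cs HH_L R [a, a⁻¹, b, b⁻¹, e, e⁻¹, x, x⁻¹, s, c, z, y, d, r] H) :
    EnumS R HX_lV (sp [x, z]) :=
  enumS_sp M.μ.1 (M.reps.tms M.μ.1 [(.v (nat_lit 6)), (.v (nat_lit 10))] (cs' := [(nat_lit 0x210876543), (nat_lit 0x687354021)]) (by decide +kernel))
    (Ws := HX_lV_W) (by decide +kernel) (by decide +kernel)
theorem HX_lV_c {G : Type*} [Group G] {R : ℕ → G → Prop} {a b e x s c z y d r : G} {H : Subgroup G}
    (M : Mdl HH_o HX_cs HH_L R [a, a⁻¹, b, b⁻¹, e, e⁻¹, x, x⁻¹, s, c, z, y, d, r] H) :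
    #(sp [x, z]) = 9 :=
  (HX_lV_E M).card M.μ (h := HX_lV_h) (by decide +kernel)
noncomputable def HX_lD : List ℕ := [(nat_lit 0x876543210), (nat_lit 0x687543210), (nat_lit 0x876543021), (nat_lit 0x768543210), (nat_lit 0x687543021), (nat_lit 0x876543102), (nat_lit 0x768543021), (nat_lit 0x687543102), (nat_lit 0x768543102)]
noncomputable def HX_lD_W : List (List ℕ) := [[],
  [(nat_lit 0)],
  [(nat_lit 1)],
  [(nat_lit 0), (nat_lit 0)],
  [(nat_lit 0), (nat_lit 1)],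
  [(nat_lit 1), (nat_lit 1)],
  [(nat_lit 0), (nat_lit 0), (nat_lit 1)],
  [(nat_lit 0), (nat_lit 1), (nat_lit 1)],
  [(nat_lit 0), (nat_lit 0), (nat_lit 1), (nat_lit 1)]]
noncomputable def HX_lD_h (c : ℕ) : ℕ := Nat.mod c (nat_lit 29)
theorem HX_lD_E {G : Type*} [Group G] {R : ℕ → G → Prop} {a b e x s c z y d r : G} {H : Subgroup G}
    (M : Mdl HH_o HX_cs HH_L R [a, a⁻¹, b, b⁻¹, e, e⁻¹, x, x⁻¹, s, c, z, y, d, r] H) :
    EnumS R HX_lD (sp [e, a]) :=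
  enumS_sp M.μ.1 (M.reps.tms M.μ.1 [(.v (nat_lit 4)), (.v (nat_lit 0))] (cs' := [(nat_lit 0x687543210), (nat_lit 0x876543021)]) (by decide +kernel))
    (Ws := HX_lD_W) (by decide +kernel) (by decide +kernel)
theorem HX_lD_c {G : Type*} [Group G] {R : ℕ → G → Prop} {a b e x s c z y d r : G} {H : Subgroup G}
    (M : Mdl HH_o HX_cs HH_L R [a, a⁻¹, b, b⁻¹, e, e⁻¹, x, x⁻¹, s, c, z, y, d, r] H) :
    #(sp [e, a]) = 9 :=
  (HX_lD_E M).card M.μ (h := HX_lD_h) (by decide +kernel)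
noncomputable def HX_lR : List ℕ := [(nat_lit 0x876543210), (nat_lit 0x876210453), (nat_lit 0x687543210), (nat_lit 0x876453120), (nat_lit 0x687210453), (nat_lit 0x768543210), (nat_lit 0x876120543), (nat_lit 0x687453120), (nat_lit 0x768210453), (nat_lit 0x687120543), (nat_lit 0x768453120), (nat_lit 0x768120543)]
noncomputable def HX_lR_W : List (List ℕ) := [[],
  [(nat_lit 0)],
  [(nat_lit 1)],
  [(nat_lit 0), (nat_lit 0)],
  [(nat_lit 0), (nat_lit 1)],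
  [(nat_lit 1), (nat_lit 1)],
  [(nat_lit 0), (nat_lit 0), (nat_lit 0)],
  [(nat_lit 0), (nat_lit 0), (nat_lit 1)],
  [(nat_lit 0), (nat_lit 1), (nat_lit 1)],
  [(nat_lit 0), (nat_lit 0), (nat_lit 0), (nat_lit 1)],
  [(nat_lit 0), (nat_lit 0), (nat_lit 1), (nat_lit 1)],
  [(nat_lit 0), (nat_lit 0), (nat_lit 0), (nat_lit 1), (nat_lit 1)]]
noncomputable def HX_lR_h (c : ℕ) : ℕ := Nat.mod c (nat_lit 47)
theorem HX_lR_E {G : Type*} [Group G] {R : ℕ → G → Prop} {a b e x s c z y d r : G} {H : Subgroup G}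
    (M : Mdl HH_o HX_cs HH_L R [a, a⁻¹, b, b⁻¹, e, e⁻¹, x, x⁻¹, s, c, z, y, d, r] H) :
    EnumS R HX_lR (sp [r, e]) :=
  enumS_sp M.μ.1 (M.reps.tms M.μ.1 [(.v (nat_lit 13)), (.v (nat_lit 4))] (cs' := [(nat_lit 0x876210453), (nat_lit 0x687543210)]) (by decide +kernel))
    (Ws := HX_lR_W) (by decide +kernel) (by decide +kernel)
theorem HX_lR_c {G : Type*} [Group G] {R : ℕ → G → Prop} {a b e x s c z y d r : G} {H : Subgroup G}
    (M : Mdl HH_o HX_cs HH_L R [a, a⁻¹, b, b⁻¹, e, e⁻¹, x, x⁻¹, s, c, z, y, d, r] H) :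
    #(sp [r, e]) = 12 :=
  (HX_lR_E M).card M.μ (h := HX_lR_h) (by decide +kernel)
noncomputable def HX_lT : List ℕ := [(nat_lit 0x876543210), (nat_lit 0x786120453), (nat_lit 0x786453210), (nat_lit 0x876120543), (nat_lit 0x876210453), (nat_lit 0x786543120), (nat_lit 0x786210543), (nat_lit 0x876453120)]
noncomputable def HX_lT_W : List (List ℕ) := [[],
  [(nat_lit 0)],
  [(nat_lit 1)],
  [(nat_lit 0), (nat_lit 1)],
  [(nat_lit 1), (nat_lit 0)],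
  [(nat_lit 0), (nat_lit 1), (nat_lit 0)],
  [(nat_lit 1), (nat_lit 0), (nat_lit 1)],
  [(nat_lit 0), (nat_lit 1), (nat_lit 0), (nat_lit 1)]]
noncomputable def HX_lT_h (c : ℕ) : ℕ := Nat.mod c (nat_lit 11)
theorem HX_lT_E {G : Type*} [Group G] {R : ℕ → G → Prop} {a b e x s c z y d r : G} {H : Subgroup G}
    (M : Mdl HH_o HX_cs HH_L R [a, a⁻¹, b, b⁻¹, e, e⁻¹, x, x⁻¹, s, c, z, y, d, r] H) :
    EnumS R HX_lT (sp [s, d]) :=
  enumS_sp M.μ.1 (M.reps.tms M.μ.1 [(.v (nat_lit 8)), (.v (nat_lit 12))] (cs' := [(nat_lit 0x786120453), (nat_lit 0x786453210)]) (by decide +kernel))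
    (Ws := HX_lT_W) (by decide +kernel) (by decide +kernel)
theorem HX_lT_c {G : Type*} [Group G] {R : ℕ → G → Prop} {a b e x s c z y d r : G} {H : Subgroup G}
    (M : Mdl HH_o HX_cs HH_L R [a, a⁻¹, b, b⁻¹, e, e⁻¹, x, x⁻¹, s, c, z, y, d, r] H) :
    #(sp [s, d]) = 8 :=
  (HX_lT_E M).card M.μ (h := HX_lT_h) (by decide +kernel)
noncomputable def HX_df_F : Fm := (.qf (.and (.eq (.v (nat_lit 10)) (.mul (.mul (.v (nat_lit 0)) (.v (nat_lit 2))) (.v (nat_lit 4)))) (.and (.eq (.v (nat_lit 11)) (.mul (.v (nat_lit 0)) (.inv (.v (nat_lit 2))))) (.and (.eq (.v (nat_lit 12)) (.mul (.mul (.v (nat_lit 6)) (.v (nat_lit 9))) (.inv (.v (nat_lit 6))))) (.and (.eq (.v (nat_lit 13)) (.mul (.v (nat_lit 8)) (.v (nat_lit 12)))) (.and (.eq (.v (nat_lit 9)) (.mul (.v (nat_lit 13)) (.v (nat_lit 13)))) (.eq (.v (nat_lit 8)) (.mul (.v (nat_lit 13)) (.v (nat_lit 12))))))))))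
theorem HX_df_chk : Fm.chk HH_o HX_df_F HX_cs = true := by decide +kernel
theorem HX_df {G : Type*} [Group G] {R : ℕ → G → Prop} {a b e x s c z y d r : G} {H : Subgroup G}
    (M : Mdl HH_o HX_cs HH_L R [a, a⁻¹, b, b⁻¹, e, e⁻¹, x, x⁻¹, s, c, z, y, d, r] H) :
    z = a * b * e ∧ y = a * b⁻¹ ∧ d = x * c * x⁻¹ ∧ r = s * d ∧ c = r * r ∧ s = r * d :=
  Fm.sound M.μ HX_df_F HX_df_chk M.reps
noncomputable def HX_e_F : Fm := (.qf (.and (.eq (.pw (.v (nat_lit 4)) (nat_lit 3)) .one) (.and (.not (.eq (.v (nat_lit 4)) .one)) (.and (.eq (.pw (.v (nat_lit 11)) (nat_lit 3)) .one) (.and (.not (.eq (.v (nat_lit 11)) .one)) (.and (.eq (.pw (.v (nat_lit 10)) (nat_lit 3)) .one) (.and (.not (.eq (.v (nat_lit 10)) .one)) (.and (.eq (.pw (.v (nat_lit 6)) (nat_lit 3)) .one) (.and (.not (.eq (.v (nat_lit 6)) .one)) (.and (.eq (.mul (.v (nat_lit 8)) (.v (nat_lit 8))) .one) (.and (.not (.eq (.v (nat_lit 8)) .one))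 (.and (.eq (.mul (.v (nat_lit 9)) (.v (nat_lit 9))) .one) (.and (.not (.eq (.v (nat_lit 9)) .one)) (.and (.eq (.mul (.v (nat_lit 12)) (.v (nat_lit 12))) .one) (.and (.eq (.pw (.v (nat_lit 13)) (nat_lit 4)) .one) (.and (.not (.eq (.v (nat_lit 0)) .one)) (.and (.not (.eq (.v (nat_lit 2)) .one)) (.not (.eq (.mul (.v (nat_lit 0)) (.v (nat_lit 2))) .one)))))))))))))))))))
theorem HX_e_chk : Fm.chk HH_o HX_e_F HX_cs = true := by decide +kernel
theorem HX_e {G : Type*} [Group G] {R : ℕ → G → Prop} {a b e x s c z y d r : G} {H : Subgroup G}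
    (M : Mdl HH_o HX_cs HH_L R [a, a⁻¹, b, b⁻¹, e, e⁻¹, x, x⁻¹, s, c, z, y, d, r] H) :
    e ^ 3 = 1 ∧ e ≠ 1 ∧ y ^ 3 = 1 ∧ y ≠ 1 ∧ z ^ 3 = 1 ∧ z ≠ 1 ∧ x ^ 3 = 1 ∧ x ≠ 1 ∧ s * s = 1 ∧ s ≠ 1 ∧ c * c = 1 ∧ c ≠ 1 ∧ d * d = 1 ∧ r ^ 4 = 1 ∧ a ≠ 1 ∧ b ≠ 1 ∧ a * b ≠ 1 :=
  Fm.sound M.μ HX_e_F HX_e_chk M.reps
noncomputable def HX_f_F : Fm := (.qf (.and (.eq (.mul (.v (nat_lit 8)) (.v (nat_lit 11))) (.mul (.v (nat_lit 11)) (.v (nat_lit 8)))) (.and (.eq (.mul (.v (nat_lit 13)) (.v (nat_lit 4))) (.mul (.v (nat_lit 4)) (.v (nat_lit 13)))) (.and (.eq (.mul (.v (nat_lit 9)) (.v (nat_lit 4))) (.mul (.v (nat_lit 4)) (.v (nat_lit 9)))) (.and (.eq (.mul (.v (nat_lit 8)) (.v (nat_lit 9))) (.mul (.v (nat_lit 9)) (.v (nat_lit 8)))) (.and (.eq (.mul (.mul (.v (nat_lit 9)) (.v (nat_lit 11))) (.inv (.v (nat_lit 9)))) (.inv (.v (nat_lit 11)))) (.and (.eq (.mul (.mul (.v (nat_lit 8)) (.v (nat_lit 4))) (.inv (.v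 (nat_lit 8)))) (.inv (.v (nat_lit 4)))) (.and (.eq (.mul (.mul (.v (nat_lit 8)) (.mul (.v (nat_lit 0)) (.v (nat_lit 2)))) (.inv (.v (nat_lit 8)))) (.inv (.mul (.v (nat_lit 0)) (.v (nat_lit 2))))) (.and (.eq (.mul (.mul (.v (nat_lit 9)) (.v (nat_lit 0))) (.inv (.v (nat_lit 9)))) (.inv (.v (nat_lit 0)))) (.and (.eq (.mul (.mul (.v (nat_lit 9)) (.v (nat_lit 2))) (.inv (.v (nat_lit 9)))) (.inv (.v (nat_lit 2)))) (.and (.eq (.mul (.mul (.v (nat_lit 12)) (.v (nat_lit 8))) (.inv (.v (nat_lit 12)))) (.mul (.v (nat_lit 9)) (.v (nat_lit 8)))) (.and (.eq (.mul (.v (nat_lit 12)) (.v (nat_lit 9))) (.mul (.v (nat_lit 9)) (.v (nat_lit 12)))) (.and (.eq (.mul (.mul (.v (nat_lit 6)) (.v (nat_lit 12))) (.inv (.v (nat_lit 6)))) (.mul (.v (nat_lit 9)) (.v (nat_lit 12)))) (.and (.eq (.mul (.mul (.inv (.v (nat_lit 6))) (.v (nat_lit 9))) (.v (nat_lit 6))) (.mul (.v (nat_lit 9)) (.v (nat_lit 12)))) (.and (.eq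 (.mul (.mul (.inv (.v (nat_lit 6))) (.v (nat_lit 12))) (.v (nat_lit 6))) (.v (nat_lit 9))) (.and (.eq (.mul (.mul (.inv (.v (nat_lit 6))) (.v (nat_lit 4))) (.v (nat_lit 6))) (.v (nat_lit 2))) (.eq (.mul (.mul (.inv (.v (nat_lit 6))) (.v (nat_lit 0))) (.v (nat_lit 6))) (.v (nat_lit 4)))))))))))))))))))
theorem HX_f_chk : Fm.chk HH_o HX_f_F HX_cs = true := by decide +kernel
theorem HX_f {G : Type*} [Group G] {R : ℕ → G → Prop} {a b e x s c z y d r : G} {H : Subgroup G}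
    (M : Mdl HH_o HX_cs HH_L R [a, a⁻¹, b, b⁻¹, e, e⁻¹, x, x⁻¹, s, c, z, y, d, r] H) :
    s * y = y * s ∧ r * e = e * r ∧ c * e = e * c ∧ s * c = c * s ∧ c * y * c⁻¹ = y⁻¹ ∧ s * e * s⁻¹ = e⁻¹ ∧ s * (a * b) * s⁻¹ = (a * b)⁻¹ ∧ c * a * c⁻¹ = a⁻¹ ∧ c * b * c⁻¹ = b⁻¹ ∧ d * s * d⁻¹ = c * s ∧ d * c = c * d ∧ x * d * x⁻¹ = c * d ∧ x⁻¹ * c * x = c * d ∧ x⁻¹ * d * x = c ∧ x⁻¹ * e * x = b ∧ x⁻¹ * a * x = e :=
  Fm.sound M.μ HX_f_F HX_f_chk M.reps
noncomputable def HX_g_F : Fm := (.qf (.and (.eq (.mul (.v (nat_lit 6)) (.v (nat_lit 10))) (.mul (.v (nat_lit 10)) (.v (nat_lit 6)))) (.and (.eq (.mul (.v (nat_lit 11)) (.v (nat_lit 10))) (.mul (.v (nat_lit 10)) (.v (nat_lit 11)))) (.and (.eq (.mul (.mul (.v (nat_lit 11)) (.v (nat_lit 6))) (.inv (.v (nat_lit 11)))) (.mul (.v (nat_lit 6)) (.v (nat_lit 10)))) (.and (.eq (.mul (.mul (.v (nat_lit 8)) (.v (nat_lit 6))) (.inv (.v (nat_lit 8)))) (.inv (.v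 (nat_lit 6)))) (.and (.eq (.mul (.mul (.v (nat_lit 8)) (.v (nat_lit 10))) (.inv (.v (nat_lit 8)))) (.inv (.v (nat_lit 10)))) (.and (.not (.mem (.v (nat_lit 6)) HX_lJ)) (.and (.mem (.v (nat_lit 11)) HX_lJ) (.and (.mem (.v (nat_lit 10)) HX_lJ) (.and (.not (.mem (.v (nat_lit 4)) HX_lU)) (.and (.not (.eq (.v (nat_lit 9)) (.v (nat_lit 12)))) (.and (.eq (.mul (.v (nat_lit 13)) (.v (nat_lit 8))) (.mul (.v (nat_lit 12)) (.v (nat_lit 9)))) (.and (.eq (.mul (.mul (.v (nat_lit 12)) (.v (nat_lit 4))) (.inv (.v (nat_lit 12)))) (.inv (.v (nat_lit 4)))) (.eq (.mul (.v (nat_lit 12)) (.v (nat_lit 0))) (.mul (.v (nat_lit 0)) (.v (nat_lit 12)))))))))))))))))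
theorem HX_g_chk : Fm.chk HH_o HX_g_F HX_cs = true := by decide +kernel
theorem HX_g {G : Type*} [Group G] {R : ℕ → G → Prop} {a b e x s c z y d r : G} {H : Subgroup G}
    (M : Mdl HH_o HX_cs HH_L R [a, a⁻¹, b, b⁻¹, e, e⁻¹, x, x⁻¹, s, c, z, y, d, r] H) :
    x * z = z * x ∧ y * z = z * y ∧ y * x * y⁻¹ = x * z ∧ s * x * s⁻¹ = x⁻¹ ∧ s * z * s⁻¹ = z⁻¹ ∧ x ∉ sp [a, b, e] ∧ y ∈ sp [a, b, e] ∧ z ∈ sp [a, b, e] ∧ e ∉ sp [a, b] ∧ c ≠ d ∧ r * s = d * c ∧ d * e * d⁻¹ = e⁻¹ ∧ d * a = a * d :=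
  have h : x * z = z * x ∧ y * z = z * y ∧ y * x * y⁻¹ = x * z ∧ s * x * s⁻¹ = x⁻¹ ∧ s * z * s⁻¹ = z⁻¹ ∧ ¬ InS R HX_lJ (x) ∧ InS R HX_lJ (y) ∧ InS R HX_lJ (z) ∧ ¬ InS R HX_lU (e) ∧ c ≠ d ∧ r * s = d * c ∧ d * e * d⁻¹ = e⁻¹ ∧ d * a = a * d :=
    Fm.sound M.μ HX_g_F HX_g_chk M.reps
  ((and_congr Iff.rfl (and_congr Iff.rfl (and_congr Iff.rfl (and_congr Iff.rfl (and_congr Iff.rfl (and_congr (not_congr (HX_lJ_E M).iff) (and_congr (HX_lJ_E M).iff (and_congr (HX_lJ_E M).iff (and_congr (not_congr (HX_lU_E M).iff) Iff.rfl))))))))).1 h)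
noncomputable def HX_J3_F : Fm := (.allS HX_lJ (.qf (.and (.eq (.pw (.v (nat_lit 0)) (nat_lit 3)) .one) (.and (.eq (.mul (.v (nat_lit 0)) (.v (nat_lit 1))) (.mul (.v (nat_lit 1)) (.v (nat_lit 0)))) (.and (.eq (.mul (.v (nat_lit 0)) (.v (nat_lit 3))) (.mul (.v (nat_lit 3)) (.v (nat_lit 0)))) (.and (.eq (.mul (.v (nat_lit 0)) (.v (nat_lit 5))) (.mul (.v (nat_lit 5)) (.v (nat_lit 0)))) (.and (.eq (.mul (.v (nat_lit 0)) (.v (nat_lit 12))) (.mul (.v (nat_lit 12)) (.v (nat_lit 0)))) (.eq (.mul (.v (nat_lit 0)) (.v (nat_lit 11))) (.mul (.v (nat_lit 11)) (.v (nat_lit 0)))))))))))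
theorem HX_J3_chk : Fm.chk HH_o HX_J3_F HX_cs = true := by decide +kernel
theorem HX_J3 {G : Type*} [Group G] {R : ℕ → G → Prop} {a b e x s c z y d r : G} {H : Subgroup G}
    (M : Mdl HH_o HX_cs HH_L R [a, a⁻¹, b, b⁻¹, e, e⁻¹, x, x⁻¹, s, c, z, y, d, r] H) :
    ∀ j ∈ sp [a, b, e], j ^ 3 = 1 ∧ j * a = a * j ∧ j * b = b * j ∧ j * e = e * j ∧ j * y = y * j ∧ j * z = z * j :=
  have h : ∀ j, InS R HX_lJ j → j ^ 3 = 1 ∧ j * a = a * j ∧ j * b = b * j ∧ j * e = e * j ∧ j * y = y * j ∧ j * z = z * j :=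
    Fm.sound M.μ HX_J3_F HX_J3_chk M.reps
  (fun j h0 => (h j ((HX_lJ_E M).iff.2 h0)))
noncomputable def HX_cls_t0 : ST := (.node (nat_lit 37) (.node (nat_lit 26) (.node (nat_lit 21) (.node (nat_lit 16) (.leaf (nat_lit 351)) (.node (nat_lit 18) (.leaf (nat_lit 490)) (.leaf (nat_lit 162)))) (.node (nat_lit 23) (.leaf (nat_lit 328)) (.node (nat_lit 24) (.leaf (nat_lit 486)) (.leaf (nat_lit 27))))) (.node (nat_lit 31) (.node (nat_lit 27) (.leaf (nat_lit 4)) (.node (nat_lit 28) (.leaf (nat_lit 0)) (.leaf (nat_lit 27)))) (.node (nat_lit 34) (.leaf (nat_lit 166)) (.node (nat_lit 35) (.leaf (nat_lit 351)) (.leaf (nat_lit 162)))))) (.node (nat_lit 60) (.node (nat_lit 43) (.node (nat_lit 38) (.leaf (nat_lit 324)) (.node (nat_lit 40) (.leaf (nat_lit 351)) (.leaf (nat_lit 486)))) (.node (nat_lit 46) (.leaf (nat_lit 27)) (.node (nat_lit 55) (.leaf (nat_lit 166)) (.leaf (nat_lit 0))))) (.node (nat_lit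 76) (.node (nat_lit 65) (.leaf (nat_lit 513)) (.node (nat_lit 70) (.leaf (nat_lit 189)) (.leaf (nat_lit 324)))) (.node (nat_lit 82) (.node (nat_lit 77) (.leaf (nat_lit 513)) (.leaf (nat_lit 324))) (.node (nat_lit 88) (.leaf (nat_lit 0)) (.leaf (nat_lit 4)))))))
noncomputable def HX_cls_F : Fm := (.allS HX_lJ (.or (.qf (.eq (.v (nat_lit 0)) .one)) (.exF HH_L (fun cs => HX_cls_t0.find (Nat.mod (nth (nat_lit 0) cs (nat_lit 0)) (nat_lit 89))) (.qf (.or (.eq (.mul (.mul (.v (nat_lit 0)) (.v (nat_lit 1))) (.inv (.v (nat_lit 0)))) (.v (nat_lit 6))) (.or (.eq (.mul (.mul (.v (nat_lit 0)) (.v (nat_lit 1))) (.inv (.v (nat_lit 0)))) (.v (nat_lit 13))) (.eq (.mul (.mul (.v (nat_lit 0)) (.v (nat_lit 1))) (.inv (.v (nat_lit 0)))) (.v (nat_lit 12)))))))))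
theorem HX_cls_chk : Fm.chk HH_o HX_cls_F HX_cs = true := by decide +kernel
theorem HX_cls {G : Type*} [Group G] {R : ℕ → G → Prop} {a b e x s c z y d r : G} {H : Subgroup G}
    (M : Mdl HH_o HX_cs HH_L R [a, a⁻¹, b, b⁻¹, e, e⁻¹, x, x⁻¹, s, c, z, y, d, r] H) :
    ∀ j ∈ sp [a, b, e], j = 1 ∨ (∃ m ∈ H, m * j * m⁻¹ = e ∨ m * j * m⁻¹ = y ∨ m * j * m⁻¹ = z) :=
  have h : ∀ j, InS R HX_lJ j → j = 1 ∨ (Good HH_o R HH_L → prods HH_o HH_L HH_o.one ≠ [] → ∃ m, InL HH_o R HH_L m ∧ (m * j * m⁻¹ = e ∨ m * j * m⁻¹ = y ∨ m * j * m⁻¹ = z)) :=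
    Fm.sound M.μ HX_cls_F HX_cls_chk M.reps
  (fun j h0 => (Or.imp (fun h1 => h1) (fun h1 => (Exists.imp (fun m h2 => ⟨M.H.iff.1 h2.1, h2.2⟩) (h1 M.H.good M.H.ne))) (h j ((HX_lJ_E M).iff.2 h0))))
noncomputable def HX_nc_F : Fm := (.all HH_L (.qf (.and (.not (.eq (.mul (.mul (.v (nat_lit 0)) (.v (nat_lit 5))) (.inv (.v (nat_lit 0)))) (.v (nat_lit 12)))) (.and (.not (.eq (.mul (.mul (.v (nat_lit 0)) (.v (nat_lit 5))) (.inv (.v (nat_lit 0)))) (.v (nat_lit 11)))) (.and (.not (.eq (.mul (.mul (.v (nat_lit 0)) (.v (nat_lit 12))) (.inv (.v (nat_lit 0)))) (.v (nat_lit 11)))) (.eq (.pw (.v (nat_lit 0)) (nat_lit 36)) .one))))))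
theorem HX_nc_chk : Fm.chk HH_o HX_nc_F HX_cs = true := by decide +kernel
theorem HX_nc {G : Type*} [Group G] {R : ℕ → G → Prop} {a b e x s c z y d r : G} {H : Subgroup G}
    (M : Mdl HH_o HX_cs HH_L R [a, a⁻¹, b, b⁻¹, e, e⁻¹, x, x⁻¹, s, c, z, y, d, r] H) :
    ∀ m ∈ H, m * e * m⁻¹ ≠ y ∧ m * e * m⁻¹ ≠ z ∧ m * y * m⁻¹ ≠ z ∧ m ^ 36 = 1 :=
  have h : ∀ m, InL HH_o R HH_L m → m * e * m⁻¹ ≠ y ∧ m * e * m⁻¹ ≠ z ∧ m * y * m⁻¹ ≠ z ∧ m ^ 36 = 1 :=
    Fm.sound M.μ HX_nc_F HX_nc_chk M.reps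
  (fun m h0 => (h m (M.H.iff.2 h0)))
noncomputable def HX_S_F : Fm := (.allS HX_lS (.qf (.and (.eq (.pw (.v (nat_lit 0)) (nat_lit 9)) .one) (.and (.eq (.mul (.v (nat_lit 0)) (.v (nat_lit 11))) (.mul (.v (nat_lit 11)) (.v (nat_lit 0)))) (.and (.not (.eq (.mul (.mul (.v (nat_lit 0)) (.v (nat_lit 7))) (.inv (.v (nat_lit 0)))) (.mul (.inv (.v (nat_lit 7))) (.v (nat_lit 11))))) (.and (.or (.not (.eq (.mul (.v (nat_lit 0)) (.v (nat_lit 7))) (.mul (.v (nat_lit 7)) (.v (nat_lit 0))))) (.mem (.v (nat_lit 0)) HX_lV)) (.or (.not (.mem (.mul (.mul (.v (nat_lit 10)) (.v (nat_lit 0))) (.inv (.v (nat_lit 10)))) HX_lS)) (.mem (.v (nat_lit 0)) HX_lJ))))))))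
theorem HX_S_chk : Fm.chk HH_o HX_S_F HX_cs = true := by decide +kernel
theorem HX_S {G : Type*} [Group G] {R : ℕ → G → Prop} {a b e x s c z y d r : G} {H : Subgroup G}
    (M : Mdl HH_o HX_cs HH_L R [a, a⁻¹, b, b⁻¹, e, e⁻¹, x, x⁻¹, s, c, z, y, d, r] H) :
    ∀ g ∈ sp [a, b, e, x], g ^ 9 = 1 ∧ g * z = z * g ∧ g * x * g⁻¹ ≠ x⁻¹ * z ∧ (g * x ≠ x * g ∨ g ∈ sp [x, z]) ∧ (c * g * c⁻¹ ∉ sp [a, b, e, x] ∨ g ∈ sp [a, b, e]) :=
  have h : ∀ g, InS R HX_lS g → g ^ 9 = 1 ∧ g * z = z * g ∧ g * x * g⁻¹ ≠ x⁻¹ * z ∧ (g * x ≠ x * g ∨ InS R HX_lV (g)) ∧ (¬ InS R HX_lS (c * g * c⁻¹) ∨ InS R HX_lJ (g)) :=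
    Fm.sound M.μ HX_S_F HX_S_chk M.reps
  (fun g h0 => ((and_congr Iff.rfl (and_congr Iff.rfl (and_congr Iff.rfl (and_congr (or_congr Iff.rfl (HX_lV_E M).iff) (or_congr (not_congr (HX_lS_E M).iff) (HX_lJ_E M).iff))))).1 (h g ((HX_lS_E M).iff.2 h0))))
noncomputable def HX_cJ_F : Fm := (.allS HX_lS (.or (.qf (.mem (.v (nat_lit 0)) HX_lJ)) (.allS HX_lJ (.imp (.eq (.mul (.v (nat_lit 0)) (.v (nat_lit 1))) (.mul (.v (nat_lit 1)) (.v (nat_lit 0)))) (.qf (.or (.eq (.v (nat_lit 0)) .one) (.or (.eq (.v (nat_lit 0)) (.v (nat_lit 12))) (.eq (.v (nat_lit 0)) (.inv (.v (nat_lit 12)))))))))))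
theorem HX_cJ_chk : Fm.chk HH_o HX_cJ_F HX_cs = true := by decide +kernel
theorem HX_cJ {G : Type*} [Group G] {R : ℕ → G → Prop} {a b e x s c z y d r : G} {H : Subgroup G}
    (M : Mdl HH_o HX_cs HH_L R [a, a⁻¹, b, b⁻¹, e, e⁻¹, x, x⁻¹, s, c, z, y, d, r] H) :
    ∀ u ∈ sp [a, b, e, x], u ∈ sp [a, b, e] ∨ (∀ k ∈ sp [a, b, e], k * u = u * k → k = 1 ∨ k = z ∨ k = z⁻¹) :=
  have h : ∀ u, InS R HX_lS u → InS R HX_lJ (u) ∨ (∀ k, InS R HX_lJ k → k * u = u * k → k = 1 ∨ k = z ∨ k = z⁻¹) :=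
    Fm.sound M.μ HX_cJ_F HX_cJ_chk M.reps
  (fun u h0 => (Or.imp (fun h1 => ((HX_lJ_E M).iff.1 h1)) (fun h1 => (fun k h2 => (h1 k ((HX_lJ_E M).iff.2 h2)))) (h u ((HX_lS_E M).iff.2 h0))))
noncomputable def HX_cz_F : Fm := (.all HH_L (.imp (.eq (.mul (.v (nat_lit 0)) (.v (nat_lit 11))) (.mul (.v (nat_lit 11)) (.v (nat_lit 0)))) (.qf (.mem (.v (nat_lit 0)) HX_lS))))
theorem HX_cz_chk : Fm.chk HH_o HX_cz_F HX_cs = true := by decide +kernel
theorem HX_cz {G : Type*} [Group G] {R : ℕ → G → Prop} {a b e x s c z y d r : G} {H : Subgroup G}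
    (M : Mdl HH_o HX_cs HH_L R [a, a⁻¹, b, b⁻¹, e, e⁻¹, x, x⁻¹, s, c, z, y, d, r] H) :
    ∀ m ∈ H, m * z = z * m → m ∈ sp [a, b, e, x] :=
  have h : ∀ m, InL HH_o R HH_L m → m * z = z * m → InS R HX_lS (m) :=
    Fm.sound M.μ HX_cz_F HX_cz_chk M.reps
  (fun m h0 => (fun h1 => ((HX_lS_E M).iff.1 ((h m (M.H.iff.2 h0)) h1))))
noncomputable def HX_cy_F : Fm := (.all HH_L (.imp (.eq (.mul (.v (nat_lit 0)) (.v (nat_lit 12))) (.mul (.v (nat_lit 12)) (.v (nat_lit 0)))) (.and (.qf (.mem (.v (nat_lit 0)) HX_lY)) (.and (.qf (.or (.mem (.v (nat_lit 0)) HX_lJ) (.mem (.mul (.v (nat_lit 9)) (.v (nat_lit 0))) HX_lJ))) (.allS HX_lJ (.qf (.mem (.mul (.inv (.v (nat_lit 0))) (.mul (.mul (.v (nat_lit 1)) (.v (nat_lit 0))) (.inv (.v (nat_lit 1))))) HX_lL)))))))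
theorem HX_cy_chk : Fm.chk HH_o HX_cy_F HX_cs = true := by decide +kernel
theorem HX_cy {G : Type*} [Group G] {R : ℕ → G → Prop} {a b e x s c z y d r : G} {H : Subgroup G}
    (M : Mdl HH_o HX_cs HH_L R [a, a⁻¹, b, b⁻¹, e, e⁻¹, x, x⁻¹, s, c, z, y, d, r] H) :
    ∀ m ∈ H, m * y = y * m → m ∈ sp [a, b, e, s] ∧ (m ∈ sp [a, b, e] ∨ s * m ∈ sp [a, b, e]) ∧ (∀ j ∈ sp [a, b, e], j⁻¹ * (m * j * m⁻¹) ∈ sp [a * b, e]) :=
  have h : ∀ m, InL HH_o R HH_L m → m * y = y * m → InS R HX_lY (m) ∧ (InS R HX_lJ (m) ∨ InS R HX_lJ (s * m)) ∧ (∀ j, InS R HX_lJ j → InS R HX_lL (j⁻¹ * (m * j * m⁻¹))) :=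
    Fm.sound M.μ HX_cy_F HX_cy_chk M.reps
  (fun m h0 => (fun h1 => (And.imp (fun h2 => ((HX_lY_E M).iff.1 h2)) (fun h2 => (And.imp (fun h3 => ((or_congr (HX_lJ_E M).iff (HX_lJ_E M).iff).1 h3)) (fun h3 => (fun j h4 => ((HX_lL_E M).iff.1 (h3 j ((HX_lJ_E M).iff.2 h4))))) h2)) ((h m (M.H.iff.2 h0)) h1))))
noncomputable def HX_ce_F : Fm := (.all HH_L (.imp (.eq (.mul (.v (nat_lit 0)) (.v (nat_lit 5))) (.mul (.v (nat_lit 5)) (.v (nat_lit 0)))) (.and (.qf (.mem (.v (nat_lit 0)) HX_lE)) (.and (.qf (.or (.mem (.v (nat_lit 0)) HX_lB) (.or (.mem (.mul (.v (nat_lit 0)) (.v (nat_lit 5))) HX_lB) (.mem (.mul (.v (nat_lit 0)) (.inv (.v (nat_lit 5)))) HX_lB)))) (.allS HX_lJ (.qf (.mem (.mul (.inv (.v (nat_lit 0))) (.mul (.mul (.v (nat_lit 1)) (.v (nat_lit 0))) (.inv (.v (nat_lit 1))))) HX_lU)))))))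
theorem HX_ce_chk : Fm.chk HH_o HX_ce_F HX_cs = true := by decide +kernel
theorem HX_ce {G : Type*} [Group G] {R : ℕ → G → Prop} {a b e x s c z y d r : G} {H : Subgroup G}
    (M : Mdl HH_o HX_cs HH_L R [a, a⁻¹, b, b⁻¹, e, e⁻¹, x, x⁻¹, s, c, z, y, d, r] H) :
    ∀ m ∈ H, m * e = e * m → m ∈ sp [a, b, e, r] ∧ (m ∈ sp [a, b, r] ∨ m * e ∈ sp [a, b, r] ∨ m * e⁻¹ ∈ sp [a, b, r]) ∧ (∀ j ∈ sp [a, b, e], j⁻¹ * (m * j * m⁻¹) ∈ sp [a, b]) :=
  have h : ∀ m, InL HH_o R HH_L m → m * e = e * m → InS R HX_lE (m) ∧ (InS R HX_lB (m) ∨ InS R HX_lB (m * e) ∨ InS R HX_lB (m * e⁻¹)) ∧ (∀ j, InS R HX_lJ j → InS R HX_lU (j⁻¹ * (m * j * m⁻¹))) :=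
    Fm.sound M.μ HX_ce_F HX_ce_chk M.reps
  (fun m h0 => (fun h1 => (And.imp (fun h2 => ((HX_lE_E M).iff.1 h2)) (fun h2 => (And.imp (fun h3 => ((or_congr (HX_lB_E M).iff (or_congr (HX_lB_E M).iff (HX_lB_E M).iff)).1 h3)) (fun h3 => (fun j h4 => ((HX_lU_E M).iff.1 (h3 j ((HX_lJ_E M).iff.2 h4))))) h2)) ((h m (M.H.iff.2 h0)) h1))))
noncomputable def HX_L_F : Fm := (.allS HX_lL (.qf (.and (.eq (.mul (.mul (.v (nat_lit 9)) (.v (nat_lit 0))) (.inv (.v (nat_lit 9)))) (.inv (.v (nat_lit 0)))) (.mem (.v (nat_lit 0)) HX_lJ))))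
theorem HX_L_chk : Fm.chk HH_o HX_L_F HX_cs = true := by decide +kernel
theorem HX_L {G : Type*} [Group G] {R : ℕ → G → Prop} {a b e x s c z y d r : G} {H : Subgroup G}
    (M : Mdl HH_o HX_cs HH_L R [a, a⁻¹, b, b⁻¹, e, e⁻¹, x, x⁻¹, s, c, z, y, d, r] H) :
    ∀ j ∈ sp [a * b, e], s * j * s⁻¹ = j⁻¹ ∧ j ∈ sp [a, b, e] :=
  have h : ∀ j, InS R HX_lL j → s * j * s⁻¹ = j⁻¹ ∧ InS R HX_lJ (j) :=
    Fm.sound M.μ HX_L_F HX_L_chk M.reps
  (fun j h0 => ((and_congr Iff.rfl (HX_lJ_E M).iff).1 (h j ((HX_lL_E M).iff.2 h0))))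
noncomputable def HX_yL_F : Fm := (.allS HX_lJ (.qf (.or (.mem (.v (nat_lit 0)) HX_lL) (.or (.mem (.mul (.v (nat_lit 0)) (.v (nat_lit 12))) HX_lL) (.mem (.mul (.v (nat_lit 0)) (.inv (.v (nat_lit 12)))) HX_lL)))))
theorem HX_yL_chk : Fm.chk HH_o HX_yL_F HX_cs = true := by decide +kernel
theorem HX_yL {G : Type*} [Group G] {R : ℕ → G → Prop} {a b e x s c z y d r : G} {H : Subgroup G}
    (M : Mdl HH_o HX_cs HH_L R [a, a⁻¹, b, b⁻¹, e, e⁻¹, x, x⁻¹, s, c, z, y, d, r] H) :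
    ∀ j ∈ sp [a, b, e], j ∈ sp [a * b, e] ∨ j * y ∈ sp [a * b, e] ∨ j * y⁻¹ ∈ sp [a * b, e] :=
  have h : ∀ j, InS R HX_lJ j → InS R HX_lL (j) ∨ InS R HX_lL (j * y) ∨ InS R HX_lL (j * y⁻¹) :=
    Fm.sound M.μ HX_yL_F HX_yL_chk M.reps
  (fun j h0 => ((or_congr (HX_lL_E M).iff (or_congr (HX_lL_E M).iff (HX_lL_E M).iff)).1 (h j ((HX_lJ_E M).iff.2 h0))))
noncomputable def HX_eU_F : Fm := (.allS HX_lJ (.qf (.or (.mem (.v (nat_lit 0)) HX_lU) (.or (.mem (.mul (.v (nat_lit 0)) (.v (nat_lit 5))) HX_lU) (.mem (.mul (.v (nat_lit 0)) (.inv (.v (nat_lit 5)))) HX_lU)))))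
theorem HX_eU_chk : Fm.chk HH_o HX_eU_F HX_cs = true := by decide +kernel
theorem HX_eU {G : Type*} [Group G] {R : ℕ → G → Prop} {a b e x s c z y d r : G} {H : Subgroup G}
    (M : Mdl HH_o HX_cs HH_L R [a, a⁻¹, b, b⁻¹, e, e⁻¹, x, x⁻¹, s, c, z, y, d, r] H) :
    ∀ j ∈ sp [a, b, e], j ∈ sp [a, b] ∨ j * e ∈ sp [a, b] ∨ j * e⁻¹ ∈ sp [a, b] :=
  have h : ∀ j, InS R HX_lJ j → InS R HX_lU (j) ∨ InS R HX_lU (j * e) ∨ InS R HX_lU (j * e⁻¹) :=
    Fm.sound M.μ HX_eU_F HX_eU_chk M.reps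
  (fun j h0 => ((or_congr (HX_lU_E M).iff (or_congr (HX_lU_E M).iff (HX_lU_E M).iff)).1 (h j ((HX_lJ_E M).iff.2 h0))))
noncomputable def HX_U_t0 : ST := (.node (nat_lit 21) (.node (nat_lit 13) (.node (nat_lit 12) (.leaf (nat_lit 490)) (.leaf (nat_lit 328))) (.node (nat_lit 14) (.leaf (nat_lit 324)) (.leaf (nat_lit 162)))) (.node (nat_lit 25) (.node (nat_lit 22) (.leaf (nat_lit 0)) (.leaf (nat_lit 486))) (.node (nat_lit 26) (.leaf (nat_lit 189)) (.leaf (nat_lit 27)))))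
noncomputable def HX_U_F : Fm := (.allS HX_lU (.or (.qf (.eq (.v (nat_lit 0)) .one)) (.and (.exF HH_L (fun cs => HX_U_t0.find (Nat.mod (nth (nat_lit 0) cs (nat_lit 0)) (nat_lit 28))) (.qf (.or (.eq (.mul (.mul (.v (nat_lit 0)) (.v (nat_lit 1))) (.inv (.v (nat_lit 0)))) (.v (nat_lit 13))) (.eq (.mul (.mul (.v (nat_lit 0)) (.mul (.v (nat_lit 1)) (.v (nat_lit 6)))) (.inv (.v (nat_lit 0)))) (.v (nat_lit 13)))))) (.qf (.or (.eq (.v (nat_lit 0)) (.v (nat_lit 1))) (.or (.eq (.mul (.v (nat_lit 0)) (.mul (.mul (.v (nat_lit 14)) (.v (nat_lit 0))) (.inv (.v (nat_lit 14))))) (.v (nat_lit 1))) (.or (.eq (.mul (.v (nat_lit 0)) (.inv (.mul (.mul (.v (nat_lit 14)) (.v (nat_lit 0))) (.inv (.v (nat_lit 14)))))) (.v (nat_lit 1))) (.or (.eq (.mul (.mul (.v (nat_lit 14)) (.v (nat_lit 0))) (.inv (.v (nat_lit 14)))) (.v (nat_lit 1))) (.or (.eq (.inv (.v (nat_lit 0))) (.v (nat_lit 1))) (.or (.eq (.inv (.mul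 (.mul (.v (nat_lit 14)) (.v (nat_lit 0))) (.inv (.v (nat_lit 14))))) (.v (nat_lit 1))) (.or (.eq (.mul (.inv (.v (nat_lit 0))) (.mul (.mul (.v (nat_lit 14)) (.v (nat_lit 0))) (.inv (.v (nat_lit 14))))) (.v (nat_lit 1))) (.eq (.mul (.inv (.v (nat_lit 0))) (.inv (.mul (.mul (.v (nat_lit 14)) (.v (nat_lit 0))) (.inv (.v (nat_lit 14)))))) (.v (nat_lit 1))))))))))))))
theorem HX_U_chk : Fm.chk HH_o HX_U_F HX_cs = true := by decide +kernel
theorem HX_U {G : Type*} [Group G] {R : ℕ → G → Prop} {a b e x s c z y d r : G} {H : Subgroup G}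
    (M : Mdl HH_o HX_cs HH_L R [a, a⁻¹, b, b⁻¹, e, e⁻¹, x, x⁻¹, s, c, z, y, d, r] H) :
    ∀ t ∈ sp [a, b], t = 1 ∨ (∃ m ∈ H, m * t * m⁻¹ = y ∨ m * (t * e) * m⁻¹ = y) ∧ (t = a ∨ t * (r * t * r⁻¹) = a ∨ t * (r * t * r⁻¹)⁻¹ = a ∨ r * t * r⁻¹ = a ∨ t⁻¹ = a ∨ (r * t * r⁻¹)⁻¹ = a ∨ t⁻¹ * (r * t * r⁻¹) = a ∨ t⁻¹ * (r * t * r⁻¹)⁻¹ = a) :=
  have h : ∀ t, InS R HX_lU t → t = 1 ∨ (Good HH_o R HH_L → prods HH_o HH_L HH_o.one ≠ [] → ∃ m, InL HH_o R HH_L m ∧ (m * t * m⁻¹ = y ∨ m * (t * e) * m⁻¹ = y)) ∧ (t = a ∨ t * (r * t * r⁻¹) = a ∨ t * (r * t * r⁻¹)⁻¹ = a ∨ r * t * r⁻¹ = a ∨ t⁻¹ = a ∨ (r * t * r⁻¹)⁻¹ = a ∨ t⁻¹ * (r * t * r⁻¹) = a ∨ t⁻¹ * (r * t * r⁻¹)⁻¹ = a) :=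
    Fm.sound M.μ HX_U_F HX_U_chk M.reps
  (fun t h0 => (Or.imp (fun h1 => h1) (fun h1 => (And.imp (fun h2 => (Exists.imp (fun m h3 => ⟨M.H.iff.1 h3.1, h3.2⟩) (h2 M.H.good M.H.ne))) (fun h2 => h2) h1)) (h t ((HX_lU_E M).iff.2 h0))))
noncomputable def HX_cU_F : Fm := (.allS HX_lE (.allS HX_lU (.imp (.eq (.mul (.v (nat_lit 1)) (.v (nat_lit 0))) (.mul (.v (nat_lit 0)) (.v (nat_lit 1)))) (.qf (.or (.eq (.v (nat_lit 0)) .one) (.mem (.v (nat_lit 1)) HX_lJ))))))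
theorem HX_cU_chk : Fm.chk HH_o HX_cU_F HX_cs = true := by decide +kernel
theorem HX_cU {G : Type*} [Group G] {R : ℕ → G → Prop} {a b e x s c z y d r : G} {H : Subgroup G}
    (M : Mdl HH_o HX_cs HH_L R [a, a⁻¹, b, b⁻¹, e, e⁻¹, x, x⁻¹, s, c, z, y, d, r] H) :
    ∀ g ∈ sp [a, b, e, r], ∀ t ∈ sp [a, b], g * t = t * g → t = 1 ∨ g ∈ sp [a, b, e] :=
  have h : ∀ g, InS R HX_lE g → ∀ t, InS R HX_lU t → g * t = t * g → t = 1 ∨ InS R HX_lJ (g) :=
    Fm.sound M.μ HX_cU_F HX_cU_chk M.reps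
  (fun g h0 => (fun t h1 => (fun h2 => ((or_congr Iff.rfl (HX_lJ_E M).iff).1 (((h g ((HX_lE_E M).iff.2 h0)) t ((HX_lU_E M).iff.2 h1)) h2)))))
noncomputable def HX_o3_t0 : ST := (.node (nat_lit 210) (.node (nat_lit 106) (.node (nat_lit 62) (.node (nat_lit 33) (.node (nat_lit 18) (.node (nat_lit 9) (.leaf (nat_lit 567)) (.leaf (nat_lit 414))) (.node (nat_lit 29) (.leaf (nat_lit 504)) (.leaf (nat_lit 423)))) (.node (nat_lit 45) (.node (nat_lit 42) (.leaf (nat_lit 531)) (.leaf (nat_lit 270))) (.node (nat_lit 49) (.leaf (nat_lit 252)) (.node (nat_lit 53) (.leaf (nat_lit 432)) (.leaf (nat_lit 522)))))) (.node (nat_lit 80) (.node (nat_lit 69) (.node (nat_lit 67) (.leaf (nat_lit 216)) (.leaf (nat_lit 180))) (.node (nat_lit 73) (.leaf (nat_lit 234)) (.leaf (nat_lit 207)))) (.node (nat_lit 87) (.node (nat_lit 81) (.leaf (nat_lit 243)) (.leaf (nat_lit 360))) (.node (nat_lit 89) (.leaf (nat_lit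 342)) (.node (nat_lit 93) (.leaf (nat_lit 450)) (.leaf (nat_lit 621))))))) (.node (nat_lit 169) (.node (nat_lit 119) (.node (nat_lit 112) (.node (nat_lit 111) (.leaf (nat_lit 369)) (.leaf (nat_lit 477))) (.node (nat_lit 113) (.leaf (nat_lit 333)) (.leaf (nat_lit 468)))) (.node (nat_lit 136) (.node (nat_lit 120) (.leaf (nat_lit 171)) (.leaf (nat_lit 495))) (.node (nat_lit 144) (.leaf (nat_lit 315)) (.node (nat_lit 155) (.leaf (nat_lit 279)) (.leaf (nat_lit 549)))))) (.node (nat_lit 183) (.node (nat_lit 178) (.node (nat_lit 174) (.leaf (nat_lit 36)) (.leaf (nat_lit 90))) (.node (nat_lit 180) (.leaf (nat_lit 108)) (.leaf (nat_lit 198)))) (.node (nat_lit 197) (.node (nat_lit 188) (.leaf (nat_lit 9)) (.leaf (nat_lit 189))) (.node (nat_lit 201) (.leaf (nat_lit 324)) (.node (nat_lit 204) (.leaf (nat_lit 513)) (.leaf (nat_lit 405)))))))) (.node (nat_lit 293) (.node (nat_lit 265) (.node (nat_lit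 250) (.node (nat_lit 242) (.node (nat_lit 222) (.leaf (nat_lit 162)) (.leaf (nat_lit 378))) (.node (nat_lit 246) (.leaf (nat_lit 288)) (.leaf (nat_lit 144)))) (.node (nat_lit 255) (.node (nat_lit 254) (.leaf (nat_lit 594)) (.leaf (nat_lit 351))) (.node (nat_lit 257) (.leaf (nat_lit 72)) (.node (nat_lit 263) (.leaf (nat_lit 603)) (.leaf (nat_lit 486)))))) (.node (nat_lit 278) (.node (nat_lit 271) (.node (nat_lit 270) (.leaf (nat_lit 306)) (.leaf (nat_lit 576))) (.node (nat_lit 272) (.leaf (nat_lit 45)) (.leaf (nat_lit 585)))) (.node (nat_lit 281) (.node (nat_lit 280) (.leaf (nat_lit 297)) (.leaf (nat_lit 54))) (.node (nat_lit 284) (.leaf (nat_lit 459)) (.node (nat_lit 287) (.leaf (nat_lit 27)) (.leaf (nat_lit 387))))))) (.node (nat_lit 348) (.node (nat_lit 312) (.node (nat_lit 307) (.node (nat_lit 303) (.leaf (nat_lit 0)) (.leaf (nat_lit 99))) (.node (nat_lit 311) (.leaf (nat_lit 441))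 (.leaf (nat_lit 81)))) (.node (nat_lit 320) (.node (nat_lit 314) (.leaf (nat_lit 117)) (.leaf (nat_lit 225))) (.node (nat_lit 335) (.leaf (nat_lit 63)) (.node (nat_lit 340) (.leaf (nat_lit 639)) (.leaf (nat_lit 558)))))) (.node (nat_lit 362) (.node (nat_lit 356) (.node (nat_lit 353) (.leaf (nat_lit 612)) (.leaf (nat_lit 153))) (.node (nat_lit 360) (.leaf (nat_lit 396)) (.leaf (nat_lit 630)))) (.node (nat_lit 388) (.node (nat_lit 380) (.leaf (nat_lit 18)) (.leaf (nat_lit 261))) (.node (nat_lit 392) (.leaf (nat_lit 135)) (.node (nat_lit 397) (.leaf (nat_lit 540)) (.leaf (nat_lit 126)))))))))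
noncomputable def HX_o3_F : Fm := (.all HH_L (.imp (.eq (.pw (.v (nat_lit 0)) (nat_lit 3)) .one) (.or (.qf (.mem (.v (nat_lit 0)) HX_lJ)) (.exF HH_L (fun cs => HX_o3_t0.find (Nat.mod (nth (nat_lit 0) cs (nat_lit 0)) (nat_lit 437))) (.qf (.eq (.mul (.mul (.v (nat_lit 0)) (.v (nat_lit 1))) (.inv (.v (nat_lit 0)))) (.v (nat_lit 8))))))))
theorem HX_o3_chk : Fm.chk HH_o HX_o3_F HX_cs = true := by decide +kernel
theorem HX_o3 {G : Type*} [Group G] {R : ℕ → G → Prop} {a b e x s c z y d r : G} {H : Subgroup G}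
    (M : Mdl HH_o HX_cs HH_L R [a, a⁻¹, b, b⁻¹, e, e⁻¹, x, x⁻¹, s, c, z, y, d, r] H) :
    ∀ g ∈ H, g ^ 3 = 1 → g ∈ sp [a, b, e] ∨ (∃ m ∈ H, m * g * m⁻¹ = x) :=
  have h : ∀ g, InL HH_o R HH_L g → g ^ 3 = 1 → InS R HX_lJ (g) ∨ (Good HH_o R HH_L → prods HH_o HH_L HH_o.one ≠ [] → ∃ m, InL HH_o R HH_L m ∧ m * g * m⁻¹ = x) :=
    Fm.sound M.μ HX_o3_F HX_o3_chk M.reps
  (fun g h0 => (fun h1 => (Or.imp (fun h2 => ((HX_lJ_E M).iff.1 h2)) (fun h2 => (Exists.imp (fun m h3 => ⟨M.H.iff.1 h3.1, h3.2⟩) (h2 M.H.good M.H.ne))) ((h g (M.H.iff.2 h0)) h1))))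
noncomputable def HX_s3_t0 : ST := (.node (nat_lit 110) (.node (nat_lit 62) (.node (nat_lit 33) (.node (nat_lit 24) (.leaf (nat_lit 2)) (.leaf (nat_lit 0))) (.node (nat_lit 35) (.leaf (nat_lit 1)) (.leaf (nat_lit 16)))) (.node (nat_lit 98) (.node (nat_lit 89) (.leaf (nat_lit 3)) (.leaf (nat_lit 0))) (.node (nat_lit 100) (.leaf (nat_lit 7)) (.node (nat_lit 104) (.leaf (nat_lit 15)) (.leaf (nat_lit 2)))))) (.node (nat_lit 169) (.node (nat_lit 137) (.node (nat_lit 127) (.leaf (nat_lit 7)) (.leaf (nat_lit 5))) (.node (nat_lit 140) (.leaf (nat_lit 6)) (.leaf (nat_lit 15)))) (.node (nat_lit 194) (.node (nat_lit 175) (.leaf (nat_lit 6)) (.leaf (nat_lit 3))) (.node (nat_lit 202) (.leaf (nat_lit 5)) (.node (nat_lit 205) (.leaf (nat_lit 1)) (.leaf (nat_lit 16)))))))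
noncomputable def HX_s3_F : Fm := (.allS HX_lS (.imp (.eq (.pw (.v (nat_lit 0)) (nat_lit 3)) .one) (.or (.qf (.mem (.v (nat_lit 0)) HX_lJ)) (.exG HX_lS (fun cs => HX_s3_t0.find (Nat.mod (nth (nat_lit 0) cs (nat_lit 0)) (nat_lit 242))) (.qf (.or (.eq (.mul (.mul (.v (nat_lit 0)) (.v (nat_lit 1))) (.inv (.v (nat_lit 0)))) (.v (nat_lit 8))) (.eq (.mul (.mul (.v (nat_lit 0)) (.v (nat_lit 1))) (.inv (.v (nat_lit 0)))) (.inv (.v (nat_lit 8))))))))))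
theorem HX_s3_chk : Fm.chk HH_o HX_s3_F HX_cs = true := by decide +kernel
theorem HX_s3 {G : Type*} [Group G] {R : ℕ → G → Prop} {a b e x s c z y d r : G} {H : Subgroup G}
    (M : Mdl HH_o HX_cs HH_L R [a, a⁻¹, b, b⁻¹, e, e⁻¹, x, x⁻¹, s, c, z, y, d, r] H) :
    ∀ t ∈ sp [a, b, e, x], t ^ 3 = 1 → t ∈ sp [a, b, e] ∨ (∃ j ∈ sp [a, b, e, x], j * t * j⁻¹ = x ∨ j * t * j⁻¹ = x⁻¹) :=
  have h : ∀ t, InS R HX_lS t → t ^ 3 = 1 → InS R HX_lJ (t) ∨ (GoodS R HX_lS → HX_lS ≠ [] → ∃ j, InS R HX_lS j ∧ (j * t * j⁻¹ = x ∨ j * t * j⁻¹ = x⁻¹)) :=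
    Fm.sound M.μ HX_s3_F HX_s3_chk M.reps
  (fun t h0 => (fun h1 => (Or.imp (fun h2 => ((HX_lJ_E M).iff.1 h2)) (fun h2 => (Exists.imp (fun j h3 => ⟨(HX_lS_E M).iff.1 h3.1, h3.2⟩) (h2 (HX_lS_E M).good (HX_lS_E M).ne))) ((h t ((HX_lS_E M).iff.2 h0)) h1))))
noncomputable def HX_V_F : Fm := (.allS HX_lV (.qf (.and (.eq (.pw (.v (nat_lit 0)) (nat_lit 3)) .one) (.and (.eq (.mul (.mul (.v (nat_lit 9)) (.v (nat_lit 0))) (.inv (.v (nat_lit 9)))) (.inv (.v (nat_lit 0)))) (.and (.eq (.mul (.v (nat_lit 0)) (.v (nat_lit 7))) (.mul (.v (nat_lit 7)) (.v (nat_lit 0)))) (.eq (.mul (.v (nat_lit 0)) (.v (nat_lit 11))) (.mul (.v (nat_lit 11)) (.v (nat_lit 0)))))))))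
theorem HX_V_chk : Fm.chk HH_o HX_V_F HX_cs = true := by decide +kernel
theorem HX_V {G : Type*} [Group G] {R : ℕ → G → Prop} {a b e x s c z y d r : G} {H : Subgroup G}
    (M : Mdl HH_o HX_cs HH_L R [a, a⁻¹, b, b⁻¹, e, e⁻¹, x, x⁻¹, s, c, z, y, d, r] H) :
    ∀ t ∈ sp [x, z], t ^ 3 = 1 ∧ s * t * s⁻¹ = t⁻¹ ∧ t * x = x * t ∧ t * z = z * t :=
  have h : ∀ t, InS R HX_lV t → t ^ 3 = 1 ∧ s * t * s⁻¹ = t⁻¹ ∧ t * x = x * t ∧ t * z = z * t :=
    Fm.sound M.μ HX_V_F HX_V_chk M.reps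
  (fun t h0 => (h t ((HX_lV_E M).iff.2 h0)))
noncomputable def HX_csy_F : Fm := (.all HH_L (.imp (.eq (.mul (.v (nat_lit 0)) (.v (nat_lit 9))) (.mul (.v (nat_lit 9)) (.v (nat_lit 0)))) (.imp (.eq (.mul (.v (nat_lit 0)) (.v (nat_lit 12))) (.mul (.v (nat_lit 12)) (.v (nat_lit 0)))) (.qf (.or (.eq (.v (nat_lit 0)) .one) (.or (.eq (.v (nat_lit 0)) (.v (nat_lit 12))) (.or (.eq (.v (nat_lit 0)) (.inv (.v (nat_lit 12)))) (.or (.eq (.v (nat_lit 0)) (.v (nat_lit 9))) (.or (.eq (.v (nat_lit 0)) (.mul (.v (nat_lit 9)) (.v (nat_lit 12)))) (.eq (.v (nat_lit 0)) (.mul (.v (nat_lit 9)) (.inv (.v (nat_lit 12))))))))))))))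
theorem HX_csy_chk : Fm.chk HH_o HX_csy_F HX_cs = true := by decide +kernel
theorem HX_csy {G : Type*} [Group G] {R : ℕ → G → Prop} {a b e x s c z y d r : G} {H : Subgroup G}
    (M : Mdl HH_o HX_cs HH_L R [a, a⁻¹, b, b⁻¹, e, e⁻¹, x, x⁻¹, s, c, z, y, d, r] H) :
    ∀ m ∈ H, m * s = s * m → m * y = y * m → m = 1 ∨ m = y ∨ m = y⁻¹ ∨ m = s ∨ m = s * y ∨ m = s * y⁻¹ :=
  have h : ∀ m, InL HH_o R HH_L m → m * s = s * m → m * y = y * m → m = 1 ∨ m = y ∨ m = y⁻¹ ∨ m = s ∨ m = s * y ∨ m = s * y⁻¹ :=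
    Fm.sound M.μ HX_csy_F HX_csy_chk M.reps
  (fun m h0 => (h m (M.H.iff.2 h0)))
noncomputable def HX_cr_F : Fm := (.all HH_L (.imp (.eq (.mul (.v (nat_lit 0)) (.v (nat_lit 14))) (.mul (.v (nat_lit 14)) (.v (nat_lit 0)))) (.qf (.and (.mem (.v (nat_lit 0)) HX_lR) (.eq (.mul (.v (nat_lit 0)) (.v (nat_lit 5))) (.mul (.v (nat_lit 5)) (.v (nat_lit 0))))))))
theorem HX_cr_chk : Fm.chk HH_o HX_cr_F HX_cs = true := by decide +kernel
theorem HX_cr {G : Type*} [Group G] {R : ℕ → G → Prop} {a b e x s c z y d r : G} {H : Subgroup G}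
    (M : Mdl HH_o HX_cs HH_L R [a, a⁻¹, b, b⁻¹, e, e⁻¹, x, x⁻¹, s, c, z, y, d, r] H) :
    ∀ m ∈ H, m * r = r * m → m ∈ sp [r, e] ∧ m * e = e * m :=
  have h : ∀ m, InL HH_o R HH_L m → m * r = r * m → InS R HX_lR (m) ∧ m * e = e * m :=
    Fm.sound M.μ HX_cr_F HX_cr_chk M.reps
  (fun m h0 => (fun h1 => ((and_congr (HX_lR_E M).iff Iff.rfl).1 ((h m (M.H.iff.2 h0)) h1))))
noncomputable def HX_cT_F : Fm := (.all HH_L (.imp (.eq (.mul (.v (nat_lit 0)) (.v (nat_lit 9))) (.mul (.v (nat_lit 9)) (.v (nat_lit 0)))) (.imp (.eq (.mul (.v (nat_lit 0)) (.mul (.mul (.v (nat_lit 7)) (.v (nat_lit 10))) (.inv (.v (nat_lit 7))))) (.mul (.mul (.mul (.v (nat_lit 7)) (.v (nat_lit 10))) (.inv (.v (nat_lit 7)))) (.v (nat_lit 0)))) (.qf (.or (.eq (.v (nat_lit 0)) .one) (.eq (.v (nat_lit 0)) (.v (nat_lit 10))))))))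
theorem HX_cT_chk : Fm.chk HH_o HX_cT_F HX_cs = true := by decide +kernel
theorem HX_cT {G : Type*} [Group G] {R : ℕ → G → Prop} {a b e x s c z y d r : G} {H : Subgroup G}
    (M : Mdl HH_o HX_cs HH_L R [a, a⁻¹, b, b⁻¹, e, e⁻¹, x, x⁻¹, s, c, z, y, d, r] H) :
    ∀ m ∈ H, m * s = s * m → m * (x * c * x⁻¹) = x * c * x⁻¹ * m → m = 1 ∨ m = c :=
  have h : ∀ m, InL HH_o R HH_L m → m * s = s * m → m * (x * c * x⁻¹) = x * c * x⁻¹ * m → m = 1 ∨ m = c :=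
    Fm.sound M.μ HX_cT_F HX_cT_chk M.reps
  (fun m h0 => (h m (M.H.iff.2 h0)))
noncomputable def HX_f1_F : Fm := (.allS HX_lE (.imp (.eq (.mul (.v (nat_lit 0)) (.v (nat_lit 0))) .one) (.imp (.eq (.mul (.v (nat_lit 0)) (.v (nat_lit 5))) (.mul (.v (nat_lit 5)) (.v (nat_lit 0)))) (.allS HX_lE (.imp (.eq (.mul (.v (nat_lit 0)) (.v (nat_lit 0))) .one) (.imp (.eq (.mul (.v (nat_lit 1)) (.v (nat_lit 0))) (.mul (.v (nat_lit 0)) (.v (nat_lit 1)))) (.qf (.or (.eq (.v (nat_lit 1)) .one) (.or (.eq (.v (nat_lit 0)) .one) (.eq (.v (nat_lit 1)) (.v (nat_lit 0))))))))))))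
theorem HX_f1_chk : Fm.chk HH_o HX_f1_F HX_cs = true := by decide +kernel
theorem HX_f1 {G : Type*} [Group G] {R : ℕ → G → Prop} {a b e x s c z y d r : G} {H : Subgroup G}
    (M : Mdl HH_o HX_cs HH_L R [a, a⁻¹, b, b⁻¹, e, e⁻¹, x, x⁻¹, s, c, z, y, d, r] H) :
    ∀ k ∈ sp [a, b, e, r], k * k = 1 → k * e = e * k → (∀ l ∈ sp [a, b, e, r], l * l = 1 → k * l = l * k → k = 1 ∨ l = 1 ∨ k = l) :=
  have h : ∀ k, InS R HX_lE k → k * k = 1 → k * e = e * k → (∀ l, InS R HX_lE l → l * l = 1 → k * l = l * k → k = 1 ∨ l = 1 ∨ k = l) :=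
    Fm.sound M.μ HX_f1_F HX_f1_chk M.reps
  (fun k h0 => (fun h1 => (fun h2 => (fun l h3 => ((((h k ((HX_lE_E M).iff.2 h0)) h1) h2) l ((HX_lE_E M).iff.2 h3))))))
noncomputable def HX_f2_F : Fm := (.allS HX_lY (.imp (.eq (.mul (.v (nat_lit 0)) (.v (nat_lit 0))) .one) (.imp (.eq (.mul (.v (nat_lit 0)) (.v (nat_lit 12))) (.mul (.v (nat_lit 12)) (.v (nat_lit 0)))) (.allS HX_lY (.imp (.eq (.mul (.v (nat_lit 0)) (.v (nat_lit 0))) .one) (.imp (.eq (.mul (.v (nat_lit 1)) (.v (nat_lit 0))) (.mul (.v (nat_lit 0)) (.v (nat_lit 1)))) (.qf (.or (.eq (.v (nat_lit 1)) .one) (.or (.eq (.v (nat_lit 0)) .one) (.eq (.v (nat_lit 1)) (.v (nat_lit 0))))))))))))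
theorem HX_f2_chk : Fm.chk HH_o HX_f2_F HX_cs = true := by decide +kernel
theorem HX_f2 {G : Type*} [Group G] {R : ℕ → G → Prop} {a b e x s c z y d r : G} {H : Subgroup G}
    (M : Mdl HH_o HX_cs HH_L R [a, a⁻¹, b, b⁻¹, e, e⁻¹, x, x⁻¹, s, c, z, y, d, r] H) :
    ∀ k ∈ sp [a, b, e, s], k * k = 1 → k * y = y * k → (∀ l ∈ sp [a, b, e, s], l * l = 1 → k * l = l * k → k = 1 ∨ l = 1 ∨ k = l) :=
  have h : ∀ k, InS R HX_lY k → k * k = 1 → k * y = y * k → (∀ l, InS R HX_lY l → l * l = 1 → k * l = l * k → k = 1 ∨ l = 1 ∨ k = l) :=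
    Fm.sound M.μ HX_f2_F HX_f2_chk M.reps
  (fun k h0 => (fun h1 => (fun h2 => (fun l h3 => ((((h k ((HX_lY_E M).iff.2 h0)) h1) h2) l ((HX_lY_E M).iff.2 h3))))))
noncomputable def HX_D_t0 : ST := (.node (nat_lit 4) (.node (nat_lit 2) (.leaf (nat_lit 27)) (.leaf (nat_lit 513))) (.node (nat_lit 18) (.leaf (nat_lit 189)) (.leaf (nat_lit 351))))
noncomputable def HX_D_F : Fm := (.allS HX_lD (.or (.qf (.or (.eq (.v (nat_lit 0)) .one) (.or (.eq (.v (nat_lit 0)) (.v (nat_lit 5))) (.eq (.v (nat_lit 0)) (.inv (.v (nat_lit 5))))))) (.or (.qf (.or (.eq (.v (nat_lit 0)) (.v (nat_lit 1))) (.eq (.v (nat_lit 0)) (.inv (.v (nat_lit 1)))))) (.exF HH_L (fun cs => HX_D_t0.find (Nat.mod (nth (nat_lit 0) cs (nat_lit 0)) (nat_lit 19))) (.qf (.eq (.mul (.mul (.v (nat_lit 0)) (.v (nat_lit 1))) (.inv (.v (nat_lit 0)))) (.v (nat_lit 13))))))))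
theorem HX_D_chk : Fm.chk HH_o HX_D_F HX_cs = true := by decide +kernel
theorem HX_D {G : Type*} [Group G] {R : ℕ → G → Prop} {a b e x s c z y d r : G} {H : Subgroup G}
    (M : Mdl HH_o HX_cs HH_L R [a, a⁻¹, b, b⁻¹, e, e⁻¹, x, x⁻¹, s, c, z, y, d, r] H) :
    ∀ t ∈ sp [e, a], (t = 1 ∨ t = e ∨ t = e⁻¹) ∨ (t = a ∨ t = a⁻¹) ∨ (∃ m ∈ H, m * t * m⁻¹ = y) :=
  have h : ∀ t, InS R HX_lD t → (t = 1 ∨ t = e ∨ t = e⁻¹) ∨ (t = a ∨ t = a⁻¹) ∨ (Good HH_o R HH_L → prods HH_o HH_L HH_o.one ≠ [] → ∃ m, InL HH_o R HH_L m ∧ m * t * m⁻¹ = y) :=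
    Fm.sound M.μ HX_D_F HX_D_chk M.reps
  (fun t h0 => (Or.imp (fun h1 => h1) (fun h1 => (Or.imp (fun h2 => h2) (fun h2 => (Exists.imp (fun m h3 => ⟨M.H.iff.1 h3.1, h3.2⟩) (h2 M.H.good M.H.ne))) h1)) (h t ((HX_lD_E M).iff.2 h0))))
noncomputable def HX_lF : List ℕ := [(nat_lit 0x876543210), (nat_lit 0x687543210), (nat_lit 0x876354021), (nat_lit 0x768543210), (nat_lit 0x687354021), (nat_lit 0x876435102), (nat_lit 0x768354021), (nat_lit 0x687435102), (nat_lit 0x768435102)]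
noncomputable def HX_lF_W : List (List ℕ) := [[],
  [(nat_lit 0)],
  [(nat_lit 1)],
  [(nat_lit 0), (nat_lit 0)],
  [(nat_lit 0), (nat_lit 1)],
  [(nat_lit 1), (nat_lit 1)],
  [(nat_lit 0), (nat_lit 0), (nat_lit 1)],
  [(nat_lit 0), (nat_lit 1), (nat_lit 1)],
  [(nat_lit 0), (nat_lit 0), (nat_lit 1), (nat_lit 1)]]
noncomputable def HX_lF_h (c : ℕ) : ℕ := Nat.mod c (nat_lit 13)
theorem HX_lF_E {G : Type*} [Group G] {R : ℕ → G → Prop} {a b e x s c z y d r : G} {H : Subgroup G}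
    (M : Mdl HH_o HX_cs HH_L R [a, a⁻¹, b, b⁻¹, e, e⁻¹, x, x⁻¹, s, c, z, y, d, r] H) :
    EnumS R HX_lF (sp [e, a * b]) :=
  enumS_sp M.μ.1 (M.reps.tms M.μ.1 [(.v (nat_lit 4)), (.mul (.v (nat_lit 0)) (.v (nat_lit 2)))] (cs' := [(nat_lit 0x687543210), (nat_lit 0x876354021)]) (by decide +kernel))
    (Ws := HX_lF_W) (by decide +kernel) (by decide +kernel)
theorem HX_lF_c {G : Type*} [Group G] {R : ℕ → G → Prop} {a b e x s c z y d r : G} {H : Subgroup G}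
    (M : Mdl HH_o HX_cs HH_L R [a, a⁻¹, b, b⁻¹, e, e⁻¹, x, x⁻¹, s, c, z, y, d, r] H) :
    #(sp [e, a * b]) = 9 :=
  (HX_lF_E M).card M.μ (h := HX_lF_h) (by decide +kernel)
noncomputable def HX_F_t0 : ST := (.node (nat_lit 23) (.node (nat_lit 14) (.leaf (nat_lit 486)) (.node (nat_lit 18) (.leaf (nat_lit 0)) (.leaf (nat_lit 189)))) (.node (nat_lit 27) (.leaf (nat_lit 162)) (.node (nat_lit 29) (.leaf (nat_lit 27)) (.leaf (nat_lit 324)))))
noncomputable def HX_F_F : Fm := (.allS HX_lF (.or (.qf (.or (.eq (.v (nat_lit 0)) .one) (.or (.eq (.v (nat_lit 0)) (.v (nat_lit 5))) (.eq (.v (nat_lit 0)) (.inv (.v (nat_lit 5))))))) (.exF HH_L (fun cs => HX_F_t0.find (Nat.mod (nth (nat_lit 0) cs (nat_lit 0)) (nat_lit 31))) (.qf (.or (.eq (.mul (.mul (.v (nat_lit 0)) (.v (nat_lit 1))) (.inv (.v (nat_lit 0)))) (.v (nat_lit 13))) (.eq (.mul (.mul (.v (nat_lit 0)) (.v (nat_lit 1))) (.inv (.v (nat_lit 0))))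 (.v (nat_lit 12))))))))
theorem HX_F_chk : Fm.chk HH_o HX_F_F HX_cs = true := by decide +kernel
theorem HX_F {G : Type*} [Group G] {R : ℕ → G → Prop} {a b e x s c z y d r : G} {H : Subgroup G}
    (M : Mdl HH_o HX_cs HH_L R [a, a⁻¹, b, b⁻¹, e, e⁻¹, x, x⁻¹, s, c, z, y, d, r] H) :
    ∀ t ∈ sp [e, a * b], (t = 1 ∨ t = e ∨ t = e⁻¹) ∨ (∃ m ∈ H, m * t * m⁻¹ = y ∨ m * t * m⁻¹ = z) :=
  have h : ∀ t, InS R HX_lF t → (t = 1 ∨ t = e ∨ t = e⁻¹) ∨ (Good HH_o R HH_L → prods HH_o HH_L HH_o.one ≠ [] → ∃ m, InL HH_o R HH_L m ∧ (m * t * m⁻¹ = y ∨ m * t * m⁻¹ = z)) :=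
    Fm.sound M.μ HX_F_F HX_F_chk M.reps
  (fun t h0 => (Or.imp (fun h1 => h1) (fun h1 => (Exists.imp (fun m h2 => ⟨M.H.iff.1 h2.1, h2.2⟩) (h1 M.H.good M.H.ne))) (h t ((HX_lF_E M).iff.2 h0))))
noncomputable def HX_h_F : Fm := (.qf (.and (.eq (.mul (.mul (.v (nat_lit 13)) (.v (nat_lit 0))) (.inv (.v (nat_lit 13)))) (.inv (.v (nat_lit 2)))) (.and (.eq (.mul (.mul (.v (nat_lit 13)) (.v (nat_lit 2))) (.inv (.v (nat_lit 13)))) (.v (nat_lit 0))) (.and (.eq (.mul (.mul (.v (nat_lit 12)) (.v (nat_lit 2))) (.inv (.v (nat_lit 12)))) (.inv (.v (nat_lit 2)))) (.and (.eq (.mul (.mul (.v (nat_lit 12)) (.v (nat_lit 13))) (.inv (.v (nat_lit 12)))) (.inv (.v (nat_lit 13)))) (.eq (.mul (.mul (.v (nat_lit 6)) (.v (nat_lit 4))) (.inv (.v (nat_lit 6)))) (.v (nat_lit 0))))))))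
theorem HX_h_chk : Fm.chk HH_o HX_h_F HX_cs = true := by decide +kernel
theorem HX_h {G : Type*} [Group G] {R : ℕ → G → Prop} {a b e x s c z y d r : G} {H : Subgroup G}
    (M : Mdl HH_o HX_cs HH_L R [a, a⁻¹, b, b⁻¹, e, e⁻¹, x, x⁻¹, s, c, z, y, d, r] H) :
    r * a * r⁻¹ = b⁻¹ ∧ r * b * r⁻¹ = a ∧ d * b * d⁻¹ = b⁻¹ ∧ d * r * d⁻¹ = r⁻¹ ∧ x * e * x⁻¹ = a :=
  Fm.sound M.μ HX_h_F HX_h_chk M.reps
noncomputable def HX_ab_F : Fm := (.exF HH_L (fun _ => (nat_lit 324)) (.qf (.eq (.mul (.mul (.v (nat_lit 0)) (.mul (.v (nat_lit 1)) (.v (nat_lit 3)))) (.inv (.v (nat_lit 0)))) (.v (nat_lit 12)))))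
theorem HX_ab_chk : Fm.chk HH_o HX_ab_F HX_cs = true := by decide +kernel
theorem HX_ab {G : Type*} [Group G] {R : ℕ → G → Prop} {a b e x s c z y d r : G} {H : Subgroup G}
    (M : Mdl HH_o HX_cs HH_L R [a, a⁻¹, b, b⁻¹, e, e⁻¹, x, x⁻¹, s, c, z, y, d, r] H) :
    ∃ m ∈ H, m * (a * b) * m⁻¹ = y :=
  have h : (Good HH_o R HH_L → prods HH_o HH_L HH_o.one ≠ [] → ∃ m, InL HH_o R HH_L m ∧ m * (a * b) * m⁻¹ = y) :=
    Fm.sound M.μ HX_ab_F HX_ab_chk M.reps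
  (Exists.imp (fun m h0 => ⟨M.H.iff.1 h0.1, h0.2⟩) (h M.H.good M.H.ne))

end H2.N9
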