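import Cfsg.Agent.H2.NA2g

/-! Generated: the normalizer of a three-cycle in the alternating group of degree nine. -/

set_option maxRecDepth 100000
set_option maxHeartbeats 4000000
set_option linter.unusedVariables false

open Subgroup
open scoped commutatorElement
namespace H2.N9
open H0 H0.PM H16 H19 H10.X

def KA {G : Type*} [Group G] (a b r w : G) : Prop :=
  a ^ 3 = 1 ∧
  b ^ 3 = 1 ∧
  a * b = b * a ∧
  r * a * r⁻¹ = b⁻¹ ∧
  r * b * r⁻¹ = a ∧
  r ^ 4 = 1 ∧
  w * w = 1 ∧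
  (w * r) ^ 2 = 1 ∧
  (w * a) ^ 3 = 1 ∧
  (w * r * a) ^ 5 = 1 ∧ True
theorem KA.map {G G' : Type*} [Group G] [Group G'] {a b r w : G} (h : KA a b r w) (f : G →* G') :
    KA (f a) (f b) (f r) (f w) :=
  ⟨by simpa only [map_mul, map_pow, map_inv, map_one, map_commutatorElement] using congrArg f h.1,
   by simpa only [map_mul, map_pow, map_inv, map_one, map_commutatorElement] using congrArg f h.2.1,
   by simpa only [map_mul, map_pow, map_inv, map_one, map_commutatorElement] using congrArg f h.2.2.1,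
   by simpa only [map_mul, map_pow, map_inv, map_one, map_commutatorElement] using congrArg f h.2.2.2.1,
   by simpa only [map_mul, map_pow, map_inv, map_one, map_commutatorElement] using congrArg f h.2.2.2.2.1,
   by simpa only [map_mul, map_pow, map_inv, map_one, map_commutatorElement] using congrArg f h.2.2.2.2.2.1,
   by simpa only [map_mul, map_pow, map_inv, map_one, map_commutatorElement] using congrArg f h.2.2.2.2.2.2.1,
   by simpa only [map_mul, map_pow, map_inv, map_one, map_commutatorElement] using congrArg f h.2.2.2.2.2.2.2.1,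
   by simpa only [map_mul, map_pow, map_inv, map_one, map_commutatorElement] using congrArg f h.2.2.2.2.2.2.2.2.1,
   by simpa only [map_mul, map_pow, map_inv, map_one, map_commutatorElement] using congrArg f h.2.2.2.2.2.2.2.2.2.1, trivial⟩
theorem KA.comap {G G' : Type*} [Group G] [Group G'] {a b r w : G} {f : G →* G'} (hf : Function.Injective f)
    (h : KA (f a) (f b) (f r) (f w)) : KA a b r w :=
  ⟨hf (by simpa only [map_mul, map_pow, map_inv, map_one, map_commutatorElement] using h.1),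
   hf (by simpa only [map_mul, map_pow, map_inv, map_one, map_commutatorElement] using h.2.1),
   hf (by simpa only [map_mul, map_pow, map_inv, map_one, map_commutatorElement] using h.2.2.1),
   hf (by simpa only [map_mul, map_pow, map_inv, map_one, map_commutatorElement] using h.2.2.2.1),
   hf (by simpa only [map_mul, map_pow, map_inv, map_one, map_commutatorElement] using h.2.2.2.2.1),
   hf (by simpa only [map_mul, map_pow, map_inv, map_one, map_commutatorElement] using h.2.2.2.2.2.1),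
   hf (by simpa only [map_mul, map_pow, map_inv, map_one, map_commutatorElement] using h.2.2.2.2.2.2.1),
   hf (by simpa only [map_mul, map_pow, map_inv, map_one, map_commutatorElement] using h.2.2.2.2.2.2.2.1),
   hf (by simpa only [map_mul, map_pow, map_inv, map_one, map_commutatorElement] using h.2.2.2.2.2.2.2.2.1),
   hf (by simpa only [map_mul, map_pow, map_inv, map_one, map_commutatorElement] using h.2.2.2.2.2.2.2.2.2.1), trivial⟩
def NQ {G : Type*} [Group G] (a b e r d w : G) : Prop :=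
  e ^ 3 = 1 ∧
  e * a = a * e ∧
  e * b = b * e ∧
  e * r = r * e ∧
  e * w = w * e ∧
  d * d = 1 ∧
  d * e * d⁻¹ = e⁻¹ ∧
  d * a = a * d ∧
  d * b * d⁻¹ = b⁻¹ ∧
  d * r * d⁻¹ = r⁻¹ ∧
  d * w = w * d ∧ True
noncomputable def KA_Rl : List (List ℕ) := [[0,1],
  [1,0],
  [2,3],
  [3,2],
  [4,5],
  [5,4],
  [6,6],
  [0,0,0],
  [2,2,2],
  [3,1,2,0],
  [2,5,0,4],
  [1,5,2,4],
  [4,4,4,4],
  [4,6,4,6],
  [0,6,0,6,0,6],
  [0,4,6,0,4,6,0,4,6,0,4,6,0,4,6]]
theorem KA_r {G : Type*} [Group G] {a b r w : G}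
    (h : KA a b r w) :
    Rels (nthG [a, a⁻¹, b, b⁻¹, r, r⁻¹, w]) KA_Rl :=
  rels_of_eqs ((InvI.cons h.2.2.2.2.2.2.1 InvI.nil) : InvI [a, b, r, w] [(nat_lit 3)])
    (show AllEq [a, b, r, w] [((.pw (.v (nat_lit 0)) (nat_lit 3)), .one), ((.pw (.v (nat_lit 1)) (nat_lit 3)), .one), ((.mul (.v (nat_lit 0)) (.v (nat_lit 1))), (.mul (.v (nat_lit 1)) (.v (nat_lit 0)))), ((.mul (.mul (.v (nat_lit 2)) (.v (nat_lit 0))) (.inv (.v (nat_lit 2)))), (.inv (.v (nat_lit 1)))), ((.mul (.mul (.v (nat_lit 2)) (.v (nat_lit 1))) (.inv (.v (nat_lit 2)))), (.v (nat_lit 0))), ((.pw (.v (nat_lit 2)) (nat_lit 4)), .one), ((.mul (.v (nat_lit 3)) (.v (nat_lit 3))), .one), ((.pw (.mul (.v (nat_lit 3)) (.v (nat_lit 2))) (nat_lit 2)), .one), ((.pw (.mul (.v (nat_lit 3)) (.v (nat_lit 0))) (nat_lit 3)), .one), ((.pw (.mul (.mul (.v (nat_lit 3)) (.v (nat_lit 2))) (.v (nat_lit 0))) (nat_lit 5)), .one)] from h)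
    [(.v (nat_lit 0)), (.inv (.v (nat_lit 0))), (.v (nat_lit 1)), (.inv (.v (nat_lit 1))), (.v (nat_lit 2)), (.inv (.v (nat_lit 2))), (.v (nat_lit 3))] (by decide +kernel)
noncomputable abbrev KA_o : Ops := pops (nat_lit 6) (nat_lit 3) (nat_lit 7) (nat_lit 181896)
noncomputable def KA_cs : List ℕ := [(nat_lit 181777), (nat_lit 181826), (nat_lit 120968), (nat_lit 146056), (nat_lit 69931), (nat_lit 41315), (nat_lit 180307)]
noncomputable def KA_L : List (List ℕ) := [[(nat_lit 181896), (nat_lit 181777), (nat_lit 181826), (nat_lit 69931), (nat_lit 69861), (nat_lit 41196)],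
  [(nat_lit 181896), (nat_lit 153168), (nat_lit 42792), (nat_lit 71520), (nat_lit 181336)],
  [(nat_lit 181896), (nat_lit 152776), (nat_lit 87816), (nat_lit 141128)],
  [(nat_lit 181896), (nat_lit 120968), (nat_lit 146056)]]
noncomputable def KA_WW : List (List (List ℕ)) := [[[],
  [(nat_lit 0)],
  [(nat_lit 1)],
  [(nat_lit 4)],
  [(nat_lit 0), (nat_lit 4)],
  [(nat_lit 0), (nat_lit 5)]],
  [[],
  [(nat_lit 4), (nat_lit 4)],
  [(nat_lit 4), (nat_lit 6)],
  [(nat_lit 5), (nat_lit 6)],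
  [(nat_lit 1), (nat_lit 6), (nat_lit 1)]],
  [[],
  [(nat_lit 0), (nat_lit 4), (nat_lit 4), (nat_lit 6), (nat_lit 1)],
  [(nat_lit 0), (nat_lit 6), (nat_lit 2), (nat_lit 6), (nat_lit 1)],
  [(nat_lit 0), (nat_lit 6), (nat_lit 3), (nat_lit 6), (nat_lit 1)]],
  [[],
  [(nat_lit 2)],
  [(nat_lit 3)]]]
noncomputable def KA_b2_S0 : List ℕ := [nat_lit 0xb000008006004]
noncomputable def KA_b2_S : List (List ℕ) := [KA_b2_S0]
noncomputable def KA_b2_defs : List ℕ := [(nat_lit 0x1000000000000000000000)]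
noncomputable def KA_b2_recs : List ℕ := [(nat_lit 0x10000100002)]
noncomputable def KA_b2_L0 : List ℕ := [nat_lit 0x700000100000b000002, nat_lit 0x2000002000008000000, nat_lit 0xc000000000001000001]
noncomputable def KA_b2_L : List (List ℕ) := [KA_b2_L0]
noncomputable def KA_b2_V : List ℕ := [(nat_lit 0x20000000100000000)]
noncomputable def KA_b2_D : H26.Dag := ⟨[1,0], [[0,1],
  [1,0],
  [0,0,0]], [], KA_b2_defs, KA_b2_recs⟩
theorem KA_b2_c : KA_b2_D.checkTab KA_b2_S 3 2 KA_b2_V KA_b2_L = true := by decide +kernel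
theorem KA_b2 : Bound KA_Rl 2 3 :=
  bound_dag (Bound.zero KA_Rl) (K := 2) (J := [0,1,7]) (by decide +kernel) KA_b2_c (by decide +kernel)
noncomputable def KA_b4_S0 : List ℕ := [nat_lit 0x1, nat_lit 0x700000200000800c00a, nat_lit 0xb000008006008, nat_lit 0xb00000100000c00400a]
noncomputable def KA_b4_S : List (List ℕ) := [KA_b4_S0]
noncomputable def KA_b4_defs : List ℕ := [(nat_lit 0x3000000020000000000000)]
noncomputable def KA_b4_recs : List ℕ := [(nat_lit 0x10000200002030000100002000000100001000000000000)]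
noncomputable def KA_b4_L0 : List ℕ := [nat_lit 0x100000000000200000000000700000100000b000002, nat_lit 0x500000100000600000100000a000002000008000000, nat_lit 0xe00000200000d00000200000c000000000009000001]
noncomputable def KA_b4_L : List (List ℕ) := [KA_b4_L0]
noncomputable def KA_b4_V : List ℕ := [(nat_lit 0x20000000100000000)]
noncomputable def KA_b4_D : H26.Dag := ⟨[1,0,3,2], [[0,1],
  [1,0],
  [2,3],
  [3,2],
  [2,2,2],
  [3,1,2,0]], [0,1], KA_b4_defs, KA_b4_recs⟩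
theorem KA_b4_c : KA_b4_D.checkTab KA_b4_S 3 4 KA_b4_V KA_b4_L = true := by decide +kernel
theorem KA_b4 : Bound KA_Rl 4 9 :=
  bound_dag KA_b2 (K := 4) (J := [0,1,2,3,8,9]) (by decide +kernel) KA_b4_c (by decide +kernel)
noncomputable def KA_b6_S0 : List ℕ := [nat_lit 0x1, nat_lit 0x1, nat_lit 0x700000100000800000c, nat_lit 0x700000500000800000e, nat_lit 0xb00000500000c00800c, nat_lit 0xb00000200000c00800e, nat_lit 0xf00000e00001000000c, nat_lit 0xf00000900001000000e, nat_lit 0xf00000700000c004010]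
noncomputable def KA_b6_S : List (List ℕ) := [KA_b6_S0]
noncomputable def KA_b6_defs : List ℕ := [(nat_lit 0x400001005000000040000000000000)]
noncomputable def KA_b6_recs : List ℕ := [(nat_lit 0x40000200003010000300003020000300003020000200002000000200002010000100001020000100001020000000000000000000000)]
noncomputable def KA_b6_L0 : List ℕ := [nat_lit 0x100000000000200000000000500000000000600000000000700000100000b000002, nat_lit 0xe00000100000d00000100000900000100000a00000100000f000003000008000000, nat_lit 0x1100000200001200000200001500000200001600000200000c000000000022000003, nat_lit 0x1e00000300001d00000300001900000300001a000003000021000002000010000001]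
noncomputable def KA_b6_L : List (List ℕ) := [KA_b6_L0]
noncomputable def KA_b6_V : List ℕ := [(nat_lit 0x3000000020000000100000000)]
noncomputable def KA_b6_D : H26.Dag := ⟨[1,0,3,2,5,4], [[0,1],
  [1,0],
  [2,3],
  [3,2],
  [4,5],
  [5,4],
  [2,5,0,4],
  [1,5,2,4],
  [4,4,4,4]], [0,1,2,3], KA_b6_defs, KA_b6_recs⟩
theorem KA_b6_c : KA_b6_D.checkTab KA_b6_S 4 6 KA_b6_V KA_b6_L = true := by decide +kernel
theorem KA_b6 : Bound KA_Rl 6 36 :=
  bound_dag KA_b4 (K := 6) (J := [0,1,2,3,4,5,10,11,12]) (by decide +kernel) KA_b6_c (by decide +kernel)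
noncomputable def KA_b7_S0 : List ℕ := [nat_lit 0x1, nat_lit 0x1, nat_lit 0x1, nat_lit 0x7000009000008008018, nat_lit 0xf00000c00600e, nat_lit 0xf00000700000200000800000c00a01a, nat_lit 0x1300000d000010004014, nat_lit 0x1300000e00000c00c016, nat_lit 0x1a00001600001d00c018, nat_lit 0x17000014006010, nat_lit 0x1700000d00000c002014, nat_lit 0x1700000e00001000a016, nat_lit 0x2a00001500002d00c018, nat_lit 0x1b00000b000014002012, nat_lit 0x1f00001c006010, nat_lit 0x1f00000b000018004012, nat_lit 0x1f00001d000035002014, nat_lit 0x2300000f00001400c012, nat_lit 0x2300001200001c002012, nat_lit 0x2300001900003500c016, nat_lit 0x27000024006010, nat_lit 0x27000012000020004012, nat_lit 0x2700000f00001800a012, nat_lit 0x2700002d00003d002014, nat_lit 0x2700001900004500a016, nat_lit 0x4600001e00001500000f00000e00000700000200000a00000800000c00002900003100003d00005d00201c, nat_lit 0x4d00006600005e00c018]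
noncomputable def KA_b7_S : List (List ℕ) := [KA_b7_S0]
noncomputable def KA_b7_defs : List ℕ := [(nat_lit 0x300003002000030030000200200002003000010020000100100001000000010060000000000000)]
noncomputable def KA_b7_recs : List ℕ := [(nat_lit 0x60000700006060000900008040000800009050000700009000000500009010000700009030000800009040000600008010000600008000000400008050000600007010000500007030000600007010000400006060000500005040000300005050000200005030000400005060000400004040000200004050000300004060000200003010000200003040000100001040000000000020000000000000000000000)]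
noncomputable def KA_b7_L0 : List ℕ := [nat_lit 0x100000000000200000000000500000000000600000000000900000000000a000000000007000001, nat_lit 0xb00000200000f00000300001300000400001700000500000d00000100000e000001000008000000, nat_lit 0x1200000300000c00000100001b00000600001f00000700002a00000500001e000004000016000003, nat_lit 0x1000000100001100000200002300000800002700000900001a00000400002e000005000015000002, nat_lit 0x3600000600004600000800002600000500001400000100001d000002000019000003000021000004, nat_lit 0x3e00000700005a00000900001800000100002500000400002d000003000029000002000031000005, nat_lit 0x4a00000800003500000400003a00000700001c00000200004200000700004e000008000069000007, nat_lit 0x5600000900003d00000500002000000200003900000600005e00000900004100000600006a000006, nat_lit 0x4500000400004900000600005200000900002400000300004d000006000062000009000065000009, nat_lit 0x5900000500005500000700002800000300005100000800006100000800005d000007000066000008]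
noncomputable def KA_b7_L : List (List ℕ) := [KA_b7_L0]
noncomputable def KA_b7_V : List ℕ := [(nat_lit 0x9000000080000000700000006000000050000000400000003000000020000000100000000)]
noncomputable def KA_b7_D : H26.Dag := ⟨[1,0,3,2,5,4,6], [[0,1],
  [1,0],
  [2,3],
  [3,2],
  [4,5],
  [5,4],
  [6,6],
  [0,0,0],
  [2,2,2],
  [3,1,2,0],
  [2,5,0,4],
  [1,5,2,4],
  [4,6,4,6],
  [0,6,0,6,0,6],
  [0,4,6,0,4,6,0,4,6,0,4,6,0,4,6]], [0,1,2,3,4,5], KA_b7_defs, KA_b7_recs⟩
theorem KA_b7_c : KA_b7_D.checkTab KA_b7_S 10 7 KA_b7_V KA_b7_L = true := by decide +kernel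
theorem KA_b7 : Bound KA_Rl 7 360 :=
  bound_dag KA_b6 (K := 7) (J := [0,1,2,3,4,5,6,7,8,9,10,11,13,14,15]) (by decide +kernel) KA_b7_c (by decide +kernel)
theorem KA_P : PModel (nat_lit 6) (nat_lit 3) (nat_lit 7) (nat_lit 181896) KA_cs KA_Rl KA_L 360 :=
  ⟨PkOK.of (by decide +kernel), by decide +kernel, by decide +kernel, KA_b7, ⟨KA_WW, by decide +kernel⟩,
    ⟨fun c => Nat.mod c (nat_lit 10561), by decide +kernel⟩⟩
noncomputable def KA_soc_t0 : ST := (.node (nat_lit 10319) (.node (nat_lit 5279) (.node (nat_lit 2217) (.node (nat_lit 1166) (.node (nat_lit 389) (.node (nat_lit 129) (.node (nat_lit 43) (.node (nat_lit 22) (.leaf (nat_lit 156)) (.leaf (nat_lit 165))) (.node (nat_lit 76) (.leaf (nat_lit 45)) (.node (nat_lit 94) (.leaf (nat_lit 222)) (.leaf (nat_lit 165))))) (.node (nat_lit 191) (.node (nat_lit 171) (.leaf (nat_lit 36)) (.leaf (nat_lit 6))) (.node (nat_lit 196) (.leaf (nat_lit 252)) (.node (nat_lit 200) (.leaf (nat_lit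 45)) (.leaf (nat_lit 102)))))) (.node (nat_lit 707) (.node (nat_lit 547) (.node (nat_lit 513) (.leaf (nat_lit 132)) (.leaf (nat_lit 105))) (.node (nat_lit 667) (.leaf (nat_lit 273)) (.node (nat_lit 693) (.leaf (nat_lit 222)) (.leaf (nat_lit 285))))) (.node (nat_lit 940) (.node (nat_lit 722) (.leaf (nat_lit 165)) (.node (nat_lit 938) (.leaf (nat_lit 45)) (.leaf (nat_lit 3)))) (.node (nat_lit 1050) (.leaf (nat_lit 6)) (.node (nat_lit 1054) (.leaf (nat_lit 255)) (.leaf (nat_lit 273))))))) (.node (nat_lit 1572) (.node (nat_lit 1413) (.node (nat_lit 1237) (.node (nat_lit 1189) (.leaf (nat_lit 0)) (.leaf (nat_lit 315))) (.node (nat_lit 1257) (.leaf (nat_lit 150)) (.node (nat_lit 1275) (.leaf (nat_lit 252)) (.leaf (nat_lit 315))))) (.node (nat_lit 1480) (.node (nat_lit 1414) (.leaf (nat_lit 165)) (.node (nat_lit 1416) (.leaf (nat_lit 252)) (.leaf (nat_lit 225)))) (.node (nat_lit 1496) (.leaf (nat_lit 30)) (.node (nat_lit 1543) (.leaf (nat_lit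 6)) (.leaf (nat_lit 162)))))) (.node (nat_lit 1818) (.node (nat_lit 1610) (.node (nat_lit 1597) (.leaf (nat_lit 15)) (.leaf (nat_lit 345))) (.node (nat_lit 1639) (.leaf (nat_lit 3)) (.node (nat_lit 1755) (.leaf (nat_lit 132)) (.leaf (nat_lit 75))))) (.node (nat_lit 2016) (.node (nat_lit 1861) (.leaf (nat_lit 39)) (.node (nat_lit 1930) (.leaf (nat_lit 33)) (.leaf (nat_lit 153)))) (.node (nat_lit 2018) (.leaf (nat_lit 33)) (.node (nat_lit 2025) (.leaf (nat_lit 282)) (.leaf (nat_lit 30)))))))) (.node (nat_lit 3740) (.node (nat_lit 3003) (.node (nat_lit 2537) (.node (nat_lit 2398) (.node (nat_lit 2330) (.leaf (nat_lit 270)) (.leaf (nat_lit 162))) (.node (nat_lit 2400) (.leaf (nat_lit 15)) (.node (nat_lit 2403) (.leaf (nat_lit 195)) (.leaf (nat_lit 0))))) (.node (nat_lit 2626) (.node (nat_lit 2618) (.leaf (nat_lit 312)) (.leaf (nat_lit 315))) (.node (nat_lit 2727) (.leaf (nat_lit 192)) (.node (nat_lit 2760) (.leaf (nat_lit 162)) (.leaf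 (nat_lit 222)))))) (.node (nat_lit 3224) (.node (nat_lit 3106) (.node (nat_lit 3059) (.leaf (nat_lit 33)) (.leaf (nat_lit 345))) (.node (nat_lit 3156) (.leaf (nat_lit 15)) (.node (nat_lit 3220) (.leaf (nat_lit 222)) (.leaf (nat_lit 150))))) (.node (nat_lit 3543) (.node (nat_lit 3285) (.leaf (nat_lit 195)) (.node (nat_lit 3517) (.leaf (nat_lit 39)) (.leaf (nat_lit 192)))) (.node (nat_lit 3584) (.leaf (nat_lit 276)) (.node (nat_lit 3661) (.leaf (nat_lit 252)) (.leaf (nat_lit 42))))))) (.node (nat_lit 4378) (.node (nat_lit 4088) (.node (nat_lit 3891) (.node (nat_lit 3827) (.leaf (nat_lit 102)) (.leaf (nat_lit 195))) (.node (nat_lit 3991) (.leaf (nat_lit 6)) (.node (nat_lit 4074) (.leaf (nat_lit 102)) (.leaf (nat_lit 12))))) (.node (nat_lit 4188) (.node (nat_lit 4161) (.leaf (nat_lit 135)) (.node (nat_lit 4166) (.leaf (nat_lit 72)) (.leaf (nat_lit 15)))) (.node (nat_lit 4257) (.leaf (nat_lit 33)) (.node (nat_lit 4295) (.leaf (nat_lit 0))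 (.leaf (nat_lit 255)))))) (.node (nat_lit 4990) (.node (nat_lit 4538) (.node (nat_lit 4495) (.leaf (nat_lit 282)) (.leaf (nat_lit 276))) (.node (nat_lit 4783) (.leaf (nat_lit 42)) (.node (nat_lit 4925) (.leaf (nat_lit 30)) (.leaf (nat_lit 150))))) (.node (nat_lit 5218) (.node (nat_lit 4995) (.leaf (nat_lit 3)) (.node (nat_lit 5189) (.leaf (nat_lit 105)) (.leaf (nat_lit 225)))) (.node (nat_lit 5223) (.leaf (nat_lit 6)) (.node (nat_lit 5244) (.leaf (nat_lit 102)) (.leaf (nat_lit 6))))))))) (.node (nat_lit 7836) (.node (nat_lit 6243) (.node (nat_lit 5735) (.node (nat_lit 5468) (.node (nat_lit 5372) (.node (nat_lit 5330) (.leaf (nat_lit 270)) (.leaf (nat_lit 33))) (.node (nat_lit 5402) (.leaf (nat_lit 225)) (.node (nat_lit 5407) (.leaf (nat_lit 165)) (.leaf (nat_lit 195))))) (.node (nat_lit 5499) (.node (nat_lit 5478) (.leaf (nat_lit 282)) (.leaf (nat_lit 192))) (.node (nat_lit 5591) (.leaf (nat_lit 315)) (.node (nat_lit 5675) (.leaf (nat_lit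 39)) (.leaf (nat_lit 153)))))) (.node (nat_lit 6106) (.node (nat_lit 5813) (.node (nat_lit 5777) (.leaf (nat_lit 42)) (.leaf (nat_lit 165))) (.node (nat_lit 5982) (.leaf (nat_lit 3)) (.node (nat_lit 6030) (.leaf (nat_lit 345)) (.leaf (nat_lit 282))))) (.node (nat_lit 6190) (.node (nat_lit 6134) (.leaf (nat_lit 42)) (.node (nat_lit 6155) (.leaf (nat_lit 33)) (.leaf (nat_lit 9)))) (.node (nat_lit 6194) (.leaf (nat_lit 12)) (.node (nat_lit 6201) (.leaf (nat_lit 3)) (.leaf (nat_lit 159))))))) (.node (nat_lit 7048) (.node (nat_lit 6478) (.node (nat_lit 6404) (.node (nat_lit 6392) (.leaf (nat_lit 312)) (.leaf (nat_lit 285))) (.node (nat_lit 6440) (.leaf (nat_lit 282)) (.node (nat_lit 6449) (.leaf (nat_lit 102)) (.leaf (nat_lit 12))))) (.node (nat_lit 6740) (.node (nat_lit 6521) (.leaf (nat_lit 270)) (.node (nat_lit 6583) (.leaf (nat_lit 75)) (.leaf (nat_lit 192)))) (.node (nat_lit 6956) (.leaf (nat_lit 42)) (.node (nat_lit 6984) (.leaf (nat_lit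 192)) (.leaf (nat_lit 270)))))) (.node (nat_lit 7534) (.node (nat_lit 7112) (.node (nat_lit 7057) (.leaf (nat_lit 132)) (.leaf (nat_lit 285))) (.node (nat_lit 7286) (.leaf (nat_lit 15)) (.node (nat_lit 7443) (.leaf (nat_lit 12)) (.leaf (nat_lit 279))))) (.node (nat_lit 7548) (.node (nat_lit 7541) (.leaf (nat_lit 159)) (.node (nat_lit 7547) (.leaf (nat_lit 273)) (.leaf (nat_lit 282)))) (.node (nat_lit 7750) (.leaf (nat_lit 39)) (.node (nat_lit 7768) (.leaf (nat_lit 285)) (.leaf (nat_lit 279)))))))) (.node (nat_lit 9163) (.node (nat_lit 8567) (.node (nat_lit 8017) (.node (nat_lit 7904) (.node (nat_lit 7903) (.leaf (nat_lit 165)) (.leaf (nat_lit 3))) (.node (nat_lit 7922) (.leaf (nat_lit 156)) (.node (nat_lit 8001) (.leaf (nat_lit 159)) (.leaf (nat_lit 195))))) (.node (nat_lit 8213) (.node (nat_lit 8056) (.leaf (nat_lit 132)) (.node (nat_lit 8199) (.leaf (nat_lit 12)) (.leaf (nat_lit 195)))) (.node (nat_lit 8474) (.leaf (nat_lit 132))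 (.node (nat_lit 8477) (.leaf (nat_lit 6)) (.leaf (nat_lit 45)))))) (.node (nat_lit 8835) (.node (nat_lit 8667) (.node (nat_lit 8629) (.leaf (nat_lit 42)) (.leaf (nat_lit 153))) (.node (nat_lit 8692) (.leaf (nat_lit 33)) (.node (nat_lit 8724) (.leaf (nat_lit 45)) (.leaf (nat_lit 192))))) (.node (nat_lit 8862) (.node (nat_lit 8836) (.leaf (nat_lit 342)) (.node (nat_lit 8853) (.leaf (nat_lit 15)) (.leaf (nat_lit 72)))) (.node (nat_lit 8905) (.leaf (nat_lit 132)) (.node (nat_lit 9122) (.leaf (nat_lit 156)) (.leaf (nat_lit 15))))))) (.node (nat_lit 9961) (.node (nat_lit 9535) (.node (nat_lit 9330) (.node (nat_lit 9241) (.leaf (nat_lit 345)) (.leaf (nat_lit 72))) (.node (nat_lit 9352) (.leaf (nat_lit 12)) (.node (nat_lit 9355) (.leaf (nat_lit 273)) (.leaf (nat_lit 345))))) (.node (nat_lit 9899) (.node (nat_lit 9696) (.leaf (nat_lit 3)) (.node (nat_lit 9872) (.leaf (nat_lit 273)) (.leaf (nat_lit 15)))) (.node (nat_lit 9939) (.leaf (nat_lit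 153)) (.node (nat_lit 9958) (.leaf (nat_lit 45)) (.leaf (nat_lit 192)))))) (.node (nat_lit 10202) (.node (nat_lit 10030) (.node (nat_lit 9985) (.leaf (nat_lit 195)) (.leaf (nat_lit 153))) (.node (nat_lit 10109) (.leaf (nat_lit 75)) (.node (nat_lit 10195) (.leaf (nat_lit 33)) (.leaf (nat_lit 195))))) (.node (nat_lit 10246) (.node (nat_lit 10226) (.leaf (nat_lit 45)) (.node (nat_lit 10245) (.leaf (nat_lit 102)) (.leaf (nat_lit 36)))) (.node (nat_lit 10282) (.leaf (nat_lit 252)) (.node (nat_lit 10286) (.leaf (nat_lit 225)) (.leaf (nat_lit 342)))))))))) (.node (nat_lit 15578) (.node (nat_lit 12795) (.node (nat_lit 11539) (.node (nat_lit 11172) (.node (nat_lit 10580) (.node (nat_lit 10432) (.node (nat_lit 10414) (.leaf (nat_lit 192)) (.leaf (nat_lit 12))) (.node (nat_lit 10497) (.leaf (nat_lit 285)) (.node (nat_lit 10500) (.leaf (nat_lit 315)) (.leaf (nat_lit 12))))) (.node (nat_lit 10831) (.node (nat_lit 10676) (.leaf (nat_lit 165)) (.leaf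 (nat_lit 102))) (.node (nat_lit 10895) (.leaf (nat_lit 15)) (.node (nat_lit 11100) (.leaf (nat_lit 30)) (.leaf (nat_lit 132)))))) (.node (nat_lit 11358) (.node (nat_lit 11283) (.node (nat_lit 11186) (.leaf (nat_lit 75)) (.leaf (nat_lit 315))) (.node (nat_lit 11324) (.leaf (nat_lit 3)) (.node (nat_lit 11339) (.leaf (nat_lit 102)) (.leaf (nat_lit 153))))) (.node (nat_lit 11458) (.node (nat_lit 11442) (.leaf (nat_lit 192)) (.node (nat_lit 11454) (.leaf (nat_lit 195)) (.leaf (nat_lit 285)))) (.node (nat_lit 11510) (.leaf (nat_lit 102)) (.node (nat_lit 11521) (.leaf (nat_lit 12)) (.leaf (nat_lit 105))))))) (.node (nat_lit 12220) (.node (nat_lit 12040) (.node (nat_lit 11659) (.node (nat_lit 11596) (.leaf (nat_lit 15)) (.leaf (nat_lit 12))) (.node (nat_lit 11705) (.leaf (nat_lit 33)) (.node (nat_lit 11931) (.leaf (nat_lit 12)) (.leaf (nat_lit 282))))) (.node (nat_lit 12126) (.node (nat_lit 12056) (.leaf (nat_lit 72)) (.node (nat_lit 12108)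 (.leaf (nat_lit 222)) (.leaf (nat_lit 150)))) (.node (nat_lit 12151) (.leaf (nat_lit 132)) (.node (nat_lit 12185) (.leaf (nat_lit 3)) (.leaf (nat_lit 75)))))) (.node (nat_lit 12447) (.node (nat_lit 12323) (.node (nat_lit 12265) (.leaf (nat_lit 3)) (.leaf (nat_lit 132))) (.node (nat_lit 12428) (.leaf (nat_lit 165)) (.node (nat_lit 12431) (.leaf (nat_lit 72)) (.leaf (nat_lit 270))))) (.node (nat_lit 12605) (.node (nat_lit 12481) (.leaf (nat_lit 252)) (.node (nat_lit 12567) (.leaf (nat_lit 153)) (.leaf (nat_lit 165)))) (.node (nat_lit 12732) (.leaf (nat_lit 252)) (.node (nat_lit 12781) (.leaf (nat_lit 273)) (.leaf (nat_lit 33)))))))) (.node (nat_lit 14177) (.node (nat_lit 13559) (.node (nat_lit 13211) (.node (nat_lit 13046) (.node (nat_lit 13004) (.leaf (nat_lit 75)) (.leaf (nat_lit 195))) (.node (nat_lit 13134) (.leaf (nat_lit 192)) (.node (nat_lit 13165) (.leaf (nat_lit 72)) (.leaf (nat_lit 102))))) (.node (nat_lit 13327) (.node (nat_lit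 13258) (.leaf (nat_lit 273)) (.node (nat_lit 13295) (.leaf (nat_lit 159)) (.leaf (nat_lit 12)))) (.node (nat_lit 13418) (.leaf (nat_lit 75)) (.node (nat_lit 13479) (.leaf (nat_lit 6)) (.leaf (nat_lit 132)))))) (.node (nat_lit 13862) (.node (nat_lit 13727) (.node (nat_lit 13646) (.leaf (nat_lit 75)) (.leaf (nat_lit 159))) (.node (nat_lit 13757) (.leaf (nat_lit 255)) (.node (nat_lit 13834) (.leaf (nat_lit 252)) (.leaf (nat_lit 12))))) (.node (nat_lit 14114) (.node (nat_lit 13903) (.leaf (nat_lit 342)) (.node (nat_lit 13910) (.leaf (nat_lit 12)) (.leaf (nat_lit 75)))) (.node (nat_lit 14149) (.leaf (nat_lit 285)) (.node (nat_lit 14165) (.leaf (nat_lit 9)) (.leaf (nat_lit 135))))))) (.node (nat_lit 14979) (.node (nat_lit 14509) (.node (nat_lit 14361) (.node (nat_lit 14205) (.leaf (nat_lit 195)) (.leaf (nat_lit 255))) (.node (nat_lit 14392) (.leaf (nat_lit 33)) (.node (nat_lit 14413) (.leaf (nat_lit 315)) (.leaf (nat_lit 9))))) (.node (nat_lit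 14774) (.node (nat_lit 14535) (.leaf (nat_lit 3)) (.node (nat_lit 14688) (.leaf (nat_lit 225)) (.leaf (nat_lit 12)))) (.node (nat_lit 14858) (.leaf (nat_lit 273)) (.node (nat_lit 14899) (.leaf (nat_lit 195)) (.leaf (nat_lit 342)))))) (.node (nat_lit 15102) (.node (nat_lit 15039) (.node (nat_lit 15013) (.leaf (nat_lit 159)) (.leaf (nat_lit 342))) (.node (nat_lit 15052) (.leaf (nat_lit 279)) (.node (nat_lit 15056) (.leaf (nat_lit 75)) (.leaf (nat_lit 6))))) (.node (nat_lit 15436) (.node (nat_lit 15292) (.leaf (nat_lit 192)) (.node (nat_lit 15390) (.leaf (nat_lit 45)) (.leaf (nat_lit 33)))) (.node (nat_lit 15503) (.leaf (nat_lit 6)) (.node (nat_lit 15563) (.leaf (nat_lit 33)) (.leaf (nat_lit 153))))))))) (.node (nat_lit 19500) (.node (nat_lit 17470) (.node (nat_lit 16705) (.node (nat_lit 15897) (.node (nat_lit 15665) (.node (nat_lit 15649) (.leaf (nat_lit 165)) (.leaf (nat_lit 153))) (.node (nat_lit 15796) (.leaf (nat_lit 225)) (.node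 (nat_lit 15845) (.leaf (nat_lit 159)) (.leaf (nat_lit 12))))) (.node (nat_lit 16272) (.node (nat_lit 16221) (.leaf (nat_lit 315)) (.leaf (nat_lit 105))) (.node (nat_lit 16461) (.leaf (nat_lit 3)) (.node (nat_lit 16579) (.leaf (nat_lit 102)) (.leaf (nat_lit 345)))))) (.node (nat_lit 17158) (.node (nat_lit 16798) (.node (nat_lit 16751) (.leaf (nat_lit 102)) (.leaf (nat_lit 273))) (.node (nat_lit 16840) (.leaf (nat_lit 9)) (.node (nat_lit 16963) (.leaf (nat_lit 132)) (.leaf (nat_lit 15))))) (.node (nat_lit 17221) (.node (nat_lit 17159) (.leaf (nat_lit 312)) (.node (nat_lit 17184) (.leaf (nat_lit 222)) (.leaf (nat_lit 192)))) (.node (nat_lit 17353) (.leaf (nat_lit 9)) (.node (nat_lit 17393) (.leaf (nat_lit 75)) (.leaf (nat_lit 132))))))) (.node (nat_lit 18558) (.node (nat_lit 17911) (.node (nat_lit 17524) (.node (nat_lit 17493) (.leaf (nat_lit 3)) (.leaf (nat_lit 39))) (.node (nat_lit 17750) (.leaf (nat_lit 285)) (.node (nat_lit 17821)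 (.leaf (nat_lit 222)) (.leaf (nat_lit 192))))) (.node (nat_lit 18155) (.node (nat_lit 18036) (.leaf (nat_lit 315)) (.node (nat_lit 18154) (.leaf (nat_lit 195)) (.leaf (nat_lit 225)))) (.node (nat_lit 18188) (.leaf (nat_lit 345)) (.node (nat_lit 18314) (.leaf (nat_lit 285)) (.leaf (nat_lit 273)))))) (.node (nat_lit 18864) (.node (nat_lit 18635) (.node (nat_lit 18610) (.leaf (nat_lit 132)) (.leaf (nat_lit 192))) (.node (nat_lit 18815) (.leaf (nat_lit 342)) (.node (nat_lit 18846) (.leaf (nat_lit 15)) (.leaf (nat_lit 273))))) (.node (nat_lit 18964) (.node (nat_lit 18898) (.leaf (nat_lit 15)) (.node (nat_lit 18943) (.leaf (nat_lit 9)) (.leaf (nat_lit 0)))) (.node (nat_lit 19129) (.leaf (nat_lit 12)) (.node (nat_lit 19264) (.leaf (nat_lit 42)) (.leaf (nat_lit 273)))))))) (.node (nat_lit 20842) (.node (nat_lit 20207) (.node (nat_lit 19962) (.node (nat_lit 19876) (.node (nat_lit 19711) (.leaf (nat_lit 156)) (.leaf (nat_lit 0))) (.node (nat_lit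 19896) (.leaf (nat_lit 42)) (.node (nat_lit 19913) (.leaf (nat_lit 315)) (.leaf (nat_lit 153))))) (.node (nat_lit 20088) (.node (nat_lit 20043) (.leaf (nat_lit 195)) (.node (nat_lit 20065) (.leaf (nat_lit 315)) (.leaf (nat_lit 165)))) (.node (nat_lit 20120) (.leaf (nat_lit 192)) (.node (nat_lit 20145) (.leaf (nat_lit 156)) (.leaf (nat_lit 3)))))) (.node (nat_lit 20622) (.node (nat_lit 20484) (.node (nat_lit 20340) (.leaf (nat_lit 315)) (.leaf (nat_lit 39))) (.node (nat_lit 20599) (.leaf (nat_lit 252)) (.node (nat_lit 20608) (.leaf (nat_lit 132)) (.leaf (nat_lit 6))))) (.node (nat_lit 20758) (.node (nat_lit 20657) (.leaf (nat_lit 165)) (.node (nat_lit 20675) (.leaf (nat_lit 273)) (.leaf (nat_lit 255)))) (.node (nat_lit 20813) (.leaf (nat_lit 225)) (.node (nat_lit 20816) (.leaf (nat_lit 282)) (.leaf (nat_lit 192))))))) (.node (nat_lit 21581) (.node (nat_lit 21235) (.node (nat_lit 20850) (.node (nat_lit 20845) (.leaf (nat_lit 0)) (.leaf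 (nat_lit 195))) (.node (nat_lit 21001) (.leaf (nat_lit 0)) (.node (nat_lit 21065) (.leaf (nat_lit 273)) (.leaf (nat_lit 342))))) (.node (nat_lit 21439) (.node (nat_lit 21335) (.leaf (nat_lit 12)) (.node (nat_lit 21438) (.leaf (nat_lit 42)) (.leaf (nat_lit 282)))) (.node (nat_lit 21508) (.leaf (nat_lit 12)) (.node (nat_lit 21543) (.leaf (nat_lit 195)) (.leaf (nat_lit 9)))))) (.node (nat_lit 21961) (.node (nat_lit 21928) (.node (nat_lit 21807) (.leaf (nat_lit 342)) (.leaf (nat_lit 39))) (.node (nat_lit 21929) (.leaf (nat_lit 0)) (.node (nat_lit 21931) (.leaf (nat_lit 45)) (.leaf (nat_lit 33))))) (.node (nat_lit 22397) (.node (nat_lit 22307) (.leaf (nat_lit 132)) (.node (nat_lit 22356) (.leaf (nat_lit 15)) (.leaf (nat_lit 30)))) (.node (nat_lit 22402) (.leaf (nat_lit 3)) (.node (nat_lit 22565) (.leaf (nat_lit 165)) (.leaf (nat_lit 3)))))))))))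
noncomputable def KA_soc_t1 : ST := (.node (nat_lit 5117) (.node (nat_lit 3104) (.node (nat_lit 1583) (.node (nat_lit 875) (.node (nat_lit 599) (.node (nat_lit 518) (.node (nat_lit 182) (.node (nat_lit 91) (.leaf (nat_lit 120)) (.leaf (nat_lit 140))) (.node (nat_lit 219) (.leaf (nat_lit 150)) (.node (nat_lit 476) (.leaf (nat_lit 0)) (.leaf (nat_lit 96))))) (.node (nat_lit 534) (.node (nat_lit 527) (.leaf (nat_lit 0)) (.leaf (nat_lit 120))) (.node (nat_lit 583) (.leaf (nat_lit 36)) (.node (nat_lit 586) (.leaf (nat_lit 0)) (.leaf (nat_lit 66)))))) (.node (nat_lit 718) (.node (nat_lit 648) (.node (nat_lit 621) (.leaf (nat_lit 3)) (.leaf (nat_lit 60))) (.node (nat_lit 651) (.leaf (nat_lit 3)) (.node (nat_lit 653) (.leaf (nat_lit 270)) (.leaf (nat_lit 150))))) (.node (nat_lit 822) (.node (nat_lit 719) (.leaf (nat_lit 0)) (.leaf (nat_lit 270))) (.node (nat_lit 831) (.leaf (nat_lit 72)) (.node (nat_lit 859) (.leaf (nat_lit 60)) (.leaf (nat_lit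 44))))))) (.node (nat_lit 1255) (.node (nat_lit 1050) (.node (nat_lit 927) (.node (nat_lit 910) (.leaf (nat_lit 246)) (.leaf (nat_lit 36))) (.node (nat_lit 1004) (.leaf (nat_lit 157)) (.node (nat_lit 1022) (.leaf (nat_lit 150)) (.leaf (nat_lit 270))))) (.node (nat_lit 1083) (.node (nat_lit 1055) (.leaf (nat_lit 0)) (.leaf (nat_lit 60))) (.node (nat_lit 1176) (.leaf (nat_lit 270)) (.node (nat_lit 1223) (.leaf (nat_lit 30)) (.leaf (nat_lit 140)))))) (.node (nat_lit 1400) (.node (nat_lit 1297) (.node (nat_lit 1258) (.leaf (nat_lit 150)) (.leaf (nat_lit 270))) (.node (nat_lit 1321) (.leaf (nat_lit 150)) (.node (nat_lit 1349) (.leaf (nat_lit 30)) (.leaf (nat_lit 44))))) (.node (nat_lit 1435) (.node (nat_lit 1430) (.leaf (nat_lit 120)) (.leaf (nat_lit 0))) (.node (nat_lit 1498) (.leaf (nat_lit 270)) (.node (nat_lit 1534) (.leaf (nat_lit 120)) (.leaf (nat_lit 150)))))))) (.node (nat_lit 2506) (.node (nat_lit 1970) (.node (nat_lit 1653) (.node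 (nat_lit 1601) (.node (nat_lit 1599) (.leaf (nat_lit 60)) (.leaf (nat_lit 150))) (.node (nat_lit 1638) (.leaf (nat_lit 157)) (.node (nat_lit 1648) (.leaf (nat_lit 120)) (.leaf (nat_lit 36))))) (.node (nat_lit 1706) (.node (nat_lit 1666) (.leaf (nat_lit 6)) (.leaf (nat_lit 0))) (.node (nat_lit 1718) (.leaf (nat_lit 150)) (.node (nat_lit 1783) (.leaf (nat_lit 246)) (.leaf (nat_lit 30)))))) (.node (nat_lit 2378) (.node (nat_lit 2091) (.node (nat_lit 1998) (.leaf (nat_lit 150)) (.leaf (nat_lit 254))) (.node (nat_lit 2255) (.leaf (nat_lit 60)) (.node (nat_lit 2297) (.leaf (nat_lit 72)) (.leaf (nat_lit 187))))) (.node (nat_lit 2430) (.node (nat_lit 2423) (.leaf (nat_lit 0)) (.leaf (nat_lit 66))) (.node (nat_lit 2436) (.leaf (nat_lit 60)) (.node (nat_lit 2488) (.leaf (nat_lit 120)) (.leaf (nat_lit 246))))))) (.node (nat_lit 2831) (.node (nat_lit 2689) (.node (nat_lit 2654) (.node (nat_lit 2619) (.leaf (nat_lit 120)) (.leaf (nat_lit 60)))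 (.node (nat_lit 2655) (.leaf (nat_lit 150)) (.node (nat_lit 2684) (.leaf (nat_lit 72)) (.leaf (nat_lit 30))))) (.node (nat_lit 2740) (.node (nat_lit 2719) (.leaf (nat_lit 187)) (.leaf (nat_lit 270))) (.node (nat_lit 2774) (.leaf (nat_lit 120)) (.node (nat_lit 2829) (.leaf (nat_lit 60)) (.leaf (nat_lit 30)))))) (.node (nat_lit 3006) (.node (nat_lit 2927) (.node (nat_lit 2865) (.leaf (nat_lit 120)) (.leaf (nat_lit 60))) (.node (nat_lit 2941) (.leaf (nat_lit 150)) (.node (nat_lit 2970) (.leaf (nat_lit 277)) (.leaf (nat_lit 150))))) (.node (nat_lit 3073) (.node (nat_lit 3039) (.leaf (nat_lit 120)) (.node (nat_lit 3047) (.leaf (nat_lit 150)) (.leaf (nat_lit 44)))) (.node (nat_lit 3085) (.leaf (nat_lit 270)) (.node (nat_lit 3096) (.leaf (nat_lit 120)) (.leaf (nat_lit 187))))))))) (.node (nat_lit 4163) (.node (nat_lit 3613) (.node (nat_lit 3267) (.node (nat_lit 3229) (.node (nat_lit 3162) (.node (nat_lit 3115) (.leaf (nat_lit 0)) (.leaf (nat_lit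 36))) (.node (nat_lit 3179) (.leaf (nat_lit 120)) (.node (nat_lit 3214) (.leaf (nat_lit 30)) (.leaf (nat_lit 66))))) (.node (nat_lit 3244) (.node (nat_lit 3230) (.leaf (nat_lit 30)) (.leaf (nat_lit 126))) (.node (nat_lit 3248) (.leaf (nat_lit 0)) (.node (nat_lit 3249) (.leaf (nat_lit 126)) (.leaf (nat_lit 0)))))) (.node (nat_lit 3468) (.node (nat_lit 3306) (.node (nat_lit 3271) (.leaf (nat_lit 120)) (.leaf (nat_lit 270))) (.node (nat_lit 3370) (.leaf (nat_lit 60)) (.node (nat_lit 3445) (.leaf (nat_lit 150)) (.leaf (nat_lit 60))))) (.node (nat_lit 3503) (.node (nat_lit 3502) (.leaf (nat_lit 30)) (.leaf (nat_lit 150))) (.node (nat_lit 3537) (.leaf (nat_lit 96)) (.node (nat_lit 3571) (.leaf (nat_lit 44)) (.leaf (nat_lit 254))))))) (.node (nat_lit 3794) (.node (nat_lit 3678) (.node (nat_lit 3636) (.node (nat_lit 3614) (.leaf (nat_lit 30)) (.leaf (nat_lit 96))) (.node (nat_lit 3642) (.leaf (nat_lit 0)) (.node (nat_lit 3656) (.leaf (nat_lit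 6)) (.leaf (nat_lit 0))))) (.node (nat_lit 3722) (.node (nat_lit 3691) (.leaf (nat_lit 270)) (.leaf (nat_lit 30))) (.node (nat_lit 3761) (.leaf (nat_lit 192)) (.node (nat_lit 3789) (.leaf (nat_lit 30)) (.leaf (nat_lit 60)))))) (.node (nat_lit 3955) (.node (nat_lit 3829) (.node (nat_lit 3827) (.leaf (nat_lit 66)) (.leaf (nat_lit 270))) (.node (nat_lit 3904) (.leaf (nat_lit 0)) (.node (nat_lit 3932) (.leaf (nat_lit 31)) (.leaf (nat_lit 277))))) (.node (nat_lit 4093) (.node (nat_lit 4025) (.leaf (nat_lit 126)) (.node (nat_lit 4083) (.leaf (nat_lit 150)) (.leaf (nat_lit 6)))) (.node (nat_lit 4111) (.leaf (nat_lit 30)) (.node (nat_lit 4158) (.leaf (nat_lit 120)) (.leaf (nat_lit 30)))))))) (.node (nat_lit 4480) (.node (nat_lit 4258) (.node (nat_lit 4216) (.node (nat_lit 4181) (.node (nat_lit 4177) (.leaf (nat_lit 270)) (.leaf (nat_lit 30))) (.node (nat_lit 4196) (.leaf (nat_lit 120)) (.node (nat_lit 4215) (.leaf (nat_lit 270)) (.leaf (nat_lit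 120))))) (.node (nat_lit 4230) (.node (nat_lit 4221) (.leaf (nat_lit 30)) (.leaf (nat_lit 36))) (.node (nat_lit 4245) (.leaf (nat_lit 120)) (.node (nat_lit 4249) (.leaf (nat_lit 6)) (.leaf (nat_lit 150)))))) (.node (nat_lit 4359) (.node (nat_lit 4315) (.node (nat_lit 4285) (.leaf (nat_lit 30)) (.leaf (nat_lit 120))) (.node (nat_lit 4334) (.leaf (nat_lit 60)) (.node (nat_lit 4335) (.leaf (nat_lit 120)) (.leaf (nat_lit 60))))) (.node (nat_lit 4370) (.node (nat_lit 4368) (.leaf (nat_lit 140)) (.leaf (nat_lit 0))) (.node (nat_lit 4373) (.leaf (nat_lit 60)) (.node (nat_lit 4394) (.leaf (nat_lit 31)) (.leaf (nat_lit 150))))))) (.node (nat_lit 4774) (.node (nat_lit 4627) (.node (nat_lit 4557) (.node (nat_lit 4522) (.leaf (nat_lit 120)) (.leaf (nat_lit 150))) (.node (nat_lit 4566) (.leaf (nat_lit 120)) (.node (nat_lit 4601) (.leaf (nat_lit 0)) (.leaf (nat_lit 30))))) (.node (nat_lit 4676) (.node (nat_lit 4632) (.leaf (nat_lit 0)) (.leaf (nat_lit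 30))) (.node (nat_lit 4695) (.leaf (nat_lit 0)) (.node (nat_lit 4753) (.leaf (nat_lit 120)) (.leaf (nat_lit 150)))))) (.node (nat_lit 4847) (.node (nat_lit 4779) (.node (nat_lit 4776) (.leaf (nat_lit 0)) (.leaf (nat_lit 6))) (.node (nat_lit 4781) (.leaf (nat_lit 120)) (.node (nat_lit 4825) (.leaf (nat_lit 150)) (.leaf (nat_lit 120))))) (.node (nat_lit 5043) (.node (nat_lit 4902) (.leaf (nat_lit 157)) (.node (nat_lit 5040) (.leaf (nat_lit 120)) (.leaf (nat_lit 0)))) (.node (nat_lit 5098) (.leaf (nat_lit 30)) (.node (nat_lit 5111) (.leaf (nat_lit 120)) (.leaf (nat_lit 150)))))))))) (.node (nat_lit 7115) (.node (nat_lit 6027) (.node (nat_lit 5610) (.node (nat_lit 5356) (.node (nat_lit 5217) (.node (nat_lit 5181) (.node (nat_lit 5164) (.leaf (nat_lit 0)) (.leaf (nat_lit 120))) (.node (nat_lit 5192) (.leaf (nat_lit 60)) (.node (nat_lit 5194) (.leaf (nat_lit 246)) (.leaf (nat_lit 0))))) (.node (nat_lit 5230) (.node (nat_lit 5227) (.leaf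 (nat_lit 120)) (.leaf (nat_lit 270))) (.node (nat_lit 5255) (.leaf (nat_lit 6)) (.node (nat_lit 5302) (.leaf (nat_lit 120)) (.leaf (nat_lit 31)))))) (.node (nat_lit 5481) (.node (nat_lit 5423) (.node (nat_lit 5405) (.leaf (nat_lit 126)) (.leaf (nat_lit 270))) (.node (nat_lit 5458) (.leaf (nat_lit 30)) (.node (nat_lit 5475) (.leaf (nat_lit 120)) (.leaf (nat_lit 150))))) (.node (nat_lit 5519) (.node (nat_lit 5509) (.leaf (nat_lit 66)) (.leaf (nat_lit 0))) (.node (nat_lit 5533) (.leaf (nat_lit 30)) (.node (nat_lit 5586) (.leaf (nat_lit 6)) (.leaf (nat_lit 0))))))) (.node (nat_lit 5799) (.node (nat_lit 5682) (.node (nat_lit 5624) (.node (nat_lit 5614) (.leaf (nat_lit 30)) (.leaf (nat_lit 0))) (.node (nat_lit 5647) (.leaf (nat_lit 36)) (.node (nat_lit 5656) (.leaf (nat_lit 120)) (.leaf (nat_lit 150))))) (.node (nat_lit 5759) (.node (nat_lit 5757) (.leaf (nat_lit 120)) (.leaf (nat_lit 270))) (.node (nat_lit 5792) (.leaf (nat_lit 120)) (.node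 (nat_lit 5797) (.leaf (nat_lit 270)) (.leaf (nat_lit 150)))))) (.node (nat_lit 5930) (.node (nat_lit 5864) (.node (nat_lit 5825) (.leaf (nat_lit 60)) (.leaf (nat_lit 72))) (.node (nat_lit 5902) (.leaf (nat_lit 120)) (.node (nat_lit 5913) (.leaf (nat_lit 181)) (.leaf (nat_lit 30))))) (.node (nat_lit 5955) (.node (nat_lit 5941) (.leaf (nat_lit 6)) (.leaf (nat_lit 30))) (.node (nat_lit 5972) (.leaf (nat_lit 120)) (.node (nat_lit 6007) (.leaf (nat_lit 66)) (.leaf (nat_lit 60)))))))) (.node (nat_lit 6490) (.node (nat_lit 6328) (.node (nat_lit 6240) (.node (nat_lit 6076) (.node (nat_lit 6051) (.leaf (nat_lit 0)) (.leaf (nat_lit 270))) (.node (nat_lit 6079) (.leaf (nat_lit 0)) (.node (nat_lit 6205) (.leaf (nat_lit 246)) (.leaf (nat_lit 140))))) (.node (nat_lit 6271) (.node (nat_lit 6258) (.leaf (nat_lit 270)) (.leaf (nat_lit 120))) (.node (nat_lit 6315) (.leaf (nat_lit 126)) (.node (nat_lit 6324) (.leaf (nat_lit 72)) (.leaf (nat_lit 60))))))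 (.node (nat_lit 6390) (.node (nat_lit 6352) (.node (nat_lit 6341) (.leaf (nat_lit 120)) (.leaf (nat_lit 270))) (.node (nat_lit 6357) (.leaf (nat_lit 30)) (.node (nat_lit 6377) (.leaf (nat_lit 270)) (.leaf (nat_lit 120))))) (.node (nat_lit 6462) (.node (nat_lit 6396) (.leaf (nat_lit 150)) (.leaf (nat_lit 120))) (.node (nat_lit 6480) (.leaf (nat_lit 6)) (.node (nat_lit 6481) (.leaf (nat_lit 120)) (.leaf (nat_lit 192))))))) (.node (nat_lit 6831) (.node (nat_lit 6735) (.node (nat_lit 6656) (.node (nat_lit 6641) (.leaf (nat_lit 31)) (.leaf (nat_lit 120))) (.node (nat_lit 6679) (.leaf (nat_lit 150)) (.node (nat_lit 6726) (.leaf (nat_lit 60)) (.leaf (nat_lit 150))))) (.node (nat_lit 6779) (.node (nat_lit 6744) (.leaf (nat_lit 181)) (.leaf (nat_lit 150))) (.node (nat_lit 6807) (.leaf (nat_lit 30)) (.node (nat_lit 6812) (.leaf (nat_lit 120)) (.leaf (nat_lit 192)))))) (.node (nat_lit 6931) (.node (nat_lit 6889) (.node (nat_lit 6882) (.leaf (nat_lit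 66)) (.leaf (nat_lit 150))) (.node (nat_lit 6898) (.leaf (nat_lit 30)) (.node (nat_lit 6908) (.leaf (nat_lit 120)) (.leaf (nat_lit 6))))) (.node (nat_lit 7036) (.node (nat_lit 6936) (.leaf (nat_lit 157)) (.node (nat_lit 6959) (.leaf (nat_lit 150)) (.leaf (nat_lit 31)))) (.node (nat_lit 7080) (.leaf (nat_lit 150)) (.node (nat_lit 7097) (.leaf (nat_lit 0)) (.leaf (nat_lit 150))))))))) (.node (nat_lit 8021) (.node (nat_lit 7377) (.node (nat_lit 7253) (.node (nat_lit 7187) (.node (nat_lit 7162) (.node (nat_lit 7154) (.leaf (nat_lit 120)) (.leaf (nat_lit 72))) (.node (nat_lit 7164) (.leaf (nat_lit 150)) (.node (nat_lit 7181) (.leaf (nat_lit 0)) (.leaf (nat_lit 254))))) (.node (nat_lit 7224) (.node (nat_lit 7223) (.leaf (nat_lit 3)) (.leaf (nat_lit 192))) (.node (nat_lit 7225) (.leaf (nat_lit 181)) (.node (nat_lit 7236) (.leaf (nat_lit 96)) (.leaf (nat_lit 3)))))) (.node (nat_lit 7325) (.node (nat_lit 7273) (.node (nat_lit 7258) (.leaf (nat_lit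 30)) (.leaf (nat_lit 150))) (.node (nat_lit 7300) (.leaf (nat_lit 60)) (.node (nat_lit 7306) (.leaf (nat_lit 270)) (.leaf (nat_lit 0))))) (.node (nat_lit 7339) (.node (nat_lit 7328) (.leaf (nat_lit 120)) (.leaf (nat_lit 246))) (.node (nat_lit 7372) (.leaf (nat_lit 30)) (.node (nat_lit 7374) (.leaf (nat_lit 0)) (.leaf (nat_lit 30))))))) (.node (nat_lit 7741) (.node (nat_lit 7605) (.node (nat_lit 7477) (.node (nat_lit 7405) (.leaf (nat_lit 36)) (.leaf (nat_lit 277))) (.node (nat_lit 7526) (.leaf (nat_lit 150)) (.node (nat_lit 7570) (.leaf (nat_lit 60)) (.leaf (nat_lit 126))))) (.node (nat_lit 7647) (.node (nat_lit 7638) (.leaf (nat_lit 270)) (.leaf (nat_lit 254))) (.node (nat_lit 7713) (.leaf (nat_lit 270)) (.node (nat_lit 7722) (.leaf (nat_lit 36)) (.leaf (nat_lit 30)))))) (.node (nat_lit 7860) (.node (nat_lit 7790) (.node (nat_lit 7780) (.leaf (nat_lit 72)) (.leaf (nat_lit 0))) (.node (nat_lit 7803) (.leaf (nat_lit 150)) (.node (nat_lit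 7818) (.leaf (nat_lit 270)) (.leaf (nat_lit 30))))) (.node (nat_lit 7895) (.node (nat_lit 7868) (.leaf (nat_lit 31)) (.node (nat_lit 7880) (.leaf (nat_lit 120)) (.leaf (nat_lit 126)))) (.node (nat_lit 7937) (.leaf (nat_lit 270)) (.node (nat_lit 7985) (.leaf (nat_lit 120)) (.leaf (nat_lit 36)))))))) (.node (nat_lit 8554) (.node (nat_lit 8302) (.node (nat_lit 8221) (.node (nat_lit 8153) (.node (nat_lit 8057) (.leaf (nat_lit 120)) (.leaf (nat_lit 181))) (.node (nat_lit 8182) (.leaf (nat_lit 150)) (.node (nat_lit 8218) (.leaf (nat_lit 120)) (.leaf (nat_lit 30))))) (.node (nat_lit 8254) (.node (nat_lit 8251) (.leaf (nat_lit 72)) (.leaf (nat_lit 60))) (.node (nat_lit 8265) (.leaf (nat_lit 120)) (.node (nat_lit 8287) (.leaf (nat_lit 36)) (.leaf (nat_lit 0)))))) (.node (nat_lit 8392) (.node (nat_lit 8354) (.node (nat_lit 8330) (.leaf (nat_lit 270)) (.leaf (nat_lit 120))) (.node (nat_lit 8359) (.leaf (nat_lit 270)) (.node (nat_lit 8363) (.leaf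 (nat_lit 120)) (.leaf (nat_lit 30))))) (.node (nat_lit 8428) (.node (nat_lit 8396) (.leaf (nat_lit 0)) (.leaf (nat_lit 277))) (.node (nat_lit 8462) (.leaf (nat_lit 120)) (.node (nat_lit 8503) (.leaf (nat_lit 126)) (.leaf (nat_lit 150))))))) (.node (nat_lit 8820) (.node (nat_lit 8728) (.node (nat_lit 8629) (.node (nat_lit 8568) (.leaf (nat_lit 66)) (.leaf (nat_lit 120))) (.node (nat_lit 8637) (.leaf (nat_lit 150)) (.node (nat_lit 8694) (.leaf (nat_lit 30)) (.leaf (nat_lit 0))))) (.node (nat_lit 8776) (.node (nat_lit 8755) (.leaf (nat_lit 36)) (.leaf (nat_lit 120))) (.node (nat_lit 8777) (.leaf (nat_lit 60)) (.node (nat_lit 8792) (.leaf (nat_lit 0)) (.leaf (nat_lit 60)))))) (.node (nat_lit 9000) (.node (nat_lit 8847) (.node (nat_lit 8839) (.leaf (nat_lit 120)) (.leaf (nat_lit 0))) (.node (nat_lit 8904) (.leaf (nat_lit 270)) (.node (nat_lit 8933) (.leaf (nat_lit 120)) (.leaf (nat_lit 270))))) (.node (nat_lit 9065) (.node (nat_lit 9003)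 (.leaf (nat_lit 0)) (.node (nat_lit 9052) (.leaf (nat_lit 6)) (.leaf (nat_lit 60)))) (.node (nat_lit 9124) (.leaf (nat_lit 120)) (.node (nat_lit 9177) (.leaf (nat_lit 270)) (.leaf (nat_lit 120)))))))))))
noncomputable def KA_soc_F : Fm := (.all KA_L (.or (.qf (.eq (.v (nat_lit 0)) .one)) (.exF KA_L (fun cs => KA_soc_t1.find (Nat.mod (nth (nat_lit 0) cs (nat_lit 0)) (nat_lit 9250))) (.exF KA_L (fun cs => KA_soc_t0.find (Nat.mod (Nat.add (nth (nat_lit 0) cs (nat_lit 0)) (Nat.mul (nat_lit 7919) (nth (nat_lit 0) cs (nat_lit 1)))) (nat_lit 22587))) (.qf (.or (.eq (.mul (.mul (.v (nat_lit 0)) (.v (nat_lit 2))) (.inv (.v (nat_lit 0)))) (.v (nat_lit 3))) (.or (.eq (.mul (.mul (.v (nat_lit 0)) (.v (nat_lit 2))) (.inv (.v (nat_lit 0)))) (.v (nat_lit 3))) (.or (.eq (.mul (.mul (.v (nat_lit 0)) (.mul (.mul (.mul (.v (nat_lit 2)) (.v (nat_lit 1))) (.inv (.v (nat_lit 2)))) (.inv (.v (nat_lit 1))))) (.inv (.v (nat_lit 0)))) (.v (nat_lit 3))) (.or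 (.eq (.mul (.mul (.v (nat_lit 0)) (.mul (.mul (.mul (.v (nat_lit 2)) (.v (nat_lit 1))) (.inv (.v (nat_lit 2)))) (.inv (.v (nat_lit 1))))) (.inv (.v (nat_lit 0)))) (.v (nat_lit 3))) (.or (.eq (.mul (.mul (.mul (.mul (.mul (.mul (.v (nat_lit 2)) (.v (nat_lit 1))) (.inv (.v (nat_lit 2)))) (.inv (.v (nat_lit 1)))) (.v (nat_lit 0))) (.inv (.mul (.mul (.mul (.v (nat_lit 2)) (.v (nat_lit 1))) (.inv (.v (nat_lit 2)))) (.inv (.v (nat_lit 1)))))) (.inv (.v (nat_lit 0)))) (.v (nat_lit 3))) (.eq (.mul (.mul (.mul (.mul (.mul (.mul (.v (nat_lit 2)) (.v (nat_lit 1))) (.inv (.v (nat_lit 2)))) (.inv (.v (nat_lit 1)))) (.v (nat_lit 0))) (.inv (.mul (.mul (.mul (.v (nat_lit 2)) (.v (nat_lit 1))) (.inv (.v (nat_lit 2)))) (.inv (.v (nat_lit 1)))))) (.inv (.v (nat_lit 0)))) (.v (nat_lit 3)))))))))))))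
theorem KA_soc_chk : Fm.chk KA_o KA_soc_F KA_cs = true := by decide +kernel
theorem KA_soc {G : Type*} [Group G] {R : ℕ → G → Prop} {a a_i b b_i r r_i w : G} {H : Subgroup G}
    (M : Mdl KA_o KA_cs KA_L R [a, a_i, b, b_i, r, r_i, w] H) :
    ∀ y_ ∈ H, y_ = 1 ∨ (∃ q_ ∈ H, ∃ k_ ∈ H, k_ * y_ * k_⁻¹ = a ∨ k_ * y_ * k_⁻¹ = a ∨ k_ * ⁅y_, q_⁆ * k_⁻¹ = a ∨ k_ * ⁅y_, q_⁆ * k_⁻¹ = a ∨ ⁅⁅y_, q_⁆, k_⁆ = a ∨ ⁅⁅y_, q_⁆, k_⁆ = a) :=
  have h : ∀ y_, InL KA_o R KA_L y_ → y_ = 1 ∨ (Good KA_o R KA_L → prods KA_o KA_L KA_o.one ≠ [] → ∃ q_, InL KA_o R KA_L q_ ∧ (Good KA_o R KA_L → prods KA_o KA_L KA_o.one ≠ [] → ∃ k_, InL KA_o R KA_L k_ ∧ (k_ * y_ * k_⁻¹ = a ∨ k_ * y_ * k_⁻¹ = a ∨ k_ * ⁅y_, q_⁆ * k_⁻¹ = a ∨ k_ * ⁅y_, q_⁆ * k_⁻¹ = a ∨ ⁅⁅y_, q_⁆, k_⁆ = a ∨ ⁅⁅y_, q_⁆, k_⁆ = a))) :=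
    Fm.sound M.μ KA_soc_F KA_soc_chk M.reps
  (fun y_ h0 => (Or.imp (fun h1 => h1) (fun h1 => (Exists.imp (fun q_ h2 => ⟨M.H.iff.1 h2.1, (Exists.imp (fun k_ h3 => ⟨M.H.iff.1 h3.1, h3.2⟩) (h2.2 M.H.good M.H.ne))⟩) (h1 M.H.good M.H.ne))) (h y_ (M.H.iff.2 h0))))
theorem KA_mdl {G : Type*} [Group G] {a b r w : G}
    (h : KA a b r w)
    (n1 : a ≠ 1) :
    ∃ R, Mdl KA_o KA_cs KA_L R [a, a⁻¹, b, b⁻¹, r, r⁻¹, w] (sp [a, a⁻¹, b, b⁻¹, r, r⁻¹, w]) ∧ #(sp [a, a⁻¹, b, b⁻¹, r, r⁻¹, w]) = 360 :=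
  mdl_of KA_P rfl (KA_r h) (.v (nat_lit 0)) (.v (nat_lit 0)) n1 n1
    fun _ ms _ M hl => match ms, M, (hl : ms.length = 7) with
      | [_, _, _, _, _, _, _], M, _ => KA_soc M
noncomputable def KA_ex_t0 : ST := (.node (nat_lit 155844) (.node (nat_lit 81093) (.node (nat_lit 42540) (.node (nat_lit 20383) (.node (nat_lit 9381) (.node (nat_lit 4211) (.node (nat_lit 2133) (.node (nat_lit 1321) (.node (nat_lit 678) (.node (nat_lit 663) (.leaf (nat_lit 228)) (.leaf (nat_lit 127))) (.node (nat_lit 958) (.leaf (nat_lit 8)) (.node (nat_lit 1060) (.leaf (nat_lit 128)) (.leaf (nat_lit 168))))) (.node (nat_lit 1452) (.node (nat_lit 1327) (.leaf (nat_lit 97)) (.leaf (nat_lit 190))) (.node (nat_lit 1496) (.leaf (nat_lit 168)) (.node (nat_lit 2101) (.leaf (nat_lit 190)) (.leaf (nat_lit 104)))))) (.node (nat_lit 2779) (.node (nat_lit 2391) (.node (nat_lit 2255) (.leaf (nat_lit 12)) (.leaf (nat_lit 180))) (.node (nat_lit 2497) (.leaf (nat_lit 69))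 (.node (nat_lit 2591) (.leaf (nat_lit 142)) (.leaf (nat_lit 136))))) (.node (nat_lit 3459) (.node (nat_lit 2963) (.leaf (nat_lit 142)) (.node (nat_lit 2987) (.leaf (nat_lit 127)) (.leaf (nat_lit 257)))) (.node (nat_lit 3620) (.leaf (nat_lit 6)) (.node (nat_lit 4016) (.leaf (nat_lit 330)) (.leaf (nat_lit 6))))))) (.node (nat_lit 6500) (.node (nat_lit 5704) (.node (nat_lit 4539) (.node (nat_lit 4377) (.leaf (nat_lit 93)) (.leaf (nat_lit 136))) (.node (nat_lit 4718) (.leaf (nat_lit 202)) (.node (nat_lit 5372) (.leaf (nat_lit 30)) (.leaf (nat_lit 347))))) (.node (nat_lit 6349) (.node (nat_lit 6009) (.leaf (nat_lit 30)) (.node (nat_lit 6063) (.leaf (nat_lit 54)) (.leaf (nat_lit 21)))) (.node (nat_lit 6398) (.leaf (nat_lit 347)) (.node (nat_lit 6468) (.leaf (nat_lit 202)) (.leaf (nat_lit 54)))))) (.node (nat_lit 7985) (.node (nat_lit 7113) (.node (nat_lit 7064) (.leaf (nat_lit 69)) (.leaf (nat_lit 190))) (.node (nat_lit 7183) (.leaf (nat_lit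 93)) (.node (nat_lit 7617) (.leaf (nat_lit 180)) (.leaf (nat_lit 190))))) (.node (nat_lit 8591) (.node (nat_lit 8288) (.leaf (nat_lit 263)) (.node (nat_lit 8475) (.leaf (nat_lit 136)) (.leaf (nat_lit 54)))) (.node (nat_lit 8598) (.leaf (nat_lit 12)) (.node (nat_lit 9039) (.leaf (nat_lit 127)) (.leaf (nat_lit 330)))))))) (.node (nat_lit 15462) (.node (nat_lit 13081) (.node (nat_lit 11874) (.node (nat_lit 10324) (.node (nat_lit 9624) (.leaf (nat_lit 80)) (.leaf (nat_lit 330))) (.node (nat_lit 11041) (.leaf (nat_lit 136)) (.node (nat_lit 11611) (.leaf (nat_lit 127)) (.leaf (nat_lit 228))))) (.node (nat_lit 12511) (.node (nat_lit 12175) (.leaf (nat_lit 190)) (.node (nat_lit 12476) (.leaf (nat_lit 330)) (.leaf (nat_lit 246)))) (.node (nat_lit 12693) (.leaf (nat_lit 12)) (.node (nat_lit 13078) (.leaf (nat_lit 312)) (.leaf (nat_lit 263)))))) (.node (nat_lit 14880) (.node (nat_lit 14391) (.node (nat_lit 14246) (.leaf (nat_lit 128)) (.leaf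 (nat_lit 7))) (.node (nat_lit 14492) (.leaf (nat_lit 104)) (.node (nat_lit 14805) (.leaf (nat_lit 97)) (.leaf (nat_lit 21))))) (.node (nat_lit 15193) (.node (nat_lit 15074) (.leaf (nat_lit 127)) (.node (nat_lit 15123) (.leaf (nat_lit 347)) (.leaf (nat_lit 202)))) (.node (nat_lit 15262) (.leaf (nat_lit 54)) (.node (nat_lit 15294) (.leaf (nat_lit 93)) (.leaf (nat_lit 126))))))) (.node (nat_lit 17856) (.node (nat_lit 16543) (.node (nat_lit 16091) (.node (nat_lit 15959) (.leaf (nat_lit 317)) (.leaf (nat_lit 312))) (.node (nat_lit 16127) (.leaf (nat_lit 104)) (.node (nat_lit 16536) (.leaf (nat_lit 234)) (.leaf (nat_lit 67))))) (.node (nat_lit 16986) (.node (nat_lit 16585) (.leaf (nat_lit 324)) (.node (nat_lit 16764) (.leaf (nat_lit 67)) (.leaf (nat_lit 305)))) (.node (nat_lit 16998) (.leaf (nat_lit 69)) (.node (nat_lit 17319) (.leaf (nat_lit 263)) (.leaf (nat_lit 80)))))) (.node (nat_lit 19601) (.node (nat_lit 18313) (.node (nat_lit 17941)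 (.leaf (nat_lit 127)) (.leaf (nat_lit 257))) (.node (nat_lit 18598) (.leaf (nat_lit 7)) (.node (nat_lit 18955) (.leaf (nat_lit 317)) (.leaf (nat_lit 54))))) (.node (nat_lit 20042) (.node (nat_lit 19686) (.leaf (nat_lit 7)) (.node (nat_lit 20026) (.leaf (nat_lit 15)) (.leaf (nat_lit 54)))) (.node (nat_lit 20143) (.leaf (nat_lit 7)) (.node (nat_lit 20358) (.leaf (nat_lit 97)) (.leaf (nat_lit 202))))))))) (.node (nat_lit 31446) (.node (nat_lit 25258) (.node (nat_lit 22989) (.node (nat_lit 21608) (.node (nat_lit 21053) (.node (nat_lit 20976) (.leaf (nat_lit 18)) (.leaf (nat_lit 263))) (.node (nat_lit 21215) (.leaf (nat_lit 69)) (.node (nat_lit 21585) (.leaf (nat_lit 93)) (.leaf (nat_lit 69))))) (.node (nat_lit 22421) (.node (nat_lit 21613) (.leaf (nat_lit 317)) (.leaf (nat_lit 228))) (.node (nat_lit 22441) (.leaf (nat_lit 136)) (.node (nat_lit 22875) (.leaf (nat_lit 317)) (.leaf (nat_lit 312)))))) (.node (nat_lit 24303) (.node (nat_lit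 23936) (.node (nat_lit 23887) (.leaf (nat_lit 30)) (.leaf (nat_lit 69))) (.node (nat_lit 23962) (.leaf (nat_lit 341)) (.node (nat_lit 24006) (.leaf (nat_lit 305)) (.leaf (nat_lit 330))))) (.node (nat_lit 25111) (.node (nat_lit 24733) (.leaf (nat_lit 18)) (.node (nat_lit 24771) (.leaf (nat_lit 80)) (.leaf (nat_lit 67)))) (.node (nat_lit 25121) (.leaf (nat_lit 263)) (.node (nat_lit 25160) (.leaf (nat_lit 190)) (.leaf (nat_lit 263))))))) (.node (nat_lit 28325) (.node (nat_lit 26350) (.node (nat_lit 25581) (.node (nat_lit 25516) (.leaf (nat_lit 127)) (.leaf (nat_lit 80))) (.node (nat_lit 26125) (.leaf (nat_lit 6)) (.node (nat_lit 26265) (.leaf (nat_lit 30)) (.leaf (nat_lit 305))))) (.node (nat_lit 28029) (.node (nat_lit 26683) (.leaf (nat_lit 37)) (.node (nat_lit 27879) (.leaf (nat_lit 330)) (.leaf (nat_lit 127)))) (.node (nat_lit 28249) (.leaf (nat_lit 247)) (.node (nat_lit 28300) (.leaf (nat_lit 69)) (.leaf (nat_lit 136)))))) (.node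 (nat_lit 30361) (.node (nat_lit 28835) (.node (nat_lit 28790) (.leaf (nat_lit 37)) (.leaf (nat_lit 104))) (.node (nat_lit 28843) (.leaf (nat_lit 232)) (.node (nat_lit 29819) (.leaf (nat_lit 37)) (.leaf (nat_lit 330))))) (.node (nat_lit 31065) (.node (nat_lit 30749) (.leaf (nat_lit 126)) (.node (nat_lit 30891) (.leaf (nat_lit 12)) (.leaf (nat_lit 111)))) (.node (nat_lit 31107) (.leaf (nat_lit 81)) (.node (nat_lit 31361) (.leaf (nat_lit 128)) (.leaf (nat_lit 232)))))))) (.node (nat_lit 36321) (.node (nat_lit 32975) (.node (nat_lit 32201) (.node (nat_lit 32096) (.node (nat_lit 31898) (.leaf (nat_lit 8)) (.leaf (nat_lit 81))) (.node (nat_lit 32152) (.leaf (nat_lit 247)) (.node (nat_lit 32194) (.leaf (nat_lit 93)) (.leaf (nat_lit 232))))) (.node (nat_lit 32709) (.node (nat_lit 32271) (.leaf (nat_lit 190)) (.node (nat_lit 32318) (.leaf (nat_lit 180)) (.leaf (nat_lit 128)))) (.node (nat_lit 32727) (.leaf (nat_lit 136)) (.node (nat_lit 32781)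 (.leaf (nat_lit 67)) (.leaf (nat_lit 15)))))) (.node (nat_lit 33614) (.node (nat_lit 33173) (.node (nat_lit 33157) (.leaf (nat_lit 202)) (.leaf (nat_lit 228))) (.node (nat_lit 33519) (.leaf (nat_lit 15)) (.node (nat_lit 33560) (.leaf (nat_lit 18)) (.leaf (nat_lit 136))))) (.node (nat_lit 34383) (.node (nat_lit 33681) (.leaf (nat_lit 15)) (.node (nat_lit 34197) (.leaf (nat_lit 8)) (.leaf (nat_lit 312)))) (.node (nat_lit 35499) (.leaf (nat_lit 30)) (.node (nat_lit 35929) (.leaf (nat_lit 190)) (.leaf (nat_lit 127))))))) (.node (nat_lit 40888) (.node (nat_lit 37917) (.node (nat_lit 36965) (.node (nat_lit 36881) (.leaf (nat_lit 93)) (.leaf (nat_lit 202))) (.node (nat_lit 37357) (.leaf (nat_lit 80)) (.node (nat_lit 37805) (.leaf (nat_lit 97)) (.leaf (nat_lit 30))))) (.node (nat_lit 38829) (.node (nat_lit 38175) (.leaf (nat_lit 257)) (.node (nat_lit 38378) (.leaf (nat_lit 54)) (.leaf (nat_lit 97)))) (.node (nat_lit 40503) (.leaf (nat_lit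 111)) (.node (nat_lit 40838) (.leaf (nat_lit 317)) (.leaf (nat_lit 26)))))) (.node (nat_lit 41671) (.node (nat_lit 41127) (.node (nat_lit 41025) (.leaf (nat_lit 317)) (.leaf (nat_lit 312))) (.node (nat_lit 41207) (.leaf (nat_lit 12)) (.node (nat_lit 41619) (.leaf (nat_lit 228)) (.leaf (nat_lit 8))))) (.node (nat_lit 42050) (.node (nat_lit 41684) (.leaf (nat_lit 26)) (.node (nat_lit 41835) (.leaf (nat_lit 104)) (.leaf (nat_lit 93)))) (.node (nat_lit 42189) (.leaf (nat_lit 246)) (.node (nat_lit 42321) (.leaf (nat_lit 26)) (.leaf (nat_lit 330)))))))))) (.node (nat_lit 62346) (.node (nat_lit 50501) (.node (nat_lit 48812) (.node (nat_lit 44469) (.node (nat_lit 43359) (.node (nat_lit 42869) (.node (nat_lit 42665) (.leaf (nat_lit 168)) (.leaf (nat_lit 111))) (.node (nat_lit 43224) (.leaf (nat_lit 247)) (.node (nat_lit 43309) (.leaf (nat_lit 126)) (.leaf (nat_lit 21))))) (.node (nat_lit 43569) (.node (nat_lit 43398) (.leaf (nat_lit 247)) (.leaf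 (nat_lit 54))) (.node (nat_lit 43836) (.leaf (nat_lit 202)) (.node (nat_lit 44343) (.leaf (nat_lit 324)) (.leaf (nat_lit 54)))))) (.node (nat_lit 46264) (.node (nat_lit 45042) (.node (nat_lit 44839) (.leaf (nat_lit 180)) (.leaf (nat_lit 54))) (.node (nat_lit 45326) (.leaf (nat_lit 263)) (.node (nat_lit 45751) (.leaf (nat_lit 126)) (.leaf (nat_lit 136))))) (.node (nat_lit 47903) (.node (nat_lit 47091) (.leaf (nat_lit 81)) (.node (nat_lit 47198) (.leaf (nat_lit 15)) (.leaf (nat_lit 12)))) (.node (nat_lit 48420) (.leaf (nat_lit 246)) (.node (nat_lit 48441) (.leaf (nat_lit 312)) (.leaf (nat_lit 317))))))) (.node (nat_lit 49563) (.node (nat_lit 49026) (.node (nat_lit 48939) (.node (nat_lit 48823) (.leaf (nat_lit 228)) (.leaf (nat_lit 104))) (.node (nat_lit 48975) (.leaf (nat_lit 317)) (.node (nat_lit 49024) (.leaf (nat_lit 341)) (.leaf (nat_lit 69))))) (.node (nat_lit 49372) (.node (nat_lit 49094) (.leaf (nat_lit 104)) (.node (nat_lit 49263)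 (.leaf (nat_lit 330)) (.leaf (nat_lit 69)))) (.node (nat_lit 49400) (.leaf (nat_lit 8)) (.node (nat_lit 49429) (.leaf (nat_lit 128)) (.leaf (nat_lit 248)))))) (.node (nat_lit 50089) (.node (nat_lit 49655) (.node (nat_lit 49565) (.leaf (nat_lit 26)) (.leaf (nat_lit 67))) (.node (nat_lit 49888) (.leaf (nat_lit 247)) (.node (nat_lit 49973) (.leaf (nat_lit 282)) (.leaf (nat_lit 257))))) (.node (nat_lit 50215) (.node (nat_lit 50097) (.leaf (nat_lit 246)) (.node (nat_lit 50138) (.leaf (nat_lit 168)) (.leaf (nat_lit 128)))) (.node (nat_lit 50396) (.leaf (nat_lit 347)) (.node (nat_lit 50458) (.leaf (nat_lit 26)) (.leaf (nat_lit 12)))))))) (.node (nat_lit 55819) (.node (nat_lit 51990) (.node (nat_lit 50963) (.node (nat_lit 50637) (.node (nat_lit 50586) (.leaf (nat_lit 111)) (.leaf (nat_lit 6))) (.node (nat_lit 50914) (.leaf (nat_lit 127)) (.node (nat_lit 50922) (.leaf (nat_lit 26)) (.leaf (nat_lit 324))))) (.node (nat_lit 51559) (.node (nat_lit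 51129) (.leaf (nat_lit 26)) (.node (nat_lit 51265) (.leaf (nat_lit 317)) (.leaf (nat_lit 6)))) (.node (nat_lit 51602) (.leaf (nat_lit 214)) (.node (nat_lit 51752) (.leaf (nat_lit 257)) (.leaf (nat_lit 97)))))) (.node (nat_lit 54215) (.node (nat_lit 53072) (.node (nat_lit 52435) (.leaf (nat_lit 282)) (.leaf (nat_lit 142))) (.node (nat_lit 53880) (.leaf (nat_lit 6)) (.node (nat_lit 54172) (.leaf (nat_lit 214)) (.leaf (nat_lit 317))))) (.node (nat_lit 55029) (.node (nat_lit 54867) (.leaf (nat_lit 7)) (.node (nat_lit 54984) (.leaf (nat_lit 168)) (.leaf (nat_lit 347)))) (.node (nat_lit 55069) (.leaf (nat_lit 37)) (.node (nat_lit 55809) (.leaf (nat_lit 136)) (.leaf (nat_lit 257))))))) (.node (nat_lit 58043) (.node (nat_lit 57165) (.node (nat_lit 56299) (.node (nat_lit 56242) (.leaf (nat_lit 97)) (.leaf (nat_lit 324))) (.node (nat_lit 56995) (.leaf (nat_lit 142)) (.node (nat_lit 57086) (.leaf (nat_lit 81)) (.leaf (nat_lit 347))))) (.node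 (nat_lit 57328) (.node (nat_lit 57250) (.leaf (nat_lit 317)) (.node (nat_lit 57308) (.leaf (nat_lit 12)) (.leaf (nat_lit 317)))) (.node (nat_lit 57387) (.leaf (nat_lit 6)) (.node (nat_lit 57947) (.leaf (nat_lit 128)) (.leaf (nat_lit 214)))))) (.node (nat_lit 60318) (.node (nat_lit 58413) (.node (nat_lit 58282) (.leaf (nat_lit 330)) (.leaf (nat_lit 7))) (.node (nat_lit 60162) (.leaf (nat_lit 190)) (.node (nat_lit 60195) (.leaf (nat_lit 324)) (.leaf (nat_lit 232))))) (.node (nat_lit 61151) (.node (nat_lit 60778) (.leaf (nat_lit 317)) (.node (nat_lit 61059) (.leaf (nat_lit 324)) (.leaf (nat_lit 67)))) (.node (nat_lit 61892) (.leaf (nat_lit 317)) (.node (nat_lit 62261) (.leaf (nat_lit 136)) (.leaf (nat_lit 104))))))))) (.node (nat_lit 71195) (.node (nat_lit 66223) (.node (nat_lit 63914) (.node (nat_lit 62967) (.node (nat_lit 62529) (.node (nat_lit 62407) (.leaf (nat_lit 81)) (.leaf (nat_lit 341))) (.node (nat_lit 62805) (.leaf (nat_lit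 312)) (.node (nat_lit 62958) (.leaf (nat_lit 246)) (.leaf (nat_lit 30))))) (.node (nat_lit 63345) (.node (nat_lit 63087) (.leaf (nat_lit 248)) (.leaf (nat_lit 263))) (.node (nat_lit 63557) (.leaf (nat_lit 54)) (.node (nat_lit 63669) (.leaf (nat_lit 81)) (.leaf (nat_lit 69)))))) (.node (nat_lit 65014) (.node (nat_lit 64479) (.node (nat_lit 64049) (.leaf (nat_lit 324)) (.leaf (nat_lit 37))) (.node (nat_lit 64819) (.leaf (nat_lit 142)) (.node (nat_lit 64936) (.leaf (nat_lit 228)) (.leaf (nat_lit 246))))) (.node (nat_lit 65693) (.node (nat_lit 65309) (.leaf (nat_lit 263)) (.node (nat_lit 65319) (.leaf (nat_lit 312)) (.leaf (nat_lit 317)))) (.node (nat_lit 65847) (.leaf (nat_lit 54)) (.node (nat_lit 66094) (.leaf (nat_lit 97)) (.leaf (nat_lit 30))))))) (.node (nat_lit 69003) (.node (nat_lit 67650) (.node (nat_lit 66338) (.node (nat_lit 66327) (.leaf (nat_lit 80)) (.leaf (nat_lit 247))) (.node (nat_lit 66470) (.leaf (nat_lit 8)) (.node (nat_lit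 66484) (.leaf (nat_lit 30)) (.leaf (nat_lit 228))))) (.node (nat_lit 68042) (.node (nat_lit 67969) (.leaf (nat_lit 248)) (.node (nat_lit 67992) (.leaf (nat_lit 26)) (.leaf (nat_lit 97)))) (.node (nat_lit 68602) (.leaf (nat_lit 111)) (.node (nat_lit 68686) (.leaf (nat_lit 305)) (.leaf (nat_lit 93)))))) (.node (nat_lit 70402) (.node (nat_lit 69239) (.node (nat_lit 69078) (.leaf (nat_lit 324)) (.leaf (nat_lit 127))) (.node (nat_lit 69569) (.leaf (nat_lit 248)) (.node (nat_lit 69638) (.leaf (nat_lit 142)) (.leaf (nat_lit 202))))) (.node (nat_lit 70905) (.node (nat_lit 70703) (.leaf (nat_lit 257)) (.node (nat_lit 70866) (.leaf (nat_lit 127)) (.leaf (nat_lit 330)))) (.node (nat_lit 71039) (.leaf (nat_lit 248)) (.node (nat_lit 71121) (.leaf (nat_lit 6)) (.leaf (nat_lit 190)))))))) (.node (nat_lit 77387) (.node (nat_lit 74471) (.node (nat_lit 71915) (.node (nat_lit 71425) (.node (nat_lit 71258) (.leaf (nat_lit 257)) (.leaf (nat_lit 180)))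 (.node (nat_lit 71607) (.leaf (nat_lit 317)) (.node (nat_lit 71818) (.leaf (nat_lit 247)) (.leaf (nat_lit 7))))) (.node (nat_lit 72624) (.node (nat_lit 72016) (.leaf (nat_lit 248)) (.node (nat_lit 72417) (.leaf (nat_lit 247)) (.leaf (nat_lit 21)))) (.node (nat_lit 72944) (.leaf (nat_lit 67)) (.node (nat_lit 73467) (.leaf (nat_lit 12)) (.leaf (nat_lit 67)))))) (.node (nat_lit 76125) (.node (nat_lit 75304) (.node (nat_lit 74559) (.leaf (nat_lit 330)) (.leaf (nat_lit 81))) (.node (nat_lit 75934) (.leaf (nat_lit 180)) (.node (nat_lit 75941) (.leaf (nat_lit 228)) (.leaf (nat_lit 7))))) (.node (nat_lit 76711) (.node (nat_lit 76201) (.leaf (nat_lit 247)) (.node (nat_lit 76544) (.leaf (nat_lit 21)) (.leaf (nat_lit 104)))) (.node (nat_lit 76745) (.leaf (nat_lit 180)) (.node (nat_lit 77318) (.leaf (nat_lit 234)) (.leaf (nat_lit 330))))))) (.node (nat_lit 79357) (.node (nat_lit 78558) (.node (nat_lit 77751) (.node (nat_lit 77471) (.leaf (nat_lit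 104)) (.leaf (nat_lit 93))) (.node (nat_lit 78223) (.leaf (nat_lit 248)) (.node (nat_lit 78405) (.leaf (nat_lit 128)) (.leaf (nat_lit 69))))) (.node (nat_lit 78797) (.node (nat_lit 78584) (.leaf (nat_lit 6)) (.node (nat_lit 78598) (.leaf (nat_lit 248)) (.leaf (nat_lit 80)))) (.node (nat_lit 78990) (.leaf (nat_lit 247)) (.node (nat_lit 78996) (.leaf (nat_lit 97)) (.leaf (nat_lit 128)))))) (.node (nat_lit 80390) (.node (nat_lit 79557) (.node (nat_lit 79550) (.leaf (nat_lit 347)) (.leaf (nat_lit 257))) (.node (nat_lit 79923) (.leaf (nat_lit 324)) (.node (nat_lit 80141) (.leaf (nat_lit 234)) (.leaf (nat_lit 248))))) (.node (nat_lit 80665) (.node (nat_lit 80454) (.leaf (nat_lit 246)) (.node (nat_lit 80533) (.leaf (nat_lit 330)) (.leaf (nat_lit 111)))) (.node (nat_lit 80733) (.leaf (nat_lit 282)) (.node (nat_lit 81027) (.leaf (nat_lit 126)) (.leaf (nat_lit 214))))))))))) (.node (nat_lit 118834) (.node (nat_lit 102741) (.node (nat_lit 94092)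 (.node (nat_lit 85882) (.node (nat_lit 82625) (.node (nat_lit 82102) (.node (nat_lit 81436) (.node (nat_lit 81295) (.leaf (nat_lit 305)) (.leaf (nat_lit 232))) (.node (nat_lit 81562) (.leaf (nat_lit 257)) (.node (nat_lit 81815) (.leaf (nat_lit 104)) (.leaf (nat_lit 80))))) (.node (nat_lit 82257) (.node (nat_lit 82132) (.leaf (nat_lit 136)) (.leaf (nat_lit 81))) (.node (nat_lit 82339) (.leaf (nat_lit 247)) (.node (nat_lit 82591) (.leaf (nat_lit 67)) (.leaf (nat_lit 190)))))) (.node (nat_lit 84776) (.node (nat_lit 83131) (.node (nat_lit 82789) (.leaf (nat_lit 12)) (.leaf (nat_lit 247))) (.node (nat_lit 83424) (.leaf (nat_lit 330)) (.node (nat_lit 84061) (.leaf (nat_lit 127)) (.leaf (nat_lit 12))))) (.node (nat_lit 84864) (.node (nat_lit 84815) (.leaf (nat_lit 142)) (.node (nat_lit 84820) (.leaf (nat_lit 67)) (.leaf (nat_lit 305)))) (.node (nat_lit 85556) (.leaf (nat_lit 67)) (.node (nat_lit 85619) (.leaf (nat_lit 202)) (.leaf (nat_lit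 142))))))) (.node (nat_lit 91484) (.node (nat_lit 87805) (.node (nat_lit 86434) (.node (nat_lit 86112) (.leaf (nat_lit 80)) (.leaf (nat_lit 126))) (.node (nat_lit 86504) (.leaf (nat_lit 127)) (.node (nat_lit 86612) (.leaf (nat_lit 126)) (.leaf (nat_lit 214))))) (.node (nat_lit 89942) (.node (nat_lit 88464) (.leaf (nat_lit 317)) (.node (nat_lit 88897) (.leaf (nat_lit 232)) (.leaf (nat_lit 257)))) (.node (nat_lit 91299) (.leaf (nat_lit 80)) (.node (nat_lit 91397) (.leaf (nat_lit 248)) (.leaf (nat_lit 263)))))) (.node (nat_lit 92846) (.node (nat_lit 92109) (.node (nat_lit 91725) (.leaf (nat_lit 7)) (.leaf (nat_lit 248))) (.node (nat_lit 92273) (.leaf (nat_lit 111)) (.node (nat_lit 92811) (.leaf (nat_lit 37)) (.leaf (nat_lit 69))))) (.node (nat_lit 93336) (.node (nat_lit 92969) (.leaf (nat_lit 246)) (.node (nat_lit 93098) (.leaf (nat_lit 190)) (.leaf (nat_lit 93)))) (.node (nat_lit 93382) (.leaf (nat_lit 168)) (.node (nat_lit 93802) (.leaf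 (nat_lit 111)) (.leaf (nat_lit 127)))))))) (.node (nat_lit 99013) (.node (nat_lit 96580) (.node (nat_lit 95362) (.node (nat_lit 94439) (.node (nat_lit 94365) (.leaf (nat_lit 18)) (.leaf (nat_lit 202))) (.node (nat_lit 94533) (.leaf (nat_lit 12)) (.node (nat_lit 94917) (.leaf (nat_lit 80)) (.leaf (nat_lit 81))))) (.node (nat_lit 95852) (.node (nat_lit 95797) (.leaf (nat_lit 168)) (.node (nat_lit 95819) (.leaf (nat_lit 8)) (.leaf (nat_lit 80)))) (.node (nat_lit 96296) (.leaf (nat_lit 246)) (.node (nat_lit 96577) (.leaf (nat_lit 324)) (.leaf (nat_lit 15)))))) (.node (nat_lit 97459) (.node (nat_lit 96881) (.node (nat_lit 96626) (.leaf (nat_lit 232)) (.leaf (nat_lit 15))) (.node (nat_lit 97067) (.leaf (nat_lit 202)) (.node (nat_lit 97190) (.leaf (nat_lit 15)) (.leaf (nat_lit 142))))) (.node (nat_lit 98255) (.node (nat_lit 97887) (.leaf (nat_lit 15)) (.node (nat_lit 98194) (.leaf (nat_lit 330)) (.leaf (nat_lit 202)))) (.node (nat_lit 98955)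 (.leaf (nat_lit 347)) (.node (nat_lit 99006) (.leaf (nat_lit 263)) (.leaf (nat_lit 180))))))) (.node (nat_lit 101450) (.node (nat_lit 100047) (.node (nat_lit 99748) (.node (nat_lit 99237) (.leaf (nat_lit 127)) (.leaf (nat_lit 248))) (.node (nat_lit 99957) (.leaf (nat_lit 228)) (.node (nat_lit 100046) (.leaf (nat_lit 93)) (.leaf (nat_lit 317))))) (.node (nat_lit 100749) (.node (nat_lit 100363) (.leaf (nat_lit 111)) (.node (nat_lit 100747) (.leaf (nat_lit 246)) (.leaf (nat_lit 111)))) (.node (nat_lit 101257) (.leaf (nat_lit 247)) (.node (nat_lit 101425) (.leaf (nat_lit 21)) (.leaf (nat_lit 234)))))) (.node (nat_lit 102175) (.node (nat_lit 101797) (.node (nat_lit 101744) (.leaf (nat_lit 330)) (.leaf (nat_lit 67))) (.node (nat_lit 102071) (.leaf (nat_lit 8)) (.node (nat_lit 102136) (.leaf (nat_lit 263)) (.leaf (nat_lit 104))))) (.node (nat_lit 102514) (.node (nat_lit 102251) (.leaf (nat_lit 8)) (.node (nat_lit 102392) (.leaf (nat_lit 248))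 (.leaf (nat_lit 142)))) (.node (nat_lit 102587) (.leaf (nat_lit 26)) (.node (nat_lit 102696) (.leaf (nat_lit 67)) (.leaf (nat_lit 142))))))))) (.node (nat_lit 110759) (.node (nat_lit 107017) (.node (nat_lit 103883) (.node (nat_lit 103097) (.node (nat_lit 102904) (.node (nat_lit 102882) (.leaf (nat_lit 317)) (.leaf (nat_lit 257))) (.node (nat_lit 102979) (.leaf (nat_lit 97)) (.node (nat_lit 103024) (.leaf (nat_lit 104)) (.leaf (nat_lit 180))))) (.node (nat_lit 103539) (.node (nat_lit 103435) (.leaf (nat_lit 312)) (.leaf (nat_lit 127))) (.node (nat_lit 103541) (.leaf (nat_lit 142)) (.node (nat_lit 103770) (.leaf (nat_lit 228)) (.leaf (nat_lit 12)))))) (.node (nat_lit 105370) (.node (nat_lit 104237) (.node (nat_lit 103911) (.leaf (nat_lit 111)) (.leaf (nat_lit 6))) (.node (nat_lit 104933) (.leaf (nat_lit 257)) (.node (nat_lit 105142) (.leaf (nat_lit 347)) (.leaf (nat_lit 104))))) (.node (nat_lit 106083) (.node (nat_lit 105663) (.leaf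 (nat_lit 30)) (.node (nat_lit 105825) (.leaf (nat_lit 168)) (.leaf (nat_lit 30)))) (.node (nat_lit 106412) (.leaf (nat_lit 248)) (.node (nat_lit 106916) (.leaf (nat_lit 228)) (.leaf (nat_lit 248))))))) (.node (nat_lit 109688) (.node (nat_lit 108403) (.node (nat_lit 107540) (.node (nat_lit 107025) (.leaf (nat_lit 54)) (.leaf (nat_lit 324))) (.node (nat_lit 108142) (.leaf (nat_lit 247)) (.node (nat_lit 108220) (.leaf (nat_lit 6)) (.leaf (nat_lit 257))))) (.node (nat_lit 109065) (.node (nat_lit 108443) (.leaf (nat_lit 54)) (.node (nat_lit 108950) (.leaf (nat_lit 282)) (.leaf (nat_lit 341)))) (.node (nat_lit 109247) (.leaf (nat_lit 234)) (.node (nat_lit 109413) (.leaf (nat_lit 30)) (.leaf (nat_lit 190)))))) (.node (nat_lit 110319) (.node (nat_lit 109783) (.node (nat_lit 109692) (.leaf (nat_lit 30)) (.leaf (nat_lit 214))) (.node (nat_lit 109972) (.leaf (nat_lit 247)) (.node (nat_lit 110038) (.leaf (nat_lit 7)) (.leaf (nat_lit 128))))) (.node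 (nat_lit 110420) (.node (nat_lit 110407) (.leaf (nat_lit 228)) (.node (nat_lit 110413) (.leaf (nat_lit 190)) (.leaf (nat_lit 7)))) (.node (nat_lit 110545) (.leaf (nat_lit 18)) (.node (nat_lit 110711) (.leaf (nat_lit 282)) (.leaf (nat_lit 312)))))))) (.node (nat_lit 114784) (.node (nat_lit 113513) (.node (nat_lit 111539) (.node (nat_lit 110901) (.node (nat_lit 110871) (.leaf (nat_lit 232)) (.leaf (nat_lit 128))) (.node (nat_lit 111271) (.leaf (nat_lit 21)) (.node (nat_lit 111356) (.leaf (nat_lit 8)) (.leaf (nat_lit 21))))) (.node (nat_lit 112828) (.node (nat_lit 111607) (.leaf (nat_lit 228)) (.node (nat_lit 112655) (.leaf (nat_lit 247)) (.leaf (nat_lit 232)))) (.node (nat_lit 113216) (.leaf (nat_lit 257)) (.node (nat_lit 113485) (.leaf (nat_lit 111)) (.leaf (nat_lit 305)))))) (.node (nat_lit 113689) (.node (nat_lit 113601) (.node (nat_lit 113549) (.leaf (nat_lit 228)) (.leaf (nat_lit 126))) (.node (nat_lit 113602) (.leaf (nat_lit 246))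 (.node (nat_lit 113619) (.leaf (nat_lit 127)) (.leaf (nat_lit 8))))) (.node (nat_lit 114141) (.node (nat_lit 113759) (.leaf (nat_lit 324)) (.node (nat_lit 114003) (.leaf (nat_lit 214)) (.leaf (nat_lit 312)))) (.node (nat_lit 114333) (.leaf (nat_lit 127)) (.node (nat_lit 114767) (.leaf (nat_lit 305)) (.leaf (nat_lit 111))))))) (.node (nat_lit 116019) (.node (nat_lit 115107) (.node (nat_lit 114875) (.node (nat_lit 114820) (.leaf (nat_lit 67)) (.leaf (nat_lit 7))) (.node (nat_lit 115004) (.leaf (nat_lit 67)) (.node (nat_lit 115032) (.leaf (nat_lit 30)) (.leaf (nat_lit 8))))) (.node (nat_lit 115720) (.node (nat_lit 115249) (.leaf (nat_lit 126)) (.node (nat_lit 115275) (.leaf (nat_lit 128)) (.leaf (nat_lit 7)))) (.node (nat_lit 115788) (.leaf (nat_lit 317)) (.node (nat_lit 115836) (.leaf (nat_lit 305)) (.leaf (nat_lit 136)))))) (.node (nat_lit 118092) (.node (nat_lit 117209) (.node (nat_lit 116636) (.leaf (nat_lit 104)) (.leaf (nat_lit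 305))) (.node (nat_lit 117718) (.leaf (nat_lit 126)) (.node (nat_lit 117833) (.leaf (nat_lit 30)) (.leaf (nat_lit 324))))) (.node (nat_lit 118225) (.node (nat_lit 118113) (.leaf (nat_lit 8)) (.node (nat_lit 118131) (.leaf (nat_lit 54)) (.leaf (nat_lit 312)))) (.node (nat_lit 118621) (.leaf (nat_lit 324)) (.node (nat_lit 118722) (.leaf (nat_lit 228)) (.leaf (nat_lit 8)))))))))) (.node (nat_lit 135081) (.node (nat_lit 126628) (.node (nat_lit 123069) (.node (nat_lit 121638) (.node (nat_lit 120203) (.node (nat_lit 119650) (.node (nat_lit 119495) (.leaf (nat_lit 248)) (.leaf (nat_lit 37))) (.node (nat_lit 119708) (.leaf (nat_lit 8)) (.node (nat_lit 120013) (.leaf (nat_lit 7)) (.leaf (nat_lit 37))))) (.node (nat_lit 121000) (.node (nat_lit 120328) (.leaf (nat_lit 347)) (.leaf (nat_lit 37))) (.node (nat_lit 121395) (.leaf (nat_lit 128)) (.node (nat_lit 121557) (.leaf (nat_lit 202)) (.leaf (nat_lit 8)))))) (.node (nat_lit 122380) (.node (nat_lit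 121917) (.node (nat_lit 121732) (.leaf (nat_lit 330)) (.leaf (nat_lit 232))) (.node (nat_lit 122097) (.leaf (nat_lit 190)) (.node (nat_lit 122305) (.leaf (nat_lit 81)) (.leaf (nat_lit 347))))) (.node (nat_lit 122789) (.node (nat_lit 122384) (.leaf (nat_lit 247)) (.node (nat_lit 122565) (.leaf (nat_lit 111)) (.leaf (nat_lit 232)))) (.node (nat_lit 122870) (.leaf (nat_lit 202)) (.node (nat_lit 123031) (.leaf (nat_lit 247)) (.leaf (nat_lit 282))))))) (.node (nat_lit 124887) (.node (nat_lit 124129) (.node (nat_lit 123457) (.node (nat_lit 123213) (.leaf (nat_lit 257)) (.leaf (nat_lit 214))) (.node (nat_lit 123521) (.leaf (nat_lit 111)) (.node (nat_lit 123594) (.leaf (nat_lit 126)) (.leaf (nat_lit 111))))) (.node (nat_lit 124737) (.node (nat_lit 124550) (.leaf (nat_lit 80)) (.node (nat_lit 124581) (.leaf (nat_lit 347)) (.leaf (nat_lit 232)))) (.node (nat_lit 124777) (.leaf (nat_lit 248)) (.node (nat_lit 124809) (.leaf (nat_lit 54)) (.leaf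 (nat_lit 26)))))) (.node (nat_lit 125227) (.node (nat_lit 124943) (.node (nat_lit 124919) (.leaf (nat_lit 142)) (.leaf (nat_lit 18))) (.node (nat_lit 125061) (.leaf (nat_lit 81)) (.node (nat_lit 125133) (.leaf (nat_lit 214)) (.leaf (nat_lit 282))))) (.node (nat_lit 125623) (.node (nat_lit 125311) (.leaf (nat_lit 317)) (.node (nat_lit 125414) (.leaf (nat_lit 12)) (.leaf (nat_lit 232)))) (.node (nat_lit 125871) (.leaf (nat_lit 126)) (.node (nat_lit 126256) (.leaf (nat_lit 21)) (.leaf (nat_lit 12)))))))) (.node (nat_lit 130689) (.node (nat_lit 128137) (.node (nat_lit 127480) (.node (nat_lit 127173) (.node (nat_lit 126652) (.leaf (nat_lit 18)) (.leaf (nat_lit 347))) (.node (nat_lit 127258) (.leaf (nat_lit 247)) (.node (nat_lit 127265) (.leaf (nat_lit 111)) (.leaf (nat_lit 263))))) (.node (nat_lit 127940) (.node (nat_lit 127615) (.leaf (nat_lit 104)) (.node (nat_lit 127745) (.leaf (nat_lit 111)) (.leaf (nat_lit 126)))) (.node (nat_lit 127983)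 (.leaf (nat_lit 232)) (.node (nat_lit 128079) (.leaf (nat_lit 21)) (.leaf (nat_lit 128)))))) (.node (nat_lit 129365) (.node (nat_lit 128448) (.node (nat_lit 128333) (.leaf (nat_lit 126)) (.leaf (nat_lit 202))) (.node (nat_lit 128550) (.leaf (nat_lit 111)) (.node (nat_lit 129333) (.leaf (nat_lit 21)) (.leaf (nat_lit 202))))) (.node (nat_lit 129870) (.node (nat_lit 129410) (.leaf (nat_lit 128)) (.node (nat_lit 129855) (.leaf (nat_lit 93)) (.leaf (nat_lit 232)))) (.node (nat_lit 130035) (.leaf (nat_lit 127)) (.node (nat_lit 130622) (.leaf (nat_lit 232)) (.leaf (nat_lit 324))))))) (.node (nat_lit 132825) (.node (nat_lit 131529) (.node (nat_lit 131080) (.node (nat_lit 130884) (.leaf (nat_lit 282)) (.leaf (nat_lit 18))) (.node (nat_lit 131126) (.leaf (nat_lit 37)) (.node (nat_lit 131325) (.leaf (nat_lit 282)) (.leaf (nat_lit 248))))) (.node (nat_lit 132386) (.node (nat_lit 131745) (.leaf (nat_lit 282)) (.node (nat_lit 132017) (.leaf (nat_lit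 127)) (.leaf (nat_lit 324)))) (.node (nat_lit 132559) (.leaf (nat_lit 12)) (.node (nat_lit 132617) (.leaf (nat_lit 214)) (.leaf (nat_lit 142)))))) (.node (nat_lit 133487) (.node (nat_lit 133085) (.node (nat_lit 132850) (.leaf (nat_lit 21)) (.leaf (nat_lit 246))) (.node (nat_lit 133473) (.leaf (nat_lit 228)) (.node (nat_lit 133477) (.leaf (nat_lit 202)) (.leaf (nat_lit 190))))) (.node (nat_lit 134529) (.node (nat_lit 133835) (.leaf (nat_lit 214)) (.node (nat_lit 133961) (.leaf (nat_lit 111)) (.leaf (nat_lit 234)))) (.node (nat_lit 135000) (.leaf (nat_lit 347)) (.node (nat_lit 135050) (.leaf (nat_lit 26)) (.leaf (nat_lit 37))))))))) (.node (nat_lit 145769) (.node (nat_lit 140952) (.node (nat_lit 137993) (.node (nat_lit 136130) (.node (nat_lit 135674) (.node (nat_lit 135111) (.leaf (nat_lit 234)) (.leaf (nat_lit 69))) (.node (nat_lit 135921) (.leaf (nat_lit 81)) (.node (nat_lit 136066) (.leaf (nat_lit 142)) (.leaf (nat_lit 128))))) (.node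 (nat_lit 136626) (.node (nat_lit 136306) (.leaf (nat_lit 190)) (.node (nat_lit 136620) (.leaf (nat_lit 12)) (.leaf (nat_lit 190)))) (.node (nat_lit 136805) (.leaf (nat_lit 214)) (.node (nat_lit 137665) (.leaf (nat_lit 228)) (.leaf (nat_lit 8)))))) (.node (nat_lit 139586) (.node (nat_lit 138826) (.node (nat_lit 138351) (.leaf (nat_lit 111)) (.leaf (nat_lit 228))) (.node (nat_lit 138911) (.leaf (nat_lit 111)) (.node (nat_lit 139401) (.leaf (nat_lit 80)) (.leaf (nat_lit 263))))) (.node (nat_lit 140534) (.node (nat_lit 139691) (.leaf (nat_lit 69)) (.node (nat_lit 140430) (.leaf (nat_lit 246)) (.leaf (nat_lit 180)))) (.node (nat_lit 140678) (.leaf (nat_lit 246)) (.node (nat_lit 140863) (.leaf (nat_lit 6)) (.leaf (nat_lit 168))))))) (.node (nat_lit 143509) (.node (nat_lit 142722) (.node (nat_lit 141141) (.node (nat_lit 141135) (.leaf (nat_lit 21)) (.leaf (nat_lit 228))) (.node (nat_lit 141736) (.leaf (nat_lit 126)) (.node (nat_lit 142145)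 (.leaf (nat_lit 246)) (.leaf (nat_lit 190))))) (.node (nat_lit 143326) (.node (nat_lit 143019) (.leaf (nat_lit 341)) (.node (nat_lit 143232) (.leaf (nat_lit 93)) (.leaf (nat_lit 21)))) (.node (nat_lit 143427) (.leaf (nat_lit 54)) (.node (nat_lit 143469) (.leaf (nat_lit 234)) (.leaf (nat_lit 228)))))) (.node (nat_lit 144237) (.node (nat_lit 143617) (.node (nat_lit 143611) (.leaf (nat_lit 93)) (.leaf (nat_lit 246))) (.node (nat_lit 143714) (.leaf (nat_lit 282)) (.node (nat_lit 144088) (.leaf (nat_lit 8)) (.leaf (nat_lit 257))))) (.node (nat_lit 144454) (.node (nat_lit 144271) (.leaf (nat_lit 126)) (.node (nat_lit 144414) (.leaf (nat_lit 54)) (.leaf (nat_lit 69)))) (.node (nat_lit 144619) (.leaf (nat_lit 246)) (.node (nat_lit 144909) (.leaf (nat_lit 234)) (.leaf (nat_lit 126)))))))) (.node (nat_lit 148751) (.node (nat_lit 147202) (.node (nat_lit 146397) (.node (nat_lit 146009) (.node (nat_lit 145880) (.leaf (nat_lit 180)) (.leaf (nat_lit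 246))) (.node (nat_lit 146127) (.leaf (nat_lit 126)) (.node (nat_lit 146158) (.leaf (nat_lit 248)) (.leaf (nat_lit 168))))) (.node (nat_lit 146648) (.node (nat_lit 146491) (.leaf (nat_lit 30)) (.node (nat_lit 146522) (.leaf (nat_lit 136)) (.leaf (nat_lit 93)))) (.node (nat_lit 146914) (.leaf (nat_lit 246)) (.node (nat_lit 147095) (.leaf (nat_lit 127)) (.leaf (nat_lit 128)))))) (.node (nat_lit 148086) (.node (nat_lit 147474) (.node (nat_lit 147356) (.leaf (nat_lit 67)) (.leaf (nat_lit 214))) (.node (nat_lit 147928) (.leaf (nat_lit 202)) (.node (nat_lit 148037) (.leaf (nat_lit 128)) (.leaf (nat_lit 305))))) (.node (nat_lit 148481) (.node (nat_lit 148156) (.leaf (nat_lit 214)) (.node (nat_lit 148400) (.leaf (nat_lit 30)) (.leaf (nat_lit 246)))) (.node (nat_lit 148539) (.leaf (nat_lit 69)) (.node (nat_lit 148568) (.leaf (nat_lit 282)) (.leaf (nat_lit 136))))))) (.node (nat_lit 152293) (.node (nat_lit 150194) (.node (nat_lit 149016) (.node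 (nat_lit 149013) (.leaf (nat_lit 104)) (.leaf (nat_lit 69))) (.node (nat_lit 149145) (.leaf (nat_lit 246)) (.node (nat_lit 150082) (.leaf (nat_lit 234)) (.leaf (nat_lit 202))))) (.node (nat_lit 151734) (.node (nat_lit 150891) (.leaf (nat_lit 111)) (.node (nat_lit 151497) (.leaf (nat_lit 246)) (.leaf (nat_lit 257)))) (.node (nat_lit 151924) (.leaf (nat_lit 246)) (.node (nat_lit 152126) (.leaf (nat_lit 341)) (.leaf (nat_lit 246)))))) (.node (nat_lit 154149) (.node (nat_lit 152967) (.node (nat_lit 152330) (.leaf (nat_lit 12)) (.leaf (nat_lit 142))) (.node (nat_lit 153536) (.leaf (nat_lit 6)) (.node (nat_lit 153625) (.leaf (nat_lit 26)) (.leaf (nat_lit 305))))) (.node (nat_lit 155632) (.node (nat_lit 154335) (.leaf (nat_lit 8)) (.node (nat_lit 154872) (.leaf (nat_lit 330)) (.leaf (nat_lit 12)))) (.node (nat_lit 155677) (.leaf (nat_lit 128)) (.node (nat_lit 155704) (.leaf (nat_lit 69)) (.leaf (nat_lit 257)))))))))))) (.node (nat_lit 222052)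 (.node (nat_lit 189950) (.node (nat_lit 170706) (.node (nat_lit 164409) (.node (nat_lit 159856) (.node (nat_lit 158153) (.node (nat_lit 156771) (.node (nat_lit 156194) (.node (nat_lit 156020) (.leaf (nat_lit 247)) (.leaf (nat_lit 324))) (.node (nat_lit 156315) (.leaf (nat_lit 142)) (.node (nat_lit 156672) (.leaf (nat_lit 247)) (.leaf (nat_lit 15))))) (.node (nat_lit 157597) (.node (nat_lit 157223) (.leaf (nat_lit 257)) (.leaf (nat_lit 6))) (.node (nat_lit 157598) (.leaf (nat_lit 7)) (.node (nat_lit 157675) (.leaf (nat_lit 142)) (.leaf (nat_lit 128)))))) (.node (nat_lit 158957) (.node (nat_lit 158618) (.node (nat_lit 158601) (.leaf (nat_lit 247)) (.leaf (nat_lit 317))) (.node (nat_lit 158792) (.leaf (nat_lit 248)) (.node (nat_lit 158899) (.leaf (nat_lit 12)) (.leaf (nat_lit 26))))) (.node (nat_lit 159389) (.node (nat_lit 159013) (.leaf (nat_lit 6)) (.node (nat_lit 159304) (.leaf (nat_lit 228)) (.leaf (nat_lit 37)))) (.node (nat_lit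 159405) (.leaf (nat_lit 26)) (.node (nat_lit 159466) (.leaf (nat_lit 312)) (.leaf (nat_lit 26))))))) (.node (nat_lit 162486) (.node (nat_lit 160808) (.node (nat_lit 159965) (.node (nat_lit 159858) (.leaf (nat_lit 247)) (.leaf (nat_lit 26))) (.node (nat_lit 160248) (.leaf (nat_lit 8)) (.node (nat_lit 160770) (.leaf (nat_lit 69)) (.leaf (nat_lit 190))))) (.node (nat_lit 161665) (.node (nat_lit 160811) (.leaf (nat_lit 347)) (.node (nat_lit 161152) (.leaf (nat_lit 81)) (.leaf (nat_lit 7)))) (.node (nat_lit 162073) (.leaf (nat_lit 21)) (.node (nat_lit 162152) (.leaf (nat_lit 341)) (.leaf (nat_lit 214)))))) (.node (nat_lit 163457) (.node (nat_lit 162685) (.node (nat_lit 162651) (.leaf (nat_lit 282)) (.leaf (nat_lit 127))) (.node (nat_lit 163158) (.leaf (nat_lit 111)) (.node (nat_lit 163225) (.leaf (nat_lit 168)) (.leaf (nat_lit 282))))) (.node (nat_lit 164029) (.node (nat_lit 163715) (.leaf (nat_lit 180)) (.node (nat_lit 163849) (.leaf (nat_lit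 37)) (.leaf (nat_lit 330)))) (.node (nat_lit 164053) (.leaf (nat_lit 248)) (.node (nat_lit 164253) (.leaf (nat_lit 81)) (.leaf (nat_lit 69)))))))) (.node (nat_lit 166825) (.node (nat_lit 165505) (.node (nat_lit 164860) (.node (nat_lit 164487) (.node (nat_lit 164415) (.leaf (nat_lit 7)) (.leaf (nat_lit 97))) (.node (nat_lit 164686) (.leaf (nat_lit 54)) (.node (nat_lit 164837) (.leaf (nat_lit 305)) (.leaf (nat_lit 93))))) (.node (nat_lit 165176) (.node (nat_lit 164909) (.leaf (nat_lit 317)) (.node (nat_lit 164979) (.leaf (nat_lit 111)) (.leaf (nat_lit 312)))) (.node (nat_lit 165265) (.leaf (nat_lit 214)) (.node (nat_lit 165291) (.leaf (nat_lit 111)) (.leaf (nat_lit 214)))))) (.node (nat_lit 166205) (.node (nat_lit 165873) (.node (nat_lit 165621) (.leaf (nat_lit 93)) (.leaf (nat_lit 54))) (.node (nat_lit 165995) (.leaf (nat_lit 232)) (.node (nat_lit 166009) (.leaf (nat_lit 93)) (.leaf (nat_lit 8))))) (.node (nat_lit 166441) (.node (nat_lit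 166219) (.leaf (nat_lit 30)) (.node (nat_lit 166261) (.leaf (nat_lit 214)) (.leaf (nat_lit 168)))) (.node (nat_lit 166639) (.leaf (nat_lit 234)) (.node (nat_lit 166797) (.leaf (nat_lit 8)) (.leaf (nat_lit 214))))))) (.node (nat_lit 168347) (.node (nat_lit 167588) (.node (nat_lit 167287) (.node (nat_lit 167221) (.leaf (nat_lit 312)) (.leaf (nat_lit 80))) (.node (nat_lit 167315) (.leaf (nat_lit 305)) (.node (nat_lit 167395) (.leaf (nat_lit 228)) (.leaf (nat_lit 18))))) (.node (nat_lit 167980) (.node (nat_lit 167711) (.leaf (nat_lit 128)) (.node (nat_lit 167787) (.leaf (nat_lit 263)) (.leaf (nat_lit 12)))) (.node (nat_lit 168316) (.leaf (nat_lit 81)) (.node (nat_lit 168344) (.leaf (nat_lit 30)) (.leaf (nat_lit 8)))))) (.node (nat_lit 168883) (.node (nat_lit 168540) (.node (nat_lit 168517) (.leaf (nat_lit 21)) (.leaf (nat_lit 97))) (.node (nat_lit 168554) (.leaf (nat_lit 214)) (.node (nat_lit 168740) (.leaf (nat_lit 312)) (.leaf (nat_lit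 180))))) (.node (nat_lit 170076) (.node (nat_lit 169456) (.leaf (nat_lit 37)) (.node (nat_lit 169545) (.leaf (nat_lit 21)) (.leaf (nat_lit 26)))) (.node (nat_lit 170305) (.leaf (nat_lit 18)) (.node (nat_lit 170361) (.leaf (nat_lit 81)) (.leaf (nat_lit 104))))))))) (.node (nat_lit 179934) (.node (nat_lit 175418) (.node (nat_lit 173125) (.node (nat_lit 172282) (.node (nat_lit 171889) (.node (nat_lit 171501) (.leaf (nat_lit 202)) (.leaf (nat_lit 18))) (.node (nat_lit 171947) (.leaf (nat_lit 136)) (.node (nat_lit 172191) (.leaf (nat_lit 21)) (.leaf (nat_lit 202))))) (.node (nat_lit 172353) (.node (nat_lit 172318) (.leaf (nat_lit 248)) (.leaf (nat_lit 341))) (.node (nat_lit 172491) (.leaf (nat_lit 97)) (.node (nat_lit 172569) (.leaf (nat_lit 282)) (.leaf (nat_lit 234)))))) (.node (nat_lit 173703) (.node (nat_lit 173212) (.node (nat_lit 173174) (.leaf (nat_lit 214)) (.leaf (nat_lit 305))) (.node (nat_lit 173244) (.leaf (nat_lit 6)) (.node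 (nat_lit 173399) (.leaf (nat_lit 30)) (.leaf (nat_lit 324))))) (.node (nat_lit 174977) (.node (nat_lit 173957) (.leaf (nat_lit 81)) (.node (nat_lit 174270) (.leaf (nat_lit 126)) (.leaf (nat_lit 248)))) (.node (nat_lit 175173) (.leaf (nat_lit 282)) (.node (nat_lit 175191) (.leaf (nat_lit 6)) (.leaf (nat_lit 305))))))) (.node (nat_lit 177692) (.node (nat_lit 176250) (.node (nat_lit 175547) (.node (nat_lit 175454) (.leaf (nat_lit 248)) (.leaf (nat_lit 69))) (.node (nat_lit 175862) (.leaf (nat_lit 15)) (.node (nat_lit 176120) (.leaf (nat_lit 228)) (.leaf (nat_lit 257))))) (.node (nat_lit 176833) (.node (nat_lit 176343) (.leaf (nat_lit 202)) (.node (nat_lit 176411) (.leaf (nat_lit 126)) (.leaf (nat_lit 234)))) (.node (nat_lit 177041) (.leaf (nat_lit 282)) (.node (nat_lit 177129) (.leaf (nat_lit 232)) (.leaf (nat_lit 180)))))) (.node (nat_lit 178635) (.node (nat_lit 177874) (.node (nat_lit 177862) (.leaf (nat_lit 93)) (.leaf (nat_lit 347)))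 (.node (nat_lit 178243) (.leaf (nat_lit 232)) (.node (nat_lit 178445) (.leaf (nat_lit 111)) (.leaf (nat_lit 126))))) (.node (nat_lit 178935) (.node (nat_lit 178741) (.leaf (nat_lit 248)) (.node (nat_lit 178779) (.leaf (nat_lit 234)) (.leaf (nat_lit 214)))) (.node (nat_lit 179027) (.leaf (nat_lit 282)) (.node (nat_lit 179195) (.leaf (nat_lit 136)) (.leaf (nat_lit 305)))))))) (.node (nat_lit 184861) (.node (nat_lit 181938) (.node (nat_lit 181216) (.node (nat_lit 180129) (.node (nat_lit 179964) (.leaf (nat_lit 67)) (.leaf (nat_lit 347))) (.node (nat_lit 180643) (.leaf (nat_lit 202)) (.node (nat_lit 180846) (.leaf (nat_lit 8)) (.leaf (nat_lit 128))))) (.node (nat_lit 181855) (.node (nat_lit 181490) (.leaf (nat_lit 136)) (.node (nat_lit 181641) (.leaf (nat_lit 104)) (.leaf (nat_lit 232)))) (.node (nat_lit 181877) (.leaf (nat_lit 7)) (.node (nat_lit 181878) (.leaf (nat_lit 126)) (.leaf (nat_lit 234)))))) (.node (nat_lit 182998) (.node (nat_lit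 182057) (.node (nat_lit 181987) (.leaf (nat_lit 190)) (.leaf (nat_lit 93))) (.node (nat_lit 182677) (.leaf (nat_lit 180)) (.node (nat_lit 182855) (.leaf (nat_lit 232)) (.leaf (nat_lit 168))))) (.node (nat_lit 184196) (.node (nat_lit 183167) (.leaf (nat_lit 234)) (.node (nat_lit 183247) (.leaf (nat_lit 128)) (.leaf (nat_lit 168)))) (.node (nat_lit 184643) (.leaf (nat_lit 18)) (.node (nat_lit 184719) (.leaf (nat_lit 257)) (.leaf (nat_lit 126))))))) (.node (nat_lit 188168) (.node (nat_lit 186775) (.node (nat_lit 186268) (.node (nat_lit 185601) (.leaf (nat_lit 324)) (.leaf (nat_lit 232))) (.node (nat_lit 186357) (.leaf (nat_lit 15)) (.node (nat_lit 186717) (.leaf (nat_lit 305)) (.leaf (nat_lit 7))))) (.node (nat_lit 187416) (.node (nat_lit 186926) (.leaf (nat_lit 168)) (.node (nat_lit 186951) (.leaf (nat_lit 190)) (.leaf (nat_lit 232)))) (.node (nat_lit 187783) (.leaf (nat_lit 190)) (.node (nat_lit 187855) (.leaf (nat_lit 347)) (.leaf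 (nat_lit 234)))))) (.node (nat_lit 189010) (.node (nat_lit 188556) (.node (nat_lit 188391) (.leaf (nat_lit 232)) (.leaf (nat_lit 21))) (.node (nat_lit 188958) (.leaf (nat_lit 168)) (.node (nat_lit 188998) (.leaf (nat_lit 21)) (.leaf (nat_lit 247))))) (.node (nat_lit 189843) (.node (nat_lit 189390) (.leaf (nat_lit 234)) (.node (nat_lit 189404) (.leaf (nat_lit 69)) (.leaf (nat_lit 26)))) (.node (nat_lit 189911) (.leaf (nat_lit 126)) (.node (nat_lit 189948) (.leaf (nat_lit 168)) (.leaf (nat_lit 111)))))))))) (.node (nat_lit 207385) (.node (nat_lit 197354) (.node (nat_lit 193025) (.node (nat_lit 191126) (.node (nat_lit 190663) (.node (nat_lit 189997) (.node (nat_lit 189957) (.leaf (nat_lit 347)) (.leaf (nat_lit 228))) (.node (nat_lit 190067) (.leaf (nat_lit 317)) (.node (nat_lit 190480) (.leaf (nat_lit 312)) (.leaf (nat_lit 305))))) (.node (nat_lit 190734) (.node (nat_lit 190712) (.leaf (nat_lit 282)) (.leaf (nat_lit 234))) (.node (nat_lit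 190782) (.leaf (nat_lit 111)) (.node (nat_lit 190878) (.leaf (nat_lit 257)) (.leaf (nat_lit 247)))))) (.node (nat_lit 191711) (.node (nat_lit 191525) (.node (nat_lit 191325) (.leaf (nat_lit 248)) (.leaf (nat_lit 8))) (.node (nat_lit 191686) (.leaf (nat_lit 324)) (.node (nat_lit 191703) (.leaf (nat_lit 305)) (.leaf (nat_lit 8))))) (.node (nat_lit 192335) (.node (nat_lit 191840) (.leaf (nat_lit 341)) (.node (nat_lit 192223) (.leaf (nat_lit 26)) (.leaf (nat_lit 263)))) (.node (nat_lit 192348) (.leaf (nat_lit 305)) (.node (nat_lit 192713) (.leaf (nat_lit 18)) (.leaf (nat_lit 80))))))) (.node (nat_lit 195213) (.node (nat_lit 193884) (.node (nat_lit 193539) (.node (nat_lit 193505) (.leaf (nat_lit 142)) (.leaf (nat_lit 26))) (.node (nat_lit 193701) (.leaf (nat_lit 81)) (.node (nat_lit 193742) (.leaf (nat_lit 347)) (.leaf (nat_lit 180))))) (.node (nat_lit 194461) (.node (nat_lit 194001) (.leaf (nat_lit 7)) (.node (nat_lit 194406) (.leaf (nat_lit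 8)) (.leaf (nat_lit 263)))) (.node (nat_lit 194511) (.leaf (nat_lit 347)) (.node (nat_lit 195033) (.leaf (nat_lit 263)) (.leaf (nat_lit 282)))))) (.node (nat_lit 196329) (.node (nat_lit 195727) (.node (nat_lit 195669) (.leaf (nat_lit 18)) (.leaf (nat_lit 324))) (.node (nat_lit 195847) (.leaf (nat_lit 180)) (.node (nat_lit 196061) (.leaf (nat_lit 312)) (.leaf (nat_lit 324))))) (.node (nat_lit 196641) (.node (nat_lit 196472) (.leaf (nat_lit 142)) (.node (nat_lit 196560) (.leaf (nat_lit 15)) (.leaf (nat_lit 330)))) (.node (nat_lit 197197) (.leaf (nat_lit 15)) (.node (nat_lit 197342) (.leaf (nat_lit 7)) (.leaf (nat_lit 247)))))))) (.node (nat_lit 202081) (.node (nat_lit 199287) (.node (nat_lit 198467) (.node (nat_lit 197999) (.node (nat_lit 197921) (.leaf (nat_lit 15)) (.leaf (nat_lit 347))) (.node (nat_lit 198003) (.leaf (nat_lit 202)) (.node (nat_lit 198409) (.leaf (nat_lit 37)) (.leaf (nat_lit 128))))) (.node (nat_lit 198843) (.node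 (nat_lit 198473) (.leaf (nat_lit 341)) (.node (nat_lit 198797) (.leaf (nat_lit 263)) (.leaf (nat_lit 324)))) (.node (nat_lit 198941) (.leaf (nat_lit 54)) (.node (nat_lit 199238) (.leaf (nat_lit 190)) (.leaf (nat_lit 305)))))) (.node (nat_lit 199937) (.node (nat_lit 199357) (.node (nat_lit 199300) (.leaf (nat_lit 214)) (.leaf (nat_lit 247))) (.node (nat_lit 199914) (.leaf (nat_lit 30)) (.node (nat_lit 199935) (.leaf (nat_lit 54)) (.leaf (nat_lit 190))))) (.node (nat_lit 201639) (.node (nat_lit 201121) (.leaf (nat_lit 18)) (.node (nat_lit 201451) (.leaf (nat_lit 7)) (.leaf (nat_lit 247)))) (.node (nat_lit 201855) (.leaf (nat_lit 347)) (.node (nat_lit 202066) (.leaf (nat_lit 228)) (.leaf (nat_lit 8))))))) (.node (nat_lit 205944) (.node (nat_lit 204370) (.node (nat_lit 202763) (.node (nat_lit 202449) (.leaf (nat_lit 37)) (.leaf (nat_lit 263))) (.node (nat_lit 202808) (.leaf (nat_lit 312)) (.node (nat_lit 204037) (.leaf (nat_lit 6)) (.leaf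 (nat_lit 18))))) (.node (nat_lit 204825) (.node (nat_lit 204425) (.leaf (nat_lit 7)) (.node (nat_lit 204645) (.leaf (nat_lit 136)) (.leaf (nat_lit 126)))) (.node (nat_lit 205317) (.leaf (nat_lit 7)) (.node (nat_lit 205941) (.leaf (nat_lit 126)) (.leaf (nat_lit 15)))))) (.node (nat_lit 206870) (.node (nat_lit 206159) (.node (nat_lit 206153) (.leaf (nat_lit 18)) (.leaf (nat_lit 190))) (.node (nat_lit 206774) (.leaf (nat_lit 305)) (.node (nat_lit 206833) (.leaf (nat_lit 128)) (.leaf (nat_lit 30))))) (.node (nat_lit 207145) (.node (nat_lit 207026) (.leaf (nat_lit 341)) (.node (nat_lit 207075) (.leaf (nat_lit 93)) (.leaf (nat_lit 190)))) (.node (nat_lit 207264) (.leaf (nat_lit 180)) (.node (nat_lit 207336) (.leaf (nat_lit 232)) (.leaf (nat_lit 81))))))))) (.node (nat_lit 214611) (.node (nat_lit 209095) (.node (nat_lit 208083) (.node (nat_lit 207709) (.node (nat_lit 207565) (.node (nat_lit 207455) (.leaf (nat_lit 232)) (.leaf (nat_lit 228)))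 (.node (nat_lit 207583) (.leaf (nat_lit 37)) (.node (nat_lit 207593) (.leaf (nat_lit 247)) (.leaf (nat_lit 26))))) (.node (nat_lit 207860) (.node (nat_lit 207741) (.leaf (nat_lit 6)) (.node (nat_lit 207790) (.leaf (nat_lit 317)) (.leaf (nat_lit 111)))) (.node (nat_lit 207865) (.leaf (nat_lit 312)) (.node (nat_lit 208055) (.leaf (nat_lit 69)) (.leaf (nat_lit 37)))))) (.node (nat_lit 208552) (.node (nat_lit 208160) (.node (nat_lit 208115) (.leaf (nat_lit 26)) (.leaf (nat_lit 247))) (.node (nat_lit 208240) (.leaf (nat_lit 26)) (.node (nat_lit 208293) (.leaf (nat_lit 347)) (.leaf (nat_lit 18))))) (.node (nat_lit 209003) (.node (nat_lit 208965) (.leaf (nat_lit 26)) (.node (nat_lit 208972) (.leaf (nat_lit 37)) (.leaf (nat_lit 341)))) (.node (nat_lit 209014) (.leaf (nat_lit 234)) (.node (nat_lit 209073) (.leaf (nat_lit 37)) (.leaf (nat_lit 202))))))) (.node (nat_lit 211983) (.node (nat_lit 210079) (.node (nat_lit 209710) (.node (nat_lit 209395)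 (.leaf (nat_lit 69)) (.leaf (nat_lit 234))) (.node (nat_lit 209901) (.leaf (nat_lit 54)) (.node (nat_lit 210071) (.leaf (nat_lit 330)) (.leaf (nat_lit 168))))) (.node (nat_lit 211001) (.node (nat_lit 210424) (.leaf (nat_lit 7)) (.node (nat_lit 210995) (.leaf (nat_lit 93)) (.leaf (nat_lit 128)))) (.node (nat_lit 211384) (.leaf (nat_lit 341)) (.node (nat_lit 211467) (.leaf (nat_lit 26)) (.leaf (nat_lit 93)))))) (.node (nat_lit 213497) (.node (nat_lit 212763) (.node (nat_lit 212206) (.leaf (nat_lit 305)) (.leaf (nat_lit 128))) (.node (nat_lit 213207) (.leaf (nat_lit 214)) (.node (nat_lit 213464) (.leaf (nat_lit 168)) (.leaf (nat_lit 330))))) (.node (nat_lit 214147) (.node (nat_lit 213534) (.leaf (nat_lit 180)) (.node (nat_lit 214124) (.leaf (nat_lit 341)) (.leaf (nat_lit 12)))) (.node (nat_lit 214257) (.leaf (nat_lit 312)) (.node (nat_lit 214358) (.leaf (nat_lit 54)) (.leaf (nat_lit 234)))))))) (.node (nat_lit 217798) (.node (nat_lit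 216428) (.node (nat_lit 215800) (.node (nat_lit 215481) (.node (nat_lit 215451) (.leaf (nat_lit 214)) (.leaf (nat_lit 15))) (.node (nat_lit 215636) (.leaf (nat_lit 67)) (.node (nat_lit 215751) (.leaf (nat_lit 341)) (.leaf (nat_lit 234))))) (.node (nat_lit 216050) (.node (nat_lit 215870) (.leaf (nat_lit 282)) (.node (nat_lit 215938) (.leaf (nat_lit 257)) (.leaf (nat_lit 341)))) (.node (nat_lit 216316) (.leaf (nat_lit 305)) (.node (nat_lit 216365) (.leaf (nat_lit 324)) (.leaf (nat_lit 168)))))) (.node (nat_lit 217127) (.node (nat_lit 216735) (.node (nat_lit 216435) (.leaf (nat_lit 341)) (.leaf (nat_lit 142))) (.node (nat_lit 216965) (.leaf (nat_lit 168)) (.node (nat_lit 217111) (.leaf (nat_lit 347)) (.leaf (nat_lit 341))))) (.node (nat_lit 217512) (.node (nat_lit 217384) (.leaf (nat_lit 168)) (.node (nat_lit 217451) (.leaf (nat_lit 30)) (.leaf (nat_lit 234)))) (.node (nat_lit 217563) (.leaf (nat_lit 6)) (.node (nat_lit 217601) (.leaf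 (nat_lit 312)) (.leaf (nat_lit 341))))))) (.node (nat_lit 219703) (.node (nat_lit 218435) (.node (nat_lit 217998) (.node (nat_lit 217839) (.leaf (nat_lit 202)) (.leaf (nat_lit 30))) (.node (nat_lit 218191) (.leaf (nat_lit 214)) (.node (nat_lit 218311) (.leaf (nat_lit 6)) (.leaf (nat_lit 232))))) (.node (nat_lit 219213) (.node (nat_lit 218488) (.leaf (nat_lit 54)) (.node (nat_lit 218593) (.leaf (nat_lit 305)) (.leaf (nat_lit 67)))) (.node (nat_lit 219336) (.leaf (nat_lit 341)) (.node (nat_lit 219517) (.leaf (nat_lit 69)) (.leaf (nat_lit 30)))))) (.node (nat_lit 220811) (.node (nat_lit 220533) (.node (nat_lit 220239) (.leaf (nat_lit 341)) (.leaf (nat_lit 282))) (.node (nat_lit 220587) (.leaf (nat_lit 263)) (.node (nat_lit 220726) (.leaf (nat_lit 126)) (.leaf (nat_lit 97))))) (.node (nat_lit 221118) (.node (nat_lit 221023) (.leaf (nat_lit 312)) (.node (nat_lit 221079) (.leaf (nat_lit 80)) (.leaf (nat_lit 282)))) (.node (nat_lit 221483)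 (.leaf (nat_lit 80)) (.node (nat_lit 221678) (.leaf (nat_lit 54)) (.leaf (nat_lit 257))))))))))) (.node (nat_lit 261843) (.node (nat_lit 242744) (.node (nat_lit 230746) (.node (nat_lit 226669) (.node (nat_lit 224564) (.node (nat_lit 224176) (.node (nat_lit 223145) (.node (nat_lit 222843) (.leaf (nat_lit 180)) (.leaf (nat_lit 347))) (.node (nat_lit 223445) (.leaf (nat_lit 21)) (.node (nat_lit 224057) (.leaf (nat_lit 69)) (.leaf (nat_lit 347))))) (.node (nat_lit 224375) (.node (nat_lit 224326) (.leaf (nat_lit 12)) (.leaf (nat_lit 214))) (.node (nat_lit 224445) (.leaf (nat_lit 305)) (.node (nat_lit 224474) (.leaf (nat_lit 30)) (.leaf (nat_lit 305)))))) (.node (nat_lit 225220) (.node (nat_lit 224683) (.node (nat_lit 224613) (.leaf (nat_lit 18)) (.leaf (nat_lit 12))) (.node (nat_lit 225067) (.leaf (nat_lit 21)) (.node (nat_lit 225167) (.leaf (nat_lit 305)) (.leaf (nat_lit 136))))) (.node (nat_lit 226155) (.node (nat_lit 225616) (.leaf (nat_lit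 18)) (.node (nat_lit 225788) (.leaf (nat_lit 127)) (.leaf (nat_lit 104)))) (.node (nat_lit 226237) (.leaf (nat_lit 127)) (.node (nat_lit 226626) (.leaf (nat_lit 15)) (.leaf (nat_lit 97))))))) (.node (nat_lit 228553) (.node (nat_lit 227289) (.node (nat_lit 226862) (.node (nat_lit 226826) (.leaf (nat_lit 341)) (.leaf (nat_lit 26))) (.node (nat_lit 226894) (.leaf (nat_lit 6)) (.node (nat_lit 227193) (.leaf (nat_lit 180)) (.leaf (nat_lit 8))))) (.node (nat_lit 227743) (.node (nat_lit 227390) (.leaf (nat_lit 136)) (.node (nat_lit 227720) (.leaf (nat_lit 282)) (.leaf (nat_lit 234)))) (.node (nat_lit 227782) (.leaf (nat_lit 30)) (.node (nat_lit 228541) (.leaf (nat_lit 282)) (.leaf (nat_lit 305)))))) (.node (nat_lit 229373) (.node (nat_lit 229190) (.node (nat_lit 229140) (.leaf (nat_lit 126)) (.leaf (nat_lit 18))) (.node (nat_lit 229234) (.leaf (nat_lit 305)) (.node (nat_lit 229272) (.leaf (nat_lit 104)) (.leaf (nat_lit 81))))) (.node (nat_lit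 230456) (.node (nat_lit 229715) (.leaf (nat_lit 26)) (.node (nat_lit 230030) (.leaf (nat_lit 128)) (.leaf (nat_lit 180)))) (.node (nat_lit 230483) (.leaf (nat_lit 263)) (.node (nat_lit 230693) (.leaf (nat_lit 81)) (.leaf (nat_lit 97)))))))) (.node (nat_lit 235904) (.node (nat_lit 232991) (.node (nat_lit 232424) (.node (nat_lit 230782) (.node (nat_lit 230781) (.leaf (nat_lit 37)) (.leaf (nat_lit 347))) (.node (nat_lit 231294) (.leaf (nat_lit 6)) (.node (nat_lit 231673) (.leaf (nat_lit 18)) (.leaf (nat_lit 190))))) (.node (nat_lit 232829) (.node (nat_lit 232473) (.leaf (nat_lit 232)) (.node (nat_lit 232543) (.leaf (nat_lit 81)) (.leaf (nat_lit 228)))) (.node (nat_lit 232878) (.leaf (nat_lit 111)) (.node (nat_lit 232948) (.leaf (nat_lit 317)) (.leaf (nat_lit 312)))))) (.node (nat_lit 234430) (.node (nat_lit 233481) (.node (nat_lit 233386) (.leaf (nat_lit 127)) (.leaf (nat_lit 21))) (.node (nat_lit 233853) (.leaf (nat_lit 127)) (.node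 (nat_lit 234102) (.leaf (nat_lit 7)) (.leaf (nat_lit 15))))) (.node (nat_lit 235498) (.node (nat_lit 234677) (.leaf (nat_lit 6)) (.node (nat_lit 235227) (.leaf (nat_lit 80)) (.leaf (nat_lit 67)))) (.node (nat_lit 235512) (.leaf (nat_lit 30)) (.node (nat_lit 235902) (.leaf (nat_lit 12)) (.leaf (nat_lit 81))))))) (.node (nat_lit 239881) (.node (nat_lit 237207) (.node (nat_lit 236735) (.node (nat_lit 236464) (.leaf (nat_lit 18)) (.leaf (nat_lit 21))) (.node (nat_lit 236906) (.leaf (nat_lit 81)) (.node (nat_lit 237120) (.leaf (nat_lit 214)) (.leaf (nat_lit 97))))) (.node (nat_lit 238910) (.node (nat_lit 237733) (.leaf (nat_lit 232)) (.node (nat_lit 238145) (.leaf (nat_lit 93)) (.leaf (nat_lit 234)))) (.node (nat_lit 238978) (.leaf (nat_lit 93)) (.node (nat_lit 239558) (.leaf (nat_lit 21)) (.leaf (nat_lit 263)))))) (.node (nat_lit 241523) (.node (nat_lit 240766) (.node (nat_lit 240597) (.leaf (nat_lit 282)) (.leaf (nat_lit 341))) (.node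 (nat_lit 241404) (.leaf (nat_lit 37)) (.node (nat_lit 241453) (.leaf (nat_lit 168)) (.leaf (nat_lit 324))))) (.node (nat_lit 241763) (.node (nat_lit 241526) (.leaf (nat_lit 142)) (.node (nat_lit 241714) (.leaf (nat_lit 330)) (.leaf (nat_lit 324)))) (.node (nat_lit 241833) (.leaf (nat_lit 168)) (.node (nat_lit 242216) (.leaf (nat_lit 142)) (.leaf (nat_lit 128))))))))) (.node (nat_lit 252517) (.node (nat_lit 246659) (.node (nat_lit 244918) (.node (nat_lit 243633) (.node (nat_lit 243143) (.node (nat_lit 242866) (.leaf (nat_lit 15)) (.leaf (nat_lit 97))) (.node (nat_lit 243478) (.leaf (nat_lit 136)) (.node (nat_lit 243543) (.leaf (nat_lit 263)) (.leaf (nat_lit 312))))) (.node (nat_lit 244285) (.node (nat_lit 243733) (.leaf (nat_lit 104)) (.leaf (nat_lit 69))) (.node (nat_lit 244397) (.leaf (nat_lit 234)) (.node (nat_lit 244662) (.leaf (nat_lit 127)) (.leaf (nat_lit 330)))))) (.node (nat_lit 245692) (.node (nat_lit 245153) (.node (nat_lit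 245145) (.leaf (nat_lit 97)) (.leaf (nat_lit 81))) (.node (nat_lit 245307) (.leaf (nat_lit 136)) (.node (nat_lit 245484) (.leaf (nat_lit 317)) (.leaf (nat_lit 6))))) (.node (nat_lit 245986) (.node (nat_lit 245739) (.leaf (nat_lit 317)) (.node (nat_lit 245862) (.leaf (nat_lit 180)) (.leaf (nat_lit 8)))) (.node (nat_lit 246267) (.leaf (nat_lit 67)) (.node (nat_lit 246623) (.leaf (nat_lit 128)) (.leaf (nat_lit 312))))))) (.node (nat_lit 249771) (.node (nat_lit 248213) (.node (nat_lit 247147) (.node (nat_lit 246811) (.leaf (nat_lit 81)) (.leaf (nat_lit 26))) (.node (nat_lit 247219) (.leaf (nat_lit 7)) (.node (nat_lit 247670) (.leaf (nat_lit 214)) (.leaf (nat_lit 247))))) (.node (nat_lit 249493) (.node (nat_lit 248821) (.leaf (nat_lit 67)) (.node (nat_lit 248890) (.leaf (nat_lit 37)) (.leaf (nat_lit 93)))) (.node (nat_lit 249551) (.leaf (nat_lit 202)) (.node (nat_lit 249701) (.leaf (nat_lit 12)) (.leaf (nat_lit 18)))))) (.node (nat_lit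 251353) (.node (nat_lit 250011) (.node (nat_lit 249962) (.leaf (nat_lit 21)) (.leaf (nat_lit 69))) (.node (nat_lit 250081) (.leaf (nat_lit 341)) (.node (nat_lit 250546) (.leaf (nat_lit 330)) (.leaf (nat_lit 126))))) (.node (nat_lit 251591) (.node (nat_lit 251367) (.leaf (nat_lit 26)) (.node (nat_lit 251590) (.leaf (nat_lit 67)) (.leaf (nat_lit 341)))) (.node (nat_lit 252129) (.leaf (nat_lit 263)) (.node (nat_lit 252447) (.leaf (nat_lit 80)) (.leaf (nat_lit 127)))))))) (.node (nat_lit 258717) (.node (nat_lit 255420) (.node (nat_lit 253399) (.node (nat_lit 252839) (.node (nat_lit 252775) (.leaf (nat_lit 257)) (.leaf (nat_lit 282))) (.node (nat_lit 252957) (.leaf (nat_lit 93)) (.node (nat_lit 253245) (.leaf (nat_lit 190)) (.leaf (nat_lit 317))))) (.node (nat_lit 254814) (.node (nat_lit 253461) (.leaf (nat_lit 202)) (.node (nat_lit 254627) (.leaf (nat_lit 228)) (.leaf (nat_lit 180)))) (.node (nat_lit 255019) (.leaf (nat_lit 263)) (.node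 (nat_lit 255204) (.leaf (nat_lit 330)) (.leaf (nat_lit 180)))))) (.node (nat_lit 256527) (.node (nat_lit 255621) (.node (nat_lit 255579) (.leaf (nat_lit 15)) (.leaf (nat_lit 7))) (.node (nat_lit 255933) (.leaf (nat_lit 136)) (.node (nat_lit 256431) (.leaf (nat_lit 317)) (.leaf (nat_lit 18))))) (.node (nat_lit 258537) (.node (nat_lit 257028) (.leaf (nat_lit 104)) (.node (nat_lit 258340) (.leaf (nat_lit 312)) (.leaf (nat_lit 180)))) (.node (nat_lit 258586) (.leaf (nat_lit 282)) (.node (nat_lit 258656) (.leaf (nat_lit 234)) (.leaf (nat_lit 257))))))) (.node (nat_lit 260166) (.node (nat_lit 259061) (.node (nat_lit 258881) (.node (nat_lit 258766) (.leaf (nat_lit 6)) (.leaf (nat_lit 37))) (.node (nat_lit 258942) (.leaf (nat_lit 263)) (.node (nat_lit 258991) (.leaf (nat_lit 81)) (.leaf (nat_lit 232))))) (.node (nat_lit 259822) (.node (nat_lit 259103) (.leaf (nat_lit 228)) (.node (nat_lit 259256) (.leaf (nat_lit 30)) (.leaf (nat_lit 37))))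 (.node (nat_lit 260067) (.leaf (nat_lit 81)) (.node (nat_lit 260086) (.leaf (nat_lit 80)) (.leaf (nat_lit 232)))))) (.node (nat_lit 261301) (.node (nat_lit 260581) (.node (nat_lit 260576) (.leaf (nat_lit 37)) (.leaf (nat_lit 128))) (.node (nat_lit 260594) (.leaf (nat_lit 8)) (.node (nat_lit 261068) (.leaf (nat_lit 136)) (.leaf (nat_lit 324))))) (.node (nat_lit 261605) (.node (nat_lit 261494) (.leaf (nat_lit 127)) (.node (nat_lit 261507) (.leaf (nat_lit 142)) (.leaf (nat_lit 15)))) (.node (nat_lit 261703) (.leaf (nat_lit 18)) (.node (nat_lit 261791) (.leaf (nat_lit 80)) (.leaf (nat_lit 127)))))))))) (.node (nat_lit 277655) (.node (nat_lit 271735) (.node (nat_lit 266851) (.node (nat_lit 264028) (.node (nat_lit 263559) (.node (nat_lit 262751) (.node (nat_lit 262359) (.leaf (nat_lit 81)) (.leaf (nat_lit 97))) (.node (nat_lit 262857) (.leaf (nat_lit 80)) (.node (nat_lit 263311) (.leaf (nat_lit 263)) (.leaf (nat_lit 257))))) (.node (nat_lit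 263855) (.node (nat_lit 263692) (.leaf (nat_lit 67)) (.leaf (nat_lit 312))) (.node (nat_lit 263927) (.leaf (nat_lit 341)) (.node (nat_lit 264026) (.leaf (nat_lit 248)) (.leaf (nat_lit 6)))))) (.node (nat_lit 265249) (.node (nat_lit 264369) (.node (nat_lit 264345) (.leaf (nat_lit 142)) (.leaf (nat_lit 341))) (.node (nat_lit 264861) (.leaf (nat_lit 6)) (.node (nat_lit 264988) (.leaf (nat_lit 257)) (.leaf (nat_lit 324))))) (.node (nat_lit 265770) (.node (nat_lit 265498) (.leaf (nat_lit 180)) (.node (nat_lit 265604) (.leaf (nat_lit 6)) (.leaf (nat_lit 324)))) (.node (nat_lit 266655) (.leaf (nat_lit 80)) (.node (nat_lit 266802) (.leaf (nat_lit 18)) (.leaf (nat_lit 168))))))) (.node (nat_lit 267922) (.node (nat_lit 267162) (.node (nat_lit 267040) (.node (nat_lit 266921) (.leaf (nat_lit 324)) (.leaf (nat_lit 142))) (.node (nat_lit 267089) (.leaf (nat_lit 18)) (.node (nat_lit 267159) (.leaf (nat_lit 12)) (.leaf (nat_lit 21))))) (.node (nat_lit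 267712) (.node (nat_lit 267213) (.leaf (nat_lit 18)) (.node (nat_lit 267513) (.leaf (nat_lit 97)) (.leaf (nat_lit 263)))) (.node (nat_lit 267847) (.leaf (nat_lit 30)) (.node (nat_lit 267883) (.leaf (nat_lit 317)) (.leaf (nat_lit 246)))))) (.node (nat_lit 268740) (.node (nat_lit 268264) (.node (nat_lit 268034) (.leaf (nat_lit 341)) (.leaf (nat_lit 180))) (.node (nat_lit 268329) (.leaf (nat_lit 80)) (.node (nat_lit 268669) (.leaf (nat_lit 214)) (.leaf (nat_lit 104))))) (.node (nat_lit 270938) (.node (nat_lit 269445) (.leaf (nat_lit 324)) (.node (nat_lit 269830) (.leaf (nat_lit 37)) (.leaf (nat_lit 80)))) (.node (nat_lit 271232) (.leaf (nat_lit 126)) (.node (nat_lit 271642) (.leaf (nat_lit 104)) (.leaf (nat_lit 93)))))))) (.node (nat_lit 274971) (.node (nat_lit 273226) (.node (nat_lit 272075) (.node (nat_lit 271875) (.node (nat_lit 271771) (.leaf (nat_lit 142)) (.leaf (nat_lit 234))) (.node (nat_lit 272027) (.leaf (nat_lit 312)) (.node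 (nat_lit 272052) (.leaf (nat_lit 246)) (.leaf (nat_lit 180))))) (.node (nat_lit 272444) (.node (nat_lit 272210) (.leaf (nat_lit 104)) (.node (nat_lit 272408) (.leaf (nat_lit 248)) (.leaf (nat_lit 305)))) (.node (nat_lit 272685) (.leaf (nat_lit 257)) (.node (nat_lit 272886) (.leaf (nat_lit 93)) (.leaf (nat_lit 330)))))) (.node (nat_lit 274198) (.node (nat_lit 273618) (.node (nat_lit 273485) (.leaf (nat_lit 168)) (.leaf (nat_lit 136))) (.node (nat_lit 274050) (.leaf (nat_lit 168)) (.node (nat_lit 274177) (.leaf (nat_lit 330)) (.leaf (nat_lit 97))))) (.node (nat_lit 274547) (.node (nat_lit 274318) (.leaf (nat_lit 248)) (.node (nat_lit 274442) (.leaf (nat_lit 67)) (.leaf (nat_lit 180)))) (.node (nat_lit 274586) (.leaf (nat_lit 246)) (.node (nat_lit 274955) (.leaf (nat_lit 341)) (.leaf (nat_lit 312))))))) (.node (nat_lit 275995) (.node (nat_lit 275163) (.node (nat_lit 275050) (.node (nat_lit 275002) (.leaf (nat_lit 93)) (.leaf (nat_lit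 7))) (.node (nat_lit 275099) (.leaf (nat_lit 341)) (.node (nat_lit 275152) (.leaf (nat_lit 69)) (.leaf (nat_lit 67))))) (.node (nat_lit 275615) (.node (nat_lit 275169) (.leaf (nat_lit 246)) (.node (nat_lit 275346) (.leaf (nat_lit 330)) (.leaf (nat_lit 248)))) (.node (nat_lit 275664) (.leaf (nat_lit 202)) (.node (nat_lit 275734) (.leaf (nat_lit 347)) (.leaf (nat_lit 54)))))) (.node (nat_lit 276429) (.node (nat_lit 276267) (.node (nat_lit 276079) (.leaf (nat_lit 67)) (.leaf (nat_lit 93))) (.node (nat_lit 276310) (.leaf (nat_lit 7)) (.node (nat_lit 276427) (.leaf (nat_lit 80)) (.leaf (nat_lit 257))))) (.node (nat_lit 277244) (.node (nat_lit 276698) (.leaf (nat_lit 97)) (.node (nat_lit 277146) (.leaf (nat_lit 190)) (.leaf (nat_lit 168)))) (.node (nat_lit 277440) (.leaf (nat_lit 136)) (.node (nat_lit 277454) (.leaf (nat_lit 97)) (.leaf (nat_lit 80))))))))) (.node (nat_lit 284583) (.node (nat_lit 281865) (.node (nat_lit 278953) (.node (nat_lit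 278275) (.node (nat_lit 277941) (.node (nat_lit 277761) (.leaf (nat_lit 330)) (.leaf (nat_lit 54))) (.node (nat_lit 277988) (.leaf (nat_lit 37)) (.node (nat_lit 278273) (.leaf (nat_lit 12)) (.leaf (nat_lit 263))))) (.node (nat_lit 278716) (.node (nat_lit 278380) (.leaf (nat_lit 30)) (.node (nat_lit 278488) (.leaf (nat_lit 18)) (.leaf (nat_lit 180)))) (.node (nat_lit 278910) (.leaf (nat_lit 30)) (.node (nat_lit 278940) (.leaf (nat_lit 228)) (.leaf (nat_lit 21)))))) (.node (nat_lit 279721) (.node (nat_lit 279125) (.node (nat_lit 279108) (.leaf (nat_lit 54)) (.leaf (nat_lit 21))) (.node (nat_lit 279273) (.leaf (nat_lit 7)) (.node (nat_lit 279563) (.leaf (nat_lit 128)) (.leaf (nat_lit 21))))) (.node (nat_lit 280395) (.node (nat_lit 280250) (.leaf (nat_lit 12)) (.node (nat_lit 280282) (.leaf (nat_lit 190)) (.leaf (nat_lit 168)))) (.node (nat_lit 280531) (.leaf (nat_lit 247)) (.node (nat_lit 281228) (.leaf (nat_lit 97)) (.leaf (nat_lit 341)))))))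 (.node (nat_lit 284043) (.node (nat_lit 283529) (.node (nat_lit 283020) (.node (nat_lit 282713) (.leaf (nat_lit 18)) (.leaf (nat_lit 15))) (.node (nat_lit 283082) (.leaf (nat_lit 312)) (.node (nat_lit 283384) (.leaf (nat_lit 126)) (.leaf (nat_lit 142))))) (.node (nat_lit 283744) (.node (nat_lit 283625) (.leaf (nat_lit 8)) (.node (nat_lit 283674) (.leaf (nat_lit 234)) (.leaf (nat_lit 282)))) (.node (nat_lit 283812) (.leaf (nat_lit 257)) (.node (nat_lit 284030) (.leaf (nat_lit 67)) (.leaf (nat_lit 232)))))) (.node (nat_lit 284317) (.node (nat_lit 284149) (.node (nat_lit 284079) (.leaf (nat_lit 136)) (.leaf (nat_lit 81))) (.node (nat_lit 284204) (.leaf (nat_lit 228)) (.node (nat_lit 284227) (.leaf (nat_lit 136)) (.leaf (nat_lit 142))))) (.node (nat_lit 284389) (.node (nat_lit 284340) (.leaf (nat_lit 93)) (.node (nat_lit 284367) (.leaf (nat_lit 202)) (.leaf (nat_lit 97)))) (.node (nat_lit 284451) (.leaf (nat_lit 347)) (.node (nat_lit 284459)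 (.leaf (nat_lit 97)) (.leaf (nat_lit 54)))))))) (.node (nat_lit 288367) (.node (nat_lit 286504) (.node (nat_lit 285879) (.node (nat_lit 285505) (.node (nat_lit 284659) (.leaf (nat_lit 282)) (.leaf (nat_lit 15))) (.node (nat_lit 285541) (.leaf (nat_lit 104)) (.node (nat_lit 285717) (.leaf (nat_lit 15)) (.leaf (nat_lit 246))))) (.node (nat_lit 286385) (.node (nat_lit 285897) (.leaf (nat_lit 15)) (.node (nat_lit 286348) (.leaf (nat_lit 67)) (.leaf (nat_lit 104)))) (.node (nat_lit 286413) (.leaf (nat_lit 6)) (.node (nat_lit 286457) (.leaf (nat_lit 248)) (.leaf (nat_lit 142)))))) (.node (nat_lit 286897) (.node (nat_lit 286740) (.node (nat_lit 286551) (.leaf (nat_lit 69)) (.leaf (nat_lit 97))) (.node (nat_lit 286780) (.leaf (nat_lit 67)) (.node (nat_lit 286892) (.leaf (nat_lit 26)) (.leaf (nat_lit 142))))) (.node (nat_lit 287300) (.node (nat_lit 286939) (.leaf (nat_lit 180)) (.node (nat_lit 287076) (.leaf (nat_lit 127)) (.leaf (nat_lit 190))))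 (.node (nat_lit 287449) (.leaf (nat_lit 142)) (.node (nat_lit 287730) (.leaf (nat_lit 347)) (.leaf (nat_lit 330))))))) (.node (nat_lit 292128) (.node (nat_lit 290793) (.node (nat_lit 290168) (.node (nat_lit 288750) (.leaf (nat_lit 7)) (.leaf (nat_lit 168))) (.node (nat_lit 290176) (.leaf (nat_lit 202)) (.node (nat_lit 290333) (.leaf (nat_lit 21)) (.leaf (nat_lit 317))))) (.node (nat_lit 291638) (.node (nat_lit 291001) (.leaf (nat_lit 67)) (.node (nat_lit 291481) (.leaf (nat_lit 347)) (.leaf (nat_lit 81)))) (.node (nat_lit 291886) (.leaf (nat_lit 54)) (.node (nat_lit 291983) (.leaf (nat_lit 168)) (.leaf (nat_lit 246)))))) (.node (nat_lit 292816) (.node (nat_lit 292179) (.node (nat_lit 292177) (.leaf (nat_lit 12)) (.leaf (nat_lit 18))) (.node (nat_lit 292247) (.leaf (nat_lit 126)) (.node (nat_lit 292567) (.leaf (nat_lit 21)) (.leaf (nat_lit 12))))) (.node (nat_lit 293893) (.node (nat_lit 293453) (.leaf (nat_lit 324)) (.node (nat_lit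 293655) (.leaf (nat_lit 214)) (.leaf (nat_lit 168)))) (.node (nat_lit 294080) (.leaf (nat_lit 6)) (.node (nat_lit 294195) (.leaf (nat_lit 312)) (.leaf (nat_lit 54)))))))))))))
noncomputable def KA_ex_F : Fm := (.all KA_L (.imp (.eq (.pw (.v (nat_lit 0)) (nat_lit 3)) .one) (.imp (.not (.eq (.v (nat_lit 0)) .one)) (.all KA_L (.imp (.eq (.mul (.mul (.mul (.v (nat_lit 0)) (.v (nat_lit 0))) (.v (nat_lit 1))) (.inv (.mul (.v (nat_lit 0)) (.v (nat_lit 0))))) (.inv (.v (nat_lit 1)))) (.imp (.eq (.mul (.v (nat_lit 1)) (.mul (.mul (.v (nat_lit 0)) (.v (nat_lit 1))) (.inv (.v (nat_lit 0))))) (.mul (.mul (.mul (.v (nat_lit 0)) (.v (nat_lit 1))) (.inv (.v (nat_lit 0)))) (.v (nat_lit 1)))) (.exF KA_L (fun cs => KA_ex_t0.find (Nat.mod (Nat.add (nth (nat_lit 0) cs (nat_lit 1)) (Nat.mul (nat_lit 7919) (nth (nat_lit 0) cs (nat_lit 0)))) (nat_lit 294354))) (.qf (.and (.eq (.mul (.v (nat_lit 0)) (.v (nat_lit 0))) .one) (.and (.eq (.pw (.mul (.v (nat_lit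 0)) (.v (nat_lit 1))) (nat_lit 2)) .one) (.and (.eq (.pw (.mul (.v (nat_lit 0)) (.v (nat_lit 2))) (nat_lit 3)) .one) (.eq (.pw (.mul (.mul (.v (nat_lit 0)) (.v (nat_lit 1))) (.v (nat_lit 2))) (nat_lit 5)) .one))))))))))))
theorem KA_ex_chk : Fm.chk KA_o KA_ex_F KA_cs = true := by decide +kernel
theorem KA_ex {G : Type*} [Group G] {R : ℕ → G → Prop} {a b r w : G} {H : Subgroup G}
    (M : Mdl KA_o KA_cs KA_L R [a, a⁻¹, b, b⁻¹, r, r⁻¹, w] H) :
    ∀ f ∈ H, f ^ 3 = 1 → f ≠ 1 → (∀ q ∈ H, q * q * f * (q * q)⁻¹ = f⁻¹ → f * (q * f * q⁻¹) = q * f * q⁻¹ * f → (∃ m ∈ H, m * m = 1 ∧ (m * q) ^ 2 = 1 ∧ (m * f) ^ 3 = 1 ∧ (m * q * f) ^ 5 = 1)) :=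
  have h : ∀ f, InL KA_o R KA_L f → f ^ 3 = 1 → f ≠ 1 → (∀ q, InL KA_o R KA_L q → q * q * f * (q * q)⁻¹ = f⁻¹ → f * (q * f * q⁻¹) = q * f * q⁻¹ * f → (Good KA_o R KA_L → prods KA_o KA_L KA_o.one ≠ [] → ∃ m, InL KA_o R KA_L m ∧ m * m = 1 ∧ (m * q) ^ 2 = 1 ∧ (m * f) ^ 3 = 1 ∧ (m * q * f) ^ 5 = 1)) :=
    Fm.sound M.μ KA_ex_F KA_ex_chk M.reps
  (fun f h0 => (fun h1 => (fun h2 => (fun q h3 => (fun h4 => (fun h5 => (Exists.imp (fun m h6 => ⟨M.H.iff.1 h6.1, h6.2⟩) (((((((h f (M.H.iff.2 h0)) h1) h2) q (M.H.iff.2 h3)) h4) h5) M.H.good M.H.ne))))))))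
noncomputable def KA_uq_F : Fm := (.all KA_L (.imp (.eq (.mul (.v (nat_lit 0)) (.v (nat_lit 0))) .one) (.imp (.eq (.pw (.mul (.v (nat_lit 0)) (.v (nat_lit 5))) (nat_lit 2)) .one) (.imp (.eq (.pw (.mul (.v (nat_lit 0)) (.v (nat_lit 1))) (nat_lit 3)) .one) (.qf (.or (.eq (.v (nat_lit 0)) .one) (.eq (.v (nat_lit 0)) (.v (nat_lit 7)))))))))
theorem KA_uq_chk : Fm.chk KA_o KA_uq_F KA_cs = true := by decide +kernel
theorem KA_uq {G : Type*} [Group G] {R : ℕ → G → Prop} {a b r w : G} {H : Subgroup G}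
    (M : Mdl KA_o KA_cs KA_L R [a, a⁻¹, b, b⁻¹, r, r⁻¹, w] H) :
    ∀ m ∈ H, m * m = 1 → (m * r) ^ 2 = 1 → (m * a) ^ 3 = 1 → m = 1 ∨ m = w :=
  have h : ∀ m, InL KA_o R KA_L m → m * m = 1 → (m * r) ^ 2 = 1 → (m * a) ^ 3 = 1 → m = 1 ∨ m = w :=
    Fm.sound M.μ KA_uq_F KA_uq_chk M.reps
  (fun m h0 => (h m (M.H.iff.2 h0)))
noncomputable def KA_w1_F : Fm := (.qf (.not (.eq (.v (nat_lit 6)) .one)))
theorem KA_w1_chk : Fm.chk KA_o KA_w1_F KA_cs = true := by decide +kernel
theorem KA_w1 {G : Type*} [Group G] {R : ℕ → G → Prop} {a b r w : G} {H : Subgroup G}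
    (M : Mdl KA_o KA_cs KA_L R [a, a⁻¹, b, b⁻¹, r, r⁻¹, w] H) :
    w ≠ 1 :=
  Fm.sound M.μ KA_w1_F KA_w1_chk M.reps
noncomputable def NQ_Rl : List (List ℕ) := [[0,1],
  [1,0],
  [2,3],
  [3,2],
  [4,5],
  [5,4],
  [6,6],
  [7,8],
  [8,7],
  [9,9],
  [0,0,0],
  [2,2,2],
  [3,1,2,0],
  [2,5,0,4],
  [1,5,2,4],
  [4,4,4,4],
  [4,6,4,6],
  [0,6,0,6,0,6],
  [0,4,6,0,4,6,0,4,6,0,4,6,0,4,6],
  [7,7,7],
  [1,8,0,7],
  [3,8,2,7],
  [5,8,4,7],
  [6,8,6,7],
  [7,9,7,9],
  [1,9,0,9],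
  [2,9,2,9],
  [4,9,4,9],
  [6,9,6,9]]
theorem NQ_r {G : Type*} [Group G] {a b r w e d : G}
    (h : KA a b r w)
    (k : NQ a b e r d w) :
    Rels (nthG [a, a⁻¹, b, b⁻¹, r, r⁻¹, w, e, e⁻¹, d]) NQ_Rl :=
  rels_of_eqs ((InvI.cons h.2.2.2.2.2.2.1 (InvI.cons k.2.2.2.2.2.1 InvI.nil)) : InvI [a, b, r, w, e, d] [(nat_lit 3), (nat_lit 5)])
    (AllEq.append (show AllEq [a, b, r, w, e, d] [((.pw (.v (nat_lit 0)) (nat_lit 3)), .one), ((.pw (.v (nat_lit 1)) (nat_lit 3)), .one), ((.mul (.v (nat_lit 0)) (.v (nat_lit 1))), (.mul (.v (nat_lit 1)) (.v (nat_lit 0)))), ((.mul (.mul (.v (nat_lit 2)) (.v (nat_lit 0))) (.inv (.v (nat_lit 2)))), (.inv (.v (nat_lit 1)))), ((.mul (.mul (.v (nat_lit 2)) (.v (nat_lit 1))) (.inv (.v (nat_lit 2)))), (.v (nat_lit 0))), ((.pw (.v (nat_lit 2)) (nat_lit 4)), .one), ((.mul (.v (nat_lit 3)) (.v (nat_lit 3))), .one), ((.pw (.mul (.v (nat_lit 3)) (.v (nat_lit 2))) (nat_lit 2)), .one), ((.pw (.mul (.v (nat_lit 3)) (.v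 (nat_lit 0))) (nat_lit 3)), .one), ((.pw (.mul (.mul (.v (nat_lit 3)) (.v (nat_lit 2))) (.v (nat_lit 0))) (nat_lit 5)), .one)] from h)
    (show AllEq [a, b, r, w, e, d] [((.pw (.v (nat_lit 4)) (nat_lit 3)), .one), ((.mul (.v (nat_lit 4)) (.v (nat_lit 0))), (.mul (.v (nat_lit 0)) (.v (nat_lit 4)))), ((.mul (.v (nat_lit 4)) (.v (nat_lit 1))), (.mul (.v (nat_lit 1)) (.v (nat_lit 4)))), ((.mul (.v (nat_lit 4)) (.v (nat_lit 2))), (.mul (.v (nat_lit 2)) (.v (nat_lit 4)))), ((.mul (.v (nat_lit 4)) (.v (nat_lit 3))), (.mul (.v (nat_lit 3)) (.v (nat_lit 4)))), ((.mul (.v (nat_lit 5)) (.v (nat_lit 5))), .one), ((.mul (.mul (.v (nat_lit 5)) (.v (nat_lit 4))) (.inv (.v (nat_lit 5)))), (.inv (.v (nat_lit 4)))), ((.mul (.v (nat_lit 5)) (.v (nat_lit 0))), (.mul (.v (nat_lit 0)) (.v (nat_lit 5)))), ((.mul (.mul (.v (nat_lit 5)) (.v (nat_lit 1))) (.inv (.v (nat_lit 5)))), (.inv (.v (nat_lit 1)))), ((.mul (.mul (.v (nat_lit 5)) (.v (nat_lit 2))) (.inv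 (.v (nat_lit 5)))), (.inv (.v (nat_lit 2)))), ((.mul (.v (nat_lit 5)) (.v (nat_lit 3))), (.mul (.v (nat_lit 3)) (.v (nat_lit 5))))] from k))
    [(.v (nat_lit 0)), (.inv (.v (nat_lit 0))), (.v (nat_lit 1)), (.inv (.v (nat_lit 1))), (.v (nat_lit 2)), (.inv (.v (nat_lit 2))), (.v (nat_lit 3)), (.v (nat_lit 4)), (.inv (.v (nat_lit 4))), (.v (nat_lit 5))] (by decide +kernel)
noncomputable abbrev NQ_o : Ops := pops (nat_lit 9) (nat_lit 4) (nat_lit 15) (nat_lit 0x876543210)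
noncomputable def NQ_cs : List ℕ := [(nat_lit 0x876543021), (nat_lit 0x876543102), (nat_lit 0x876354210), (nat_lit 0x876435210), (nat_lit 0x876210453), (nat_lit 0x876120543), (nat_lit 0x876540123), (nat_lit 0x687543210), (nat_lit 0x768543210), (nat_lit 0x786453210)]
noncomputable def NQ_L : List (List ℕ) := [[(nat_lit 0x876543210), (nat_lit 0x876543021), (nat_lit 0x876543102), (nat_lit 0x876210453), (nat_lit 0x876210345), (nat_lit 0x876120354)],
  [(nat_lit 0x876543210), (nat_lit 0x876453120), (nat_lit 0x876123450), (nat_lit 0x876213540), (nat_lit 0x876542130)],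
  [(nat_lit 0x876543210), (nat_lit 0x876452310), (nat_lit 0x876253410), (nat_lit 0x876423510)],
  [(nat_lit 0x876543210), (nat_lit 0x876354210), (nat_lit 0x876435210)],
  [(nat_lit 0x876543210), (nat_lit 0x687543210), (nat_lit 0x768543210)],
  [(nat_lit 0x876543210), (nat_lit 0x786453210)]]
noncomputable def NQ_WW : List (List (List ℕ)) := [[[],
  [(nat_lit 0)],
  [(nat_lit 1)],
  [(nat_lit 4)],
  [(nat_lit 0), (nat_lit 4)],
  [(nat_lit 0), (nat_lit 5)]],
  [[],
  [(nat_lit 4), (nat_lit 4)],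
  [(nat_lit 4), (nat_lit 6)],
  [(nat_lit 5), (nat_lit 6)],
  [(nat_lit 1), (nat_lit 6), (nat_lit 1)]],
  [[],
  [(nat_lit 0), (nat_lit 4), (nat_lit 4), (nat_lit 6), (nat_lit 1)],
  [(nat_lit 0), (nat_lit 6), (nat_lit 2), (nat_lit 6), (nat_lit 1)],
  [(nat_lit 0), (nat_lit 6), (nat_lit 3), (nat_lit 6), (nat_lit 1)]],
  [[],
  [(nat_lit 2)],
  [(nat_lit 3)]],
  [[],
  [(nat_lit 7)],
  [(nat_lit 8)]],
  [[],
  [(nat_lit 9)]]]
noncomputable def NQ_b2_S0 : List ℕ := [nat_lit 0xb000008006004]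
noncomputable def NQ_b2_S : List (List ℕ) := [NQ_b2_S0]
noncomputable def NQ_b2_defs : List ℕ := [(nat_lit 0x1000000000000000000000)]
noncomputable def NQ_b2_recs : List ℕ := [(nat_lit 0x10000100002)]
noncomputable def NQ_b2_L0 : List ℕ := [nat_lit 0x700000100000b000002, nat_lit 0x2000002000008000000, nat_lit 0xc000000000001000001]
noncomputable def NQ_b2_L : List (List ℕ) := [NQ_b2_L0]
noncomputable def NQ_b2_V : List ℕ := [(nat_lit 0x20000000100000000)]
noncomputable def NQ_b2_D : H26.Dag := ⟨[1,0], [[0,1],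
  [1,0],
  [0,0,0]], [], NQ_b2_defs, NQ_b2_recs⟩
theorem NQ_b2_c : NQ_b2_D.checkTab NQ_b2_S 3 2 NQ_b2_V NQ_b2_L = true := by decide +kernel
theorem NQ_b2 : Bound NQ_Rl 2 3 :=
  bound_dag (Bound.zero NQ_Rl) (K := 2) (J := [0,1,10]) (by decide +kernel) NQ_b2_c (by decide +kernel)
noncomputable def NQ_b4_S0 : List ℕ := [nat_lit 0x1, nat_lit 0x700000200000800c00a, nat_lit 0xb000008006008, nat_lit 0xb00000100000c00400a]
noncomputable def NQ_b4_S : List (List ℕ) := [NQ_b4_S0]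
noncomputable def NQ_b4_defs : List ℕ := [(nat_lit 0x3000000020000000000000)]
noncomputable def NQ_b4_recs : List ℕ := [(nat_lit 0x10000200002030000100002000000100001000000000000)]
noncomputable def NQ_b4_L0 : List ℕ := [nat_lit 0x100000000000200000000000700000100000b000002, nat_lit 0x500000100000600000100000a000002000008000000, nat_lit 0xe00000200000d00000200000c000000000009000001]
noncomputable def NQ_b4_L : List (List ℕ) := [NQ_b4_L0]
noncomputable def NQ_b4_V : List ℕ := [(nat_lit 0x20000000100000000)]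
noncomputable def NQ_b4_D : H26.Dag := ⟨[1,0,3,2], [[0,1],
  [1,0],
  [2,3],
  [3,2],
  [2,2,2],
  [3,1,2,0]], [0,1], NQ_b4_defs, NQ_b4_recs⟩
theorem NQ_b4_c : NQ_b4_D.checkTab NQ_b4_S 3 4 NQ_b4_V NQ_b4_L = true := by decide +kernel
theorem NQ_b4 : Bound NQ_Rl 4 9 :=
  bound_dag NQ_b2 (K := 4) (J := [0,1,2,3,11,12]) (by decide +kernel) NQ_b4_c (by decide +kernel)
noncomputable def NQ_b6_S0 : List ℕ := [nat_lit 0x1, nat_lit 0x1, nat_lit 0x700000100000800000c, nat_lit 0x700000500000800000e, nat_lit 0xb00000500000c00800c, nat_lit 0xb00000200000c00800e, nat_lit 0xf00000e00001000000c, nat_lit 0xf00000900001000000e, nat_lit 0xf00000700000c004010]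
noncomputable def NQ_b6_S : List (List ℕ) := [NQ_b6_S0]
noncomputable def NQ_b6_defs : List ℕ := [(nat_lit 0x400001005000000040000000000000)]
noncomputable def NQ_b6_recs : List ℕ := [(nat_lit 0x40000200003010000300003020000300003020000200002000000200002010000100001020000100001020000000000000000000000)]
noncomputable def NQ_b6_L0 : List ℕ := [nat_lit 0x100000000000200000000000500000000000600000000000700000100000b000002, nat_lit 0xe00000100000d00000100000900000100000a00000100000f000003000008000000, nat_lit 0x1100000200001200000200001500000200001600000200000c000000000022000003, nat_lit 0x1e00000300001d00000300001900000300001a000003000021000002000010000001]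
noncomputable def NQ_b6_L : List (List ℕ) := [NQ_b6_L0]
noncomputable def NQ_b6_V : List ℕ := [(nat_lit 0x3000000020000000100000000)]
noncomputable def NQ_b6_D : H26.Dag := ⟨[1,0,3,2,5,4], [[0,1],
  [1,0],
  [2,3],
  [3,2],
  [4,5],
  [5,4],
  [2,5,0,4],
  [1,5,2,4],
  [4,4,4,4]], [0,1,2,3], NQ_b6_defs, NQ_b6_recs⟩
theorem NQ_b6_c : NQ_b6_D.checkTab NQ_b6_S 4 6 NQ_b6_V NQ_b6_L = true := by decide +kernel
theorem NQ_b6 : Bound NQ_Rl 6 36 :=
  bound_dag NQ_b4 (K := 6) (J := [0,1,2,3,4,5,13,14,15]) (by decide +kernel) NQ_b6_c (by decide +kernel)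
noncomputable def NQ_b7_S0 : List ℕ := [nat_lit 0x1, nat_lit 0x1, nat_lit 0x1, nat_lit 0x7000009000008008018, nat_lit 0xf00000c00600e, nat_lit 0xf00000700000200000800000c00a01a, nat_lit 0x1300000d000010004014, nat_lit 0x1300000e00000c00c016, nat_lit 0x1a00001600001d00c018, nat_lit 0x17000014006010, nat_lit 0x1700000d00000c002014, nat_lit 0x1700000e00001000a016, nat_lit 0x2a00001500002d00c018, nat_lit 0x1b00000b000014002012, nat_lit 0x1f00001c006010, nat_lit 0x1f00000b000018004012, nat_lit 0x1f00001d000035002014, nat_lit 0x2300000f00001400c012, nat_lit 0x2300001200001c002012, nat_lit 0x2300001900003500c016, nat_lit 0x27000024006010, nat_lit 0x27000012000020004012, nat_lit 0x2700000f00001800a012, nat_lit 0x2700002d00003d002014, nat_lit 0x2700001900004500a016, nat_lit 0x4600001e00001500000f00000e00000700000200000a00000800000c00002900003100003d00005d00201c, nat_lit 0x4d00006600005e00c018]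
noncomputable def NQ_b7_S : List (List ℕ) := [NQ_b7_S0]
noncomputable def NQ_b7_defs : List ℕ := [(nat_lit 0x300003002000030030000200200002003000010020000100100001000000010060000000000000)]
noncomputable def NQ_b7_recs : List ℕ := [(nat_lit 0x60000700006060000900008040000800009050000700009000000500009010000700009030000800009040000600008010000600008000000400008050000600007010000500007030000600007010000400006060000500005040000300005050000200005030000400005060000400004040000200004050000300004060000200003010000200003040000100001040000000000020000000000000000000000)]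
noncomputable def NQ_b7_L0 : List ℕ := [nat_lit 0x100000000000200000000000500000000000600000000000900000000000a000000000007000001, nat_lit 0xb00000200000f00000300001300000400001700000500000d00000100000e000001000008000000, nat_lit 0x1200000300000c00000100001b00000600001f00000700002a00000500001e000004000016000003, nat_lit 0x1000000100001100000200002300000800002700000900001a00000400002e000005000015000002, nat_lit 0x3600000600004600000800002600000500001400000100001d000002000019000003000021000004, nat_lit 0x3e00000700005a00000900001800000100002500000400002d000003000029000002000031000005, nat_lit 0x4a00000800003500000400003a00000700001c00000200004200000700004e000008000069000007, nat_lit 0x5600000900003d00000500002000000200003900000600005e00000900004100000600006a000006, nat_lit 0x4500000400004900000600005200000900002400000300004d000006000062000009000065000009, nat_lit 0x5900000500005500000700002800000300005100000800006100000800005d000007000066000008]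
noncomputable def NQ_b7_L : List (List ℕ) := [NQ_b7_L0]
noncomputable def NQ_b7_V : List ℕ := [(nat_lit 0x9000000080000000700000006000000050000000400000003000000020000000100000000)]
noncomputable def NQ_b7_D : H26.Dag := ⟨[1,0,3,2,5,4,6], [[0,1],
  [1,0],
  [2,3],
  [3,2],
  [4,5],
  [5,4],
  [6,6],
  [0,0,0],
  [2,2,2],
  [3,1,2,0],
  [2,5,0,4],
  [1,5,2,4],
  [4,6,4,6],
  [0,6,0,6,0,6],
  [0,4,6,0,4,6,0,4,6,0,4,6,0,4,6]], [0,1,2,3,4,5], NQ_b7_defs, NQ_b7_recs⟩
theorem NQ_b7_c : NQ_b7_D.checkTab NQ_b7_S 10 7 NQ_b7_V NQ_b7_L = true := by decide +kernel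
theorem NQ_b7 : Bound NQ_Rl 7 360 :=
  bound_dag NQ_b6 (K := 7) (J := [0,1,2,3,4,5,6,10,11,12,13,14,16,17,18]) (by decide +kernel) NQ_b7_c (by decide +kernel)
noncomputable def NQ_b9_S0 : List ℕ := [nat_lit 0x1, nat_lit 0x1, nat_lit 0x1, nat_lit 0x1, nat_lit 0x7000001000008000014, nat_lit 0x7000005000008000016, nat_lit 0x7000009000008000018, nat_lit 0x700000d00000800001a, nat_lit 0xb000008006012, nat_lit 0xb00000200000c008014, nat_lit 0xb00000600000c008016, nat_lit 0xb00000a00000c008018, nat_lit 0xb00000d00000c00801a]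
noncomputable def NQ_b9_S : List (List ℕ) := [NQ_b9_S0]
noncomputable def NQ_b9_defs : List ℕ := [(nat_lit 0x8000000070000000000000)]
noncomputable def NQ_b9_recs : List ℕ := [(nat_lit 0x60000200002040000200002020000200002000000200002080000100002060000100001050000100001030000100001010000100001060000000000040000000000020000000000000000000000)]
noncomputable def NQ_b9_L0 : List ℕ := [nat_lit 0x100000000000200000000000500000000000600000000000900000000000a00000000000d00000000000700000100000b000002, nat_lit 0x1200000100001100000100001600000100001500000100001a00000100001900000100001d000001000022000002000008000000, nat_lit 0x2500000200002600000200002900000200002a00000200002d00000200002e00000200003100000200000c000000000021000001]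
noncomputable def NQ_b9_L : List (List ℕ) := [NQ_b9_L0]
noncomputable def NQ_b9_V : List ℕ := [(nat_lit 0x20000000100000000)]
noncomputable def NQ_b9_D : H26.Dag := ⟨[1,0,3,2,5,4,6,8,7], [[0,1],
  [1,0],
  [2,3],
  [3,2],
  [4,5],
  [5,4],
  [6,6],
  [7,8],
  [8,7],
  [7,7,7],
  [1,8,0,7],
  [3,8,2,7],
  [5,8,4,7],
  [6,8,6,7]], [0,1,2,3,4,5,6], NQ_b9_defs, NQ_b9_recs⟩
theorem NQ_b9_c : NQ_b9_D.checkTab NQ_b9_S 3 9 NQ_b9_V NQ_b9_L = true := by decide +kernel
theorem NQ_b9 : Bound NQ_Rl 9 1080 :=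
  bound_dag NQ_b7 (K := 9) (J := [0,1,2,3,4,5,6,7,8,19,20,21,22,23]) (by decide +kernel) NQ_b9_c (by decide +kernel)
noncomputable def NQ_b10_S0 : List ℕ := [nat_lit 0x1, nat_lit 0x1, nat_lit 0x1, nat_lit 0x1, nat_lit 0x1, nat_lit 0x7000011000008008014, nat_lit 0x7000002000008008016, nat_lit 0x7000005000008008018, nat_lit 0x700000900000800801a, nat_lit 0x700000d00000800801c]
noncomputable def NQ_b10_S : List (List ℕ) := [NQ_b10_S0]
noncomputable def NQ_b10_defs : List ℕ := [(nat_lit 0x90000000000000)]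
noncomputable def NQ_b10_recs : List ℕ := [(nat_lit 0x60000100001040000100001020000100001000000100001070000100001070000000000060000000000040000000000020000000000000000000000)]
noncomputable def NQ_b10_L0 : List ℕ := [nat_lit 0x100000000000200000000000500000000000600000000000900000000000a00000000000d000000000011000000000012000000000007000001, nat_lit 0x1900000100001a00000100001d00000100001e000001000021000001000022000001000025000001000015000001000016000001000008000000]
noncomputable def NQ_b10_L : List (List ℕ) := [NQ_b10_L0]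
noncomputable def NQ_b10_V : List ℕ := [(nat_lit 0x100000000)]
noncomputable def NQ_b10_D : H26.Dag := ⟨[1,0,3,2,5,4,6,8,7,9], [[0,1],
  [1,0],
  [2,3],
  [3,2],
  [4,5],
  [5,4],
  [6,6],
  [7,8],
  [8,7],
  [9,9],
  [7,9,7,9],
  [1,9,0,9],
  [2,9,2,9],
  [4,9,4,9],
  [6,9,6,9]], [0,1,2,3,4,5,6,7,8], NQ_b10_defs, NQ_b10_recs⟩
theorem NQ_b10_c : NQ_b10_D.checkTab NQ_b10_S 2 10 NQ_b10_V NQ_b10_L = true := by decide +kernel
theorem NQ_b10 : Bound NQ_Rl 10 2160 :=
  bound_dag NQ_b9 (K := 10) (J := [0,1,2,3,4,5,6,7,8,9,24,25,26,27,28]) (by decide +kernel) NQ_b10_c (by decide +kernel)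
theorem NQ_P : PModel (nat_lit 9) (nat_lit 4) (nat_lit 15) (nat_lit 0x876543210) NQ_cs NQ_Rl NQ_L 2160 :=
  ⟨PkOK.of (by decide +kernel), by decide +kernel, by decide +kernel, NQ_b10, ⟨NQ_WW, by decide +kernel⟩,
    ⟨fun c => Nat.mod c (nat_lit 125521), by decide +kernel⟩⟩
noncomputable def NQ_soc_t0 : ST := (.node (nat_lit 152099) (.node (nat_lit 76253) (.node (nat_lit 41045) (.node (nat_lit 19171) (.node (nat_lit 7484) (.node (nat_lit 3784) (.node (nat_lit 1931) (.node (nat_lit 1266) (.node (nat_lit 786) (.node (nat_lit 473) (.leaf (nat_lit 192)) (.node (nat_lit 552) (.leaf (nat_lit 0)) (.leaf (nat_lit 195)))) (.node (nat_lit 879) (.leaf (nat_lit 1092)) (.node (nat_lit 1159) (.leaf (nat_lit 132)) (.leaf (nat_lit 72))))) (.node (nat_lit 1443) (.node (nat_lit 1362) (.leaf (nat_lit 0)) (.node (nat_lit 1430) (.leaf (nat_lit 33)) (.leaf (nat_lit 3)))) (.node (nat_lit 1473) (.node (nat_lit 1472) (.leaf (nat_lit 252)) (.leaf (nat_lit 1353)))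 (.node (nat_lit 1914) (.leaf (nat_lit 1332)) (.leaf (nat_lit 1353)))))) (.node (nat_lit 2885) (.node (nat_lit 2420) (.node (nat_lit 2073) (.leaf (nat_lit 1092)) (.node (nat_lit 2311) (.leaf (nat_lit 0)) (.leaf (nat_lit 1275)))) (.node (nat_lit 2478) (.leaf (nat_lit 0)) (.node (nat_lit 2693) (.leaf (nat_lit 1092)) (.leaf (nat_lit 153))))) (.node (nat_lit 3350) (.node (nat_lit 3108) (.leaf (nat_lit 1182)) (.node (nat_lit 3184) (.leaf (nat_lit 1080)) (.leaf (nat_lit 0)))) (.node (nat_lit 3501) (.node (nat_lit 3410) (.leaf (nat_lit 33)) (.leaf (nat_lit 165))) (.node (nat_lit 3534) (.leaf (nat_lit 0)) (.leaf (nat_lit 195))))))) (.node (nat_lit 5965) (.node (nat_lit 5167) (.node (nat_lit 4686) (.node (nat_lit 4527) (.leaf (nat_lit 0)) (.node (nat_lit 4639) (.leaf (nat_lit 1113)) (.leaf (nat_lit 195)))) (.node (nat_lit 4848) (.leaf (nat_lit 0)) (.node (nat_lit 4952) (.leaf (nat_lit 195)) (.leaf (nat_lit 1332))))) (.node (nat_lit 5391) (.node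 (nat_lit 5211) (.leaf (nat_lit 0)) (.node (nat_lit 5332) (.leaf (nat_lit 1395)) (.leaf (nat_lit 1332)))) (.node (nat_lit 5552) (.node (nat_lit 5399) (.leaf (nat_lit 192)) (.leaf (nat_lit 1080))) (.node (nat_lit 5660) (.leaf (nat_lit 0)) (.leaf (nat_lit 1080)))))) (.node (nat_lit 6585) (.node (nat_lit 6291) (.node (nat_lit 5981) (.leaf (nat_lit 1092)) (.node (nat_lit 6130) (.leaf (nat_lit 0)) (.leaf (nat_lit 195)))) (.node (nat_lit 6463) (.node (nat_lit 6305) (.leaf (nat_lit 0)) (.leaf (nat_lit 1275))) (.node (nat_lit 6474) (.leaf (nat_lit 0)) (.leaf (nat_lit 33))))) (.node (nat_lit 7247) (.node (nat_lit 6787) (.leaf (nat_lit 0)) (.node (nat_lit 7155) (.leaf (nat_lit 3)) (.leaf (nat_lit 0)))) (.node (nat_lit 7395) (.node (nat_lit 7338) (.leaf (nat_lit 1092)) (.leaf (nat_lit 195))) (.node (nat_lit 7456) (.leaf (nat_lit 1155)) (.leaf (nat_lit 1092)))))))) (.node (nat_lit 13310) (.node (nat_lit 10164) (.node (nat_lit 8462) (.node (nat_lit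 8155) (.node (nat_lit 7567) (.leaf (nat_lit 75)) (.node (nat_lit 7745) (.leaf (nat_lit 315)) (.leaf (nat_lit 132)))) (.node (nat_lit 8380) (.leaf (nat_lit 0)) (.node (nat_lit 8448) (.leaf (nat_lit 1083)) (.leaf (nat_lit 0))))) (.node (nat_lit 9251) (.node (nat_lit 8500) (.leaf (nat_lit 33)) (.node (nat_lit 8866) (.leaf (nat_lit 195)) (.leaf (nat_lit 132)))) (.node (nat_lit 9784) (.node (nat_lit 9497) (.leaf (nat_lit 6)) (.leaf (nat_lit 1113))) (.node (nat_lit 9995) (.leaf (nat_lit 1275)) (.leaf (nat_lit 1113)))))) (.node (nat_lit 12363) (.node (nat_lit 11851) (.node (nat_lit 10438) (.leaf (nat_lit 195)) (.node (nat_lit 11309) (.leaf (nat_lit 0)) (.leaf (nat_lit 195)))) (.node (nat_lit 12053) (.leaf (nat_lit 315)) (.node (nat_lit 12191) (.leaf (nat_lit 0)) (.leaf (nat_lit 192))))) (.node (nat_lit 12404) (.node (nat_lit 12367) (.leaf (nat_lit 33)) (.node (nat_lit 12370) (.leaf (nat_lit 0)) (.leaf (nat_lit 1092)))) (.node (nat_lit 12772)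 (.node (nat_lit 12710) (.leaf (nat_lit 165)) (.leaf (nat_lit 0))) (.node (nat_lit 13152) (.leaf (nat_lit 1092)) (.leaf (nat_lit 12))))))) (.node (nat_lit 15932) (.node (nat_lit 14174) (.node (nat_lit 13745) (.node (nat_lit 13356) (.leaf (nat_lit 0)) (.node (nat_lit 13482) (.leaf (nat_lit 3)) (.leaf (nat_lit 12)))) (.node (nat_lit 13848) (.leaf (nat_lit 192)) (.node (nat_lit 13958) (.leaf (nat_lit 1083)) (.leaf (nat_lit 1233))))) (.node (nat_lit 14614) (.node (nat_lit 14405) (.leaf (nat_lit 0)) (.node (nat_lit 14437) (.leaf (nat_lit 15)) (.leaf (nat_lit 0)))) (.node (nat_lit 15817) (.node (nat_lit 15002) (.leaf (nat_lit 33)) (.leaf (nat_lit 0))) (.node (nat_lit 15906) (.leaf (nat_lit 36)) (.leaf (nat_lit 0)))))) (.node (nat_lit 17681) (.node (nat_lit 16325) (.node (nat_lit 15942) (.leaf (nat_lit 1245)) (.node (nat_lit 16305) (.leaf (nat_lit 0)) (.leaf (nat_lit 33)))) (.node (nat_lit 17380) (.node (nat_lit 16631) (.leaf (nat_lit 153))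 (.leaf (nat_lit 12))) (.node (nat_lit 17581) (.leaf (nat_lit 165)) (.leaf (nat_lit 1092))))) (.node (nat_lit 18231) (.node (nat_lit 18056) (.leaf (nat_lit 0)) (.node (nat_lit 18162) (.leaf (nat_lit 195)) (.leaf (nat_lit 0)))) (.node (nat_lit 18370) (.node (nat_lit 18322) (.leaf (nat_lit 1275)) (.leaf (nat_lit 0))) (.node (nat_lit 19017) (.leaf (nat_lit 3)) (.leaf (nat_lit 132))))))))) (.node (nat_lit 29233) (.node (nat_lit 23372) (.node (nat_lit 21165) (.node (nat_lit 19857) (.node (nat_lit 19765) (.node (nat_lit 19189) (.leaf (nat_lit 0)) (.node (nat_lit 19504) (.leaf (nat_lit 1080)) (.leaf (nat_lit 1275)))) (.node (nat_lit 19825) (.leaf (nat_lit 0)) (.node (nat_lit 19847) (.leaf (nat_lit 75)) (.leaf (nat_lit 45))))) (.node (nat_lit 20543) (.node (nat_lit 19922) (.leaf (nat_lit 1083)) (.node (nat_lit 20117) (.leaf (nat_lit 0)) (.leaf (nat_lit 1080)))) (.node (nat_lit 21081) (.node (nat_lit 20931) (.leaf (nat_lit 252)) (.leaf (nat_lit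 0))) (.node (nat_lit 21097) (.leaf (nat_lit 1113)) (.leaf (nat_lit 132)))))) (.node (nat_lit 21733) (.node (nat_lit 21608) (.node (nat_lit 21284) (.leaf (nat_lit 165)) (.node (nat_lit 21295) (.leaf (nat_lit 0)) (.leaf (nat_lit 153)))) (.node (nat_lit 21668) (.leaf (nat_lit 1080)) (.node (nat_lit 21710) (.leaf (nat_lit 12)) (.leaf (nat_lit 1275))))) (.node (nat_lit 22309) (.node (nat_lit 21809) (.leaf (nat_lit 342)) (.node (nat_lit 22063) (.leaf (nat_lit 1332)) (.leaf (nat_lit 0)))) (.node (nat_lit 22531) (.node (nat_lit 22443) (.leaf (nat_lit 1152)) (.leaf (nat_lit 0))) (.node (nat_lit 22631) (.leaf (nat_lit 252)) (.leaf (nat_lit 0))))))) (.node (nat_lit 25267) (.node (nat_lit 24142) (.node (nat_lit 23988) (.node (nat_lit 23657) (.leaf (nat_lit 33)) (.node (nat_lit 23679) (.leaf (nat_lit 132)) (.leaf (nat_lit 0)))) (.node (nat_lit 24026) (.leaf (nat_lit 315)) (.node (nat_lit 24073) (.leaf (nat_lit 0)) (.leaf (nat_lit 102))))) (.node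 (nat_lit 24329) (.node (nat_lit 24176) (.leaf (nat_lit 0)) (.node (nat_lit 24215) (.leaf (nat_lit 1080)) (.leaf (nat_lit 3)))) (.node (nat_lit 25148) (.node (nat_lit 24773) (.leaf (nat_lit 0)) (.leaf (nat_lit 1233))) (.node (nat_lit 25251) (.leaf (nat_lit 132)) (.leaf (nat_lit 273)))))) (.node (nat_lit 26964) (.node (nat_lit 25610) (.node (nat_lit 25441) (.leaf (nat_lit 1080)) (.node (nat_lit 25529) (.leaf (nat_lit 0)) (.leaf (nat_lit 1113)))) (.node (nat_lit 26344) (.node (nat_lit 25613) (.leaf (nat_lit 1080)) (.leaf (nat_lit 0))) (.node (nat_lit 26516) (.leaf (nat_lit 1332)) (.leaf (nat_lit 0))))) (.node (nat_lit 28531) (.node (nat_lit 27832) (.leaf (nat_lit 1080)) (.node (nat_lit 28455) (.leaf (nat_lit 0)) (.leaf (nat_lit 1080)))) (.node (nat_lit 29131) (.node (nat_lit 28723) (.leaf (nat_lit 0)) (.leaf (nat_lit 102))) (.node (nat_lit 29146) (.leaf (nat_lit 0)) (.leaf (nat_lit 1080)))))))) (.node (nat_lit 34442) (.node (nat_lit 31434)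 (.node (nat_lit 30534) (.node (nat_lit 30023) (.node (nat_lit 29244) (.leaf (nat_lit 315)) (.node (nat_lit 29498) (.leaf (nat_lit 132)) (.leaf (nat_lit 0)))) (.node (nat_lit 30032) (.leaf (nat_lit 75)) (.node (nat_lit 30493) (.leaf (nat_lit 273)) (.leaf (nat_lit 0))))) (.node (nat_lit 30807) (.node (nat_lit 30679) (.leaf (nat_lit 33)) (.node (nat_lit 30734) (.leaf (nat_lit 1155)) (.leaf (nat_lit 0)))) (.node (nat_lit 31314) (.node (nat_lit 30814) (.leaf (nat_lit 102)) (.leaf (nat_lit 0))) (.node (nat_lit 31348) (.leaf (nat_lit 1332)) (.leaf (nat_lit 0)))))) (.node (nat_lit 32700) (.node (nat_lit 31823) (.node (nat_lit 31740) (.leaf (nat_lit 33)) (.node (nat_lit 31797) (.leaf (nat_lit 273)) (.leaf (nat_lit 1113)))) (.node (nat_lit 32508) (.node (nat_lit 32349) (.leaf (nat_lit 1080)) (.leaf (nat_lit 75))) (.node (nat_lit 32603) (.leaf (nat_lit 0)) (.leaf (nat_lit 153))))) (.node (nat_lit 32839) (.node (nat_lit 32740) (.leaf (nat_lit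 0)) (.node (nat_lit 32817) (.leaf (nat_lit 12)) (.leaf (nat_lit 1113)))) (.node (nat_lit 33798) (.node (nat_lit 33555) (.leaf (nat_lit 0)) (.leaf (nat_lit 72))) (.node (nat_lit 33845) (.leaf (nat_lit 0)) (.leaf (nat_lit 33))))))) (.node (nat_lit 38773) (.node (nat_lit 36620) (.node (nat_lit 35593) (.node (nat_lit 35173) (.leaf (nat_lit 0)) (.node (nat_lit 35592) (.leaf (nat_lit 1332)) (.leaf (nat_lit 0)))) (.node (nat_lit 35828) (.leaf (nat_lit 12)) (.node (nat_lit 36153) (.leaf (nat_lit 75)) (.leaf (nat_lit 0))))) (.node (nat_lit 37394) (.node (nat_lit 36766) (.leaf (nat_lit 195)) (.node (nat_lit 36930) (.leaf (nat_lit 153)) (.leaf (nat_lit 1233)))) (.node (nat_lit 38601) (.node (nat_lit 38179) (.leaf (nat_lit 0)) (.leaf (nat_lit 132))) (.node (nat_lit 38617) (.leaf (nat_lit 1113)) (.leaf (nat_lit 1092)))))) (.node (nat_lit 39660) (.node (nat_lit 39142) (.node (nat_lit 38918) (.leaf (nat_lit 273)) (.node (nat_lit 39126) (.leaf (nat_lit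 1233)) (.leaf (nat_lit 1083)))) (.node (nat_lit 39548) (.node (nat_lit 39510) (.leaf (nat_lit 0)) (.leaf (nat_lit 192))) (.node (nat_lit 39579) (.leaf (nat_lit 0)) (.leaf (nat_lit 6))))) (.node (nat_lit 40344) (.node (nat_lit 39673) (.leaf (nat_lit 0)) (.node (nat_lit 39708) (.leaf (nat_lit 192)) (.leaf (nat_lit 0)))) (.node (nat_lit 40487) (.node (nat_lit 40461) (.leaf (nat_lit 12)) (.leaf (nat_lit 0))) (.node (nat_lit 40617) (.leaf (nat_lit 12)) (.leaf (nat_lit 1083)))))))))) (.node (nat_lit 58217) (.node (nat_lit 49643) (.node (nat_lit 45263) (.node (nat_lit 42436) (.node (nat_lit 41770) (.node (nat_lit 41467) (.node (nat_lit 41281) (.leaf (nat_lit 0)) (.node (nat_lit 41392) (.leaf (nat_lit 252)) (.leaf (nat_lit 0)))) (.node (nat_lit 41599) (.leaf (nat_lit 315)) (.node (nat_lit 41606) (.leaf (nat_lit 1092)) (.leaf (nat_lit 0))))) (.node (nat_lit 41984) (.node (nat_lit 41856) (.leaf (nat_lit 165)) (.node (nat_lit 41978) (.leaf (nat_lit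 15)) (.leaf (nat_lit 12)))) (.node (nat_lit 42178) (.node (nat_lit 42080) (.leaf (nat_lit 1080)) (.leaf (nat_lit 1113))) (.node (nat_lit 42289) (.leaf (nat_lit 0)) (.leaf (nat_lit 102)))))) (.node (nat_lit 42974) (.node (nat_lit 42674) (.node (nat_lit 42509) (.leaf (nat_lit 252)) (.node (nat_lit 42522) (.leaf (nat_lit 0)) (.leaf (nat_lit 3)))) (.node (nat_lit 42687) (.leaf (nat_lit 1083)) (.node (nat_lit 42796) (.leaf (nat_lit 1092)) (.leaf (nat_lit 0))))) (.node (nat_lit 43745) (.node (nat_lit 43007) (.leaf (nat_lit 195)) (.node (nat_lit 43305) (.leaf (nat_lit 0)) (.leaf (nat_lit 1212)))) (.node (nat_lit 45174) (.node (nat_lit 45151) (.leaf (nat_lit 0)) (.leaf (nat_lit 195))) (.node (nat_lit 45235) (.leaf (nat_lit 1080)) (.leaf (nat_lit 195))))))) (.node (nat_lit 47047) (.node (nat_lit 45784) (.node (nat_lit 45643) (.node (nat_lit 45343) (.leaf (nat_lit 0)) (.node (nat_lit 45578) (.leaf (nat_lit 195)) (.leaf (nat_lit 273)))) (.node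 (nat_lit 45656) (.leaf (nat_lit 0)) (.node (nat_lit 45780) (.leaf (nat_lit 1083)) (.leaf (nat_lit 315))))) (.node (nat_lit 46521) (.node (nat_lit 45933) (.leaf (nat_lit 0)) (.node (nat_lit 46127) (.leaf (nat_lit 1083)) (.leaf (nat_lit 0)))) (.node (nat_lit 46892) (.node (nat_lit 46860) (.leaf (nat_lit 1215)) (.leaf (nat_lit 0))) (.node (nat_lit 46955) (.leaf (nat_lit 1275)) (.leaf (nat_lit 1080)))))) (.node (nat_lit 48564) (.node (nat_lit 47549) (.node (nat_lit 47101) (.leaf (nat_lit 0)) (.node (nat_lit 47420) (.leaf (nat_lit 12)) (.leaf (nat_lit 0)))) (.node (nat_lit 47741) (.node (nat_lit 47706) (.leaf (nat_lit 1113)) (.leaf (nat_lit 1080))) (.node (nat_lit 47742) (.leaf (nat_lit 1182)) (.leaf (nat_lit 252))))) (.node (nat_lit 48937) (.node (nat_lit 48625) (.leaf (nat_lit 0)) (.node (nat_lit 48799) (.leaf (nat_lit 252)) (.leaf (nat_lit 0)))) (.node (nat_lit 49297) (.node (nat_lit 49246) (.leaf (nat_lit 72)) (.leaf (nat_lit 195)))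 (.node (nat_lit 49637) (.leaf (nat_lit 0)) (.leaf (nat_lit 12)))))))) (.node (nat_lit 54113) (.node (nat_lit 50906) (.node (nat_lit 49952) (.node (nat_lit 49699) (.node (nat_lit 49648) (.leaf (nat_lit 0)) (.node (nat_lit 49670) (.leaf (nat_lit 30)) (.leaf (nat_lit 0)))) (.node (nat_lit 49724) (.leaf (nat_lit 1353)) (.node (nat_lit 49766) (.leaf (nat_lit 0)) (.leaf (nat_lit 1353))))) (.node (nat_lit 50461) (.node (nat_lit 50124) (.leaf (nat_lit 0)) (.node (nat_lit 50460) (.leaf (nat_lit 192)) (.leaf (nat_lit 273)))) (.node (nat_lit 50731) (.node (nat_lit 50613) (.leaf (nat_lit 1152)) (.leaf (nat_lit 252))) (.node (nat_lit 50785) (.leaf (nat_lit 0)) (.leaf (nat_lit 3)))))) (.node (nat_lit 52954) (.node (nat_lit 52104) (.node (nat_lit 51897) (.leaf (nat_lit 0)) (.node (nat_lit 52071) (.leaf (nat_lit 1113)) (.leaf (nat_lit 12)))) (.node (nat_lit 52607) (.leaf (nat_lit 0)) (.node (nat_lit 52884) (.leaf (nat_lit 1245)) (.leaf (nat_lit 15)))))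 (.node (nat_lit 53555) (.node (nat_lit 53002) (.leaf (nat_lit 0)) (.node (nat_lit 53496) (.leaf (nat_lit 1080)) (.leaf (nat_lit 195)))) (.node (nat_lit 53775) (.node (nat_lit 53560) (.leaf (nat_lit 1155)) (.leaf (nat_lit 165))) (.node (nat_lit 53879) (.leaf (nat_lit 1353)) (.leaf (nat_lit 273))))))) (.node (nat_lit 56006) (.node (nat_lit 55394) (.node (nat_lit 54514) (.node (nat_lit 54337) (.leaf (nat_lit 3)) (.node (nat_lit 54394) (.leaf (nat_lit 0)) (.leaf (nat_lit 1395)))) (.node (nat_lit 54722) (.leaf (nat_lit 252)) (.node (nat_lit 55170) (.leaf (nat_lit 0)) (.leaf (nat_lit 132))))) (.node (nat_lit 55584) (.node (nat_lit 55461) (.leaf (nat_lit 3)) (.node (nat_lit 55546) (.leaf (nat_lit 0)) (.leaf (nat_lit 1353)))) (.node (nat_lit 55603) (.node (nat_lit 55595) (.leaf (nat_lit 1275)) (.leaf (nat_lit 15))) (.node (nat_lit 55620) (.leaf (nat_lit 3)) (.leaf (nat_lit 0)))))) (.node (nat_lit 56920) (.node (nat_lit 56325) (.node (nat_lit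 56033) (.leaf (nat_lit 195)) (.node (nat_lit 56101) (.leaf (nat_lit 33)) (.leaf (nat_lit 3)))) (.node (nat_lit 56556) (.node (nat_lit 56336) (.leaf (nat_lit 0)) (.leaf (nat_lit 195))) (.node (nat_lit 56818) (.leaf (nat_lit 0)) (.leaf (nat_lit 3))))) (.node (nat_lit 57263) (.node (nat_lit 56936) (.leaf (nat_lit 1113)) (.node (nat_lit 57203) (.leaf (nat_lit 0)) (.leaf (nat_lit 33)))) (.node (nat_lit 57973) (.node (nat_lit 57825) (.leaf (nat_lit 36)) (.leaf (nat_lit 12))) (.node (nat_lit 58200) (.leaf (nat_lit 1080)) (.leaf (nat_lit 1353))))))))) (.node (nat_lit 67816) (.node (nat_lit 63520) (.node (nat_lit 60431) (.node (nat_lit 58939) (.node (nat_lit 58466) (.node (nat_lit 58222) (.leaf (nat_lit 165)) (.node (nat_lit 58309) (.leaf (nat_lit 0)) (.leaf (nat_lit 3)))) (.node (nat_lit 58602) (.leaf (nat_lit 195)) (.node (nat_lit 58635) (.leaf (nat_lit 0)) (.leaf (nat_lit 1113))))) (.node (nat_lit 59123) (.node (nat_lit 59013) (.leaf (nat_lit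 165)) (.node (nat_lit 59021) (.leaf (nat_lit 156)) (.leaf (nat_lit 195)))) (.node (nat_lit 60152) (.node (nat_lit 59641) (.leaf (nat_lit 3)) (.leaf (nat_lit 0))) (.node (nat_lit 60341) (.leaf (nat_lit 1113)) (.leaf (nat_lit 1092)))))) (.node (nat_lit 61421) (.node (nat_lit 60623) (.node (nat_lit 60484) (.leaf (nat_lit 1275)) (.node (nat_lit 60614) (.leaf (nat_lit 1092)) (.leaf (nat_lit 3)))) (.node (nat_lit 60682) (.leaf (nat_lit 1353)) (.node (nat_lit 61004) (.leaf (nat_lit 33)) (.leaf (nat_lit 1083))))) (.node (nat_lit 61664) (.node (nat_lit 61457) (.leaf (nat_lit 1092)) (.node (nat_lit 61568) (.leaf (nat_lit 1182)) (.leaf (nat_lit 153)))) (.node (nat_lit 62073) (.node (nat_lit 61975) (.leaf (nat_lit 156)) (.leaf (nat_lit 1092))) (.node (nat_lit 63473) (.leaf (nat_lit 0)) (.leaf (nat_lit 192))))))) (.node (nat_lit 65910) (.node (nat_lit 64758) (.node (nat_lit 63971) (.node (nat_lit 63546) (.leaf (nat_lit 1245)) (.node (nat_lit 63963)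 (.leaf (nat_lit 0)) (.leaf (nat_lit 192)))) (.node (nat_lit 64209) (.leaf (nat_lit 0)) (.node (nat_lit 64232) (.leaf (nat_lit 33)) (.leaf (nat_lit 0))))) (.node (nat_lit 65455) (.node (nat_lit 65046) (.leaf (nat_lit 1395)) (.node (nat_lit 65131) (.leaf (nat_lit 33)) (.leaf (nat_lit 0)))) (.node (nat_lit 65828) (.node (nat_lit 65611) (.leaf (nat_lit 1092)) (.leaf (nat_lit 12))) (.node (nat_lit 65867) (.leaf (nat_lit 195)) (.leaf (nat_lit 12)))))) (.node (nat_lit 67113) (.node (nat_lit 66880) (.node (nat_lit 65967) (.leaf (nat_lit 195)) (.node (nat_lit 66227) (.leaf (nat_lit 1155)) (.leaf (nat_lit 0)))) (.node (nat_lit 67034) (.node (nat_lit 66889) (.leaf (nat_lit 12)) (.leaf (nat_lit 1092))) (.node (nat_lit 67046) (.leaf (nat_lit 33)) (.leaf (nat_lit 15))))) (.node (nat_lit 67329) (.node (nat_lit 67226) (.leaf (nat_lit 0)) (.node (nat_lit 67268) (.leaf (nat_lit 195)) (.leaf (nat_lit 1275)))) (.node (nat_lit 67492) (.node (nat_lit 67443)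 (.leaf (nat_lit 132)) (.leaf (nat_lit 1092))) (.node (nat_lit 67642) (.leaf (nat_lit 0)) (.leaf (nat_lit 33)))))))) (.node (nat_lit 71850) (.node (nat_lit 70763) (.node (nat_lit 69092) (.node (nat_lit 68995) (.node (nat_lit 68388) (.leaf (nat_lit 195)) (.node (nat_lit 68588) (.leaf (nat_lit 1215)) (.leaf (nat_lit 0)))) (.node (nat_lit 69010) (.leaf (nat_lit 75)) (.node (nat_lit 69080) (.leaf (nat_lit 0)) (.leaf (nat_lit 1275))))) (.node (nat_lit 70148) (.node (nat_lit 69562) (.leaf (nat_lit 0)) (.node (nat_lit 69588) (.leaf (nat_lit 3)) (.leaf (nat_lit 0)))) (.node (nat_lit 70582) (.node (nat_lit 70374) (.leaf (nat_lit 195)) (.leaf (nat_lit 3))) (.node (nat_lit 70625) (.leaf (nat_lit 12)) (.leaf (nat_lit 0)))))) (.node (nat_lit 71121) (.node (nat_lit 70838) (.node (nat_lit 70778) (.leaf (nat_lit 192)) (.node (nat_lit 70811) (.leaf (nat_lit 0)) (.leaf (nat_lit 1080)))) (.node (nat_lit 71080) (.node (nat_lit 70976) (.leaf (nat_lit 12))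 (.leaf (nat_lit 165))) (.node (nat_lit 71095) (.leaf (nat_lit 1080)) (.leaf (nat_lit 0))))) (.node (nat_lit 71296) (.node (nat_lit 71188) (.leaf (nat_lit 33)) (.node (nat_lit 71233) (.leaf (nat_lit 315)) (.leaf (nat_lit 0)))) (.node (nat_lit 71576) (.node (nat_lit 71502) (.leaf (nat_lit 195)) (.leaf (nat_lit 1080))) (.node (nat_lit 71778) (.leaf (nat_lit 0)) (.leaf (nat_lit 1083))))))) (.node (nat_lit 74380) (.node (nat_lit 72993) (.node (nat_lit 72787) (.node (nat_lit 72530) (.leaf (nat_lit 12)) (.node (nat_lit 72688) (.leaf (nat_lit 1233)) (.leaf (nat_lit 0)))) (.node (nat_lit 72849) (.leaf (nat_lit 195)) (.node (nat_lit 72977) (.leaf (nat_lit 0)) (.leaf (nat_lit 15))))) (.node (nat_lit 73636) (.node (nat_lit 73089) (.leaf (nat_lit 1080)) (.node (nat_lit 73345) (.leaf (nat_lit 75)) (.leaf (nat_lit 0)))) (.node (nat_lit 73939) (.node (nat_lit 73653) (.leaf (nat_lit 150)) (.leaf (nat_lit 6))) (.node (nat_lit 74361) (.leaf (nat_lit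 0)) (.leaf (nat_lit 1092)))))) (.node (nat_lit 75249) (.node (nat_lit 74559) (.node (nat_lit 74478) (.leaf (nat_lit 3)) (.node (nat_lit 74504) (.leaf (nat_lit 0)) (.leaf (nat_lit 1245)))) (.node (nat_lit 74760) (.node (nat_lit 74611) (.leaf (nat_lit 1080)) (.leaf (nat_lit 0))) (.node (nat_lit 74990) (.leaf (nat_lit 1083)) (.leaf (nat_lit 0))))) (.node (nat_lit 75923) (.node (nat_lit 75514) (.leaf (nat_lit 342)) (.node (nat_lit 75781) (.leaf (nat_lit 0)) (.leaf (nat_lit 1080)))) (.node (nat_lit 76134) (.node (nat_lit 76126) (.leaf (nat_lit 132)) (.leaf (nat_lit 1083))) (.node (nat_lit 76158) (.leaf (nat_lit 0)) (.leaf (nat_lit 315))))))))))) (.node (nat_lit 114410) (.node (nat_lit 95808) (.node (nat_lit 87254) (.node (nat_lit 82458) (.node (nat_lit 79737) (.node (nat_lit 78429) (.node (nat_lit 77589) (.node (nat_lit 77039) (.leaf (nat_lit 0)) (.node (nat_lit 77487) (.leaf (nat_lit 1092)) (.leaf (nat_lit 0)))) (.node (nat_lit 77625)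 (.leaf (nat_lit 132)) (.node (nat_lit 78349) (.leaf (nat_lit 0)) (.leaf (nat_lit 1080))))) (.node (nat_lit 79183) (.node (nat_lit 78496) (.leaf (nat_lit 1083)) (.node (nat_lit 79007) (.leaf (nat_lit 0)) (.leaf (nat_lit 1083)))) (.node (nat_lit 79391) (.node (nat_lit 79315) (.leaf (nat_lit 1233)) (.leaf (nat_lit 102))) (.node (nat_lit 79557) (.leaf (nat_lit 33)) (.leaf (nat_lit 0)))))) (.node (nat_lit 80680) (.node (nat_lit 80441) (.node (nat_lit 79840) (.leaf (nat_lit 165)) (.node (nat_lit 79904) (.leaf (nat_lit 1080)) (.leaf (nat_lit 0)))) (.node (nat_lit 80518) (.leaf (nat_lit 1083)) (.node (nat_lit 80561) (.leaf (nat_lit 1092)) (.leaf (nat_lit 0))))) (.node (nat_lit 81096) (.node (nat_lit 80881) (.leaf (nat_lit 273)) (.node (nat_lit 80898) (.leaf (nat_lit 1152)) (.leaf (nat_lit 12)))) (.node (nat_lit 82229) (.node (nat_lit 81678) (.leaf (nat_lit 1083)) (.leaf (nat_lit 0))) (.node (nat_lit 82381) (.leaf (nat_lit 132)) (.leaf (nat_lit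 315))))))) (.node (nat_lit 84182) (.node (nat_lit 83414) (.node (nat_lit 82714) (.node (nat_lit 82602) (.leaf (nat_lit 0)) (.node (nat_lit 82668) (.leaf (nat_lit 1155)) (.leaf (nat_lit 195)))) (.node (nat_lit 82787) (.leaf (nat_lit 0)) (.node (nat_lit 83036) (.leaf (nat_lit 3)) (.leaf (nat_lit 273))))) (.node (nat_lit 83720) (.node (nat_lit 83534) (.leaf (nat_lit 15)) (.node (nat_lit 83566) (.leaf (nat_lit 252)) (.leaf (nat_lit 15)))) (.node (nat_lit 83839) (.node (nat_lit 83823) (.leaf (nat_lit 132)) (.leaf (nat_lit 273))) (.node (nat_lit 84101) (.leaf (nat_lit 0)) (.leaf (nat_lit 1113)))))) (.node (nat_lit 85778) (.node (nat_lit 84825) (.node (nat_lit 84436) (.leaf (nat_lit 0)) (.node (nat_lit 84446) (.leaf (nat_lit 75)) (.leaf (nat_lit 0)))) (.node (nat_lit 85185) (.node (nat_lit 84848) (.leaf (nat_lit 1113)) (.leaf (nat_lit 1083))) (.node (nat_lit 85650) (.leaf (nat_lit 0)) (.leaf (nat_lit 195))))) (.node (nat_lit 86563) (.node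 (nat_lit 85825) (.leaf (nat_lit 0)) (.node (nat_lit 85908) (.leaf (nat_lit 1275)) (.leaf (nat_lit 0)))) (.node (nat_lit 86913) (.node (nat_lit 86896) (.leaf (nat_lit 1182)) (.leaf (nat_lit 153))) (.node (nat_lit 87125) (.leaf (nat_lit 12)) (.leaf (nat_lit 0)))))))) (.node (nat_lit 92431) (.node (nat_lit 88615) (.node (nat_lit 87797) (.node (nat_lit 87572) (.node (nat_lit 87393) (.leaf (nat_lit 75)) (.node (nat_lit 87423) (.leaf (nat_lit 1092)) (.leaf (nat_lit 165)))) (.node (nat_lit 87597) (.leaf (nat_lit 1155)) (.node (nat_lit 87718) (.leaf (nat_lit 75)) (.leaf (nat_lit 0))))) (.node (nat_lit 88394) (.node (nat_lit 87807) (.leaf (nat_lit 192)) (.node (nat_lit 88173) (.leaf (nat_lit 1113)) (.leaf (nat_lit 0)))) (.node (nat_lit 88600) (.node (nat_lit 88504) (.leaf (nat_lit 72)) (.leaf (nat_lit 252))) (.node (nat_lit 88613) (.leaf (nat_lit 0)) (.leaf (nat_lit 1092)))))) (.node (nat_lit 90215) (.node (nat_lit 89386) (.node (nat_lit 89347)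 (.leaf (nat_lit 0)) (.node (nat_lit 89381) (.leaf (nat_lit 1332)) (.leaf (nat_lit 12)))) (.node (nat_lit 89830) (.leaf (nat_lit 0)) (.node (nat_lit 90159) (.leaf (nat_lit 33)) (.leaf (nat_lit 12))))) (.node (nat_lit 91389) (.node (nat_lit 90382) (.leaf (nat_lit 0)) (.node (nat_lit 90395) (.leaf (nat_lit 1215)) (.leaf (nat_lit 0)))) (.node (nat_lit 91672) (.node (nat_lit 91601) (.leaf (nat_lit 1113)) (.leaf (nat_lit 1233))) (.node (nat_lit 91923) (.leaf (nat_lit 195)) (.leaf (nat_lit 0))))))) (.node (nat_lit 94350) (.node (nat_lit 93619) (.node (nat_lit 93496) (.node (nat_lit 92897) (.leaf (nat_lit 153)) (.node (nat_lit 93309) (.leaf (nat_lit 1212)) (.leaf (nat_lit 33)))) (.node (nat_lit 93527) (.leaf (nat_lit 0)) (.node (nat_lit 93570) (.leaf (nat_lit 102)) (.leaf (nat_lit 0))))) (.node (nat_lit 93818) (.node (nat_lit 93645) (.leaf (nat_lit 12)) (.node (nat_lit 93694) (.leaf (nat_lit 1083)) (.leaf (nat_lit 0)))) (.node (nat_lit 94074)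 (.node (nat_lit 93868) (.leaf (nat_lit 12)) (.leaf (nat_lit 6))) (.node (nat_lit 94121) (.leaf (nat_lit 0)) (.leaf (nat_lit 153)))))) (.node (nat_lit 94635) (.node (nat_lit 94460) (.node (nat_lit 94431) (.leaf (nat_lit 30)) (.node (nat_lit 94433) (.leaf (nat_lit 75)) (.leaf (nat_lit 0)))) (.node (nat_lit 94558) (.node (nat_lit 94479) (.leaf (nat_lit 1275)) (.leaf (nat_lit 33))) (.node (nat_lit 94634) (.leaf (nat_lit 1080)) (.leaf (nat_lit 75))))) (.node (nat_lit 94951) (.node (nat_lit 94654) (.leaf (nat_lit 1092)) (.node (nat_lit 94757) (.leaf (nat_lit 195)) (.leaf (nat_lit 3)))) (.node (nat_lit 95652) (.node (nat_lit 95136) (.leaf (nat_lit 0)) (.leaf (nat_lit 1083))) (.node (nat_lit 95715) (.leaf (nat_lit 315)) (.leaf (nat_lit 1092))))))))) (.node (nat_lit 104133) (.node (nat_lit 99017) (.node (nat_lit 97194) (.node (nat_lit 96566) (.node (nat_lit 95966) (.node (nat_lit 95827) (.leaf (nat_lit 1332)) (.node (nat_lit 95872) (.leaf (nat_lit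 3)) (.leaf (nat_lit 33)))) (.node (nat_lit 96095) (.leaf (nat_lit 0)) (.node (nat_lit 96125) (.leaf (nat_lit 1275)) (.leaf (nat_lit 0))))) (.node (nat_lit 96719) (.node (nat_lit 96567) (.leaf (nat_lit 1233)) (.node (nat_lit 96590) (.leaf (nat_lit 1212)) (.leaf (nat_lit 0)))) (.node (nat_lit 96849) (.node (nat_lit 96751) (.leaf (nat_lit 192)) (.leaf (nat_lit 132))) (.node (nat_lit 96854) (.leaf (nat_lit 1080)) (.leaf (nat_lit 273)))))) (.node (nat_lit 98616) (.node (nat_lit 97945) (.node (nat_lit 97345) (.leaf (nat_lit 0)) (.node (nat_lit 97669) (.leaf (nat_lit 273)) (.leaf (nat_lit 150)))) (.node (nat_lit 98388) (.leaf (nat_lit 0)) (.node (nat_lit 98430) (.leaf (nat_lit 3)) (.leaf (nat_lit 0))))) (.node (nat_lit 98788) (.node (nat_lit 98697) (.leaf (nat_lit 1083)) (.node (nat_lit 98707) (.leaf (nat_lit 1092)) (.leaf (nat_lit 0)))) (.node (nat_lit 98916) (.node (nat_lit 98810) (.leaf (nat_lit 12)) (.leaf (nat_lit 0))) (.node (nat_lit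 98984) (.leaf (nat_lit 12)) (.leaf (nat_lit 0))))))) (.node (nat_lit 101326) (.node (nat_lit 100796) (.node (nat_lit 100455) (.node (nat_lit 99723) (.leaf (nat_lit 1155)) (.node (nat_lit 100328) (.leaf (nat_lit 0)) (.leaf (nat_lit 1080)))) (.node (nat_lit 100604) (.leaf (nat_lit 0)) (.node (nat_lit 100654) (.leaf (nat_lit 1083)) (.leaf (nat_lit 0))))) (.node (nat_lit 100895) (.node (nat_lit 100828) (.leaf (nat_lit 15)) (.node (nat_lit 100861) (.leaf (nat_lit 0)) (.leaf (nat_lit 102)))) (.node (nat_lit 101271) (.node (nat_lit 101240) (.leaf (nat_lit 1092)) (.leaf (nat_lit 0))) (.node (nat_lit 101274) (.leaf (nat_lit 1212)) (.leaf (nat_lit 12)))))) (.node (nat_lit 102662) (.node (nat_lit 101877) (.node (nat_lit 101376) (.leaf (nat_lit 192)) (.node (nat_lit 101804) (.leaf (nat_lit 1113)) (.leaf (nat_lit 0)))) (.node (nat_lit 102356) (.node (nat_lit 102283) (.leaf (nat_lit 1212)) (.leaf (nat_lit 0))) (.node (nat_lit 102496) (.leaf (nat_lit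 192)) (.leaf (nat_lit 1155))))) (.node (nat_lit 103807) (.node (nat_lit 103207) (.leaf (nat_lit 0)) (.node (nat_lit 103746) (.leaf (nat_lit 1080)) (.leaf (nat_lit 0)))) (.node (nat_lit 103915) (.node (nat_lit 103815) (.leaf (nat_lit 195)) (.leaf (nat_lit 1155))) (.node (nat_lit 103999) (.leaf (nat_lit 195)) (.leaf (nat_lit 1215)))))))) (.node (nat_lit 109008) (.node (nat_lit 107354) (.node (nat_lit 105747) (.node (nat_lit 104308) (.node (nat_lit 104150) (.leaf (nat_lit 0)) (.node (nat_lit 104283) (.leaf (nat_lit 273)) (.leaf (nat_lit 156)))) (.node (nat_lit 105093) (.leaf (nat_lit 0)) (.node (nat_lit 105453) (.leaf (nat_lit 1215)) (.leaf (nat_lit 1212))))) (.node (nat_lit 106313) (.node (nat_lit 106241) (.leaf (nat_lit 0)) (.node (nat_lit 106278) (.leaf (nat_lit 1212)) (.leaf (nat_lit 0)))) (.node (nat_lit 107181) (.node (nat_lit 106774) (.leaf (nat_lit 1182)) (.leaf (nat_lit 0))) (.node (nat_lit 107197) (.leaf (nat_lit 1275)) (.leaf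 (nat_lit 252)))))) (.node (nat_lit 108121) (.node (nat_lit 107772) (.node (nat_lit 107392) (.leaf (nat_lit 102)) (.node (nat_lit 107679) (.leaf (nat_lit 0)) (.leaf (nat_lit 1275)))) (.node (nat_lit 107949) (.node (nat_lit 107909) (.leaf (nat_lit 0)) (.leaf (nat_lit 12))) (.node (nat_lit 108081) (.leaf (nat_lit 1353)) (.leaf (nat_lit 12))))) (.node (nat_lit 108507) (.node (nat_lit 108271) (.leaf (nat_lit 0)) (.node (nat_lit 108480) (.leaf (nat_lit 1353)) (.leaf (nat_lit 0)))) (.node (nat_lit 108552) (.node (nat_lit 108543) (.leaf (nat_lit 342)) (.leaf (nat_lit 0))) (.node (nat_lit 108696) (.leaf (nat_lit 273)) (.leaf (nat_lit 192))))))) (.node (nat_lit 112260) (.node (nat_lit 109827) (.node (nat_lit 109634) (.node (nat_lit 109185) (.leaf (nat_lit 0)) (.node (nat_lit 109402) (.leaf (nat_lit 252)) (.leaf (nat_lit 102)))) (.node (nat_lit 109670) (.leaf (nat_lit 342)) (.node (nat_lit 109820) (.leaf (nat_lit 0)) (.leaf (nat_lit 3))))) (.node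 (nat_lit 110769) (.node (nat_lit 110100) (.leaf (nat_lit 1113)) (.node (nat_lit 110730) (.leaf (nat_lit 1395)) (.leaf (nat_lit 0)))) (.node (nat_lit 111702) (.node (nat_lit 111243) (.leaf (nat_lit 12)) (.leaf (nat_lit 0))) (.node (nat_lit 111808) (.leaf (nat_lit 192)) (.leaf (nat_lit 1353)))))) (.node (nat_lit 114015) (.node (nat_lit 112966) (.node (nat_lit 112333) (.leaf (nat_lit 12)) (.node (nat_lit 112842) (.leaf (nat_lit 0)) (.leaf (nat_lit 195)))) (.node (nat_lit 113450) (.node (nat_lit 113017) (.leaf (nat_lit 1395)) (.leaf (nat_lit 1275))) (.node (nat_lit 113679) (.leaf (nat_lit 0)) (.leaf (nat_lit 1083))))) (.node (nat_lit 114118) (.node (nat_lit 114101) (.leaf (nat_lit 45)) (.node (nat_lit 114103) (.leaf (nat_lit 0)) (.leaf (nat_lit 1092)))) (.node (nat_lit 114288) (.node (nat_lit 114156) (.leaf (nat_lit 1353)) (.leaf (nat_lit 1275))) (.node (nat_lit 114385) (.leaf (nat_lit 0)) (.leaf (nat_lit 252)))))))))) (.node (nat_lit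 131884) (.node (nat_lit 122397) (.node (nat_lit 118490) (.node (nat_lit 116545) (.node (nat_lit 115142) (.node (nat_lit 114907) (.node (nat_lit 114476) (.leaf (nat_lit 1353)) (.node (nat_lit 114865) (.leaf (nat_lit 195)) (.leaf (nat_lit 1113)))) (.node (nat_lit 114908) (.leaf (nat_lit 75)) (.node (nat_lit 115128) (.leaf (nat_lit 195)) (.leaf (nat_lit 0))))) (.node (nat_lit 115508) (.node (nat_lit 115390) (.leaf (nat_lit 1113)) (.node (nat_lit 115492) (.leaf (nat_lit 3)) (.leaf (nat_lit 1113)))) (.node (nat_lit 116080) (.node (nat_lit 116050) (.leaf (nat_lit 0)) (.leaf (nat_lit 12))) (.node (nat_lit 116085) (.leaf (nat_lit 273)) (.leaf (nat_lit 12)))))) (.node (nat_lit 117191) (.node (nat_lit 116789) (.node (nat_lit 116667) (.leaf (nat_lit 0)) (.node (nat_lit 116738) (.leaf (nat_lit 33)) (.leaf (nat_lit 1182)))) (.node (nat_lit 116881) (.leaf (nat_lit 165)) (.node (nat_lit 116923) (.leaf (nat_lit 3)) (.leaf (nat_lit 1080))))) (.node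 (nat_lit 117837) (.node (nat_lit 117511) (.leaf (nat_lit 0)) (.node (nat_lit 117585) (.leaf (nat_lit 165)) (.leaf (nat_lit 156)))) (.node (nat_lit 118180) (.node (nat_lit 117962) (.leaf (nat_lit 0)) (.leaf (nat_lit 1275))) (.node (nat_lit 118283) (.leaf (nat_lit 0)) (.leaf (nat_lit 1275))))))) (.node (nat_lit 119978) (.node (nat_lit 118913) (.node (nat_lit 118724) (.node (nat_lit 118588) (.leaf (nat_lit 0)) (.node (nat_lit 118662) (.leaf (nat_lit 1080)) (.leaf (nat_lit 0)))) (.node (nat_lit 118837) (.leaf (nat_lit 1113)) (.node (nat_lit 118864) (.leaf (nat_lit 0)) (.leaf (nat_lit 195))))) (.node (nat_lit 119105) (.node (nat_lit 119003) (.leaf (nat_lit 1092)) (.node (nat_lit 119068) (.leaf (nat_lit 1275)) (.leaf (nat_lit 153)))) (.node (nat_lit 119740) (.node (nat_lit 119576) (.leaf (nat_lit 1080)) (.leaf (nat_lit 1083))) (.node (nat_lit 119944) (.leaf (nat_lit 0)) (.leaf (nat_lit 195)))))) (.node (nat_lit 120596) (.node (nat_lit 120236)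 (.node (nat_lit 119981) (.leaf (nat_lit 33)) (.node (nat_lit 120140) (.leaf (nat_lit 0)) (.leaf (nat_lit 153)))) (.node (nat_lit 120499) (.node (nat_lit 120400) (.leaf (nat_lit 156)) (.leaf (nat_lit 0))) (.node (nat_lit 120574) (.leaf (nat_lit 195)) (.leaf (nat_lit 0))))) (.node (nat_lit 121020) (.node (nat_lit 120680) (.leaf (nat_lit 1080)) (.node (nat_lit 120819) (.leaf (nat_lit 1083)) (.leaf (nat_lit 0)))) (.node (nat_lit 122092) (.node (nat_lit 121067) (.leaf (nat_lit 12)) (.leaf (nat_lit 0))) (.node (nat_lit 122194) (.leaf (nat_lit 1245)) (.leaf (nat_lit 1083)))))))) (.node (nat_lit 127160) (.node (nat_lit 123952) (.node (nat_lit 123301) (.node (nat_lit 122932) (.node (nat_lit 122781) (.leaf (nat_lit 0)) (.node (nat_lit 122884) (.leaf (nat_lit 33)) (.leaf (nat_lit 1080)))) (.node (nat_lit 123107) (.leaf (nat_lit 1275)) (.node (nat_lit 123143) (.leaf (nat_lit 1092)) (.leaf (nat_lit 132))))) (.node (nat_lit 123599) (.node (nat_lit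 123349) (.leaf (nat_lit 0)) (.node (nat_lit 123374) (.leaf (nat_lit 3)) (.leaf (nat_lit 1395)))) (.node (nat_lit 123685) (.node (nat_lit 123648) (.leaf (nat_lit 1275)) (.leaf (nat_lit 0))) (.node (nat_lit 123783) (.leaf (nat_lit 1083)) (.leaf (nat_lit 0)))))) (.node (nat_lit 125866) (.node (nat_lit 124439) (.node (nat_lit 124183) (.leaf (nat_lit 15)) (.node (nat_lit 124252) (.leaf (nat_lit 12)) (.leaf (nat_lit 0)))) (.node (nat_lit 125618) (.node (nat_lit 124684) (.leaf (nat_lit 12)) (.leaf (nat_lit 0))) (.node (nat_lit 125798) (.leaf (nat_lit 15)) (.leaf (nat_lit 195))))) (.node (nat_lit 126172) (.node (nat_lit 125901) (.leaf (nat_lit 1215)) (.node (nat_lit 125904) (.leaf (nat_lit 132)) (.leaf (nat_lit 0)))) (.node (nat_lit 126657) (.node (nat_lit 126246) (.leaf (nat_lit 45)) (.leaf (nat_lit 195))) (.node (nat_lit 126960) (.leaf (nat_lit 0)) (.leaf (nat_lit 1215))))))) (.node (nat_lit 129167) (.node (nat_lit 128148) (.node (nat_lit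 127666) (.node (nat_lit 127512) (.leaf (nat_lit 0)) (.node (nat_lit 127567) (.leaf (nat_lit 252)) (.leaf (nat_lit 75)))) (.node (nat_lit 127869) (.leaf (nat_lit 0)) (.node (nat_lit 127937) (.leaf (nat_lit 1230)) (.leaf (nat_lit 1113))))) (.node (nat_lit 128403) (.node (nat_lit 128230) (.leaf (nat_lit 0)) (.node (nat_lit 128282) (.leaf (nat_lit 1092)) (.leaf (nat_lit 12)))) (.node (nat_lit 128555) (.node (nat_lit 128461) (.leaf (nat_lit 1113)) (.leaf (nat_lit 132))) (.node (nat_lit 129154) (.leaf (nat_lit 0)) (.leaf (nat_lit 12)))))) (.node (nat_lit 130074) (.node (nat_lit 129652) (.node (nat_lit 129244) (.leaf (nat_lit 1092)) (.node (nat_lit 129410) (.leaf (nat_lit 0)) (.leaf (nat_lit 12)))) (.node (nat_lit 129952) (.node (nat_lit 129760) (.leaf (nat_lit 0)) (.leaf (nat_lit 315))) (.node (nat_lit 129995) (.leaf (nat_lit 132)) (.leaf (nat_lit 1395))))) (.node (nat_lit 131486) (.node (nat_lit 130446) (.leaf (nat_lit 0)) (.node (nat_lit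 131004) (.leaf (nat_lit 12)) (.leaf (nat_lit 0)))) (.node (nat_lit 131537) (.node (nat_lit 131506) (.leaf (nat_lit 1395)) (.leaf (nat_lit 3))) (.node (nat_lit 131796) (.leaf (nat_lit 0)) (.leaf (nat_lit 3))))))))) (.node (nat_lit 141496) (.node (nat_lit 135442) (.node (nat_lit 133574) (.node (nat_lit 132933) (.node (nat_lit 132208) (.node (nat_lit 132083) (.leaf (nat_lit 0)) (.node (nat_lit 132138) (.leaf (nat_lit 195)) (.leaf (nat_lit 1236)))) (.node (nat_lit 132227) (.leaf (nat_lit 150)) (.node (nat_lit 132761) (.leaf (nat_lit 0)) (.leaf (nat_lit 1353))))) (.node (nat_lit 133114) (.node (nat_lit 132992) (.leaf (nat_lit 1092)) (.node (nat_lit 132997) (.leaf (nat_lit 0)) (.leaf (nat_lit 3)))) (.node (nat_lit 133546) (.node (nat_lit 133131) (.leaf (nat_lit 1080)) (.leaf (nat_lit 0))) (.node (nat_lit 133573) (.leaf (nat_lit 1092)) (.leaf (nat_lit 315)))))) (.node (nat_lit 134278) (.node (nat_lit 134056) (.node (nat_lit 133606) (.leaf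 (nat_lit 195)) (.node (nat_lit 133616) (.leaf (nat_lit 75)) (.leaf (nat_lit 0)))) (.node (nat_lit 134125) (.leaf (nat_lit 1083)) (.node (nat_lit 134137) (.leaf (nat_lit 1080)) (.leaf (nat_lit 1092))))) (.node (nat_lit 134691) (.node (nat_lit 134359) (.leaf (nat_lit 0)) (.node (nat_lit 134495) (.leaf (nat_lit 33)) (.leaf (nat_lit 132)))) (.node (nat_lit 134996) (.node (nat_lit 134730) (.leaf (nat_lit 1092)) (.leaf (nat_lit 315))) (.node (nat_lit 135269) (.leaf (nat_lit 12)) (.leaf (nat_lit 1083))))))) (.node (nat_lit 137670) (.node (nat_lit 136732) (.node (nat_lit 135691) (.node (nat_lit 135574) (.leaf (nat_lit 1113)) (.node (nat_lit 135628) (.leaf (nat_lit 0)) (.leaf (nat_lit 75)))) (.node (nat_lit 135898) (.leaf (nat_lit 0)) (.node (nat_lit 136379) (.leaf (nat_lit 33)) (.leaf (nat_lit 3))))) (.node (nat_lit 136885) (.node (nat_lit 136749) (.leaf (nat_lit 1113)) (.node (nat_lit 136769) (.leaf (nat_lit 0)) (.leaf (nat_lit 1332)))) (.node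 (nat_lit 137475) (.node (nat_lit 136921) (.leaf (nat_lit 1113)) (.leaf (nat_lit 0))) (.node (nat_lit 137579) (.leaf (nat_lit 1212)) (.leaf (nat_lit 1083)))))) (.node (nat_lit 139570) (.node (nat_lit 138686) (.node (nat_lit 137887) (.leaf (nat_lit 153)) (.node (nat_lit 138412) (.leaf (nat_lit 102)) (.leaf (nat_lit 0)))) (.node (nat_lit 139013) (.node (nat_lit 138936) (.leaf (nat_lit 195)) (.leaf (nat_lit 0))) (.node (nat_lit 139252) (.leaf (nat_lit 1083)) (.leaf (nat_lit 273))))) (.node (nat_lit 140110) (.node (nat_lit 139737) (.leaf (nat_lit 1245)) (.node (nat_lit 139941) (.leaf (nat_lit 0)) (.leaf (nat_lit 12)))) (.node (nat_lit 140442) (.node (nat_lit 140150) (.leaf (nat_lit 0)) (.leaf (nat_lit 1275))) (.node (nat_lit 141186) (.leaf (nat_lit 0)) (.leaf (nat_lit 273)))))))) (.node (nat_lit 146169) (.node (nat_lit 144127) (.node (nat_lit 142277) (.node (nat_lit 141986) (.node (nat_lit 141599) (.leaf (nat_lit 15)) (.node (nat_lit 141703)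 (.leaf (nat_lit 1275)) (.leaf (nat_lit 1113)))) (.node (nat_lit 142030) (.leaf (nat_lit 15)) (.node (nat_lit 142083) (.leaf (nat_lit 12)) (.leaf (nat_lit 3))))) (.node (nat_lit 143420) (.node (nat_lit 142843) (.leaf (nat_lit 0)) (.node (nat_lit 143243) (.leaf (nat_lit 342)) (.leaf (nat_lit 153)))) (.node (nat_lit 143728) (.node (nat_lit 143521) (.leaf (nat_lit 1083)) (.leaf (nat_lit 12))) (.node (nat_lit 143998) (.leaf (nat_lit 0)) (.leaf (nat_lit 1083)))))) (.node (nat_lit 145338) (.node (nat_lit 144952) (.node (nat_lit 144912) (.leaf (nat_lit 0)) (.node (nat_lit 144946) (.leaf (nat_lit 12)) (.leaf (nat_lit 195)))) (.node (nat_lit 145135) (.node (nat_lit 145120) (.leaf (nat_lit 45)) (.leaf (nat_lit 1275))) (.node (nat_lit 145136) (.leaf (nat_lit 1182)) (.leaf (nat_lit 0))))) (.node (nat_lit 145943) (.node (nat_lit 145573) (.leaf (nat_lit 15)) (.node (nat_lit 145826) (.leaf (nat_lit 102)) (.leaf (nat_lit 75)))) (.node (nat_lit 145995)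 (.node (nat_lit 145965) (.leaf (nat_lit 1080)) (.leaf (nat_lit 1092))) (.node (nat_lit 146024) (.leaf (nat_lit 165)) (.leaf (nat_lit 273))))))) (.node (nat_lit 149474) (.node (nat_lit 148111) (.node (nat_lit 147185) (.node (nat_lit 146696) (.leaf (nat_lit 75)) (.node (nat_lit 147162) (.leaf (nat_lit 0)) (.leaf (nat_lit 33)))) (.node (nat_lit 147290) (.leaf (nat_lit 1092)) (.node (nat_lit 147953) (.leaf (nat_lit 0)) (.leaf (nat_lit 12))))) (.node (nat_lit 148893) (.node (nat_lit 148154) (.leaf (nat_lit 1332)) (.node (nat_lit 148731) (.leaf (nat_lit 0)) (.leaf (nat_lit 12)))) (.node (nat_lit 149124) (.node (nat_lit 149109) (.leaf (nat_lit 0)) (.leaf (nat_lit 273))) (.node (nat_lit 149150) (.leaf (nat_lit 0)) (.leaf (nat_lit 33)))))) (.node (nat_lit 150549) (.node (nat_lit 149600) (.node (nat_lit 149488) (.leaf (nat_lit 273)) (.node (nat_lit 149517) (.leaf (nat_lit 3)) (.leaf (nat_lit 315)))) (.node (nat_lit 150436) (.node (nat_lit 149781)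 (.leaf (nat_lit 1080)) (.leaf (nat_lit 0))) (.node (nat_lit 150476) (.leaf (nat_lit 1275)) (.leaf (nat_lit 1182))))) (.node (nat_lit 151022) (.node (nat_lit 150926) (.leaf (nat_lit 0)) (.node (nat_lit 150974) (.leaf (nat_lit 1245)) (.leaf (nat_lit 0)))) (.node (nat_lit 151469) (.node (nat_lit 151209) (.leaf (nat_lit 1080)) (.leaf (nat_lit 0))) (.node (nat_lit 151881) (.leaf (nat_lit 1212)) (.leaf (nat_lit 0)))))))))))) (.node (nat_lit 221369) (.node (nat_lit 185128) (.node (nat_lit 168286) (.node (nat_lit 160496) (.node (nat_lit 155738) (.node (nat_lit 152983) (.node (nat_lit 152440) (.node (nat_lit 152208) (.node (nat_lit 152148) (.leaf (nat_lit 102)) (.node (nat_lit 152191) (.leaf (nat_lit 1080)) (.leaf (nat_lit 12)))) (.node (nat_lit 152260) (.leaf (nat_lit 75)) (.node (nat_lit 152390) (.leaf (nat_lit 0)) (.leaf (nat_lit 12))))) (.node (nat_lit 152907) (.node (nat_lit 152501) (.leaf (nat_lit 6)) (.node (nat_lit 152582) (.leaf (nat_lit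 0)) (.leaf (nat_lit 1080)))) (.node (nat_lit 152956) (.node (nat_lit 152922) (.leaf (nat_lit 3)) (.leaf (nat_lit 30))) (.node (nat_lit 152961) (.leaf (nat_lit 0)) (.leaf (nat_lit 33)))))) (.node (nat_lit 154399) (.node (nat_lit 153207) (.node (nat_lit 153003) (.leaf (nat_lit 0)) (.node (nat_lit 153032) (.leaf (nat_lit 75)) (.leaf (nat_lit 1275)))) (.node (nat_lit 153350) (.leaf (nat_lit 1092)) (.node (nat_lit 154224) (.leaf (nat_lit 0)) (.leaf (nat_lit 315))))) (.node (nat_lit 155038) (.node (nat_lit 154444) (.leaf (nat_lit 3)) (.node (nat_lit 154649) (.leaf (nat_lit 33)) (.leaf (nat_lit 0)))) (.node (nat_lit 155291) (.node (nat_lit 155206) (.leaf (nat_lit 33)) (.leaf (nat_lit 0))) (.node (nat_lit 155421) (.leaf (nat_lit 192)) (.leaf (nat_lit 0))))))) (.node (nat_lit 157382) (.node (nat_lit 156241) (.node (nat_lit 155944) (.node (nat_lit 155766) (.leaf (nat_lit 1113)) (.node (nat_lit 155895) (.leaf (nat_lit 0)) (.leaf (nat_lit 1113))))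 (.node (nat_lit 156103) (.leaf (nat_lit 0)) (.node (nat_lit 156113) (.leaf (nat_lit 102)) (.leaf (nat_lit 0))))) (.node (nat_lit 156611) (.node (nat_lit 156268) (.leaf (nat_lit 150)) (.node (nat_lit 156557) (.leaf (nat_lit 1083)) (.leaf (nat_lit 252)))) (.node (nat_lit 157349) (.node (nat_lit 157288) (.leaf (nat_lit 0)) (.leaf (nat_lit 3))) (.node (nat_lit 157360) (.leaf (nat_lit 0)) (.leaf (nat_lit 12)))))) (.node (nat_lit 158609) (.node (nat_lit 157842) (.node (nat_lit 157416) (.leaf (nat_lit 0)) (.node (nat_lit 157713) (.leaf (nat_lit 1155)) (.leaf (nat_lit 0)))) (.node (nat_lit 158373) (.node (nat_lit 157953) (.leaf (nat_lit 315)) (.leaf (nat_lit 0))) (.node (nat_lit 158514) (.leaf (nat_lit 1275)) (.leaf (nat_lit 0))))) (.node (nat_lit 159236) (.node (nat_lit 158840) (.leaf (nat_lit 1080)) (.node (nat_lit 159138) (.leaf (nat_lit 0)) (.leaf (nat_lit 273)))) (.node (nat_lit 159812) (.node (nat_lit 159368) (.leaf (nat_lit 102)) (.leaf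 (nat_lit 15))) (.node (nat_lit 160343) (.leaf (nat_lit 0)) (.leaf (nat_lit 1275)))))))) (.node (nat_lit 163897) (.node (nat_lit 162387) (.node (nat_lit 161357) (.node (nat_lit 160928) (.node (nat_lit 160734) (.leaf (nat_lit 0)) (.node (nat_lit 160855) (.leaf (nat_lit 33)) (.leaf (nat_lit 0)))) (.node (nat_lit 161114) (.leaf (nat_lit 192)) (.node (nat_lit 161234) (.leaf (nat_lit 1083)) (.leaf (nat_lit 0))))) (.node (nat_lit 161673) (.node (nat_lit 161391) (.leaf (nat_lit 1080)) (.node (nat_lit 161425) (.leaf (nat_lit 1083)) (.leaf (nat_lit 33)))) (.node (nat_lit 161920) (.node (nat_lit 161779) (.leaf (nat_lit 30)) (.leaf (nat_lit 0))) (.node (nat_lit 162025) (.leaf (nat_lit 192)) (.leaf (nat_lit 150)))))) (.node (nat_lit 162854) (.node (nat_lit 162571) (.node (nat_lit 162459) (.leaf (nat_lit 1155)) (.node (nat_lit 162503) (.leaf (nat_lit 273)) (.leaf (nat_lit 3)))) (.node (nat_lit 162653) (.leaf (nat_lit 1215)) (.node (nat_lit 162812)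 (.leaf (nat_lit 0)) (.leaf (nat_lit 315))))) (.node (nat_lit 163089) (.node (nat_lit 162855) (.leaf (nat_lit 1113)) (.node (nat_lit 163041) (.leaf (nat_lit 156)) (.leaf (nat_lit 0)))) (.node (nat_lit 163688) (.node (nat_lit 163458) (.leaf (nat_lit 165)) (.leaf (nat_lit 0))) (.node (nat_lit 163863) (.leaf (nat_lit 1275)) (.leaf (nat_lit 1092))))))) (.node (nat_lit 165491) (.node (nat_lit 164274) (.node (nat_lit 164096) (.node (nat_lit 163993) (.leaf (nat_lit 12)) (.node (nat_lit 164025) (.leaf (nat_lit 3)) (.leaf (nat_lit 1212)))) (.node (nat_lit 164144) (.leaf (nat_lit 1083)) (.node (nat_lit 164178) (.leaf (nat_lit 0)) (.leaf (nat_lit 165))))) (.node (nat_lit 164517) (.node (nat_lit 164298) (.leaf (nat_lit 1395)) (.node (nat_lit 164491) (.leaf (nat_lit 0)) (.leaf (nat_lit 3)))) (.node (nat_lit 164678) (.node (nat_lit 164648) (.leaf (nat_lit 0)) (.leaf (nat_lit 3))) (.node (nat_lit 165288) (.leaf (nat_lit 0)) (.leaf (nat_lit 12))))))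 (.node (nat_lit 166911) (.node (nat_lit 166437) (.node (nat_lit 165939) (.leaf (nat_lit 1113)) (.node (nat_lit 166093) (.leaf (nat_lit 3)) (.leaf (nat_lit 0)))) (.node (nat_lit 166707) (.node (nat_lit 166520) (.leaf (nat_lit 342)) (.leaf (nat_lit 0))) (.node (nat_lit 166779) (.leaf (nat_lit 1083)) (.leaf (nat_lit 12))))) (.node (nat_lit 167133) (.node (nat_lit 167052) (.leaf (nat_lit 1080)) (.node (nat_lit 167079) (.leaf (nat_lit 0)) (.leaf (nat_lit 342)))) (.node (nat_lit 167974) (.node (nat_lit 167383) (.leaf (nat_lit 12)) (.leaf (nat_lit 0))) (.node (nat_lit 168206) (.leaf (nat_lit 102)) (.leaf (nat_lit 342))))))))) (.node (nat_lit 176937) (.node (nat_lit 174161) (.node (nat_lit 171414) (.node (nat_lit 170274) (.node (nat_lit 168910) (.node (nat_lit 168659) (.leaf (nat_lit 0)) (.node (nat_lit 168868) (.leaf (nat_lit 1275)) (.leaf (nat_lit 12)))) (.node (nat_lit 169799) (.leaf (nat_lit 0)) (.node (nat_lit 170178) (.leaf (nat_lit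 1080)) (.leaf (nat_lit 45))))) (.node (nat_lit 170735) (.node (nat_lit 170299) (.leaf (nat_lit 192)) (.node (nat_lit 170483) (.leaf (nat_lit 6)) (.leaf (nat_lit 0)))) (.node (nat_lit 170905) (.node (nat_lit 170807) (.leaf (nat_lit 1395)) (.leaf (nat_lit 1113))) (.node (nat_lit 171234) (.leaf (nat_lit 0)) (.leaf (nat_lit 135)))))) (.node (nat_lit 172673) (.node (nat_lit 171967) (.node (nat_lit 171589) (.leaf (nat_lit 195)) (.node (nat_lit 171646) (.leaf (nat_lit 1275)) (.leaf (nat_lit 0)))) (.node (nat_lit 172022) (.leaf (nat_lit 132)) (.node (nat_lit 172587) (.leaf (nat_lit 0)) (.leaf (nat_lit 45))))) (.node (nat_lit 173479) (.node (nat_lit 172957) (.leaf (nat_lit 0)) (.node (nat_lit 173465) (.leaf (nat_lit 252)) (.leaf (nat_lit 0)))) (.node (nat_lit 173969) (.node (nat_lit 173498) (.leaf (nat_lit 75)) (.leaf (nat_lit 45))) (.node (nat_lit 174118) (.leaf (nat_lit 0)) (.leaf (nat_lit 195))))))) (.node (nat_lit 174956) (.node (nat_lit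 174485) (.node (nat_lit 174368) (.node (nat_lit 174293) (.leaf (nat_lit 1113)) (.node (nat_lit 174328) (.leaf (nat_lit 1275)) (.leaf (nat_lit 1155)))) (.node (nat_lit 174438) (.leaf (nat_lit 0)) (.node (nat_lit 174449) (.leaf (nat_lit 1113)) (.leaf (nat_lit 75))))) (.node (nat_lit 174652) (.node (nat_lit 174497) (.leaf (nat_lit 165)) (.node (nat_lit 174622) (.leaf (nat_lit 33)) (.leaf (nat_lit 12)))) (.node (nat_lit 174715) (.node (nat_lit 174672) (.leaf (nat_lit 273)) (.leaf (nat_lit 195))) (.node (nat_lit 174769) (.leaf (nat_lit 0)) (.leaf (nat_lit 1080)))))) (.node (nat_lit 176548) (.node (nat_lit 175364) (.node (nat_lit 175235) (.leaf (nat_lit 0)) (.node (nat_lit 175263) (.leaf (nat_lit 1092)) (.leaf (nat_lit 195)))) (.node (nat_lit 175686) (.node (nat_lit 175444) (.leaf (nat_lit 315)) (.leaf (nat_lit 0))) (.node (nat_lit 175763) (.leaf (nat_lit 1395)) (.leaf (nat_lit 0))))) (.node (nat_lit 176692) (.node (nat_lit 176654) (.leaf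 (nat_lit 1212)) (.node (nat_lit 176679) (.leaf (nat_lit 33)) (.leaf (nat_lit 3)))) (.node (nat_lit 176737) (.node (nat_lit 176726) (.leaf (nat_lit 153)) (.leaf (nat_lit 1092))) (.node (nat_lit 176781) (.leaf (nat_lit 0)) (.leaf (nat_lit 156)))))))) (.node (nat_lit 180579) (.node (nat_lit 178837) (.node (nat_lit 177640) (.node (nat_lit 177330) (.node (nat_lit 177110) (.leaf (nat_lit 132)) (.node (nat_lit 177143) (.leaf (nat_lit 0)) (.leaf (nat_lit 1113)))) (.node (nat_lit 177413) (.leaf (nat_lit 0)) (.node (nat_lit 177436) (.leaf (nat_lit 1353)) (.leaf (nat_lit 195))))) (.node (nat_lit 177828) (.node (nat_lit 177677) (.leaf (nat_lit 153)) (.node (nat_lit 177740) (.leaf (nat_lit 0)) (.leaf (nat_lit 1212)))) (.node (nat_lit 178363) (.node (nat_lit 178109) (.leaf (nat_lit 0)) (.leaf (nat_lit 195))) (.node (nat_lit 178806) (.leaf (nat_lit 12)) (.leaf (nat_lit 195)))))) (.node (nat_lit 179592) (.node (nat_lit 179148) (.node (nat_lit 178873)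 (.leaf (nat_lit 0)) (.node (nat_lit 178972) (.leaf (nat_lit 1353)) (.leaf (nat_lit 0)))) (.node (nat_lit 179252) (.node (nat_lit 179168) (.leaf (nat_lit 6)) (.leaf (nat_lit 0))) (.node (nat_lit 179318) (.leaf (nat_lit 1083)) (.leaf (nat_lit 0))))) (.node (nat_lit 180195) (.node (nat_lit 179642) (.leaf (nat_lit 12)) (.node (nat_lit 179725) (.leaf (nat_lit 195)) (.leaf (nat_lit 0)))) (.node (nat_lit 180391) (.node (nat_lit 180364) (.leaf (nat_lit 252)) (.leaf (nat_lit 273))) (.node (nat_lit 180440) (.leaf (nat_lit 0)) (.leaf (nat_lit 1080))))))) (.node (nat_lit 182981) (.node (nat_lit 182162) (.node (nat_lit 181788) (.node (nat_lit 180589) (.leaf (nat_lit 195)) (.node (nat_lit 181685) (.leaf (nat_lit 0)) (.leaf (nat_lit 273)))) (.node (nat_lit 181882) (.leaf (nat_lit 195)) (.node (nat_lit 181911) (.leaf (nat_lit 0)) (.leaf (nat_lit 315))))) (.node (nat_lit 182524) (.node (nat_lit 182183) (.leaf (nat_lit 0)) (.node (nat_lit 182451) (.leaf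 (nat_lit 252)) (.leaf (nat_lit 0)))) (.node (nat_lit 182773) (.node (nat_lit 182651) (.leaf (nat_lit 15)) (.leaf (nat_lit 1353))) (.node (nat_lit 182824) (.leaf (nat_lit 1230)) (.leaf (nat_lit 0)))))) (.node (nat_lit 184472) (.node (nat_lit 183982) (.node (nat_lit 183026) (.leaf (nat_lit 1083)) (.node (nat_lit 183294) (.leaf (nat_lit 1080)) (.leaf (nat_lit 0)))) (.node (nat_lit 184438) (.node (nat_lit 184372) (.leaf (nat_lit 1083)) (.leaf (nat_lit 1332))) (.node (nat_lit 184444) (.leaf (nat_lit 1215)) (.leaf (nat_lit 1113))))) (.node (nat_lit 184798) (.node (nat_lit 184517) (.leaf (nat_lit 1083)) (.node (nat_lit 184744) (.leaf (nat_lit 1080)) (.leaf (nat_lit 45)))) (.node (nat_lit 184819) (.node (nat_lit 184818) (.leaf (nat_lit 75)) (.leaf (nat_lit 195))) (.node (nat_lit 184972) (.leaf (nat_lit 1080)) (.leaf (nat_lit 0)))))))))) (.node (nat_lit 204145) (.node (nat_lit 193568) (.node (nat_lit 189561) (.node (nat_lit 186987) (.node (nat_lit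 186084) (.node (nat_lit 185702) (.node (nat_lit 185210) (.leaf (nat_lit 72)) (.node (nat_lit 185470) (.leaf (nat_lit 1275)) (.leaf (nat_lit 0)))) (.node (nat_lit 185708) (.leaf (nat_lit 195)) (.node (nat_lit 185919) (.leaf (nat_lit 1275)) (.leaf (nat_lit 0))))) (.node (nat_lit 186400) (.node (nat_lit 186094) (.leaf (nat_lit 252)) (.node (nat_lit 186254) (.leaf (nat_lit 1395)) (.leaf (nat_lit 1275)))) (.node (nat_lit 186854) (.node (nat_lit 186441) (.leaf (nat_lit 0)) (.leaf (nat_lit 1230))) (.node (nat_lit 186975) (.leaf (nat_lit 12)) (.leaf (nat_lit 1113)))))) (.node (nat_lit 188263) (.node (nat_lit 187360) (.node (nat_lit 187033) (.leaf (nat_lit 315)) (.node (nat_lit 187042) (.leaf (nat_lit 132)) (.leaf (nat_lit 33)))) (.node (nat_lit 187952) (.leaf (nat_lit 1353)) (.node (nat_lit 188142) (.leaf (nat_lit 1083)) (.leaf (nat_lit 0))))) (.node (nat_lit 188907) (.node (nat_lit 188298) (.leaf (nat_lit 30)) (.node (nat_lit 188524) (.leaf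 (nat_lit 1080)) (.leaf (nat_lit 132)))) (.node (nat_lit 189280) (.node (nat_lit 189030) (.leaf (nat_lit 0)) (.leaf (nat_lit 33))) (.node (nat_lit 189524) (.leaf (nat_lit 0)) (.leaf (nat_lit 195))))))) (.node (nat_lit 191686) (.node (nat_lit 190526) (.node (nat_lit 190279) (.node (nat_lit 189886) (.leaf (nat_lit 33)) (.node (nat_lit 189940) (.leaf (nat_lit 0)) (.leaf (nat_lit 1083)))) (.node (nat_lit 190376) (.leaf (nat_lit 132)) (.node (nat_lit 190466) (.leaf (nat_lit 0)) (.leaf (nat_lit 315))))) (.node (nat_lit 190799) (.node (nat_lit 190536) (.leaf (nat_lit 1275)) (.node (nat_lit 190794) (.leaf (nat_lit 0)) (.leaf (nat_lit 1080)))) (.node (nat_lit 191275) (.node (nat_lit 190847) (.leaf (nat_lit 0)) (.leaf (nat_lit 1275))) (.node (nat_lit 191566) (.leaf (nat_lit 0)) (.leaf (nat_lit 1152)))))) (.node (nat_lit 192928) (.node (nat_lit 192618) (.node (nat_lit 192178) (.leaf (nat_lit 0)) (.node (nat_lit 192506) (.leaf (nat_lit 75)) (.leaf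 (nat_lit 195)))) (.node (nat_lit 192724) (.node (nat_lit 192697) (.leaf (nat_lit 1395)) (.leaf (nat_lit 0))) (.node (nat_lit 192895) (.leaf (nat_lit 12)) (.leaf (nat_lit 1113))))) (.node (nat_lit 192998) (.node (nat_lit 192931) (.leaf (nat_lit 3)) (.node (nat_lit 192955) (.leaf (nat_lit 33)) (.leaf (nat_lit 315)))) (.node (nat_lit 193462) (.node (nat_lit 193268) (.leaf (nat_lit 1233)) (.leaf (nat_lit 1083))) (.node (nat_lit 193495) (.leaf (nat_lit 0)) (.leaf (nat_lit 342)))))))) (.node (nat_lit 198040) (.node (nat_lit 196047) (.node (nat_lit 194531) (.node (nat_lit 194263) (.node (nat_lit 193862) (.leaf (nat_lit 12)) (.node (nat_lit 193893) (.leaf (nat_lit 75)) (.leaf (nat_lit 273)))) (.node (nat_lit 194333) (.leaf (nat_lit 0)) (.node (nat_lit 194419) (.leaf (nat_lit 1092)) (.leaf (nat_lit 3))))) (.node (nat_lit 195341) (.node (nat_lit 194706) (.leaf (nat_lit 33)) (.node (nat_lit 194953) (.leaf (nat_lit 195)) (.leaf (nat_lit 0))))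 (.node (nat_lit 195734) (.node (nat_lit 195590) (.leaf (nat_lit 1332)) (.leaf (nat_lit 15))) (.node (nat_lit 195866) (.leaf (nat_lit 45)) (.leaf (nat_lit 0)))))) (.node (nat_lit 196700) (.node (nat_lit 196316) (.node (nat_lit 196107) (.leaf (nat_lit 1212)) (.node (nat_lit 196242) (.leaf (nat_lit 0)) (.leaf (nat_lit 153)))) (.node (nat_lit 196549) (.leaf (nat_lit 1233)) (.node (nat_lit 196685) (.leaf (nat_lit 12)) (.leaf (nat_lit 33))))) (.node (nat_lit 197001) (.node (nat_lit 196747) (.leaf (nat_lit 0)) (.node (nat_lit 196875) (.leaf (nat_lit 1083)) (.leaf (nat_lit 0)))) (.node (nat_lit 197258) (.node (nat_lit 197024) (.leaf (nat_lit 192)) (.leaf (nat_lit 1083))) (.node (nat_lit 197553) (.leaf (nat_lit 195)) (.leaf (nat_lit 3))))))) (.node (nat_lit 201335) (.node (nat_lit 199749) (.node (nat_lit 198300) (.node (nat_lit 198142) (.leaf (nat_lit 12)) (.node (nat_lit 198184) (.leaf (nat_lit 1245)) (.leaf (nat_lit 315)))) (.node (nat_lit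 199623) (.leaf (nat_lit 0)) (.node (nat_lit 199719) (.leaf (nat_lit 1212)) (.leaf (nat_lit 0))))) (.node (nat_lit 200849) (.node (nat_lit 199791) (.leaf (nat_lit 1092)) (.node (nat_lit 200728) (.leaf (nat_lit 0)) (.leaf (nat_lit 12)))) (.node (nat_lit 200966) (.node (nat_lit 200955) (.leaf (nat_lit 0)) (.leaf (nat_lit 1092))) (.node (nat_lit 201130) (.leaf (nat_lit 0)) (.leaf (nat_lit 1275)))))) (.node (nat_lit 202668) (.node (nat_lit 201671) (.node (nat_lit 201379) (.leaf (nat_lit 33)) (.node (nat_lit 201628) (.leaf (nat_lit 3)) (.leaf (nat_lit 1275)))) (.node (nat_lit 202282) (.node (nat_lit 201969) (.leaf (nat_lit 0)) (.leaf (nat_lit 1395))) (.node (nat_lit 202570) (.leaf (nat_lit 0)) (.leaf (nat_lit 1083))))) (.node (nat_lit 203400) (.node (nat_lit 202693) (.leaf (nat_lit 1212)) (.node (nat_lit 203265) (.leaf (nat_lit 0)) (.leaf (nat_lit 1113)))) (.node (nat_lit 203910) (.node (nat_lit 203409) (.leaf (nat_lit 75)) (.leaf (nat_lit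 0))) (.node (nat_lit 203975) (.leaf (nat_lit 15)) (.leaf (nat_lit 192))))))))) (.node (nat_lit 212133) (.node (nat_lit 208060) (.node (nat_lit 206044) (.node (nat_lit 204988) (.node (nat_lit 204515) (.node (nat_lit 204369) (.leaf (nat_lit 102)) (.node (nat_lit 204478) (.leaf (nat_lit 1155)) (.leaf (nat_lit 1113)))) (.node (nat_lit 204596) (.leaf (nat_lit 0)) (.node (nat_lit 204900) (.leaf (nat_lit 273)) (.leaf (nat_lit 0))))) (.node (nat_lit 205481) (.node (nat_lit 205301) (.leaf (nat_lit 1212)) (.node (nat_lit 205396) (.leaf (nat_lit 252)) (.leaf (nat_lit 0)))) (.node (nat_lit 205787) (.node (nat_lit 205738) (.leaf (nat_lit 33)) (.leaf (nat_lit 0))) (.node (nat_lit 206002) (.leaf (nat_lit 1080)) (.leaf (nat_lit 252)))))) (.node (nat_lit 207130) (.node (nat_lit 206552) (.node (nat_lit 206172) (.leaf (nat_lit 12)) (.node (nat_lit 206247) (.leaf (nat_lit 0)) (.leaf (nat_lit 1113)))) (.node (nat_lit 206694) (.leaf (nat_lit 0)) (.node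 (nat_lit 206850) (.leaf (nat_lit 3)) (.leaf (nat_lit 1395))))) (.node (nat_lit 207681) (.node (nat_lit 207535) (.leaf (nat_lit 0)) (.node (nat_lit 207632) (.leaf (nat_lit 12)) (.leaf (nat_lit 33)))) (.node (nat_lit 207914) (.node (nat_lit 207684) (.leaf (nat_lit 273)) (.leaf (nat_lit 0))) (.node (nat_lit 208046) (.leaf (nat_lit 195)) (.leaf (nat_lit 273))))))) (.node (nat_lit 210416) (.node (nat_lit 209217) (.node (nat_lit 208172) (.node (nat_lit 208089) (.leaf (nat_lit 3)) (.node (nat_lit 208096) (.leaf (nat_lit 315)) (.leaf (nat_lit 1332)))) (.node (nat_lit 208373) (.leaf (nat_lit 0)) (.node (nat_lit 209048) (.leaf (nat_lit 1080)) (.leaf (nat_lit 1182))))) (.node (nat_lit 209937) (.node (nat_lit 209262) (.leaf (nat_lit 0)) (.node (nat_lit 209313) (.leaf (nat_lit 315)) (.leaf (nat_lit 0)))) (.node (nat_lit 210112) (.node (nat_lit 210025) (.leaf (nat_lit 33)) (.leaf (nat_lit 0))) (.node (nat_lit 210256) (.leaf (nat_lit 195)) (.leaf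 (nat_lit 0)))))) (.node (nat_lit 211555) (.node (nat_lit 210720) (.node (nat_lit 210451) (.leaf (nat_lit 12)) (.node (nat_lit 210620) (.leaf (nat_lit 33)) (.leaf (nat_lit 3)))) (.node (nat_lit 211154) (.node (nat_lit 210780) (.leaf (nat_lit 0)) (.leaf (nat_lit 75))) (.node (nat_lit 211533) (.leaf (nat_lit 0)) (.leaf (nat_lit 33))))) (.node (nat_lit 211852) (.node (nat_lit 211629) (.leaf (nat_lit 0)) (.node (nat_lit 211747) (.leaf (nat_lit 273)) (.leaf (nat_lit 0)))) (.node (nat_lit 211995) (.node (nat_lit 211922) (.leaf (nat_lit 1080)) (.leaf (nat_lit 0))) (.node (nat_lit 212111) (.leaf (nat_lit 1080)) (.leaf (nat_lit 3)))))))) (.node (nat_lit 217124) (.node (nat_lit 214670) (.node (nat_lit 212998) (.node (nat_lit 212301) (.node (nat_lit 212154) (.leaf (nat_lit 0)) (.node (nat_lit 212259) (.leaf (nat_lit 1080)) (.leaf (nat_lit 165)))) (.node (nat_lit 212714) (.leaf (nat_lit 0)) (.node (nat_lit 212783) (.leaf (nat_lit 1275)) (.leaf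 (nat_lit 1080))))) (.node (nat_lit 213884) (.node (nat_lit 213610) (.leaf (nat_lit 0)) (.node (nat_lit 213645) (.leaf (nat_lit 33)) (.leaf (nat_lit 1080)))) (.node (nat_lit 214155) (.node (nat_lit 213969) (.leaf (nat_lit 0)) (.leaf (nat_lit 1230))) (.node (nat_lit 214310) (.leaf (nat_lit 1092)) (.leaf (nat_lit 1113)))))) (.node (nat_lit 215612) (.node (nat_lit 214908) (.node (nat_lit 214675) (.leaf (nat_lit 0)) (.node (nat_lit 214699) (.leaf (nat_lit 102)) (.leaf (nat_lit 1245)))) (.node (nat_lit 215386) (.node (nat_lit 215248) (.leaf (nat_lit 33)) (.leaf (nat_lit 75))) (.node (nat_lit 215566) (.leaf (nat_lit 12)) (.leaf (nat_lit 1155))))) (.node (nat_lit 216129) (.node (nat_lit 215860) (.leaf (nat_lit 0)) (.node (nat_lit 215863) (.leaf (nat_lit 3)) (.leaf (nat_lit 0)))) (.node (nat_lit 216414) (.node (nat_lit 216160) (.leaf (nat_lit 1155)) (.leaf (nat_lit 0))) (.node (nat_lit 216525) (.leaf (nat_lit 315)) (.leaf (nat_lit 0)))))))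 (.node (nat_lit 219010) (.node (nat_lit 217808) (.node (nat_lit 217599) (.node (nat_lit 217137) (.leaf (nat_lit 1083)) (.node (nat_lit 217181) (.leaf (nat_lit 1092)) (.leaf (nat_lit 0)))) (.node (nat_lit 217710) (.leaf (nat_lit 315)) (.node (nat_lit 217760) (.leaf (nat_lit 273)) (.leaf (nat_lit 0))))) (.node (nat_lit 218472) (.node (nat_lit 218137) (.leaf (nat_lit 102)) (.node (nat_lit 218173) (.leaf (nat_lit 192)) (.leaf (nat_lit 1113)))) (.node (nat_lit 218630) (.node (nat_lit 218558) (.leaf (nat_lit 0)) (.leaf (nat_lit 1182))) (.node (nat_lit 218915) (.leaf (nat_lit 1080)) (.leaf (nat_lit 1275)))))) (.node (nat_lit 219997) (.node (nat_lit 219446) (.node (nat_lit 219113) (.leaf (nat_lit 3)) (.node (nat_lit 219353) (.leaf (nat_lit 45)) (.leaf (nat_lit 1275)))) (.node (nat_lit 219590) (.node (nat_lit 219465) (.leaf (nat_lit 1092)) (.leaf (nat_lit 0))) (.node (nat_lit 219929) (.leaf (nat_lit 15)) (.leaf (nat_lit 0))))) (.node (nat_lit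 220492) (.node (nat_lit 220075) (.leaf (nat_lit 33)) (.node (nat_lit 220245) (.leaf (nat_lit 0)) (.leaf (nat_lit 30)))) (.node (nat_lit 221213) (.node (nat_lit 221131) (.leaf (nat_lit 192)) (.leaf (nat_lit 0))) (.node (nat_lit 221225) (.leaf (nat_lit 1353)) (.leaf (nat_lit 0))))))))))) (.node (nat_lit 258195) (.node (nat_lit 240926) (.node (nat_lit 231770) (.node (nat_lit 225857) (.node (nat_lit 223143) (.node (nat_lit 222026) (.node (nat_lit 221843) (.node (nat_lit 221384) (.leaf (nat_lit 33)) (.node (nat_lit 221548) (.leaf (nat_lit 315)) (.leaf (nat_lit 75)))) (.node (nat_lit 221896) (.leaf (nat_lit 0)) (.node (nat_lit 221902) (.leaf (nat_lit 12)) (.leaf (nat_lit 1080))))) (.node (nat_lit 222746) (.node (nat_lit 222716) (.leaf (nat_lit 1083)) (.node (nat_lit 222725) (.leaf (nat_lit 0)) (.leaf (nat_lit 1395)))) (.node (nat_lit 223038) (.node (nat_lit 222984) (.leaf (nat_lit 0)) (.leaf (nat_lit 1275))) (.node (nat_lit 223089) (.leaf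 (nat_lit 1212)) (.leaf (nat_lit 0)))))) (.node (nat_lit 225154) (.node (nat_lit 223641) (.node (nat_lit 223159) (.leaf (nat_lit 1113)) (.node (nat_lit 223538) (.leaf (nat_lit 1092)) (.leaf (nat_lit 0)))) (.node (nat_lit 224933) (.leaf (nat_lit 1113)) (.node (nat_lit 225009) (.leaf (nat_lit 0)) (.leaf (nat_lit 342))))) (.node (nat_lit 225375) (.node (nat_lit 225181) (.leaf (nat_lit 0)) (.node (nat_lit 225276) (.leaf (nat_lit 1080)) (.leaf (nat_lit 0)))) (.node (nat_lit 225483) (.node (nat_lit 225471) (.leaf (nat_lit 12)) (.leaf (nat_lit 3))) (.node (nat_lit 225705) (.leaf (nat_lit 0)) (.leaf (nat_lit 12))))))) (.node (nat_lit 228142) (.node (nat_lit 227060) (.node (nat_lit 226280) (.node (nat_lit 225907) (.leaf (nat_lit 33)) (.node (nat_lit 226141) (.leaf (nat_lit 0)) (.leaf (nat_lit 1092)))) (.node (nat_lit 226871) (.leaf (nat_lit 0)) (.node (nat_lit 226872) (.leaf (nat_lit 1212)) (.leaf (nat_lit 1080))))) (.node (nat_lit 227715) (.node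 (nat_lit 227279) (.leaf (nat_lit 1353)) (.node (nat_lit 227494) (.leaf (nat_lit 195)) (.leaf (nat_lit 1083)))) (.node (nat_lit 227911) (.node (nat_lit 227804) (.leaf (nat_lit 150)) (.leaf (nat_lit 195))) (.node (nat_lit 228023) (.leaf (nat_lit 12)) (.leaf (nat_lit 132)))))) (.node (nat_lit 229670) (.node (nat_lit 228459) (.node (nat_lit 228291) (.leaf (nat_lit 0)) (.node (nat_lit 228301) (.leaf (nat_lit 195)) (.leaf (nat_lit 0)))) (.node (nat_lit 229100) (.node (nat_lit 228895) (.leaf (nat_lit 1113)) (.leaf (nat_lit 0))) (.node (nat_lit 229561) (.leaf (nat_lit 15)) (.leaf (nat_lit 0))))) (.node (nat_lit 230828) (.node (nat_lit 229759) (.leaf (nat_lit 1080)) (.node (nat_lit 230786) (.leaf (nat_lit 0)) (.leaf (nat_lit 195)))) (.node (nat_lit 231517) (.node (nat_lit 231052) (.leaf (nat_lit 33)) (.leaf (nat_lit 0))) (.node (nat_lit 231621) (.leaf (nat_lit 1182)) (.leaf (nat_lit 0)))))))) (.node (nat_lit 236775) (.node (nat_lit 233918)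 (.node (nat_lit 232401) (.node (nat_lit 232196) (.node (nat_lit 231994) (.leaf (nat_lit 195)) (.node (nat_lit 232070) (.leaf (nat_lit 0)) (.leaf (nat_lit 45)))) (.node (nat_lit 232239) (.leaf (nat_lit 0)) (.node (nat_lit 232318) (.leaf (nat_lit 1083)) (.leaf (nat_lit 33))))) (.node (nat_lit 233021) (.node (nat_lit 232882) (.leaf (nat_lit 0)) (.node (nat_lit 232906) (.leaf (nat_lit 12)) (.leaf (nat_lit 72)))) (.node (nat_lit 233341) (.node (nat_lit 233057) (.leaf (nat_lit 75)) (.leaf (nat_lit 165))) (.node (nat_lit 233860) (.leaf (nat_lit 0)) (.leaf (nat_lit 6)))))) (.node (nat_lit 235264) (.node (nat_lit 234383) (.node (nat_lit 234016) (.leaf (nat_lit 3)) (.node (nat_lit 234258) (.leaf (nat_lit 0)) (.leaf (nat_lit 1395)))) (.node (nat_lit 235120) (.leaf (nat_lit 0)) (.node (nat_lit 235251) (.leaf (nat_lit 1212)) (.leaf (nat_lit 3))))) (.node (nat_lit 235865) (.node (nat_lit 235351) (.leaf (nat_lit 153)) (.node (nat_lit 235353) (.leaf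 (nat_lit 3)) (.leaf (nat_lit 156)))) (.node (nat_lit 236312) (.node (nat_lit 236022) (.leaf (nat_lit 153)) (.leaf (nat_lit 1092))) (.node (nat_lit 236537) (.leaf (nat_lit 1212)) (.leaf (nat_lit 0))))))) (.node (nat_lit 239663) (.node (nat_lit 238185) (.node (nat_lit 237378) (.node (nat_lit 236890) (.leaf (nat_lit 33)) (.node (nat_lit 237289) (.leaf (nat_lit 192)) (.leaf (nat_lit 33)))) (.node (nat_lit 237658) (.leaf (nat_lit 195)) (.node (nat_lit 237720) (.leaf (nat_lit 273)) (.leaf (nat_lit 6))))) (.node (nat_lit 238767) (.node (nat_lit 238493) (.leaf (nat_lit 192)) (.node (nat_lit 238694) (.leaf (nat_lit 0)) (.leaf (nat_lit 195)))) (.node (nat_lit 238987) (.node (nat_lit 238904) (.leaf (nat_lit 252)) (.leaf (nat_lit 1275))) (.node (nat_lit 239301) (.leaf (nat_lit 0)) (.leaf (nat_lit 72)))))) (.node (nat_lit 240445) (.node (nat_lit 239969) (.node (nat_lit 239706) (.leaf (nat_lit 1353)) (.node (nat_lit 239729) (.leaf (nat_lit 0)) (.leaf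 (nat_lit 1275)))) (.node (nat_lit 240257) (.node (nat_lit 240242) (.leaf (nat_lit 0)) (.leaf (nat_lit 315))) (.node (nat_lit 240360) (.leaf (nat_lit 273)) (.leaf (nat_lit 195))))) (.node (nat_lit 240595) (.node (nat_lit 240483) (.leaf (nat_lit 0)) (.node (nat_lit 240547) (.leaf (nat_lit 315)) (.leaf (nat_lit 0)))) (.node (nat_lit 240755) (.node (nat_lit 240754) (.leaf (nat_lit 273)) (.leaf (nat_lit 0))) (.node (nat_lit 240835) (.leaf (nat_lit 252)) (.leaf (nat_lit 153))))))))) (.node (nat_lit 248512) (.node (nat_lit 244459) (.node (nat_lit 241745) (.node (nat_lit 241444) (.node (nat_lit 241345) (.node (nat_lit 240993) (.leaf (nat_lit 0)) (.node (nat_lit 241223) (.leaf (nat_lit 1092)) (.leaf (nat_lit 1353)))) (.node (nat_lit 241348) (.leaf (nat_lit 1230)) (.node (nat_lit 241366) (.leaf (nat_lit 0)) (.leaf (nat_lit 195))))) (.node (nat_lit 241599) (.node (nat_lit 241541) (.leaf (nat_lit 0)) (.node (nat_lit 241547) (.leaf (nat_lit 1275))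 (.leaf (nat_lit 1092)))) (.node (nat_lit 241676) (.node (nat_lit 241651) (.leaf (nat_lit 15)) (.leaf (nat_lit 1353))) (.node (nat_lit 241728) (.leaf (nat_lit 195)) (.leaf (nat_lit 0)))))) (.node (nat_lit 243353) (.node (nat_lit 241926) (.node (nat_lit 241866) (.leaf (nat_lit 33)) (.node (nat_lit 241920) (.leaf (nat_lit 0)) (.leaf (nat_lit 195)))) (.node (nat_lit 242583) (.leaf (nat_lit 0)) (.node (nat_lit 242828) (.leaf (nat_lit 273)) (.leaf (nat_lit 0))))) (.node (nat_lit 243391) (.node (nat_lit 243354) (.leaf (nat_lit 1395)) (.node (nat_lit 243370) (.leaf (nat_lit 195)) (.leaf (nat_lit 75)))) (.node (nat_lit 243700) (.node (nat_lit 243486) (.leaf (nat_lit 0)) (.leaf (nat_lit 252))) (.node (nat_lit 244433) (.leaf (nat_lit 72)) (.leaf (nat_lit 0))))))) (.node (nat_lit 246590) (.node (nat_lit 245550) (.node (nat_lit 245231) (.node (nat_lit 244666) (.leaf (nat_lit 1083)) (.node (nat_lit 244937) (.leaf (nat_lit 1395)) (.leaf (nat_lit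 0)))) (.node (nat_lit 245297) (.leaf (nat_lit 1113)) (.node (nat_lit 245510) (.leaf (nat_lit 0)) (.leaf (nat_lit 1353))))) (.node (nat_lit 245768) (.node (nat_lit 245614) (.leaf (nat_lit 0)) (.node (nat_lit 245649) (.leaf (nat_lit 33)) (.leaf (nat_lit 1080)))) (.node (nat_lit 246309) (.node (nat_lit 245887) (.leaf (nat_lit 6)) (.leaf (nat_lit 132))) (.node (nat_lit 246428) (.leaf (nat_lit 1092)) (.leaf (nat_lit 6)))))) (.node (nat_lit 247375) (.node (nat_lit 246834) (.node (nat_lit 246631) (.leaf (nat_lit 0)) (.node (nat_lit 246797) (.leaf (nat_lit 1083)) (.leaf (nat_lit 12)))) (.node (nat_lit 246870) (.node (nat_lit 246835) (.leaf (nat_lit 195)) (.leaf (nat_lit 30))) (.node (nat_lit 247008) (.leaf (nat_lit 0)) (.leaf (nat_lit 132))))) (.node (nat_lit 247447) (.node (nat_lit 247388) (.leaf (nat_lit 1332)) (.node (nat_lit 247393) (.leaf (nat_lit 195)) (.leaf (nat_lit 6)))) (.node (nat_lit 247836) (.node (nat_lit 247602) (.leaf (nat_lit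 3)) (.leaf (nat_lit 33))) (.node (nat_lit 248325) (.leaf (nat_lit 3)) (.leaf (nat_lit 195)))))))) (.node (nat_lit 254103) (.node (nat_lit 250505) (.node (nat_lit 249788) (.node (nat_lit 248938) (.node (nat_lit 248559) (.leaf (nat_lit 0)) (.node (nat_lit 248851) (.leaf (nat_lit 1113)) (.leaf (nat_lit 132)))) (.node (nat_lit 249363) (.leaf (nat_lit 3)) (.node (nat_lit 249366) (.leaf (nat_lit 1332)) (.leaf (nat_lit 0))))) (.node (nat_lit 250019) (.node (nat_lit 249964) (.leaf (nat_lit 1092)) (.node (nat_lit 249993) (.leaf (nat_lit 0)) (.leaf (nat_lit 315)))) (.node (nat_lit 250343) (.node (nat_lit 250138) (.leaf (nat_lit 0)) (.leaf (nat_lit 1152))) (.node (nat_lit 250473) (.leaf (nat_lit 1092)) (.leaf (nat_lit 3)))))) (.node (nat_lit 252067) (.node (nat_lit 251527) (.node (nat_lit 250728) (.leaf (nat_lit 33)) (.node (nat_lit 250920) (.leaf (nat_lit 1080)) (.leaf (nat_lit 1083)))) (.node (nat_lit 251887) (.node (nat_lit 251624) (.leaf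 (nat_lit 315)) (.leaf (nat_lit 12))) (.node (nat_lit 251991) (.leaf (nat_lit 192)) (.leaf (nat_lit 0))))) (.node (nat_lit 252798) (.node (nat_lit 252365) (.leaf (nat_lit 342)) (.node (nat_lit 252695) (.leaf (nat_lit 0)) (.leaf (nat_lit 33)))) (.node (nat_lit 253525) (.node (nat_lit 253013) (.leaf (nat_lit 1245)) (.leaf (nat_lit 273))) (.node (nat_lit 254018) (.leaf (nat_lit 0)) (.leaf (nat_lit 33))))))) (.node (nat_lit 256043) (.node (nat_lit 254888) (.node (nat_lit 254447) (.node (nat_lit 254162) (.leaf (nat_lit 0)) (.node (nat_lit 254402) (.leaf (nat_lit 15)) (.leaf (nat_lit 1245)))) (.node (nat_lit 254467) (.leaf (nat_lit 33)) (.node (nat_lit 254669) (.leaf (nat_lit 153)) (.leaf (nat_lit 45))))) (.node (nat_lit 255522) (.node (nat_lit 254908) (.leaf (nat_lit 1233)) (.node (nat_lit 255313) (.leaf (nat_lit 0)) (.leaf (nat_lit 1092)))) (.node (nat_lit 255723) (.node (nat_lit 255699) (.leaf (nat_lit 165)) (.leaf (nat_lit 1080))) (.node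 (nat_lit 256006) (.leaf (nat_lit 1092)) (.leaf (nat_lit 33)))))) (.node (nat_lit 257543) (.node (nat_lit 256464) (.node (nat_lit 256085) (.leaf (nat_lit 1083)) (.node (nat_lit 256125) (.leaf (nat_lit 0)) (.leaf (nat_lit 3)))) (.node (nat_lit 256866) (.node (nat_lit 256738) (.leaf (nat_lit 0)) (.leaf (nat_lit 12))) (.node (nat_lit 257506) (.leaf (nat_lit 0)) (.leaf (nat_lit 1113))))) (.node (nat_lit 257886) (.node (nat_lit 257646) (.leaf (nat_lit 0)) (.node (nat_lit 257665) (.leaf (nat_lit 1275)) (.leaf (nat_lit 33)))) (.node (nat_lit 257989) (.node (nat_lit 257970) (.leaf (nat_lit 3)) (.leaf (nat_lit 0))) (.node (nat_lit 258064) (.leaf (nat_lit 45)) (.leaf (nat_lit 0)))))))))) (.node (nat_lit 277850) (.node (nat_lit 268165) (.node (nat_lit 261981) (.node (nat_lit 259911) (.node (nat_lit 259275) (.node (nat_lit 258869) (.node (nat_lit 258387) (.leaf (nat_lit 1212)) (.node (nat_lit 258685) (.leaf (nat_lit 0)) (.leaf (nat_lit 252))))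 (.node (nat_lit 259172) (.leaf (nat_lit 0)) (.node (nat_lit 259239) (.leaf (nat_lit 12)) (.leaf (nat_lit 132))))) (.node (nat_lit 259437) (.node (nat_lit 259281) (.leaf (nat_lit 1113)) (.node (nat_lit 259302) (.leaf (nat_lit 132)) (.leaf (nat_lit 1083)))) (.node (nat_lit 259730) (.node (nat_lit 259527) (.leaf (nat_lit 153)) (.leaf (nat_lit 1092))) (.node (nat_lit 259875) (.leaf (nat_lit 0)) (.leaf (nat_lit 342)))))) (.node (nat_lit 261514) (.node (nat_lit 260541) (.node (nat_lit 260143) (.leaf (nat_lit 0)) (.node (nat_lit 260205) (.leaf (nat_lit 1113)) (.leaf (nat_lit 0)))) (.node (nat_lit 260673) (.leaf (nat_lit 1395)) (.node (nat_lit 260725) (.leaf (nat_lit 252)) (.leaf (nat_lit 0))))) (.node (nat_lit 261748) (.node (nat_lit 261708) (.leaf (nat_lit 33)) (.node (nat_lit 261718) (.leaf (nat_lit 12)) (.leaf (nat_lit 0)))) (.node (nat_lit 261917) (.node (nat_lit 261821) (.leaf (nat_lit 45)) (.leaf (nat_lit 0))) (.node (nat_lit 261972)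 (.leaf (nat_lit 1275)) (.leaf (nat_lit 75))))))) (.node (nat_lit 265291) (.node (nat_lit 263472) (.node (nat_lit 262430) (.node (nat_lit 262130) (.leaf (nat_lit 0)) (.node (nat_lit 262215) (.leaf (nat_lit 315)) (.leaf (nat_lit 102)))) (.node (nat_lit 262546) (.leaf (nat_lit 0)) (.node (nat_lit 262915) (.leaf (nat_lit 1080)) (.leaf (nat_lit 1233))))) (.node (nat_lit 264216) (.node (nat_lit 263560) (.leaf (nat_lit 0)) (.node (nat_lit 263840) (.leaf (nat_lit 1212)) (.leaf (nat_lit 0)))) (.node (nat_lit 264574) (.node (nat_lit 264359) (.leaf (nat_lit 33)) (.leaf (nat_lit 0))) (.node (nat_lit 264782) (.leaf (nat_lit 252)) (.leaf (nat_lit 0)))))) (.node (nat_lit 266122) (.node (nat_lit 265507) (.node (nat_lit 265330) (.leaf (nat_lit 1212)) (.node (nat_lit 265422) (.leaf (nat_lit 0)) (.leaf (nat_lit 1395)))) (.node (nat_lit 265887) (.node (nat_lit 265695) (.leaf (nat_lit 153)) (.leaf (nat_lit 0))) (.node (nat_lit 265894) (.leaf (nat_lit 153))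 (.leaf (nat_lit 0))))) (.node (nat_lit 266831) (.node (nat_lit 266204) (.leaf (nat_lit 195)) (.node (nat_lit 266668) (.leaf (nat_lit 33)) (.leaf (nat_lit 1332)))) (.node (nat_lit 266930) (.node (nat_lit 266865) (.leaf (nat_lit 12)) (.leaf (nat_lit 102))) (.node (nat_lit 267375) (.leaf (nat_lit 0)) (.leaf (nat_lit 315)))))))) (.node (nat_lit 272729) (.node (nat_lit 270192) (.node (nat_lit 268988) (.node (nat_lit 268828) (.node (nat_lit 268322) (.leaf (nat_lit 75)) (.node (nat_lit 268489) (.leaf (nat_lit 12)) (.leaf (nat_lit 153)))) (.node (nat_lit 268949) (.leaf (nat_lit 0)) (.node (nat_lit 268972) (.leaf (nat_lit 102)) (.leaf (nat_lit 3))))) (.node (nat_lit 269882) (.node (nat_lit 269192) (.leaf (nat_lit 12)) (.node (nat_lit 269422) (.leaf (nat_lit 3)) (.leaf (nat_lit 33)))) (.node (nat_lit 270165) (.node (nat_lit 270072) (.leaf (nat_lit 273)) (.leaf (nat_lit 0))) (.node (nat_lit 270175) (.leaf (nat_lit 1092)) (.leaf (nat_lit 0))))))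 (.node (nat_lit 270745) (.node (nat_lit 270572) (.node (nat_lit 270201) (.leaf (nat_lit 195)) (.node (nat_lit 270301) (.leaf (nat_lit 273)) (.leaf (nat_lit 0)))) (.node (nat_lit 270683) (.node (nat_lit 270650) (.leaf (nat_lit 33)) (.leaf (nat_lit 0))) (.node (nat_lit 270726) (.leaf (nat_lit 3)) (.leaf (nat_lit 0))))) (.node (nat_lit 271697) (.node (nat_lit 270831) (.leaf (nat_lit 153)) (.node (nat_lit 271072) (.leaf (nat_lit 165)) (.leaf (nat_lit 0)))) (.node (nat_lit 272541) (.node (nat_lit 271886) (.leaf (nat_lit 72)) (.leaf (nat_lit 0))) (.node (nat_lit 272699) (.leaf (nat_lit 1230)) (.leaf (nat_lit 12))))))) (.node (nat_lit 274701) (.node (nat_lit 273735) (.node (nat_lit 273157) (.node (nat_lit 272741) (.leaf (nat_lit 33)) (.node (nat_lit 272795) (.leaf (nat_lit 0)) (.leaf (nat_lit 273)))) (.node (nat_lit 273271) (.leaf (nat_lit 0)) (.node (nat_lit 273734) (.leaf (nat_lit 1245)) (.leaf (nat_lit 0))))) (.node (nat_lit 274281) (.node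 (nat_lit 274039) (.leaf (nat_lit 12)) (.node (nat_lit 274182) (.leaf (nat_lit 132)) (.leaf (nat_lit 15)))) (.node (nat_lit 274329) (.node (nat_lit 274295) (.leaf (nat_lit 0)) (.leaf (nat_lit 1080))) (.node (nat_lit 274473) (.leaf (nat_lit 3)) (.leaf (nat_lit 0)))))) (.node (nat_lit 276171) (.node (nat_lit 275888) (.node (nat_lit 274708) (.leaf (nat_lit 1155)) (.node (nat_lit 274750) (.leaf (nat_lit 1083)) (.leaf (nat_lit 0)))) (.node (nat_lit 276069) (.node (nat_lit 276042) (.leaf (nat_lit 33)) (.leaf (nat_lit 0))) (.node (nat_lit 276075) (.leaf (nat_lit 12)) (.leaf (nat_lit 1080))))) (.node (nat_lit 277202) (.node (nat_lit 276709) (.leaf (nat_lit 315)) (.node (nat_lit 277130) (.leaf (nat_lit 192)) (.leaf (nat_lit 1182)))) (.node (nat_lit 277652) (.node (nat_lit 277566) (.leaf (nat_lit 0)) (.leaf (nat_lit 1080))) (.node (nat_lit 277685) (.leaf (nat_lit 192)) (.leaf (nat_lit 45))))))))) (.node (nat_lit 287388) (.node (nat_lit 283821)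 (.node (nat_lit 280664) (.node (nat_lit 279609) (.node (nat_lit 278037) (.node (nat_lit 277876) (.leaf (nat_lit 0)) (.node (nat_lit 278018) (.leaf (nat_lit 33)) (.leaf (nat_lit 1092)))) (.node (nat_lit 278258) (.leaf (nat_lit 0)) (.node (nat_lit 278603) (.leaf (nat_lit 1155)) (.leaf (nat_lit 0))))) (.node (nat_lit 279912) (.node (nat_lit 279644) (.leaf (nat_lit 315)) (.node (nat_lit 279748) (.leaf (nat_lit 3)) (.leaf (nat_lit 1080)))) (.node (nat_lit 280281) (.node (nat_lit 279998) (.leaf (nat_lit 165)) (.leaf (nat_lit 15))) (.node (nat_lit 280578) (.leaf (nat_lit 0)) (.leaf (nat_lit 252)))))) (.node (nat_lit 281916) (.node (nat_lit 281207) (.node (nat_lit 280848) (.leaf (nat_lit 3)) (.node (nat_lit 281116) (.leaf (nat_lit 0)) (.leaf (nat_lit 195)))) (.node (nat_lit 281297) (.leaf (nat_lit 0)) (.node (nat_lit 281342) (.leaf (nat_lit 1395)) (.leaf (nat_lit 0))))) (.node (nat_lit 283355) (.node (nat_lit 281950) (.leaf (nat_lit 1155))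 (.node (nat_lit 283293) (.leaf (nat_lit 0)) (.leaf (nat_lit 195)))) (.node (nat_lit 283553) (.node (nat_lit 283504) (.leaf (nat_lit 0)) (.leaf (nat_lit 1083))) (.node (nat_lit 283785) (.leaf (nat_lit 0)) (.leaf (nat_lit 1080))))))) (.node (nat_lit 286325) (.node (nat_lit 285443) (.node (nat_lit 283932) (.node (nat_lit 283848) (.leaf (nat_lit 252)) (.node (nat_lit 283922) (.leaf (nat_lit 0)) (.leaf (nat_lit 315)))) (.node (nat_lit 284664) (.leaf (nat_lit 0)) (.node (nat_lit 285083) (.leaf (nat_lit 1155)) (.leaf (nat_lit 0))))) (.node (nat_lit 285693) (.node (nat_lit 285562) (.leaf (nat_lit 1212)) (.node (nat_lit 285663) (.leaf (nat_lit 0)) (.leaf (nat_lit 156)))) (.node (nat_lit 285851) (.node (nat_lit 285707) (.leaf (nat_lit 30)) (.leaf (nat_lit 0))) (.node (nat_lit 286287) (.leaf (nat_lit 195)) (.leaf (nat_lit 150)))))) (.node (nat_lit 286686) (.node (nat_lit 286376) (.node (nat_lit 286333) (.leaf (nat_lit 6)) (.node (nat_lit 286360)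 (.leaf (nat_lit 1113)) (.leaf (nat_lit 1083)))) (.node (nat_lit 286595) (.node (nat_lit 286492) (.leaf (nat_lit 195)) (.leaf (nat_lit 33))) (.node (nat_lit 286602) (.leaf (nat_lit 132)) (.leaf (nat_lit 6))))) (.node (nat_lit 287079) (.node (nat_lit 286712) (.leaf (nat_lit 0)) (.node (nat_lit 286861) (.leaf (nat_lit 3)) (.leaf (nat_lit 0)))) (.node (nat_lit 287184) (.node (nat_lit 287099) (.leaf (nat_lit 72)) (.leaf (nat_lit 1275))) (.node (nat_lit 287343) (.leaf (nat_lit 342)) (.leaf (nat_lit 0)))))))) (.node (nat_lit 292432) (.node (nat_lit 289924) (.node (nat_lit 288474) (.node (nat_lit 287803) (.node (nat_lit 287672) (.leaf (nat_lit 195)) (.node (nat_lit 287790) (.leaf (nat_lit 15)) (.leaf (nat_lit 30)))) (.node (nat_lit 288094) (.leaf (nat_lit 0)) (.node (nat_lit 288157) (.leaf (nat_lit 1080)) (.leaf (nat_lit 0))))) (.node (nat_lit 289349) (.node (nat_lit 288819) (.leaf (nat_lit 1083)) (.node (nat_lit 289315) (.leaf (nat_lit 0))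 (.leaf (nat_lit 1113)))) (.node (nat_lit 289750) (.node (nat_lit 289358) (.leaf (nat_lit 3)) (.leaf (nat_lit 195))) (.node (nat_lit 289833) (.leaf (nat_lit 0)) (.leaf (nat_lit 102)))))) (.node (nat_lit 290898) (.node (nat_lit 290340) (.node (nat_lit 290089) (.leaf (nat_lit 0)) (.node (nat_lit 290246) (.leaf (nat_lit 1182)) (.leaf (nat_lit 1080)))) (.node (nat_lit 290663) (.node (nat_lit 290578) (.leaf (nat_lit 0)) (.leaf (nat_lit 1275))) (.node (nat_lit 290749) (.leaf (nat_lit 0)) (.leaf (nat_lit 1245))))) (.node (nat_lit 292021) (.node (nat_lit 291478) (.leaf (nat_lit 0)) (.node (nat_lit 291685) (.leaf (nat_lit 72)) (.leaf (nat_lit 1230)))) (.node (nat_lit 292184) (.node (nat_lit 292178) (.leaf (nat_lit 273)) (.leaf (nat_lit 12))) (.node (nat_lit 292400) (.leaf (nat_lit 0)) (.leaf (nat_lit 3))))))) (.node (nat_lit 294611) (.node (nat_lit 293912) (.node (nat_lit 293536) (.node (nat_lit 292656) (.leaf (nat_lit 6)) (.node (nat_lit 293328)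 (.leaf (nat_lit 252)) (.leaf (nat_lit 0)))) (.node (nat_lit 293708) (.leaf (nat_lit 3)) (.node (nat_lit 293737) (.leaf (nat_lit 0)) (.leaf (nat_lit 15))))) (.node (nat_lit 294148) (.node (nat_lit 293923) (.leaf (nat_lit 0)) (.node (nat_lit 294018) (.leaf (nat_lit 3)) (.leaf (nat_lit 0)))) (.node (nat_lit 294404) (.node (nat_lit 294334) (.leaf (nat_lit 195)) (.leaf (nat_lit 1353))) (.node (nat_lit 294437) (.leaf (nat_lit 0)) (.leaf (nat_lit 153)))))) (.node (nat_lit 296037) (.node (nat_lit 295266) (.node (nat_lit 294720) (.leaf (nat_lit 132)) (.node (nat_lit 295050) (.leaf (nat_lit 0)) (.leaf (nat_lit 3)))) (.node (nat_lit 295462) (.node (nat_lit 295405) (.leaf (nat_lit 273)) (.leaf (nat_lit 36))) (.node (nat_lit 295657) (.leaf (nat_lit 192)) (.leaf (nat_lit 12))))) (.node (nat_lit 296342) (.node (nat_lit 296169) (.leaf (nat_lit 195)) (.node (nat_lit 296230) (.leaf (nat_lit 252)) (.leaf (nat_lit 273)))) (.node (nat_lit 296439) (.node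 (nat_lit 296343) (.leaf (nat_lit 1353)) (.leaf (nat_lit 1080))) (.node (nat_lit 296541) (.leaf (nat_lit 195)) (.leaf (nat_lit 3)))))))))))))
noncomputable def NQ_soc_t1 : ST := (.node (nat_lit 109264) (.node (nat_lit 55189) (.node (nat_lit 23478) (.node (nat_lit 11594) (.node (nat_lit 4701) (.node (nat_lit 2517) (.node (nat_lit 1157) (.node (nat_lit 662) (.node (nat_lit 266) (.node (nat_lit 97) (.leaf (nat_lit 360)) (.node (nat_lit 225) (.leaf (nat_lit 60)) (.leaf (nat_lit 1080)))) (.node (nat_lit 292) (.leaf (nat_lit 360)) (.node (nat_lit 495) (.leaf (nat_lit 60)) (.leaf (nat_lit 1080))))) (.node (nat_lit 887) (.node (nat_lit 716) (.leaf (nat_lit 36)) (.node (nat_lit 795) (.leaf (nat_lit 360)) (.leaf (nat_lit 1080)))) (.node (nat_lit 1095) (.node (nat_lit 1072) (.leaf (nat_lit 270)) (.leaf (nat_lit 36))) (.node (nat_lit 1101) (.leaf (nat_lit 1080)) (.leaf (nat_lit 360)))))) (.node (nat_lit 2022) (.node (nat_lit 1500) (.node (nat_lit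 1256) (.leaf (nat_lit 150)) (.node (nat_lit 1445) (.leaf (nat_lit 360)) (.leaf (nat_lit 1200)))) (.node (nat_lit 1596) (.leaf (nat_lit 1080)) (.node (nat_lit 1655) (.leaf (nat_lit 360)) (.leaf (nat_lit 1200))))) (.node (nat_lit 2247) (.node (nat_lit 2054) (.leaf (nat_lit 360)) (.node (nat_lit 2180) (.leaf (nat_lit 120)) (.leaf (nat_lit 1200)))) (.node (nat_lit 2359) (.node (nat_lit 2324) (.leaf (nat_lit 360)) (.leaf (nat_lit 120))) (.node (nat_lit 2433) (.leaf (nat_lit 360)) (.leaf (nat_lit 120))))))) (.node (nat_lit 3583) (.node (nat_lit 3107) (.node (nat_lit 2833) (.node (nat_lit 2549) (.leaf (nat_lit 360)) (.node (nat_lit 2822) (.leaf (nat_lit 120)) (.leaf (nat_lit 1080)))) (.node (nat_lit 2858) (.leaf (nat_lit 360)) (.node (nat_lit 2954) (.leaf (nat_lit 1080)) (.leaf (nat_lit 360))))) (.node (nat_lit 3149) (.node (nat_lit 3118) (.leaf (nat_lit 0)) (.node (nat_lit 3128) (.leaf (nat_lit 360)) (.leaf (nat_lit 1080)))) (.node (nat_lit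 3364) (.node (nat_lit 3353) (.leaf (nat_lit 360)) (.leaf (nat_lit 1080))) (.node (nat_lit 3572) (.leaf (nat_lit 360)) (.leaf (nat_lit 0)))))) (.node (nat_lit 4147) (.node (nat_lit 3810) (.node (nat_lit 3585) (.leaf (nat_lit 360)) (.node (nat_lit 3647) (.leaf (nat_lit 1080)) (.leaf (nat_lit 360)))) (.node (nat_lit 3929) (.leaf (nat_lit 1080)) (.node (nat_lit 4080) (.leaf (nat_lit 360)) (.leaf (nat_lit 0))))) (.node (nat_lit 4432) (.node (nat_lit 4316) (.leaf (nat_lit 120)) (.node (nat_lit 4380) (.leaf (nat_lit 360)) (.leaf (nat_lit 1080)))) (.node (nat_lit 4616) (.node (nat_lit 4455) (.leaf (nat_lit 120)) (.leaf (nat_lit 1080))) (.node (nat_lit 4674) (.leaf (nat_lit 360)) (.leaf (nat_lit 1080)))))))) (.node (nat_lit 8736) (.node (nat_lit 6947) (.node (nat_lit 5510) (.node (nat_lit 4897) (.node (nat_lit 4815) (.leaf (nat_lit 360)) (.node (nat_lit 4881) (.leaf (nat_lit 1080)) (.leaf (nat_lit 360)))) (.node (nat_lit 4899) (.leaf (nat_lit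 120)) (.node (nat_lit 5321) (.leaf (nat_lit 1080)) (.leaf (nat_lit 360))))) (.node (nat_lit 5847) (.node (nat_lit 5610) (.leaf (nat_lit 1320)) (.node (nat_lit 5780) (.leaf (nat_lit 1080)) (.leaf (nat_lit 1320)))) (.node (nat_lit 6372) (.node (nat_lit 6005) (.leaf (nat_lit 360)) (.leaf (nat_lit 1320))) (.node (nat_lit 6932) (.leaf (nat_lit 360)) (.leaf (nat_lit 1080)))))) (.node (nat_lit 7532) (.node (nat_lit 7232) (.node (nat_lit 7153) (.leaf (nat_lit 192)) (.node (nat_lit 7157) (.leaf (nat_lit 360)) (.leaf (nat_lit 0)))) (.node (nat_lit 7427) (.leaf (nat_lit 360)) (.node (nat_lit 7472) (.leaf (nat_lit 1080)) (.leaf (nat_lit 31))))) (.node (nat_lit 7794) (.node (nat_lit 7682) (.leaf (nat_lit 360)) (.node (nat_lit 7693) (.leaf (nat_lit 150)) (.leaf (nat_lit 360)))) (.node (nat_lit 8289) (.node (nat_lit 8019) (.leaf (nat_lit 1110)) (.leaf (nat_lit 270))) (.node (nat_lit 8415) (.leaf (nat_lit 150)) (.leaf (nat_lit 1080))))))) (.node (nat_lit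 10553) (.node (nat_lit 9456) (.node (nat_lit 9186) (.node (nat_lit 8805) (.leaf (nat_lit 360)) (.node (nat_lit 9036) (.leaf (nat_lit 1080)) (.leaf (nat_lit 360)))) (.node (nat_lit 9270) (.leaf (nat_lit 150)) (.node (nat_lit 9295) (.leaf (nat_lit 1080)) (.leaf (nat_lit 270))))) (.node (nat_lit 9681) (.node (nat_lit 9565) (.leaf (nat_lit 246)) (.node (nat_lit 9675) (.leaf (nat_lit 1140)) (.leaf (nat_lit 1080)))) (.node (nat_lit 9790) (.node (nat_lit 9741) (.leaf (nat_lit 36)) (.leaf (nat_lit 360))) (.node (nat_lit 9957) (.leaf (nat_lit 60)) (.leaf (nat_lit 360)))))) (.node (nat_lit 11053) (.node (nat_lit 10753) (.node (nat_lit 10692) (.leaf (nat_lit 1080)) (.node (nat_lit 10717) (.leaf (nat_lit 360)) (.leaf (nat_lit 150)))) (.node (nat_lit 10804) (.node (nat_lit 10802) (.leaf (nat_lit 360)) (.leaf (nat_lit 150))) (.node (nat_lit 10942) (.leaf (nat_lit 360)) (.leaf (nat_lit 36))))) (.node (nat_lit 11369) (.node (nat_lit 11212) (.leaf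 (nat_lit 360)) (.node (nat_lit 11258) (.leaf (nat_lit 246)) (.leaf (nat_lit 1080)))) (.node (nat_lit 11509) (.node (nat_lit 11507) (.leaf (nat_lit 360)) (.leaf (nat_lit 150))) (.node (nat_lit 11558) (.leaf (nat_lit 360)) (.leaf (nat_lit 1080))))))))) (.node (nat_lit 18726) (.node (nat_lit 15608) (.node (nat_lit 13125) (.node (nat_lit 12521) (.node (nat_lit 11807) (.node (nat_lit 11619) (.leaf (nat_lit 360)) (.node (nat_lit 11758) (.leaf (nat_lit 1110)) (.leaf (nat_lit 360)))) (.node (nat_lit 12144) (.leaf (nat_lit 1214)) (.node (nat_lit 12354) (.leaf (nat_lit 6)) (.leaf (nat_lit 66))))) (.node (nat_lit 12636) (.node (nat_lit 12570) (.leaf (nat_lit 360)) (.node (nat_lit 12630) (.leaf (nat_lit 1117)) (.leaf (nat_lit 1080)))) (.node (nat_lit 13016) (.node (nat_lit 12855) (.leaf (nat_lit 360)) (.leaf (nat_lit 1080))) (.node (nat_lit 13041) (.leaf (nat_lit 360)) (.leaf (nat_lit 36)))))) (.node (nat_lit 14629) (.node (nat_lit 13791) (.node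 (nat_lit 13275) (.leaf (nat_lit 1080)) (.node (nat_lit 13581) (.leaf (nat_lit 30)) (.leaf (nat_lit 360)))) (.node (nat_lit 13896) (.leaf (nat_lit 270)) (.node (nat_lit 14618) (.leaf (nat_lit 360)) (.leaf (nat_lit 1080))))) (.node (nat_lit 15079) (.node (nat_lit 14779) (.leaf (nat_lit 360)) (.node (nat_lit 14839) (.leaf (nat_lit 120)) (.leaf (nat_lit 360)))) (.node (nat_lit 15158) (.node (nat_lit 15154) (.leaf (nat_lit 120)) (.leaf (nat_lit 360))) (.node (nat_lit 15364) (.leaf (nat_lit 0)) (.leaf (nat_lit 360))))))) (.node (nat_lit 17412) (.node (nat_lit 16531) (.node (nat_lit 15939) (.node (nat_lit 15729) (.leaf (nat_lit 1080)) (.node (nat_lit 15784) (.leaf (nat_lit 72)) (.leaf (nat_lit 120)))) (.node (nat_lit 16306) (.leaf (nat_lit 270)) (.node (nat_lit 16395) (.leaf (nat_lit 1080)) (.leaf (nat_lit 31))))) (.node (nat_lit 16990) (.node (nat_lit 16701) (.leaf (nat_lit 1080)) (.node (nat_lit 16801) (.leaf (nat_lit 360)) (.leaf (nat_lit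 1080)))) (.node (nat_lit 17142) (.node (nat_lit 17106) (.leaf (nat_lit 66)) (.leaf (nat_lit 120))) (.node (nat_lit 17391) (.leaf (nat_lit 72)) (.leaf (nat_lit 120)))))) (.node (nat_lit 17856) (.node (nat_lit 17496) (.node (nat_lit 17414) (.leaf (nat_lit 181)) (.node (nat_lit 17430) (.leaf (nat_lit 360)) (.leaf (nat_lit 30)))) (.node (nat_lit 17637) (.node (nat_lit 17610) (.leaf (nat_lit 360)) (.leaf (nat_lit 30))) (.node (nat_lit 17695) (.leaf (nat_lit 60)) (.leaf (nat_lit 270))))) (.node (nat_lit 18164) (.node (nat_lit 17879) (.leaf (nat_lit 120)) (.node (nat_lit 17995) (.leaf (nat_lit 360)) (.leaf (nat_lit 60)))) (.node (nat_lit 18501) (.node (nat_lit 18382) (.leaf (nat_lit 360)) (.leaf (nat_lit 246))) (.node (nat_lit 18664) (.leaf (nat_lit 360)) (.leaf (nat_lit 120)))))))) (.node (nat_lit 21055) (.node (nat_lit 19478) (.node (nat_lit 19162) (.node (nat_lit 18947) (.node (nat_lit 18728) (.leaf (nat_lit 360)) (.node (nat_lit 18739)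 (.leaf (nat_lit 1080)) (.leaf (nat_lit 360)))) (.node (nat_lit 18958) (.leaf (nat_lit 120)) (.node (nat_lit 19099) (.leaf (nat_lit 360)) (.leaf (nat_lit 120))))) (.node (nat_lit 19204) (.node (nat_lit 19183) (.leaf (nat_lit 30)) (.node (nat_lit 19193) (.leaf (nat_lit 360)) (.leaf (nat_lit 1080)))) (.node (nat_lit 19357) (.node (nat_lit 19247) (.leaf (nat_lit 360)) (.leaf (nat_lit 120))) (.node (nat_lit 19453) (.leaf (nat_lit 270)) (.leaf (nat_lit 360)))))) (.node (nat_lit 20064) (.node (nat_lit 19878) (.node (nat_lit 19489) (.leaf (nat_lit 1080)) (.node (nat_lit 19794) (.leaf (nat_lit 360)) (.leaf (nat_lit 192)))) (.node (nat_lit 19894) (.leaf (nat_lit 360)) (.node (nat_lit 19987) (.leaf (nat_lit 120)) (.leaf (nat_lit 360))))) (.node (nat_lit 20289) (.node (nat_lit 20131) (.leaf (nat_lit 150)) (.node (nat_lit 20148) (.leaf (nat_lit 1080)) (.leaf (nat_lit 360)))) (.node (nat_lit 20811) (.node (nat_lit 20656) (.leaf (nat_lit 1117)) (.leaf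 (nat_lit 1080))) (.node (nat_lit 20866) (.leaf (nat_lit 360)) (.leaf (nat_lit 1080))))))) (.node (nat_lit 22045) (.node (nat_lit 21441) (.node (nat_lit 21216) (.node (nat_lit 21154) (.leaf (nat_lit 270)) (.node (nat_lit 21210) (.leaf (nat_lit 1080)) (.leaf (nat_lit 0)))) (.node (nat_lit 21239) (.leaf (nat_lit 36)) (.node (nat_lit 21424) (.leaf (nat_lit 360)) (.leaf (nat_lit 1080))))) (.node (nat_lit 21649) (.node (nat_lit 21516) (.leaf (nat_lit 150)) (.node (nat_lit 21595) (.leaf (nat_lit 360)) (.leaf (nat_lit 140)))) (.node (nat_lit 21816) (.node (nat_lit 21711) (.leaf (nat_lit 1080)) (.leaf (nat_lit 270))) (.node (nat_lit 22020) (.leaf (nat_lit 360)) (.leaf (nat_lit 1110)))))) (.node (nat_lit 22804) (.node (nat_lit 22492) (.node (nat_lit 22086) (.leaf (nat_lit 30)) (.node (nat_lit 22245) (.leaf (nat_lit 360)) (.leaf (nat_lit 6)))) (.node (nat_lit 22551) (.node (nat_lit 22515) (.leaf (nat_lit 120)) (.leaf (nat_lit 60))) (.node (nat_lit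 22699) (.leaf (nat_lit 360)) (.leaf (nat_lit 120))))) (.node (nat_lit 23014) (.node (nat_lit 22942) (.leaf (nat_lit 360)) (.node (nat_lit 23007) (.leaf (nat_lit 120)) (.leaf (nat_lit 360)))) (.node (nat_lit 23089) (.node (nat_lit 23072) (.leaf (nat_lit 120)) (.leaf (nat_lit 1320))) (.node (nat_lit 23282) (.leaf (nat_lit 360)) (.leaf (nat_lit 1320)))))))))) (.node (nat_lit 41146) (.node (nat_lit 33454) (.node (nat_lit 27588) (.node (nat_lit 25276) (.node (nat_lit 23959) (.node (nat_lit 23767) (.node (nat_lit 23482) (.leaf (nat_lit 360)) (.node (nat_lit 23554) (.leaf (nat_lit 120)) (.leaf (nat_lit 360)))) (.node (nat_lit 23787) (.leaf (nat_lit 1080)) (.node (nat_lit 23807) (.leaf (nat_lit 360)) (.leaf (nat_lit 1320))))) (.node (nat_lit 24241) (.node (nat_lit 23977) (.leaf (nat_lit 120)) (.node (nat_lit 23982) (.leaf (nat_lit 1080)) (.leaf (nat_lit 360)))) (.node (nat_lit 24976) (.node (nat_lit 24837) (.leaf (nat_lit 1080)) (.leaf (nat_lit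 181))) (.node (nat_lit 25165) (.leaf (nat_lit 1080)) (.leaf (nat_lit 157)))))) (.node (nat_lit 26557) (.node (nat_lit 25842) (.node (nat_lit 25542) (.leaf (nat_lit 360)) (.node (nat_lit 25630) (.leaf (nat_lit 30)) (.leaf (nat_lit 150)))) (.node (nat_lit 25915) (.leaf (nat_lit 270)) (.node (nat_lit 26151) (.leaf (nat_lit 30)) (.leaf (nat_lit 360))))) (.node (nat_lit 27139) (.node (nat_lit 26862) (.leaf (nat_lit 96)) (.node (nat_lit 27082) (.leaf (nat_lit 360)) (.leaf (nat_lit 150)))) (.node (nat_lit 27409) (.node (nat_lit 27292) (.leaf (nat_lit 360)) (.leaf (nat_lit 270))) (.node (nat_lit 27577) (.leaf (nat_lit 360)) (.leaf (nat_lit 1080))))))) (.node (nat_lit 29554) (.node (nat_lit 28695) (.node (nat_lit 28306) (.node (nat_lit 28117) (.leaf (nat_lit 360)) (.node (nat_lit 28122) (.leaf (nat_lit 1080)) (.leaf (nat_lit 360)))) (.node (nat_lit 28323) (.leaf (nat_lit 1080)) (.node (nat_lit 28567) (.leaf (nat_lit 360)) (.leaf (nat_lit 1080)))))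 (.node (nat_lit 28902) (.node (nat_lit 28801) (.leaf (nat_lit 1200)) (.node (nat_lit 28875) (.leaf (nat_lit 1080)) (.leaf (nat_lit 1200)))) (.node (nat_lit 29442) (.node (nat_lit 29071) (.leaf (nat_lit 66)) (.leaf (nat_lit 360))) (.node (nat_lit 29444) (.leaf (nat_lit 30)) (.leaf (nat_lit 360)))))) (.node (nat_lit 31897) (.node (nat_lit 29892) (.node (nat_lit 29626) (.leaf (nat_lit 1080)) (.node (nat_lit 29854) (.leaf (nat_lit 360)) (.leaf (nat_lit 1080)))) (.node (nat_lit 30261) (.node (nat_lit 29910) (.leaf (nat_lit 60)) (.leaf (nat_lit 1200))) (.node (nat_lit 31702) (.leaf (nat_lit 360)) (.leaf (nat_lit 1080))))) (.node (nat_lit 32730) (.node (nat_lit 31923) (.leaf (nat_lit 0)) (.node (nat_lit 32677) (.leaf (nat_lit 360)) (.leaf (nat_lit 1080)))) (.node (nat_lit 33012) (.node (nat_lit 32914) (.leaf (nat_lit 120)) (.leaf (nat_lit 1080))) (.node (nat_lit 33211) (.leaf (nat_lit 120)) (.leaf (nat_lit 360)))))))) (.node (nat_lit 37024)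 (.node (nat_lit 35803) (.node (nat_lit 33904) (.node (nat_lit 33525) (.node (nat_lit 33477) (.leaf (nat_lit 1080)) (.node (nat_lit 33494) (.leaf (nat_lit 120)) (.leaf (nat_lit 360)))) (.node (nat_lit 33735) (.leaf (nat_lit 1200)) (.node (nat_lit 33779) (.leaf (nat_lit 120)) (.leaf (nat_lit 360))))) (.node (nat_lit 34999) (.node (nat_lit 34046) (.leaf (nat_lit 1080)) (.node (nat_lit 34560) (.leaf (nat_lit 360)) (.leaf (nat_lit 1200)))) (.node (nat_lit 35494) (.node (nat_lit 35274) (.leaf (nat_lit 3)) (.leaf (nat_lit 360))) (.node (nat_lit 35523) (.leaf (nat_lit 6)) (.leaf (nat_lit 360)))))) (.node (nat_lit 36298) (.node (nat_lit 36052) (.node (nat_lit 35933) (.leaf (nat_lit 1080)) (.node (nat_lit 36028) (.leaf (nat_lit 360)) (.leaf (nat_lit 1080)))) (.node (nat_lit 36054) (.leaf (nat_lit 150)) (.node (nat_lit 36277) (.leaf (nat_lit 360)) (.leaf (nat_lit 60))))) (.node (nat_lit 36337) (.node (nat_lit 36303) (.leaf (nat_lit 1080)) (.node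 (nat_lit 36304) (.leaf (nat_lit 360)) (.leaf (nat_lit 270)))) (.node (nat_lit 36547) (.node (nat_lit 36529) (.leaf (nat_lit 360)) (.leaf (nat_lit 1140))) (.node (nat_lit 36799) (.leaf (nat_lit 1170)) (.leaf (nat_lit 60))))))) (.node (nat_lit 38786) (.node (nat_lit 37690) (.node (nat_lit 37465) (.node (nat_lit 37195) (.leaf (nat_lit 1080)) (.node (nat_lit 37291) (.leaf (nat_lit 120)) (.leaf (nat_lit 360)))) (.node (nat_lit 37489) (.leaf (nat_lit 0)) (.node (nat_lit 37635) (.leaf (nat_lit 1080)) (.leaf (nat_lit 1200))))) (.node (nat_lit 38071) (.node (nat_lit 37774) (.leaf (nat_lit 0)) (.node (nat_lit 38051) (.leaf (nat_lit 1080)) (.leaf (nat_lit 72)))) (.node (nat_lit 38266) (.node (nat_lit 38261) (.leaf (nat_lit 360)) (.leaf (nat_lit 187))) (.node (nat_lit 38325) (.leaf (nat_lit 360)) (.leaf (nat_lit 1200)))))) (.node (nat_lit 39847) (.node (nat_lit 39537) (.node (nat_lit 38880) (.leaf (nat_lit 60)) (.node (nat_lit 39087) (.leaf (nat_lit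 1200)) (.leaf (nat_lit 360)))) (.node (nat_lit 39822) (.node (nat_lit 39628) (.leaf (nat_lit 72)) (.leaf (nat_lit 1080))) (.node (nat_lit 39834) (.leaf (nat_lit 181)) (.leaf (nat_lit 360))))) (.node (nat_lit 40347) (.node (nat_lit 40287) (.leaf (nat_lit 1080)) (.node (nat_lit 40342) (.leaf (nat_lit 60)) (.leaf (nat_lit 1080)))) (.node (nat_lit 40374) (.node (nat_lit 40363) (.leaf (nat_lit 360)) (.leaf (nat_lit 1080))) (.node (nat_lit 41050) (.leaf (nat_lit 360)) (.leaf (nat_lit 120))))))))) (.node (nat_lit 49024) (.node (nat_lit 44692) (.node (nat_lit 42491) (.node (nat_lit 41861) (.node (nat_lit 41700) (.node (nat_lit 41515) (.leaf (nat_lit 360)) (.node (nat_lit 41645) (.leaf (nat_lit 0)) (.leaf (nat_lit 72)))) (.node (nat_lit 41711) (.leaf (nat_lit 1320)) (.node (nat_lit 41800) (.leaf (nat_lit 360)) (.leaf (nat_lit 0))))) (.node (nat_lit 42380) (.node (nat_lit 42091) (.leaf (nat_lit 187)) (.node (nat_lit 42170) (.leaf (nat_lit 360))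 (.leaf (nat_lit 270)))) (.node (nat_lit 42406) (.node (nat_lit 42401) (.leaf (nat_lit 277)) (.leaf (nat_lit 30))) (.node (nat_lit 42480) (.leaf (nat_lit 360)) (.leaf (nat_lit 1320)))))) (.node (nat_lit 43728) (.node (nat_lit 42851) (.node (nat_lit 42675) (.leaf (nat_lit 360)) (.node (nat_lit 42686) (.leaf (nat_lit 1320)) (.leaf (nat_lit 360)))) (.node (nat_lit 43133) (.leaf (nat_lit 150)) (.node (nat_lit 43717) (.leaf (nat_lit 360)) (.leaf (nat_lit 66))))) (.node (nat_lit 43948) (.node (nat_lit 43738) (.leaf (nat_lit 360)) (.node (nat_lit 43838) (.leaf (nat_lit 1080)) (.leaf (nat_lit 360)))) (.node (nat_lit 44473) (.node (nat_lit 43974) (.leaf (nat_lit 0)) (.leaf (nat_lit 360))) (.node (nat_lit 44497) (.leaf (nat_lit 1080)) (.leaf (nat_lit 60))))))) (.node (nat_lit 47803) (.node (nat_lit 45986) (.node (nat_lit 45436) (.node (nat_lit 44703) (.leaf (nat_lit 150)) (.node (nat_lit 45115) (.leaf (nat_lit 360)) (.leaf (nat_lit 0)))) (.node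 (nat_lit 45865) (.leaf (nat_lit 360)) (.node (nat_lit 45931) (.leaf (nat_lit 120)) (.leaf (nat_lit 360))))) (.node (nat_lit 46961) (.node (nat_lit 46181) (.leaf (nat_lit 66)) (.node (nat_lit 46271) (.leaf (nat_lit 30)) (.leaf (nat_lit 360)))) (.node (nat_lit 47247) (.node (nat_lit 46984) (.leaf (nat_lit 60)) (.leaf (nat_lit 360))) (.node (nat_lit 47738) (.leaf (nat_lit 181)) (.leaf (nat_lit 360)))))) (.node (nat_lit 48277) (.node (nat_lit 47937) (.node (nat_lit 47809) (.leaf (nat_lit 1080)) (.node (nat_lit 47827) (.leaf (nat_lit 6)) (.leaf (nat_lit 277)))) (.node (nat_lit 48073) (.node (nat_lit 48063) (.leaf (nat_lit 30)) (.leaf (nat_lit 360))) (.node (nat_lit 48188) (.leaf (nat_lit 1080)) (.leaf (nat_lit 360))))) (.node (nat_lit 48492) (.node (nat_lit 48298) (.leaf (nat_lit 150)) (.node (nat_lit 48473) (.leaf (nat_lit 1080)) (.leaf (nat_lit 360)))) (.node (nat_lit 48817) (.node (nat_lit 48528) (.leaf (nat_lit 150)) (.leaf (nat_lit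 360))) (.node (nat_lit 48844) (.leaf (nat_lit 30)) (.leaf (nat_lit 270)))))))) (.node (nat_lit 51974) (.node (nat_lit 50312) (.node (nat_lit 49465) (.node (nat_lit 49270) (.node (nat_lit 49223) (.leaf (nat_lit 60)) (.node (nat_lit 49225) (.leaf (nat_lit 360)) (.leaf (nat_lit 0)))) (.node (nat_lit 49340) (.leaf (nat_lit 66)) (.node (nat_lit 49450) (.leaf (nat_lit 270)) (.leaf (nat_lit 0))))) (.node (nat_lit 50087) (.node (nat_lit 49886) (.leaf (nat_lit 270)) (.node (nat_lit 50019) (.leaf (nat_lit 360)) (.leaf (nat_lit 1080)))) (.node (nat_lit 50245) (.node (nat_lit 50229) (.leaf (nat_lit 72)) (.leaf (nat_lit 1080))) (.node (nat_lit 50285) (.leaf (nat_lit 150)) (.leaf (nat_lit 140)))))) (.node (nat_lit 51297) (.node (nat_lit 50600) (.node (nat_lit 50411) (.leaf (nat_lit 187)) (.node (nat_lit 50582) (.leaf (nat_lit 360)) (.leaf (nat_lit 60)))) (.node (nat_lit 50621) (.leaf (nat_lit 150)) (.node (nat_lit 50754) (.leaf (nat_lit 360)) (.leaf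 (nat_lit 1080))))) (.node (nat_lit 51773) (.node (nat_lit 51308) (.leaf (nat_lit 96)) (.node (nat_lit 51479) (.leaf (nat_lit 360)) (.leaf (nat_lit 1080)))) (.node (nat_lit 51892) (.node (nat_lit 51852) (.leaf (nat_lit 360)) (.leaf (nat_lit 30))) (.node (nat_lit 51919) (.leaf (nat_lit 150)) (.leaf (nat_lit 270))))))) (.node (nat_lit 53333) (.node (nat_lit 52609) (.node (nat_lit 52542) (.node (nat_lit 52058) (.leaf (nat_lit 1080)) (.node (nat_lit 52417) (.leaf (nat_lit 360)) (.leaf (nat_lit 254)))) (.node (nat_lit 52577) (.leaf (nat_lit 60)) (.node (nat_lit 52587) (.leaf (nat_lit 360)) (.leaf (nat_lit 1320))))) (.node (nat_lit 53065) (.node (nat_lit 52627) (.leaf (nat_lit 140)) (.node (nat_lit 52793) (.leaf (nat_lit 30)) (.leaf (nat_lit 360)))) (.node (nat_lit 53164) (.node (nat_lit 53112) (.leaf (nat_lit 36)) (.leaf (nat_lit 1320))) (.node (nat_lit 53322) (.leaf (nat_lit 30)) (.leaf (nat_lit 1320)))))) (.node (nat_lit 54401) (.node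 (nat_lit 53912) (.node (nat_lit 53620) (.leaf (nat_lit 360)) (.node (nat_lit 53686) (.leaf (nat_lit 270)) (.leaf (nat_lit 360)))) (.node (nat_lit 54184) (.node (nat_lit 54131) (.leaf (nat_lit 187)) (.leaf (nat_lit 120))) (.node (nat_lit 54310) (.leaf (nat_lit 360)) (.leaf (nat_lit 150))))) (.node (nat_lit 54631) (.node (nat_lit 54437) (.leaf (nat_lit 120)) (.node (nat_lit 54626) (.leaf (nat_lit 30)) (.leaf (nat_lit 120)))) (.node (nat_lit 54889) (.node (nat_lit 54647) (.leaf (nat_lit 360)) (.leaf (nat_lit 270))) (.node (nat_lit 54935) (.leaf (nat_lit 360)) (.leaf (nat_lit 1110))))))))))) (.node (nat_lit 81917) (.node (nat_lit 69430) (.node (nat_lit 62357) (.node (nat_lit 58420) (.node (nat_lit 56959) (.node (nat_lit 56084) (.node (nat_lit 55430) (.node (nat_lit 55205) (.leaf (nat_lit 360)) (.node (nat_lit 55334) (.leaf (nat_lit 6)) (.leaf (nat_lit 1080)))) (.node (nat_lit 55799) (.leaf (nat_lit 60)) (.node (nat_lit 55984) (.leaf (nat_lit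 1080)) (.leaf (nat_lit 31))))) (.node (nat_lit 56582) (.node (nat_lit 56393) (.leaf (nat_lit 1080)) (.node (nat_lit 56442) (.leaf (nat_lit 360)) (.leaf (nat_lit 1320)))) (.node (nat_lit 56764) (.node (nat_lit 56693) (.leaf (nat_lit 1080)) (.leaf (nat_lit 360))) (.node (nat_lit 56852) (.leaf (nat_lit 150)) (.leaf (nat_lit 1080)))))) (.node (nat_lit 57511) (.node (nat_lit 57398) (.node (nat_lit 57147) (.leaf (nat_lit 30)) (.node (nat_lit 57205) (.leaf (nat_lit 1320)) (.leaf (nat_lit 150)))) (.node (nat_lit 57447) (.leaf (nat_lit 360)) (.node (nat_lit 57485) (.leaf (nat_lit 1320)) (.leaf (nat_lit 1200))))) (.node (nat_lit 58022) (.node (nat_lit 57669) (.leaf (nat_lit 360)) (.node (nat_lit 57706) (.leaf (nat_lit 1080)) (.leaf (nat_lit 360)))) (.node (nat_lit 58232) (.node (nat_lit 58040) (.leaf (nat_lit 96)) (.leaf (nat_lit 1200))) (.node (nat_lit 58249) (.leaf (nat_lit 30)) (.leaf (nat_lit 360))))))) (.node (nat_lit 59777) (.node (nat_lit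 58899) (.node (nat_lit 58730) (.node (nat_lit 58464) (.leaf (nat_lit 276)) (.node (nat_lit 58486) (.leaf (nat_lit 1080)) (.leaf (nat_lit 360)))) (.node (nat_lit 58757) (.leaf (nat_lit 1200)) (.node (nat_lit 58789) (.leaf (nat_lit 60)) (.leaf (nat_lit 360))))) (.node (nat_lit 59399) (.node (nat_lit 58915) (.leaf (nat_lit 1080)) (.node (nat_lit 59221) (.leaf (nat_lit 1200)) (.leaf (nat_lit 360)))) (.node (nat_lit 59536) (.node (nat_lit 59502) (.leaf (nat_lit 1080)) (.leaf (nat_lit 120))) (.node (nat_lit 59677) (.leaf (nat_lit 360)) (.leaf (nat_lit 1080)))))) (.node (nat_lit 60773) (.node (nat_lit 60252) (.node (nat_lit 59967) (.leaf (nat_lit 360)) (.node (nat_lit 59977) (.leaf (nat_lit 120)) (.leaf (nat_lit 1080)))) (.node (nat_lit 60524) (.leaf (nat_lit 120)) (.node (nat_lit 60682) (.leaf (nat_lit 360)) (.leaf (nat_lit 1080))))) (.node (nat_lit 62035) (.node (nat_lit 61610) (.leaf (nat_lit 360)) (.node (nat_lit 61794) (.leaf (nat_lit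 120)) (.leaf (nat_lit 1080)))) (.node (nat_lit 62171) (.node (nat_lit 62060) (.leaf (nat_lit 1200)) (.leaf (nat_lit 120))) (.node (nat_lit 62341) (.leaf (nat_lit 1080)) (.leaf (nat_lit 360)))))))) (.node (nat_lit 66396) (.node (nat_lit 63734) (.node (nat_lit 63024) (.node (nat_lit 62582) (.node (nat_lit 62359) (.leaf (nat_lit 120)) (.node (nat_lit 62441) (.leaf (nat_lit 360)) (.leaf (nat_lit 1080)))) (.node (nat_lit 62630) (.leaf (nat_lit 120)) (.node (nat_lit 62824) (.leaf (nat_lit 1200)) (.leaf (nat_lit 360))))) (.node (nat_lit 63250) (.node (nat_lit 63070) (.leaf (nat_lit 1080)) (.node (nat_lit 63109) (.leaf (nat_lit 1200)) (.leaf (nat_lit 360)))) (.node (nat_lit 63571) (.node (nat_lit 63509) (.leaf (nat_lit 1200)) (.leaf (nat_lit 1080))) (.node (nat_lit 63635) (.leaf (nat_lit 360)) (.leaf (nat_lit 1200)))))) (.node (nat_lit 64792) (.node (nat_lit 64303) (.node (nat_lit 64004) (.leaf (nat_lit 1080)) (.node (nat_lit 64022) (.leaf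 (nat_lit 0)) (.leaf (nat_lit 1080)))) (.node (nat_lit 64587) (.leaf (nat_lit 360)) (.node (nat_lit 64598) (.leaf (nat_lit 120)) (.leaf (nat_lit 360))))) (.node (nat_lit 64997) (.node (nat_lit 64823) (.leaf (nat_lit 1080)) (.node (nat_lit 64887) (.leaf (nat_lit 360)) (.leaf (nat_lit 120)))) (.node (nat_lit 65592) (.node (nat_lit 65038) (.leaf (nat_lit 1080)) (.leaf (nat_lit 360))) (.node (nat_lit 65771) (.leaf (nat_lit 120)) (.leaf (nat_lit 1080))))))) (.node (nat_lit 67982) (.node (nat_lit 67235) (.node (nat_lit 66861) (.node (nat_lit 66506) (.leaf (nat_lit 360)) (.node (nat_lit 66695) (.leaf (nat_lit 1080)) (.leaf (nat_lit 1200)))) (.node (nat_lit 66871) (.leaf (nat_lit 360)) (.node (nat_lit 67146) (.leaf (nat_lit 192)) (.leaf (nat_lit 360))))) (.node (nat_lit 67597) (.node (nat_lit 67396) (.leaf (nat_lit 1200)) (.node (nat_lit 67456) (.leaf (nat_lit 31)) (.leaf (nat_lit 360)))) (.node (nat_lit 67685) (.node (nat_lit 67606) (.leaf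 (nat_lit 1080)) (.leaf (nat_lit 150))) (.node (nat_lit 67912) (.leaf (nat_lit 1200)) (.leaf (nat_lit 1080)))))) (.node (nat_lit 68857) (.node (nat_lit 68417) (.node (nat_lit 68132) (.leaf (nat_lit 360)) (.node (nat_lit 68402) (.leaf (nat_lit 1080)) (.leaf (nat_lit 72)))) (.node (nat_lit 68712) (.node (nat_lit 68582) (.leaf (nat_lit 360)) (.leaf (nat_lit 0))) (.node (nat_lit 68729) (.leaf (nat_lit 1086)) (.leaf (nat_lit 360))))) (.node (nat_lit 69122) (.node (nat_lit 68867) (.leaf (nat_lit 1080)) (.node (nat_lit 68922) (.leaf (nat_lit 157)) (.leaf (nat_lit 1110)))) (.node (nat_lit 69173) (.node (nat_lit 69152) (.leaf (nat_lit 0)) (.leaf (nat_lit 150))) (.node (nat_lit 69219) (.leaf (nat_lit 360)) (.leaf (nat_lit 270))))))))) (.node (nat_lit 76717) (.node (nat_lit 72822) (.node (nat_lit 70805) (.node (nat_lit 69714) (.node (nat_lit 69473) (.node (nat_lit 69447) (.leaf (nat_lit 120)) (.node (nat_lit 69462) (.leaf (nat_lit 30)) (.leaf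 (nat_lit 150)))) (.node (nat_lit 69489) (.leaf (nat_lit 360)) (.node (nat_lit 69700) (.leaf (nat_lit 1140)) (.leaf (nat_lit 120))))) (.node (nat_lit 69939) (.node (nat_lit 69881) (.leaf (nat_lit 60)) (.node (nat_lit 69925) (.leaf (nat_lit 1080)) (.leaf (nat_lit 120)))) (.node (nat_lit 70674) (.node (nat_lit 70641) (.leaf (nat_lit 1080)) (.leaf (nat_lit 150))) (.node (nat_lit 70726) (.leaf (nat_lit 1080)) (.leaf (nat_lit 150)))))) (.node (nat_lit 71731) (.node (nat_lit 71270) (.node (nat_lit 70866) (.leaf (nat_lit 1320)) (.node (nat_lit 71136) (.leaf (nat_lit 36)) (.leaf (nat_lit 246)))) (.node (nat_lit 71431) (.leaf (nat_lit 1320)) (.node (nat_lit 71555) (.leaf (nat_lit 150)) (.leaf (nat_lit 1320))))) (.node (nat_lit 72494) (.node (nat_lit 71953) (.leaf (nat_lit 1214)) (.node (nat_lit 72197) (.leaf (nat_lit 360)) (.leaf (nat_lit 1080)))) (.node (nat_lit 72722) (.node (nat_lit 72533) (.leaf (nat_lit 1117)) (.leaf (nat_lit 360))) (.node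 (nat_lit 72748) (.leaf (nat_lit 0)) (.leaf (nat_lit 360))))))) (.node (nat_lit 74441) (.node (nat_lit 73523) (.node (nat_lit 73199) (.node (nat_lit 72932) (.leaf (nat_lit 1110)) (.node (nat_lit 73022) (.leaf (nat_lit 1080)) (.leaf (nat_lit 360)))) (.node (nat_lit 73287) (.leaf (nat_lit 30)) (.node (nat_lit 73499) (.leaf (nat_lit 66)) (.leaf (nat_lit 30))))) (.node (nat_lit 73961) (.node (nat_lit 73572) (.leaf (nat_lit 360)) (.node (nat_lit 73946) (.leaf (nat_lit 6)) (.leaf (nat_lit 1080)))) (.node (nat_lit 74261) (.node (nat_lit 74216) (.leaf (nat_lit 360)) (.leaf (nat_lit 1080))) (.node (nat_lit 74335) (.leaf (nat_lit 360)) (.leaf (nat_lit 30)))))) (.node (nat_lit 75550) (.node (nat_lit 74966) (.node (nat_lit 74515) (.leaf (nat_lit 1080)) (.node (nat_lit 74590) (.leaf (nat_lit 30)) (.leaf (nat_lit 192)))) (.node (nat_lit 75096) (.node (nat_lit 75055) (.leaf (nat_lit 360)) (.leaf (nat_lit 270))) (.node (nat_lit 75340) (.leaf (nat_lit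 360)) (.leaf (nat_lit 31))))) (.node (nat_lit 76078) (.node (nat_lit 75982) (.leaf (nat_lit 1086)) (.node (nat_lit 76067) (.leaf (nat_lit 36)) (.leaf (nat_lit 150)))) (.node (nat_lit 76507) (.node (nat_lit 76319) (.leaf (nat_lit 360)) (.leaf (nat_lit 31))) (.node (nat_lit 76513) (.leaf (nat_lit 270)) (.leaf (nat_lit 360)))))))) (.node (nat_lit 79086) (.node (nat_lit 77803) (.node (nat_lit 77282) (.node (nat_lit 77102) (.node (nat_lit 76887) (.leaf (nat_lit 60)) (.node (nat_lit 76914) (.leaf (nat_lit 192)) (.leaf (nat_lit 66)))) (.node (nat_lit 77108) (.leaf (nat_lit 150)) (.node (nat_lit 77172) (.leaf (nat_lit 360)) (.leaf (nat_lit 270))))) (.node (nat_lit 77393) (.node (nat_lit 77308) (.leaf (nat_lit 254)) (.node (nat_lit 77354) (.leaf (nat_lit 360)) (.leaf (nat_lit 30)))) (.node (nat_lit 77619) (.node (nat_lit 77534) (.leaf (nat_lit 360)) (.leaf (nat_lit 30))) (.node (nat_lit 77637) (.leaf (nat_lit 270)) (.leaf (nat_lit 1117))))))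 (.node (nat_lit 78415) (.node (nat_lit 78088) (.node (nat_lit 77919) (.leaf (nat_lit 360)) (.node (nat_lit 78075) (.leaf (nat_lit 60)) (.leaf (nat_lit 36)))) (.node (nat_lit 78306) (.leaf (nat_lit 360)) (.node (nat_lit 78370) (.leaf (nat_lit 246)) (.leaf (nat_lit 120))))) (.node (nat_lit 78839) (.node (nat_lit 78615) (.leaf (nat_lit 270)) (.node (nat_lit 78670) (.leaf (nat_lit 150)) (.leaf (nat_lit 120)))) (.node (nat_lit 79065) (.node (nat_lit 78871) (.leaf (nat_lit 360)) (.leaf (nat_lit 120))) (.node (nat_lit 79076) (.leaf (nat_lit 60)) (.leaf (nat_lit 360))))))) (.node (nat_lit 80181) (.node (nat_lit 79390) (.node (nat_lit 79281) (.node (nat_lit 79171) (.leaf (nat_lit 30)) (.node (nat_lit 79195) (.leaf (nat_lit 120)) (.leaf (nat_lit 140)))) (.node (nat_lit 79364) (.leaf (nat_lit 270)) (.node (nat_lit 79375) (.leaf (nat_lit 360)) (.leaf (nat_lit 120))))) (.node (nat_lit 79876) (.node (nat_lit 79434) (.leaf (nat_lit 150)) (.node (nat_lit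 79837) (.leaf (nat_lit 360)) (.leaf (nat_lit 246)))) (.node (nat_lit 79911) (.node (nat_lit 79897) (.leaf (nat_lit 120)) (.leaf (nat_lit 1080))) (.node (nat_lit 80122) (.leaf (nat_lit 360)) (.leaf (nat_lit 1080)))))) (.node (nat_lit 81222) (.node (nat_lit 80842) (.node (nat_lit 80392) (.leaf (nat_lit 360)) (.node (nat_lit 80542) (.leaf (nat_lit 1080)) (.leaf (nat_lit 270)))) (.node (nat_lit 80997) (.node (nat_lit 80979) (.leaf (nat_lit 60)) (.leaf (nat_lit 270))) (.node (nat_lit 81078) (.leaf (nat_lit 72)) (.leaf (nat_lit 360))))) (.node (nat_lit 81519) (.node (nat_lit 81348) (.leaf (nat_lit 150)) (.node (nat_lit 81492) (.leaf (nat_lit 360)) (.leaf (nat_lit 31)))) (.node (nat_lit 81692) (.node (nat_lit 81573) (.leaf (nat_lit 140)) (.leaf (nat_lit 360))) (.node (nat_lit 81881) (.leaf (nat_lit 1110)) (.leaf (nat_lit 360)))))))))) (.node (nat_lit 94910) (.node (nat_lit 88326) (.node (nat_lit 85552) (.node (nat_lit 83141) (.node (nat_lit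 82196) (.node (nat_lit 81969) (.node (nat_lit 81943) (.leaf (nat_lit 60)) (.node (nat_lit 81945) (.leaf (nat_lit 360)) (.leaf (nat_lit 126)))) (.node (nat_lit 82138) (.leaf (nat_lit 30)) (.node (nat_lit 82187) (.leaf (nat_lit 360)) (.leaf (nat_lit 6))))) (.node (nat_lit 82701) (.node (nat_lit 82416) (.leaf (nat_lit 360)) (.node (nat_lit 82635) (.leaf (nat_lit 120)) (.leaf (nat_lit 150)))) (.node (nat_lit 82931) (.node (nat_lit 82866) (.leaf (nat_lit 360)) (.leaf (nat_lit 120))) (.node (nat_lit 82996) (.leaf (nat_lit 360)) (.leaf (nat_lit 1320)))))) (.node (nat_lit 83731) (.node (nat_lit 83259) (.node (nat_lit 83190) (.leaf (nat_lit 360)) (.node (nat_lit 83206) (.leaf (nat_lit 60)) (.leaf (nat_lit 1320)))) (.node (nat_lit 83406) (.leaf (nat_lit 360)) (.node (nat_lit 83496) (.leaf (nat_lit 120)) (.leaf (nat_lit 360))))) (.node (nat_lit 84748) (.node (nat_lit 83784) (.leaf (nat_lit 1320)) (.node (nat_lit 84272) (.leaf (nat_lit 360)) (.leaf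 (nat_lit 120)))) (.node (nat_lit 85177) (.node (nat_lit 85089) (.leaf (nat_lit 360)) (.leaf (nat_lit 157))) (.node (nat_lit 85502) (.leaf (nat_lit 1080)) (.leaf (nat_lit 120))))))) (.node (nat_lit 86914) (.node (nat_lit 86435) (.node (nat_lit 85839) (.node (nat_lit 85554) (.leaf (nat_lit 360)) (.node (nat_lit 85762) (.leaf (nat_lit 150)) (.leaf (nat_lit 360)))) (.node (nat_lit 85927) (.leaf (nat_lit 30)) (.node (nat_lit 86316) (.leaf (nat_lit 1080)) (.leaf (nat_lit 360))))) (.node (nat_lit 86620) (.node (nat_lit 86481) (.leaf (nat_lit 1080)) (.node (nat_lit 86534) (.leaf (nat_lit 96)) (.leaf (nat_lit 360)))) (.node (nat_lit 86815) (.node (nat_lit 86786) (.leaf (nat_lit 1200)) (.leaf (nat_lit 360))) (.node (nat_lit 86856) (.leaf (nat_lit 1200)) (.leaf (nat_lit 360)))))) (.node (nat_lit 87731) (.node (nat_lit 87216) (.node (nat_lit 87006) (.leaf (nat_lit 1080)) (.node (nat_lit 87199) (.leaf (nat_lit 150)) (.leaf (nat_lit 1080)))) (.node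 (nat_lit 87306) (.node (nat_lit 87285) (.leaf (nat_lit 270)) (.leaf (nat_lit 1200))) (.node (nat_lit 87595) (.leaf (nat_lit 360)) (.leaf (nat_lit 1200))))) (.node (nat_lit 88020) (.node (nat_lit 87810) (.leaf (nat_lit 360)) (.node (nat_lit 87982) (.leaf (nat_lit 1200)) (.leaf (nat_lit 120)))) (.node (nat_lit 88282) (.node (nat_lit 88046) (.leaf (nat_lit 1200)) (.leaf (nat_lit 360))) (.node (nat_lit 88322) (.leaf (nat_lit 120)) (.leaf (nat_lit 1320)))))))) (.node (nat_lit 91054) (.node (nat_lit 89563) (.node (nat_lit 88882) (.node (nat_lit 88773) (.node (nat_lit 88557) (.leaf (nat_lit 360)) (.node (nat_lit 88619) (.leaf (nat_lit 1080)) (.leaf (nat_lit 1200)))) (.node (nat_lit 88799) (.leaf (nat_lit 360)) (.node (nat_lit 88862) (.leaf (nat_lit 1200)) (.leaf (nat_lit 1320))))) (.node (nat_lit 89312) (.node (nat_lit 88987) (.leaf (nat_lit 360)) (.node (nat_lit 89007) (.leaf (nat_lit 120)) (.leaf (nat_lit 1080)))) (.node (nat_lit 89368)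 (.node (nat_lit 89357) (.leaf (nat_lit 1320)) (.leaf (nat_lit 1200))) (.node (nat_lit 89547) (.leaf (nat_lit 360)) (.leaf (nat_lit 1080)))))) (.node (nat_lit 90137) (.node (nat_lit 89834) (.node (nat_lit 89765) (.leaf (nat_lit 360)) (.node (nat_lit 89778) (.leaf (nat_lit 1080)) (.leaf (nat_lit 360)))) (.node (nat_lit 89887) (.leaf (nat_lit 1200)) (.node (nat_lit 90075) (.leaf (nat_lit 360)) (.leaf (nat_lit 120))))) (.node (nat_lit 90343) (.node (nat_lit 90274) (.leaf (nat_lit 1200)) (.node (nat_lit 90332) (.leaf (nat_lit 1080)) (.leaf (nat_lit 1200)))) (.node (nat_lit 90500) (.node (nat_lit 90390) (.leaf (nat_lit 360)) (.leaf (nat_lit 120))) (.node (nat_lit 90670) (.leaf (nat_lit 1080)) (.leaf (nat_lit 120))))))) (.node (nat_lit 93378) (.node (nat_lit 92654) (.node (nat_lit 92107) (.node (nat_lit 91335) (.leaf (nat_lit 1080)) (.node (nat_lit 91434) (.leaf (nat_lit 120)) (.leaf (nat_lit 360)))) (.node (nat_lit 92367) (.leaf (nat_lit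 270)) (.node (nat_lit 92451) (.leaf (nat_lit 1080)) (.leaf (nat_lit 360))))) (.node (nat_lit 92887) (.node (nat_lit 92838) (.leaf (nat_lit 120)) (.node (nat_lit 92842) (.leaf (nat_lit 360)) (.leaf (nat_lit 156)))) (.node (nat_lit 93123) (.node (nat_lit 92954) (.leaf (nat_lit 1080)) (.leaf (nat_lit 120))) (.node (nat_lit 93162) (.leaf (nat_lit 360)) (.leaf (nat_lit 1080)))))) (.node (nat_lit 93917) (.node (nat_lit 93648) (.node (nat_lit 93467) (.leaf (nat_lit 360)) (.node (nat_lit 93577) (.leaf (nat_lit 1200)) (.leaf (nat_lit 1080)))) (.node (nat_lit 93703) (.node (nat_lit 93659) (.leaf (nat_lit 360)) (.leaf (nat_lit 120))) (.node (nat_lit 93875) (.leaf (nat_lit 360)) (.leaf (nat_lit 1080))))) (.node (nat_lit 94168) (.node (nat_lit 93943) (.leaf (nat_lit 1200)) (.node (nat_lit 94085) (.leaf (nat_lit 360)) (.leaf (nat_lit 1080)))) (.node (nat_lit 94610) (.node (nat_lit 94457) (.leaf (nat_lit 360)) (.leaf (nat_lit 1200))) (.node (nat_lit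 94676) (.leaf (nat_lit 1080)) (.leaf (nat_lit 360))))))))) (.node (nat_lit 101863) (.node (nat_lit 98182) (.node (nat_lit 96647) (.node (nat_lit 95925) (.node (nat_lit 95234) (.node (nat_lit 94980) (.leaf (nat_lit 1080)) (.node (nat_lit 95105) (.leaf (nat_lit 1200)) (.leaf (nat_lit 0)))) (.node (nat_lit 95885) (.leaf (nat_lit 360)) (.node (nat_lit 95924) (.leaf (nat_lit 1080)) (.leaf (nat_lit 360))))) (.node (nat_lit 96201) (.node (nat_lit 95976) (.leaf (nat_lit 1200)) (.node (nat_lit 96051) (.leaf (nat_lit 150)) (.leaf (nat_lit 360)))) (.node (nat_lit 96261) (.node (nat_lit 96240) (.leaf (nat_lit 60)) (.leaf (nat_lit 1200))) (.node (nat_lit 96471) (.leaf (nat_lit 360)) (.leaf (nat_lit 1170)))))) (.node (nat_lit 97543) (.node (nat_lit 97477) (.node (nat_lit 96937) (.leaf (nat_lit 360)) (.node (nat_lit 96948) (.leaf (nat_lit 1080)) (.leaf (nat_lit 360)))) (.node (nat_lit 97492) (.leaf (nat_lit 150)) (.node (nat_lit 97532) (.leaf (nat_lit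 0)) (.leaf (nat_lit 1320))))) (.node (nat_lit 97972) (.node (nat_lit 97747) (.leaf (nat_lit 360)) (.node (nat_lit 97940) (.leaf (nat_lit 60)) (.leaf (nat_lit 1080)))) (.node (nat_lit 98057) (.node (nat_lit 98032) (.leaf (nat_lit 1170)) (.leaf (nat_lit 360))) (.node (nat_lit 98068) (.leaf (nat_lit 1320)) (.leaf (nat_lit 360))))))) (.node (nat_lit 99461) (.node (nat_lit 98674) (.node (nat_lit 98295) (.node (nat_lit 98267) (.leaf (nat_lit 1080)) (.node (nat_lit 98278) (.leaf (nat_lit 1320)) (.leaf (nat_lit 360)))) (.node (nat_lit 98435) (.leaf (nat_lit 150)) (.node (nat_lit 98505) (.leaf (nat_lit 1080)) (.leaf (nat_lit 150))))) (.node (nat_lit 99254) (.node (nat_lit 98804) (.leaf (nat_lit 1080)) (.node (nat_lit 99030) (.leaf (nat_lit 360)) (.leaf (nat_lit 276)))) (.node (nat_lit 99311) (.node (nat_lit 99260) (.leaf (nat_lit 360)) (.leaf (nat_lit 0))) (.node (nat_lit 99454) (.leaf (nat_lit 360)) (.leaf (nat_lit 1080)))))) (.node (nat_lit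 100587) (.node (nat_lit 99950) (.node (nat_lit 99746) (.leaf (nat_lit 72)) (.node (nat_lit 99794) (.leaf (nat_lit 181)) (.leaf (nat_lit 360)))) (.node (nat_lit 100211) (.node (nat_lit 100046) (.leaf (nat_lit 1080)) (.leaf (nat_lit 360))) (.node (nat_lit 100232) (.leaf (nat_lit 60)) (.leaf (nat_lit 360))))) (.node (nat_lit 100818) (.node (nat_lit 100697) (.leaf (nat_lit 1080)) (.node (nat_lit 100767) (.leaf (nat_lit 360)) (.leaf (nat_lit 1080)))) (.node (nat_lit 101653) (.node (nat_lit 101569) (.leaf (nat_lit 360)) (.leaf (nat_lit 72))) (.node (nat_lit 101802) (.leaf (nat_lit 360)) (.leaf (nat_lit 1080)))))))) (.node (nat_lit 105718) (.node (nat_lit 103831) (.node (nat_lit 102845) (.node (nat_lit 102388) (.node (nat_lit 102094) (.leaf (nat_lit 360)) (.node (nat_lit 102304) (.leaf (nat_lit 270)) (.leaf (nat_lit 277)))) (.node (nat_lit 102529) (.leaf (nat_lit 360)) (.node (nat_lit 102841) (.leaf (nat_lit 1080)) (.leaf (nat_lit 360)))))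 (.node (nat_lit 103279) (.node (nat_lit 103125) (.leaf (nat_lit 1080)) (.node (nat_lit 103151) (.leaf (nat_lit 1086)) (.leaf (nat_lit 360)))) (.node (nat_lit 103641) (.node (nat_lit 103291) (.leaf (nat_lit 1080)) (.leaf (nat_lit 360))) (.node (nat_lit 103680) (.leaf (nat_lit 66)) (.leaf (nat_lit 1110)))))) (.node (nat_lit 104616) (.node (nat_lit 104370) (.node (nat_lit 104060) (.leaf (nat_lit 360)) (.node (nat_lit 104126) (.leaf (nat_lit 0)) (.leaf (nat_lit 360)))) (.node (nat_lit 104421) (.leaf (nat_lit 30)) (.node (nat_lit 104558) (.leaf (nat_lit 60)) (.leaf (nat_lit 360))))) (.node (nat_lit 105142) (.node (nat_lit 104847) (.leaf (nat_lit 150)) (.node (nat_lit 105047) (.leaf (nat_lit 60)) (.leaf (nat_lit 360)))) (.node (nat_lit 105338) (.node (nat_lit 105297) (.leaf (nat_lit 1080)) (.leaf (nat_lit 270))) (.node (nat_lit 105607) (.leaf (nat_lit 360)) (.leaf (nat_lit 1080))))))) (.node (nat_lit 107930) (.node (nat_lit 107250) (.node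 (nat_lit 105988) (.node (nat_lit 105837) (.leaf (nat_lit 360)) (.node (nat_lit 105892) (.leaf (nat_lit 44)) (.leaf (nat_lit 1080)))) (.node (nat_lit 107171) (.leaf (nat_lit 360)) (.node (nat_lit 107195) (.leaf (nat_lit 181)) (.leaf (nat_lit 270))))) (.node (nat_lit 107700) (.node (nat_lit 107405) (.leaf (nat_lit 120)) (.node (nat_lit 107446) (.leaf (nat_lit 36)) (.leaf (nat_lit 360)))) (.node (nat_lit 107861) (.node (nat_lit 107751) (.leaf (nat_lit 120)) (.leaf (nat_lit 277))) (.node (nat_lit 107881) (.leaf (nat_lit 30)) (.leaf (nat_lit 360)))))) (.node (nat_lit 108657) (.node (nat_lit 108240) (.node (nat_lit 107944) (.leaf (nat_lit 126)) (.node (nat_lit 108201) (.leaf (nat_lit 360)) (.leaf (nat_lit 150)))) (.node (nat_lit 108416) (.node (nat_lit 108407) (.leaf (nat_lit 120)) (.leaf (nat_lit 360))) (.node (nat_lit 108439) (.leaf (nat_lit 150)) (.leaf (nat_lit 360))))) (.node (nat_lit 108902) (.node (nat_lit 108717) (.leaf (nat_lit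 60)) (.node (nat_lit 108741) (.leaf (nat_lit 1080)) (.leaf (nat_lit 30)))) (.node (nat_lit 109012) (.node (nat_lit 109002) (.leaf (nat_lit 360)) (.leaf (nat_lit 1080))) (.node (nat_lit 109194) (.leaf (nat_lit 6)) (.leaf (nat_lit 66)))))))))))) (.node (nat_lit 159123) (.node (nat_lit 135405) (.node (nat_lit 121984) (.node (nat_lit 115565) (.node (nat_lit 113088) (.node (nat_lit 110931) (.node (nat_lit 110153) (.node (nat_lit 109887) (.node (nat_lit 109467) (.leaf (nat_lit 270)) (.node (nat_lit 109518) (.leaf (nat_lit 1080)) (.leaf (nat_lit 360)))) (.node (nat_lit 109943) (.leaf (nat_lit 44)) (.node (nat_lit 109957) (.leaf (nat_lit 360)) (.leaf (nat_lit 60))))) (.node (nat_lit 110209) (.node (nat_lit 110169) (.leaf (nat_lit 360)) (.node (nat_lit 110208) (.leaf (nat_lit 150)) (.leaf (nat_lit 360)))) (.node (nat_lit 110661) (.node (nat_lit 110272) (.leaf (nat_lit 140)) (.leaf (nat_lit 150))) (.node (nat_lit 110678) (.leaf (nat_lit 1080))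 (.leaf (nat_lit 360)))))) (.node (nat_lit 112341) (.node (nat_lit 111776) (.node (nat_lit 111221) (.leaf (nat_lit 1080)) (.node (nat_lit 111311) (.leaf (nat_lit 96)) (.leaf (nat_lit 360)))) (.node (nat_lit 111816) (.leaf (nat_lit 30)) (.node (nat_lit 112036) (.leaf (nat_lit 150)) (.leaf (nat_lit 360))))) (.node (nat_lit 112551) (.node (nat_lit 112466) (.leaf (nat_lit 254)) (.node (nat_lit 112501) (.leaf (nat_lit 60)) (.leaf (nat_lit 360)))) (.node (nat_lit 112989) (.node (nat_lit 112763) (.leaf (nat_lit 30)) (.leaf (nat_lit 360))) (.node (nat_lit 113077) (.leaf (nat_lit 36)) (.leaf (nat_lit 31))))))) (.node (nat_lit 114813) (.node (nat_lit 114234) (.node (nat_lit 113872) (.node (nat_lit 113544) (.leaf (nat_lit 360)) (.node (nat_lit 113738) (.leaf (nat_lit 270)) (.leaf (nat_lit 360)))) (.node (nat_lit 114042) (.leaf (nat_lit 150)) (.node (nat_lit 114078) (.leaf (nat_lit 1320)) (.leaf (nat_lit 360))))) (.node (nat_lit 114516) (.node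 (nat_lit 114307) (.leaf (nat_lit 150)) (.node (nat_lit 114507) (.leaf (nat_lit 30)) (.leaf (nat_lit 1320)))) (.node (nat_lit 114760) (.node (nat_lit 114607) (.leaf (nat_lit 1080)) (.leaf (nat_lit 126))) (.node (nat_lit 114792) (.leaf (nat_lit 120)) (.leaf (nat_lit 1320)))))) (.node (nat_lit 115051) (.node (nat_lit 114877) (.node (nat_lit 114845) (.leaf (nat_lit 360)) (.node (nat_lit 114871) (.leaf (nat_lit 126)) (.leaf (nat_lit 360)))) (.node (nat_lit 114981) (.leaf (nat_lit 1110)) (.node (nat_lit 115045) (.leaf (nat_lit 1080)) (.leaf (nat_lit 120))))) (.node (nat_lit 115113) (.node (nat_lit 115070) (.leaf (nat_lit 360)) (.node (nat_lit 115102) (.leaf (nat_lit 1080)) (.leaf (nat_lit 1110)))) (.node (nat_lit 115436) (.node (nat_lit 115266) (.leaf (nat_lit 360)) (.leaf (nat_lit 1080))) (.node (nat_lit 115510) (.leaf (nat_lit 360)) (.leaf (nat_lit 120)))))))) (.node (nat_lit 118654) (.node (nat_lit 117617) (.node (nat_lit 116259) (.node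 (nat_lit 115809) (.node (nat_lit 115640) (.leaf (nat_lit 1080)) (.node (nat_lit 115646) (.leaf (nat_lit 30)) (.leaf (nat_lit 360)))) (.node (nat_lit 116075) (.leaf (nat_lit 1080)) (.node (nat_lit 116086) (.leaf (nat_lit 150)) (.leaf (nat_lit 360))))) (.node (nat_lit 117098) (.node (nat_lit 116813) (.leaf (nat_lit 1080)) (.node (nat_lit 116877) (.leaf (nat_lit 360)) (.leaf (nat_lit 60)))) (.node (nat_lit 117409) (.node (nat_lit 117129) (.leaf (nat_lit 360)) (.leaf (nat_lit 150))) (.node (nat_lit 117563) (.leaf (nat_lit 1200)) (.leaf (nat_lit 360)))))) (.node (nat_lit 118192) (.node (nat_lit 117964) (.node (nat_lit 117892) (.leaf (nat_lit 1080)) (.node (nat_lit 117902) (.leaf (nat_lit 1214)) (.leaf (nat_lit 1080)))) (.node (nat_lit 118092) (.leaf (nat_lit 1200)) (.node (nat_lit 118173) (.leaf (nat_lit 36)) (.leaf (nat_lit 360))))) (.node (nat_lit 118388) (.node (nat_lit 118344) (.leaf (nat_lit 30)) (.node (nat_lit 118367) (.leaf (nat_lit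 276)) (.leaf (nat_lit 1080)))) (.node (nat_lit 118581) (.node (nat_lit 118462) (.leaf (nat_lit 360)) (.leaf (nat_lit 1200))) (.node (nat_lit 118630) (.leaf (nat_lit 1080)) (.leaf (nat_lit 120))))))) (.node (nat_lit 119829) (.node (nat_lit 119163) (.node (nat_lit 118927) (.node (nat_lit 118713) (.leaf (nat_lit 1200)) (.node (nat_lit 118866) (.leaf (nat_lit 360)) (.leaf (nat_lit 1080)))) (.node (nat_lit 118970) (.leaf (nat_lit 1200)) (.node (nat_lit 119139) (.leaf (nat_lit 120)) (.leaf (nat_lit 1080))))) (.node (nat_lit 119405) (.node (nat_lit 119212) (.leaf (nat_lit 360)) (.node (nat_lit 119331) (.leaf (nat_lit 1200)) (.leaf (nat_lit 1080)))) (.node (nat_lit 119620) (.node (nat_lit 119449) (.leaf (nat_lit 120)) (.leaf (nat_lit 360))) (.node (nat_lit 119701) (.leaf (nat_lit 120)) (.leaf (nat_lit 360)))))) (.node (nat_lit 120695) (.node (nat_lit 120176) (.node (nat_lit 119891) (.leaf (nat_lit 1080)) (.node (nat_lit 119901) (.leaf (nat_lit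 120)) (.leaf (nat_lit 360)))) (.node (nat_lit 120384) (.node (nat_lit 120230) (.leaf (nat_lit 120)) (.leaf (nat_lit 1200))) (.node (nat_lit 120484) (.leaf (nat_lit 1080)) (.leaf (nat_lit 360))))) (.node (nat_lit 121534) (.node (nat_lit 120736) (.leaf (nat_lit 1200)) (.node (nat_lit 120980) (.leaf (nat_lit 360)) (.leaf (nat_lit 1200)))) (.node (nat_lit 121707) (.node (nat_lit 121622) (.leaf (nat_lit 120)) (.leaf (nat_lit 1080))) (.node (nat_lit 121718) (.leaf (nat_lit 1320)) (.leaf (nat_lit 360))))))))) (.node (nat_lit 128830) (.node (nat_lit 124255) (.node (nat_lit 122916) (.node (nat_lit 122527) (.node (nat_lit 122357) (.node (nat_lit 122147) (.leaf (nat_lit 120)) (.node (nat_lit 122153) (.leaf (nat_lit 1080)) (.leaf (nat_lit 360)))) (.node (nat_lit 122453) (.leaf (nat_lit 1080)) (.node (nat_lit 122524) (.leaf (nat_lit 360)) (.leaf (nat_lit 120))))) (.node (nat_lit 122723) (.node (nat_lit 122680) (.leaf (nat_lit 1200)) (.node (nat_lit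 122691) (.leaf (nat_lit 120)) (.leaf (nat_lit 1080)))) (.node (nat_lit 122748) (.node (nat_lit 122742) (.leaf (nat_lit 360)) (.leaf (nat_lit 1320))) (.node (nat_lit 122812) (.leaf (nat_lit 360)) (.leaf (nat_lit 1200)))))) (.node (nat_lit 123277) (.node (nat_lit 122980) (.node (nat_lit 122922) (.leaf (nat_lit 1080)) (.node (nat_lit 122948) (.leaf (nat_lit 1320)) (.leaf (nat_lit 360)))) (.node (nat_lit 123001) (.leaf (nat_lit 120)) (.node (nat_lit 123186) (.leaf (nat_lit 360)) (.leaf (nat_lit 1080))))) (.node (nat_lit 123715) (.node (nat_lit 123286) (.leaf (nat_lit 1200)) (.node (nat_lit 123685) (.leaf (nat_lit 360)) (.leaf (nat_lit 120)))) (.node (nat_lit 124055) (.node (nat_lit 123751) (.leaf (nat_lit 1080)) (.leaf (nat_lit 360))) (.node (nat_lit 124249) (.leaf (nat_lit 1200)) (.leaf (nat_lit 360))))))) (.node (nat_lit 127269) (.node (nat_lit 125292) (.node (nat_lit 125007) (.node (nat_lit 124716) (.leaf (nat_lit 1080)) (.node (nat_lit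 124835) (.leaf (nat_lit 360)) (.leaf (nat_lit 1200)))) (.node (nat_lit 125030) (.leaf (nat_lit 120)) (.node (nat_lit 125242) (.leaf (nat_lit 1200)) (.leaf (nat_lit 1080))))) (.node (nat_lit 125977) (.node (nat_lit 125327) (.leaf (nat_lit 120)) (.node (nat_lit 125757) (.leaf (nat_lit 1080)) (.leaf (nat_lit 120)))) (.node (nat_lit 127115) (.node (nat_lit 126637) (.leaf (nat_lit 1080)) (.leaf (nat_lit 1320))) (.node (nat_lit 127132) (.leaf (nat_lit 66)) (.leaf (nat_lit 1320)))))) (.node (nat_lit 127906) (.node (nat_lit 127624) (.node (nat_lit 127521) (.leaf (nat_lit 1080)) (.node (nat_lit 127584) (.leaf (nat_lit 360)) (.leaf (nat_lit 1080)))) (.node (nat_lit 127836) (.node (nat_lit 127640) (.leaf (nat_lit 360)) (.leaf (nat_lit 270))) (.node (nat_lit 127850) (.leaf (nat_lit 360)) (.leaf (nat_lit 150))))) (.node (nat_lit 128341) (.node (nat_lit 128275) (.leaf (nat_lit 360)) (.node (nat_lit 128326) (.leaf (nat_lit 1080)) (.leaf (nat_lit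 72)))) (.node (nat_lit 128599) (.node (nat_lit 128529) (.leaf (nat_lit 360)) (.leaf (nat_lit 1080))) (.node (nat_lit 128791) (.leaf (nat_lit 360)) (.leaf (nat_lit 157)))))))) (.node (nat_lit 132260) (.node (nat_lit 129912) (.node (nat_lit 129354) (.node (nat_lit 129076) (.node (nat_lit 128891) (.leaf (nat_lit 1080)) (.node (nat_lit 129052) (.leaf (nat_lit 1110)) (.leaf (nat_lit 1080)))) (.node (nat_lit 129136) (.leaf (nat_lit 150)) (.node (nat_lit 129161) (.leaf (nat_lit 360)) (.leaf (nat_lit 270))))) (.node (nat_lit 129553) (.node (nat_lit 129377) (.leaf (nat_lit 120)) (.node (nat_lit 129386) (.leaf (nat_lit 1080)) (.leaf (nat_lit 150)))) (.node (nat_lit 129624) (.node (nat_lit 129592) (.leaf (nat_lit 360)) (.leaf (nat_lit 1080))) (.node (nat_lit 129863) (.leaf (nat_lit 120)) (.leaf (nat_lit 360)))))) (.node (nat_lit 130885) (.node (nat_lit 130347) (.node (nat_lit 129932) (.leaf (nat_lit 120)) (.node (nat_lit 130093) (.leaf (nat_lit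 1080)) (.leaf (nat_lit 360)))) (.node (nat_lit 130388) (.leaf (nat_lit 120)) (.node (nat_lit 130622) (.leaf (nat_lit 360)) (.leaf (nat_lit 1080))))) (.node (nat_lit 131805) (.node (nat_lit 131142) (.leaf (nat_lit 3)) (.node (nat_lit 131380) (.leaf (nat_lit 120)) (.leaf (nat_lit 6)))) (.node (nat_lit 132075) (.node (nat_lit 131901) (.leaf (nat_lit 30)) (.leaf (nat_lit 360))) (.node (nat_lit 132186) (.leaf (nat_lit 30)) (.leaf (nat_lit 360))))))) (.node (nat_lit 133733) (.node (nat_lit 133211) (.node (nat_lit 132746) (.node (nat_lit 132455) (.leaf (nat_lit 1086)) (.node (nat_lit 132496) (.leaf (nat_lit 1110)) (.leaf (nat_lit 360)))) (.node (nat_lit 132946) (.leaf (nat_lit 1110)) (.node (nat_lit 133177) (.leaf (nat_lit 360)) (.leaf (nat_lit 1080))))) (.node (nat_lit 133423) (.node (nat_lit 133235) (.leaf (nat_lit 66)) (.node (nat_lit 133372) (.leaf (nat_lit 30)) (.leaf (nat_lit 1080)))) (.node (nat_lit 133622) (.node (nat_lit 133496)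 (.leaf (nat_lit 360)) (.leaf (nat_lit 6))) (.node (nat_lit 133667) (.leaf (nat_lit 0)) (.leaf (nat_lit 1117)))))) (.node (nat_lit 134514) (.node (nat_lit 134113) (.node (nat_lit 133922) (.leaf (nat_lit 360)) (.node (nat_lit 133962) (.leaf (nat_lit 0)) (.leaf (nat_lit 1086)))) (.node (nat_lit 134447) (.node (nat_lit 134152) (.leaf (nat_lit 360)) (.leaf (nat_lit 1080))) (.node (nat_lit 134502) (.leaf (nat_lit 30)) (.leaf (nat_lit 1110))))) (.node (nat_lit 134668) (.node (nat_lit 134627) (.leaf (nat_lit 192)) (.node (nat_lit 134642) (.leaf (nat_lit 1080)) (.leaf (nat_lit 30)))) (.node (nat_lit 134979) (.node (nat_lit 134952) (.leaf (nat_lit 360)) (.leaf (nat_lit 30))) (.node (nat_lit 135264) (.leaf (nat_lit 270)) (.leaf (nat_lit 31)))))))))) (.node (nat_lit 147519) (.node (nat_lit 140921) (.node (nat_lit 138339) (.node (nat_lit 136811) (.node (nat_lit 136030) (.node (nat_lit 135906) (.node (nat_lit 135489) (.leaf (nat_lit 6)) (.node (nat_lit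 135715) (.leaf (nat_lit 1080)) (.leaf (nat_lit 0)))) (.node (nat_lit 135930) (.leaf (nat_lit 36)) (.node (nat_lit 135991) (.leaf (nat_lit 30)) (.leaf (nat_lit 150))))) (.node (nat_lit 136310) (.node (nat_lit 136140) (.leaf (nat_lit 0)) (.node (nat_lit 136224) (.leaf (nat_lit 30)) (.leaf (nat_lit 1080)))) (.node (nat_lit 136595) (.node (nat_lit 136431) (.leaf (nat_lit 120)) (.leaf (nat_lit 270))) (.node (nat_lit 136641) (.leaf (nat_lit 120)) (.leaf (nat_lit 60)))))) (.node (nat_lit 137522) (.node (nat_lit 137060) (.node (nat_lit 136975) (.leaf (nat_lit 192)) (.node (nat_lit 137026) (.leaf (nat_lit 1080)) (.leaf (nat_lit 150)))) (.node (nat_lit 137096) (.leaf (nat_lit 120)) (.node (nat_lit 137206) (.leaf (nat_lit 270)) (.leaf (nat_lit 254))))) (.node (nat_lit 137843) (.node (nat_lit 137561) (.leaf (nat_lit 31)) (.node (nat_lit 137582) (.leaf (nat_lit 1117)) (.leaf (nat_lit 1080)))) (.node (nat_lit 137999) (.node (nat_lit 137957) (.leaf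 (nat_lit 360)) (.leaf (nat_lit 1080))) (.node (nat_lit 138047) (.leaf (nat_lit 36)) (.leaf (nat_lit 1080))))))) (.node (nat_lit 139515) (.node (nat_lit 138782) (.node (nat_lit 138533) (.node (nat_lit 138467) (.leaf (nat_lit 270)) (.node (nat_lit 138482) (.leaf (nat_lit 30)) (.leaf (nat_lit 0)))) (.node (nat_lit 138539) (.leaf (nat_lit 360)) (.node (nat_lit 138763) (.leaf (nat_lit 150)) (.leaf (nat_lit 360))))) (.node (nat_lit 139119) (.node (nat_lit 138989) (.leaf (nat_lit 30)) (.node (nat_lit 139088) (.leaf (nat_lit 60)) (.leaf (nat_lit 360)))) (.node (nat_lit 139314) (.node (nat_lit 139288) (.leaf (nat_lit 140)) (.leaf (nat_lit 360))) (.node (nat_lit 139358) (.leaf (nat_lit 150)) (.leaf (nat_lit 360)))))) (.node (nat_lit 140250) (.node (nat_lit 139736) (.node (nat_lit 139526) (.leaf (nat_lit 30)) (.node (nat_lit 139725) (.leaf (nat_lit 360)) (.leaf (nat_lit 30)))) (.node (nat_lit 139821) (.node (nat_lit 139761) (.leaf (nat_lit 360))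 (.leaf (nat_lit 246))) (.node (nat_lit 140095) (.leaf (nat_lit 360)) (.leaf (nat_lit 270))))) (.node (nat_lit 140466) (.node (nat_lit 140261) (.leaf (nat_lit 6)) (.node (nat_lit 140380) (.leaf (nat_lit 360)) (.leaf (nat_lit 126)))) (.node (nat_lit 140845) (.node (nat_lit 140766) (.leaf (nat_lit 270)) (.leaf (nat_lit 60))) (.node (nat_lit 140856) (.leaf (nat_lit 36)) (.leaf (nat_lit 360)))))))) (.node (nat_lit 143965) (.node (nat_lit 142559) (.node (nat_lit 141592) (.node (nat_lit 141416) (.node (nat_lit 141146) (.leaf (nat_lit 72)) (.node (nat_lit 141322) (.leaf (nat_lit 150)) (.leaf (nat_lit 1080)))) (.node (nat_lit 141532) (.leaf (nat_lit 31)) (.node (nat_lit 141553) (.leaf (nat_lit 96)) (.leaf (nat_lit 360))))) (.node (nat_lit 141868) (.node (nat_lit 141742) (.leaf (nat_lit 1080)) (.node (nat_lit 141817) (.leaf (nat_lit 150)) (.leaf (nat_lit 1080)))) (.node (nat_lit 141908) (.node (nat_lit 141869) (.leaf (nat_lit 360)) (.leaf (nat_lit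 126))) (.node (nat_lit 142267) (.leaf (nat_lit 360)) (.leaf (nat_lit 270)))))) (.node (nat_lit 143580) (.node (nat_lit 143117) (.node (nat_lit 142688) (.leaf (nat_lit 150)) (.node (nat_lit 143114) (.leaf (nat_lit 360)) (.leaf (nat_lit 60)))) (.node (nat_lit 143183) (.leaf (nat_lit 1110)) (.node (nat_lit 143387) (.leaf (nat_lit 360)) (.leaf (nat_lit 60))))) (.node (nat_lit 143661) (.node (nat_lit 143612) (.leaf (nat_lit 120)) (.node (nat_lit 143625) (.leaf (nat_lit 6)) (.leaf (nat_lit 60)))) (.node (nat_lit 143876) (.node (nat_lit 143850) (.leaf (nat_lit 360)) (.leaf (nat_lit 120))) (.node (nat_lit 143935) (.leaf (nat_lit 360)) (.leaf (nat_lit 1080))))))) (.node (nat_lit 145139) (.node (nat_lit 144216) (.node (nat_lit 144134) (.node (nat_lit 144075) (.leaf (nat_lit 36)) (.node (nat_lit 144090) (.leaf (nat_lit 120)) (.leaf (nat_lit 150)))) (.node (nat_lit 144145) (.leaf (nat_lit 360)) (.node (nat_lit 144196) (.leaf (nat_lit 1080)) (.leaf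 (nat_lit 120))))) (.node (nat_lit 144631) (.node (nat_lit 144375) (.leaf (nat_lit 360)) (.node (nat_lit 144415) (.leaf (nat_lit 44)) (.leaf (nat_lit 30)))) (.node (nat_lit 144839) (.node (nat_lit 144670) (.leaf (nat_lit 120)) (.leaf (nat_lit 0))) (.node (nat_lit 144955) (.leaf (nat_lit 360)) (.leaf (nat_lit 150)))))) (.node (nat_lit 146332) (.node (nat_lit 145476) (.node (nat_lit 145342) (.leaf (nat_lit 360)) (.node (nat_lit 145426) (.leaf (nat_lit 36)) (.leaf (nat_lit 120)))) (.node (nat_lit 145882) (.node (nat_lit 145864) (.leaf (nat_lit 360)) (.leaf (nat_lit 1080))) (.node (nat_lit 146089) (.leaf (nat_lit 150)) (.leaf (nat_lit 1080))))) (.node (nat_lit 146544) (.node (nat_lit 146359) (.leaf (nat_lit 270)) (.node (nat_lit 146373) (.leaf (nat_lit 1080)) (.leaf (nat_lit 360)))) (.node (nat_lit 147450) (.node (nat_lit 146838) (.leaf (nat_lit 1200)) (.leaf (nat_lit 360))) (.node (nat_lit 147461) (.leaf (nat_lit 60)) (.leaf (nat_lit 360)))))))))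 (.node (nat_lit 152766) (.node (nat_lit 150198) (.node (nat_lit 148806) (.node (nat_lit 148206) (.node (nat_lit 147959) (.node (nat_lit 147656) (.leaf (nat_lit 1200)) (.node (nat_lit 147906) (.leaf (nat_lit 360)) (.leaf (nat_lit 120)))) (.node (nat_lit 148015) (.leaf (nat_lit 360)) (.node (nat_lit 148028) (.leaf (nat_lit 120)) (.leaf (nat_lit 360))))) (.node (nat_lit 148315) (.node (nat_lit 148230) (.leaf (nat_lit 120)) (.node (nat_lit 148246) (.leaf (nat_lit 150)) (.leaf (nat_lit 1320)))) (.node (nat_lit 148436) (.node (nat_lit 148425) (.leaf (nat_lit 120)) (.leaf (nat_lit 44))) (.node (nat_lit 148786) (.leaf (nat_lit 360)) (.leaf (nat_lit 1320)))))) (.node (nat_lit 149467) (.node (nat_lit 149020) (.node (nat_lit 148911) (.leaf (nat_lit 360)) (.node (nat_lit 148931) (.leaf (nat_lit 120)) (.leaf (nat_lit 360)))) (.node (nat_lit 149174) (.leaf (nat_lit 120)) (.node (nat_lit 149236) (.leaf (nat_lit 360)) (.leaf (nat_lit 1320))))) (.node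 (nat_lit 149689) (.node (nat_lit 149471) (.leaf (nat_lit 270)) (.node (nat_lit 149662) (.leaf (nat_lit 360)) (.leaf (nat_lit 270)))) (.node (nat_lit 149773) (.node (nat_lit 149747) (.leaf (nat_lit 1080)) (.leaf (nat_lit 120))) (.node (nat_lit 149999) (.leaf (nat_lit 360)) (.leaf (nat_lit 120))))))) (.node (nat_lit 151007) (.node (nat_lit 150508) (.node (nat_lit 150424) (.node (nat_lit 150214) (.leaf (nat_lit 360)) (.node (nat_lit 150314) (.leaf (nat_lit 1080)) (.leaf (nat_lit 120)))) (.node (nat_lit 150442) (.leaf (nat_lit 1080)) (.node (nat_lit 150487) (.leaf (nat_lit 156)) (.leaf (nat_lit 1080))))) (.node (nat_lit 150787) (.node (nat_lit 150577) (.leaf (nat_lit 360)) (.node (nat_lit 150594) (.leaf (nat_lit 1080)) (.leaf (nat_lit 120)))) (.node (nat_lit 150937) (.node (nat_lit 150879) (.leaf (nat_lit 1080)) (.leaf (nat_lit 120))) (.node (nat_lit 150978) (.leaf (nat_lit 1080)) (.leaf (nat_lit 360)))))) (.node (nat_lit 151628) (.node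 (nat_lit 151312) (.node (nat_lit 151173) (.leaf (nat_lit 120)) (.node (nat_lit 151259) (.leaf (nat_lit 360)) (.leaf (nat_lit 120)))) (.node (nat_lit 151358) (.node (nat_lit 151344) (.leaf (nat_lit 1080)) (.leaf (nat_lit 120))) (.node (nat_lit 151477) (.leaf (nat_lit 360)) (.leaf (nat_lit 1080))))) (.node (nat_lit 152239) (.node (nat_lit 151954) (.leaf (nat_lit 360)) (.node (nat_lit 152031) (.leaf (nat_lit 1080)) (.leaf (nat_lit 270)))) (.node (nat_lit 152291) (.node (nat_lit 152241) (.leaf (nat_lit 1080)) (.leaf (nat_lit 270))) (.node (nat_lit 152704) (.leaf (nat_lit 360)) (.leaf (nat_lit 1080)))))))) (.node (nat_lit 156445) (.node (nat_lit 155158) (.node (nat_lit 154082) (.node (nat_lit 153570) (.node (nat_lit 152835) (.leaf (nat_lit 156)) (.node (nat_lit 153086) (.leaf (nat_lit 1080)) (.leaf (nat_lit 360)))) (.node (nat_lit 153887) (.leaf (nat_lit 1080)) (.node (nat_lit 154009) (.leaf (nat_lit 1320)) (.leaf (nat_lit 1080))))) (.node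 (nat_lit 154652) (.node (nat_lit 154297) (.leaf (nat_lit 1320)) (.node (nat_lit 154603) (.leaf (nat_lit 1080)) (.leaf (nat_lit 360)))) (.node (nat_lit 154862) (.node (nat_lit 154797) (.leaf (nat_lit 1200)) (.leaf (nat_lit 1080))) (.node (nat_lit 154927) (.leaf (nat_lit 1320)) (.leaf (nat_lit 1080)))))) (.node (nat_lit 155848) (.node (nat_lit 155606) (.node (nat_lit 155377) (.leaf (nat_lit 360)) (.node (nat_lit 155597) (.leaf (nat_lit 1080)) (.leaf (nat_lit 1200)))) (.node (nat_lit 155655) (.leaf (nat_lit 360)) (.node (nat_lit 155824) (.leaf (nat_lit 60)) (.leaf (nat_lit 1080))))) (.node (nat_lit 155912) (.node (nat_lit 155850) (.leaf (nat_lit 360)) (.node (nat_lit 155876) (.leaf (nat_lit 60)) (.leaf (nat_lit 360)))) (.node (nat_lit 156220) (.node (nat_lit 156101) (.leaf (nat_lit 1200)) (.leaf (nat_lit 360))) (.node (nat_lit 156274) (.leaf (nat_lit 36)) (.leaf (nat_lit 1080))))))) (.node (nat_lit 157956) (.node (nat_lit 157401) (.node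 (nat_lit 156715) (.node (nat_lit 156571) (.leaf (nat_lit 270)) (.node (nat_lit 156630) (.leaf (nat_lit 1080)) (.leaf (nat_lit 36)))) (.node (nat_lit 156796) (.leaf (nat_lit 150)) (.node (nat_lit 156951) (.leaf (nat_lit 1080)) (.leaf (nat_lit 360))))) (.node (nat_lit 157864) (.node (nat_lit 157612) (.leaf (nat_lit 150)) (.node (nat_lit 157671) (.leaf (nat_lit 120)) (.leaf (nat_lit 60)))) (.node (nat_lit 157896) (.node (nat_lit 157882) (.leaf (nat_lit 1080)) (.leaf (nat_lit 120))) (.node (nat_lit 157917) (.leaf (nat_lit 1170)) (.leaf (nat_lit 1080)))))) (.node (nat_lit 158512) (.node (nat_lit 158219) (.node (nat_lit 158107) (.leaf (nat_lit 360)) (.node (nat_lit 158134) (.leaf (nat_lit 120)) (.leaf (nat_lit 1080)))) (.node (nat_lit 158403) (.node (nat_lit 158359) (.leaf (nat_lit 150)) (.leaf (nat_lit 1080))) (.node (nat_lit 158429) (.leaf (nat_lit 360)) (.leaf (nat_lit 150))))) (.node (nat_lit 158717) (.node (nat_lit 158598) (.leaf (nat_lit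 1080)) (.node (nat_lit 158622) (.leaf (nat_lit 360)) (.leaf (nat_lit 1080)))) (.node (nat_lit 158922) (.node (nat_lit 158728) (.leaf (nat_lit 1200)) (.leaf (nat_lit 360))) (.node (nat_lit 158954) (.leaf (nat_lit 1080)) (.leaf (nat_lit 276))))))))))) (.node (nat_lit 186496) (.node (nat_lit 172949) (.node (nat_lit 166062) (.node (nat_lit 163203) (.node (nat_lit 160485) (.node (nat_lit 159947) (.node (nat_lit 159705) (.node (nat_lit 159487) (.leaf (nat_lit 360)) (.node (nat_lit 159512) (.leaf (nat_lit 1080)) (.leaf (nat_lit 1200)))) (.node (nat_lit 159718) (.leaf (nat_lit 120)) (.node (nat_lit 159874) (.leaf (nat_lit 360)) (.leaf (nat_lit 1080))))) (.node (nat_lit 160259) (.node (nat_lit 159990) (.leaf (nat_lit 1200)) (.node (nat_lit 160156) (.leaf (nat_lit 120)) (.leaf (nat_lit 1080)))) (.node (nat_lit 160439) (.node (nat_lit 160400) (.leaf (nat_lit 360)) (.leaf (nat_lit 1080))) (.node (nat_lit 160455) (.leaf (nat_lit 360)) (.leaf (nat_lit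 120)))))) (.node (nat_lit 161150) (.node (nat_lit 160691) (.node (nat_lit 160511) (.leaf (nat_lit 1080)) (.node (nat_lit 160621) (.leaf (nat_lit 360)) (.leaf (nat_lit 1080)))) (.node (nat_lit 160879) (.leaf (nat_lit 360)) (.node (nat_lit 161076) (.leaf (nat_lit 1080)) (.leaf (nat_lit 360))))) (.node (nat_lit 161726) (.node (nat_lit 161286) (.leaf (nat_lit 1080)) (.node (nat_lit 161715) (.leaf (nat_lit 360)) (.leaf (nat_lit 1080)))) (.node (nat_lit 162738) (.node (nat_lit 162517) (.leaf (nat_lit 360)) (.leaf (nat_lit 1080))) (.node (nat_lit 162827) (.leaf (nat_lit 360)) (.leaf (nat_lit 1320))))))) (.node (nat_lit 164744) (.node (nat_lit 163832) (.node (nat_lit 163532) (.node (nat_lit 163352) (.leaf (nat_lit 360)) (.node (nat_lit 163458) (.leaf (nat_lit 1110)) (.leaf (nat_lit 360)))) (.node (nat_lit 163577) (.leaf (nat_lit 1320)) (.node (nat_lit 163732) (.leaf (nat_lit 270)) (.leaf (nat_lit 0))))) (.node (nat_lit 164294) (.node (nat_lit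 163847) (.leaf (nat_lit 1320)) (.node (nat_lit 164221) (.leaf (nat_lit 150)) (.leaf (nat_lit 1080)))) (.node (nat_lit 164594) (.node (nat_lit 164506) (.leaf (nat_lit 360)) (.leaf (nat_lit 1080))) (.node (nat_lit 164610) (.leaf (nat_lit 360)) (.leaf (nat_lit 1080)))))) (.node (nat_lit 165071) (.node (nat_lit 164971) (.node (nat_lit 164771) (.leaf (nat_lit 150)) (.node (nat_lit 164861) (.leaf (nat_lit 60)) (.leaf (nat_lit 360)))) (.node (nat_lit 165014) (.leaf (nat_lit 1080)) (.node (nat_lit 165045) (.leaf (nat_lit 246)) (.leaf (nat_lit 0))))) (.node (nat_lit 165260) (.node (nat_lit 165221) (.leaf (nat_lit 360)) (.node (nat_lit 165239) (.leaf (nat_lit 270)) (.leaf (nat_lit 36)))) (.node (nat_lit 165761) (.node (nat_lit 165299) (.leaf (nat_lit 1080)) (.leaf (nat_lit 360))) (.node (nat_lit 165840) (.leaf (nat_lit 44)) (.leaf (nat_lit 0)))))))) (.node (nat_lit 168936) (.node (nat_lit 167868) (.node (nat_lit 167067) (.node (nat_lit 166523)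 (.node (nat_lit 166238) (.leaf (nat_lit 1080)) (.node (nat_lit 166362) (.leaf (nat_lit 360)) (.leaf (nat_lit 1080)))) (.node (nat_lit 166657) (.leaf (nat_lit 360)) (.node (nat_lit 166988) (.leaf (nat_lit 1080)) (.leaf (nat_lit 360))))) (.node (nat_lit 167177) (.node (nat_lit 167119) (.leaf (nat_lit 1080)) (.node (nat_lit 167152) (.leaf (nat_lit 270)) (.leaf (nat_lit 1080)))) (.node (nat_lit 167702) (.node (nat_lit 167329) (.leaf (nat_lit 1110)) (.leaf (nat_lit 36))) (.node (nat_lit 167854) (.leaf (nat_lit 6)) (.leaf (nat_lit 126)))))) (.node (nat_lit 168556) (.node (nat_lit 168093) (.node (nat_lit 167912) (.leaf (nat_lit 360)) (.node (nat_lit 168079) (.leaf (nat_lit 66)) (.leaf (nat_lit 1080)))) (.node (nat_lit 168304) (.leaf (nat_lit 360)) (.node (nat_lit 168346) (.leaf (nat_lit 1080)) (.leaf (nat_lit 360))))) (.node (nat_lit 168620) (.node (nat_lit 168581) (.leaf (nat_lit 1080)) (.node (nat_lit 168599) (.leaf (nat_lit 60)) (.leaf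 (nat_lit 36)))) (.node (nat_lit 168826) (.node (nat_lit 168641) (.leaf (nat_lit 1080)) (.leaf (nat_lit 360))) (.node (nat_lit 168871) (.leaf (nat_lit 1080)) (.leaf (nat_lit 360))))))) (.node (nat_lit 170558) (.node (nat_lit 169811) (.node (nat_lit 169325) (.node (nat_lit 169064) (.leaf (nat_lit 6)) (.node (nat_lit 169081) (.leaf (nat_lit 30)) (.leaf (nat_lit 360)))) (.node (nat_lit 169349) (.leaf (nat_lit 1080)) (.node (nat_lit 169391) (.leaf (nat_lit 270)) (.leaf (nat_lit 360))))) (.node (nat_lit 170187) (.node (nat_lit 169881) (.leaf (nat_lit 44)) (.node (nat_lit 170108) (.leaf (nat_lit 60)) (.leaf (nat_lit 360)))) (.node (nat_lit 170337) (.node (nat_lit 170196) (.leaf (nat_lit 1080)) (.leaf (nat_lit 150))) (.node (nat_lit 170397) (.leaf (nat_lit 120)) (.leaf (nat_lit 1080)))))) (.node (nat_lit 171497) (.node (nat_lit 171098) (.node (nat_lit 170637) (.leaf (nat_lit 360)) (.node (nat_lit 170647) (.leaf (nat_lit 120)) (.leaf (nat_lit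 1080)))) (.node (nat_lit 171342) (.node (nat_lit 171287) (.leaf (nat_lit 360)) (.leaf (nat_lit 72))) (.node (nat_lit 171397) (.leaf (nat_lit 120)) (.leaf (nat_lit 1080))))) (.node (nat_lit 172664) (.node (nat_lit 172022) (.leaf (nat_lit 270)) (.node (nat_lit 172201) (.leaf (nat_lit 31)) (.leaf (nat_lit 360)))) (.node (nat_lit 172755) (.node (nat_lit 172700) (.leaf (nat_lit 120)) (.leaf (nat_lit 72))) (.node (nat_lit 172796) (.leaf (nat_lit 1080)) (.leaf (nat_lit 360))))))))) (.node (nat_lit 179329) (.node (nat_lit 175622) (.node (nat_lit 174231) (.node (nat_lit 173280) (.node (nat_lit 173001) (.node (nat_lit 172970) (.leaf (nat_lit 120)) (.node (nat_lit 172991) (.leaf (nat_lit 181)) (.leaf (nat_lit 360)))) (.node (nat_lit 173195) (.leaf (nat_lit 31)) (.node (nat_lit 173206) (.leaf (nat_lit 60)) (.leaf (nat_lit 360))))) (.node (nat_lit 173771) (.node (nat_lit 173414) (.leaf (nat_lit 0)) (.node (nat_lit 173490) (.leaf (nat_lit 120))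 (.leaf (nat_lit 1080)))) (.node (nat_lit 174059) (.node (nat_lit 173796) (.leaf (nat_lit 360)) (.leaf (nat_lit 150))) (.node (nat_lit 174222) (.leaf (nat_lit 360)) (.leaf (nat_lit 120)))))) (.node (nat_lit 175163) (.node (nat_lit 174723) (.node (nat_lit 174284) (.leaf (nat_lit 30)) (.node (nat_lit 174657) (.leaf (nat_lit 360)) (.leaf (nat_lit 120)))) (.node (nat_lit 174769) (.leaf (nat_lit 360)) (.node (nat_lit 174969) (.leaf (nat_lit 126)) (.leaf (nat_lit 120))))) (.node (nat_lit 175434) (.node (nat_lit 175211) (.leaf (nat_lit 360)) (.node (nat_lit 175352) (.leaf (nat_lit 1080)) (.leaf (nat_lit 192)))) (.node (nat_lit 175452) (.node (nat_lit 175436) (.leaf (nat_lit 120)) (.leaf (nat_lit 1080))) (.node (nat_lit 175564) (.leaf (nat_lit 120)) (.leaf (nat_lit 30))))))) (.node (nat_lit 177541) (.node (nat_lit 176525) (.node (nat_lit 175847) (.node (nat_lit 175706) (.leaf (nat_lit 150)) (.node (nat_lit 175733) (.leaf (nat_lit 1080)) (.leaf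 (nat_lit 360)))) (.node (nat_lit 175999) (.leaf (nat_lit 1117)) (.node (nat_lit 176183) (.leaf (nat_lit 150)) (.leaf (nat_lit 360))))) (.node (nat_lit 176999) (.node (nat_lit 176774) (.leaf (nat_lit 1080)) (.node (nat_lit 176801) (.leaf (nat_lit 36)) (.leaf (nat_lit 60)))) (.node (nat_lit 177111) (.node (nat_lit 177020) (.leaf (nat_lit 150)) (.leaf (nat_lit 0))) (.node (nat_lit 177269) (.leaf (nat_lit 150)) (.leaf (nat_lit 270)))))) (.node (nat_lit 178291) (.node (nat_lit 178016) (.node (nat_lit 177816) (.leaf (nat_lit 360)) (.node (nat_lit 177826) (.leaf (nat_lit 1214)) (.leaf (nat_lit 360)))) (.node (nat_lit 178116) (.node (nat_lit 178109) (.leaf (nat_lit 36)) (.leaf (nat_lit 360))) (.node (nat_lit 178257) (.leaf (nat_lit 30)) (.leaf (nat_lit 120))))) (.node (nat_lit 178894) (.node (nat_lit 178554) (.leaf (nat_lit 360)) (.node (nat_lit 178578) (.leaf (nat_lit 120)) (.leaf (nat_lit 360)))) (.node (nat_lit 179063) (.node (nat_lit 179036)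 (.leaf (nat_lit 120)) (.leaf (nat_lit 1080))) (.node (nat_lit 179307) (.leaf (nat_lit 360)) (.leaf (nat_lit 1320)))))))) (.node (nat_lit 183167) (.node (nat_lit 180941) (.node (nat_lit 180087) (.node (nat_lit 179561) (.node (nat_lit 179373) (.leaf (nat_lit 120)) (.node (nat_lit 179517) (.leaf (nat_lit 360)) (.leaf (nat_lit 120)))) (.node (nat_lit 179583) (.leaf (nat_lit 1080)) (.node (nat_lit 179771) (.leaf (nat_lit 360)) (.leaf (nat_lit 1080))))) (.node (nat_lit 180308) (.node (nat_lit 180124) (.leaf (nat_lit 1320)) (.node (nat_lit 180282) (.leaf (nat_lit 120)) (.leaf (nat_lit 1320)))) (.node (nat_lit 180408) (.node (nat_lit 180395) (.leaf (nat_lit 360)) (.leaf (nat_lit 181))) (.node (nat_lit 180834) (.leaf (nat_lit 360)) (.leaf (nat_lit 1080)))))) (.node (nat_lit 181809) (.node (nat_lit 181211) (.node (nat_lit 181029) (.leaf (nat_lit 360)) (.node (nat_lit 181100) (.leaf (nat_lit 1080)) (.leaf (nat_lit 30)))) (.node (nat_lit 181400)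 (.leaf (nat_lit 360)) (.node (nat_lit 181436) (.leaf (nat_lit 270)) (.leaf (nat_lit 360))))) (.node (nat_lit 182858) (.node (nat_lit 181994) (.leaf (nat_lit 1080)) (.node (nat_lit 182604) (.leaf (nat_lit 360)) (.leaf (nat_lit 120)))) (.node (nat_lit 183146) (.node (nat_lit 182904) (.leaf (nat_lit 360)) (.leaf (nat_lit 120))) (.node (nat_lit 183162) (.leaf (nat_lit 1080)) (.leaf (nat_lit 1320))))))) (.node (nat_lit 185166) (.node (nat_lit 184422) (.node (nat_lit 183662) (.node (nat_lit 183483) (.leaf (nat_lit 1080)) (.node (nat_lit 183609) (.leaf (nat_lit 360)) (.leaf (nat_lit 120)))) (.node (nat_lit 184107) (.leaf (nat_lit 1080)) (.node (nat_lit 184173) (.leaf (nat_lit 1320)) (.leaf (nat_lit 360))))) (.node (nat_lit 184629) (.node (nat_lit 184460) (.leaf (nat_lit 1320)) (.node (nat_lit 184471) (.leaf (nat_lit 66)) (.leaf (nat_lit 360)))) (.node (nat_lit 184931) (.node (nat_lit 184681) (.leaf (nat_lit 1080)) (.leaf (nat_lit 360))) (.node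 (nat_lit 185000) (.leaf (nat_lit 120)) (.leaf (nat_lit 30)))))) (.node (nat_lit 185735) (.node (nat_lit 185216) (.node (nat_lit 185184) (.leaf (nat_lit 360)) (.node (nat_lit 185206) (.leaf (nat_lit 1080)) (.leaf (nat_lit 360)))) (.node (nat_lit 185450) (.node (nat_lit 185251) (.leaf (nat_lit 120)) (.leaf (nat_lit 360))) (.node (nat_lit 185681) (.leaf (nat_lit 60)) (.leaf (nat_lit 120))))) (.node (nat_lit 185901) (.node (nat_lit 185819) (.leaf (nat_lit 1080)) (.node (nat_lit 185874) (.leaf (nat_lit 360)) (.leaf (nat_lit 1080)))) (.node (nat_lit 186044) (.node (nat_lit 186020) (.leaf (nat_lit 360)) (.leaf (nat_lit 1080))) (.node (nat_lit 186485) (.leaf (nat_lit 360)) (.leaf (nat_lit 1080)))))))))) (.node (nat_lit 201990) (.node (nat_lit 194065) (.node (nat_lit 189990) (.node (nat_lit 188570) (.node (nat_lit 187481) (.node (nat_lit 187193) (.node (nat_lit 187039) (.leaf (nat_lit 360)) (.node (nat_lit 187172) (.leaf (nat_lit 66)) (.leaf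 (nat_lit 1080)))) (.node (nat_lit 187211) (.leaf (nat_lit 360)) (.node (nat_lit 187382) (.leaf (nat_lit 1080)) (.leaf (nat_lit 0))))) (.node (nat_lit 187706) (.node (nat_lit 187508) (.leaf (nat_lit 1080)) (.node (nat_lit 187564) (.leaf (nat_lit 360)) (.leaf (nat_lit 270)))) (.node (nat_lit 187907) (.node (nat_lit 187774) (.leaf (nat_lit 1080)) (.leaf (nat_lit 150))) (.node (nat_lit 188073) (.leaf (nat_lit 1080)) (.leaf (nat_lit 360)))))) (.node (nat_lit 189320) (.node (nat_lit 189035) (.node (nat_lit 188769) (.leaf (nat_lit 120)) (.node (nat_lit 188976) (.leaf (nat_lit 1080)) (.leaf (nat_lit 360)))) (.node (nat_lit 189265) (.leaf (nat_lit 120)) (.node (nat_lit 189301) (.leaf (nat_lit 1080)) (.leaf (nat_lit 360))))) (.node (nat_lit 189720) (.node (nat_lit 189495) (.leaf (nat_lit 120)) (.node (nat_lit 189605) (.leaf (nat_lit 360)) (.leaf (nat_lit 1080)))) (.node (nat_lit 189856) (.node (nat_lit 189730) (.leaf (nat_lit 360)) (.leaf (nat_lit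 1080))) (.node (nat_lit 189984) (.leaf (nat_lit 360)) (.leaf (nat_lit 1080))))))) (.node (nat_lit 191972) (.node (nat_lit 190832) (.node (nat_lit 190557) (.node (nat_lit 190015) (.leaf (nat_lit 360)) (.node (nat_lit 190546) (.leaf (nat_lit 1080)) (.leaf (nat_lit 360)))) (.node (nat_lit 190595) (.leaf (nat_lit 3)) (.node (nat_lit 190782) (.leaf (nat_lit 1080)) (.leaf (nat_lit 3))))) (.node (nat_lit 191522) (.node (nat_lit 191034) (.leaf (nat_lit 1080)) (.node (nat_lit 191052) (.leaf (nat_lit 3)) (.leaf (nat_lit 6)))) (.node (nat_lit 191862) (.node (nat_lit 191612) (.leaf (nat_lit 0)) (.leaf (nat_lit 1080))) (.node (nat_lit 191928) (.leaf (nat_lit 270)) (.leaf (nat_lit 360)))))) (.node (nat_lit 193609) (.node (nat_lit 192393) (.node (nat_lit 192087) (.leaf (nat_lit 1080)) (.node (nat_lit 192357) (.leaf (nat_lit 1140)) (.leaf (nat_lit 60)))) (.node (nat_lit 193101) (.node (nat_lit 193090) (.leaf (nat_lit 360)) (.leaf (nat_lit 1080)))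 (.node (nat_lit 193591) (.leaf (nat_lit 360)) (.leaf (nat_lit 1117))))) (.node (nat_lit 193845) (.node (nat_lit 193655) (.leaf (nat_lit 72)) (.node (nat_lit 193819) (.leaf (nat_lit 1080)) (.leaf (nat_lit 187)))) (.node (nat_lit 193955) (.node (nat_lit 193870) (.leaf (nat_lit 360)) (.leaf (nat_lit 1080))) (.node (nat_lit 194055) (.leaf (nat_lit 0)) (.leaf (nat_lit 360)))))))) (.node (nat_lit 198409) (.node (nat_lit 195932) (.node (nat_lit 195118) (.node (nat_lit 194371) (.node (nat_lit 194076) (.leaf (nat_lit 1080)) (.node (nat_lit 194344) (.leaf (nat_lit 360)) (.leaf (nat_lit 60)))) (.node (nat_lit 194660) (.leaf (nat_lit 30)) (.node (nat_lit 194942) (.leaf (nat_lit 0)) (.leaf (nat_lit 1080))))) (.node (nat_lit 195387) (.node (nat_lit 195302) (.leaf (nat_lit 360)) (.node (nat_lit 195313) (.leaf (nat_lit 1080)) (.leaf (nat_lit 360)))) (.node (nat_lit 195413) (.node (nat_lit 195392) (.leaf (nat_lit 120)) (.leaf (nat_lit 1080))) (.node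 (nat_lit 195702) (.leaf (nat_lit 360)) (.leaf (nat_lit 120)))))) (.node (nat_lit 197419) (.node (nat_lit 196093) (.node (nat_lit 195993) (.leaf (nat_lit 1080)) (.node (nat_lit 196082) (.leaf (nat_lit 360)) (.leaf (nat_lit 0)))) (.node (nat_lit 196647) (.leaf (nat_lit 360)) (.node (nat_lit 196743) (.leaf (nat_lit 120)) (.leaf (nat_lit 360))))) (.node (nat_lit 197451) (.node (nat_lit 197430) (.leaf (nat_lit 187)) (.node (nat_lit 197446) (.leaf (nat_lit 360)) (.leaf (nat_lit 31)))) (.node (nat_lit 197971) (.node (nat_lit 197959) (.leaf (nat_lit 360)) (.leaf (nat_lit 30))) (.node (nat_lit 198391) (.leaf (nat_lit 360)) (.leaf (nat_lit 30))))))) (.node (nat_lit 200502) (.node (nat_lit 199532) (.node (nat_lit 199007) (.node (nat_lit 198706) (.leaf (nat_lit 150)) (.node (nat_lit 198913) (.leaf (nat_lit 30)) (.leaf (nat_lit 360)))) (.node (nat_lit 199468) (.leaf (nat_lit 1080)) (.node (nat_lit 199527) (.leaf (nat_lit 360)) (.leaf (nat_lit 30)))))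 (.node (nat_lit 200019) (.node (nat_lit 199722) (.leaf (nat_lit 1080)) (.node (nat_lit 199742) (.leaf (nat_lit 30)) (.leaf (nat_lit 1080)))) (.node (nat_lit 200304) (.node (nat_lit 200103) (.leaf (nat_lit 270)) (.leaf (nat_lit 360))) (.node (nat_lit 200328) (.leaf (nat_lit 126)) (.leaf (nat_lit 360)))))) (.node (nat_lit 201489) (.node (nat_lit 200994) (.node (nat_lit 200598) (.leaf (nat_lit 1086)) (.node (nat_lit 200769) (.leaf (nat_lit 360)) (.leaf (nat_lit 36)))) (.node (nat_lit 201264) (.node (nat_lit 201246) (.leaf (nat_lit 1080)) (.leaf (nat_lit 360))) (.node (nat_lit 201456) (.leaf (nat_lit 1080)) (.leaf (nat_lit 96))))) (.node (nat_lit 201666) (.node (nat_lit 201495) (.leaf (nat_lit 1080)) (.node (nat_lit 201544) (.leaf (nat_lit 360)) (.leaf (nat_lit 66)))) (.node (nat_lit 201741) (.node (nat_lit 201739) (.leaf (nat_lit 150)) (.leaf (nat_lit 30))) (.node (nat_lit 201860) (.leaf (nat_lit 360)) (.leaf (nat_lit 1080))))))))) (.node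 (nat_lit 209217) (.node (nat_lit 205266) (.node (nat_lit 203889) (.node (nat_lit 202519) (.node (nat_lit 202270) (.node (nat_lit 202085) (.leaf (nat_lit 360)) (.node (nat_lit 202191) (.leaf (nat_lit 0)) (.leaf (nat_lit 270)))) (.node (nat_lit 202299) (.leaf (nat_lit 0)) (.node (nat_lit 202355) (.leaf (nat_lit 360)) (.leaf (nat_lit 1080))))) (.node (nat_lit 203367) (.node (nat_lit 202569) (.leaf (nat_lit 60)) (.node (nat_lit 203252) (.leaf (nat_lit 360)) (.leaf (nat_lit 1080)))) (.node (nat_lit 203549) (.node (nat_lit 203522) (.leaf (nat_lit 6)) (.leaf (nat_lit 1080))) (.node (nat_lit 203747) (.leaf (nat_lit 60)) (.leaf (nat_lit 1080)))))) (.node (nat_lit 204339) (.node (nat_lit 204058) (.node (nat_lit 204014) (.leaf (nat_lit 36)) (.node (nat_lit 204031) (.leaf (nat_lit 150)) (.leaf (nat_lit 1080)))) (.node (nat_lit 204299) (.leaf (nat_lit 360)) (.node (nat_lit 204316) (.leaf (nat_lit 44)) (.leaf (nat_lit 1080))))) (.node (nat_lit 204763)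 (.node (nat_lit 204402) (.leaf (nat_lit 30)) (.node (nat_lit 204582) (.leaf (nat_lit 270)) (.leaf (nat_lit 60)))) (.node (nat_lit 204879) (.node (nat_lit 204781) (.leaf (nat_lit 360)) (.leaf (nat_lit 1080))) (.node (nat_lit 205063) (.leaf (nat_lit 150)) (.leaf (nat_lit 360))))))) (.node (nat_lit 207883) (.node (nat_lit 206095) (.node (nat_lit 205806) (.node (nat_lit 205345) (.leaf (nat_lit 36)) (.node (nat_lit 205645) (.leaf (nat_lit 1080)) (.leaf (nat_lit 72)))) (.node (nat_lit 205870) (.leaf (nat_lit 150)) (.node (nat_lit 205896) (.leaf (nat_lit 187)) (.leaf (nat_lit 360))))) (.node (nat_lit 207037) (.node (nat_lit 206140) (.leaf (nat_lit 1080)) (.node (nat_lit 206256) (.leaf (nat_lit 60)) (.leaf (nat_lit 270)))) (.node (nat_lit 207477) (.node (nat_lit 207374) (.leaf (nat_lit 1080)) (.leaf (nat_lit 60))) (.node (nat_lit 207532) (.leaf (nat_lit 270)) (.leaf (nat_lit 1080)))))) (.node (nat_lit 208351) (.node (nat_lit 208154) (.node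 (nat_lit 207901) (.leaf (nat_lit 360)) (.node (nat_lit 207939) (.leaf (nat_lit 1080)) (.leaf (nat_lit 120)))) (.node (nat_lit 208239) (.node (nat_lit 208167) (.leaf (nat_lit 150)) (.leaf (nat_lit 140))) (.node (nat_lit 208349) (.leaf (nat_lit 120)) (.leaf (nat_lit 44))))) (.node (nat_lit 208918) (.node (nat_lit 208722) (.leaf (nat_lit 1080)) (.node (nat_lit 208891) (.leaf (nat_lit 30)) (.leaf (nat_lit 1080)))) (.node (nat_lit 208992) (.node (nat_lit 208944) (.leaf (nat_lit 360)) (.leaf (nat_lit 120))) (.node (nat_lit 209098) (.leaf (nat_lit 126)) (.leaf (nat_lit 360)))))))) (.node (nat_lit 212163) (.node (nat_lit 210366) (.node (nat_lit 209671) (.node (nat_lit 209470) (.node (nat_lit 209226) (.leaf (nat_lit 1110)) (.node (nat_lit 209391) (.leaf (nat_lit 360)) (.leaf (nat_lit 270)))) (.node (nat_lit 209487) (.leaf (nat_lit 187)) (.node (nat_lit 209586) (.leaf (nat_lit 1110)) (.leaf (nat_lit 270))))) (.node (nat_lit 209995) (.node (nat_lit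 209676) (.leaf (nat_lit 120)) (.node (nat_lit 209689) (.leaf (nat_lit 360)) (.leaf (nat_lit 120)))) (.node (nat_lit 210205) (.node (nat_lit 210184) (.leaf (nat_lit 30)) (.leaf (nat_lit 120))) (.node (nat_lit 210216) (.leaf (nat_lit 270)) (.leaf (nat_lit 360)))))) (.node (nat_lit 210931) (.node (nat_lit 210654) (.node (nat_lit 210384) (.leaf (nat_lit 156)) (.node (nat_lit 210501) (.leaf (nat_lit 1080)) (.leaf (nat_lit 360)))) (.node (nat_lit 210711) (.leaf (nat_lit 1080)) (.node (nat_lit 210879) (.leaf (nat_lit 360)) (.leaf (nat_lit 1080))))) (.node (nat_lit 211542) (.node (nat_lit 211236) (.leaf (nat_lit 120)) (.node (nat_lit 211357) (.leaf (nat_lit 360)) (.leaf (nat_lit 1080)))) (.node (nat_lit 211878) (.node (nat_lit 211642) (.leaf (nat_lit 31)) (.leaf (nat_lit 1080))) (.node (nat_lit 211951) (.leaf (nat_lit 360)) (.leaf (nat_lit 1080))))))) (.node (nat_lit 214006) (.node (nat_lit 212956) (.node (nat_lit 212517) (.node (nat_lit 212251)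 (.leaf (nat_lit 360)) (.node (nat_lit 212322) (.leaf (nat_lit 1080)) (.leaf (nat_lit 150)))) (.node (nat_lit 212628) (.leaf (nat_lit 30)) (.node (nat_lit 212817) (.leaf (nat_lit 360)) (.leaf (nat_lit 1200))))) (.node (nat_lit 213580) (.node (nat_lit 213291) (.leaf (nat_lit 1080)) (.node (nat_lit 213342) (.leaf (nat_lit 360)) (.leaf (nat_lit 1200)))) (.node (nat_lit 213811) (.node (nat_lit 213790) (.leaf (nat_lit 96)) (.leaf (nat_lit 30))) (.node (nat_lit 213816) (.leaf (nat_lit 1320)) (.leaf (nat_lit 360)))))) (.node (nat_lit 214721) (.node (nat_lit 214311) (.node (nat_lit 214026) (.leaf (nat_lit 1320)) (.node (nat_lit 214239) (.leaf (nat_lit 360)) (.leaf (nat_lit 1080)))) (.node (nat_lit 214511) (.node (nat_lit 214315) (.leaf (nat_lit 360)) (.leaf (nat_lit 60))) (.node (nat_lit 214704) (.leaf (nat_lit 360)) (.leaf (nat_lit 1080))))) (.node (nat_lit 214957) (.node (nat_lit 214786) (.leaf (nat_lit 360)) (.node (nat_lit 214851) (.leaf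 (nat_lit 1320)) (.leaf (nat_lit 360)))) (.node (nat_lit 215242) (.node (nat_lit 215094) (.leaf (nat_lit 1080)) (.leaf (nat_lit 360))) (.node (nat_lit 215278) (.leaf (nat_lit 1080)) (.leaf (nat_lit 360)))))))))))))
noncomputable def NQ_soc_F : Fm := (.all NQ_L (.or (.qf (.eq (.v (nat_lit 0)) .one)) (.exF NQ_L (fun cs => NQ_soc_t1.find (Nat.mod (nth (nat_lit 0) cs (nat_lit 0)) (nat_lit 215482))) (.exF NQ_L (fun cs => NQ_soc_t0.find (Nat.mod (Nat.add (nth (nat_lit 0) cs (nat_lit 0)) (Nat.mul (nat_lit 7919) (nth (nat_lit 0) cs (nat_lit 1)))) (nat_lit 296714))) (.qf (.or (.eq (.mul (.mul (.v (nat_lit 0)) (.v (nat_lit 2))) (.inv (.v (nat_lit 0)))) (.v (nat_lit 3))) (.or (.eq (.mul (.mul (.v (nat_lit 0)) (.v (nat_lit 2))) (.inv (.v (nat_lit 0)))) (.v (nat_lit 10))) (.or (.eq (.mul (.mul (.v (nat_lit 0)) (.mul (.mul (.mul (.v (nat_lit 2)) (.v (nat_lit 1))) (.inv (.v (nat_lit 2)))) (.inv (.v (nat_lit 1))))) (.inv (.v (nat_lit 0)))) (.v (nat_lit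 3))) (.or (.eq (.mul (.mul (.v (nat_lit 0)) (.mul (.mul (.mul (.v (nat_lit 2)) (.v (nat_lit 1))) (.inv (.v (nat_lit 2)))) (.inv (.v (nat_lit 1))))) (.inv (.v (nat_lit 0)))) (.v (nat_lit 10))) (.or (.eq (.mul (.mul (.mul (.mul (.mul (.mul (.v (nat_lit 2)) (.v (nat_lit 1))) (.inv (.v (nat_lit 2)))) (.inv (.v (nat_lit 1)))) (.v (nat_lit 0))) (.inv (.mul (.mul (.mul (.v (nat_lit 2)) (.v (nat_lit 1))) (.inv (.v (nat_lit 2)))) (.inv (.v (nat_lit 1)))))) (.inv (.v (nat_lit 0)))) (.v (nat_lit 3))) (.eq (.mul (.mul (.mul (.mul (.mul (.mul (.v (nat_lit 2)) (.v (nat_lit 1))) (.inv (.v (nat_lit 2)))) (.inv (.v (nat_lit 1)))) (.v (nat_lit 0))) (.inv (.mul (.mul (.mul (.v (nat_lit 2)) (.v (nat_lit 1))) (.inv (.v (nat_lit 2)))) (.inv (.v (nat_lit 1)))))) (.inv (.v (nat_lit 0)))) (.v (nat_lit 10)))))))))))))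
theorem NQ_soc_chk : Fm.chk NQ_o NQ_soc_F NQ_cs = true := by decide +kernel
theorem NQ_soc {G : Type*} [Group G] {R : ℕ → G → Prop} {a a_i b b_i r r_i w e e_i d : G} {H : Subgroup G}
    (M : Mdl NQ_o NQ_cs NQ_L R [a, a_i, b, b_i, r, r_i, w, e, e_i, d] H) :
    ∀ y_ ∈ H, y_ = 1 ∨ (∃ q_ ∈ H, ∃ k_ ∈ H, k_ * y_ * k_⁻¹ = a ∨ k_ * y_ * k_⁻¹ = e ∨ k_ * ⁅y_, q_⁆ * k_⁻¹ = a ∨ k_ * ⁅y_, q_⁆ * k_⁻¹ = e ∨ ⁅⁅y_, q_⁆, k_⁆ = a ∨ ⁅⁅y_, q_⁆, k_⁆ = e) :=
  have h : ∀ y_, InL NQ_o R NQ_L y_ → y_ = 1 ∨ (Good NQ_o R NQ_L → prods NQ_o NQ_L NQ_o.one ≠ [] → ∃ q_, InL NQ_o R NQ_L q_ ∧ (Good NQ_o R NQ_L → prods NQ_o NQ_L NQ_o.one ≠ [] → ∃ k_, InL NQ_o R NQ_L k_ ∧ (k_ * y_ * k_⁻¹ = a ∨ k_ * y_ * k_⁻¹ = e ∨ k_ * ⁅y_, q_⁆ * k_⁻¹ = a ∨ k_ * ⁅y_, q_⁆ * k_⁻¹ = e ∨ ⁅⁅y_, q_⁆, k_⁆ = a ∨ ⁅⁅y_, q_⁆, k_⁆ = e))) :=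
    Fm.sound M.μ NQ_soc_F NQ_soc_chk M.reps
  (fun y_ h0 => (Or.imp (fun h1 => h1) (fun h1 => (Exists.imp (fun q_ h2 => ⟨M.H.iff.1 h2.1, (Exists.imp (fun k_ h3 => ⟨M.H.iff.1 h3.1, h3.2⟩) (h2.2 M.H.good M.H.ne))⟩) (h1 M.H.good M.H.ne))) (h y_ (M.H.iff.2 h0))))
theorem NQ_mdl {G : Type*} [Group G] {a b r w e d : G}
    (h : KA a b r w)
    (k : NQ a b e r d w)
    (n1 : a ≠ 1) (n2 : e ≠ 1) :
    ∃ R, Mdl NQ_o NQ_cs NQ_L R [a, a⁻¹, b, b⁻¹, r, r⁻¹, w, e, e⁻¹, d] (sp [a, a⁻¹, b, b⁻¹, r, r⁻¹, w, e, e⁻¹, d]) ∧ #(sp [a, a⁻¹, b, b⁻¹, r, r⁻¹, w, e, e⁻¹, d]) = 2160 :=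
  mdl_of NQ_P rfl (NQ_r h k) (.v (nat_lit 0)) (.v (nat_lit 7)) n1 n2
    fun _ ms _ M hl => match ms, M, (hl : ms.length = 10) with
      | [_, _, _, _, _, _, _, _, _, _], M, _ => NQ_soc M
noncomputable def NX_cs : List ℕ := [(nat_lit 0x876543021), (nat_lit 0x876543102), (nat_lit 0x876354210), (nat_lit 0x876435210), (nat_lit 0x876210453), (nat_lit 0x876120543), (nat_lit 0x876540123), (nat_lit 0x687543210), (nat_lit 0x768543210), (nat_lit 0x786453210), (nat_lit 0x876453120), (nat_lit 0x786120453), (nat_lit 0x876213540), (nat_lit 0x876450213), (nat_lit 0x876240513), (nat_lit 0x876541032)]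
theorem NX_ext {G : Type*} [Group G] {R : ℕ → G → Prop} {a b r w e d : G} {H : Subgroup G}
    (M : Mdl NQ_o NQ_cs NQ_L R [a, a⁻¹, b, b⁻¹, r, r⁻¹, w, e, e⁻¹, d] H) :
    Mdl NQ_o NX_cs NQ_L R [a, a⁻¹, b, b⁻¹, r, r⁻¹, w, e, e⁻¹, d, r * r, r * d, r * w, w * (r * r), a * b * (r * w) * (a * b)⁻¹, a * w * a⁻¹] H :=
  ⟨M.μ, M.reps.tms M.μ.1 [(.v (nat_lit 0)), (.v (nat_lit 1)), (.v (nat_lit 2)), (.v (nat_lit 3)), (.v (nat_lit 4)), (.v (nat_lit 5)), (.v (nat_lit 6)), (.v (nat_lit 7)), (.v (nat_lit 8)), (.v (nat_lit 9)), (.mul (.v (nat_lit 4)) (.v (nat_lit 4))), (.mul (.v (nat_lit 4)) (.v (nat_lit 9))), (.mul (.v (nat_lit 4)) (.v (nat_lit 6))), (.mul (.v (nat_lit 6)) (.mul (.v (nat_lit 4)) (.v (nat_lit 4)))), (.mul (.mul (.mul (.v (nat_lit 0)) (.v (nat_lit 2))) (.mul (.v (nat_lit 4)) (.v (nat_lit 6)))) (.inv (.mul (.v (nat_lit 0)) (.v (nat_lit 2))))), (.mul (.mul (.v (nat_lit 0)) (.v (nat_lit 6))) (.inv (.v (nat_lit 0))))] (cs' := NX_cs) (by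 decide +kernel),
    tms_mem M.le [(.v (nat_lit 0)), (.v (nat_lit 1)), (.v (nat_lit 2)), (.v (nat_lit 3)), (.v (nat_lit 4)), (.v (nat_lit 5)), (.v (nat_lit 6)), (.v (nat_lit 7)), (.v (nat_lit 8)), (.v (nat_lit 9)), (.mul (.v (nat_lit 4)) (.v (nat_lit 4))), (.mul (.v (nat_lit 4)) (.v (nat_lit 9))), (.mul (.v (nat_lit 4)) (.v (nat_lit 6))), (.mul (.v (nat_lit 6)) (.mul (.v (nat_lit 4)) (.v (nat_lit 4)))), (.mul (.mul (.mul (.v (nat_lit 0)) (.v (nat_lit 2))) (.mul (.v (nat_lit 4)) (.v (nat_lit 6)))) (.inv (.mul (.v (nat_lit 0)) (.v (nat_lit 2))))), (.mul (.mul (.v (nat_lit 0)) (.v (nat_lit 6))) (.inv (.v (nat_lit 0))))], M.H⟩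
noncomputable def NX_r_f_F : Fm := (.qf (.and (.eq (.pw (.v (nat_lit 0)) (nat_lit 3)) .one) (.and (.eq (.pw (.v (nat_lit 2)) (nat_lit 3)) .one) (.and (.eq (.mul (.v (nat_lit 0)) (.v (nat_lit 2))) (.mul (.v (nat_lit 2)) (.v (nat_lit 0)))) (.and (.eq (.mul (.mul (.v (nat_lit 4)) (.v (nat_lit 0))) (.inv (.v (nat_lit 4)))) (.inv (.v (nat_lit 2)))) (.and (.eq (.mul (.mul (.v (nat_lit 4)) (.v (nat_lit 2))) (.inv (.v (nat_lit 4)))) (.v (nat_lit 0))) (.and (.eq (.pw (.v (nat_lit 4)) (nat_lit 4)) .one) (.and (.eq (.mul (.v (nat_lit 6)) (.v (nat_lit 6))) .one) (.and (.eq (.pw (.mul (.v (nat_lit 6)) (.v (nat_lit 4))) (nat_lit 2)) .one) (.and (.eq (.pw (.mul (.v (nat_lit 6)) (.v (nat_lit 0))) (nat_lit 3)) .one) (.eq (.pw (.mul (.mul (.v (nat_lit 6)) (.v (nat_lit 4))) (.v (nat_lit 0))) (nat_lit 5)) .one)))))))))))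
theorem NX_r_f_chk : Fm.chk NQ_o NX_r_f_F NX_cs = true := by decide +kernel
theorem NX_r_f {G : Type*} [Group G] {R : ℕ → G → Prop} {a b r w e d c s v u p o : G} {H : Subgroup G}
    (M : Mdl NQ_o NX_cs NQ_L R [a, a⁻¹, b, b⁻¹, r, r⁻¹, w, e, e⁻¹, d, c, s, v, u, p, o] H) :
    a ^ 3 = 1 ∧ b ^ 3 = 1 ∧ a * b = b * a ∧ r * a * r⁻¹ = b⁻¹ ∧ r * b * r⁻¹ = a ∧ r ^ 4 = 1 ∧ w * w = 1 ∧ (w * r) ^ 2 = 1 ∧ (w * a) ^ 3 = 1 ∧ (w * r * a) ^ 5 = 1 :=
  Fm.sound M.μ NX_r_f_F NX_r_f_chk M.reps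
theorem NX_r {G : Type*} [Group G] {R : ℕ → G → Prop} {a b r w e d c s v u p o : G} {H : Subgroup G}
    (M : Mdl NQ_o NX_cs NQ_L R [a, a⁻¹, b, b⁻¹, r, r⁻¹, w, e, e⁻¹, d, c, s, v, u, p, o] H) :
    KA a b r w :=
  have h := NX_r_f M
  ⟨h.1, h.2.1, h.2.2.1, h.2.2.2.1, h.2.2.2.2.1, h.2.2.2.2.2.1, h.2.2.2.2.2.2.1, h.2.2.2.2.2.2.2.1, h.2.2.2.2.2.2.2.2.1, h.2.2.2.2.2.2.2.2.2, trivial⟩
noncomputable def NX_q_f_F : Fm := (.qf (.and (.eq (.pw (.v (nat_lit 7)) (nat_lit 3)) .one) (.and (.eq (.mul (.v (nat_lit 7)) (.v (nat_lit 0))) (.mul (.v (nat_lit 0)) (.v (nat_lit 7)))) (.and (.eq (.mul (.v (nat_lit 7)) (.v (nat_lit 2))) (.mul (.v (nat_lit 2)) (.v (nat_lit 7)))) (.and (.eq (.mul (.v (nat_lit 7)) (.v (nat_lit 4))) (.mul (.v (nat_lit 4)) (.v (nat_lit 7)))) (.and (.eq (.mul (.v (nat_lit 7)) (.v (nat_lit 6))) (.mul (.v (nat_lit 6)) (.v (nat_lit 7)))) (.and (.eq (.mul (.v (nat_lit 9)) (.v (nat_lit 9))) .one) (.and (.eq (.mul (.mul (.v (nat_lit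 9)) (.v (nat_lit 7))) (.inv (.v (nat_lit 9)))) (.inv (.v (nat_lit 7)))) (.and (.eq (.mul (.v (nat_lit 9)) (.v (nat_lit 0))) (.mul (.v (nat_lit 0)) (.v (nat_lit 9)))) (.and (.eq (.mul (.mul (.v (nat_lit 9)) (.v (nat_lit 2))) (.inv (.v (nat_lit 9)))) (.inv (.v (nat_lit 2)))) (.and (.eq (.mul (.mul (.v (nat_lit 9)) (.v (nat_lit 4))) (.inv (.v (nat_lit 9)))) (.inv (.v (nat_lit 4)))) (.eq (.mul (.v (nat_lit 9)) (.v (nat_lit 6))) (.mul (.v (nat_lit 6)) (.v (nat_lit 9)))))))))))))))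
theorem NX_q_f_chk : Fm.chk NQ_o NX_q_f_F NX_cs = true := by decide +kernel
theorem NX_q_f {G : Type*} [Group G] {R : ℕ → G → Prop} {a b r w e d c s v u p o : G} {H : Subgroup G}
    (M : Mdl NQ_o NX_cs NQ_L R [a, a⁻¹, b, b⁻¹, r, r⁻¹, w, e, e⁻¹, d, c, s, v, u, p, o] H) :
    e ^ 3 = 1 ∧ e * a = a * e ∧ e * b = b * e ∧ e * r = r * e ∧ e * w = w * e ∧ d * d = 1 ∧ d * e * d⁻¹ = e⁻¹ ∧ d * a = a * d ∧ d * b * d⁻¹ = b⁻¹ ∧ d * r * d⁻¹ = r⁻¹ ∧ d * w = w * d :=
  Fm.sound M.μ NX_q_f_F NX_q_f_chk M.reps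
theorem NX_q {G : Type*} [Group G] {R : ℕ → G → Prop} {a b r w e d c s v u p o : G} {H : Subgroup G}
    (M : Mdl NQ_o NX_cs NQ_L R [a, a⁻¹, b, b⁻¹, r, r⁻¹, w, e, e⁻¹, d, c, s, v, u, p, o] H) :
    NQ a b e r d w :=
  have h := NX_q_f M
  ⟨h.1, h.2.1, h.2.2.1, h.2.2.2.1, h.2.2.2.2.1, h.2.2.2.2.2.1, h.2.2.2.2.2.2.1, h.2.2.2.2.2.2.2.1, h.2.2.2.2.2.2.2.2.1, h.2.2.2.2.2.2.2.2.2.1, h.2.2.2.2.2.2.2.2.2.2, trivial⟩
noncomputable def NX_lV : List ℕ := [(nat_lit 0x876543210), (nat_lit 0x876213540), (nat_lit 0x876240513), (nat_lit 0x876510243)]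
noncomputable def NX_lV_W : List (List ℕ) := [[],
  [(nat_lit 0)],
  [(nat_lit 1)],
  [(nat_lit 0), (nat_lit 1)]]
noncomputable def NX_lV_h (c : ℕ) : ℕ := Nat.mod c (nat_lit 11)
theorem NX_lV_E {G : Type*} [Group G] {R : ℕ → G → Prop} {a b r w e d c s v u p o : G} {H : Subgroup G}
    (M : Mdl NQ_o NX_cs NQ_L R [a, a⁻¹, b, b⁻¹, r, r⁻¹, w, e, e⁻¹, d, c, s, v, u, p, o] H) :
    EnumS R NX_lV (sp [v, p]) :=
  enumS_sp M.μ.1 (M.reps.tms M.μ.1 [(.v (nat_lit 12)), (.v (nat_lit 14))] (cs' := [(nat_lit 0x876213540), (nat_lit 0x876240513)]) (by decide +kernel))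
    (Ws := NX_lV_W) (by decide +kernel) (by decide +kernel)
theorem NX_lV_c {G : Type*} [Group G] {R : ℕ → G → Prop} {a b r w e d c s v u p o : G} {H : Subgroup G}
    (M : Mdl NQ_o NX_cs NQ_L R [a, a⁻¹, b, b⁻¹, r, r⁻¹, w, e, e⁻¹, d, c, s, v, u, p, o] H) :
    #(sp [v, p]) = 4 :=
  (NX_lV_E M).card M.μ (h := NX_lV_h) (by decide +kernel)
noncomputable def NX_lX : List ℕ := [(nat_lit 0x876543210), (nat_lit 0x876213540), (nat_lit 0x876240513), (nat_lit 0x687543210), (nat_lit 0x876510243), (nat_lit 0x687213540), (nat_lit 0x687240513), (nat_lit 0x768543210), (nat_lit 0x687510243), (nat_lit 0x768213540), (nat_lit 0x768240513), (nat_lit 0x768510243)]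
noncomputable def NX_lX_W : List (List ℕ) := [[],
  [(nat_lit 0)],
  [(nat_lit 1)],
  [(nat_lit 2)],
  [(nat_lit 0), (nat_lit 1)],
  [(nat_lit 0), (nat_lit 2)],
  [(nat_lit 1), (nat_lit 2)],
  [(nat_lit 2), (nat_lit 2)],
  [(nat_lit 0), (nat_lit 1), (nat_lit 2)],
  [(nat_lit 0), (nat_lit 2), (nat_lit 2)],
  [(nat_lit 1), (nat_lit 2), (nat_lit 2)],
  [(nat_lit 0), (nat_lit 1), (nat_lit 2), (nat_lit 2)]]
noncomputable def NX_lX_h (c : ℕ) : ℕ := Nat.mod c (nat_lit 46)
theorem NX_lX_E {G : Type*} [Group G] {R : ℕ → G → Prop} {a b r w e d c s v u p o : G} {H : Subgroup G}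
    (M : Mdl NQ_o NX_cs NQ_L R [a, a⁻¹, b, b⁻¹, r, r⁻¹, w, e, e⁻¹, d, c, s, v, u, p, o] H) :
    EnumS R NX_lX (sp [v, p, e]) :=
  enumS_sp M.μ.1 (M.reps.tms M.μ.1 [(.v (nat_lit 12)), (.v (nat_lit 14)), (.v (nat_lit 7))] (cs' := [(nat_lit 0x876213540), (nat_lit 0x876240513), (nat_lit 0x687543210)]) (by decide +kernel))
    (Ws := NX_lX_W) (by decide +kernel) (by decide +kernel)
theorem NX_lX_c {G : Type*} [Group G] {R : ℕ → G → Prop} {a b r w e d c s v u p o : G} {H : Subgroup G}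
    (M : Mdl NQ_o NX_cs NQ_L R [a, a⁻¹, b, b⁻¹, r, r⁻¹, w, e, e⁻¹, d, c, s, v, u, p, o] H) :
    #(sp [v, p, e]) = 12 :=
  (NX_lX_E M).card M.μ (h := NX_lX_h) (by decide +kernel)
noncomputable def NX_lW : List ℕ := [(nat_lit 0x876543210), (nat_lit 0x876540123), (nat_lit 0x876541032), (nat_lit 0x876542301)]
noncomputable def NX_lW_W : List (List ℕ) := [[],
  [(nat_lit 0)],
  [(nat_lit 1)],
  [(nat_lit 0), (nat_lit 1)]]
noncomputable def NX_lW_h (c : ℕ) : ℕ := Nat.mod c (nat_lit 7)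
theorem NX_lW_E {G : Type*} [Group G] {R : ℕ → G → Prop} {a b r w e d c s v u p o : G} {H : Subgroup G}
    (M : Mdl NQ_o NX_cs NQ_L R [a, a⁻¹, b, b⁻¹, r, r⁻¹, w, e, e⁻¹, d, c, s, v, u, p, o] H) :
    EnumS R NX_lW (sp [w, o]) :=
  enumS_sp M.μ.1 (M.reps.tms M.μ.1 [(.v (nat_lit 6)), (.v (nat_lit 15))] (cs' := [(nat_lit 0x876540123), (nat_lit 0x876541032)]) (by decide +kernel))
    (Ws := NX_lW_W) (by decide +kernel) (by decide +kernel)
theorem NX_lW_c {G : Type*} [Group G] {R : ℕ → G → Prop} {a b r w e d c s v u p o : G} {H : Subgroup G}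
    (M : Mdl NQ_o NX_cs NQ_L R [a, a⁻¹, b, b⁻¹, r, r⁻¹, w, e, e⁻¹, d, c, s, v, u, p, o] H) :
    #(sp [w, o]) = 4 :=
  (NX_lW_E M).card M.μ (h := NX_lW_h) (by decide +kernel)
noncomputable def NX_lZ : List ℕ := [(nat_lit 0x876543210), (nat_lit 0x876540123), (nat_lit 0x876541032), (nat_lit 0x687543210), (nat_lit 0x876542301), (nat_lit 0x687540123), (nat_lit 0x687541032), (nat_lit 0x768543210), (nat_lit 0x687542301), (nat_lit 0x768540123), (nat_lit 0x768541032), (nat_lit 0x768542301)]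
noncomputable def NX_lZ_W : List (List ℕ) := [[],
  [(nat_lit 0)],
  [(nat_lit 1)],
  [(nat_lit 2)],
  [(nat_lit 0), (nat_lit 1)],
  [(nat_lit 0), (nat_lit 2)],
  [(nat_lit 1), (nat_lit 2)],
  [(nat_lit 2), (nat_lit 2)],
  [(nat_lit 0), (nat_lit 1), (nat_lit 2)],
  [(nat_lit 0), (nat_lit 2), (nat_lit 2)],
  [(nat_lit 1), (nat_lit 2), (nat_lit 2)],
  [(nat_lit 0), (nat_lit 1), (nat_lit 2), (nat_lit 2)]]
noncomputable def NX_lZ_h (c : ℕ) : ℕ := Nat.mod c (nat_lit 29)
theorem NX_lZ_E {G : Type*} [Group G] {R : ℕ → G → Prop} {a b r w e d c s v u p o : G} {H : Subgroup G}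
    (M : Mdl NQ_o NX_cs NQ_L R [a, a⁻¹, b, b⁻¹, r, r⁻¹, w, e, e⁻¹, d, c, s, v, u, p, o] H) :
    EnumS R NX_lZ (sp [w, o, e]) :=
  enumS_sp M.μ.1 (M.reps.tms M.μ.1 [(.v (nat_lit 6)), (.v (nat_lit 15)), (.v (nat_lit 7))] (cs' := [(nat_lit 0x876540123), (nat_lit 0x876541032), (nat_lit 0x687543210)]) (by decide +kernel))
    (Ws := NX_lZ_W) (by decide +kernel) (by decide +kernel)
theorem NX_lZ_c {G : Type*} [Group G] {R : ℕ → G → Prop} {a b r w e d c s v u p o : G} {H : Subgroup G}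
    (M : Mdl NQ_o NX_cs NQ_L R [a, a⁻¹, b, b⁻¹, r, r⁻¹, w, e, e⁻¹, d, c, s, v, u, p, o] H) :
    #(sp [w, o, e]) = 12 :=
  (NX_lZ_E M).card M.μ (h := NX_lZ_h) (by decide +kernel)
noncomputable def NX_lB : List ℕ := [(nat_lit 0x876543210), (nat_lit 0x876354210), (nat_lit 0x876453120), (nat_lit 0x876435210), (nat_lit 0x876345120), (nat_lit 0x876534120)]
noncomputable def NX_lB_W : List (List ℕ) := [[],
  [(nat_lit 0)],
  [(nat_lit 1)],
  [(nat_lit 0), (nat_lit 0)],
  [(nat_lit 0), (nat_lit 1)],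
  [(nat_lit 1), (nat_lit 0)]]
noncomputable def NX_lB_h (c : ℕ) : ℕ := Nat.mod c (nat_lit 13)
theorem NX_lB_E {G : Type*} [Group G] {R : ℕ → G → Prop} {a b r w e d c s v u p o : G} {H : Subgroup G}
    (M : Mdl NQ_o NX_cs NQ_L R [a, a⁻¹, b, b⁻¹, r, r⁻¹, w, e, e⁻¹, d, c, s, v, u, p, o] H) :
    EnumS R NX_lB (sp [b, c]) :=
  enumS_sp M.μ.1 (M.reps.tms M.μ.1 [(.v (nat_lit 2)), (.v (nat_lit 10))] (cs' := [(nat_lit 0x876354210), (nat_lit 0x876453120)]) (by decide +kernel))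
    (Ws := NX_lB_W) (by decide +kernel) (by decide +kernel)
theorem NX_lB_c {G : Type*} [Group G] {R : ℕ → G → Prop} {a b r w e d c s v u p o : G} {H : Subgroup G}
    (M : Mdl NQ_o NX_cs NQ_L R [a, a⁻¹, b, b⁻¹, r, r⁻¹, w, e, e⁻¹, d, c, s, v, u, p, o] H) :
    #(sp [b, c]) = 6 :=
  (NX_lB_E M).card M.μ (h := NX_lB_h) (by decide +kernel)
noncomputable def NX_lY : List ℕ := [(nat_lit 0x876543210), (nat_lit 0x876450213), (nat_lit 0x876305214), (nat_lit 0x876034215)]
noncomputable def NX_lY_W : List (List ℕ) := [[],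
  [(nat_lit 0)],
  [(nat_lit 1)],
  [(nat_lit 0), (nat_lit 1)]]
noncomputable def NX_lY_h (c : ℕ) : ℕ := Nat.mod c (nat_lit 8)
theorem NX_lY_E {G : Type*} [Group G] {R : ℕ → G → Prop} {a b r w e d c s v u p o : G} {H : Subgroup G}
    (M : Mdl NQ_o NX_cs NQ_L R [a, a⁻¹, b, b⁻¹, r, r⁻¹, w, e, e⁻¹, d, c, s, v, u, p, o] H) :
    EnumS R NX_lY (sp [u, b * u * b⁻¹]) :=
  enumS_sp M.μ.1 (M.reps.tms M.μ.1 [(.v (nat_lit 13)), (.mul (.mul (.v (nat_lit 2)) (.v (nat_lit 13))) (.inv (.v (nat_lit 2))))] (cs' := [(nat_lit 0x876450213), (nat_lit 0x876305214)]) (by decide +kernel))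
    (Ws := NX_lY_W) (by decide +kernel) (by decide +kernel)
theorem NX_lY_c {G : Type*} [Group G] {R : ℕ → G → Prop} {a b r w e d c s v u p o : G} {H : Subgroup G}
    (M : Mdl NQ_o NX_cs NQ_L R [a, a⁻¹, b, b⁻¹, r, r⁻¹, w, e, e⁻¹, d, c, s, v, u, p, o] H) :
    #(sp [u, b * u * b⁻¹]) = 4 :=
  (NX_lY_E M).card M.μ (h := NX_lY_h) (by decide +kernel)
noncomputable def NX_lT : List ℕ := [(nat_lit 0x876543210), (nat_lit 0x876210453), (nat_lit 0x876540123), (nat_lit 0x786453210), (nat_lit 0x876453120), (nat_lit 0x876123450), (nat_lit 0x786210543), (nat_lit 0x876213540), (nat_lit 0x786450123), (nat_lit 0x786120453), (nat_lit 0x876120543), (nat_lit 0x876450213), (nat_lit 0x786543120), (nat_lit 0x786123540), (nat_lit 0x786213450), (nat_lit 0x786540213)]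
noncomputable def NX_lT_W : List (List ℕ) := [[],
  [(nat_lit 0)],
  [(nat_lit 1)],
  [(nat_lit 2)],
  [(nat_lit 0), (nat_lit 0)],
  [(nat_lit 0), (nat_lit 1)],
  [(nat_lit 0), (nat_lit 2)],
  [(nat_lit 1), (nat_lit 0)],
  [(nat_lit 1), (nat_lit 2)],
  [(nat_lit 2), (nat_lit 0)],
  [(nat_lit 0), (nat_lit 0), (nat_lit 0)],
  [(nat_lit 0), (nat_lit 0), (nat_lit 1)],
  [(nat_lit 0), (nat_lit 0), (nat_lit 2)],
  [(nat_lit 0), (nat_lit 1), (nat_lit 2)],
  [(nat_lit 1), (nat_lit 0), (nat_lit 2)],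
  [(nat_lit 0), (nat_lit 0), (nat_lit 1), (nat_lit 2)]]
noncomputable def NX_lT_h (c : ℕ) : ℕ := Nat.mod c (nat_lit 29)
theorem NX_lT_E {G : Type*} [Group G] {R : ℕ → G → Prop} {a b r w e d c s v u p o : G} {H : Subgroup G}
    (M : Mdl NQ_o NX_cs NQ_L R [a, a⁻¹, b, b⁻¹, r, r⁻¹, w, e, e⁻¹, d, c, s, v, u, p, o] H) :
    EnumS R NX_lT (sp [r, w, d]) :=
  enumS_sp M.μ.1 (M.reps.tms M.μ.1 [(.v (nat_lit 4)), (.v (nat_lit 6)), (.v (nat_lit 9))] (cs' := [(nat_lit 0x876210453), (nat_lit 0x876540123), (nat_lit 0x786453210)]) (by decide +kernel))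
    (Ws := NX_lT_W) (by decide +kernel) (by decide +kernel)
theorem NX_lT_c {G : Type*} [Group G] {R : ℕ → G → Prop} {a b r w e d c s v u p o : G} {H : Subgroup G}
    (M : Mdl NQ_o NX_cs NQ_L R [a, a⁻¹, b, b⁻¹, r, r⁻¹, w, e, e⁻¹, d, c, s, v, u, p, o] H) :
    #(sp [r, w, d]) = 16 :=
  (NX_lT_E M).card M.μ (h := NX_lT_h) (by decide +kernel)
noncomputable def NX_lE : List ℕ := [(nat_lit 0x876543210), (nat_lit 0x786543120), (nat_lit 0x876450213), (nat_lit 0x876305214), (nat_lit 0x786450123), (nat_lit 0x786305124), (nat_lit 0x876034215), (nat_lit 0x786034125)]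
noncomputable def NX_lE_W : List (List ℕ) := [[],
  [(nat_lit 0)],
  [(nat_lit 1)],
  [(nat_lit 2)],
  [(nat_lit 0), (nat_lit 1)],
  [(nat_lit 0), (nat_lit 2)],
  [(nat_lit 1), (nat_lit 2)],
  [(nat_lit 0), (nat_lit 1), (nat_lit 2)]]
noncomputable def NX_lE_h (c : ℕ) : ℕ := Nat.mod c (nat_lit 13)
theorem NX_lE_E {G : Type*} [Group G] {R : ℕ → G → Prop} {a b r w e d c s v u p o : G} {H : Subgroup G}
    (M : Mdl NQ_o NX_cs NQ_L R [a, a⁻¹, b, b⁻¹, r, r⁻¹, w, e, e⁻¹, d, c, s, v, u, p, o] H) :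
    EnumS R NX_lE (sp [c * d, u, b * u * b⁻¹]) :=
  enumS_sp M.μ.1 (M.reps.tms M.μ.1 [(.mul (.v (nat_lit 10)) (.v (nat_lit 9))), (.v (nat_lit 13)), (.mul (.mul (.v (nat_lit 2)) (.v (nat_lit 13))) (.inv (.v (nat_lit 2))))] (cs' := [(nat_lit 0x786543120), (nat_lit 0x876450213), (nat_lit 0x876305214)]) (by decide +kernel))
    (Ws := NX_lE_W) (by decide +kernel) (by decide +kernel)
theorem NX_lE_c {G : Type*} [Group G] {R : ℕ → G → Prop} {a b r w e d c s v u p o : G} {H : Subgroup G}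
    (M : Mdl NQ_o NX_cs NQ_L R [a, a⁻¹, b, b⁻¹, r, r⁻¹, w, e, e⁻¹, d, c, s, v, u, p, o] H) :
    #(sp [c * d, u, b * u * b⁻¹]) = 8 :=
  (NX_lE_E M).card M.μ (h := NX_lE_h) (by decide +kernel)
noncomputable def NX_lQ : List ℕ := [(nat_lit 0x876543210), (nat_lit 0x876453120), (nat_lit 0x876213540), (nat_lit 0x876123450)]
noncomputable def NX_lQ_W : List (List ℕ) := [[],
  [(nat_lit 0)],
  [(nat_lit 1)],
  [(nat_lit 0), (nat_lit 1)]]
noncomputable def NX_lQ_h (c : ℕ) : ℕ := Nat.mod c (nat_lit 11)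
theorem NX_lQ_E {G : Type*} [Group G] {R : ℕ → G → Prop} {a b r w e d c s v u p o : G} {H : Subgroup G}
    (M : Mdl NQ_o NX_cs NQ_L R [a, a⁻¹, b, b⁻¹, r, r⁻¹, w, e, e⁻¹, d, c, s, v, u, p, o] H) :
    EnumS R NX_lQ (sp [c, v]) :=
  enumS_sp M.μ.1 (M.reps.tms M.μ.1 [(.v (nat_lit 10)), (.v (nat_lit 12))] (cs' := [(nat_lit 0x876453120), (nat_lit 0x876213540)]) (by decide +kernel))
    (Ws := NX_lQ_W) (by decide +kernel) (by decide +kernel)
theorem NX_lQ_c {G : Type*} [Group G] {R : ℕ → G → Prop} {a b r w e d c s v u p o : G} {H : Subgroup G}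
    (M : Mdl NQ_o NX_cs NQ_L R [a, a⁻¹, b, b⁻¹, r, r⁻¹, w, e, e⁻¹, d, c, s, v, u, p, o] H) :
    #(sp [c, v]) = 4 :=
  (NX_lQ_E M).card M.μ (h := NX_lQ_h) (by decide +kernel)
noncomputable def NX_df_F : Fm := (.qf (.and (.eq (.v (nat_lit 10)) (.mul (.v (nat_lit 4)) (.v (nat_lit 4)))) (.and (.eq (.v (nat_lit 11)) (.mul (.v (nat_lit 4)) (.v (nat_lit 9)))) (.and (.eq (.v (nat_lit 12)) (.mul (.v (nat_lit 4)) (.v (nat_lit 6)))) (.and (.eq (.v (nat_lit 13)) (.mul (.v (nat_lit 6)) (.v (nat_lit 10)))) (.and (.eq (.v (nat_lit 14)) (.mul (.mul (.mul (.v (nat_lit 0)) (.v (nat_lit 2))) (.v (nat_lit 12))) (.inv (.mul (.v (nat_lit 0)) (.v (nat_lit 2)))))) (.eq (.v (nat_lit 15)) (.mul (.mul (.v (nat_lit 0)) (.v (nat_lit 6))) (.inv (.v (nat_lit 0)))))))))))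
theorem NX_df_chk : Fm.chk NQ_o NX_df_F NX_cs = true := by decide +kernel
theorem NX_df {G : Type*} [Group G] {R : ℕ → G → Prop} {a b r w e d c s v u p o : G} {H : Subgroup G}
    (M : Mdl NQ_o NX_cs NQ_L R [a, a⁻¹, b, b⁻¹, r, r⁻¹, w, e, e⁻¹, d, c, s, v, u, p, o] H) :
    c = r * r ∧ s = r * d ∧ v = r * w ∧ u = w * c ∧ p = a * b * v * (a * b)⁻¹ ∧ o = a * w * a⁻¹ :=
  Fm.sound M.μ NX_df_F NX_df_chk M.reps
noncomputable def NX_V_F : Fm := (.allS NX_lV (.qf (.and (.eq (.mul (.v (nat_lit 0)) (.v (nat_lit 0))) .one) (.and (.eq (.mul (.v (nat_lit 0)) (.v (nat_lit 13))) (.mul (.v (nat_lit 13)) (.v (nat_lit 0)))) (.and (.eq (.mul (.v (nat_lit 0)) (.v (nat_lit 15))) (.mul (.v (nat_lit 15)) (.v (nat_lit 0)))) (.and (.eq (.mul (.v (nat_lit 0)) (.v (nat_lit 8))) (.mul (.v (nat_lit 8)) (.v (nat_lit 0)))) (.mem (.mul (.mul (.mul (.v (nat_lit 1)) (.v (nat_lit 3))) (.v (nat_lit 0))) (.inv (.mul (.v (nat_lit 1)) (.v (nat_lit 3))))) NX_lV)))))))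
theorem NX_V_chk : Fm.chk NQ_o NX_V_F NX_cs = true := by decide +kernel
theorem NX_V {G : Type*} [Group G] {R : ℕ → G → Prop} {a b r w e d c s v u p o : G} {H : Subgroup G}
    (M : Mdl NQ_o NX_cs NQ_L R [a, a⁻¹, b, b⁻¹, r, r⁻¹, w, e, e⁻¹, d, c, s, v, u, p, o] H) :
    ∀ k ∈ sp [v, p], k * k = 1 ∧ k * v = v * k ∧ k * p = p * k ∧ k * e = e * k ∧ a * b * k * (a * b)⁻¹ ∈ sp [v, p] :=
  have h : ∀ k, InS R NX_lV k → k * k = 1 ∧ k * v = v * k ∧ k * p = p * k ∧ k * e = e * k ∧ InS R NX_lV (a * b * k * (a * b)⁻¹) :=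
    Fm.sound M.μ NX_V_F NX_V_chk M.reps
  (fun k h0 => ((and_congr Iff.rfl (and_congr Iff.rfl (and_congr Iff.rfl (and_congr Iff.rfl (NX_lV_E M).iff)))).1 (h k ((NX_lV_E M).iff.2 h0))))
noncomputable def NX_W_F : Fm := (.allS NX_lW (.qf (.and (.eq (.mul (.v (nat_lit 0)) (.v (nat_lit 0))) .one) (.and (.eq (.mul (.v (nat_lit 0)) (.v (nat_lit 7))) (.mul (.v (nat_lit 7)) (.v (nat_lit 0)))) (.and (.eq (.mul (.v (nat_lit 0)) (.v (nat_lit 16))) (.mul (.v (nat_lit 16)) (.v (nat_lit 0)))) (.and (.eq (.mul (.v (nat_lit 0)) (.v (nat_lit 8))) (.mul (.v (nat_lit 8)) (.v (nat_lit 0)))) (.and (.mem (.mul (.mul (.v (nat_lit 1)) (.v (nat_lit 0))) (.inv (.v (nat_lit 1)))) NX_lW) (.eq (.mul (.v (nat_lit 0)) (.v (nat_lit 10))) (.mul (.v (nat_lit 10)) (.v (nat_lit 0)))))))))))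
theorem NX_W_chk : Fm.chk NQ_o NX_W_F NX_cs = true := by decide +kernel
theorem NX_W {G : Type*} [Group G] {R : ℕ → G → Prop} {a b r w e d c s v u p o : G} {H : Subgroup G}
    (M : Mdl NQ_o NX_cs NQ_L R [a, a⁻¹, b, b⁻¹, r, r⁻¹, w, e, e⁻¹, d, c, s, v, u, p, o] H) :
    ∀ k ∈ sp [w, o], k * k = 1 ∧ k * w = w * k ∧ k * o = o * k ∧ k * e = e * k ∧ a * k * a⁻¹ ∈ sp [w, o] ∧ k * d = d * k :=
  have h : ∀ k, InS R NX_lW k → k * k = 1 ∧ k * w = w * k ∧ k * o = o * k ∧ k * e = e * k ∧ InS R NX_lW (a * k * a⁻¹) ∧ k * d = d * k :=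
    Fm.sound M.μ NX_W_F NX_W_chk M.reps
  (fun k h0 => ((and_congr Iff.rfl (and_congr Iff.rfl (and_congr Iff.rfl (and_congr Iff.rfl (and_congr (NX_lW_E M).iff Iff.rfl))))).1 (h k ((NX_lW_E M).iff.2 h0))))
noncomputable def NX_cV_F : Fm := (.all NQ_L (.imp (.eq (.mul (.v (nat_lit 0)) (.v (nat_lit 8))) (.mul (.v (nat_lit 8)) (.v (nat_lit 0)))) (.imp (.eq (.mul (.v (nat_lit 0)) (.v (nat_lit 13))) (.mul (.v (nat_lit 13)) (.v (nat_lit 0)))) (.imp (.eq (.mul (.v (nat_lit 0)) (.v (nat_lit 15))) (.mul (.v (nat_lit 15)) (.v (nat_lit 0)))) (.qf (.mem (.v (nat_lit 0)) NX_lX))))))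
theorem NX_cV_chk : Fm.chk NQ_o NX_cV_F NX_cs = true := by decide +kernel
theorem NX_cV {G : Type*} [Group G] {R : ℕ → G → Prop} {a b r w e d c s v u p o : G} {H : Subgroup G}
    (M : Mdl NQ_o NX_cs NQ_L R [a, a⁻¹, b, b⁻¹, r, r⁻¹, w, e, e⁻¹, d, c, s, v, u, p, o] H) :
    ∀ k ∈ H, k * e = e * k → k * v = v * k → k * p = p * k → k ∈ sp [v, p, e] :=
  have h : ∀ k, InL NQ_o R NQ_L k → k * e = e * k → k * v = v * k → k * p = p * k → InS R NX_lX (k) :=
    Fm.sound M.μ NX_cV_F NX_cV_chk M.reps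
  (fun k h0 => (fun h1 => (fun h2 => (fun h3 => ((NX_lX_E M).iff.1 ((((h k (M.H.iff.2 h0)) h1) h2) h3))))))
noncomputable def NX_cW_F : Fm := (.all NQ_L (.imp (.eq (.mul (.v (nat_lit 0)) (.v (nat_lit 8))) (.mul (.v (nat_lit 8)) (.v (nat_lit 0)))) (.imp (.eq (.mul (.v (nat_lit 0)) (.v (nat_lit 7))) (.mul (.v (nat_lit 7)) (.v (nat_lit 0)))) (.imp (.eq (.mul (.v (nat_lit 0)) (.v (nat_lit 16))) (.mul (.v (nat_lit 16)) (.v (nat_lit 0)))) (.qf (.and (.mem (.v (nat_lit 0)) NX_lZ) (.eq (.pw (.v (nat_lit 0)) (nat_lit 6)) .one)))))))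
theorem NX_cW_chk : Fm.chk NQ_o NX_cW_F NX_cs = true := by decide +kernel
theorem NX_cW {G : Type*} [Group G] {R : ℕ → G → Prop} {a b r w e d c s v u p o : G} {H : Subgroup G}
    (M : Mdl NQ_o NX_cs NQ_L R [a, a⁻¹, b, b⁻¹, r, r⁻¹, w, e, e⁻¹, d, c, s, v, u, p, o] H) :
    ∀ k ∈ H, k * e = e * k → k * w = w * k → k * o = o * k → k ∈ sp [w, o, e] ∧ k ^ 6 = 1 :=
  have h : ∀ k, InL NQ_o R NQ_L k → k * e = e * k → k * w = w * k → k * o = o * k → InS R NX_lZ (k) ∧ k ^ 6 = 1 :=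
    Fm.sound M.μ NX_cW_F NX_cW_chk M.reps
  (fun k h0 => (fun h1 => (fun h2 => (fun h3 => ((and_congr (NX_lZ_E M).iff Iff.rfl).1 ((((h k (M.H.iff.2 h0)) h1) h2) h3))))))
noncomputable def NX_m_F : Fm := (.and (.exF NQ_L (fun _ => (nat_lit 66)) (.qf (.and (.eq (.mul (.mul (.v (nat_lit 0)) (.v (nat_lit 11))) (.inv (.v (nat_lit 0)))) (.v (nat_lit 13))) (.eq (.mul (.mul (.v (nat_lit 0)) (.v (nat_lit 7))) (.inv (.v (nat_lit 0)))) (.v (nat_lit 15)))))) (.and (.exF NQ_L (fun _ => (nat_lit 40)) (.qf (.and (.eq (.mul (.mul (.v (nat_lit 0)) (.v (nat_lit 11))) (.inv (.v (nat_lit 0)))) (.v (nat_lit 7))) (.eq (.mul (.mul (.v (nat_lit 0)) (.v (nat_lit 13))) (.inv (.v (nat_lit 0)))) (.v (nat_lit 16)))))) (.and (.exF NQ_L (fun _ => (nat_lit 60)) (.qf (.eq (.mul (.mul (.v (nat_lit 0)) (.v (nat_lit 12))) (.inv (.v (nat_lit 0)))) (.mul (.v (nat_lit 7)) (.v (nat_lit 10)))))) (.and (.exF NQ_L (fun _ => (nat_lit 1080)) (.qf (.eq (.mul (.mul (.v (nat_lit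 0)) (.v (nat_lit 12))) (.inv (.v (nat_lit 0)))) (.mul (.v (nat_lit 12)) (.v (nat_lit 11)))))) (.exF NQ_L (fun _ => (nat_lit 60)) (.qf (.eq (.mul (.mul (.v (nat_lit 0)) (.v (nat_lit 12))) (.inv (.v (nat_lit 0)))) (.mul (.mul (.v (nat_lit 11)) (.v (nat_lit 10))) (.v (nat_lit 14))))))))))
theorem NX_m_chk : Fm.chk NQ_o NX_m_F NX_cs = true := by decide +kernel
theorem NX_m {G : Type*} [Group G] {R : ℕ → G → Prop} {a b r w e d c s v u p o : G} {H : Subgroup G}
    (M : Mdl NQ_o NX_cs NQ_L R [a, a⁻¹, b, b⁻¹, r, r⁻¹, w, e, e⁻¹, d, c, s, v, u, p, o] H) :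
    (∃ m ∈ H, m * c * m⁻¹ = v ∧ m * w * m⁻¹ = p) ∧ (∃ m ∈ H, m * c * m⁻¹ = w ∧ m * v * m⁻¹ = o) ∧ (∃ m ∈ H, m * s * m⁻¹ = w * d) ∧ (∃ m ∈ H, m * s * m⁻¹ = s * c) ∧ (∃ m ∈ H, m * s * m⁻¹ = c * d * u) :=
  have h : (Good NQ_o R NQ_L → prods NQ_o NQ_L NQ_o.one ≠ [] → ∃ m, InL NQ_o R NQ_L m ∧ m * c * m⁻¹ = v ∧ m * w * m⁻¹ = p) ∧ (Good NQ_o R NQ_L → prods NQ_o NQ_L NQ_o.one ≠ [] → ∃ m, InL NQ_o R NQ_L m ∧ m * c * m⁻¹ = w ∧ m * v * m⁻¹ = o) ∧ (Good NQ_o R NQ_L → prods NQ_o NQ_L NQ_o.one ≠ [] → ∃ m, InL NQ_o R NQ_L m ∧ m * s * m⁻¹ = w * d) ∧ (Good NQ_o R NQ_L → prods NQ_o NQ_L NQ_o.one ≠ [] → ∃ m, InL NQ_o R NQ_L m ∧ m * s * m⁻¹ = s * c) ∧ (Good NQ_o R NQ_L → prods NQ_o NQ_L NQ_o.one ≠ [] → ∃ m, InL NQ_o R NQ_L m ∧ m * s * m⁻¹ = c * d * u) :=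
    Fm.sound M.μ NX_m_F NX_m_chk M.reps
  (And.imp (fun h0 => (Exists.imp (fun m h1 => ⟨M.H.iff.1 h1.1, h1.2⟩) (h0 M.H.good M.H.ne))) (fun h0 => (And.imp (fun h1 => (Exists.imp (fun m h2 => ⟨M.H.iff.1 h2.1, h2.2⟩) (h1 M.H.good M.H.ne))) (fun h1 => (And.imp (fun h2 => (Exists.imp (fun m h3 => ⟨M.H.iff.1 h3.1, h3.2⟩) (h2 M.H.good M.H.ne))) (fun h2 => (And.imp (fun h3 => (Exists.imp (fun m h4 => ⟨M.H.iff.1 h4.1, h4.2⟩) (h3 M.H.good M.H.ne))) (fun h3 => (Exists.imp (fun m h4 => ⟨M.H.iff.1 h4.1, h4.2⟩) (h3 M.H.good M.H.ne))) h2)) h1)) h0)) h)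
noncomputable def NX_sig_t0 : ST := (.node (nat_lit 64570) (.node (nat_lit 37355) (.node (nat_lit 17535) (.node (nat_lit 7282) (.node (nat_lit 4317) (.node (nat_lit 2850) (.node (nat_lit 722) (.node (nat_lit 548) (.leaf (nat_lit 0)) (.node (nat_lit 666) (.leaf (nat_lit 3)) (.leaf (nat_lit 1)))) (.node (nat_lit 2454) (.node (nat_lit 2433) (.leaf (nat_lit 0)) (.leaf (nat_lit 1))) (.node (nat_lit 2499) (.leaf (nat_lit 0)) (.leaf (nat_lit 1))))) (.node (nat_lit 3149) (.node (nat_lit 3010) (.leaf (nat_lit 2)) (.node (nat_lit 3064) (.leaf (nat_lit 4)) (.leaf (nat_lit 0)))) (.node (nat_lit 3545) (.node (nat_lit 3452) (.leaf (nat_lit 2)) (.leaf (nat_lit 0))) (.node (nat_lit 4244) (.leaf (nat_lit 5)) (.leaf (nat_lit 0)))))) (.node (nat_lit 5943) (.node (nat_lit 4831) (.node (nat_lit 4382) (.leaf (nat_lit 2)) (.node (nat_lit 4400) (.leaf (nat_lit 0)) (.leaf (nat_lit 3)))) (.node (nat_lit 5588) (.node (nat_lit 5579) (.leaf (nat_lit 0)) (.leaf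 (nat_lit 2))) (.node (nat_lit 5640) (.leaf (nat_lit 0)) (.leaf (nat_lit 1))))) (.node (nat_lit 6644) (.node (nat_lit 6501) (.leaf (nat_lit 0)) (.node (nat_lit 6590) (.leaf (nat_lit 1)) (.leaf (nat_lit 2)))) (.node (nat_lit 7143) (.node (nat_lit 6858) (.leaf (nat_lit 0)) (.leaf (nat_lit 3))) (.node (nat_lit 7202) (.leaf (nat_lit 1)) (.leaf (nat_lit 2))))))) (.node (nat_lit 11989) (.node (nat_lit 10028) (.node (nat_lit 8240) (.node (nat_lit 7671) (.leaf (nat_lit 0)) (.node (nat_lit 7844) (.leaf (nat_lit 3)) (.leaf (nat_lit 0)))) (.node (nat_lit 9106) (.node (nat_lit 8409) (.leaf (nat_lit 5)) (.leaf (nat_lit 0))) (.node (nat_lit 9193) (.leaf (nat_lit 2)) (.leaf (nat_lit 0))))) (.node (nat_lit 10638) (.node (nat_lit 10054) (.leaf (nat_lit 4)) (.node (nat_lit 10584) (.leaf (nat_lit 0)) (.leaf (nat_lit 4)))) (.node (nat_lit 11900) (.node (nat_lit 11841) (.leaf (nat_lit 0)) (.leaf (nat_lit 4))) (.node (nat_lit 11902) (.leaf (nat_lit 0)) (.leaf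 (nat_lit 2)))))) (.node (nat_lit 15137) (.node (nat_lit 14611) (.node (nat_lit 13603) (.leaf (nat_lit 0)) (.node (nat_lit 13906) (.leaf (nat_lit 2)) (.leaf (nat_lit 0)))) (.node (nat_lit 14859) (.node (nat_lit 14817) (.leaf (nat_lit 2)) (.leaf (nat_lit 1))) (.node (nat_lit 15079) (.leaf (nat_lit 3)) (.leaf (nat_lit 0))))) (.node (nat_lit 15953) (.node (nat_lit 15368) (.node (nat_lit 15161) (.leaf (nat_lit 4)) (.leaf (nat_lit 0))) (.node (nat_lit 15589) (.leaf (nat_lit 1)) (.leaf (nat_lit 2)))) (.node (nat_lit 16124) (.node (nat_lit 16063) (.leaf (nat_lit 0)) (.leaf (nat_lit 4))) (.node (nat_lit 17402) (.leaf (nat_lit 0)) (.leaf (nat_lit 1)))))))) (.node (nat_lit 25981) (.node (nat_lit 21716) (.node (nat_lit 20082) (.node (nat_lit 18097) (.node (nat_lit 17706) (.leaf (nat_lit 0)) (.node (nat_lit 17766) (.leaf (nat_lit 4)) (.leaf (nat_lit 0)))) (.node (nat_lit 19009) (.node (nat_lit 18461) (.leaf (nat_lit 1)) (.leaf (nat_lit 0))) (.node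 (nat_lit 19038) (.leaf (nat_lit 1)) (.leaf (nat_lit 0))))) (.node (nat_lit 21213) (.node (nat_lit 20104) (.leaf (nat_lit 1)) (.node (nat_lit 21068) (.leaf (nat_lit 0)) (.leaf (nat_lit 4)))) (.node (nat_lit 21407) (.node (nat_lit 21274) (.leaf (nat_lit 0)) (.leaf (nat_lit 5))) (.node (nat_lit 21449) (.leaf (nat_lit 0)) (.leaf (nat_lit 5)))))) (.node (nat_lit 23648) (.node (nat_lit 22546) (.node (nat_lit 22046) (.leaf (nat_lit 0)) (.node (nat_lit 22148) (.leaf (nat_lit 1)) (.leaf (nat_lit 0)))) (.node (nat_lit 23051) (.node (nat_lit 22653) (.leaf (nat_lit 1)) (.leaf (nat_lit 0))) (.node (nat_lit 23466) (.leaf (nat_lit 1)) (.leaf (nat_lit 0))))) (.node (nat_lit 24420) (.node (nat_lit 23843) (.node (nat_lit 23672) (.leaf (nat_lit 4)) (.leaf (nat_lit 0))) (.node (nat_lit 23847) (.leaf (nat_lit 1)) (.leaf (nat_lit 0)))) (.node (nat_lit 24798) (.node (nat_lit 24444) (.leaf (nat_lit 1)) (.leaf (nat_lit 0))) (.node (nat_lit 24864) (.leaf (nat_lit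 1)) (.leaf (nat_lit 0))))))) (.node (nat_lit 29352) (.node (nat_lit 27214) (.node (nat_lit 26117) (.node (nat_lit 26032) (.leaf (nat_lit 4)) (.node (nat_lit 26093) (.leaf (nat_lit 0)) (.leaf (nat_lit 4)))) (.node (nat_lit 26630) (.node (nat_lit 26322) (.leaf (nat_lit 0)) (.leaf (nat_lit 1))) (.node (nat_lit 26954) (.leaf (nat_lit 0)) (.leaf (nat_lit 2))))) (.node (nat_lit 28216) (.node (nat_lit 27639) (.leaf (nat_lit 0)) (.node (nat_lit 27762) (.leaf (nat_lit 5)) (.leaf (nat_lit 0)))) (.node (nat_lit 28379) (.node (nat_lit 28361) (.leaf (nat_lit 2)) (.leaf (nat_lit 1))) (.node (nat_lit 29148) (.leaf (nat_lit 0)) (.leaf (nat_lit 1)))))) (.node (nat_lit 32438) (.node (nat_lit 31903) (.node (nat_lit 30879) (.leaf (nat_lit 0)) (.node (nat_lit 31213) (.leaf (nat_lit 1)) (.leaf (nat_lit 0)))) (.node (nat_lit 32088) (.node (nat_lit 31927) (.leaf (nat_lit 2)) (.leaf (nat_lit 0))) (.node (nat_lit 32170) (.leaf (nat_lit 1)) (.leaf (nat_lit 0)))))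 (.node (nat_lit 34301) (.node (nat_lit 34027) (.node (nat_lit 33030) (.leaf (nat_lit 2)) (.leaf (nat_lit 0))) (.node (nat_lit 34173) (.leaf (nat_lit 1)) (.leaf (nat_lit 2)))) (.node (nat_lit 37195) (.node (nat_lit 37077) (.leaf (nat_lit 0)) (.leaf (nat_lit 1))) (.node (nat_lit 37253) (.leaf (nat_lit 0)) (.leaf (nat_lit 1))))))))) (.node (nat_lit 51218) (.node (nat_lit 44749) (.node (nat_lit 40346) (.node (nat_lit 38761) (.node (nat_lit 37778) (.node (nat_lit 37649) (.leaf (nat_lit 0)) (.node (nat_lit 37662) (.leaf (nat_lit 1)) (.leaf (nat_lit 0)))) (.node (nat_lit 38344) (.node (nat_lit 37948) (.leaf (nat_lit 4)) (.leaf (nat_lit 0))) (.node (nat_lit 38384) (.leaf (nat_lit 4)) (.leaf (nat_lit 0))))) (.node (nat_lit 39925) (.node (nat_lit 38921) (.leaf (nat_lit 1)) (.node (nat_lit 39713) (.leaf (nat_lit 0)) (.leaf (nat_lit 5)))) (.node (nat_lit 40047) (.node (nat_lit 40033) (.leaf (nat_lit 0)) (.leaf (nat_lit 2))) (.node (nat_lit 40218)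 (.leaf (nat_lit 0)) (.leaf (nat_lit 1)))))) (.node (nat_lit 43088) (.node (nat_lit 41445) (.node (nat_lit 40484) (.leaf (nat_lit 0)) (.node (nat_lit 40622) (.leaf (nat_lit 1)) (.leaf (nat_lit 0)))) (.node (nat_lit 41719) (.node (nat_lit 41514) (.leaf (nat_lit 1)) (.leaf (nat_lit 0))) (.node (nat_lit 42027) (.leaf (nat_lit 1)) (.leaf (nat_lit 0))))) (.node (nat_lit 44235) (.node (nat_lit 43132) (.leaf (nat_lit 4)) (.node (nat_lit 44141) (.leaf (nat_lit 0)) (.leaf (nat_lit 3)))) (.node (nat_lit 44545) (.node (nat_lit 44239) (.leaf (nat_lit 5)) (.leaf (nat_lit 0))) (.node (nat_lit 44616) (.leaf (nat_lit 4)) (.leaf (nat_lit 2))))))) (.node (nat_lit 48097) (.node (nat_lit 46943) (.node (nat_lit 45528) (.node (nat_lit 45406) (.leaf (nat_lit 0)) (.node (nat_lit 45486) (.leaf (nat_lit 1)) (.leaf (nat_lit 0)))) (.node (nat_lit 46815) (.node (nat_lit 45826) (.leaf (nat_lit 1)) (.leaf (nat_lit 0))) (.node (nat_lit 46884) (.leaf (nat_lit 2)) (.leaf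 (nat_lit 1))))) (.node (nat_lit 47502) (.node (nat_lit 47305) (.leaf (nat_lit 0)) (.node (nat_lit 47334) (.leaf (nat_lit 1)) (.leaf (nat_lit 0)))) (.node (nat_lit 47804) (.node (nat_lit 47732) (.leaf (nat_lit 1)) (.leaf (nat_lit 5))) (.node (nat_lit 48031) (.leaf (nat_lit 0)) (.leaf (nat_lit 1)))))) (.node (nat_lit 49462) (.node (nat_lit 48871) (.node (nat_lit 48596) (.leaf (nat_lit 2)) (.node (nat_lit 48732) (.leaf (nat_lit 0)) (.leaf (nat_lit 5)))) (.node (nat_lit 49344) (.node (nat_lit 49045) (.leaf (nat_lit 1)) (.leaf (nat_lit 0))) (.node (nat_lit 49453) (.leaf (nat_lit 1)) (.leaf (nat_lit 5))))) (.node (nat_lit 50858) (.node (nat_lit 50130) (.node (nat_lit 50075) (.leaf (nat_lit 0)) (.leaf (nat_lit 2))) (.node (nat_lit 50812) (.leaf (nat_lit 0)) (.leaf (nat_lit 2)))) (.node (nat_lit 50929) (.node (nat_lit 50862) (.leaf (nat_lit 0)) (.leaf (nat_lit 2))) (.node (nat_lit 51172) (.leaf (nat_lit 0)) (.leaf (nat_lit 5)))))))) (.node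 (nat_lit 57759) (.node (nat_lit 53210) (.node (nat_lit 52565) (.node (nat_lit 51851) (.node (nat_lit 51346) (.leaf (nat_lit 2)) (.node (nat_lit 51840) (.leaf (nat_lit 0)) (.leaf (nat_lit 4)))) (.node (nat_lit 51973) (.node (nat_lit 51949) (.leaf (nat_lit 0)) (.leaf (nat_lit 1))) (.node (nat_lit 52512) (.leaf (nat_lit 0)) (.leaf (nat_lit 3))))) (.node (nat_lit 52736) (.node (nat_lit 52675) (.leaf (nat_lit 0)) (.node (nat_lit 52696) (.leaf (nat_lit 1)) (.leaf (nat_lit 2)))) (.node (nat_lit 53113) (.node (nat_lit 53056) (.leaf (nat_lit 0)) (.leaf (nat_lit 4))) (.node (nat_lit 53140) (.leaf (nat_lit 0)) (.leaf (nat_lit 1)))))) (.node (nat_lit 55247) (.node (nat_lit 54524) (.node (nat_lit 53262) (.leaf (nat_lit 0)) (.node (nat_lit 53570) (.leaf (nat_lit 1)) (.leaf (nat_lit 0)))) (.node (nat_lit 54920) (.node (nat_lit 54852) (.leaf (nat_lit 1)) (.leaf (nat_lit 0))) (.node (nat_lit 54926) (.leaf (nat_lit 1)) (.leaf (nat_lit 0))))) (.node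 (nat_lit 56463) (.node (nat_lit 55385) (.node (nat_lit 55324) (.leaf (nat_lit 3)) (.leaf (nat_lit 4))) (.node (nat_lit 56423) (.leaf (nat_lit 0)) (.leaf (nat_lit 2)))) (.node (nat_lit 57124) (.node (nat_lit 56640) (.leaf (nat_lit 1)) (.leaf (nat_lit 0))) (.node (nat_lit 57196) (.leaf (nat_lit 1)) (.leaf (nat_lit 0))))))) (.node (nat_lit 61121) (.node (nat_lit 58890) (.node (nat_lit 58308) (.node (nat_lit 57783) (.leaf (nat_lit 1)) (.node (nat_lit 58236) (.leaf (nat_lit 0)) (.leaf (nat_lit 2)))) (.node (nat_lit 58760) (.node (nat_lit 58731) (.leaf (nat_lit 0)) (.leaf (nat_lit 1))) (.node (nat_lit 58886) (.leaf (nat_lit 0)) (.leaf (nat_lit 1))))) (.node (nat_lit 60157) (.node (nat_lit 59907) (.leaf (nat_lit 0)) (.node (nat_lit 60029) (.leaf (nat_lit 5)) (.leaf (nat_lit 1)))) (.node (nat_lit 60780) (.node (nat_lit 60730) (.leaf (nat_lit 0)) (.leaf (nat_lit 1))) (.node (nat_lit 61075) (.leaf (nat_lit 2)) (.leaf (nat_lit 0)))))) (.node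 (nat_lit 62760) (.node (nat_lit 62172) (.node (nat_lit 61126) (.leaf (nat_lit 4)) (.node (nat_lit 61223) (.leaf (nat_lit 1)) (.leaf (nat_lit 0)))) (.node (nat_lit 62294) (.node (nat_lit 62201) (.leaf (nat_lit 2)) (.leaf (nat_lit 0))) (.node (nat_lit 62305) (.leaf (nat_lit 5)) (.leaf (nat_lit 0))))) (.node (nat_lit 63313) (.node (nat_lit 63128) (.node (nat_lit 62878) (.leaf (nat_lit 1)) (.leaf (nat_lit 4))) (.node (nat_lit 63259) (.leaf (nat_lit 0)) (.leaf (nat_lit 2)))) (.node (nat_lit 63869) (.node (nat_lit 63695) (.leaf (nat_lit 0)) (.leaf (nat_lit 4))) (.node (nat_lit 64356) (.leaf (nat_lit 0)) (.leaf (nat_lit 2)))))))))) (.node (nat_lit 89921) (.node (nat_lit 75972) (.node (nat_lit 70983) (.node (nat_lit 66754) (.node (nat_lit 65524) (.node (nat_lit 64863) (.node (nat_lit 64716) (.leaf (nat_lit 0)) (.node (nat_lit 64777) (.leaf (nat_lit 2)) (.leaf (nat_lit 0)))) (.node (nat_lit 65152) (.node (nat_lit 65055) (.leaf (nat_lit 1))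 (.leaf (nat_lit 0))) (.node (nat_lit 65276) (.leaf (nat_lit 4)) (.leaf (nat_lit 0))))) (.node (nat_lit 65889) (.node (nat_lit 65621) (.leaf (nat_lit 2)) (.node (nat_lit 65828) (.leaf (nat_lit 0)) (.leaf (nat_lit 5)))) (.node (nat_lit 66413) (.node (nat_lit 66142) (.leaf (nat_lit 0)) (.leaf (nat_lit 1))) (.node (nat_lit 66615) (.leaf (nat_lit 0)) (.leaf (nat_lit 1)))))) (.node (nat_lit 68913) (.node (nat_lit 67237) (.node (nat_lit 67085) (.leaf (nat_lit 0)) (.node (nat_lit 67114) (.leaf (nat_lit 1)) (.leaf (nat_lit 0)))) (.node (nat_lit 68659) (.node (nat_lit 67261) (.leaf (nat_lit 2)) (.leaf (nat_lit 0))) (.node (nat_lit 68739) (.leaf (nat_lit 5)) (.leaf (nat_lit 0))))) (.node (nat_lit 69515) (.node (nat_lit 69013) (.leaf (nat_lit 1)) (.node (nat_lit 69377) (.leaf (nat_lit 0)) (.leaf (nat_lit 1)))) (.node (nat_lit 69635) (.node (nat_lit 69576) (.leaf (nat_lit 0)) (.leaf (nat_lit 1))) (.node (nat_lit 70784) (.leaf (nat_lit 0)) (.leaf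 (nat_lit 3))))))) (.node (nat_lit 74205) (.node (nat_lit 72593) (.node (nat_lit 71428) (.node (nat_lit 71032) (.leaf (nat_lit 1)) (.node (nat_lit 71389) (.leaf (nat_lit 0)) (.leaf (nat_lit 2)))) (.node (nat_lit 71913) (.node (nat_lit 71780) (.leaf (nat_lit 0)) (.leaf (nat_lit 1))) (.node (nat_lit 72021) (.leaf (nat_lit 0)) (.leaf (nat_lit 5))))) (.node (nat_lit 73809) (.node (nat_lit 73369) (.leaf (nat_lit 0)) (.node (nat_lit 73381) (.leaf (nat_lit 3)) (.leaf (nat_lit 0)))) (.node (nat_lit 73846) (.node (nat_lit 73834) (.leaf (nat_lit 1)) (.leaf (nat_lit 4))) (.node (nat_lit 74178) (.leaf (nat_lit 1)) (.leaf (nat_lit 0)))))) (.node (nat_lit 74828) (.node (nat_lit 74419) (.node (nat_lit 74251) (.leaf (nat_lit 1)) (.node (nat_lit 74339) (.leaf (nat_lit 0)) (.leaf (nat_lit 2)))) (.node (nat_lit 74550) (.node (nat_lit 74454) (.leaf (nat_lit 0)) (.leaf (nat_lit 3))) (.node (nat_lit 74756) (.leaf (nat_lit 0)) (.leaf (nat_lit 2))))) (.node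 (nat_lit 75116) (.node (nat_lit 74889) (.node (nat_lit 74831) (.leaf (nat_lit 0)) (.leaf (nat_lit 1))) (.node (nat_lit 74977) (.leaf (nat_lit 0)) (.leaf (nat_lit 2)))) (.node (nat_lit 75440) (.node (nat_lit 75261) (.leaf (nat_lit 4)) (.leaf (nat_lit 1))) (.node (nat_lit 75838) (.leaf (nat_lit 0)) (.leaf (nat_lit 4)))))))) (.node (nat_lit 80744) (.node (nat_lit 78001) (.node (nat_lit 76737) (.node (nat_lit 76483) (.node (nat_lit 76141) (.leaf (nat_lit 1)) (.node (nat_lit 76395) (.leaf (nat_lit 0)) (.leaf (nat_lit 1)))) (.node (nat_lit 76603) (.node (nat_lit 76594) (.leaf (nat_lit 0)) (.leaf (nat_lit 1))) (.node (nat_lit 76642) (.leaf (nat_lit 0)) (.leaf (nat_lit 1))))) (.node (nat_lit 77574) (.node (nat_lit 77117) (.leaf (nat_lit 0)) (.node (nat_lit 77154) (.leaf (nat_lit 3)) (.leaf (nat_lit 0)))) (.node (nat_lit 77802) (.node (nat_lit 77598) (.leaf (nat_lit 4)) (.leaf (nat_lit 0))) (.node (nat_lit 77877) (.leaf (nat_lit 3)) (.leaf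 (nat_lit 0)))))) (.node (nat_lit 78921) (.node (nat_lit 78515) (.node (nat_lit 78175) (.leaf (nat_lit 1)) (.node (nat_lit 78397) (.leaf (nat_lit 0)) (.leaf (nat_lit 1)))) (.node (nat_lit 78881) (.node (nat_lit 78833) (.leaf (nat_lit 0)) (.leaf (nat_lit 5))) (.node (nat_lit 78918) (.leaf (nat_lit 0)) (.leaf (nat_lit 1))))) (.node (nat_lit 79972) (.node (nat_lit 79642) (.node (nat_lit 79613) (.leaf (nat_lit 0)) (.leaf (nat_lit 4))) (.node (nat_lit 79644) (.leaf (nat_lit 0)) (.leaf (nat_lit 4)))) (.node (nat_lit 80399) (.node (nat_lit 80331) (.leaf (nat_lit 0)) (.leaf (nat_lit 1))) (.node (nat_lit 80613) (.leaf (nat_lit 0)) (.leaf (nat_lit 3))))))) (.node (nat_lit 86686) (.node (nat_lit 83330) (.node (nat_lit 81740) (.node (nat_lit 81391) (.leaf (nat_lit 0)) (.node (nat_lit 81426) (.leaf (nat_lit 1)) (.leaf (nat_lit 0)))) (.node (nat_lit 83125) (.node (nat_lit 81876) (.leaf (nat_lit 1)) (.leaf (nat_lit 0))) (.node (nat_lit 83196) (.leaf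 (nat_lit 1)) (.leaf (nat_lit 0))))) (.node (nat_lit 83689) (.node (nat_lit 83520) (.leaf (nat_lit 5)) (.node (nat_lit 83562) (.leaf (nat_lit 0)) (.leaf (nat_lit 1)))) (.node (nat_lit 84390) (.node (nat_lit 84288) (.leaf (nat_lit 0)) (.leaf (nat_lit 1))) (.node (nat_lit 86662) (.leaf (nat_lit 0)) (.leaf (nat_lit 1)))))) (.node (nat_lit 87823) (.node (nat_lit 87167) (.node (nat_lit 86723) (.leaf (nat_lit 0)) (.node (nat_lit 86830) (.leaf (nat_lit 5)) (.leaf (nat_lit 0)))) (.node (nat_lit 87523) (.node (nat_lit 87234) (.leaf (nat_lit 1)) (.leaf (nat_lit 0))) (.node (nat_lit 87779) (.leaf (nat_lit 2)) (.leaf (nat_lit 1))))) (.node (nat_lit 89060) (.node (nat_lit 88057) (.node (nat_lit 88028) (.leaf (nat_lit 0)) (.leaf (nat_lit 4))) (.node (nat_lit 89051) (.leaf (nat_lit 0)) (.leaf (nat_lit 1)))) (.node (nat_lit 89565) (.node (nat_lit 89397) (.leaf (nat_lit 0)) (.leaf (nat_lit 2))) (.node (nat_lit 89874) (.leaf (nat_lit 0)) (.leaf (nat_lit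 2))))))))) (.node (nat_lit 106085) (.node (nat_lit 97857) (.node (nat_lit 92548) (.node (nat_lit 91399) (.node (nat_lit 90664) (.node (nat_lit 90052) (.leaf (nat_lit 0)) (.node (nat_lit 90177) (.leaf (nat_lit 3)) (.leaf (nat_lit 0)))) (.node (nat_lit 90837) (.node (nat_lit 90709) (.leaf (nat_lit 5)) (.leaf (nat_lit 1))) (.node (nat_lit 91374) (.leaf (nat_lit 0)) (.leaf (nat_lit 1))))) (.node (nat_lit 92374) (.node (nat_lit 91880) (.leaf (nat_lit 0)) (.node (nat_lit 92018) (.leaf (nat_lit 1)) (.leaf (nat_lit 0)))) (.node (nat_lit 92430) (.node (nat_lit 92426) (.leaf (nat_lit 1)) (.leaf (nat_lit 3))) (.node (nat_lit 92477) (.leaf (nat_lit 1)) (.leaf (nat_lit 0)))))) (.node (nat_lit 95881) (.node (nat_lit 93307) (.node (nat_lit 93053) (.leaf (nat_lit 1)) (.node (nat_lit 93062) (.leaf (nat_lit 4)) (.leaf (nat_lit 0)))) (.node (nat_lit 95247) (.node (nat_lit 93427) (.leaf (nat_lit 1)) (.leaf (nat_lit 0))) (.node (nat_lit 95451) (.leaf (nat_lit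 1)) (.leaf (nat_lit 0))))) (.node (nat_lit 96641) (.node (nat_lit 95956) (.leaf (nat_lit 1)) (.node (nat_lit 96519) (.leaf (nat_lit 0)) (.leaf (nat_lit 5)))) (.node (nat_lit 97085) (.node (nat_lit 96687) (.leaf (nat_lit 1)) (.leaf (nat_lit 0))) (.node (nat_lit 97424) (.leaf (nat_lit 1)) (.leaf (nat_lit 0))))))) (.node (nat_lit 102633) (.node (nat_lit 100148) (.node (nat_lit 98289) (.node (nat_lit 98144) (.leaf (nat_lit 4)) (.node (nat_lit 98228) (.leaf (nat_lit 1)) (.leaf (nat_lit 4)))) (.node (nat_lit 99752) (.node (nat_lit 99690) (.leaf (nat_lit 0)) (.leaf (nat_lit 1))) (.node (nat_lit 100122) (.leaf (nat_lit 0)) (.leaf (nat_lit 2))))) (.node (nat_lit 100833) (.node (nat_lit 100328) (.leaf (nat_lit 0)) (.node (nat_lit 100542) (.leaf (nat_lit 2)) (.leaf (nat_lit 0)))) (.node (nat_lit 102034) (.node (nat_lit 100991) (.leaf (nat_lit 1)) (.leaf (nat_lit 0))) (.node (nat_lit 102088) (.leaf (nat_lit 3)) (.leaf (nat_lit 0)))))) (.node (nat_lit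 104799) (.node (nat_lit 103025) (.node (nat_lit 102644) (.leaf (nat_lit 3)) (.node (nat_lit 102976) (.leaf (nat_lit 0)) (.leaf (nat_lit 2)))) (.node (nat_lit 103736) (.node (nat_lit 103687) (.leaf (nat_lit 0)) (.leaf (nat_lit 1))) (.node (nat_lit 104604) (.leaf (nat_lit 0)) (.leaf (nat_lit 4))))) (.node (nat_lit 105561) (.node (nat_lit 105376) (.node (nat_lit 104848) (.leaf (nat_lit 5)) (.leaf (nat_lit 0))) (.node (nat_lit 105496) (.leaf (nat_lit 1)) (.leaf (nat_lit 0)))) (.node (nat_lit 105881) (.node (nat_lit 105736) (.leaf (nat_lit 4)) (.leaf (nat_lit 0))) (.node (nat_lit 105952) (.leaf (nat_lit 4)) (.leaf (nat_lit 2)))))))) (.node (nat_lit 113680) (.node (nat_lit 109423) (.node (nat_lit 108207) (.node (nat_lit 106571) (.node (nat_lit 106457) (.leaf (nat_lit 0)) (.node (nat_lit 106491) (.leaf (nat_lit 4)) (.leaf (nat_lit 0)))) (.node (nat_lit 107064) (.node (nat_lit 106641) (.leaf (nat_lit 1)) (.leaf (nat_lit 0))) (.node (nat_lit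 107197) (.leaf (nat_lit 4)) (.leaf (nat_lit 0))))) (.node (nat_lit 108326) (.node (nat_lit 108279) (.leaf (nat_lit 5)) (.node (nat_lit 108313) (.leaf (nat_lit 0)) (.leaf (nat_lit 1)))) (.node (nat_lit 108784) (.node (nat_lit 108580) (.leaf (nat_lit 0)) (.leaf (nat_lit 1))) (.node (nat_lit 109187) (.leaf (nat_lit 0)) (.leaf (nat_lit 2)))))) (.node (nat_lit 111688) (.node (nat_lit 110151) (.node (nat_lit 109462) (.leaf (nat_lit 1)) (.node (nat_lit 110144) (.leaf (nat_lit 0)) (.leaf (nat_lit 1)))) (.node (nat_lit 111061) (.node (nat_lit 110246) (.leaf (nat_lit 3)) (.leaf (nat_lit 0))) (.node (nat_lit 111282) (.leaf (nat_lit 2)) (.leaf (nat_lit 0))))) (.node (nat_lit 113095) (.node (nat_lit 112373) (.node (nat_lit 111821) (.leaf (nat_lit 2)) (.leaf (nat_lit 0))) (.node (nat_lit 112440) (.leaf (nat_lit 2)) (.leaf (nat_lit 0)))) (.node (nat_lit 113227) (.node (nat_lit 113145) (.leaf (nat_lit 4)) (.leaf (nat_lit 1))) (.node (nat_lit 113541)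 (.leaf (nat_lit 0)) (.leaf (nat_lit 1))))))) (.node (nat_lit 119538) (.node (nat_lit 117317) (.node (nat_lit 114661) (.node (nat_lit 114186) (.leaf (nat_lit 0)) (.node (nat_lit 114191) (.leaf (nat_lit 2)) (.leaf (nat_lit 0)))) (.node (nat_lit 115169) (.node (nat_lit 114771) (.leaf (nat_lit 1)) (.leaf (nat_lit 0))) (.node (nat_lit 115271) (.leaf (nat_lit 2)) (.leaf (nat_lit 0))))) (.node (nat_lit 118854) (.node (nat_lit 117445) (.leaf (nat_lit 4)) (.node (nat_lit 118635) (.leaf (nat_lit 0)) (.leaf (nat_lit 2)))) (.node (nat_lit 119399) (.node (nat_lit 119105) (.leaf (nat_lit 0)) (.leaf (nat_lit 2))) (.node (nat_lit 119501) (.leaf (nat_lit 1)) (.leaf (nat_lit 5)))))) (.node (nat_lit 121162) (.node (nat_lit 120025) (.node (nat_lit 119626) (.leaf (nat_lit 1)) (.node (nat_lit 120001) (.leaf (nat_lit 0)) (.leaf (nat_lit 1)))) (.node (nat_lit 120421) (.node (nat_lit 120143) (.leaf (nat_lit 0)) (.leaf (nat_lit 4))) (.node (nat_lit 121135)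 (.leaf (nat_lit 0)) (.leaf (nat_lit 1))))) (.node (nat_lit 121812) (.node (nat_lit 121307) (.node (nat_lit 121257) (.leaf (nat_lit 0)) (.leaf (nat_lit 3))) (.node (nat_lit 121766) (.leaf (nat_lit 0)) (.leaf (nat_lit 5)))) (.node (nat_lit 123800) (.node (nat_lit 123495) (.leaf (nat_lit 0)) (.leaf (nat_lit 4))) (.node (nat_lit 123877) (.leaf (nat_lit 1)) (.leaf (nat_lit 0)))))))))))
noncomputable def NX_sig_t1 : ST := (.node (nat_lit 19406) (.node (nat_lit 10786) (.node (nat_lit 5821) (.node (nat_lit 2691) (.node (nat_lit 1531) (.node (nat_lit 108) (.leaf (nat_lit 0)) (.node (nat_lit 143) (.leaf (nat_lit 1)) (.leaf (nat_lit 0)))) (.node (nat_lit 2074) (.node (nat_lit 1554) (.leaf (nat_lit 1)) (.leaf (nat_lit 0))) (.node (nat_lit 2166) (.leaf (nat_lit 1)) (.leaf (nat_lit 0))))) (.node (nat_lit 3406) (.node (nat_lit 2697) (.leaf (nat_lit 1)) (.node (nat_lit 3374) (.leaf (nat_lit 0)) (.leaf (nat_lit 3)))) (.node (nat_lit 3711) (.node (nat_lit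 3702) (.leaf (nat_lit 0)) (.leaf (nat_lit 1))) (.node (nat_lit 5794) (.leaf (nat_lit 0)) (.leaf (nat_lit 1)))))) (.node (nat_lit 7648) (.node (nat_lit 6546) (.node (nat_lit 6052) (.leaf (nat_lit 0)) (.node (nat_lit 6100) (.leaf (nat_lit 1)) (.leaf (nat_lit 0)))) (.node (nat_lit 6686) (.node (nat_lit 6581) (.leaf (nat_lit 1)) (.leaf (nat_lit 0))) (.node (nat_lit 6709) (.leaf (nat_lit 1)) (.leaf (nat_lit 0))))) (.node (nat_lit 8221) (.node (nat_lit 8016) (.node (nat_lit 7659) (.leaf (nat_lit 1)) (.leaf (nat_lit 0))) (.node (nat_lit 8026) (.leaf (nat_lit 1)) (.leaf (nat_lit 0)))) (.node (nat_lit 10674) (.node (nat_lit 8234) (.leaf (nat_lit 1)) (.leaf (nat_lit 0))) (.node (nat_lit 10729) (.leaf (nat_lit 3)) (.leaf (nat_lit 0))))))) (.node (nat_lit 14020) (.node (nat_lit 11256) (.node (nat_lit 10842) (.node (nat_lit 10794) (.leaf (nat_lit 2)) (.node (nat_lit 10835) (.leaf (nat_lit 0)) (.leaf (nat_lit 1)))) (.node (nat_lit 10868) (.node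 (nat_lit 10858) (.leaf (nat_lit 0)) (.leaf (nat_lit 3))) (.node (nat_lit 11222) (.leaf (nat_lit 0)) (.leaf (nat_lit 1))))) (.node (nat_lit 13489) (.node (nat_lit 12970) (.leaf (nat_lit 0)) (.node (nat_lit 13013) (.leaf (nat_lit 1)) (.leaf (nat_lit 0)))) (.node (nat_lit 13524) (.node (nat_lit 13522) (.leaf (nat_lit 1)) (.leaf (nat_lit 2))) (.node (nat_lit 13856) (.leaf (nat_lit 0)) (.leaf (nat_lit 1)))))) (.node (nat_lit 16698) (.node (nat_lit 15996) (.node (nat_lit 15898) (.leaf (nat_lit 0)) (.node (nat_lit 15936) (.leaf (nat_lit 1)) (.leaf (nat_lit 0)))) (.node (nat_lit 16312) (.node (nat_lit 16027) (.leaf (nat_lit 1)) (.leaf (nat_lit 0))) (.node (nat_lit 16409) (.leaf (nat_lit 2)) (.leaf (nat_lit 0))))) (.node (nat_lit 18351) (.node (nat_lit 17694) (.node (nat_lit 16704) (.leaf (nat_lit 3)) (.leaf (nat_lit 0))) (.node (nat_lit 17696) (.leaf (nat_lit 1)) (.leaf (nat_lit 0)))) (.node (nat_lit 18879) (.node (nat_lit 18354) (.leaf (nat_lit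 1)) (.leaf (nat_lit 0))) (.node (nat_lit 18886) (.leaf (nat_lit 2)) (.leaf (nat_lit 0)))))))) (.node (nat_lit 24712) (.node (nat_lit 21105) (.node (nat_lit 20073) (.node (nat_lit 19526) (.node (nat_lit 19437) (.leaf (nat_lit 3)) (.node (nat_lit 19477) (.leaf (nat_lit 0)) (.leaf (nat_lit 2)))) (.node (nat_lit 19995) (.node (nat_lit 19991) (.leaf (nat_lit 0)) (.leaf (nat_lit 3))) (.node (nat_lit 20042) (.leaf (nat_lit 0)) (.leaf (nat_lit 3))))) (.node (nat_lit 20484) (.node (nat_lit 20141) (.leaf (nat_lit 0)) (.node (nat_lit 20196) (.leaf (nat_lit 1)) (.leaf (nat_lit 0)))) (.node (nat_lit 20788) (.node (nat_lit 20553) (.leaf (nat_lit 1)) (.leaf (nat_lit 0))) (.node (nat_lit 20802) (.leaf (nat_lit 1)) (.leaf (nat_lit 0)))))) (.node (nat_lit 21299) (.node (nat_lit 21138) (.node (nat_lit 21118) (.leaf (nat_lit 3)) (.node (nat_lit 21124) (.leaf (nat_lit 1)) (.leaf (nat_lit 0)))) (.node (nat_lit 21219) (.node (nat_lit 21153) (.leaf (nat_lit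 3)) (.leaf (nat_lit 0))) (.node (nat_lit 21234) (.leaf (nat_lit 1)) (.leaf (nat_lit 0))))) (.node (nat_lit 23167) (.node (nat_lit 21948) (.node (nat_lit 21335) (.leaf (nat_lit 1)) (.leaf (nat_lit 0))) (.node (nat_lit 21988) (.leaf (nat_lit 1)) (.leaf (nat_lit 0)))) (.node (nat_lit 23953) (.node (nat_lit 23173) (.leaf (nat_lit 1)) (.leaf (nat_lit 0))) (.node (nat_lit 23983) (.leaf (nat_lit 1)) (.leaf (nat_lit 0))))))) (.node (nat_lit 25854) (.node (nat_lit 25086) (.node (nat_lit 25005) (.node (nat_lit 24718) (.leaf (nat_lit 1)) (.node (nat_lit 25003) (.leaf (nat_lit 0)) (.leaf (nat_lit 2)))) (.node (nat_lit 25066) (.node (nat_lit 25051) (.leaf (nat_lit 0)) (.leaf (nat_lit 3))) (.node (nat_lit 25079) (.leaf (nat_lit 0)) (.leaf (nat_lit 1))))) (.node (nat_lit 25720) (.node (nat_lit 25350) (.node (nat_lit 25327) (.leaf (nat_lit 0)) (.leaf (nat_lit 3))) (.node (nat_lit 25687) (.leaf (nat_lit 0)) (.leaf (nat_lit 3)))) (.node (nat_lit 25773)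 (.node (nat_lit 25760) (.leaf (nat_lit 0)) (.leaf (nat_lit 1))) (.node (nat_lit 25851) (.leaf (nat_lit 0)) (.leaf (nat_lit 1)))))) (.node (nat_lit 28658) (.node (nat_lit 27713) (.node (nat_lit 27479) (.leaf (nat_lit 0)) (.node (nat_lit 27519) (.leaf (nat_lit 1)) (.leaf (nat_lit 0)))) (.node (nat_lit 27974) (.node (nat_lit 27724) (.leaf (nat_lit 1)) (.leaf (nat_lit 0))) (.node (nat_lit 28066) (.leaf (nat_lit 1)) (.leaf (nat_lit 0))))) (.node (nat_lit 31694) (.node (nat_lit 29231) (.node (nat_lit 28679) (.leaf (nat_lit 1)) (.leaf (nat_lit 0))) (.node (nat_lit 29305) (.leaf (nat_lit 1)) (.leaf (nat_lit 0)))) (.node (nat_lit 31783) (.node (nat_lit 31739) (.leaf (nat_lit 1)) (.leaf (nat_lit 0))) (.node (nat_lit 31824) (.leaf (nat_lit 1)) (.leaf (nat_lit 0)))))))))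
noncomputable def NX_sig_t2 : ST := (.node (nat_lit 1700) (.node (nat_lit 957) (.node (nat_lit 253) (.leaf (nat_lit 0)) (.node (nat_lit 258) (.leaf (nat_lit 1)) (.leaf (nat_lit 0)))) (.node (nat_lit 959) (.leaf (nat_lit 1)) (.node (nat_lit 1699) (.leaf (nat_lit 0)) (.leaf (nat_lit 1))))) (.node (nat_lit 3651) (.node (nat_lit 2431) (.leaf (nat_lit 0)) (.node (nat_lit 2432) (.leaf (nat_lit 1)) (.leaf (nat_lit 0)))) (.node (nat_lit 3679) (.node (nat_lit 3654) (.leaf (nat_lit 1)) (.leaf (nat_lit 0))) (.node (nat_lit 3685) (.leaf (nat_lit 1)) (.leaf (nat_lit 0))))))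
noncomputable def NX_sig_F : Fm := (.all NQ_L (.imp (.eq (.mul (.v (nat_lit 0)) (.v (nat_lit 8))) (.mul (.v (nat_lit 8)) (.v (nat_lit 0)))) (.or (.qf (.mem (.v (nat_lit 0)) NX_lY)) (.exG NX_lB (fun cs => NX_sig_t2.find (Nat.mod (nth (nat_lit 0) cs (nat_lit 0)) (nat_lit 3899))) (.exG NX_lB (fun cs => NX_sig_t1.find (Nat.mod (Nat.add (nth (nat_lit 0) cs (nat_lit 0)) (Nat.mul (nat_lit 7919) (nth (nat_lit 0) cs (nat_lit 1)))) (nat_lit 32417))) (.exG NX_lB (fun cs => NX_sig_t0.find (Nat.mod (Nat.add (Nat.add (nth (nat_lit 0) cs (nat_lit 1)) (Nat.mul (nat_lit 7919) (nth (nat_lit 0) cs (nat_lit 0)))) (Nat.mul (nat_lit 104729) (nth (nat_lit 0) cs (nat_lit 2)))) (nat_lit 124586))) (.qf (.and (.not (.eq (.pw (.mul (.mul (.mul (.v (nat_lit 3)) (.mul (.mul (.v (nat_lit 2)) (.v (nat_lit 3))) (.inv (.v (nat_lit 2))))) (.mul (.mul (.v (nat_lit 1)) (.v (nat_lit 3))) (.inv (.v (nat_lit 1))))) (.mul (.mul (.v (nat_lit 0)) (.v (nat_lit 3))) (.inv (.v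 (nat_lit 0))))) (nat_lit 20)) .one)) (.eq (.pw (.pw (.mul (.mul (.mul (.v (nat_lit 3)) (.mul (.mul (.v (nat_lit 2)) (.v (nat_lit 3))) (.inv (.v (nat_lit 2))))) (.mul (.mul (.v (nat_lit 1)) (.v (nat_lit 3))) (.inv (.v (nat_lit 1))))) (.mul (.mul (.v (nat_lit 0)) (.v (nat_lit 3))) (.inv (.v (nat_lit 0))))) (nat_lit 20)) (nat_lit 3)) .one)))))))))
theorem NX_sig_chk : Fm.chk NQ_o NX_sig_F NX_cs = true := by decide +kernel
theorem NX_sig {G : Type*} [Group G] {R : ℕ → G → Prop} {a b r w e d c s v u p o : G} {H : Subgroup G}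
    (M : Mdl NQ_o NX_cs NQ_L R [a, a⁻¹, b, b⁻¹, r, r⁻¹, w, e, e⁻¹, d, c, s, v, u, p, o] H) :
    ∀ n ∈ H, n * e = e * n → n ∈ sp [u, b * u * b⁻¹] ∨ (∃ i ∈ sp [b, c], ∃ j ∈ sp [b, c], ∃ k ∈ sp [b, c], (n * (i * n * i⁻¹) * (j * n * j⁻¹) * (k * n * k⁻¹)) ^ 20 ≠ 1 ∧ ((n * (i * n * i⁻¹) * (j * n * j⁻¹) * (k * n * k⁻¹)) ^ 20) ^ 3 = 1) :=
  have h : ∀ n, InL NQ_o R NQ_L n → n * e = e * n → InS R NX_lY (n) ∨ (GoodS R NX_lB → NX_lB ≠ [] → ∃ i, InS R NX_lB i ∧ (GoodS R NX_lB → NX_lB ≠ [] → ∃ j, InS R NX_lB j ∧ (GoodS R NX_lB → NX_lB ≠ [] → ∃ k, InS R NX_lB k ∧ (n * (i * n * i⁻¹) * (j * n * j⁻¹) * (k * n * k⁻¹)) ^ 20 ≠ 1 ∧ ((n * (i * n * i⁻¹) * (j * n * j⁻¹) * (k * n * k⁻¹)) ^ 20) ^ 3 = 1))) :=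
    Fm.sound M.μ NX_sig_F NX_sig_chk M.reps
  (fun n h0 => (fun h1 => (Or.imp (fun h2 => ((NX_lY_E M).iff.1 h2)) (fun h2 => (Exists.imp (fun i h3 => ⟨(NX_lB_E M).iff.1 h3.1, (Exists.imp (fun j h4 => ⟨(NX_lB_E M).iff.1 h4.1, (Exists.imp (fun k h5 => ⟨(NX_lB_E M).iff.1 h5.1, h5.2⟩) (h4.2 (NX_lB_E M).good (NX_lB_E M).ne))⟩) (h3.2 (NX_lB_E M).good (NX_lB_E M).ne))⟩) (h2 (NX_lB_E M).good (NX_lB_E M).ne))) ((h n (M.H.iff.2 h0)) h1))))
noncomputable def NX_sev_F : Fm := (.all NQ_L (.imp (.eq (.pw (.v (nat_lit 0)) (nat_lit 7)) .one) (.qf (.eq (.v (nat_lit 0)) .one))))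
theorem NX_sev_chk : Fm.chk NQ_o NX_sev_F NX_cs = true := by decide +kernel
theorem NX_sev {G : Type*} [Group G] {R : ℕ → G → Prop} {a b r w e d c s v u p o : G} {H : Subgroup G}
    (M : Mdl NQ_o NX_cs NQ_L R [a, a⁻¹, b, b⁻¹, r, r⁻¹, w, e, e⁻¹, d, c, s, v, u, p, o] H) :
    ∀ f ∈ H, f ^ 7 = 1 → f = 1 :=
  have h : ∀ f, InL NQ_o R NQ_L f → f ^ 7 = 1 → f = 1 :=
    Fm.sound M.μ NX_sev_F NX_sev_chk M.reps
  (fun f h0 => (h f (M.H.iff.2 h0)))
noncomputable def NX_Y_F : Fm := (.allS NX_lY (.qf (.or (.eq (.v (nat_lit 0)) .one) (.or (.eq (.v (nat_lit 0)) (.v (nat_lit 14))) (.or (.eq (.mul (.mul (.v (nat_lit 3)) (.v (nat_lit 0))) (.inv (.v (nat_lit 3)))) (.v (nat_lit 14))) (.eq (.mul (.mul (.inv (.v (nat_lit 3))) (.v (nat_lit 0))) (.v (nat_lit 3))) (.v (nat_lit 14))))))))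
theorem NX_Y_chk : Fm.chk NQ_o NX_Y_F NX_cs = true := by decide +kernel
theorem NX_Y {G : Type*} [Group G] {R : ℕ → G → Prop} {a b r w e d c s v u p o : G} {H : Subgroup G}
    (M : Mdl NQ_o NX_cs NQ_L R [a, a⁻¹, b, b⁻¹, r, r⁻¹, w, e, e⁻¹, d, c, s, v, u, p, o] H) :
    ∀ n ∈ sp [u, b * u * b⁻¹], n = 1 ∨ n = u ∨ b * n * b⁻¹ = u ∨ b⁻¹ * n * b = u :=
  have h : ∀ n, InS R NX_lY n → n = 1 ∨ n = u ∨ b * n * b⁻¹ = u ∨ b⁻¹ * n * b = u :=
    Fm.sound M.μ NX_Y_F NX_Y_chk M.reps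
  (fun n h0 => (h n ((NX_lY_E M).iff.2 h0)))
noncomputable def NX_e_F : Fm := (.qf (.and (.eq (.mul (.v (nat_lit 13)) (.mul (.v (nat_lit 10)) (.v (nat_lit 9)))) (.mul (.mul (.v (nat_lit 10)) (.v (nat_lit 9))) (.v (nat_lit 13)))) (.and (.not (.eq (.mul (.mul (.v (nat_lit 13)) (.v (nat_lit 2))) (.inv (.v (nat_lit 13)))) (.v (nat_lit 2)))) (.and (.not (.eq (.mul (.mul (.v (nat_lit 13)) (.v (nat_lit 2))) (.inv (.v (nat_lit 13)))) (.inv (.v (nat_lit 2))))) (.and (.eq (.mul (.v (nat_lit 2)) (.mul (.v (nat_lit 10)) (.v (nat_lit 9)))) (.mul (.mul (.v (nat_lit 10)) (.v (nat_lit 9))) (.v (nat_lit 2)))) (.and (.eq (.mul (.mul (.mul (.mul (.v (nat_lit 10)) (.v (nat_lit 9))) (.v (nat_lit 13))) (.mul (.mul (.v (nat_lit 10)) (.v (nat_lit 9))) (.mul (.mul (.v (nat_lit 2)) (.v (nat_lit 13))) (.inv (.v (nat_lit 2)))))) (.mul (.mul (.v (nat_lit 10)) (.v (nat_lit 9))) (.mul (.mul (.inv (.v (nat_lit 2))) (.v (nat_lit 13))) (.v (nat_lit 2))))) (.mul (.v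 (nat_lit 10)) (.v (nat_lit 9)))) (.and (.mem (.mul (.mul (.inv (.v (nat_lit 2))) (.v (nat_lit 13))) (.v (nat_lit 2))) NX_lE) (.and (.eq (.mul (.mul (.v (nat_lit 6)) (.v (nat_lit 9))) (.v (nat_lit 11))) (.v (nat_lit 12))) (.and (.eq (.mul (.v (nat_lit 11)) (.mul (.v (nat_lit 11)) (.v (nat_lit 10)))) (.v (nat_lit 10))) (.and (.mem (.v (nat_lit 11)) NX_lT) (.and (.mem (.v (nat_lit 10)) NX_lT) (.eq (.mul (.v (nat_lit 12)) (.v (nat_lit 7))) (.mul (.v (nat_lit 7)) (.v (nat_lit 12)))))))))))))))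
theorem NX_e_chk : Fm.chk NQ_o NX_e_F NX_cs = true := by decide +kernel
theorem NX_e {G : Type*} [Group G] {R : ℕ → G → Prop} {a b r w e d c s v u p o : G} {H : Subgroup G}
    (M : Mdl NQ_o NX_cs NQ_L R [a, a⁻¹, b, b⁻¹, r, r⁻¹, w, e, e⁻¹, d, c, s, v, u, p, o] H) :
    u * (c * d) = c * d * u ∧ u * b * u⁻¹ ≠ b ∧ u * b * u⁻¹ ≠ b⁻¹ ∧ b * (c * d) = c * d * b ∧ c * d * u * (c * d * (b * u * b⁻¹)) * (c * d * (b⁻¹ * u * b)) = c * d ∧ b⁻¹ * u * b ∈ sp [c * d, u, b * u * b⁻¹] ∧ w * d * s = v ∧ s * (s * c) = c ∧ s ∈ sp [r, w, d] ∧ c ∈ sp [r, w, d] ∧ v * e = e * v :=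
  have h : u * (c * d) = c * d * u ∧ u * b * u⁻¹ ≠ b ∧ u * b * u⁻¹ ≠ b⁻¹ ∧ b * (c * d) = c * d * b ∧ c * d * u * (c * d * (b * u * b⁻¹)) * (c * d * (b⁻¹ * u * b)) = c * d ∧ InS R NX_lE (b⁻¹ * u * b) ∧ w * d * s = v ∧ s * (s * c) = c ∧ InS R NX_lT (s) ∧ InS R NX_lT (c) ∧ v * e = e * v :=
    Fm.sound M.μ NX_e_F NX_e_chk M.reps
  ((and_congr Iff.rfl (and_congr Iff.rfl (and_congr Iff.rfl (and_congr Iff.rfl (and_congr Iff.rfl (and_congr (NX_lE_E M).iff (and_congr Iff.rfl (and_congr Iff.rfl (and_congr (NX_lT_E M).iff (and_congr (NX_lT_E M).iff Iff.rfl)))))))))).1 h)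
noncomputable def NX_five_t0 : ST := (.node (nat_lit 3164) (.node (nat_lit 1712) (.node (nat_lit 939) (.node (nat_lit 200) (.node (nat_lit 73) (.node (nat_lit 34) (.leaf (nat_lit 5)) (.node (nat_lit 36) (.leaf (nat_lit 1)) (.leaf (nat_lit 2)))) (.node (nat_lit 106) (.node (nat_lit 92) (.leaf (nat_lit 3)) (.leaf (nat_lit 5))) (.node (nat_lit 117) (.leaf (nat_lit 1)) (.leaf (nat_lit 5))))) (.node (nat_lit 305) (.node (nat_lit 278) (.node (nat_lit 234) (.leaf (nat_lit 0)) (.leaf (nat_lit 2))) (.node (nat_lit 282) (.leaf (nat_lit 3)) (.leaf (nat_lit 4)))) (.node (nat_lit 562) (.node (nat_lit 311) (.leaf (nat_lit 1)) (.leaf (nat_lit 4))) (.node (nat_lit 645) (.leaf (nat_lit 5)) (.leaf (nat_lit 3)))))) (.node (nat_lit 1472) (.node (nat_lit 1150) (.node (nat_lit 1091) (.node (nat_lit 1019) (.leaf (nat_lit 1)) (.leaf (nat_lit 2))) (.node (nat_lit 1127) (.leaf (nat_lit 3)) (.leaf (nat_lit 4)))) (.node (nat_lit 1401) (.node (nat_lit 1336) (.leaf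 (nat_lit 1)) (.leaf (nat_lit 3))) (.node (nat_lit 1422) (.leaf (nat_lit 1)) (.leaf (nat_lit 0))))) (.node (nat_lit 1576) (.node (nat_lit 1552) (.node (nat_lit 1509) (.leaf (nat_lit 1)) (.leaf (nat_lit 3))) (.node (nat_lit 1563) (.leaf (nat_lit 0)) (.leaf (nat_lit 4)))) (.node (nat_lit 1596) (.node (nat_lit 1577) (.leaf (nat_lit 3)) (.leaf (nat_lit 0))) (.node (nat_lit 1701) (.leaf (nat_lit 3)) (.leaf (nat_lit 5))))))) (.node (nat_lit 2576) (.node (nat_lit 2248) (.node (nat_lit 1874) (.node (nat_lit 1724) (.node (nat_lit 1723) (.leaf (nat_lit 2)) (.leaf (nat_lit 4))) (.node (nat_lit 1858) (.leaf (nat_lit 0)) (.leaf (nat_lit 4)))) (.node (nat_lit 2112) (.node (nat_lit 1948) (.leaf (nat_lit 5)) (.leaf (nat_lit 4))) (.node (nat_lit 2169) (.leaf (nat_lit 3)) (.leaf (nat_lit 5))))) (.node (nat_lit 2447) (.node (nat_lit 2347) (.node (nat_lit 2304) (.leaf (nat_lit 1)) (.leaf (nat_lit 3))) (.node (nat_lit 2415) (.leaf (nat_lit 5)) (.leaf (nat_lit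 4)))) (.node (nat_lit 2539) (.node (nat_lit 2467) (.leaf (nat_lit 0)) (.leaf (nat_lit 5))) (.node (nat_lit 2568) (.leaf (nat_lit 1)) (.leaf (nat_lit 3)))))) (.node (nat_lit 2866) (.node (nat_lit 2766) (.node (nat_lit 2673) (.node (nat_lit 2667) (.leaf (nat_lit 1)) (.leaf (nat_lit 5))) (.node (nat_lit 2725) (.leaf (nat_lit 0)) (.leaf (nat_lit 4)))) (.node (nat_lit 2774) (.node (nat_lit 2769) (.leaf (nat_lit 2)) (.leaf (nat_lit 3))) (.node (nat_lit 2786) (.leaf (nat_lit 0)) (.leaf (nat_lit 5))))) (.node (nat_lit 2997) (.node (nat_lit 2973) (.node (nat_lit 2968) (.leaf (nat_lit 3)) (.leaf (nat_lit 4))) (.node (nat_lit 2994) (.leaf (nat_lit 3)) (.leaf (nat_lit 4)))) (.node (nat_lit 3042) (.node (nat_lit 3040) (.leaf (nat_lit 2)) (.leaf (nat_lit 5))) (.node (nat_lit 3162) (.leaf (nat_lit 1)) (.leaf (nat_lit 4)))))))) (.node (nat_lit 4760) (.node (nat_lit 3966) (.node (nat_lit 3506) (.node (nat_lit 3294) (.node (nat_lit 3211) (.node (nat_lit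 3173) (.leaf (nat_lit 5)) (.leaf (nat_lit 4))) (.node (nat_lit 3240) (.leaf (nat_lit 1)) (.leaf (nat_lit 3)))) (.node (nat_lit 3451) (.node (nat_lit 3308) (.leaf (nat_lit 2)) (.leaf (nat_lit 0))) (.node (nat_lit 3470) (.leaf (nat_lit 2)) (.leaf (nat_lit 1))))) (.node (nat_lit 3797) (.node (nat_lit 3542) (.node (nat_lit 3525) (.leaf (nat_lit 4)) (.leaf (nat_lit 3))) (.node (nat_lit 3710) (.leaf (nat_lit 5)) (.leaf (nat_lit 4)))) (.node (nat_lit 3937) (.node (nat_lit 3834) (.leaf (nat_lit 3)) (.leaf (nat_lit 1))) (.node (nat_lit 3949) (.leaf (nat_lit 3)) (.leaf (nat_lit 4)))))) (.node (nat_lit 4328) (.node (nat_lit 4101) (.node (nat_lit 4017) (.node (nat_lit 4016) (.leaf (nat_lit 1)) (.leaf (nat_lit 2))) (.node (nat_lit 4098) (.leaf (nat_lit 5)) (.leaf (nat_lit 4)))) (.node (nat_lit 4219) (.node (nat_lit 4164) (.leaf (nat_lit 1)) (.leaf (nat_lit 2))) (.node (nat_lit 4259) (.leaf (nat_lit 0)) (.leaf (nat_lit 2))))) (.node (nat_lit 4569)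 (.node (nat_lit 4371) (.node (nat_lit 4335) (.leaf (nat_lit 0)) (.leaf (nat_lit 1))) (.node (nat_lit 4436) (.leaf (nat_lit 4)) (.leaf (nat_lit 0)))) (.node (nat_lit 4676) (.node (nat_lit 4588) (.leaf (nat_lit 5)) (.leaf (nat_lit 2))) (.node (nat_lit 4699) (.leaf (nat_lit 4)) (.leaf (nat_lit 5))))))) (.node (nat_lit 5379) (.node (nat_lit 5026) (.node (nat_lit 4843) (.node (nat_lit 4801) (.node (nat_lit 4779) (.leaf (nat_lit 4)) (.leaf (nat_lit 3))) (.node (nat_lit 4832) (.leaf (nat_lit 1)) (.leaf (nat_lit 4)))) (.node (nat_lit 4945) (.node (nat_lit 4913) (.leaf (nat_lit 3)) (.leaf (nat_lit 5))) (.node (nat_lit 5003) (.leaf (nat_lit 4)) (.leaf (nat_lit 1))))) (.node (nat_lit 5205) (.node (nat_lit 5109) (.node (nat_lit 5046) (.leaf (nat_lit 0)) (.leaf (nat_lit 5))) (.node (nat_lit 5144) (.leaf (nat_lit 4)) (.leaf (nat_lit 0)))) (.node (nat_lit 5266) (.node (nat_lit 5251) (.leaf (nat_lit 5)) (.leaf (nat_lit 0))) (.node (nat_lit 5320) (.leaf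 (nat_lit 5)) (.leaf (nat_lit 2)))))) (.node (nat_lit 5986) (.node (nat_lit 5592) (.node (nat_lit 5448) (.node (nat_lit 5409) (.leaf (nat_lit 4)) (.leaf (nat_lit 3))) (.node (nat_lit 5506) (.leaf (nat_lit 1)) (.leaf (nat_lit 3)))) (.node (nat_lit 5872) (.node (nat_lit 5765) (.leaf (nat_lit 5)) (.leaf (nat_lit 0))) (.node (nat_lit 5923) (.leaf (nat_lit 2)) (.leaf (nat_lit 4))))) (.node (nat_lit 6084) (.node (nat_lit 6033) (.node (nat_lit 6001) (.leaf (nat_lit 1)) (.leaf (nat_lit 2))) (.node (nat_lit 6075) (.leaf (nat_lit 1)) (.leaf (nat_lit 5)))) (.node (nat_lit 6126) (.node (nat_lit 6087) (.leaf (nat_lit 3)) (.leaf (nat_lit 1))) (.node (nat_lit 6139) (.leaf (nat_lit 0)) (.leaf (nat_lit 4)))))))))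
noncomputable def NX_five_t1 : ST := (.node (nat_lit 1761) (.node (nat_lit 769) (.node (nat_lit 479) (.node (nat_lit 284) (.node (nat_lit 159) (.node (nat_lit 121) (.leaf (nat_lit 2)) (.node (nat_lit 127) (.leaf (nat_lit 0)) (.leaf (nat_lit 5)))) (.node (nat_lit 226) (.node (nat_lit 185) (.leaf (nat_lit 3)) (.leaf (nat_lit 0))) (.node (nat_lit 260) (.leaf (nat_lit 2)) (.leaf (nat_lit 1))))) (.node (nat_lit 341) (.node (nat_lit 321) (.node (nat_lit 306) (.leaf (nat_lit 3)) (.leaf (nat_lit 5))) (.node (nat_lit 326) (.leaf (nat_lit 1)) (.leaf (nat_lit 0)))) (.node (nat_lit 409) (.node (nat_lit 393) (.leaf (nat_lit 1)) (.leaf (nat_lit 5))) (.node (nat_lit 476) (.leaf (nat_lit 3)) (.leaf (nat_lit 5)))))) (.node (nat_lit 691) (.node (nat_lit 596) (.node (nat_lit 480) (.leaf (nat_lit 0)) (.node (nat_lit 566) (.leaf (nat_lit 5)) (.leaf (nat_lit 4)))) (.node (nat_lit 655) (.node (nat_lit 637) (.leaf (nat_lit 2)) (.leaf (nat_lit 1))) (.node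 (nat_lit 684) (.leaf (nat_lit 2)) (.leaf (nat_lit 4))))) (.node (nat_lit 732) (.node (nat_lit 696) (.node (nat_lit 695) (.leaf (nat_lit 0)) (.leaf (nat_lit 4))) (.node (nat_lit 705) (.leaf (nat_lit 5)) (.leaf (nat_lit 0)))) (.node (nat_lit 747) (.node (nat_lit 742) (.leaf (nat_lit 2)) (.leaf (nat_lit 0))) (.node (nat_lit 749) (.leaf (nat_lit 1)) (.leaf (nat_lit 3))))))) (.node (nat_lit 1311) (.node (nat_lit 1135) (.node (nat_lit 901) (.node (nat_lit 864) (.leaf (nat_lit 5)) (.node (nat_lit 888) (.leaf (nat_lit 4)) (.leaf (nat_lit 5)))) (.node (nat_lit 1025) (.node (nat_lit 924) (.leaf (nat_lit 2)) (.leaf (nat_lit 0))) (.node (nat_lit 1046) (.leaf (nat_lit 2)) (.leaf (nat_lit 4))))) (.node (nat_lit 1240) (.node (nat_lit 1199) (.node (nat_lit 1157) (.leaf (nat_lit 0)) (.leaf (nat_lit 2))) (.node (nat_lit 1203) (.leaf (nat_lit 4)) (.leaf (nat_lit 1)))) (.node (nat_lit 1260) (.node (nat_lit 1257) (.leaf (nat_lit 4)) (.leaf (nat_lit 5)))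 (.node (nat_lit 1293) (.leaf (nat_lit 0)) (.leaf (nat_lit 2)))))) (.node (nat_lit 1660) (.node (nat_lit 1472) (.node (nat_lit 1315) (.leaf (nat_lit 4)) (.node (nat_lit 1465) (.leaf (nat_lit 5)) (.leaf (nat_lit 4)))) (.node (nat_lit 1593) (.node (nat_lit 1579) (.leaf (nat_lit 1)) (.leaf (nat_lit 4))) (.node (nat_lit 1609) (.leaf (nat_lit 2)) (.leaf (nat_lit 0))))) (.node (nat_lit 1696) (.node (nat_lit 1669) (.node (nat_lit 1665) (.leaf (nat_lit 4)) (.leaf (nat_lit 3))) (.node (nat_lit 1694) (.leaf (nat_lit 0)) (.leaf (nat_lit 4)))) (.node (nat_lit 1718) (.node (nat_lit 1707) (.leaf (nat_lit 3)) (.leaf (nat_lit 2))) (.node (nat_lit 1722) (.leaf (nat_lit 1)) (.leaf (nat_lit 4)))))))) (.node (nat_lit 2752) (.node (nat_lit 2185) (.node (nat_lit 2003) (.node (nat_lit 1908) (.node (nat_lit 1796) (.leaf (nat_lit 0)) (.node (nat_lit 1822) (.leaf (nat_lit 5)) (.leaf (nat_lit 0)))) (.node (nat_lit 1975) (.node (nat_lit 1948) (.leaf (nat_lit 1))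 (.leaf (nat_lit 5))) (.node (nat_lit 1988) (.leaf (nat_lit 3)) (.leaf (nat_lit 2))))) (.node (nat_lit 2097) (.node (nat_lit 2067) (.node (nat_lit 2058) (.leaf (nat_lit 0)) (.leaf (nat_lit 2))) (.node (nat_lit 2090) (.leaf (nat_lit 0)) (.leaf (nat_lit 2)))) (.node (nat_lit 2158) (.node (nat_lit 2119) (.leaf (nat_lit 4)) (.leaf (nat_lit 1))) (.node (nat_lit 2182) (.leaf (nat_lit 2)) (.leaf (nat_lit 5)))))) (.node (nat_lit 2396) (.node (nat_lit 2224) (.node (nat_lit 2191) (.leaf (nat_lit 3)) (.node (nat_lit 2220) (.leaf (nat_lit 4)) (.leaf (nat_lit 2)))) (.node (nat_lit 2307) (.node (nat_lit 2262) (.leaf (nat_lit 5)) (.leaf (nat_lit 0))) (.node (nat_lit 2339) (.leaf (nat_lit 2)) (.leaf (nat_lit 0))))) (.node (nat_lit 2554) (.node (nat_lit 2453) (.node (nat_lit 2451) (.leaf (nat_lit 4)) (.leaf (nat_lit 5))) (.node (nat_lit 2516) (.leaf (nat_lit 1)) (.leaf (nat_lit 4)))) (.node (nat_lit 2610) (.node (nat_lit 2603) (.leaf (nat_lit 0)) (.leaf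 (nat_lit 2))) (.node (nat_lit 2713) (.leaf (nat_lit 4)) (.leaf (nat_lit 2))))))) (.node (nat_lit 2987) (.node (nat_lit 2875) (.node (nat_lit 2817) (.node (nat_lit 2767) (.leaf (nat_lit 0)) (.node (nat_lit 2805) (.leaf (nat_lit 4)) (.leaf (nat_lit 1)))) (.node (nat_lit 2840) (.node (nat_lit 2833) (.leaf (nat_lit 5)) (.leaf (nat_lit 3))) (.node (nat_lit 2844) (.leaf (nat_lit 4)) (.leaf (nat_lit 1))))) (.node (nat_lit 2906) (.node (nat_lit 2888) (.node (nat_lit 2879) (.leaf (nat_lit 0)) (.leaf (nat_lit 2))) (.node (nat_lit 2890) (.leaf (nat_lit 4)) (.leaf (nat_lit 3)))) (.node (nat_lit 2917) (.node (nat_lit 2911) (.leaf (nat_lit 0)) (.leaf (nat_lit 5))) (.node (nat_lit 2986) (.leaf (nat_lit 2)) (.leaf (nat_lit 0)))))) (.node (nat_lit 3228) (.node (nat_lit 3157) (.node (nat_lit 3134) (.leaf (nat_lit 5)) (.node (nat_lit 3143) (.leaf (nat_lit 4)) (.leaf (nat_lit 5)))) (.node (nat_lit 3221) (.node (nat_lit 3179) (.leaf (nat_lit 0)) (.leaf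 (nat_lit 2))) (.node (nat_lit 3225) (.leaf (nat_lit 0)) (.leaf (nat_lit 5))))) (.node (nat_lit 3413) (.node (nat_lit 3385) (.node (nat_lit 3297) (.leaf (nat_lit 1)) (.leaf (nat_lit 4))) (.node (nat_lit 3386) (.leaf (nat_lit 2)) (.leaf (nat_lit 1)))) (.node (nat_lit 3451) (.node (nat_lit 3439) (.leaf (nat_lit 0)) (.leaf (nat_lit 5))) (.node (nat_lit 3494) (.leaf (nat_lit 4)) (.leaf (nat_lit 0)))))))))
noncomputable def NX_five_t2 : ST := (.node (nat_lit 1715) (.node (nat_lit 939) (.node (nat_lit 462) (.node (nat_lit 270) (.node (nat_lit 116) (.node (nat_lit 89) (.leaf (nat_lit 0)) (.node (nat_lit 102) (.leaf (nat_lit 3)) (.leaf (nat_lit 2)))) (.node (nat_lit 150) (.node (nat_lit 117) (.leaf (nat_lit 0)) (.leaf (nat_lit 4))) (.node (nat_lit 236) (.leaf (nat_lit 1)) (.leaf (nat_lit 0))))) (.node (nat_lit 381) (.node (nat_lit 295) (.leaf (nat_lit 1)) (.node (nat_lit 372) (.leaf (nat_lit 0)) (.leaf (nat_lit 1)))) (.node (nat_lit 405) (.node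 (nat_lit 402) (.leaf (nat_lit 2)) (.leaf (nat_lit 0))) (.node (nat_lit 416) (.leaf (nat_lit 2)) (.leaf (nat_lit 5)))))) (.node (nat_lit 685) (.node (nat_lit 644) (.node (nat_lit 476) (.leaf (nat_lit 3)) (.node (nat_lit 582) (.leaf (nat_lit 0)) (.leaf (nat_lit 3)))) (.node (nat_lit 673) (.node (nat_lit 669) (.leaf (nat_lit 4)) (.leaf (nat_lit 2))) (.node (nat_lit 682) (.leaf (nat_lit 1)) (.leaf (nat_lit 0))))) (.node (nat_lit 848) (.node (nat_lit 710) (.node (nat_lit 687) (.leaf (nat_lit 2)) (.leaf (nat_lit 1))) (.node (nat_lit 737) (.leaf (nat_lit 0)) (.leaf (nat_lit 4)))) (.node (nat_lit 911) (.node (nat_lit 884) (.leaf (nat_lit 0)) (.leaf (nat_lit 5))) (.node (nat_lit 925) (.leaf (nat_lit 0)) (.leaf (nat_lit 5))))))) (.node (nat_lit 1332) (.node (nat_lit 1139) (.node (nat_lit 1026) (.node (nat_lit 958) (.leaf (nat_lit 2)) (.node (nat_lit 1016) (.leaf (nat_lit 5)) (.leaf (nat_lit 1)))) (.node (nat_lit 1089) (.node (nat_lit 1048) (.leaf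 (nat_lit 3)) (.leaf (nat_lit 0))) (.node (nat_lit 1120) (.leaf (nat_lit 3)) (.leaf (nat_lit 2))))) (.node (nat_lit 1279) (.node (nat_lit 1212) (.leaf (nat_lit 5)) (.node (nat_lit 1223) (.leaf (nat_lit 1)) (.leaf (nat_lit 4)))) (.node (nat_lit 1312) (.node (nat_lit 1305) (.leaf (nat_lit 5)) (.leaf (nat_lit 1))) (.node (nat_lit 1320) (.leaf (nat_lit 0)) (.leaf (nat_lit 3)))))) (.node (nat_lit 1474) (.node (nat_lit 1404) (.node (nat_lit 1379) (.leaf (nat_lit 0)) (.node (nat_lit 1390) (.leaf (nat_lit 4)) (.leaf (nat_lit 0)))) (.node (nat_lit 1443) (.node (nat_lit 1432) (.leaf (nat_lit 2)) (.leaf (nat_lit 4))) (.node (nat_lit 1448) (.leaf (nat_lit 2)) (.leaf (nat_lit 4))))) (.node (nat_lit 1630) (.node (nat_lit 1556) (.node (nat_lit 1552) (.leaf (nat_lit 0)) (.leaf (nat_lit 3))) (.node (nat_lit 1594) (.leaf (nat_lit 5)) (.leaf (nat_lit 4)))) (.node (nat_lit 1679) (.node (nat_lit 1669) (.leaf (nat_lit 5)) (.leaf (nat_lit 1))) (.node (nat_lit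 1700) (.leaf (nat_lit 0)) (.leaf (nat_lit 5)))))))) (.node (nat_lit 2700) (.node (nat_lit 2281) (.node (nat_lit 2099) (.node (nat_lit 1778) (.node (nat_lit 1733) (.leaf (nat_lit 4)) (.node (nat_lit 1749) (.leaf (nat_lit 0)) (.leaf (nat_lit 5)))) (.node (nat_lit 2016) (.node (nat_lit 1981) (.leaf (nat_lit 0)) (.leaf (nat_lit 4))) (.node (nat_lit 2051) (.leaf (nat_lit 1)) (.leaf (nat_lit 0))))) (.node (nat_lit 2236) (.node (nat_lit 2200) (.leaf (nat_lit 3)) (.node (nat_lit 2229) (.leaf (nat_lit 1)) (.leaf (nat_lit 0)))) (.node (nat_lit 2253) (.node (nat_lit 2247) (.leaf (nat_lit 2)) (.leaf (nat_lit 5))) (.node (nat_lit 2267) (.leaf (nat_lit 0)) (.leaf (nat_lit 1)))))) (.node (nat_lit 2509) (.node (nat_lit 2387) (.node (nat_lit 2304) (.leaf (nat_lit 0)) (.node (nat_lit 2350) (.leaf (nat_lit 3)) (.leaf (nat_lit 5)))) (.node (nat_lit 2436) (.node (nat_lit 2417) (.leaf (nat_lit 0)) (.leaf (nat_lit 2))) (.node (nat_lit 2472) (.leaf (nat_lit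 0)) (.leaf (nat_lit 5))))) (.node (nat_lit 2666) (.node (nat_lit 2569) (.node (nat_lit 2534) (.leaf (nat_lit 1)) (.leaf (nat_lit 0))) (.node (nat_lit 2655) (.leaf (nat_lit 4)) (.leaf (nat_lit 2)))) (.node (nat_lit 2683) (.node (nat_lit 2678) (.leaf (nat_lit 3)) (.leaf (nat_lit 4))) (.node (nat_lit 2697) (.leaf (nat_lit 5)) (.leaf (nat_lit 0))))))) (.node (nat_lit 3440) (.node (nat_lit 3077) (.node (nat_lit 2733) (.node (nat_lit 2721) (.leaf (nat_lit 4)) (.node (nat_lit 2727) (.leaf (nat_lit 1)) (.leaf (nat_lit 0)))) (.node (nat_lit 2989) (.node (nat_lit 2988) (.leaf (nat_lit 3)) (.leaf (nat_lit 2))) (.node (nat_lit 3008) (.leaf (nat_lit 3)) (.leaf (nat_lit 1))))) (.node (nat_lit 3279) (.node (nat_lit 3222) (.node (nat_lit 3199) (.leaf (nat_lit 3)) (.leaf (nat_lit 0))) (.node (nat_lit 3236) (.leaf (nat_lit 5)) (.leaf (nat_lit 3)))) (.node (nat_lit 3367) (.node (nat_lit 3353) (.leaf (nat_lit 0)) (.leaf (nat_lit 3))) (.node (nat_lit 3423)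 (.leaf (nat_lit 1)) (.leaf (nat_lit 2)))))) (.node (nat_lit 3623) (.node (nat_lit 3479) (.node (nat_lit 3457) (.leaf (nat_lit 0)) (.node (nat_lit 3462) (.leaf (nat_lit 2)) (.leaf (nat_lit 0)))) (.node (nat_lit 3615) (.node (nat_lit 3559) (.leaf (nat_lit 1)) (.leaf (nat_lit 3))) (.node (nat_lit 3619) (.leaf (nat_lit 1)) (.leaf (nat_lit 0))))) (.node (nat_lit 3725) (.node (nat_lit 3664) (.node (nat_lit 3663) (.leaf (nat_lit 5)) (.leaf (nat_lit 1))) (.node (nat_lit 3692) (.leaf (nat_lit 3)) (.leaf (nat_lit 0)))) (.node (nat_lit 3775) (.node (nat_lit 3757) (.leaf (nat_lit 1)) (.leaf (nat_lit 0))) (.node (nat_lit 3778) (.leaf (nat_lit 3)) (.leaf (nat_lit 1)))))))))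
noncomputable def NX_five_t3 : ST := (.node (nat_lit 951) (.node (nat_lit 441) (.node (nat_lit 194) (.node (nat_lit 105) (.node (nat_lit 83) (.node (nat_lit 58) (.leaf (nat_lit 0)) (.leaf (nat_lit 2))) (.node (nat_lit 98) (.leaf (nat_lit 0)) (.leaf (nat_lit 2)))) (.node (nat_lit 143) (.node (nat_lit 114) (.leaf (nat_lit 0)) (.leaf (nat_lit 1))) (.node (nat_lit 154) (.leaf (nat_lit 0)) (.node (nat_lit 157) (.leaf (nat_lit 1)) (.leaf (nat_lit 3)))))) (.node (nat_lit 287) (.node (nat_lit 210) (.node (nat_lit 206) (.leaf (nat_lit 0)) (.leaf (nat_lit 2))) (.node (nat_lit 268) (.leaf (nat_lit 0)) (.node (nat_lit 284) (.leaf (nat_lit 1)) (.leaf (nat_lit 0))))) (.node (nat_lit 378) (.node (nat_lit 305) (.leaf (nat_lit 1)) (.leaf (nat_lit 0))) (.node (nat_lit 386) (.leaf (nat_lit 2)) (.node (nat_lit 439) (.leaf (nat_lit 0)) (.leaf (nat_lit 1))))))) (.node (nat_lit 593) (.node (nat_lit 503) (.node (nat_lit 462) (.node (nat_lit 457) (.leaf (nat_lit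 0)) (.leaf (nat_lit 3))) (.node (nat_lit 475) (.leaf (nat_lit 0)) (.node (nat_lit 479) (.leaf (nat_lit 1)) (.leaf (nat_lit 0))))) (.node (nat_lit 514) (.node (nat_lit 509) (.leaf (nat_lit 2)) (.leaf (nat_lit 1))) (.node (nat_lit 528) (.leaf (nat_lit 3)) (.node (nat_lit 548) (.leaf (nat_lit 4)) (.leaf (nat_lit 0)))))) (.node (nat_lit 818) (.node (nat_lit 773) (.node (nat_lit 620) (.leaf (nat_lit 1)) (.leaf (nat_lit 0))) (.node (nat_lit 784) (.leaf (nat_lit 1)) (.node (nat_lit 815) (.leaf (nat_lit 0)) (.leaf (nat_lit 3))))) (.node (nat_lit 906) (.node (nat_lit 854) (.leaf (nat_lit 0)) (.leaf (nat_lit 3))) (.node (nat_lit 947) (.leaf (nat_lit 1)) (.node (nat_lit 948) (.leaf (nat_lit 0)) (.leaf (nat_lit 1)))))))) (.node (nat_lit 1597) (.node (nat_lit 1362) (.node (nat_lit 1126) (.node (nat_lit 1064) (.node (nat_lit 1046) (.leaf (nat_lit 0)) (.leaf (nat_lit 2))) (.node (nat_lit 1084) (.leaf (nat_lit 0)) (.node (nat_lit 1089) (.leaf (nat_lit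 1)) (.leaf (nat_lit 2))))) (.node (nat_lit 1139) (.node (nat_lit 1131) (.leaf (nat_lit 0)) (.leaf (nat_lit 2))) (.node (nat_lit 1317) (.leaf (nat_lit 0)) (.node (nat_lit 1326) (.leaf (nat_lit 2)) (.leaf (nat_lit 0)))))) (.node (nat_lit 1430) (.node (nat_lit 1389) (.node (nat_lit 1376) (.leaf (nat_lit 1)) (.leaf (nat_lit 0))) (.node (nat_lit 1398) (.leaf (nat_lit 1)) (.node (nat_lit 1427) (.leaf (nat_lit 0)) (.leaf (nat_lit 1))))) (.node (nat_lit 1482) (.node (nat_lit 1455) (.leaf (nat_lit 2)) (.leaf (nat_lit 1))) (.node (nat_lit 1506) (.leaf (nat_lit 0)) (.node (nat_lit 1547) (.leaf (nat_lit 2)) (.leaf (nat_lit 0))))))) (.node (nat_lit 1774) (.node (nat_lit 1655) (.node (nat_lit 1608) (.node (nat_lit 1598) (.leaf (nat_lit 3)) (.leaf (nat_lit 2))) (.node (nat_lit 1633) (.leaf (nat_lit 0)) (.node (nat_lit 1637) (.leaf (nat_lit 1)) (.leaf (nat_lit 4))))) (.node (nat_lit 1705) (.node (nat_lit 1692) (.leaf (nat_lit 0)) (.leaf (nat_lit 1)))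 (.node (nat_lit 1754) (.leaf (nat_lit 0)) (.node (nat_lit 1755) (.leaf (nat_lit 5)) (.leaf (nat_lit 0)))))) (.node (nat_lit 1840) (.node (nat_lit 1797) (.node (nat_lit 1781) (.leaf (nat_lit 2)) (.leaf (nat_lit 1))) (.node (nat_lit 1821) (.leaf (nat_lit 0)) (.node (nat_lit 1832) (.leaf (nat_lit 2)) (.leaf (nat_lit 1))))) (.node (nat_lit 1856) (.node (nat_lit 1842) (.leaf (nat_lit 0)) (.leaf (nat_lit 1))) (.node (nat_lit 1863) (.leaf (nat_lit 0)) (.node (nat_lit 1879) (.leaf (nat_lit 5)) (.leaf (nat_lit 0)))))))))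
noncomputable def NX_five_t4 : ST := (.node (nat_lit 96) (.node (nat_lit 62) (.leaf (nat_lit 0)) (.node (nat_lit 63) (.leaf (nat_lit 1)) (.leaf (nat_lit 0)))) (.node (nat_lit 312) (.node (nat_lit 102) (.leaf (nat_lit 1)) (.leaf (nat_lit 0))) (.node (nat_lit 323) (.leaf (nat_lit 1)) (.leaf (nat_lit 0)))))
noncomputable def NX_five_F : Fm := (.all NQ_L (.imp (.eq (.pw (.v (nat_lit 0)) (nat_lit 5)) .one) (.or (.qf (.eq (.v (nat_lit 0)) .one)) (.exG NX_lB (fun cs => NX_five_t4.find (Nat.mod (nth (nat_lit 0) cs (nat_lit 0)) (nat_lit 394))) (.exG NX_lB (fun cs => NX_five_t3.find (Nat.mod (Nat.add (nth (nat_lit 0) cs (nat_lit 1)) (Nat.mul (nat_lit 7919) (nth (nat_lit 0) cs (nat_lit 0)))) (nat_lit 1889))) (.exG NX_lB (fun cs => NX_five_t2.find (Nat.mod (Nat.add (Nat.add (nth (nat_lit 0) cs (nat_lit 2)) (Nat.mul (nat_lit 7919) (nth (nat_lit 0) cs (nat_lit 1)))) (Nat.mul (nat_lit 104729) (nth (nat_lit 0) cs (nat_lit 0)))) (nat_lit 3781))) (.exG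 NX_lB (fun cs => NX_five_t1.find (Nat.mod (Nat.add (Nat.add (Nat.add (nth (nat_lit 0) cs (nat_lit 3)) (Nat.mul (nat_lit 7919) (nth (nat_lit 0) cs (nat_lit 2)))) (Nat.mul (nat_lit 104729) (nth (nat_lit 0) cs (nat_lit 1)))) (Nat.mul (nat_lit 0x13d4fd) (nth (nat_lit 0) cs (nat_lit 0)))) (nat_lit 3539))) (.exG NX_lB (fun cs => NX_five_t0.find (Nat.mod (Nat.add (Nat.add (Nat.add (Nat.add (nth (nat_lit 0) cs (nat_lit 4)) (Nat.mul (nat_lit 7919) (nth (nat_lit 0) cs (nat_lit 3)))) (Nat.mul (nat_lit 104729) (nth (nat_lit 0) cs (nat_lit 2)))) (Nat.mul (nat_lit 0x13d4fd) (nth (nat_lit 0) cs (nat_lit 1)))) (Nat.mul (nat_lit 0xec4ba7) (nth (nat_lit 0) cs (nat_lit 0)))) (nat_lit 6194))) (.qf (.eq (.mul (.mul (.mul (.mul (.mul (.mul (.mul (.mul (.v (nat_lit 4)) (.v (nat_lit 5))) (.v (nat_lit 3))) (.v (nat_lit 5))) (.v (nat_lit 2))) (.v (nat_lit 5))) (.v (nat_lit 1))) (.v (nat_lit 5))) (.v (nat_lit 0))) (.v (nat_lit 18))))))))))))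
theorem NX_five_chk : Fm.chk NQ_o NX_five_F NX_cs = true := by decide +kernel
theorem NX_five {G : Type*} [Group G] {R : ℕ → G → Prop} {a b r w e d c s v u p o : G} {H : Subgroup G}
    (M : Mdl NQ_o NX_cs NQ_L R [a, a⁻¹, b, b⁻¹, r, r⁻¹, w, e, e⁻¹, d, c, s, v, u, p, o] H) :
    ∀ f ∈ H, f ^ 5 = 1 → f = 1 ∨ (∃ i ∈ sp [b, c], ∃ j ∈ sp [b, c], ∃ k ∈ sp [b, c], ∃ l ∈ sp [b, c], ∃ m ∈ sp [b, c], i * f * j * f * k * f * l * f * m = v) :=
  have h : ∀ f, InL NQ_o R NQ_L f → f ^ 5 = 1 → f = 1 ∨ (GoodS R NX_lB → NX_lB ≠ [] → ∃ i, InS R NX_lB i ∧ (GoodS R NX_lB → NX_lB ≠ [] → ∃ j, InS R NX_lB j ∧ (GoodS R NX_lB → NX_lB ≠ [] → ∃ k, InS R NX_lB k ∧ (GoodS R NX_lB → NX_lB ≠ [] → ∃ l, InS R NX_lB l ∧ (GoodS R NX_lB → NX_lB ≠ [] → ∃ m, InS R NX_lB m ∧ i * f * j * f * k * f * l * f * m = v))))) :=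
    Fm.sound M.μ NX_five_F NX_five_chk M.reps
  (fun f h0 => (fun h1 => (Or.imp (fun h2 => h2) (fun h2 => (Exists.imp (fun i h3 => ⟨(NX_lB_E M).iff.1 h3.1, (Exists.imp (fun j h4 => ⟨(NX_lB_E M).iff.1 h4.1, (Exists.imp (fun k h5 => ⟨(NX_lB_E M).iff.1 h5.1, (Exists.imp (fun l h6 => ⟨(NX_lB_E M).iff.1 h6.1, (Exists.imp (fun m h7 => ⟨(NX_lB_E M).iff.1 h7.1, h7.2⟩) (h6.2 (NX_lB_E M).good (NX_lB_E M).ne))⟩) (h5.2 (NX_lB_E M).good (NX_lB_E M).ne))⟩) (h4.2 (NX_lB_E M).good (NX_lB_E M).ne))⟩) (h3.2 (NX_lB_E M).good (NX_lB_E M).ne))⟩) (h2 (NX_lB_E M).good (NX_lB_E M).ne))) ((h f (M.H.iff.2 h0)) h1))))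
noncomputable def NX_T_t0 : ST := (.node (nat_lit 9) (.node (nat_lit 3) (.leaf (nat_lit 40)) (.node (nat_lit 7) (.leaf (nat_lit 60)) (.leaf (nat_lit 253)))) (.node (nat_lit 17) (.node (nat_lit 10) (.leaf (nat_lit 1140)) (.leaf (nat_lit 12))) (.node (nat_lit 20) (.leaf (nat_lit 37)) (.leaf (nat_lit 0)))))
noncomputable def NX_T_F : Fm := (.allS NX_lT (.and (.qf (.eq (.pw (.v (nat_lit 0)) (nat_lit 4)) .one)) (.and (.qf (.eq (.mul (.v (nat_lit 0)) (.v (nat_lit 11))) (.mul (.v (nat_lit 11)) (.v (nat_lit 0))))) (.or (.qf (.not (.eq (.mul (.v (nat_lit 0)) (.v (nat_lit 0))) .one))) (.or (.qf (.or (.eq (.v (nat_lit 0)) (.mul (.v (nat_lit 7)) (.v (nat_lit 10)))) (.or (.eq (.v (nat_lit 0)) (.v (nat_lit 12))) (.eq (.v (nat_lit 0)) (.mul (.v (nat_lit 12)) (.v (nat_lit 11))))))) (.or (.qf (.eq (.v (nat_lit 0)) .one)) (.exF NQ_L (fun cs => NX_T_t0.find (Nat.mod (nth (nat_lit 0) cs (nat_lit 0)) (nat_lit 29))) (.qf (.or (.eq (.mul (.mul (.v (nat_lit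 0)) (.v (nat_lit 1))) (.inv (.v (nat_lit 0)))) (.v (nat_lit 12))) (.eq (.mul (.mul (.v (nat_lit 0)) (.v (nat_lit 1))) (.inv (.v (nat_lit 0)))) (.v (nat_lit 11))))))))))))
theorem NX_T_chk : Fm.chk NQ_o NX_T_F NX_cs = true := by decide +kernel
theorem NX_T {G : Type*} [Group G] {R : ℕ → G → Prop} {a b r w e d c s v u p o : G} {H : Subgroup G}
    (M : Mdl NQ_o NX_cs NQ_L R [a, a⁻¹, b, b⁻¹, r, r⁻¹, w, e, e⁻¹, d, c, s, v, u, p, o] H) :
    ∀ t ∈ sp [r, w, d], t ^ 4 = 1 ∧ t * c = c * t ∧ (t * t ≠ 1 ∨ (t = w * d ∨ t = s ∨ t = s * c) ∨ t = 1 ∨ (∃ m ∈ H, m * t * m⁻¹ = c ∨ m * t * m⁻¹ = d)) :=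
  have h : ∀ t, InS R NX_lT t → t ^ 4 = 1 ∧ t * c = c * t ∧ (t * t ≠ 1 ∨ (t = w * d ∨ t = s ∨ t = s * c) ∨ t = 1 ∨ (Good NQ_o R NQ_L → prods NQ_o NQ_L NQ_o.one ≠ [] → ∃ m, InL NQ_o R NQ_L m ∧ (m * t * m⁻¹ = c ∨ m * t * m⁻¹ = d))) :=
    Fm.sound M.μ NX_T_F NX_T_chk M.reps
  (fun t h0 => (And.imp (fun h1 => h1) (fun h1 => (And.imp (fun h2 => h2) (fun h2 => (Or.imp (fun h3 => h3) (fun h3 => (Or.imp (fun h4 => h4) (fun h4 => (Or.imp (fun h5 => h5) (fun h5 => (Exists.imp (fun m h6 => ⟨M.H.iff.1 h6.1, h6.2⟩) (h5 M.H.good M.H.ne))) h4)) h3)) h2)) h1)) (h t ((NX_lT_E M).iff.2 h0))))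
noncomputable def NX_P_F : Fm := (.allS NX_lT (.imp (.or (.eq (.v (nat_lit 0)) (.mul (.v (nat_lit 7)) (.v (nat_lit 10)))) (.or (.eq (.v (nat_lit 0)) (.v (nat_lit 12))) (.eq (.v (nat_lit 0)) (.mul (.v (nat_lit 12)) (.v (nat_lit 11)))))) (.allS NX_lT (.imp (.or (.eq (.v (nat_lit 0)) (.mul (.v (nat_lit 8)) (.v (nat_lit 11)))) (.or (.eq (.v (nat_lit 0)) (.v (nat_lit 13))) (.eq (.v (nat_lit 0)) (.mul (.v (nat_lit 13)) (.v (nat_lit 12)))))) (.and (.qf (.mem (.mul (.v (nat_lit 1)) (.v (nat_lit 0))) NX_lQ)) (.allS NX_lT (.imp (.or (.eq (.v (nat_lit 0)) (.mul (.v (nat_lit 9)) (.v (nat_lit 12)))) (.or (.eq (.v (nat_lit 0)) (.v (nat_lit 14))) (.eq (.v (nat_lit 0)) (.mul (.v (nat_lit 14)) (.v (nat_lit 13)))))) (.qf (.not (.eq (.mul (.mul (.v (nat_lit 2)) (.v (nat_lit 1))) (.v (nat_lit 0))) (.v (nat_lit 13))))))))))))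
theorem NX_P_chk : Fm.chk NQ_o NX_P_F NX_cs = true := by decide +kernel
theorem NX_P {G : Type*} [Group G] {R : ℕ → G → Prop} {a b r w e d c s v u p o : G} {H : Subgroup G}
    (M : Mdl NQ_o NX_cs NQ_L R [a, a⁻¹, b, b⁻¹, r, r⁻¹, w, e, e⁻¹, d, c, s, v, u, p, o] H) :
    ∀ t ∈ sp [r, w, d], t = w * d ∨ t = s ∨ t = s * c → (∀ l ∈ sp [r, w, d], l = w * d ∨ l = s ∨ l = s * c → t * l ∈ sp [c, v] ∧ (∀ k ∈ sp [r, w, d], k = w * d ∨ k = s ∨ k = s * c → t * l * k ≠ c)) :=
  have h : ∀ t, InS R NX_lT t → t = w * d ∨ t = s ∨ t = s * c → (∀ l, InS R NX_lT l → l = w * d ∨ l = s ∨ l = s * c → InS R NX_lQ (t * l) ∧ (∀ k, InS R NX_lT k → k = w * d ∨ k = s ∨ k = s * c → t * l * k ≠ c)) :=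
    Fm.sound M.μ NX_P_F NX_P_chk M.reps
  (fun t h0 => (fun h1 => (fun l h2 => (fun h3 => (And.imp (fun h4 => ((NX_lQ_E M).iff.1 h4)) (fun h4 => (fun k h5 => (h4 k ((NX_lT_E M).iff.2 h5)))) ((((h t ((NX_lT_E M).iff.2 h0)) h1) l ((NX_lT_E M).iff.2 h2)) h3))))))
noncomputable def NX_cQ_F : Fm := (.all NQ_L (.imp (.eq (.mul (.v (nat_lit 0)) (.v (nat_lit 11))) (.mul (.v (nat_lit 11)) (.v (nat_lit 0)))) (.imp (.eq (.mul (.v (nat_lit 0)) (.v (nat_lit 13))) (.mul (.v (nat_lit 13)) (.v (nat_lit 0)))) (.imp (.eq (.pw (.v (nat_lit 0)) (nat_lit 3)) .one) (.qf (.or (.eq (.v (nat_lit 0)) .one) (.or (.eq (.v (nat_lit 0)) (.v (nat_lit 8))) (.eq (.v (nat_lit 0)) (.inv (.v (nat_lit 8)))))))))))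
theorem NX_cQ_chk : Fm.chk NQ_o NX_cQ_F NX_cs = true := by decide +kernel
theorem NX_cQ {G : Type*} [Group G] {R : ℕ → G → Prop} {a b r w e d c s v u p o : G} {H : Subgroup G}
    (M : Mdl NQ_o NX_cs NQ_L R [a, a⁻¹, b, b⁻¹, r, r⁻¹, w, e, e⁻¹, d, c, s, v, u, p, o] H) :
    ∀ k ∈ H, k * c = c * k → k * v = v * k → k ^ 3 = 1 → k = 1 ∨ k = e ∨ k = e⁻¹ :=
  have h : ∀ k, InL NQ_o R NQ_L k → k * c = c * k → k * v = v * k → k ^ 3 = 1 → k = 1 ∨ k = e ∨ k = e⁻¹ :=
    Fm.sound M.μ NX_cQ_F NX_cQ_chk M.reps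
  (fun k h0 => (h k (M.H.iff.2 h0)))
noncomputable def NX_nT_F : Fm := (.all NQ_L (.imp (.mem (.mul (.mul (.v (nat_lit 0)) (.v (nat_lit 5))) (.inv (.v (nat_lit 0)))) NX_lT) (.imp (.mem (.mul (.mul (.v (nat_lit 0)) (.v (nat_lit 7))) (.inv (.v (nat_lit 0)))) NX_lT) (.imp (.mem (.mul (.mul (.v (nat_lit 0)) (.v (nat_lit 10))) (.inv (.v (nat_lit 0)))) NX_lT) (.qf (.mem (.v (nat_lit 0)) NX_lT))))))
theorem NX_nT_chk : Fm.chk NQ_o NX_nT_F NX_cs = true := by decide +kernel
theorem NX_nT {G : Type*} [Group G] {R : ℕ → G → Prop} {a b r w e d c s v u p o : G} {H : Subgroup G}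
    (M : Mdl NQ_o NX_cs NQ_L R [a, a⁻¹, b, b⁻¹, r, r⁻¹, w, e, e⁻¹, d, c, s, v, u, p, o] H) :
    ∀ g ∈ H, g * r * g⁻¹ ∈ sp [r, w, d] → g * w * g⁻¹ ∈ sp [r, w, d] → g * d * g⁻¹ ∈ sp [r, w, d] → g ∈ sp [r, w, d] :=
  have h : ∀ g, InL NQ_o R NQ_L g → InS R NX_lT (g * r * g⁻¹) → InS R NX_lT (g * w * g⁻¹) → InS R NX_lT (g * d * g⁻¹) → InS R NX_lT (g) :=
    Fm.sound M.μ NX_nT_F NX_nT_chk M.reps
  (fun g h0 => (fun h1 => (fun h2 => (fun h3 => ((NX_lT_E M).iff.1 ((((h g (M.H.iff.2 h0)) ((NX_lT_E M).iff.2 h1)) ((NX_lT_E M).iff.2 h2)) ((NX_lT_E M).iff.2 h3)))))))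
noncomputable def NX_E_F : Fm := (.allS NX_lE (.qf (.and (.eq (.mul (.v (nat_lit 0)) (.v (nat_lit 0))) .one) (.eq (.mul (.v (nat_lit 0)) (.mul (.v (nat_lit 11)) (.v (nat_lit 10)))) (.mul (.mul (.v (nat_lit 11)) (.v (nat_lit 10))) (.v (nat_lit 0)))))))
theorem NX_E_chk : Fm.chk NQ_o NX_E_F NX_cs = true := by decide +kernel
theorem NX_E {G : Type*} [Group G] {R : ℕ → G → Prop} {a b r w e d c s v u p o : G} {H : Subgroup G}
    (M : Mdl NQ_o NX_cs NQ_L R [a, a⁻¹, b, b⁻¹, r, r⁻¹, w, e, e⁻¹, d, c, s, v, u, p, o] H) :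
    ∀ g ∈ sp [c * d, u, b * u * b⁻¹], g * g = 1 ∧ g * (c * d) = c * d * g :=
  have h : ∀ g, InS R NX_lE g → g * g = 1 ∧ g * (c * d) = c * d * g :=
    Fm.sound M.μ NX_E_F NX_E_chk M.reps
  (fun g h0 => (h g ((NX_lE_E M).iff.2 h0)))
noncomputable def NX_Q_F : Fm := (.allS NX_lQ (.qf (.eq (.mul (.v (nat_lit 0)) (.v (nat_lit 8))) (.mul (.v (nat_lit 8)) (.v (nat_lit 0))))))
theorem NX_Q_chk : Fm.chk NQ_o NX_Q_F NX_cs = true := by decide +kernel
theorem NX_Q {G : Type*} [Group G] {R : ℕ → G → Prop} {a b r w e d c s v u p o : G} {H : Subgroup G}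
    (M : Mdl NQ_o NX_cs NQ_L R [a, a⁻¹, b, b⁻¹, r, r⁻¹, w, e, e⁻¹, d, c, s, v, u, p, o] H) :
    ∀ g ∈ sp [c, v], g * e = e * g :=
  have h : ∀ g, InS R NX_lQ g → g * e = e * g :=
    Fm.sound M.μ NX_Q_F NX_Q_chk M.reps
  (fun g h0 => (h g ((NX_lQ_E M).iff.2 h0)))

end H2.N9
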