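import Cfsg.Agent.H2.LC1g
import Cfsg.Agent.H2.NA1g

/-! Generated: the centralizer of three disjoint three-cycles. -/

set_option maxRecDepth 100000
set_option maxHeartbeats 4000000
set_option linter.unusedVariables false

open Subgroup
open scoped commutatorElement
namespace H2.NB
open H0 H0.PM H16 H19 H10.X H2.L3 H2.N9

def Nn {G : Type*} [Group G] (a b e x t n : G) : Prop :=
  n * n = 1 ∧
  n * a * n⁻¹ = a⁻¹ ∧
  n * b * n⁻¹ = b⁻¹ ∧
  n * e * n⁻¹ = e⁻¹ ∧
  n * t = t * n ∧
  n * x = x * n ∧ True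
noncomputable def PX_cs : List ℕ := [(nat_lit 0x876210543), (nat_lit 0x876543021), (nat_lit 0x876543102), (nat_lit 0x876354210), (nat_lit 0x876435210), (nat_lit 0x687543210), (nat_lit 0x768543210), (nat_lit 0x210876543), (nat_lit 0x543210876), (nat_lit 0x687354021), (nat_lit 0x876435021)]
theorem PX_ext {G : Type*} [Group G] {R : ℕ → G → Prop} {t a b e x : G} {H : Subgroup G}
    (M : Mdl PB_o PB_cs PB_L R [t, a, a⁻¹, b, b⁻¹, e, e⁻¹, x, x⁻¹] H) :
    Mdl PB_o PX_cs PB_L R [t, a, a⁻¹, b, b⁻¹, e, e⁻¹, x, x⁻¹, a * b * e, a * b⁻¹] H :=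
  ⟨M.μ, M.reps.tms M.μ.1 [(.v (nat_lit 0)), (.v (nat_lit 1)), (.v (nat_lit 2)), (.v (nat_lit 3)), (.v (nat_lit 4)), (.v (nat_lit 5)), (.v (nat_lit 6)), (.v (nat_lit 7)), (.v (nat_lit 8)), (.mul (.mul (.v (nat_lit 1)) (.v (nat_lit 3))) (.v (nat_lit 5))), (.mul (.v (nat_lit 1)) (.inv (.v (nat_lit 3))))] (cs' := PX_cs) (by decide +kernel),
    tms_mem M.le [(.v (nat_lit 0)), (.v (nat_lit 1)), (.v (nat_lit 2)), (.v (nat_lit 3)), (.v (nat_lit 4)), (.v (nat_lit 5)), (.v (nat_lit 6)), (.v (nat_lit 7)), (.v (nat_lit 8)), (.mul (.mul (.v (nat_lit 1)) (.v (nat_lit 3))) (.v (nat_lit 5))), (.mul (.v (nat_lit 1)) (.inv (.v (nat_lit 3))))], M.H⟩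
noncomputable def PX_r_f_F : Fm := (.qf (.and (.eq (.pw (.v (nat_lit 1)) (nat_lit 3)) .one) (.and (.eq (.pw (.v (nat_lit 3)) (nat_lit 3)) .one) (.and (.eq (.pw (.v (nat_lit 5)) (nat_lit 3)) .one) (.and (.eq (.mul (.v (nat_lit 1)) (.v (nat_lit 3))) (.mul (.v (nat_lit 3)) (.v (nat_lit 1)))) (.and (.eq (.mul (.v (nat_lit 1)) (.v (nat_lit 5))) (.mul (.v (nat_lit 5)) (.v (nat_lit 1)))) (.and (.eq (.mul (.v (nat_lit 3)) (.v (nat_lit 5))) (.mul (.v (nat_lit 5)) (.v (nat_lit 3)))) (.and (.eq (.pw (.v (nat_lit 7)) (nat_lit 3)) .one) (.and (.eq (.mul (.mul (.v (nat_lit 7)) (.v (nat_lit 5))) (.inv (.v (nat_lit 7)))) (.v (nat_lit 1))) (.and (.eq (.mul (.mul (.v (nat_lit 7)) (.v (nat_lit 1))) (.inv (.v (nat_lit 7)))) (.v (nat_lit 3))) (.and (.eq (.mul (.mul (.v (nat_lit 7)) (.v (nat_lit 3))) (.inv (.v (nat_lit 7)))) (.v (nat_lit 5))) (.and (.eq (.mul (.v (nat_lit 0)) (.v (nat_lit 0))) .one) (.and (.eq (.mul (.mul (.v (nat_lit 0)) (.v (nat_lit 7))) (.inv (.v (nat_lit 0)))) (.inv (.v (nat_lit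 7)))) (.and (.eq (.mul (.v (nat_lit 0)) (.v (nat_lit 5))) (.mul (.v (nat_lit 5)) (.v (nat_lit 0)))) (.eq (.mul (.mul (.v (nat_lit 0)) (.v (nat_lit 1))) (.inv (.v (nat_lit 0)))) (.v (nat_lit 3)))))))))))))))))
theorem PX_r_f_chk : Fm.chk PB_o PX_r_f_F PX_cs = true := by decide +kernel
theorem PX_r_f {G : Type*} [Group G] {R : ℕ → G → Prop} {t a b e x z y : G} {H : Subgroup G}
    (M : Mdl PB_o PX_cs PB_L R [t, a, a⁻¹, b, b⁻¹, e, e⁻¹, x, x⁻¹, z, y] H) :
    a ^ 3 = 1 ∧ b ^ 3 = 1 ∧ e ^ 3 = 1 ∧ a * b = b * a ∧ a * e = e * a ∧ b * e = e * b ∧ x ^ 3 = 1 ∧ x * e * x⁻¹ = a ∧ x * a * x⁻¹ = b ∧ x * b * x⁻¹ = e ∧ t * t = 1 ∧ t * x * t⁻¹ = x⁻¹ ∧ t * e = e * t ∧ t * a * t⁻¹ = b :=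
  Fm.sound M.μ PX_r_f_F PX_r_f_chk M.reps
theorem PX_r {G : Type*} [Group G] {R : ℕ → G → Prop} {t a b e x z y : G} {H : Subgroup G}
    (M : Mdl PB_o PX_cs PB_L R [t, a, a⁻¹, b, b⁻¹, e, e⁻¹, x, x⁻¹, z, y] H) :
    B1 a b e x t :=
  have h := PX_r_f M
  ⟨h.1, h.2.1, h.2.2.1, h.2.2.2.1, h.2.2.2.2.1, h.2.2.2.2.2.1, h.2.2.2.2.2.2.1, h.2.2.2.2.2.2.2.1, h.2.2.2.2.2.2.2.2.1, h.2.2.2.2.2.2.2.2.2.1, h.2.2.2.2.2.2.2.2.2.2.1, h.2.2.2.2.2.2.2.2.2.2.2.1, h.2.2.2.2.2.2.2.2.2.2.2.2.1, h.2.2.2.2.2.2.2.2.2.2.2.2.2, trivial⟩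
noncomputable def PX_lJ : List ℕ := [(nat_lit 0x876543210), (nat_lit 0x876543021), (nat_lit 0x876354210), (nat_lit 0x687543210), (nat_lit 0x876543102), (nat_lit 0x876354021), (nat_lit 0x687543021), (nat_lit 0x876435210), (nat_lit 0x687354210), (nat_lit 0x768543210), (nat_lit 0x876354102), (nat_lit 0x687543102), (nat_lit 0x876435021), (nat_lit 0x687354021), (nat_lit 0x768543021), (nat_lit 0x687435210), (nat_lit 0x768354210), (nat_lit 0x876435102), (nat_lit 0x687354102), (nat_lit 0x768543102), (nat_lit 0x687435021), (nat_lit 0x768354021), (nat_lit 0x768435210), (nat_lit 0x687435102), (nat_lit 0x768354102), (nat_lit 0x768435021), (nat_lit 0x768435102)]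
noncomputable def PX_lJ_W : List (List ℕ) := [[],
  [(nat_lit 0)],
  [(nat_lit 1)],
  [(nat_lit 2)],
  [(nat_lit 0), (nat_lit 0)],
  [(nat_lit 0), (nat_lit 1)],
  [(nat_lit 0), (nat_lit 2)],
  [(nat_lit 1), (nat_lit 1)],
  [(nat_lit 1), (nat_lit 2)],
  [(nat_lit 2), (nat_lit 2)],
  [(nat_lit 0), (nat_lit 0), (nat_lit 1)],
  [(nat_lit 0), (nat_lit 0), (nat_lit 2)],
  [(nat_lit 0), (nat_lit 1), (nat_lit 1)],
  [(nat_lit 0), (nat_lit 1), (nat_lit 2)],
  [(nat_lit 0), (nat_lit 2), (nat_lit 2)],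
  [(nat_lit 1), (nat_lit 1), (nat_lit 2)],
  [(nat_lit 1), (nat_lit 2), (nat_lit 2)],
  [(nat_lit 0), (nat_lit 0), (nat_lit 1), (nat_lit 1)],
  [(nat_lit 0), (nat_lit 0), (nat_lit 1), (nat_lit 2)],
  [(nat_lit 0), (nat_lit 0), (nat_lit 2), (nat_lit 2)],
  [(nat_lit 0), (nat_lit 1), (nat_lit 1), (nat_lit 2)],
  [(nat_lit 0), (nat_lit 1), (nat_lit 2), (nat_lit 2)],
  [(nat_lit 1), (nat_lit 1), (nat_lit 2), (nat_lit 2)],
  [(nat_lit 0), (nat_lit 0), (nat_lit 1), (nat_lit 1), (nat_lit 2)],
  [(nat_lit 0), (nat_lit 0), (nat_lit 1), (nat_lit 2), (nat_lit 2)],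
  [(nat_lit 0), (nat_lit 1), (nat_lit 1), (nat_lit 2), (nat_lit 2)],
  [(nat_lit 0), (nat_lit 0), (nat_lit 1), (nat_lit 1), (nat_lit 2), (nat_lit 2)]]
noncomputable def PX_lJ_h (c : ℕ) : ℕ := Nat.mod c (nat_lit 76)
theorem PX_lJ_E {G : Type*} [Group G] {R : ℕ → G → Prop} {t a b e x z y : G} {H : Subgroup G}
    (M : Mdl PB_o PX_cs PB_L R [t, a, a⁻¹, b, b⁻¹, e, e⁻¹, x, x⁻¹, z, y] H) :
    EnumS R PX_lJ (sp [a, b, e]) :=
  enumS_sp M.μ.1 (M.reps.tms M.μ.1 [(.v (nat_lit 1)), (.v (nat_lit 3)), (.v (nat_lit 5))] (cs' := [(nat_lit 0x876543021), (nat_lit 0x876354210), (nat_lit 0x687543210)]) (by decide +kernel))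
    (Ws := PX_lJ_W) (by decide +kernel) (by decide +kernel)
theorem PX_lJ_c {G : Type*} [Group G] {R : ℕ → G → Prop} {t a b e x z y : G} {H : Subgroup G}
    (M : Mdl PB_o PX_cs PB_L R [t, a, a⁻¹, b, b⁻¹, e, e⁻¹, x, x⁻¹, z, y] H) :
    #(sp [a, b, e]) = 27 :=
  (PX_lJ_E M).card M.μ (h := PX_lJ_h) (by decide +kernel)
noncomputable def PX_lS : List ℕ := [(nat_lit 0x876543210), (nat_lit 0x876543021), (nat_lit 0x876354210), (nat_lit 0x687543210), (nat_lit 0x210876543), (nat_lit 0x876543102), (nat_lit 0x876354021), (nat_lit 0x687543021), (nat_lit 0x210876354), (nat_lit 0x876435210), (nat_lit 0x687354210), (nat_lit 0x210687543), (nat_lit 0x768543210), (nat_lit 0x21876543), (nat_lit 0x543210876), (nat_lit 0x876354102), (nat_lit 0x687543102), (nat_lit 0x210876435), (nat_lit 0x876435021), (nat_lit 0x687354021), (nat_lit 0x210687354), (nat_lit 0x768543021), (nat_lit 0x21876354), (nat_lit 0x543210687), (nat_lit 0x687435210), (nat_lit 0x210768543), (nat_lit 0x768354210), (nat_lit 0x21687543),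 (nat_lit 0x543021876), (nat_lit 0x102876543), (nat_lit 0x354210876), (nat_lit 0x876435102), (nat_lit 0x687354102), (nat_lit 0x210687435), (nat_lit 0x768543102), (nat_lit 0x21876435), (nat_lit 0x543210768), (nat_lit 0x687435021), (nat_lit 0x210768354), (nat_lit 0x768354021), (nat_lit 0x21687354), (nat_lit 0x543021687), (nat_lit 0x102876354), (nat_lit 0x354210687), (nat_lit 0x768435210), (nat_lit 0x21768543), (nat_lit 0x543102876), (nat_lit 0x102687543), (nat_lit 0x354021876), (nat_lit 0x435210876), (nat_lit 0x687435102), (nat_lit 0x210768435), (nat_lit 0x768354102), (nat_lit 0x21687435), (nat_lit 0x543021768), (nat_lit 0x102876435), (nat_lit 0x354210768), (nat_lit 0x768435021), (nat_lit 0x21768354), (nat_lit 0x543102687), (nat_lit 0x102687354), (nat_lit 0x354021687), (nat_lit 0x435210687), (nat_lit 0x102768543), (nat_lit 0x354102876), (nat_lit 0x435021876), (nat_lit 0x768435102), (nat_lit 0x21768435), (nat_lit 0x543102768), (nat_lit 0x102687435), (nat_lit 0x354021768), (nat_lit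 0x435210768), (nat_lit 0x102768354), (nat_lit 0x354102687), (nat_lit 0x435021687), (nat_lit 0x435102876), (nat_lit 0x102768435), (nat_lit 0x354102768), (nat_lit 0x435021768), (nat_lit 0x435102687), (nat_lit 0x435102768)]
noncomputable def PX_lS_W : List (List ℕ) := [[],
  [(nat_lit 0)],
  [(nat_lit 1)],
  [(nat_lit 2)],
  [(nat_lit 3)],
  [(nat_lit 0), (nat_lit 0)],
  [(nat_lit 0), (nat_lit 1)],
  [(nat_lit 0), (nat_lit 2)],
  [(nat_lit 0), (nat_lit 3)],
  [(nat_lit 1), (nat_lit 1)],
  [(nat_lit 1), (nat_lit 2)],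
  [(nat_lit 1), (nat_lit 3)],
  [(nat_lit 2), (nat_lit 2)],
  [(nat_lit 2), (nat_lit 3)],
  [(nat_lit 3), (nat_lit 3)],
  [(nat_lit 0), (nat_lit 0), (nat_lit 1)],
  [(nat_lit 0), (nat_lit 0), (nat_lit 2)],
  [(nat_lit 0), (nat_lit 0), (nat_lit 3)],
  [(nat_lit 0), (nat_lit 1), (nat_lit 1)],
  [(nat_lit 0), (nat_lit 1), (nat_lit 2)],
  [(nat_lit 0), (nat_lit 1), (nat_lit 3)],
  [(nat_lit 0), (nat_lit 2), (nat_lit 2)],
  [(nat_lit 0), (nat_lit 2), (nat_lit 3)],
  [(nat_lit 0), (nat_lit 3), (nat_lit 3)],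
  [(nat_lit 1), (nat_lit 1), (nat_lit 2)],
  [(nat_lit 1), (nat_lit 1), (nat_lit 3)],
  [(nat_lit 1), (nat_lit 2), (nat_lit 2)],
  [(nat_lit 1), (nat_lit 2), (nat_lit 3)],
  [(nat_lit 1), (nat_lit 3), (nat_lit 3)],
  [(nat_lit 2), (nat_lit 2), (nat_lit 3)],
  [(nat_lit 2), (nat_lit 3), (nat_lit 3)],
  [(nat_lit 0), (nat_lit 0), (nat_lit 1), (nat_lit 1)],
  [(nat_lit 0), (nat_lit 0), (nat_lit 1), (nat_lit 2)],
  [(nat_lit 0), (nat_lit 0), (nat_lit 1), (nat_lit 3)],
  [(nat_lit 0), (nat_lit 0), (nat_lit 2), (nat_lit 2)],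
  [(nat_lit 0), (nat_lit 0), (nat_lit 2), (nat_lit 3)],
  [(nat_lit 0), (nat_lit 0), (nat_lit 3), (nat_lit 3)],
  [(nat_lit 0), (nat_lit 1), (nat_lit 1), (nat_lit 2)],
  [(nat_lit 0), (nat_lit 1), (nat_lit 1), (nat_lit 3)],
  [(nat_lit 0), (nat_lit 1), (nat_lit 2), (nat_lit 2)],
  [(nat_lit 0), (nat_lit 1), (nat_lit 2), (nat_lit 3)],
  [(nat_lit 0), (nat_lit 1), (nat_lit 3), (nat_lit 3)],
  [(nat_lit 0), (nat_lit 2), (nat_lit 2), (nat_lit 3)],
  [(nat_lit 0), (nat_lit 2), (nat_lit 3), (nat_lit 3)],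
  [(nat_lit 1), (nat_lit 1), (nat_lit 2), (nat_lit 2)],
  [(nat_lit 1), (nat_lit 1), (nat_lit 2), (nat_lit 3)],
  [(nat_lit 1), (nat_lit 1), (nat_lit 3), (nat_lit 3)],
  [(nat_lit 1), (nat_lit 2), (nat_lit 2), (nat_lit 3)],
  [(nat_lit 1), (nat_lit 2), (nat_lit 3), (nat_lit 3)],
  [(nat_lit 2), (nat_lit 2), (nat_lit 3), (nat_lit 3)],
  [(nat_lit 0), (nat_lit 0), (nat_lit 1), (nat_lit 1), (nat_lit 2)],
  [(nat_lit 0), (nat_lit 0), (nat_lit 1), (nat_lit 1), (nat_lit 3)],
  [(nat_lit 0), (nat_lit 0), (nat_lit 1), (nat_lit 2), (nat_lit 2)],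
  [(nat_lit 0), (nat_lit 0), (nat_lit 1), (nat_lit 2), (nat_lit 3)],
  [(nat_lit 0), (nat_lit 0), (nat_lit 1), (nat_lit 3), (nat_lit 3)],
  [(nat_lit 0), (nat_lit 0), (nat_lit 2), (nat_lit 2), (nat_lit 3)],
  [(nat_lit 0), (nat_lit 0), (nat_lit 2), (nat_lit 3), (nat_lit 3)],
  [(nat_lit 0), (nat_lit 1), (nat_lit 1), (nat_lit 2), (nat_lit 2)],
  [(nat_lit 0), (nat_lit 1), (nat_lit 1), (nat_lit 2), (nat_lit 3)],
  [(nat_lit 0), (nat_lit 1), (nat_lit 1), (nat_lit 3), (nat_lit 3)],
  [(nat_lit 0), (nat_lit 1), (nat_lit 2), (nat_lit 2), (nat_lit 3)],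
  [(nat_lit 0), (nat_lit 1), (nat_lit 2), (nat_lit 3), (nat_lit 3)],
  [(nat_lit 0), (nat_lit 2), (nat_lit 2), (nat_lit 3), (nat_lit 3)],
  [(nat_lit 1), (nat_lit 1), (nat_lit 2), (nat_lit 2), (nat_lit 3)],
  [(nat_lit 1), (nat_lit 1), (nat_lit 2), (nat_lit 3), (nat_lit 3)],
  [(nat_lit 1), (nat_lit 2), (nat_lit 2), (nat_lit 3), (nat_lit 3)],
  [(nat_lit 0), (nat_lit 0), (nat_lit 1), (nat_lit 1), (nat_lit 2), (nat_lit 2)],
  [(nat_lit 0), (nat_lit 0), (nat_lit 1), (nat_lit 1), (nat_lit 2), (nat_lit 3)],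
  [(nat_lit 0), (nat_lit 0), (nat_lit 1), (nat_lit 1), (nat_lit 3), (nat_lit 3)],
  [(nat_lit 0), (nat_lit 0), (nat_lit 1), (nat_lit 2), (nat_lit 2), (nat_lit 3)],
  [(nat_lit 0), (nat_lit 0), (nat_lit 1), (nat_lit 2), (nat_lit 3), (nat_lit 3)],
  [(nat_lit 0), (nat_lit 0), (nat_lit 2), (nat_lit 2), (nat_lit 3), (nat_lit 3)],
  [(nat_lit 0), (nat_lit 1), (nat_lit 1), (nat_lit 2), (nat_lit 2), (nat_lit 3)],
  [(nat_lit 0), (nat_lit 1), (nat_lit 1), (nat_lit 2), (nat_lit 3), (nat_lit 3)],
  [(nat_lit 0), (nat_lit 1), (nat_lit 2), (nat_lit 2), (nat_lit 3), (nat_lit 3)],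
  [(nat_lit 1), (nat_lit 1), (nat_lit 2), (nat_lit 2), (nat_lit 3), (nat_lit 3)],
  [(nat_lit 0), (nat_lit 0), (nat_lit 1), (nat_lit 1), (nat_lit 2), (nat_lit 2), (nat_lit 3)],
  [(nat_lit 0), (nat_lit 0), (nat_lit 1), (nat_lit 1), (nat_lit 2), (nat_lit 3), (nat_lit 3)],
  [(nat_lit 0), (nat_lit 0), (nat_lit 1), (nat_lit 2), (nat_lit 2), (nat_lit 3), (nat_lit 3)],
  [(nat_lit 0), (nat_lit 1), (nat_lit 1), (nat_lit 2), (nat_lit 2), (nat_lit 3), (nat_lit 3)],
  [(nat_lit 0), (nat_lit 0), (nat_lit 1), (nat_lit 1), (nat_lit 2), (nat_lit 2), (nat_lit 3), (nat_lit 3)]]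
noncomputable def PX_lS_h (c : ℕ) : ℕ := Nat.mod c (nat_lit 356)
theorem PX_lS_E {G : Type*} [Group G] {R : ℕ → G → Prop} {t a b e x z y : G} {H : Subgroup G}
    (M : Mdl PB_o PX_cs PB_L R [t, a, a⁻¹, b, b⁻¹, e, e⁻¹, x, x⁻¹, z, y] H) :
    EnumS R PX_lS (sp [a, b, e, x]) :=
  enumS_sp M.μ.1 (M.reps.tms M.μ.1 [(.v (nat_lit 1)), (.v (nat_lit 3)), (.v (nat_lit 5)), (.v (nat_lit 7))] (cs' := [(nat_lit 0x876543021), (nat_lit 0x876354210), (nat_lit 0x687543210), (nat_lit 0x210876543)]) (by decide +kernel))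
    (Ws := PX_lS_W) (by decide +kernel) (by decide +kernel)
theorem PX_lS_c {G : Type*} [Group G] {R : ℕ → G → Prop} {t a b e x z y : G} {H : Subgroup G}
    (M : Mdl PB_o PX_cs PB_L R [t, a, a⁻¹, b, b⁻¹, e, e⁻¹, x, x⁻¹, z, y] H) :
    #(sp [a, b, e, x]) = 81 :=
  (PX_lS_E M).card M.μ (h := PX_lS_h) (by decide +kernel)
noncomputable def PX_lF : List ℕ := [(nat_lit 0x876543210), (nat_lit 0x876354021), (nat_lit 0x687543210), (nat_lit 0x876435102), (nat_lit 0x687354021), (nat_lit 0x768543210), (nat_lit 0x687435102), (nat_lit 0x768354021), (nat_lit 0x768435102)]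
noncomputable def PX_lF_W : List (List ℕ) := [[],
  [(nat_lit 0)],
  [(nat_lit 1)],
  [(nat_lit 0), (nat_lit 0)],
  [(nat_lit 0), (nat_lit 1)],
  [(nat_lit 1), (nat_lit 1)],
  [(nat_lit 0), (nat_lit 0), (nat_lit 1)],
  [(nat_lit 0), (nat_lit 1), (nat_lit 1)],
  [(nat_lit 0), (nat_lit 0), (nat_lit 1), (nat_lit 1)]]
noncomputable def PX_lF_h (c : ℕ) : ℕ := Nat.mod c (nat_lit 13)
theorem PX_lF_E {G : Type*} [Group G] {R : ℕ → G → Prop} {t a b e x z y : G} {H : Subgroup G}
    (M : Mdl PB_o PX_cs PB_L R [t, a, a⁻¹, b, b⁻¹, e, e⁻¹, x, x⁻¹, z, y] H) :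
    EnumS R PX_lF (sp [a * b, e]) :=
  enumS_sp M.μ.1 (M.reps.tms M.μ.1 [(.mul (.v (nat_lit 1)) (.v (nat_lit 3))), (.v (nat_lit 5))] (cs' := [(nat_lit 0x876354021), (nat_lit 0x687543210)]) (by decide +kernel))
    (Ws := PX_lF_W) (by decide +kernel) (by decide +kernel)
theorem PX_lF_c {G : Type*} [Group G] {R : ℕ → G → Prop} {t a b e x z y : G} {H : Subgroup G}
    (M : Mdl PB_o PX_cs PB_L R [t, a, a⁻¹, b, b⁻¹, e, e⁻¹, x, x⁻¹, z, y] H) :
    #(sp [a * b, e]) = 9 :=
  (PX_lF_E M).card M.μ (h := PX_lF_h) (by decide +kernel)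
noncomputable def PX_lU : List ℕ := [(nat_lit 0x876543210), (nat_lit 0x876543021), (nat_lit 0x876354210), (nat_lit 0x876543102), (nat_lit 0x876354021), (nat_lit 0x876435210), (nat_lit 0x876354102), (nat_lit 0x876435021), (nat_lit 0x876435102)]
noncomputable def PX_lU_W : List (List ℕ) := [[],
  [(nat_lit 0)],
  [(nat_lit 1)],
  [(nat_lit 0), (nat_lit 0)],
  [(nat_lit 0), (nat_lit 1)],
  [(nat_lit 1), (nat_lit 1)],
  [(nat_lit 0), (nat_lit 0), (nat_lit 1)],
  [(nat_lit 0), (nat_lit 1), (nat_lit 1)],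
  [(nat_lit 0), (nat_lit 0), (nat_lit 1), (nat_lit 1)]]
noncomputable def PX_lU_h (c : ℕ) : ℕ := Nat.mod c (nat_lit 28)
theorem PX_lU_E {G : Type*} [Group G] {R : ℕ → G → Prop} {t a b e x z y : G} {H : Subgroup G}
    (M : Mdl PB_o PX_cs PB_L R [t, a, a⁻¹, b, b⁻¹, e, e⁻¹, x, x⁻¹, z, y] H) :
    EnumS R PX_lU (sp [a, b]) :=
  enumS_sp M.μ.1 (M.reps.tms M.μ.1 [(.v (nat_lit 1)), (.v (nat_lit 3))] (cs' := [(nat_lit 0x876543021), (nat_lit 0x876354210)]) (by decide +kernel))
    (Ws := PX_lU_W) (by decide +kernel) (by decide +kernel)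
theorem PX_lU_c {G : Type*} [Group G] {R : ℕ → G → Prop} {t a b e x z y : G} {H : Subgroup G}
    (M : Mdl PB_o PX_cs PB_L R [t, a, a⁻¹, b, b⁻¹, e, e⁻¹, x, x⁻¹, z, y] H) :
    #(sp [a, b]) = 9 :=
  (PX_lU_E M).card M.μ (h := PX_lU_h) (by decide +kernel)
noncomputable def PX_lV : List ℕ := [(nat_lit 0x876543210), (nat_lit 0x687543210), (nat_lit 0x768543210)]
noncomputable def PX_lV_W : List (List ℕ) := [[],
  [(nat_lit 0)],
  [(nat_lit 0), (nat_lit 0)]]
noncomputable def PX_lV_h (c : ℕ) : ℕ := Nat.mod c (nat_lit 7)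
theorem PX_lV_E {G : Type*} [Group G] {R : ℕ → G → Prop} {t a b e x z y : G} {H : Subgroup G}
    (M : Mdl PB_o PX_cs PB_L R [t, a, a⁻¹, b, b⁻¹, e, e⁻¹, x, x⁻¹, z, y] H) :
    EnumS R PX_lV (sp [e]) :=
  enumS_sp M.μ.1 (M.reps.tms M.μ.1 [(.v (nat_lit 5))] (cs' := [(nat_lit 0x687543210)]) (by decide +kernel))
    (Ws := PX_lV_W) (by decide +kernel) (by decide +kernel)
theorem PX_lV_c {G : Type*} [Group G] {R : ℕ → G → Prop} {t a b e x z y : G} {H : Subgroup G}
    (M : Mdl PB_o PX_cs PB_L R [t, a, a⁻¹, b, b⁻¹, e, e⁻¹, x, x⁻¹, z, y] H) :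
    #(sp [e]) = 3 :=
  (PX_lV_E M).card M.μ (h := PX_lV_h) (by decide +kernel)
noncomputable def PX_df_F : Fm := (.qf (.and (.eq (.v (nat_lit 9)) (.mul (.mul (.v (nat_lit 1)) (.v (nat_lit 3))) (.v (nat_lit 5)))) (.eq (.v (nat_lit 10)) (.mul (.v (nat_lit 1)) (.inv (.v (nat_lit 3)))))))
theorem PX_df_chk : Fm.chk PB_o PX_df_F PX_cs = true := by decide +kernel
theorem PX_df {G : Type*} [Group G] {R : ℕ → G → Prop} {t a b e x z y : G} {H : Subgroup G}
    (M : Mdl PB_o PX_cs PB_L R [t, a, a⁻¹, b, b⁻¹, e, e⁻¹, x, x⁻¹, z, y] H) :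
    z = a * b * e ∧ y = a * b⁻¹ :=
  Fm.sound M.μ PX_df_F PX_df_chk M.reps
noncomputable def PX_e_F : Fm := (.qf (.and (.eq (.pw (.v (nat_lit 9)) (nat_lit 3)) .one) (.and (.not (.eq (.v (nat_lit 9)) .one)) (.and (.eq (.pw (.v (nat_lit 10)) (nat_lit 3)) .one) (.and (.not (.eq (.v (nat_lit 10)) .one)) (.and (.not (.eq (.v (nat_lit 5)) .one)) (.and (.not (.eq (.v (nat_lit 0)) .one)) (.and (.not (.eq (.v (nat_lit 7)) .one)) (.and (.not (.eq (.v (nat_lit 1)) .one)) (.and (.not (.eq (.mul (.v (nat_lit 1)) (.v (nat_lit 3))) .one)) (.and (.mem (.v (nat_lit 9)) PX_lJ) (.and (.mem (.v (nat_lit 10)) PX_lJ) (.and (.not (.mem (.v (nat_lit 7)) PX_lJ)) (.not (.mem (.v (nat_lit 0)) PX_lS)))))))))))))))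
theorem PX_e_chk : Fm.chk PB_o PX_e_F PX_cs = true := by decide +kernel
theorem PX_e {G : Type*} [Group G] {R : ℕ → G → Prop} {t a b e x z y : G} {H : Subgroup G}
    (M : Mdl PB_o PX_cs PB_L R [t, a, a⁻¹, b, b⁻¹, e, e⁻¹, x, x⁻¹, z, y] H) :
    z ^ 3 = 1 ∧ z ≠ 1 ∧ y ^ 3 = 1 ∧ y ≠ 1 ∧ e ≠ 1 ∧ t ≠ 1 ∧ x ≠ 1 ∧ a ≠ 1 ∧ a * b ≠ 1 ∧ z ∈ sp [a, b, e] ∧ y ∈ sp [a, b, e] ∧ x ∉ sp [a, b, e] ∧ t ∉ sp [a, b, e, x] :=
  have h : z ^ 3 = 1 ∧ z ≠ 1 ∧ y ^ 3 = 1 ∧ y ≠ 1 ∧ e ≠ 1 ∧ t ≠ 1 ∧ x ≠ 1 ∧ a ≠ 1 ∧ a * b ≠ 1 ∧ InS R PX_lJ (z) ∧ InS R PX_lJ (y) ∧ ¬ InS R PX_lJ (x) ∧ ¬ InS R PX_lS (t) :=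
    Fm.sound M.μ PX_e_F PX_e_chk M.reps
  ((and_congr Iff.rfl (and_congr Iff.rfl (and_congr Iff.rfl (and_congr Iff.rfl (and_congr Iff.rfl (and_congr Iff.rfl (and_congr Iff.rfl (and_congr Iff.rfl (and_congr Iff.rfl (and_congr (PX_lJ_E M).iff (and_congr (PX_lJ_E M).iff (and_congr (not_congr (PX_lJ_E M).iff) (not_congr (PX_lS_E M).iff))))))))))))).1 h)
noncomputable def PX_f_F : Fm := (.qf (.and (.eq (.mul (.v (nat_lit 0)) (.v (nat_lit 9))) (.mul (.v (nat_lit 9)) (.v (nat_lit 0)))) (.and (.eq (.mul (.v (nat_lit 7)) (.v (nat_lit 9))) (.mul (.v (nat_lit 9)) (.v (nat_lit 7)))) (.and (.eq (.mul (.mul (.v (nat_lit 0)) (.v (nat_lit 10))) (.inv (.v (nat_lit 0)))) (.inv (.v (nat_lit 10)))) (.and (.eq (.mul (.mul (.v (nat_lit 10)) (.v (nat_lit 7))) (.inv (.v (nat_lit 10)))) (.mul (.v (nat_lit 7)) (.v (nat_lit 9)))) (.and (.eq (.mul (.mul (.v (nat_lit 0)) (.v (nat_lit 3))) (.inv (.v (nat_lit 0)))) (.v (nat_lit 1))) (.and (.eq (.mul (.v (nat_lit 0)) (.mul (.v (nat_lit 1)) (.v (nat_lit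 3)))) (.mul (.mul (.v (nat_lit 1)) (.v (nat_lit 3))) (.v (nat_lit 0)))) (.eq (.mul (.v (nat_lit 10)) (.v (nat_lit 9))) (.mul (.v (nat_lit 9)) (.v (nat_lit 10)))))))))))
theorem PX_f_chk : Fm.chk PB_o PX_f_F PX_cs = true := by decide +kernel
theorem PX_f {G : Type*} [Group G] {R : ℕ → G → Prop} {t a b e x z y : G} {H : Subgroup G}
    (M : Mdl PB_o PX_cs PB_L R [t, a, a⁻¹, b, b⁻¹, e, e⁻¹, x, x⁻¹, z, y] H) :
    t * z = z * t ∧ x * z = z * x ∧ t * y * t⁻¹ = y⁻¹ ∧ y * x * y⁻¹ = x * z ∧ t * b * t⁻¹ = a ∧ t * (a * b) = a * b * t ∧ y * z = z * y :=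
  Fm.sound M.μ PX_f_F PX_f_chk M.reps
noncomputable def PX_N_F : Fm := (.all PB_L (.qf (.and (.mem (.mul (.mul (.v (nat_lit 0)) (.v (nat_lit 2))) (.inv (.v (nat_lit 0)))) PX_lJ) (.and (.mem (.mul (.mul (.v (nat_lit 0)) (.v (nat_lit 4))) (.inv (.v (nat_lit 0)))) PX_lJ) (.and (.mem (.mul (.mul (.v (nat_lit 0)) (.v (nat_lit 6))) (.inv (.v (nat_lit 0)))) PX_lJ) (.and (.eq (.mul (.v (nat_lit 0)) (.v (nat_lit 10))) (.mul (.v (nat_lit 10)) (.v (nat_lit 0)))) (.mem (.mul (.v (nat_lit 0)) (.v (nat_lit 0))) PX_lS)))))))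
theorem PX_N_chk : Fm.chk PB_o PX_N_F PX_cs = true := by decide +kernel
theorem PX_N {G : Type*} [Group G] {R : ℕ → G → Prop} {t a b e x z y : G} {H : Subgroup G}
    (M : Mdl PB_o PX_cs PB_L R [t, a, a⁻¹, b, b⁻¹, e, e⁻¹, x, x⁻¹, z, y] H) :
    ∀ d ∈ H, d * a * d⁻¹ ∈ sp [a, b, e] ∧ d * b * d⁻¹ ∈ sp [a, b, e] ∧ d * e * d⁻¹ ∈ sp [a, b, e] ∧ d * z = z * d ∧ d * d ∈ sp [a, b, e, x] :=
  have h : ∀ d, InL PB_o R PB_L d → InS R PX_lJ (d * a * d⁻¹) ∧ InS R PX_lJ (d * b * d⁻¹) ∧ InS R PX_lJ (d * e * d⁻¹) ∧ d * z = z * d ∧ InS R PX_lS (d * d) :=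
    Fm.sound M.μ PX_N_F PX_N_chk M.reps
  (fun d h0 => ((and_congr (PX_lJ_E M).iff (and_congr (PX_lJ_E M).iff (and_congr (PX_lJ_E M).iff (and_congr Iff.rfl (PX_lS_E M).iff)))).1 (h d (M.H.iff.2 h0))))
noncomputable def PX_B_F : Fm := (.all PB_L (.qf (.and (.or (.eq (.mul (.mul (.v (nat_lit 0)) (.v (nat_lit 2))) (.inv (.v (nat_lit 0)))) (.v (nat_lit 2))) (.or (.eq (.mul (.mul (.v (nat_lit 0)) (.v (nat_lit 2))) (.inv (.v (nat_lit 0)))) (.v (nat_lit 4))) (.eq (.mul (.mul (.v (nat_lit 0)) (.v (nat_lit 2))) (.inv (.v (nat_lit 0)))) (.v (nat_lit 6))))) (.and (.or (.eq (.mul (.mul (.v (nat_lit 0)) (.v (nat_lit 4))) (.inv (.v (nat_lit 0)))) (.v (nat_lit 2))) (.or (.eq (.mul (.mul (.v (nat_lit 0)) (.v (nat_lit 4))) (.inv (.v (nat_lit 0)))) (.v (nat_lit 4))) (.eq (.mul (.mul (.v (nat_lit 0)) (.v (nat_lit 4))) (.inv (.v (nat_lit 0)))) (.v (nat_lit 6))))) (.or (.eq (.mul (.mul (.v (nat_lit 0)) (.v (nat_lit 6))) (.inv (.v (nat_lit 0)))) (.v (nat_lit 2))) (.or (.eq (.mul (.mul (.v (nat_lit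 0)) (.v (nat_lit 6))) (.inv (.v (nat_lit 0)))) (.v (nat_lit 4))) (.eq (.mul (.mul (.v (nat_lit 0)) (.v (nat_lit 6))) (.inv (.v (nat_lit 0)))) (.v (nat_lit 6)))))))))
theorem PX_B_chk : Fm.chk PB_o PX_B_F PX_cs = true := by decide +kernel
theorem PX_B {G : Type*} [Group G] {R : ℕ → G → Prop} {t a b e x z y : G} {H : Subgroup G}
    (M : Mdl PB_o PX_cs PB_L R [t, a, a⁻¹, b, b⁻¹, e, e⁻¹, x, x⁻¹, z, y] H) :
    ∀ d ∈ H, (d * a * d⁻¹ = a ∨ d * a * d⁻¹ = b ∨ d * a * d⁻¹ = e) ∧ (d * b * d⁻¹ = a ∨ d * b * d⁻¹ = b ∨ d * b * d⁻¹ = e) ∧ (d * e * d⁻¹ = a ∨ d * e * d⁻¹ = b ∨ d * e * d⁻¹ = e) :=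
  have h : ∀ d, InL PB_o R PB_L d → (d * a * d⁻¹ = a ∨ d * a * d⁻¹ = b ∨ d * a * d⁻¹ = e) ∧ (d * b * d⁻¹ = a ∨ d * b * d⁻¹ = b ∨ d * b * d⁻¹ = e) ∧ (d * e * d⁻¹ = a ∨ d * e * d⁻¹ = b ∨ d * e * d⁻¹ = e) :=
    Fm.sound M.μ PX_B_F PX_B_chk M.reps
  (fun d h0 => (h d (M.H.iff.2 h0)))
noncomputable def PX_J3_F : Fm := (.allS PX_lJ (.qf (.and (.eq (.pw (.v (nat_lit 0)) (nat_lit 3)) .one) (.and (.eq (.mul (.v (nat_lit 0)) (.v (nat_lit 2))) (.mul (.v (nat_lit 2)) (.v (nat_lit 0)))) (.and (.eq (.mul (.v (nat_lit 0)) (.v (nat_lit 4))) (.mul (.v (nat_lit 4)) (.v (nat_lit 0)))) (.eq (.mul (.v (nat_lit 0)) (.v (nat_lit 6))) (.mul (.v (nat_lit 6)) (.v (nat_lit 0)))))))))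
theorem PX_J3_chk : Fm.chk PB_o PX_J3_F PX_cs = true := by decide +kernel
theorem PX_J3 {G : Type*} [Group G] {R : ℕ → G → Prop} {t a b e x z y : G} {H : Subgroup G}
    (M : Mdl PB_o PX_cs PB_L R [t, a, a⁻¹, b, b⁻¹, e, e⁻¹, x, x⁻¹, z, y] H) :
    ∀ j ∈ sp [a, b, e], j ^ 3 = 1 ∧ j * a = a * j ∧ j * b = b * j ∧ j * e = e * j :=
  have h : ∀ j, InS R PX_lJ j → j ^ 3 = 1 ∧ j * a = a * j ∧ j * b = b * j ∧ j * e = e * j :=
    Fm.sound M.μ PX_J3_F PX_J3_chk M.reps
  (fun j h0 => (h j ((PX_lJ_E M).iff.2 h0)))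
noncomputable def PX_cJ_F : Fm := (.allS PX_lS (.or (.qf (.mem (.v (nat_lit 0)) PX_lJ)) (.allS PX_lJ (.imp (.eq (.mul (.v (nat_lit 0)) (.v (nat_lit 1))) (.mul (.v (nat_lit 1)) (.v (nat_lit 0)))) (.qf (.or (.eq (.v (nat_lit 0)) .one) (.or (.eq (.v (nat_lit 0)) (.v (nat_lit 11))) (.eq (.v (nat_lit 0)) (.inv (.v (nat_lit 11)))))))))))
theorem PX_cJ_chk : Fm.chk PB_o PX_cJ_F PX_cs = true := by decide +kernel
theorem PX_cJ {G : Type*} [Group G] {R : ℕ → G → Prop} {t a b e x z y : G} {H : Subgroup G}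
    (M : Mdl PB_o PX_cs PB_L R [t, a, a⁻¹, b, b⁻¹, e, e⁻¹, x, x⁻¹, z, y] H) :
    ∀ u ∈ sp [a, b, e, x], u ∈ sp [a, b, e] ∨ (∀ k ∈ sp [a, b, e], k * u = u * k → k = 1 ∨ k = z ∨ k = z⁻¹) :=
  have h : ∀ u, InS R PX_lS u → InS R PX_lJ (u) ∨ (∀ k, InS R PX_lJ k → k * u = u * k → k = 1 ∨ k = z ∨ k = z⁻¹) :=
    Fm.sound M.μ PX_cJ_F PX_cJ_chk M.reps
  (fun u h0 => (Or.imp (fun h1 => ((PX_lJ_E M).iff.1 h1)) (fun h1 => (fun k h2 => (h1 k ((PX_lJ_E M).iff.2 h2)))) (h u ((PX_lS_E M).iff.2 h0))))
noncomputable def PX_ZS_F : Fm := (.allS PX_lS (.imp (.eq (.mul (.v (nat_lit 0)) (.v (nat_lit 8))) (.mul (.v (nat_lit 8)) (.v (nat_lit 0)))) (.imp (.eq (.mul (.v (nat_lit 0)) (.v (nat_lit 11))) (.mul (.v (nat_lit 11)) (.v (nat_lit 0)))) (.qf (.or (.eq (.v (nat_lit 0)) .one) (.or (.eq (.v (nat_lit 0)) (.v (nat_lit 10))) (.eq (.v (nat_lit 0)) (.inv (.v (nat_lit 10))))))))))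
theorem PX_ZS_chk : Fm.chk PB_o PX_ZS_F PX_cs = true := by decide +kernel
theorem PX_ZS {G : Type*} [Group G] {R : ℕ → G → Prop} {t a b e x z y : G} {H : Subgroup G}
    (M : Mdl PB_o PX_cs PB_L R [t, a, a⁻¹, b, b⁻¹, e, e⁻¹, x, x⁻¹, z, y] H) :
    ∀ u ∈ sp [a, b, e, x], u * x = x * u → u * y = y * u → u = 1 ∨ u = z ∨ u = z⁻¹ :=
  have h : ∀ u, InS R PX_lS u → u * x = x * u → u * y = y * u → u = 1 ∨ u = z ∨ u = z⁻¹ :=
    Fm.sound M.μ PX_ZS_F PX_ZS_chk M.reps
  (fun u h0 => (h u ((PX_lS_E M).iff.2 h0)))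
noncomputable def PX_cD_F : Fm := (.all PB_L (.imp (.eq (.mul (.v (nat_lit 0)) (.v (nat_lit 2))) (.mul (.v (nat_lit 2)) (.v (nat_lit 0)))) (.imp (.eq (.mul (.v (nat_lit 0)) (.v (nat_lit 4))) (.mul (.v (nat_lit 4)) (.v (nat_lit 0)))) (.qf (.mem (.v (nat_lit 0)) PX_lJ)))))
theorem PX_cD_chk : Fm.chk PB_o PX_cD_F PX_cs = true := by decide +kernel
theorem PX_cD {G : Type*} [Group G] {R : ℕ → G → Prop} {t a b e x z y : G} {H : Subgroup G}
    (M : Mdl PB_o PX_cs PB_L R [t, a, a⁻¹, b, b⁻¹, e, e⁻¹, x, x⁻¹, z, y] H) :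
    ∀ d ∈ H, d * a = a * d → d * b = b * d → d ∈ sp [a, b, e] :=
  have h : ∀ d, InL PB_o R PB_L d → d * a = a * d → d * b = b * d → InS R PX_lJ (d) :=
    Fm.sound M.μ PX_cD_F PX_cD_chk M.reps
  (fun d h0 => (fun h1 => (fun h2 => ((PX_lJ_E M).iff.1 (((h d (M.H.iff.2 h0)) h1) h2)))))
noncomputable def PX_xj_F : Fm := (.allS PX_lJ (.qf (.and (.mem (.pw (.mul (.inv (.v (nat_lit 0))) (.v (nat_lit 8))) (nat_lit 3)) PX_lJ) (.and (.mem (.mul (.mul (.mul (.v (nat_lit 1)) (.mul (.inv (.v (nat_lit 0))) (.v (nat_lit 8)))) (.inv (.v (nat_lit 1)))) (.mul (.inv (.v (nat_lit 0))) (.v (nat_lit 8)))) PX_lJ) (.and (.eq (.mul (.mul (.mul (.inv (.v (nat_lit 0))) (.v (nat_lit 8))) (.v (nat_lit 6))) (.inv (.mul (.inv (.v (nat_lit 0))) (.v (nat_lit 8))))) (.v (nat_lit 2))) (.and (.eq (.mul (.mul (.mul (.inv (.v (nat_lit 0))) (.v (nat_lit 8))) (.v (nat_lit 2))) (.inv (.mul (.inv (.v (nat_lit 0))) (.v (nat_lit 8))))) (.v (nat_lit 4))) (.eq (.mul (.mul (.mul (.inv (.v (nat_lit 0))) (.v (nat_lit 8)))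 (.v (nat_lit 4))) (.inv (.mul (.inv (.v (nat_lit 0))) (.v (nat_lit 8))))) (.v (nat_lit 6)))))))))
theorem PX_xj_chk : Fm.chk PB_o PX_xj_F PX_cs = true := by decide +kernel
theorem PX_xj {G : Type*} [Group G] {R : ℕ → G → Prop} {t a b e x z y : G} {H : Subgroup G}
    (M : Mdl PB_o PX_cs PB_L R [t, a, a⁻¹, b, b⁻¹, e, e⁻¹, x, x⁻¹, z, y] H) :
    ∀ j ∈ sp [a, b, e], (j⁻¹ * x) ^ 3 ∈ sp [a, b, e] ∧ t * (j⁻¹ * x) * t⁻¹ * (j⁻¹ * x) ∈ sp [a, b, e] ∧ j⁻¹ * x * e * (j⁻¹ * x)⁻¹ = a ∧ j⁻¹ * x * a * (j⁻¹ * x)⁻¹ = b ∧ j⁻¹ * x * b * (j⁻¹ * x)⁻¹ = e :=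
  have h : ∀ j, InS R PX_lJ j → InS R PX_lJ ((j⁻¹ * x) ^ 3) ∧ InS R PX_lJ (t * (j⁻¹ * x) * t⁻¹ * (j⁻¹ * x)) ∧ j⁻¹ * x * e * (j⁻¹ * x)⁻¹ = a ∧ j⁻¹ * x * a * (j⁻¹ * x)⁻¹ = b ∧ j⁻¹ * x * b * (j⁻¹ * x)⁻¹ = e :=
    Fm.sound M.μ PX_xj_F PX_xj_chk M.reps
  (fun j h0 => ((and_congr (PX_lJ_E M).iff (and_congr (PX_lJ_E M).iff Iff.rfl)).1 (h j ((PX_lJ_E M).iff.2 h0))))
noncomputable def PX_cls_t0 : ST := (.node (nat_lit 34) (.node (nat_lit 10) (.node (nat_lit 5) (.node (nat_lit 4) (.leaf (nat_lit 4)) (.leaf (nat_lit 27))) (.node (nat_lit 8) (.leaf (nat_lit 0)) (.leaf (nat_lit 4)))) (.node (nat_lit 18) (.node (nat_lit 11) (.leaf (nat_lit 28)) (.leaf (nat_lit 27))) (.node (nat_lit 23) (.leaf (nat_lit 31)) (.node (nat_lit 32) (.leaf (nat_lit 27)) (.leaf (nat_lit 0)))))) (.node (nat_lit 43) (.node (nat_lit 38) (.node (nat_lit 37) (.leaf (nat_lit 27)) (.leaf (nat_lit 4))) (.node (nat_lit 41) (.leaf (nat_lit 0)) (.leaf (nat_lit 27)))) (.node (nat_lit 62) (.node (nat_lit 57) (.leaf (nat_lit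 4)) (.leaf (nat_lit 0))) (.node (nat_lit 63) (.leaf (nat_lit 4)) (.node (nat_lit 65) (.leaf (nat_lit 1)) (.leaf (nat_lit 4)))))))
noncomputable def PX_cls_F : Fm := (.allS PX_lJ (.or (.qf (.eq (.v (nat_lit 0)) .one)) (.or (.qf (.eq (.v (nat_lit 0)) (.v (nat_lit 10)))) (.or (.qf (.eq (.v (nat_lit 0)) (.inv (.v (nat_lit 10))))) (.exF PB_L (fun cs => PX_cls_t0.find (Nat.mod (nth (nat_lit 0) cs (nat_lit 0)) (nat_lit 73))) (.qf (.or (.eq (.mul (.mul (.v (nat_lit 0)) (.v (nat_lit 1))) (.inv (.v (nat_lit 0)))) (.v (nat_lit 12))) (.or (.or (.eq (.mul (.mul (.v (nat_lit 0)) (.v (nat_lit 1))) (.inv (.v (nat_lit 0)))) (.mul (.v (nat_lit 7)) (.v (nat_lit 11)))) (.eq (.mul (.mul (.v (nat_lit 0)) (.v (nat_lit 1))) (.inv (.v (nat_lit 0)))) (.inv (.mul (.v (nat_lit 7)) (.v (nat_lit 11)))))) (.or (.or (.eq (.mul (.mul (.v (nat_lit 0)) (.v (nat_lit 1))) (.inv (.v (nat_lit 0)))) (.mul (.mul (.v (nat_lit 7)) (.v (nat_lit 11))) (.v (nat_lit 11)))) (.eq (.mul (.mul (.v (nat_lit 0)) (.v (nat_lit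 1))) (.inv (.v (nat_lit 0)))) (.inv (.mul (.mul (.v (nat_lit 7)) (.v (nat_lit 11))) (.v (nat_lit 11)))))) (.or (.eq (.mul (.mul (.v (nat_lit 0)) (.v (nat_lit 1))) (.inv (.v (nat_lit 0)))) (.mul (.mul (.mul (.v (nat_lit 7)) (.v (nat_lit 11))) (.v (nat_lit 11))) (.v (nat_lit 11)))) (.eq (.mul (.mul (.v (nat_lit 0)) (.v (nat_lit 1))) (.inv (.v (nat_lit 0)))) (.inv (.mul (.mul (.mul (.v (nat_lit 7)) (.v (nat_lit 11))) (.v (nat_lit 11))) (.v (nat_lit 11)))))))))))))))
theorem PX_cls_chk : Fm.chk PB_o PX_cls_F PX_cs = true := by decide +kernel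
theorem PX_cls {G : Type*} [Group G] {R : ℕ → G → Prop} {t a b e x z y : G} {H : Subgroup G}
    (M : Mdl PB_o PX_cs PB_L R [t, a, a⁻¹, b, b⁻¹, e, e⁻¹, x, x⁻¹, z, y] H) :
    ∀ j ∈ sp [a, b, e], j = 1 ∨ j = z ∨ j = z⁻¹ ∨ (∃ m ∈ H, m * j * m⁻¹ = y ∨ (m * j * m⁻¹ = e * z ∨ m * j * m⁻¹ = (e * z)⁻¹) ∨ (m * j * m⁻¹ = e * z * z ∨ m * j * m⁻¹ = (e * z * z)⁻¹) ∨ m * j * m⁻¹ = e * z * z * z ∨ m * j * m⁻¹ = (e * z * z * z)⁻¹) :=
  have h : ∀ j, InS R PX_lJ j → j = 1 ∨ j = z ∨ j = z⁻¹ ∨ (Good PB_o R PB_L → prods PB_o PB_L PB_o.one ≠ [] → ∃ m, InL PB_o R PB_L m ∧ (m * j * m⁻¹ = y ∨ (m * j * m⁻¹ = e * z ∨ m * j * m⁻¹ = (e * z)⁻¹) ∨ (m * j * m⁻¹ = e * z * z ∨ m * j * m⁻¹ = (e * z * z)⁻¹) ∨ m * j * m⁻¹ = e * z * z * z ∨ m * j * m⁻¹ = (e * z * z * z)⁻¹)) :=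
    Fm.sound M.μ PX_cls_F PX_cls_chk M.reps
  (fun j h0 => (Or.imp (fun h1 => h1) (fun h1 => (Or.imp (fun h2 => h2) (fun h2 => (Or.imp (fun h3 => h3) (fun h3 => (Exists.imp (fun m h4 => ⟨M.H.iff.1 h4.1, h4.2⟩) (h3 M.H.good M.H.ne))) h2)) h1)) (h j ((PX_lJ_E M).iff.2 h0))))
noncomputable def PX_fr_f_F : Fm := (.qf (.and (.eq (.pw (.mul (.v (nat_lit 1)) (.v (nat_lit 9))) (nat_lit 3)) .one) (.and (.eq (.pw (.mul (.v (nat_lit 3)) (.v (nat_lit 9))) (nat_lit 3)) .one) (.and (.eq (.pw (.mul (.v (nat_lit 5)) (.v (nat_lit 9))) (nat_lit 3)) .one) (.and (.eq (.mul (.mul (.v (nat_lit 1)) (.v (nat_lit 9))) (.mul (.v (nat_lit 3)) (.v (nat_lit 9)))) (.mul (.mul (.v (nat_lit 3)) (.v (nat_lit 9))) (.mul (.v (nat_lit 1)) (.v (nat_lit 9))))) (.and (.eq (.mul (.mul (.v (nat_lit 1)) (.v (nat_lit 9))) (.mul (.v (nat_lit 5)) (.v (nat_lit 9)))) (.mul (.mul (.v (nat_lit 5)) (.v (nat_lit 9))) (.mul (.v (nat_lit 1)) (.v (nat_lit 9))))) (.and (.eq (.mul (.mul (.v (nat_lit 3)) (.v (nat_lit 9))) (.mul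 (.v (nat_lit 5)) (.v (nat_lit 9)))) (.mul (.mul (.v (nat_lit 5)) (.v (nat_lit 9))) (.mul (.v (nat_lit 3)) (.v (nat_lit 9))))) (.and (.eq (.pw (.v (nat_lit 7)) (nat_lit 3)) .one) (.and (.eq (.mul (.mul (.v (nat_lit 7)) (.mul (.v (nat_lit 5)) (.v (nat_lit 9)))) (.inv (.v (nat_lit 7)))) (.mul (.v (nat_lit 1)) (.v (nat_lit 9)))) (.and (.eq (.mul (.mul (.v (nat_lit 7)) (.mul (.v (nat_lit 1)) (.v (nat_lit 9)))) (.inv (.v (nat_lit 7)))) (.mul (.v (nat_lit 3)) (.v (nat_lit 9)))) (.and (.eq (.mul (.mul (.v (nat_lit 7)) (.mul (.v (nat_lit 3)) (.v (nat_lit 9)))) (.inv (.v (nat_lit 7)))) (.mul (.v (nat_lit 5)) (.v (nat_lit 9)))) (.and (.eq (.mul (.v (nat_lit 0)) (.v (nat_lit 0))) .one) (.and (.eq (.mul (.mul (.v (nat_lit 0)) (.v (nat_lit 7))) (.inv (.v (nat_lit 0)))) (.inv (.v (nat_lit 7)))) (.and (.eq (.mul (.v (nat_lit 0)) (.mul (.v (nat_lit 5)) (.v (nat_lit 9)))) (.mul (.mul (.v (nat_lit 5)) (.v (nat_lit 9))) (.v (nat_lit 0)))) (.eq (.mul (.mul (.v (nat_lit 0)) (.mul (.v (nat_lit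 1)) (.v (nat_lit 9)))) (.inv (.v (nat_lit 0)))) (.mul (.v (nat_lit 3)) (.v (nat_lit 9))))))))))))))))))
theorem PX_fr_f_chk : Fm.chk PB_o PX_fr_f_F PX_cs = true := by decide +kernel
theorem PX_fr_f {G : Type*} [Group G] {R : ℕ → G → Prop} {t a b e x z y : G} {H : Subgroup G}
    (M : Mdl PB_o PX_cs PB_L R [t, a, a⁻¹, b, b⁻¹, e, e⁻¹, x, x⁻¹, z, y] H) :
    (a * z) ^ 3 = 1 ∧ (b * z) ^ 3 = 1 ∧ (e * z) ^ 3 = 1 ∧ a * z * (b * z) = b * z * (a * z) ∧ a * z * (e * z) = e * z * (a * z) ∧ b * z * (e * z) = e * z * (b * z) ∧ x ^ 3 = 1 ∧ x * (e * z) * x⁻¹ = a * z ∧ x * (a * z) * x⁻¹ = b * z ∧ x * (b * z) * x⁻¹ = e * z ∧ t * t = 1 ∧ t * x * t⁻¹ = x⁻¹ ∧ t * (e * z) = e * z * t ∧ t * (a * z) * t⁻¹ = b * z :=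
  Fm.sound M.μ PX_fr_f_F PX_fr_f_chk M.reps
theorem PX_fr {G : Type*} [Group G] {R : ℕ → G → Prop} {t a b e x z y : G} {H : Subgroup G}
    (M : Mdl PB_o PX_cs PB_L R [t, a, a⁻¹, b, b⁻¹, e, e⁻¹, x, x⁻¹, z, y] H) :
    B1 (a * z) (b * z) (e * z) x t :=
  have h := PX_fr_f M
  ⟨h.1, h.2.1, h.2.2.1, h.2.2.2.1, h.2.2.2.2.1, h.2.2.2.2.2.1, h.2.2.2.2.2.2.1, h.2.2.2.2.2.2.2.1, h.2.2.2.2.2.2.2.2.1, h.2.2.2.2.2.2.2.2.2.1, h.2.2.2.2.2.2.2.2.2.2.1, h.2.2.2.2.2.2.2.2.2.2.2.1, h.2.2.2.2.2.2.2.2.2.2.2.2.1, h.2.2.2.2.2.2.2.2.2.2.2.2.2, trivial⟩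
noncomputable def PX_fz_F : Fm := (.qf (.and (.eq (.v (nat_lit 9)) (.mul (.mul (.mul (.v (nat_lit 1)) (.v (nat_lit 9))) (.mul (.v (nat_lit 3)) (.v (nat_lit 9)))) (.mul (.v (nat_lit 5)) (.v (nat_lit 9))))) (.eq (.v (nat_lit 10)) (.mul (.mul (.v (nat_lit 1)) (.v (nat_lit 9))) (.inv (.mul (.v (nat_lit 3)) (.v (nat_lit 9))))))))
theorem PX_fz_chk : Fm.chk PB_o PX_fz_F PX_cs = true := by decide +kernel
theorem PX_fz {G : Type*} [Group G] {R : ℕ → G → Prop} {t a b e x z y : G} {H : Subgroup G}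
    (M : Mdl PB_o PX_cs PB_L R [t, a, a⁻¹, b, b⁻¹, e, e⁻¹, x, x⁻¹, z, y] H) :
    z = a * z * (b * z) * (e * z) ∧ y = a * z * (b * z)⁻¹ :=
  Fm.sound M.μ PX_fz_F PX_fz_chk M.reps
noncomputable def PX_j_t0 : ST := (.node (nat_lit 38) (.node (nat_lit 26) (.node (nat_lit 21) (.node (nat_lit 16) (.leaf (nat_lit 6)) (.node (nat_lit 18) (.leaf (nat_lit 2)) (.leaf (nat_lit 8)))) (.node (nat_lit 23) (.leaf (nat_lit 5)) (.node (nat_lit 24) (.leaf (nat_lit 6)) (.leaf (nat_lit 3))))) (.node (nat_lit 31) (.node (nat_lit 27) (.leaf (nat_lit 2)) (.node (nat_lit 28) (.leaf (nat_lit 0)) (.leaf (nat_lit 8)))) (.node (nat_lit 35) (.node (nat_lit 34) (.leaf (nat_lit 5)) (.leaf (nat_lit 3))) (.node (nat_lit 37) (.leaf (nat_lit 6)) (.leaf (nat_lit 0)))))) (.node (nat_lit 65) (.node (nat_lit 46) (.node (nat_lit 40) (.leaf (nat_lit 2)) (.node (nat_lit 43) (.leaf (nat_lit 8)) (.leaf (nat_lit 5)))) (.node (nat_lit 55) (.node (nat_lit 49) (.leaf (nat_lit 3)) (.leaf (nat_lit 0))) (.node (nat_lit 60)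 (.leaf (nat_lit 4)) (.leaf (nat_lit 7))))) (.node (nat_lit 76) (.node (nat_lit 66) (.leaf (nat_lit 4)) (.node (nat_lit 70) (.leaf (nat_lit 1)) (.leaf (nat_lit 7)))) (.node (nat_lit 82) (.node (nat_lit 77) (.leaf (nat_lit 1)) (.leaf (nat_lit 4))) (.node (nat_lit 88) (.leaf (nat_lit 7)) (.leaf (nat_lit 1)))))))
noncomputable def PX_j_F : Fm := (.allS PX_lJ (.exG PX_lU (fun cs => PX_j_t0.find (Nat.mod (nth (nat_lit 0) cs (nat_lit 0)) (nat_lit 89))) (.exS PX_lV (.qf (.and (.eq (.v (nat_lit 2)) (.mul (.v (nat_lit 1)) (.v (nat_lit 0)))) (.or (.not (.eq (.mul (.mul (.v (nat_lit 10)) (.v (nat_lit 2))) (.inv (.v (nat_lit 10)))) (.mul (.inv (.v (nat_lit 1))) (.v (nat_lit 0))))) (.or (.not (.eq (.mul (.mul (.v (nat_lit 3)) (.mul (.inv (.v (nat_lit 1))) (.v (nat_lit 0)))) (.inv (.v (nat_lit 3)))) (.inv (.v (nat_lit 2))))) (.eq (.v (nat_lit 2)) .one))))))))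
theorem PX_j_chk : Fm.chk PB_o PX_j_F PX_cs = true := by decide +kernel
theorem PX_j {G : Type*} [Group G] {R : ℕ → G → Prop} {t a b e x z y : G} {H : Subgroup G}
    (M : Mdl PB_o PX_cs PB_L R [t, a, a⁻¹, b, b⁻¹, e, e⁻¹, x, x⁻¹, z, y] H) :
    ∀ j ∈ sp [a, b, e], ∃ u ∈ sp [a, b], ∃ v ∈ sp [e], j = u * v ∧ (x * j * x⁻¹ ≠ u⁻¹ * v ∨ t * (u⁻¹ * v) * t⁻¹ ≠ j⁻¹ ∨ j = 1) :=
  have h : ∀ j, InS R PX_lJ j → (GoodS R PX_lU → PX_lU ≠ [] → ∃ u, InS R PX_lU u ∧ (GoodS R PX_lV → ∃ v, InS R PX_lV v ∧ j = u * v ∧ (x * j * x⁻¹ ≠ u⁻¹ * v ∨ t * (u⁻¹ * v) * t⁻¹ ≠ j⁻¹ ∨ j = 1))) :=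
    Fm.sound M.μ PX_j_F PX_j_chk M.reps
  (fun j h0 => (Exists.imp (fun u h1 => ⟨(PX_lU_E M).iff.1 h1.1, (Exists.imp (fun v h2 => ⟨(PX_lV_E M).iff.1 h2.1, h2.2⟩) (h1.2 (PX_lV_E M).good))⟩) ((h j ((PX_lJ_E M).iff.2 h0)) (PX_lU_E M).good (PX_lU_E M).ne)))
noncomputable def c_cube_Rl : List (List ℕ) := [[0,1],
  [1,0],
  [2,3],
  [3,2],
  [4,5],
  [5,4],
  [6,7],
  [7,6],
  [8,9],
  [9,8],
  [2,2,2],
  [4,4,4],
  [6,6,6],
  [3,9,6,8],
  [5,9,2,8],
  [7,9,4,8],
  [2,1,2,0],
  [4,1,4,0],
  [7,1,6,0]]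
theorem c_cube_r {G : Type*} [Group G] {c a b e x : G}
    (a3 : a ^ 3 = 1)
    (b3 : b ^ 3 = 1)
    (e3 : e ^ 3 = 1)
    (x1 : x * e * x⁻¹ = a)
    (x2 : x * a * x⁻¹ = b)
    (x3 : x * b * x⁻¹ = e)
    (c1 : c * a * c⁻¹ = a⁻¹)
    (c2 : c * b * c⁻¹ = b⁻¹)
    (c3 : c * e * c⁻¹ = e) :
    Rels (nthG [c, c⁻¹, a, a⁻¹, b, b⁻¹, e, e⁻¹, x, x⁻¹]) c_cube_Rl :=
  rels_of_eqs (InvI.nil : InvI [c, a, b, e, x] [])
    (AllEq.append (show AllEq [c, a, b, e, x] [((.pw (.v (nat_lit 1)) (nat_lit 3)), .one)] from ⟨a3, trivial⟩)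
    (AllEq.append (show AllEq [c, a, b, e, x] [((.pw (.v (nat_lit 2)) (nat_lit 3)), .one)] from ⟨b3, trivial⟩)
    (AllEq.append (show AllEq [c, a, b, e, x] [((.pw (.v (nat_lit 3)) (nat_lit 3)), .one)] from ⟨e3, trivial⟩)
    (AllEq.append (show AllEq [c, a, b, e, x] [((.mul (.mul (.v (nat_lit 4)) (.v (nat_lit 3))) (.inv (.v (nat_lit 4)))), (.v (nat_lit 1)))] from ⟨x1, trivial⟩)
    (AllEq.append (show AllEq [c, a, b, e, x] [((.mul (.mul (.v (nat_lit 4)) (.v (nat_lit 1))) (.inv (.v (nat_lit 4)))), (.v (nat_lit 2)))] from ⟨x2, trivial⟩)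
    (AllEq.append (show AllEq [c, a, b, e, x] [((.mul (.mul (.v (nat_lit 4)) (.v (nat_lit 2))) (.inv (.v (nat_lit 4)))), (.v (nat_lit 3)))] from ⟨x3, trivial⟩)
    (AllEq.append (show AllEq [c, a, b, e, x] [((.mul (.mul (.v (nat_lit 0)) (.v (nat_lit 1))) (.inv (.v (nat_lit 0)))), (.inv (.v (nat_lit 1))))] from ⟨c1, trivial⟩)
    (AllEq.append (show AllEq [c, a, b, e, x] [((.mul (.mul (.v (nat_lit 0)) (.v (nat_lit 2))) (.inv (.v (nat_lit 0)))), (.inv (.v (nat_lit 2))))] from ⟨c2, trivial⟩)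
    (show AllEq [c, a, b, e, x] [((.mul (.mul (.v (nat_lit 0)) (.v (nat_lit 3))) (.inv (.v (nat_lit 0)))), (.v (nat_lit 3)))] from ⟨c3, trivial⟩)))))))))
    [(.v (nat_lit 0)), (.inv (.v (nat_lit 0))), (.v (nat_lit 1)), (.inv (.v (nat_lit 1))), (.v (nat_lit 2)), (.inv (.v (nat_lit 2))), (.v (nat_lit 3)), (.inv (.v (nat_lit 3))), (.v (nat_lit 4)), (.inv (.v (nat_lit 4)))] (by decide +kernel)
noncomputable def c_cube_0_S0 : List ℕ := [nat_lit 0xf00000700000c00c01a, nat_lit 0x1700000f000014006014, nat_lit 0x1f00000600001c00601e, nat_lit 0x2700000a000024006018, nat_lit 0x2f00000e00002c00801c, nat_lit 0x37000012000034008016]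
noncomputable def c_cube_0_S : List (List ℕ) := [c_cube_0_S0]
noncomputable def c_cube_0_defs : List ℕ := [(nat_lit 0x90000b0090000a001000090010000800900007009000060010000500100004009000030090000100200001003000000010000000000000)]
noncomputable def c_cube_0_recs : List ℕ := [(nat_lit 0x20000c0000d040000a0000b050000800009070000600007070000400005000000200003)]
noncomputable def c_cube_0_T : List (List ℕ × ℕ) := [([3,1,9,1,9,1,9,2,8,0,8,0,8,0], (nat_lit 0x800001400001c00002400002c00003400001500003700002f00002700001f00001700000200000b))]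
noncomputable def c_cube_0_D : H26.Dag := ⟨[1,0,3,2,5,4,7,6,9,8], [[0,1],
  [1,0],
  [2,3],
  [3,2],
  [4,5],
  [5,4],
  [6,7],
  [7,6],
  [8,9],
  [9,8],
  [3,9,6,8],
  [5,9,2,8],
  [7,9,4,8],
  [2,1,2,0],
  [4,1,4,0],
  [7,1,6,0]], [], c_cube_0_defs, c_cube_0_recs⟩
theorem c_cube_0_c : c_cube_0_D.check c_cube_0_S c_cube_0_T = true := by decide +kernel
theorem c_cube_0 {G : Type*} [Group G] {g : ℕ → G} (hR : Rels g c_cube_Rl) {H : Subgroup G}
    (hH : ∀ k ∈ [], g k ∈ H) : evA g [3,1,9,1,9,1,9,2,8,0,8,0,8,0] ∈ H :=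
  mem_dag (K := 10) (J := [0,1,2,3,4,5,6,7,8,9,13,14,15,16,17,18]) (D := c_cube_0_D) (by decide +kernel) c_cube_0_c (by decide +kernel) hR hH
noncomputable def c_cube_1_S0 : List ℕ := [nat_lit 0xf00000700000c00c01c, nat_lit 0x1700000f000014006016, nat_lit 0x1f00000600001c00801a, nat_lit 0x2700000a000024008014, nat_lit 0x2f00000e00002c00801e, nat_lit 0x37000012000034008018]
noncomputable def c_cube_1_S : List (List ℕ) := [c_cube_1_S0]
noncomputable def c_cube_1_defs : List ℕ := [(nat_lit 0x90000b0090000a001000090010000800900007009000060010000500100004009000030090000100400001005000000010000000000000)]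
noncomputable def c_cube_1_recs : List ℕ := [(nat_lit 0x40000c0000d060000a0000b060000800009020000600007030000400005000000200003)]
noncomputable def c_cube_1_T : List (List ℕ × ℕ) := [([5,1,9,1,9,1,9,4,8,0,8,0,8,0], (nat_lit 0x800001400001c00002400002c00003400001500003700002f00002700001f00001700000200000b))]
noncomputable def c_cube_1_D : H26.Dag := ⟨[1,0,3,2,5,4,7,6,9,8], [[0,1],
  [1,0],
  [2,3],
  [3,2],
  [4,5],
  [5,4],
  [6,7],
  [7,6],
  [8,9],
  [9,8],
  [3,9,6,8],
  [5,9,2,8],
  [7,9,4,8],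
  [2,1,2,0],
  [4,1,4,0],
  [7,1,6,0]], [], c_cube_1_defs, c_cube_1_recs⟩
theorem c_cube_1_c : c_cube_1_D.check c_cube_1_S c_cube_1_T = true := by decide +kernel
theorem c_cube_1 {G : Type*} [Group G] {g : ℕ → G} (hR : Rels g c_cube_Rl) {H : Subgroup G}
    (hH : ∀ k ∈ [], g k ∈ H) : evA g [5,1,9,1,9,1,9,4,8,0,8,0,8,0] ∈ H :=
  mem_dag (K := 10) (J := [0,1,2,3,4,5,6,7,8,9,13,14,15,16,17,18]) (D := c_cube_1_D) (by decide +kernel) c_cube_1_c (by decide +kernel) hR hH
noncomputable def c_cube_2_S0 : List ℕ := [nat_lit 0xf00000700000c00a01e, nat_lit 0x1700000f000014008018, nat_lit 0x1f00000600001c00601c, nat_lit 0x2700000a000024006016, nat_lit 0x2f00000e00002c00801a, nat_lit 0x37000012000034008014]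
noncomputable def c_cube_2_S : List (List ℕ) := [c_cube_2_S0]
noncomputable def c_cube_2_defs : List ℕ := [(nat_lit 0x90000b0090000a001000090010000800900007009000060010000500100004009000030090000100700001007000000010000000000000)]
noncomputable def c_cube_2_recs : List ℕ := [(nat_lit 0x60000c0000d020000a0000b030000800009050000600007040000400005000000200003)]
noncomputable def c_cube_2_T : List (List ℕ × ℕ) := [([7,1,9,1,9,1,9,6,8,0,8,0,8,0], (nat_lit 0x800001400001c00002400002c00003400001500003700002f00002700001f00001700000200000b))]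
noncomputable def c_cube_2_D : H26.Dag := ⟨[1,0,3,2,5,4,7,6,9,8], [[0,1],
  [1,0],
  [2,3],
  [3,2],
  [4,5],
  [5,4],
  [6,7],
  [7,6],
  [8,9],
  [9,8],
  [3,9,6,8],
  [5,9,2,8],
  [7,9,4,8],
  [2,1,2,0],
  [4,1,4,0],
  [7,1,6,0]], [], c_cube_2_defs, c_cube_2_recs⟩
theorem c_cube_2_c : c_cube_2_D.check c_cube_2_S c_cube_2_T = true := by decide +kernel
theorem c_cube_2 {G : Type*} [Group G] {g : ℕ → G} (hR : Rels g c_cube_Rl) {H : Subgroup G}
    (hH : ∀ k ∈ [], g k ∈ H) : evA g [7,1,9,1,9,1,9,6,8,0,8,0,8,0] ∈ H :=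
  mem_dag (K := 10) (J := [0,1,2,3,4,5,6,7,8,9,13,14,15,16,17,18]) (D := c_cube_2_D) (by decide +kernel) c_cube_2_c (by decide +kernel) hR hH
theorem c_cube {G : Type*} [Group G] {c a b e x : G}
    (a3 : a ^ 3 = 1)
    (b3 : b ^ 3 = 1)
    (e3 : e ^ 3 = 1)
    (x1 : x * e * x⁻¹ = a)
    (x2 : x * a * x⁻¹ = b)
    (x3 : x * b * x⁻¹ = e)
    (c1 : c * a * c⁻¹ = a⁻¹)
    (c2 : c * b * c⁻¹ = b⁻¹)
    (c3 : c * e * c⁻¹ = e) :
    (c * x) ^ 3 * a = a * (c * x) ^ 3 ∧ (c * x) ^ 3 * b = b * (c * x) ^ 3 ∧ (c * x) ^ 3 * e = e * (c * x) ^ 3 :=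
  ⟨mul_inv_eq_one.1 ((evA_eq_tm (InvI.nil : InvI [c, a, b, e, x] []) [(.v (nat_lit 0)), (.inv (.v (nat_lit 0))), (.v (nat_lit 1)), (.inv (.v (nat_lit 1))), (.v (nat_lit 2)), (.inv (.v (nat_lit 2))), (.v (nat_lit 3)), (.inv (.v (nat_lit 3))), (.v (nat_lit 4)), (.inv (.v (nat_lit 4)))] [3,1,9,1,9,1,9,2,8,0,8,0,8,0] (.mul (.mul (.pw (.mul (.v (nat_lit 0)) (.v (nat_lit 4))) (nat_lit 3)) (.v (nat_lit 1))) (.inv (.mul (.v (nat_lit 1)) (.pw (.mul (.v (nat_lit 0)) (.v (nat_lit 4))) (nat_lit 3))))) (by decide +kernel)).symm.trans (Subgroup.mem_bot.1 (c_cube_0 (c_cube_r a3 b3 e3 x1 x2 x3 c1 c2 c3) (H := ⊥) (List.forall_mem_nil _)))),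
   mul_inv_eq_one.1 ((evA_eq_tm (InvI.nil : InvI [c, a, b, e, x] []) [(.v (nat_lit 0)), (.inv (.v (nat_lit 0))), (.v (nat_lit 1)), (.inv (.v (nat_lit 1))), (.v (nat_lit 2)), (.inv (.v (nat_lit 2))), (.v (nat_lit 3)), (.inv (.v (nat_lit 3))), (.v (nat_lit 4)), (.inv (.v (nat_lit 4)))] [5,1,9,1,9,1,9,4,8,0,8,0,8,0] (.mul (.mul (.pw (.mul (.v (nat_lit 0)) (.v (nat_lit 4))) (nat_lit 3)) (.v (nat_lit 2))) (.inv (.mul (.v (nat_lit 2)) (.pw (.mul (.v (nat_lit 0)) (.v (nat_lit 4))) (nat_lit 3))))) (by decide +kernel)).symm.trans (Subgroup.mem_bot.1 (c_cube_1 (c_cube_r a3 b3 e3 x1 x2 x3 c1 c2 c3) (H := ⊥) (List.forall_mem_nil _)))),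
   mul_inv_eq_one.1 ((evA_eq_tm (InvI.nil : InvI [c, a, b, e, x] []) [(.v (nat_lit 0)), (.inv (.v (nat_lit 0))), (.v (nat_lit 1)), (.inv (.v (nat_lit 1))), (.v (nat_lit 2)), (.inv (.v (nat_lit 2))), (.v (nat_lit 3)), (.inv (.v (nat_lit 3))), (.v (nat_lit 4)), (.inv (.v (nat_lit 4)))] [7,1,9,1,9,1,9,6,8,0,8,0,8,0] (.mul (.mul (.pw (.mul (.v (nat_lit 0)) (.v (nat_lit 4))) (nat_lit 3)) (.v (nat_lit 3))) (.inv (.mul (.v (nat_lit 3)) (.pw (.mul (.v (nat_lit 0)) (.v (nat_lit 4))) (nat_lit 3))))) (by decide +kernel)).symm.trans (Subgroup.mem_bot.1 (c_cube_2 (c_cube_r a3 b3 e3 x1 x2 x3 c1 c2 c3) (H := ⊥) (List.forall_mem_nil _))))⟩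
noncomputable def PC_cs : List ℕ := [(nat_lit 0x876210543), (nat_lit 0x876453120), (nat_lit 0x876543021), (nat_lit 0x876543102), (nat_lit 0x876354210), (nat_lit 0x876435210), (nat_lit 0x687543210), (nat_lit 0x768543210), (nat_lit 0x210876543), (nat_lit 0x543210876), (nat_lit 0x687354021), (nat_lit 0x876435021)]
theorem PC_ext {G : Type*} [Group G] {R : ℕ → G → Prop} {t c a b e x : G} {H : Subgroup G}
    (M : Mdl P1_o P1_cs P1_L R [t, c, a, a⁻¹, b, b⁻¹, e, e⁻¹, x, x⁻¹] H) :
    Mdl P1_o PC_cs P1_L R [t, c, a, a⁻¹, b, b⁻¹, e, e⁻¹, x, x⁻¹, a * b * e, a * b⁻¹] H :=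
  ⟨M.μ, M.reps.tms M.μ.1 [(.v (nat_lit 0)), (.v (nat_lit 1)), (.v (nat_lit 2)), (.v (nat_lit 3)), (.v (nat_lit 4)), (.v (nat_lit 5)), (.v (nat_lit 6)), (.v (nat_lit 7)), (.v (nat_lit 8)), (.v (nat_lit 9)), (.mul (.mul (.v (nat_lit 2)) (.v (nat_lit 4))) (.v (nat_lit 6))), (.mul (.v (nat_lit 2)) (.inv (.v (nat_lit 4))))] (cs' := PC_cs) (by decide +kernel),
    tms_mem M.le [(.v (nat_lit 0)), (.v (nat_lit 1)), (.v (nat_lit 2)), (.v (nat_lit 3)), (.v (nat_lit 4)), (.v (nat_lit 5)), (.v (nat_lit 6)), (.v (nat_lit 7)), (.v (nat_lit 8)), (.v (nat_lit 9)), (.mul (.mul (.v (nat_lit 2)) (.v (nat_lit 4))) (.v (nat_lit 6))), (.mul (.v (nat_lit 2)) (.inv (.v (nat_lit 4))))], M.H⟩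
noncomputable def PC_lJ : List ℕ := [(nat_lit 0x876543210), (nat_lit 0x876543021), (nat_lit 0x876354210), (nat_lit 0x687543210), (nat_lit 0x876543102), (nat_lit 0x876354021), (nat_lit 0x687543021), (nat_lit 0x876435210), (nat_lit 0x687354210), (nat_lit 0x768543210), (nat_lit 0x876354102), (nat_lit 0x687543102), (nat_lit 0x876435021), (nat_lit 0x687354021), (nat_lit 0x768543021), (nat_lit 0x687435210), (nat_lit 0x768354210), (nat_lit 0x876435102), (nat_lit 0x687354102), (nat_lit 0x768543102), (nat_lit 0x687435021), (nat_lit 0x768354021), (nat_lit 0x768435210), (nat_lit 0x687435102), (nat_lit 0x768354102), (nat_lit 0x768435021), (nat_lit 0x768435102)]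
noncomputable def PC_lJ_W : List (List ℕ) := [[],
  [(nat_lit 0)],
  [(nat_lit 1)],
  [(nat_lit 2)],
  [(nat_lit 0), (nat_lit 0)],
  [(nat_lit 0), (nat_lit 1)],
  [(nat_lit 0), (nat_lit 2)],
  [(nat_lit 1), (nat_lit 1)],
  [(nat_lit 1), (nat_lit 2)],
  [(nat_lit 2), (nat_lit 2)],
  [(nat_lit 0), (nat_lit 0), (nat_lit 1)],
  [(nat_lit 0), (nat_lit 0), (nat_lit 2)],
  [(nat_lit 0), (nat_lit 1), (nat_lit 1)],
  [(nat_lit 0), (nat_lit 1), (nat_lit 2)],
  [(nat_lit 0), (nat_lit 2), (nat_lit 2)],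
  [(nat_lit 1), (nat_lit 1), (nat_lit 2)],
  [(nat_lit 1), (nat_lit 2), (nat_lit 2)],
  [(nat_lit 0), (nat_lit 0), (nat_lit 1), (nat_lit 1)],
  [(nat_lit 0), (nat_lit 0), (nat_lit 1), (nat_lit 2)],
  [(nat_lit 0), (nat_lit 0), (nat_lit 2), (nat_lit 2)],
  [(nat_lit 0), (nat_lit 1), (nat_lit 1), (nat_lit 2)],
  [(nat_lit 0), (nat_lit 1), (nat_lit 2), (nat_lit 2)],
  [(nat_lit 1), (nat_lit 1), (nat_lit 2), (nat_lit 2)],
  [(nat_lit 0), (nat_lit 0), (nat_lit 1), (nat_lit 1), (nat_lit 2)],
  [(nat_lit 0), (nat_lit 0), (nat_lit 1), (nat_lit 2), (nat_lit 2)],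
  [(nat_lit 0), (nat_lit 1), (nat_lit 1), (nat_lit 2), (nat_lit 2)],
  [(nat_lit 0), (nat_lit 0), (nat_lit 1), (nat_lit 1), (nat_lit 2), (nat_lit 2)]]
noncomputable def PC_lJ_h (c : ℕ) : ℕ := Nat.mod c (nat_lit 89)
theorem PC_lJ_E {G : Type*} [Group G] {R : ℕ → G → Prop} {t c a b e x z y : G} {H : Subgroup G}
    (M : Mdl P1_o PC_cs P1_L R [t, c, a, a⁻¹, b, b⁻¹, e, e⁻¹, x, x⁻¹, z, y] H) :
    EnumS R PC_lJ (sp [a, b, e]) :=
  enumS_sp M.μ.1 (M.reps.tms M.μ.1 [(.v (nat_lit 2)), (.v (nat_lit 4)), (.v (nat_lit 6))] (cs' := [(nat_lit 0x876543021), (nat_lit 0x876354210), (nat_lit 0x687543210)]) (by decide +kernel))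
    (Ws := PC_lJ_W) (by decide +kernel) (by decide +kernel)
theorem PC_lJ_c {G : Type*} [Group G] {R : ℕ → G → Prop} {t c a b e x z y : G} {H : Subgroup G}
    (M : Mdl P1_o PC_cs P1_L R [t, c, a, a⁻¹, b, b⁻¹, e, e⁻¹, x, x⁻¹, z, y] H) :
    #(sp [a, b, e]) = 27 :=
  (PC_lJ_E M).card M.μ (h := PC_lJ_h) (by decide +kernel)
noncomputable def PC_cls_t0 : ST := (.node (nat_lit 36) (.node (nat_lit 25) (.node (nat_lit 16) (.node (nat_lit 14) (.leaf (nat_lit 328)) (.leaf (nat_lit 513))) (.node (nat_lit 21) (.leaf (nat_lit 324)) (.node (nat_lit 23) (.leaf (nat_lit 27)) (.leaf (nat_lit 162))))) (.node (nat_lit 31) (.node (nat_lit 26) (.leaf (nat_lit 4)) (.node (nat_lit 28) (.leaf (nat_lit 324)) (.leaf (nat_lit 4)))) (.node (nat_lit 32) (.leaf (nat_lit 324)) (.node (nat_lit 35) (.leaf (nat_lit 27)) (.leaf (nat_lit 0)))))) (.node (nat_lit 60) (.node (nat_lit 52) (.node (nat_lit 40) (.leaf (nat_lit 166)) (.node (nat_lit 50) (.leaf (nat_lit 351)) (.leaf (nat_lit 189)))) (.node (nat_lit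 54) (.leaf (nat_lit 486)) (.node (nat_lit 56) (.leaf (nat_lit 166)) (.leaf (nat_lit 162))))) (.node (nat_lit 85) (.node (nat_lit 64) (.leaf (nat_lit 0)) (.node (nat_lit 83) (.leaf (nat_lit 486)) (.leaf (nat_lit 351)))) (.node (nat_lit 90) (.leaf (nat_lit 0)) (.node (nat_lit 93) (.leaf (nat_lit 490)) (.leaf (nat_lit 486)))))))
noncomputable def PC_cls_F : Fm := (.allS PC_lJ (.or (.qf (.eq (.v (nat_lit 0)) .one)) (.exF P1_L (fun cs => PC_cls_t0.find (Nat.mod (nth (nat_lit 0) cs (nat_lit 0)) (nat_lit 98))) (.qf (.or (.eq (.mul (.mul (.v (nat_lit 0)) (.v (nat_lit 1))) (.inv (.v (nat_lit 0)))) (.v (nat_lit 12))) (.or (.eq (.mul (.mul (.v (nat_lit 0)) (.v (nat_lit 1))) (.inv (.v (nat_lit 0)))) (.inv (.v (nat_lit 12)))) (.or (.eq (.mul (.mul (.v (nat_lit 0)) (.v (nat_lit 1))) (.inv (.v (nat_lit 0)))) (.v (nat_lit 8))) (.eq (.mul (.mul (.v (nat_lit 0)) (.v (nat_lit 1))) (.inv (.v (nat_lit 0)))) (.v (nat_lit 13))))))))))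
theorem PC_cls_chk : Fm.chk P1_o PC_cls_F PC_cs = true := by decide +kernel
theorem PC_cls {G : Type*} [Group G] {R : ℕ → G → Prop} {t c a b e x z y : G} {H : Subgroup G}
    (M : Mdl P1_o PC_cs P1_L R [t, c, a, a⁻¹, b, b⁻¹, e, e⁻¹, x, x⁻¹, z, y] H) :
    ∀ j ∈ sp [a, b, e], j = 1 ∨ (∃ m ∈ H, m * j * m⁻¹ = z ∨ m * j * m⁻¹ = z⁻¹ ∨ m * j * m⁻¹ = e ∨ m * j * m⁻¹ = y) :=
  have h : ∀ j, InS R PC_lJ j → j = 1 ∨ (Good P1_o R P1_L → prods P1_o P1_L P1_o.one ≠ [] → ∃ m, InL P1_o R P1_L m ∧ (m * j * m⁻¹ = z ∨ m * j * m⁻¹ = z⁻¹ ∨ m * j * m⁻¹ = e ∨ m * j * m⁻¹ = y)) :=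
    Fm.sound M.μ PC_cls_F PC_cls_chk M.reps
  (fun j h0 => (Or.imp (fun h1 => h1) (fun h1 => (Exists.imp (fun m h2 => ⟨M.H.iff.1 h2.1, h2.2⟩) (h1 M.H.good M.H.ne))) (h j ((PC_lJ_E M).iff.2 h0))))
noncomputable def PC_jc_F : Fm := (.allS PC_lJ (.imp (.eq (.mul (.mul (.v (nat_lit 0)) (.v (nat_lit 2))) (.mul (.v (nat_lit 0)) (.v (nat_lit 2)))) .one) (.imp (.eq (.mul (.v (nat_lit 1)) (.mul (.v (nat_lit 0)) (.v (nat_lit 2)))) (.mul (.mul (.v (nat_lit 0)) (.v (nat_lit 2))) (.v (nat_lit 1)))) (.qf (.or (.eq (.mul (.v (nat_lit 0)) (.v (nat_lit 2))) (.v (nat_lit 2))) (.or (.eq (.mul (.v (nat_lit 0)) (.v (nat_lit 2))) (.mul (.mul (.v (nat_lit 11)) (.v (nat_lit 2))) (.inv (.v (nat_lit 11))))) (.eq (.mul (.v (nat_lit 0)) (.v (nat_lit 2))) (.mul (.mul (.inv (.v (nat_lit 11))) (.v (nat_lit 2))) (.v (nat_lit 11))))))))))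
theorem PC_jc_chk : Fm.chk P1_o PC_jc_F PC_cs = true := by decide +kernel
theorem PC_jc {G : Type*} [Group G] {R : ℕ → G → Prop} {t c a b e x z y : G} {H : Subgroup G}
    (M : Mdl P1_o PC_cs P1_L R [t, c, a, a⁻¹, b, b⁻¹, e, e⁻¹, x, x⁻¹, z, y] H) :
    ∀ j ∈ sp [a, b, e], j * c * (j * c) = 1 → t * (j * c) = j * c * t → j * c = c ∨ j * c = z * c * z⁻¹ ∨ j * c = z⁻¹ * c * z :=
  have h : ∀ j, InS R PC_lJ j → j * c * (j * c) = 1 → t * (j * c) = j * c * t → j * c = c ∨ j * c = z * c * z⁻¹ ∨ j * c = z⁻¹ * c * z :=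
    Fm.sound M.μ PC_jc_F PC_jc_chk M.reps
  (fun j h0 => (h j ((PC_lJ_E M).iff.2 h0)))
noncomputable def PC_z1_f_F : Fm := (.qf (.and (.eq (.mul (.mul (.mul (.v (nat_lit 10)) (.v (nat_lit 1))) (.inv (.v (nat_lit 10)))) (.mul (.mul (.v (nat_lit 10)) (.v (nat_lit 1))) (.inv (.v (nat_lit 10))))) .one) (.and (.eq (.mul (.v (nat_lit 0)) (.mul (.mul (.v (nat_lit 10)) (.v (nat_lit 1))) (.inv (.v (nat_lit 10))))) (.mul (.mul (.mul (.v (nat_lit 10)) (.v (nat_lit 1))) (.inv (.v (nat_lit 10)))) (.v (nat_lit 0)))) (.and (.eq (.mul (.mul (.mul (.v (nat_lit 10)) (.v (nat_lit 1))) (.inv (.v (nat_lit 10)))) (.v (nat_lit 6))) (.mul (.v (nat_lit 6)) (.mul (.mul (.v (nat_lit 10)) (.v (nat_lit 1))) (.inv (.v (nat_lit 10)))))) (.and (.eq (.mul (.mul (.mul (.mul (.v (nat_lit 10)) (.v (nat_lit 1))) (.inv (.v (nat_lit 10)))) (.v (nat_lit 2))) (.inv (.mul (.mul (.v (nat_lit 10)) (.v (nat_lit 1))) (.inv (.v (nat_lit 10)))))) (.inv (.v (nat_lit 2)))) (.and (.eq (.mul (.mul (.mul (.mul (.v (nat_lit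 10)) (.v (nat_lit 1))) (.inv (.v (nat_lit 10)))) (.v (nat_lit 4))) (.inv (.mul (.mul (.v (nat_lit 10)) (.v (nat_lit 1))) (.inv (.v (nat_lit 10)))))) (.inv (.v (nat_lit 4)))) (.eq (.pw (.mul (.mul (.mul (.v (nat_lit 10)) (.v (nat_lit 1))) (.inv (.v (nat_lit 10)))) (.v (nat_lit 8))) (nat_lit 3)) .one)))))))
theorem PC_z1_f_chk : Fm.chk P1_o PC_z1_f_F PC_cs = true := by decide +kernel
theorem PC_z1_f {G : Type*} [Group G] {R : ℕ → G → Prop} {t c a b e x z y : G} {H : Subgroup G}
    (M : Mdl P1_o PC_cs P1_L R [t, c, a, a⁻¹, b, b⁻¹, e, e⁻¹, x, x⁻¹, z, y] H) :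
    z * c * z⁻¹ * (z * c * z⁻¹) = 1 ∧ t * (z * c * z⁻¹) = z * c * z⁻¹ * t ∧ z * c * z⁻¹ * e = e * (z * c * z⁻¹) ∧ z * c * z⁻¹ * a * (z * c * z⁻¹)⁻¹ = a⁻¹ ∧ z * c * z⁻¹ * b * (z * c * z⁻¹)⁻¹ = b⁻¹ ∧ (z * c * z⁻¹ * x) ^ 3 = 1 :=
  Fm.sound M.μ PC_z1_f_F PC_z1_f_chk M.reps
theorem PC_z1 {G : Type*} [Group G] {R : ℕ → G → Prop} {t c a b e x z y : G} {H : Subgroup G}
    (M : Mdl P1_o PC_cs P1_L R [t, c, a, a⁻¹, b, b⁻¹, e, e⁻¹, x, x⁻¹, z, y] H) :
    C1 a b e x t (z * c * z⁻¹) :=
  have h := PC_z1_f M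
  ⟨h.1, h.2.1, h.2.2.1, h.2.2.2.1, h.2.2.2.2.1, h.2.2.2.2.2, trivial⟩
noncomputable def PC_z2_f_F : Fm := (.qf (.and (.eq (.mul (.mul (.mul (.inv (.v (nat_lit 10))) (.v (nat_lit 1))) (.v (nat_lit 10))) (.mul (.mul (.inv (.v (nat_lit 10))) (.v (nat_lit 1))) (.v (nat_lit 10)))) .one) (.and (.eq (.mul (.v (nat_lit 0)) (.mul (.mul (.inv (.v (nat_lit 10))) (.v (nat_lit 1))) (.v (nat_lit 10)))) (.mul (.mul (.mul (.inv (.v (nat_lit 10))) (.v (nat_lit 1))) (.v (nat_lit 10))) (.v (nat_lit 0)))) (.and (.eq (.mul (.mul (.mul (.inv (.v (nat_lit 10))) (.v (nat_lit 1))) (.v (nat_lit 10))) (.v (nat_lit 6))) (.mul (.v (nat_lit 6)) (.mul (.mul (.inv (.v (nat_lit 10))) (.v (nat_lit 1))) (.v (nat_lit 10))))) (.and (.eq (.mul (.mul (.mul (.mul (.inv (.v (nat_lit 10))) (.v (nat_lit 1))) (.v (nat_lit 10))) (.v (nat_lit 2))) (.inv (.mul (.mul (.inv (.v (nat_lit 10))) (.v (nat_lit 1))) (.v (nat_lit 10))))) (.inv (.v (nat_lit 2)))) (.and (.eq (.mul (.mul (.mul (.mul (.inv (.v (nat_lit 10))) (.v (nat_lit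 1))) (.v (nat_lit 10))) (.v (nat_lit 4))) (.inv (.mul (.mul (.inv (.v (nat_lit 10))) (.v (nat_lit 1))) (.v (nat_lit 10))))) (.inv (.v (nat_lit 4)))) (.eq (.pw (.mul (.mul (.mul (.inv (.v (nat_lit 10))) (.v (nat_lit 1))) (.v (nat_lit 10))) (.v (nat_lit 8))) (nat_lit 3)) .one)))))))
theorem PC_z2_f_chk : Fm.chk P1_o PC_z2_f_F PC_cs = true := by decide +kernel
theorem PC_z2_f {G : Type*} [Group G] {R : ℕ → G → Prop} {t c a b e x z y : G} {H : Subgroup G}
    (M : Mdl P1_o PC_cs P1_L R [t, c, a, a⁻¹, b, b⁻¹, e, e⁻¹, x, x⁻¹, z, y] H) :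
    z⁻¹ * c * z * (z⁻¹ * c * z) = 1 ∧ t * (z⁻¹ * c * z) = z⁻¹ * c * z * t ∧ z⁻¹ * c * z * e = e * (z⁻¹ * c * z) ∧ z⁻¹ * c * z * a * (z⁻¹ * c * z)⁻¹ = a⁻¹ ∧ z⁻¹ * c * z * b * (z⁻¹ * c * z)⁻¹ = b⁻¹ ∧ (z⁻¹ * c * z * x) ^ 3 = 1 :=
  Fm.sound M.μ PC_z2_f_F PC_z2_f_chk M.reps
theorem PC_z2 {G : Type*} [Group G] {R : ℕ → G → Prop} {t c a b e x z y : G} {H : Subgroup G}
    (M : Mdl P1_o PC_cs P1_L R [t, c, a, a⁻¹, b, b⁻¹, e, e⁻¹, x, x⁻¹, z, y] H) :
    C1 a b e x t (z⁻¹ * c * z) :=
  have h := PC_z2_f M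
  ⟨h.1, h.2.1, h.2.2.1, h.2.2.2.1, h.2.2.2.2.1, h.2.2.2.2.2, trivial⟩
noncomputable def PN_Rl : List (List ℕ) := [[0,0],
  [1,1],
  [2,3],
  [3,2],
  [4,5],
  [5,4],
  [6,7],
  [7,6],
  [8,9],
  [9,8],
  [2,2,2],
  [4,4,4],
  [6,6,6],
  [5,3,4,2],
  [7,3,6,2],
  [7,5,6,4],
  [8,8,8],
  [3,9,6,8],
  [5,9,2,8],
  [7,9,4,8],
  [8,0,8,0],
  [7,0,6,0],
  [5,0,2,0],
  [2,1,2,1],
  [4,1,4,1],
  [6,1,6,1],
  [0,1,0,1],
  [9,1,8,1]]
theorem PN_r {G : Type*} [Group G] {t n a b e x : G}
    (h : B1 a b e x t)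
    (l : Nn a b e x t n) :
    Rels (nthG [t, n, a, a⁻¹, b, b⁻¹, e, e⁻¹, x, x⁻¹]) PN_Rl :=
  rels_of_eqs ((InvI.cons h.2.2.2.2.2.2.2.2.2.2.1 (InvI.cons l.1 InvI.nil)) : InvI [t, n, a, b, e, x] [(nat_lit 0), (nat_lit 1)])
    (AllEq.append (show AllEq [t, n, a, b, e, x] [((.pw (.v (nat_lit 2)) (nat_lit 3)), .one), ((.pw (.v (nat_lit 3)) (nat_lit 3)), .one), ((.pw (.v (nat_lit 4)) (nat_lit 3)), .one), ((.mul (.v (nat_lit 2)) (.v (nat_lit 3))), (.mul (.v (nat_lit 3)) (.v (nat_lit 2)))), ((.mul (.v (nat_lit 2)) (.v (nat_lit 4))), (.mul (.v (nat_lit 4)) (.v (nat_lit 2)))), ((.mul (.v (nat_lit 3)) (.v (nat_lit 4))), (.mul (.v (nat_lit 4)) (.v (nat_lit 3)))), ((.pw (.v (nat_lit 5)) (nat_lit 3)), .one), ((.mul (.mul (.v (nat_lit 5)) (.v (nat_lit 4))) (.inv (.v (nat_lit 5)))), (.v (nat_lit 2))), ((.mul (.mul (.v (nat_lit 5)) (.v (nat_lit 2))) (.inv (.v (nat_lit 5)))), (.v (nat_lit 3))), ((.mul (.mul (.v (nat_lit 5)) (.v (nat_lit 3))) (.inv (.v (nat_lit 5)))), (.v (nat_lit 4))), ((.mul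 (.v (nat_lit 0)) (.v (nat_lit 0))), .one), ((.mul (.mul (.v (nat_lit 0)) (.v (nat_lit 5))) (.inv (.v (nat_lit 0)))), (.inv (.v (nat_lit 5)))), ((.mul (.v (nat_lit 0)) (.v (nat_lit 4))), (.mul (.v (nat_lit 4)) (.v (nat_lit 0)))), ((.mul (.mul (.v (nat_lit 0)) (.v (nat_lit 2))) (.inv (.v (nat_lit 0)))), (.v (nat_lit 3)))] from h)
    (show AllEq [t, n, a, b, e, x] [((.mul (.v (nat_lit 1)) (.v (nat_lit 1))), .one), ((.mul (.mul (.v (nat_lit 1)) (.v (nat_lit 2))) (.inv (.v (nat_lit 1)))), (.inv (.v (nat_lit 2)))), ((.mul (.mul (.v (nat_lit 1)) (.v (nat_lit 3))) (.inv (.v (nat_lit 1)))), (.inv (.v (nat_lit 3)))), ((.mul (.mul (.v (nat_lit 1)) (.v (nat_lit 4))) (.inv (.v (nat_lit 1)))), (.inv (.v (nat_lit 4)))), ((.mul (.v (nat_lit 1)) (.v (nat_lit 0))), (.mul (.v (nat_lit 0)) (.v (nat_lit 1)))), ((.mul (.v (nat_lit 1)) (.v (nat_lit 5))), (.mul (.v (nat_lit 5)) (.v (nat_lit 1))))] from l))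
    [(.v (nat_lit 0)), (.v (nat_lit 1)), (.v (nat_lit 2)), (.inv (.v (nat_lit 2))), (.v (nat_lit 3)), (.inv (.v (nat_lit 3))), (.v (nat_lit 4)), (.inv (.v (nat_lit 4))), (.v (nat_lit 5)), (.inv (.v (nat_lit 5)))] (by decide +kernel)
noncomputable abbrev PN_o : Ops := pops (nat_lit 9) (nat_lit 4) (nat_lit 15) (nat_lit 0x876543210)
noncomputable def PN_cs : List ℕ := [(nat_lit 0x876210543), (nat_lit 0x786453120), (nat_lit 0x876543021), (nat_lit 0x876543102), (nat_lit 0x876354210), (nat_lit 0x876435210), (nat_lit 0x687543210), (nat_lit 0x768543210), (nat_lit 0x210876543), (nat_lit 0x543210876)]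
noncomputable def PN_L : List (List ℕ) := [[(nat_lit 0x876543210), (nat_lit 0x876210543), (nat_lit 0x876543021), (nat_lit 0x876543102), (nat_lit 0x543210876), (nat_lit 0x876210354), (nat_lit 0x876210435), (nat_lit 0x543210687), (nat_lit 0x543210768)],
  [(nat_lit 0x876543210), (nat_lit 0x876354210), (nat_lit 0x876435210), (nat_lit 0x543876210), (nat_lit 0x543687210), (nat_lit 0x543768210)],
  [(nat_lit 0x876543210), (nat_lit 0x687543210), (nat_lit 0x768543210)],
  [(nat_lit 0x876543210), (nat_lit 0x786453120)]]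
noncomputable def PN_WW : List (List (List ℕ)) := [[[],
  [(nat_lit 0)],
  [(nat_lit 2)],
  [(nat_lit 3)],
  [(nat_lit 9)],
  [(nat_lit 0), (nat_lit 4)],
  [(nat_lit 0), (nat_lit 5)],
  [(nat_lit 2), (nat_lit 9)],
  [(nat_lit 3), (nat_lit 9)]],
  [[],
  [(nat_lit 4)],
  [(nat_lit 5)],
  [(nat_lit 0), (nat_lit 9)],
  [(nat_lit 0), (nat_lit 2), (nat_lit 9)],
  [(nat_lit 0), (nat_lit 3), (nat_lit 9)]],
  [[],
  [(nat_lit 6)],
  [(nat_lit 7)]],
  [[],
  [(nat_lit 1)]]]
noncomputable def PN_b8_S0 : List ℕ := [nat_lit 0x13000010006010, nat_lit 0x1b000018006012, nat_lit 0x23000020006014, nat_lit 0x2700000700000c008026, nat_lit 0x2b00000700001800c01e, nat_lit 0x2f00002c006010, nat_lit 0x2f00000700001c00a01e, nat_lit 0x3300000700001000201e, nat_lit 0x37000034006012, nat_lit 0x3700000700001400401e, nat_lit 0x3b00000700002000c01c, nat_lit 0x3f00003c006014, nat_lit 0x3f00000700002400401c, nat_lit 0x4300000b000014004020, nat_lit 0x47000044006010, nat_lit 0x4700000b00001000a020, nat_lit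 0x4b00000b00001c004022, nat_lit 0x4f00004c006012, nat_lit 0x4f00000b00001800a022, nat_lit 0x5300000b000024004024, nat_lit 0x57000054006014, nat_lit 0x5700000b00002000a024, nat_lit 0x5b00000f000018002016, nat_lit 0x5f00005c006012, nat_lit 0x5f00000f00001c004016, nat_lit 0x6300000f000020002018, nat_lit 0x67000064006014, nat_lit 0x6700000f000024004018, nat_lit 0x6b00001300001800c016, nat_lit 0x6b00000200005c002016, nat_lit 0x6f00006c006012, nat_lit 0x6f000002000060004016, nat_lit 0x6f00001300001c00a016, nat_lit 0x7300001300002000c018, nat_lit 0x73000002000064002018, nat_lit 0x77000074006014, nat_lit 0x77000002000068004018, nat_lit 0x7700001300002400a018, nat_lit 0x7b00001700002000201a, nat_lit 0x7f00007c006014, nat_lit 0x7f00001700002400401a, nat_lit 0x8300001b00002000c01a, nat_lit 0x8300000600007c00201a, nat_lit 0x87000084006014, nat_lit 0x8700000600008000401a, nat_lit 0x8700001b00002400a01a, nat_lit 0x8b00000e00004c00c01e, nat_lit 0x8b000027000030004020, nat_lit 0x8f00008c006010,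 nat_lit 0x8f00000e00005000a01e, nat_lit 0x8f00002700002c00a020, nat_lit 0x9300000e00004400201e, nat_lit 0x93000027000038004022, nat_lit 0x97000094006012, nat_lit 0x9700000e00004800401e, nat_lit 0x9700002700003400a022, nat_lit 0x9b00000e00005400c01c, nat_lit 0x9b000027000040004024, nat_lit 0x9f00009c006014, nat_lit 0x9f00000e00005800401c, nat_lit 0x9f00002700003c00a024, nat_lit 0xa300002b000034002016, nat_lit 0xa300001200005900201e, nat_lit 0xa70000a4006012]
noncomputable def PN_b8_S1 : List ℕ := [nat_lit 0xa700002b000038004016, nat_lit 0xa700001200007100401e, nat_lit 0xab00002b00003c002018, nat_lit 0xab00001200007c00c01c, nat_lit 0xaf0000ac006014, nat_lit 0xaf00002b000040004018, nat_lit 0xaf00001200008000401c, nat_lit 0xb300002f00003400c016, nat_lit 0xb30000160000a4002016, nat_lit 0xb300001a00006100201e, nat_lit 0xb70000b4006012, nat_lit 0xb70000160000a8004016, nat_lit 0xb700002f00003800a016, nat_lit 0xb700001a00008100401e, nat_lit 0xbb00002f00003c00c018, nat_lit 0xbb0000160000ac002018,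 nat_lit 0xbb00001a00008400c01c, nat_lit 0xbf0000bc006014, nat_lit 0xbf0000160000b0004018, nat_lit 0xbf00002f00004000a018, nat_lit 0xbf00001a00008800401c, nat_lit 0xc300003300003c00201a, nat_lit 0xc300001e00006400c01c, nat_lit 0xc70000c4006014, nat_lit 0xc700003300004000401a, nat_lit 0xc700001e00006800401c, nat_lit 0xcb00003700003c00c01a, nat_lit 0xcb0000220000c400201a, nat_lit 0xcb00002600007400c01c, nat_lit 0xcf0000cc006014, nat_lit 0xcf0000220000c800401a, nat_lit 0xcf00003700004000a01a, nat_lit 0xcf00002600007800401c, nat_lit 0xd300004300004c002016, nat_lit 0xd3000036000070004022, nat_lit 0xd70000d4006012, nat_lit 0xd7000043000050004016, nat_lit 0xd700003600006c00a022, nat_lit 0xdb000043000054002018, nat_lit 0xdb000036000078004024, nat_lit 0xdf0000dc006014, nat_lit 0xdf000043000058004018, nat_lit 0xdf00003600007400a024, nat_lit 0xe300004700004c00c016, nat_lit 0xe300003a0000d4002016, nat_lit 0xe300003e000060004022, nat_lit 0xe70000e4006012, nat_lit 0xe700003a0000d8004016,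 nat_lit 0xe700004700005000a016, nat_lit 0xe700003e00005c00a022, nat_lit 0xeb00004700005400c018, nat_lit 0xeb00003a0000dc002018, nat_lit 0xeb00003e000068004024, nat_lit 0xef0000ec006014, nat_lit 0xef00003a0000e0004018, nat_lit 0xef00004700005800a018, nat_lit 0xef00003e00006400a024, nat_lit 0xf300004b00005400201a, nat_lit 0xf3000042000088004024, nat_lit 0xf70000f4006014, nat_lit 0xf700004b00005800401a, nat_lit 0xf700004200008400a024, nat_lit 0xfb00004f00005400c01a, nat_lit 0xfb0000460000f400201a]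
noncomputable def PN_b8_S2 : List ℕ := [nat_lit 0xfb00004a000080004024, nat_lit 0xff0000fc006014, nat_lit 0xff0000460000f800401a, nat_lit 0xff00004f00005800a01a, nat_lit 0xff00004a00007c00a024, nat_lit 0x10300005a00007c002018, nat_lit 0x10300005b00006400201a, nat_lit 0x107000104006014, nat_lit 0x10700005a000080004018, nat_lit 0x10700005b00006800401a, nat_lit 0x10b000062000084002018, nat_lit 0x10b00005f00006400c01a, nat_lit 0x10b00005e00010400201a, nat_lit 0x10f00010c006014, nat_lit 0x10f000062000088004018, nat_lit 0x10f00005e00010800401a, nat_lit 0x10f00005f00006800a01a, nat_lit 0x11300007200007c00c018, nat_lit 0x113000076000104002018, nat_lit 0x11300006b00007400201a, nat_lit 0x117000114006014, nat_lit 0x117000076000108004018, nat_lit 0x11700007200008000a018, nat_lit 0x11700006b00007800401a, nat_lit 0x11b00008200008400c018, nat_lit 0x11b00007e00010c002018, nat_lit 0x11b00006f00007400c01a, nat_lit 0x11b00007a00011400201a, nat_lit 0x11f00011c006014, nat_lit 0x11f00007e000110004018,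 nat_lit 0x11f00008200008800a018, nat_lit 0x11f00007a00011800401a, nat_lit 0x11f00006f00007800a01a, nat_lit 0x12300008b000094002016, nat_lit 0x1230000ba00018500201e, nat_lit 0x1230000be0000b8004022, nat_lit 0x127000124006012, nat_lit 0x12700008b000098004016, nat_lit 0x1270000ba0001ad00401e, nat_lit 0x1270000be0000b400a022, nat_lit 0x12b00008b00009c002018, nat_lit 0x12b0000ba0000f400c01c, nat_lit 0x12b0000be0000c0004024, nat_lit 0x12f00012c006014, nat_lit 0x12f00008b0000a0004018, nat_lit 0x12f0000ba0000f800401c, nat_lit 0x12f0000be0000bc00a024, nat_lit 0x13300008f00009400c016, nat_lit 0x1330000c2000124002016, nat_lit 0x1330000c600019100201e, nat_lit 0x1330000ca0000a8004022, nat_lit 0x137000134006012, nat_lit 0x1370000c2000128004016, nat_lit 0x13700008f00009800a016, nat_lit 0x1370000c60001c100401e, nat_lit 0x1370000ca0000a400a022, nat_lit 0x13b00008f00009c00c018, nat_lit 0x13b0000c200012c002018, nat_lit 0x13b0000c60000fc00c01c, nat_lit 0x13b0000ca0000b0004024, nat_lit 0x13f00013c006014,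 nat_lit 0x13f0000c2000130004018, nat_lit 0x13f00008f0000a000a018, nat_lit 0x13f0000c600010000401c]
noncomputable def PN_b8_S3 : List ℕ := [nat_lit 0x13f0000ca0000ac00a024, nat_lit 0x14300009300009c00201a, nat_lit 0x1430000ce0000dc00c01c, nat_lit 0x1430000d20000d0004024, nat_lit 0x147000144006014, nat_lit 0x1470000930000a000401a, nat_lit 0x1470000ce0000e000401c, nat_lit 0x1470000d20000cc00a024, nat_lit 0x14b00009700009c00c01a, nat_lit 0x14b0000d600014400201a, nat_lit 0x14b0000da0000ec00c01c, nat_lit 0x14b0000de0000c8004024, nat_lit 0x14f00014c006014, nat_lit 0x14f0000d600014800401a, nat_lit 0x14f0000970000a000a01a, nat_lit 0x14f0000da0000f000401c, nat_lit 0x14f0000de0000c400a024, nat_lit 0x1530000f60000c4002018, nat_lit 0x1530000a30000ac00201a, nat_lit 0x1530000fa00010400c01c, nat_lit 0x157000154006014, nat_lit 0x1570000f60000c8004018, nat_lit 0x1570000a30000b000401a, nat_lit 0x1570000fa00010800401c, nat_lit 0x15b0001020000cc002018, nat_lit 0x15b0000a70000ac00c01a, nat_lit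 0x15b0000fe00015400201a, nat_lit 0x15b00010600011400c01c, nat_lit 0x15f00015c006014, nat_lit 0x15f0001020000d0004018, nat_lit 0x15f0000fe00015800401a, nat_lit 0x15f0000a70000b000a01a, nat_lit 0x15f00010600011800401c, nat_lit 0x16300011e0000c400c018, nat_lit 0x163000122000154002018, nat_lit 0x1630000b30000bc00201a, nat_lit 0x16300012600010c00c01c, nat_lit 0x167000164006014, nat_lit 0x167000122000158004018, nat_lit 0x16700011e0000c800a018, nat_lit 0x1670000b30000c000401a, nat_lit 0x16700012600011000401c, nat_lit 0x16b0001320000cc00c018, nat_lit 0x16b00012e00015c002018, nat_lit 0x16b0000b70000bc00c01a, nat_lit 0x16b00012a00016400201a, nat_lit 0x16b00013600011c00c01c, nat_lit 0x16f00016c006014, nat_lit 0x16f00012e000160004018, nat_lit 0x16f0001320000d000a018, nat_lit 0x16f00012a00016800401a, nat_lit 0x16f0000b70000c000a01a, nat_lit 0x16f00013600012000401c, nat_lit 0x1730001860000f4002018, nat_lit 0x1730000d30000dc00201a, nat_lit 0x17300018a000120004024, nat_lit 0x177000174006014,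 nat_lit 0x1770001860000f8004018, nat_lit 0x1770000d30000e000401a, nat_lit 0x17700018a00011c00a024, nat_lit 0x17b0001920000fc002018, nat_lit 0x17b0000d70000dc00c01a, nat_lit 0x17b00018e00017400201a, nat_lit 0x17b000196000118004024]
noncomputable def PN_b8_S4 : List ℕ := [nat_lit 0x17f00017c006014, nat_lit 0x17f000192000100004018, nat_lit 0x17f00018e00017800401a, nat_lit 0x17f0000d70000e000a01a, nat_lit 0x17f00019600011400a024, nat_lit 0x1830001ae0000f400c018, nat_lit 0x1830001b2000174002018, nat_lit 0x1830000e30000ec00201a, nat_lit 0x1830001b6000110004024, nat_lit 0x187000184006014, nat_lit 0x1870001b2000178004018, nat_lit 0x1870001ae0000f800a018, nat_lit 0x1870000e30000f000401a, nat_lit 0x1870001b600010c00a024, nat_lit 0x18b0001c20000fc00c018, nat_lit 0x18b0001be00017c002018, nat_lit 0x18b0000e70000ec00c01a, nat_lit 0x18b0001ba00018400201a, nat_lit 0x18b0001c6000108004024, nat_lit 0x18f00018c006014, nat_lit 0x18f0001be000180004018, nat_lit 0x18f0001c200010000a018, nat_lit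 0x18f0001ba00018800401a, nat_lit 0x18f0000e70000f000a01a, nat_lit 0x18f0001c600010400a024, nat_lit 0x193000286000144002018, nat_lit 0x19300012300012c00201a, nat_lit 0x19300028a00017400c01c, nat_lit 0x19300028e000170004024, nat_lit 0x197000194006014, nat_lit 0x197000286000148004018, nat_lit 0x19700012300013000401a, nat_lit 0x19700028a00017800401c, nat_lit 0x19700028e00016c00a024, nat_lit 0x19b00029600014c002018, nat_lit 0x19b00012700012c00c01a, nat_lit 0x19b00029200019400201a, nat_lit 0x19b00029a00018400c01c, nat_lit 0x19b00029e000168004024, nat_lit 0x19f00019c006014, nat_lit 0x19f000296000150004018, nat_lit 0x19f00029200019800401a, nat_lit 0x19f00012700013000a01a, nat_lit 0x19f00029a00018800401c, nat_lit 0x19f00029e00016400a024, nat_lit 0x1a30002be00014400c018, nat_lit 0x1a30002c2000194002018, nat_lit 0x1a300013300013c00201a, nat_lit 0x1a30002c600017c00c01c, nat_lit 0x1a30002ca000160004024, nat_lit 0x1a70001a4006014, nat_lit 0x1a70002c2000198004018, nat_lit 0x1a70002be00014800a018,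 nat_lit 0x1a700013300014000401a, nat_lit 0x1a70002c600018000401c, nat_lit 0x1a70002ca00015c00a024, nat_lit 0x1ab0002d600014c00c018, nat_lit 0x1ab0002d200019c002018, nat_lit 0x1ab00013700013c00c01a, nat_lit 0x1ab0002ce0001a400201a, nat_lit 0x1ab0002da00018c00c01c, nat_lit 0x1ab0002de000158004024, nat_lit 0x1af0001ac006014, nat_lit 0x1af0002d20001a0004018]
noncomputable def PN_b8_S5 : List ℕ := [nat_lit 0x1af0002d600015000a018, nat_lit 0x1af0002ce0001a800401a, nat_lit 0x1af00013700014000a01a, nat_lit 0x1af0002da00019000401c, nat_lit 0x1af0002de00015400a024]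
noncomputable def PN_b8_S : List (List ℕ) := [PN_b8_S0, PN_b8_S1, PN_b8_S2, PN_b8_S3, PN_b8_S4, PN_b8_S5]
noncomputable def PN_b8_defs : List ℕ := [(nat_lit 0x70001300600013007000120060001200700011006000110050001100400011007000100060001000500010004000100070000d0060000d0070000c0060000c0070000b0060000b0050000b0040000b0070000a0060000a0050000a0040000a00700009006000090050000900400009003000090020000900700006006000060070000500600005007000040060000400500004004000040070000300600003005000030040000300700002006000020050000200400002003000020020000200700001006000010050000100400001003000010020000100100001007000000060000000500000004000000030000000200000001000000000000000000000),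
  (nat_lit 0x70004d0060004d0070004c0060004c0070004900600049007000480060004800700039006000390070003800600038007000350060003500700034006000340070002d0060002d0070002c0060002c007000290060002900700028006000280070002500600025007000240060002400700023006000230050002300400023007000220060002200500022004000220070001b0060001b0070001a0060001a00700017006000170070001600600016)]
noncomputable def PN_b8_recs : List ℕ := [(nat_lit 0x50002800029000001600028030000c00028010000e00027000001500027070002600027010000f00026000001400026010000c00025000001100025050002400025010000d00024000001000024010000a00023000001300023030002200023010000b00022000001200022040000800021050001f00021070002000021050001e0002004000070002005000080001f070001e0001f05000070001e02000080001d03000190001d070001c0001d03000180001c02000070001c02000060001b03000170001b050001a0001b03000160001a02000050001a03000080001907000180001903000070001803000060001705000160001703000050001601000070001507000140001501000080001401000050001305000120001301000060001201000030001103000100001101000040001000000080000f070000e0000f00000070000e00000040000d050000c0000d00000030000c00000060000b030000a0000b00000050000a000000200009070000700008050000500006030000300004),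
  (nat_lit 0x50003c0003e04000140003e01000200003d05000150003d070003c0003d01000210003c05000140003c01000180003b02000150003b03000370003b070003a0003b01000190003a03000360003a02000140003a010001600039020001300039030003500039050003800039010001700038030003400038020001200038010001c00037030001500037070003600037010001d00036030001400036010001a00035030001300035050003400035010001b00034030001200034000001d00033040000f00033050003100033070003200033000001c00032050003000032040000e00032000001900031050000f00031070003000031000001800030050000e0003000000210002f020000f0002f030002b0002f070002e0002f00000200002e030002a0002e020000e0002e000001b0002d020000d0002d03000290002d050002c0002d00000170002c03000280002c020000c0002c000001f0002b030000f0002b070002a0002b000001e0002a030000e0002a000001a00029030000d00029),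
  (nat_lit 0x3f0004f02000270004f030004b0004f070004e0004f010002b0004e000003e0004e030004a0004e02000260004e01000280004d00000390004d02000250004d03000490004d050004c0004d01000290004c00000350004c03000480004c02000240004c010002e0004b000003d0004b03000270004b070004a0004b010002f0004a000003c0004a03000260004a010002c00049000003800049030002500049050004800049010002d00048000003400048030002400048040001d00047050004500047020002100047030004300047070004600047050004400046040001c00046030004200046020002000046050001d00045020001f00045030004100045070004400045050001c00044030004000044020001e00044040001900043050004100043030002100043070004200043050004000042040001800042030002000042050001900041030001f00041070004000041050001800040030001e00040010001e0003f04000150003f050003d0003f070003e0003f010001f0003e),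
  (nat_lit 0x1000450005e050005c0005e04000360005e030003e0005e01000460005d05000370005d030003d0005d070005c0005d01000470005c05000360005c030003c0005c00000470005b040002f0005b05000590005b02000330005b03000570005b070005a0005b00000460005a05000580005a040002e0005a03000560005a02000320005a000004300059050002f00059020003100059030005500059070005800059000004200058050002e00058030005400058020003000058000004500057040002b00057050005500057030003300057070005600057000004400056050005400056040002a00056030003200056000004100055050002b00055030003100055070005400055000004000054050002a00054030003000054010003000053000003b00053040002700053050005100053070005200053010003100052000003a00052050005000052040002600052010003200051000003700051050002700051070005000051010003300050000003600050050002600050010002a0004f),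
  (nat_lit 0x3000670006b070006a0006b01000550006a00000620006a05000680006a040004e0006a03000660006a02000520006a010005600069000005f00069050004f00069020005100069030006500069070006800069010005700068000005e00068050004e00068030006400068020005000068010005800067000006100067040004b00067050006500067030005300067070006600067010005900066000006000066050006400066040004a00066030005200066010005a00065000005d00065050004b00065030005100065070006400065010005b00064000005c00064050004a00064030005000064010004000063040003b00063050006100063020003f00063030005f00063070006200063010004100062050006000062040003a00062030005e00062020003e00062010004200061050003b00061020003d00061030005d00061070006000061010004300060050003a00060030005c00060020003c0006001000440005f04000370005f050005d0005f030003f0005f070005e0005f),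
  (nat_lit 0x1000540006b00000630006b040004f0006b05000690006b02000530006b)]
noncomputable def PN_b8_L0 : List ℕ := [nat_lit 0x700000100000b00000200000f00000300001300000400001700000500001b00000600001f000007000023000008, nat_lit 0x800000000002700000900002b00000a00002f00000b00003300000c00003700000d00003b00000e00003f00000f, nat_lit 0xe00000900000c00000000004300001000004700001100004b00001200004f000013000053000014000057000015, nat_lit 0x1e00000c00003e00001100000200000400001000000000005b00001600005f000017000063000018000067000019, nat_lit 0x2600000d00003600001000001400000000000100000300006b00001a00006f00001b00007300001c00007700001d, nat_lit 0x1200000a00004a00001300005a00001600007200001a00000600000600001800000000007b00001e00007f00001f, nat_lit 0x1a00000b00004200001200006200001700008200001b00001c000000000005000005000083000020000087000021, nat_lit 0x2a00000e00005600001500006600001800008600001c00009a00001e0000a600002000000a000008000020000000, nat_lit 0x3200000f00004e00001400006e00001900009600001d0000a200001f0000b6000021000024000000000009000007,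 nat_lit 0xd00000200002800000100008b00002200008f00002300009300002400009700002500009b00002600009f000027, nat_lit 0x110000050000ca00002300001600000b00002c0000010000a30000280000a70000290000ab00002a0000af00002b, nat_lit 0x190000060000be00002200003000000100001500000a0000b300002c0000b700002d0000bb00002e0000bf00002f, nat_lit 0x1d0000030000de0000250000f600002800011e00002c00002200000d0000340000010000c30000300000c7000031, nat_lit 0x250000040000d200002400010200002900013200002d00003800000100002100000c0000cb0000320000cf000033, nat_lit 0x290000070000f200002700010a00002a00013a00002e00015600003000016a00003200002e00000f00003c000001, nat_lit 0x310000080000e600002600011600002b00014e00002f00016200003100017e00003300004000000100002d00000e, nat_lit 0xce00002400003500000400003a0000110000440000020000d30000340000d70000350000db0000360000df000037, nat_lit 0xda00002500003d0000030000480000020000390000100000e30000380000e70000390000eb00003a0000ef00003b, nat_lit 0xba0000220000410000060001860000340001ae00003800004600001300004c0000020000f300003c0000f700003d,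 nat_lit 0xc60000230000490000050001920000350001c20000390000500000020000450000120000fb00003e0000ff00003f, nat_lit 0xe200002600004d00000800019a0000360001ca00003a0001e600003c0001fa00003e000052000015000054000002, nat_lit 0xee0000270000550000070001a60000370001de00003b0001f200003d00020e00003f000058000002000051000014, nat_lit 0xfa0000280001c600003900007600001a00005900000500005e00001700005c000003000103000040000107000041, nat_lit 0x12600002c0001b600003800007e00001b00006100000600006000000300005d00001600010b00004200010f000043, nat_lit 0x15a0000300001e200003b00008a00001c00006500000700021a00004000022e00004200006a000019000064000003, nat_lit 0x1660000310001d200003a00009200001d00006d000008000226000041000242000043000068000003000069000018, nat_lit 0x10600002900019600003500007100000500007500001600007a00001b00006c000004000113000044000117000045, nat_lit 0x13600002d00018a00003400008100000600007d00001700007000000400007900001a00011b00004600011f000047, nat_lit 0x1720000320001aa00003700008500000700008900001800024e00004400026a00004600008e00001d000074000004,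 nat_lit 0x18200003300019e00003600009500000800009100001900025e00004500028200004700007800000400008d00001c, nat_lit 0x10e00002a00021200003f0002160000400002460000440000aa00002000009900000700009e00001f00007c000005, nat_lit 0x11a00002b00020200003e00022200004100025a0000450000b20000210000a100000800008000000500009d00001e, nat_lit 0x14200002e0001f600003d00022a0000420002620000460000a50000070000a900001e0000ae000021000084000006, nat_lit 0x15200002f0001ea00003c00023a00004300027a0000470000b50000080000b100001f0000880000060000ad000020, nat_lit 0xb90000120000bd00000b0000c200002300008c00000900012300004800012700004900012b00004a00012f00004b, nat_lit 0xc50000130000c900000a0000900000090000c100002200013300004c00013700004d00013b00004e00013f00004f, nat_lit 0xcd0000100000d100000d0002860000480002be00004c0000d6000025000094000009000143000050000147000051, nat_lit 0xd90000110000dd00000c0002960000490002d600004d0000980000090000d500002400014b00005200014f000053, nat_lit 0xe10000140000e500000f0002a200004a0002e200004e0003060000500003220000520000ea00002700009c000009,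 nat_lit 0xed0000150000f100000e0002b200004b0002fa00004f00031600005100033a0000530000a00000090000e9000026, nat_lit 0xf90000160002de00004d00012200002c0000f500000c0000fe0000290000a400000a000153000054000157000055, nat_lit 0x10500001a0002ca00004c00012e00002d00010100000d0000a800000a0000fd00002800015b00005600015f000057, nat_lit 0x10d00001e00030200004f00013e00002e00010900000e00034a00005400036600005600011200002b0000ac00000a, nat_lit 0x11900001f0002ee00004e00014a00002f00011500000f00035a00005500037e0000570000b000000a00011100002a, nat_lit 0x12500001700029e00004900011d00000c00012100002800012a00002d0000b400000b000163000058000167000059, nat_lit 0x13500001b00028e00004800013100000d00012d0000290000b800000b00012900002c00016b00005a00016f00005b, nat_lit 0x1410000200002ba00004b00013900000e00013d00002a00038e0000580003b200005a00014600002f0000bc00000b, nat_lit 0x1510000210002aa00004a00014d00000f00014900002b0003a20000590003ce00005b0000c000000b00014500002e, nat_lit 0x15900001800034200005300034600005400038600005800016e00003200015500000e00015e0000310000c400000c,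 nat_lit 0x16500001900032e00005200035600005500039e00005900017a00003300016100000f0000c800000c00015d000030, nat_lit 0x17100001c00031e0000510003620000560003aa00005a00016900000e00016d0000300001760000330000cc00000d, nat_lit 0x18100001d00030e0000500003760000570003c600005b00017d00000f0001790000310000d000000d000175000032, nat_lit 0x28a00004800018900001b0001b200003800018500001200018e0000350000d400001000017300005c00017700005d, nat_lit 0x2c600004c00019500001a0001be0000390001910000130000d800001000018d00003400017b00005e00017f00005f, nat_lit 0x30a00005000019d00001d0001ce00003a0001990000140003da00005c0003f600005e0001a20000370000dc000010, nat_lit 0x31a0000510001a900001c0001da00003b0001a50000150003ea00005d00040e00005f0000e00000100001a1000036, nat_lit 0x29a0000490001b50000170001ad0000120001b10000340001ba0000390000e4000011000183000060000187000061, nat_lit 0x2da00004d0001c50000160001c10000130001bd0000350000e80000110001b900003800018b00006200018f000063, nat_lit 0x32a0000520001d10000190001c90000140001cd00003600041e0000600004420000620001d600003b0000ec000011,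 nat_lit 0x33e0000530001e10000180001dd0000150001d900003700043200006100045e0000630000f00000110001d500003a, nat_lit 0x2a600004a0001e90000210003d600005c0004160000600001fe00003e0001e50000140001ee00003d0000f4000012, nat_lit 0x2b600004b0001f50000200003e600005d00042e00006100020a00003f0001f10000150000f80000120001ed00003c, nat_lit 0x2ea00004e00020100001f0003f200005e00043a0000620001f90000140001fd00003c00020600003f0000fc000013, nat_lit 0x2fe00004f00021100001e00040600005f00045600006300020d00001500020900003d00010000001300020500003e]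
noncomputable def PN_b8_L1 : List ℕ := [nat_lit 0x34e00005400046200006300024a00004400021500001e00023200004200021900001800021e000041000104000016, nat_lit 0x35e00005500044a00006200025600004500022100001f00023e00004300022500001900010800001600021d000040, nat_lit 0x39200005800043600006100026600004600022900002000022d00001800023100004000023600004300010c000017, nat_lit 0x3a600005900042200006000027600004700023900002100024100001900023d000041000110000017000235000042, nat_lit 0x36e00005600041200005f00024500001e00024900004000026e00004600024d00001c00025200004500011400001a, nat_lit 0x3820000570003fe00005e00025900001f00025500004100027e00004700025d00001d00011800001a000251000044, nat_lit 0x3ba00005a0003ee00005d00026100002000026500004200026900001c00026d00004400027200004700011c00001b, nat_lit 0x3d200005b0003de00005c00027900002100027500004300028100001d00027d00004500012000001b000271000046, nat_lit 0x28900003400028d00002d0002c200004c000285000024000292000049000124000022000193000064000197000065, nat_lit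 0x29900003800029d00002c0002d200004d00029500002500012800002200029100004800019b00006600019f000067, nat_lit 0x2a500003c0002a900002f0002e600004e0002a100002600046a00006400048e0000660002ae00004b00012c000022, nat_lit 0x2b500003d0002b900002e0002f600004f0002b100002700047e0000650004aa0000670001300000220002ad00004a, nat_lit 0x2c50000350002c90000290002bd0000240002c10000480002ce00004d0001340000230001a30000680001a7000069, nat_lit 0x2d90000390002dd0000280002d50000250002d10000490001380000230002cd00004c0001ab00006a0001af00006b, nat_lit 0x2e900003e0002ed00002b0002e10000260002e500004a0004be0000680004ea00006a0002f200004f00013c000023, nat_lit 0x2fd00003f00030100002a0002f90000270002f500004b0004d600006900050a00006b0001400000230002f100004e, nat_lit 0x30900003600030d0000330004660000640004b6000068000326000052000305000026000312000051000144000024, nat_lit 0x31900003700031d00003200047a0000650004d2000069000336000053000315000027000148000024000311000050, nat_lit 0x32900003a00032d00003100048a0000660004e200006a00032100002600032500005000033200005300014c000025,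 nat_lit 0x33d00003b0003410000300004a200006700050200006b000339000027000335000051000150000025000331000052, nat_lit 0x34d00004000051200006b00038a00005800034500003000036a00005600034900002a000352000055000154000028, nat_lit 0x35d0000410004f600006a00039a00005900035500003100037a00005700035900002b000158000028000351000054, nat_lit 0x36d0000440004de0000690003ae00005a00036100003200036500002a00036900005400037200005700015c000029, nat_lit 0x3810000450004c60000680003c200005b00037500003300037d00002b000379000055000160000029000371000056, nat_lit 0x3910000420004b20000670003850000300003890000540003b600005a00038d00002e00039600005900016400002c, nat_lit 0x3a500004300049a00006600039d0000310003990000550003ca00005b0003a100002f00016800002c000395000058, nat_lit 0x3b90000460004860000650003a90000320003ad0000560003b100002e0003b50000580003be00005b00016c00002d, nat_lit 0x3d10000470004720000640003c50000330003c10000570003cd00002f0003c900005900017000002d0003bd00005a, nat_lit 0x46e0000640003dd00004700041a0000600003d500003c0003fa00005e0003d90000360003e200005d000174000034,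 nat_lit 0x4820000650003ed00004600042a0000610003e500003d00040a00005f0003e90000370001780000340003e100005c, nat_lit 0x4c20000680003fd00004500043e0000620003f100003e0003f50000360003f900005c00040200005f00017c000035, nat_lit 0x4da00006900041100004400045200006300040500003f00040d00003700040900005d00018000003500040100005e, nat_lit 0x49600006600042100004300041500003c00041900005c00044600006200041d00003a000426000061000184000038, nat_lit 0x4ae00006700043500004200042d00003d00042900005d00045a00006300043100003b000188000038000425000060, nat_lit 0x4f200006a00044900004100043900003e00043d00005e00044100003a00044500006000044e00006300018c000039, nat_lit 0x50e00006b00046100004000045500003f00045100005f00045d00003b00045900006100019000003900044d000062, nat_lit 0x46d00005c00047100005b0004ba00006800046500005000049200006600046900004a000476000065000194000048, nat_lit 0x48100005d00048500005a0004ce0000690004790000510004a600006700047d00004b000198000048000475000064, nat_lit 0x4950000600004990000590004e600006a00048900005200048d00004a00049100006400049e00006700019c000049,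 nat_lit 0x4ad0000610004b10000580004fe00006b0004a10000530004a900004b0004a50000650001a000004900049d000066, nat_lit 0x4c100005e0004c50000570004b50000500004b90000640004ee00006a0004bd00004e0004ca0000690001a400004c, nat_lit 0x4d900005f0004dd0000560004d10000510004cd00006500050600006b0004d500004f0001a800004c0004c9000068, nat_lit 0x4f10000620004f50000550004e10000520004e50000660004e900004e0004ed0000680004fa00006b0001ac00004d, nat_lit 0x50d0000630005110000540005010000530004fd00006700050900004f0005050000690001b000004d0004f900006a]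
noncomputable def PN_b8_L : List (List ℕ) := [PN_b8_L0, PN_b8_L1]
noncomputable def PN_b8_V : List ℕ := [(nat_lit 0x3f0000003e0000003d0000003c0000003b0000003a000000390000003800000037000000360000003500000034000000330000003200000031000000300000002f0000002e0000002d0000002c0000002b0000002a000000290000002800000027000000260000002500000024000000230000002200000021000000200000001f0000001e0000001d0000001c0000001b0000001a000000190000001800000017000000160000001500000014000000130000001200000011000000100000000f0000000e0000000d0000000c0000000b0000000a00000009000000080000000700000006000000050000000400000003000000020000000100000000),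
  (nat_lit 0x6b0000006a000000690000006800000067000000660000006500000064000000630000006200000061000000600000005f0000005e0000005d0000005c0000005b0000005a000000590000005800000057000000560000005500000054000000530000005200000051000000500000004f0000004e0000004d0000004c0000004b0000004a00000049000000480000004700000046000000450000004400000043000000420000004100000040)]
noncomputable def PN_b8_D : H26.Dag := ⟨[0,1,3,2,5,4,7,6], [[0,0],
  [1,1],
  [2,3],
  [3,2],
  [4,5],
  [5,4],
  [6,7],
  [7,6],
  [2,2,2],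
  [4,4,4],
  [6,6,6],
  [5,3,4,2],
  [7,3,6,2],
  [7,5,6,4],
  [7,0,6,0],
  [5,0,2,0],
  [2,1,2,1],
  [4,1,4,1],
  [6,1,6,1],
  [0,1,0,1]], [], PN_b8_defs, PN_b8_recs⟩
theorem PN_b8_c : PN_b8_D.checkTab PN_b8_S 108 8 PN_b8_V PN_b8_L = true := by decide +kernel
theorem PN_b8 : Bound PN_Rl 8 108 :=
  bound_dag (Bound.zero PN_Rl) (K := 8) (J := [0,1,2,3,4,5,6,7,10,11,12,13,14,15,21,22,23,24,25,26]) (by decide +kernel) PN_b8_c (by decide +kernel)
noncomputable def PN_b10_S0 : List ℕ := [nat_lit 0x1, nat_lit 0x1, nat_lit 0x1, nat_lit 0x1, nat_lit 0x1, nat_lit 0x7000011000008000016, nat_lit 0x7000009000008000018, nat_lit 0x700000d00000800001a, nat_lit 0x700000500000800c01e, nat_lit 0xb000008006014, nat_lit 0xb00000a00000c008016, nat_lit 0xb00000e00000c008018, nat_lit 0xb00001200000c00801a, nat_lit 0xb00000100000800a01c, nat_lit 0xb00000500000c00401e]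
noncomputable def PN_b10_S : List (List ℕ) := [PN_b10_S0]
noncomputable def PN_b10_defs : List ℕ := [(nat_lit 0x9000000080000000000000)]
noncomputable def PN_b10_recs : List ℕ := [(nat_lit 0x10000200002000000100002040000200002020000200002060000200002090000100002010000100001070000100001050000100001030000100001060000000000040000000000020000000000010000000000000000000000)]
noncomputable def PN_b10_L0 : List ℕ := [nat_lit 0x100000000000500000000000900000000000a00000000000d00000000000e00000000001100000000001200000000000700000100000b000002, nat_lit 0x3600000200002100000100001600000100001500000100001a00000100001900000100001e00000100001d000001000026000002000008000000, nat_lit 0x3500000100003900000200002d00000200002e00000200003100000200003200000200002900000200002a00000200000c000000000025000001]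
noncomputable def PN_b10_L : List (List ℕ) := [PN_b10_L0]
noncomputable def PN_b10_V : List ℕ := [(nat_lit 0x20000000100000000)]
noncomputable def PN_b10_D : H26.Dag := ⟨[0,1,3,2,5,4,7,6,9,8], [[0,0],
  [1,1],
  [2,3],
  [3,2],
  [4,5],
  [5,4],
  [6,7],
  [7,6],
  [8,9],
  [9,8],
  [8,8,8],
  [3,9,6,8],
  [5,9,2,8],
  [7,9,4,8],
  [8,0,8,0],
  [9,1,8,1]], [0,1,2,3,4,5,6,7], PN_b10_defs, PN_b10_recs⟩
theorem PN_b10_c : PN_b10_D.checkTab PN_b10_S 3 10 PN_b10_V PN_b10_L = true := by decide +kernel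
theorem PN_b10 : Bound PN_Rl 10 324 :=
  bound_dag PN_b8 (K := 10) (J := [0,1,2,3,4,5,6,7,8,9,16,17,18,19,20,27]) (by decide +kernel) PN_b10_c (by decide +kernel)
theorem PN_P : PModel (nat_lit 9) (nat_lit 4) (nat_lit 15) (nat_lit 0x876543210) PN_cs PN_Rl PN_L 324 :=
  ⟨PkOK.of (by decide +kernel), by decide +kernel, by decide +kernel, PN_b10, ⟨PN_WW, by decide +kernel⟩,
    ⟨fun c => Nat.mod c (nat_lit 5126), by decide +kernel⟩⟩
noncomputable def PN_soc_t0 : ST := (.node (nat_lit 4803) (.node (nat_lit 2420) (.node (nat_lit 1351) (.node (nat_lit 622) (.node (nat_lit 428) (.node (nat_lit 357) (.node (nat_lit 21) (.leaf (nat_lit 163)) (.node (nat_lit 305) (.leaf (nat_lit 189)) (.leaf (nat_lit 163)))) (.node (nat_lit 358) (.leaf (nat_lit 189)) (.node (nat_lit 407) (.leaf (nat_lit 163)) (.leaf (nat_lit 189))))) (.node (nat_lit 563) (.node (nat_lit 463) (.leaf (nat_lit 0)) (.node (nat_lit 474) (.leaf (nat_lit 189)) (.leaf (nat_lit 163)))) (.node (nat_lit 573) (.leaf (nat_lit 0))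 (.node (nat_lit 603) (.leaf (nat_lit 163)) (.leaf (nat_lit 0)))))) (.node (nat_lit 834) (.node (nat_lit 726) (.node (nat_lit 669) (.leaf (nat_lit 163)) (.node (nat_lit 717) (.leaf (nat_lit 0)) (.leaf (nat_lit 189)))) (.node (nat_lit 767) (.leaf (nat_lit 163)) (.node (nat_lit 828) (.leaf (nat_lit 189)) (.leaf (nat_lit 163))))) (.node (nat_lit 1107) (.node (nat_lit 1018) (.leaf (nat_lit 189)) (.node (nat_lit 1057) (.leaf (nat_lit 163)) (.leaf (nat_lit 0)))) (.node (nat_lit 1268) (.leaf (nat_lit 189)) (.node (nat_lit 1278) (.leaf (nat_lit 0)) (.leaf (nat_lit 163))))))) (.node (nat_lit 1852) (.node (nat_lit 1723) (.node (nat_lit 1385) (.node (nat_lit 1372) (.leaf (nat_lit 189)) (.node (nat_lit 1374) (.leaf (nat_lit 163)) (.leaf (nat_lit 189)))) (.node (nat_lit 1422) (.leaf (nat_lit 163)) (.node (nat_lit 1496) (.leaf (nat_lit 189)) (.leaf (nat_lit 163))))) (.node (nat_lit 1793) (.node (nat_lit 1762) (.leaf (nat_lit 189)) (.node (nat_lit 1781) (.leaf (nat_lit 0)) (.leaf (nat_lit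 163)))) (.node (nat_lit 1812) (.leaf (nat_lit 0)) (.node (nat_lit 1838) (.leaf (nat_lit 189)) (.leaf (nat_lit 0)))))) (.node (nat_lit 2130) (.node (nat_lit 1897) (.node (nat_lit 1858) (.leaf (nat_lit 163)) (.node (nat_lit 1866) (.leaf (nat_lit 189)) (.leaf (nat_lit 163)))) (.node (nat_lit 2013) (.leaf (nat_lit 189)) (.node (nat_lit 2035) (.leaf (nat_lit 163)) (.leaf (nat_lit 0))))) (.node (nat_lit 2304) (.node (nat_lit 2151) (.leaf (nat_lit 189)) (.node (nat_lit 2152) (.leaf (nat_lit 163)) (.leaf (nat_lit 189)))) (.node (nat_lit 2376) (.node (nat_lit 2359) (.leaf (nat_lit 163)) (.leaf (nat_lit 0))) (.node (nat_lit 2383) (.leaf (nat_lit 189)) (.leaf (nat_lit 163)))))))) (.node (nat_lit 3743) (.node (nat_lit 3179) (.node (nat_lit 2901) (.node (nat_lit 2770) (.node (nat_lit 2674) (.leaf (nat_lit 189)) (.node (nat_lit 2740) (.leaf (nat_lit 163)) (.leaf (nat_lit 189)))) (.node (nat_lit 2850) (.leaf (nat_lit 163)) (.node (nat_lit 2868) (.leaf (nat_lit 189)) (.leaf (nat_lit 163)))))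 (.node (nat_lit 3044) (.node (nat_lit 2927) (.leaf (nat_lit 189)) (.node (nat_lit 2947) (.leaf (nat_lit 0)) (.leaf (nat_lit 189)))) (.node (nat_lit 3104) (.leaf (nat_lit 0)) (.node (nat_lit 3178) (.leaf (nat_lit 163)) (.leaf (nat_lit 189)))))) (.node (nat_lit 3472) (.node (nat_lit 3284) (.node (nat_lit 3220) (.leaf (nat_lit 163)) (.node (nat_lit 3225) (.leaf (nat_lit 189)) (.leaf (nat_lit 163)))) (.node (nat_lit 3322) (.leaf (nat_lit 189)) (.node (nat_lit 3373) (.leaf (nat_lit 163)) (.leaf (nat_lit 117))))) (.node (nat_lit 3646) (.node (nat_lit 3631) (.leaf (nat_lit 189)) (.node (nat_lit 3632) (.leaf (nat_lit 163)) (.leaf (nat_lit 0)))) (.node (nat_lit 3714) (.node (nat_lit 3653) (.leaf (nat_lit 163)) (.leaf (nat_lit 189))) (.node (nat_lit 3718) (.leaf (nat_lit 0)) (.leaf (nat_lit 163))))))) (.node (nat_lit 4088) (.node (nat_lit 3847) (.node (nat_lit 3767) (.node (nat_lit 3749) (.leaf (nat_lit 189)) (.node (nat_lit 3762) (.leaf (nat_lit 0)) (.leaf (nat_lit 163)))) (.node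 (nat_lit 3780) (.leaf (nat_lit 0)) (.node (nat_lit 3807) (.leaf (nat_lit 163)) (.leaf (nat_lit 189))))) (.node (nat_lit 3969) (.node (nat_lit 3884) (.leaf (nat_lit 0)) (.node (nat_lit 3963) (.leaf (nat_lit 189)) (.leaf (nat_lit 163)))) (.node (nat_lit 3974) (.leaf (nat_lit 189)) (.node (nat_lit 3995) (.leaf (nat_lit 163)) (.leaf (nat_lit 189)))))) (.node (nat_lit 4274) (.node (nat_lit 4177) (.node (nat_lit 4149) (.leaf (nat_lit 163)) (.node (nat_lit 4170) (.leaf (nat_lit 189)) (.leaf (nat_lit 163)))) (.node (nat_lit 4190) (.leaf (nat_lit 189)) (.node (nat_lit 4222) (.leaf (nat_lit 163)) (.leaf (nat_lit 189))))) (.node (nat_lit 4423) (.node (nat_lit 4311) (.leaf (nat_lit 0)) (.node (nat_lit 4357) (.leaf (nat_lit 189)) (.leaf (nat_lit 0)))) (.node (nat_lit 4679) (.node (nat_lit 4648) (.leaf (nat_lit 189)) (.leaf (nat_lit 163))) (.node (nat_lit 4796) (.leaf (nat_lit 189)) (.leaf (nat_lit 163))))))))) (.node (nat_lit 6850) (.node (nat_lit 5719) (.node (nat_lit 5192) (.node (nat_lit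 5018) (.node (nat_lit 4864) (.node (nat_lit 4830) (.leaf (nat_lit 0)) (.node (nat_lit 4856) (.leaf (nat_lit 189)) (.leaf (nat_lit 0)))) (.node (nat_lit 4968) (.leaf (nat_lit 189)) (.node (nat_lit 4985) (.leaf (nat_lit 0)) (.leaf (nat_lit 189))))) (.node (nat_lit 5070) (.node (nat_lit 5019) (.leaf (nat_lit 163)) (.node (nat_lit 5056) (.leaf (nat_lit 189)) (.leaf (nat_lit 0)))) (.node (nat_lit 5098) (.leaf (nat_lit 189)) (.node (nat_lit 5153) (.leaf (nat_lit 0)) (.leaf (nat_lit 189)))))) (.node (nat_lit 5403) (.node (nat_lit 5350) (.node (nat_lit 5194) (.leaf (nat_lit 163)) (.node (nat_lit 5315) (.leaf (nat_lit 189)) (.leaf (nat_lit 225)))) (.node (nat_lit 5353) (.leaf (nat_lit 163)) (.node (nat_lit 5400) (.leaf (nat_lit 189)) (.leaf (nat_lit 163))))) (.node (nat_lit 5556) (.node (nat_lit 5472) (.leaf (nat_lit 189)) (.node (nat_lit 5483) (.leaf (nat_lit 163)) (.leaf (nat_lit 189)))) (.node (nat_lit 5600) (.node (nat_lit 5561) (.leaf (nat_lit 163)) (.leaf (nat_lit 0))) (.node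 (nat_lit 5603) (.leaf (nat_lit 163)) (.leaf (nat_lit 0))))))) (.node (nat_lit 6248) (.node (nat_lit 6031) (.node (nat_lit 5899) (.node (nat_lit 5803) (.leaf (nat_lit 163)) (.node (nat_lit 5897) (.leaf (nat_lit 0)) (.leaf (nat_lit 189)))) (.node (nat_lit 5972) (.leaf (nat_lit 163)) (.node (nat_lit 5997) (.leaf (nat_lit 189)) (.leaf (nat_lit 163))))) (.node (nat_lit 6151) (.node (nat_lit 6055) (.leaf (nat_lit 0)) (.node (nat_lit 6145) (.leaf (nat_lit 163)) (.leaf (nat_lit 189)))) (.node (nat_lit 6152) (.leaf (nat_lit 0)) (.node (nat_lit 6242) (.leaf (nat_lit 189)) (.leaf (nat_lit 163)))))) (.node (nat_lit 6560) (.node (nat_lit 6424) (.node (nat_lit 6383) (.leaf (nat_lit 0)) (.node (nat_lit 6422) (.leaf (nat_lit 189)) (.leaf (nat_lit 0)))) (.node (nat_lit 6468) (.leaf (nat_lit 163)) (.node (nat_lit 6494) (.leaf (nat_lit 189)) (.leaf (nat_lit 163))))) (.node (nat_lit 6677) (.node (nat_lit 6590) (.leaf (nat_lit 189)) (.node (nat_lit 6676) (.leaf (nat_lit 163)) (.leaf (nat_lit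 189)))) (.node (nat_lit 6779) (.node (nat_lit 6689) (.leaf (nat_lit 163)) (.leaf (nat_lit 189))) (.node (nat_lit 6843) (.leaf (nat_lit 163)) (.leaf (nat_lit 189)))))))) (.node (nat_lit 8034) (.node (nat_lit 7241) (.node (nat_lit 6984) (.node (nat_lit 6892) (.node (nat_lit 6854) (.leaf (nat_lit 0)) (.node (nat_lit 6864) (.leaf (nat_lit 189)) (.leaf (nat_lit 163)))) (.node (nat_lit 6947) (.leaf (nat_lit 189)) (.node (nat_lit 6966) (.leaf (nat_lit 163)) (.leaf (nat_lit 0))))) (.node (nat_lit 7086) (.node (nat_lit 6988) (.leaf (nat_lit 189)) (.node (nat_lit 6998) (.leaf (nat_lit 0)) (.leaf (nat_lit 163)))) (.node (nat_lit 7104) (.leaf (nat_lit 189)) (.node (nat_lit 7143) (.leaf (nat_lit 0)) (.leaf (nat_lit 189)))))) (.node (nat_lit 7511) (.node (nat_lit 7394) (.node (nat_lit 7265) (.leaf (nat_lit 163)) (.node (nat_lit 7337) (.leaf (nat_lit 189)) (.leaf (nat_lit 0)))) (.node (nat_lit 7451) (.leaf (nat_lit 189)) (.node (nat_lit 7452) (.leaf (nat_lit 163)) (.leaf (nat_lit 0)))))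 (.node (nat_lit 7809) (.node (nat_lit 7512) (.leaf (nat_lit 189)) (.node (nat_lit 7627) (.leaf (nat_lit 163)) (.leaf (nat_lit 189)))) (.node (nat_lit 7908) (.node (nat_lit 7852) (.leaf (nat_lit 0)) (.leaf (nat_lit 189))) (.node (nat_lit 7997) (.leaf (nat_lit 163)) (.leaf (nat_lit 189))))))) (.node (nat_lit 8354) (.node (nat_lit 8157) (.node (nat_lit 8055) (.node (nat_lit 8041) (.leaf (nat_lit 163)) (.node (nat_lit 8042) (.leaf (nat_lit 189)) (.leaf (nat_lit 0)))) (.node (nat_lit 8097) (.leaf (nat_lit 189)) (.node (nat_lit 8156) (.leaf (nat_lit 171)) (.leaf (nat_lit 189))))) (.node (nat_lit 8262) (.node (nat_lit 8177) (.leaf (nat_lit 0)) (.node (nat_lit 8185) (.leaf (nat_lit 163)) (.leaf (nat_lit 189)))) (.node (nat_lit 8267) (.leaf (nat_lit 163)) (.node (nat_lit 8332) (.leaf (nat_lit 189)) (.leaf (nat_lit 163)))))) (.node (nat_lit 8520) (.node (nat_lit 8488) (.node (nat_lit 8396) (.leaf (nat_lit 0)) (.node (nat_lit 8398) (.leaf (nat_lit 189)) (.leaf (nat_lit 163)))) (.node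 (nat_lit 8496) (.leaf (nat_lit 189)) (.node (nat_lit 8509) (.leaf (nat_lit 163)) (.leaf (nat_lit 189))))) (.node (nat_lit 8702) (.node (nat_lit 8530) (.leaf (nat_lit 163)) (.node (nat_lit 8613) (.leaf (nat_lit 0)) (.leaf (nat_lit 189)))) (.node (nat_lit 8760) (.node (nat_lit 8739) (.leaf (nat_lit 163)) (.leaf (nat_lit 189))) (.node (nat_lit 8778) (.leaf (nat_lit 0)) (.leaf (nat_lit 163))))))))))
noncomputable def PN_soc_t1 : ST := (.node (nat_lit 2375) (.node (nat_lit 1156) (.node (nat_lit 680) (.node (nat_lit 406) (.node (nat_lit 321) (.node (nat_lit 196) (.node (nat_lit 118) (.node (nat_lit 51) (.leaf (nat_lit 216)) (.leaf (nat_lit 54))) (.node (nat_lit 120) (.leaf (nat_lit 270)) (.leaf (nat_lit 54)))) (.node (nat_lit 259) (.node (nat_lit 212) (.leaf (nat_lit 162)) (.leaf (nat_lit 9))) (.node (nat_lit 293) (.leaf (nat_lit 162)) (.leaf (nat_lit 270))))) (.node (nat_lit 356) (.node (nat_lit 340) (.node (nat_lit 337) (.leaf (nat_lit 27)) (.leaf (nat_lit 0))) (.node (nat_lit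 343) (.leaf (nat_lit 9)) (.leaf (nat_lit 162)))) (.node (nat_lit 386) (.node (nat_lit 359) (.leaf (nat_lit 9)) (.leaf (nat_lit 54))) (.node (nat_lit 390) (.leaf (nat_lit 216)) (.node (nat_lit 402) (.leaf (nat_lit 54)) (.leaf (nat_lit 270))))))) (.node (nat_lit 565) (.node (nat_lit 514) (.node (nat_lit 440) (.node (nat_lit 437) (.leaf (nat_lit 162)) (.leaf (nat_lit 9))) (.node (nat_lit 487) (.leaf (nat_lit 270)) (.leaf (nat_lit 54)))) (.node (nat_lit 562) (.node (nat_lit 530) (.leaf (nat_lit 270)) (.leaf (nat_lit 162))) (.node (nat_lit 563) (.leaf (nat_lit 1)) (.leaf (nat_lit 117))))) (.node (nat_lit 631) (.node (nat_lit 581) (.node (nat_lit 577) (.leaf (nat_lit 9)) (.leaf (nat_lit 54))) (.node (nat_lit 584) (.leaf (nat_lit 162)) (.leaf (nat_lit 54)))) (.node (nat_lit 658) (.node (nat_lit 656) (.leaf (nat_lit 162)) (.leaf (nat_lit 270))) (.node (nat_lit 661) (.leaf (nat_lit 162)) (.node (nat_lit 672) (.leaf (nat_lit 270)) (.leaf (nat_lit 162)))))))) (.node (nat_lit 897) (.node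 (nat_lit 802) (.node (nat_lit 712) (.node (nat_lit 707) (.node (nat_lit 696) (.leaf (nat_lit 216)) (.leaf (nat_lit 270))) (.node (nat_lit 710) (.leaf (nat_lit 162)) (.leaf (nat_lit 117)))) (.node (nat_lit 788) (.node (nat_lit 728) (.leaf (nat_lit 54)) (.leaf (nat_lit 162))) (.node (nat_lit 800) (.leaf (nat_lit 216)) (.leaf (nat_lit 1))))) (.node (nat_lit 840) (.node (nat_lit 832) (.node (nat_lit 816) (.leaf (nat_lit 162)) (.leaf (nat_lit 27))) (.node (nat_lit 835) (.leaf (nat_lit 1)) (.leaf (nat_lit 9)))) (.node (nat_lit 854) (.node (nat_lit 851) (.leaf (nat_lit 162)) (.leaf (nat_lit 9))) (.node (nat_lit 856) (.leaf (nat_lit 162)) (.node (nat_lit 881) (.leaf (nat_lit 54)) (.leaf (nat_lit 162))))))) (.node (nat_lit 1009) (.node (nat_lit 949) (.node (nat_lit 935) (.node (nat_lit 931) (.leaf (nat_lit 216)) (.leaf (nat_lit 162))) (.node (nat_lit 947) (.leaf (nat_lit 216)) (.leaf (nat_lit 171)))) (.node (nat_lit 966) (.node (nat_lit 950) (.leaf (nat_lit 162)) (.leaf (nat_lit 270)))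 (.node (nat_lit 982) (.leaf (nat_lit 162)) (.leaf (nat_lit 54))))) (.node (nat_lit 1106) (.node (nat_lit 1072) (.node (nat_lit 1025) (.leaf (nat_lit 216)) (.leaf (nat_lit 270))) (.node (nat_lit 1075) (.leaf (nat_lit 54)) (.leaf (nat_lit 216)))) (.node (nat_lit 1122) (.node (nat_lit 1110) (.leaf (nat_lit 162)) (.leaf (nat_lit 54))) (.node (nat_lit 1126) (.leaf (nat_lit 216)) (.node (nat_lit 1153) (.leaf (nat_lit 54)) (.leaf (nat_lit 270))))))))) (.node (nat_lit 1862) (.node (nat_lit 1539) (.node (nat_lit 1300) (.node (nat_lit 1191) (.node (nat_lit 1172) (.node (nat_lit 1169) (.leaf (nat_lit 216)) (.leaf (nat_lit 162))) (.node (nat_lit 1175) (.leaf (nat_lit 270)) (.leaf (nat_lit 162)))) (.node (nat_lit 1253) (.node (nat_lit 1219) (.leaf (nat_lit 216)) (.leaf (nat_lit 54))) (.node (nat_lit 1269) (.leaf (nat_lit 162)) (.leaf (nat_lit 216))))) (.node (nat_lit 1394) (.node (nat_lit 1376) (.node (nat_lit 1316) (.leaf (nat_lit 270)) (.leaf (nat_lit 162))) (.node (nat_lit 1392) (.leaf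 (nat_lit 216)) (.leaf (nat_lit 270)))) (.node (nat_lit 1461) (.node (nat_lit 1445) (.leaf (nat_lit 54)) (.leaf (nat_lit 270))) (.node (nat_lit 1508) (.leaf (nat_lit 162)) (.node (nat_lit 1523) (.leaf (nat_lit 9)) (.leaf (nat_lit 216))))))) (.node (nat_lit 1715) (.node (nat_lit 1592) (.node (nat_lit 1570) (.node (nat_lit 1541) (.leaf (nat_lit 270)) (.leaf (nat_lit 54))) (.node (nat_lit 1589) (.leaf (nat_lit 216)) (.leaf (nat_lit 162)))) (.node (nat_lit 1633) (.node (nat_lit 1608) (.leaf (nat_lit 270)) (.leaf (nat_lit 162))) (.node (nat_lit 1655) (.leaf (nat_lit 27)) (.leaf (nat_lit 54))))) (.node (nat_lit 1764) (.node (nat_lit 1733) (.node (nat_lit 1731) (.leaf (nat_lit 162)) (.leaf (nat_lit 216))) (.node (nat_lit 1748) (.leaf (nat_lit 162)) (.leaf (nat_lit 270)))) (.node (nat_lit 1840) (.node (nat_lit 1811) (.leaf (nat_lit 162)) (.leaf (nat_lit 54))) (.node (nat_lit 1842) (.leaf (nat_lit 225)) (.node (nat_lit 1859) (.leaf (nat_lit 27)) (.leaf (nat_lit 171)))))))) (.node (nat_lit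 2112) (.node (nat_lit 2006) (.node (nat_lit 1927) (.node (nat_lit 1878) (.node (nat_lit 1864) (.leaf (nat_lit 162)) (.leaf (nat_lit 171))) (.node (nat_lit 1880) (.leaf (nat_lit 216)) (.leaf (nat_lit 162)))) (.node (nat_lit 1956) (.node (nat_lit 1940) (.leaf (nat_lit 54)) (.leaf (nat_lit 216))) (.node (nat_lit 2003) (.leaf (nat_lit 270)) (.leaf (nat_lit 9))))) (.node (nat_lit 2081) (.node (nat_lit 2053) (.node (nat_lit 2037) (.leaf (nat_lit 216)) (.leaf (nat_lit 162))) (.node (nat_lit 2065) (.leaf (nat_lit 216)) (.leaf (nat_lit 162)))) (.node (nat_lit 2087) (.node (nat_lit 2084) (.leaf (nat_lit 27)) (.leaf (nat_lit 270))) (.node (nat_lit 2100) (.leaf (nat_lit 216)) (.node (nat_lit 2103) (.leaf (nat_lit 162)) (.leaf (nat_lit 270))))))) (.node (nat_lit 2225) (.node (nat_lit 2162) (.node (nat_lit 2134) (.node (nat_lit 2128) (.leaf (nat_lit 27)) (.leaf (nat_lit 162))) (.node (nat_lit 2136) (.leaf (nat_lit 270)) (.leaf (nat_lit 54)))) (.node (nat_lit 2200) (.node (nat_lit 2184)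 (.leaf (nat_lit 270)) (.leaf (nat_lit 162))) (.node (nat_lit 2209) (.leaf (nat_lit 216)) (.leaf (nat_lit 1))))) (.node (nat_lit 2307) (.node (nat_lit 2247) (.node (nat_lit 2231) (.leaf (nat_lit 27)) (.leaf (nat_lit 225))) (.node (nat_lit 2306) (.leaf (nat_lit 162)) (.leaf (nat_lit 27)))) (.node (nat_lit 2325) (.node (nat_lit 2323) (.leaf (nat_lit 216)) (.leaf (nat_lit 270))) (.node (nat_lit 2337) (.leaf (nat_lit 9)) (.node (nat_lit 2353) (.leaf (nat_lit 54)) (.leaf (nat_lit 162)))))))))) (.node (nat_lit 3809) (.node (nat_lit 2848) (.node (nat_lit 2565) (.node (nat_lit 2454) (.node (nat_lit 2422) (.node (nat_lit 2406) (.node (nat_lit 2402) (.leaf (nat_lit 54)) (.leaf (nat_lit 216))) (.node (nat_lit 2418) (.leaf (nat_lit 54)) (.leaf (nat_lit 270)))) (.node (nat_lit 2434) (.node (nat_lit 2432) (.leaf (nat_lit 162)) (.leaf (nat_lit 117))) (.node (nat_lit 2450) (.leaf (nat_lit 1)) (.leaf (nat_lit 162))))) (.node (nat_lit 2503) (.node (nat_lit 2472) (.node (nat_lit 2456) (.leaf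 (nat_lit 216)) (.leaf (nat_lit 270))) (.node (nat_lit 2500) (.leaf (nat_lit 54)) (.leaf (nat_lit 162)))) (.node (nat_lit 2548) (.node (nat_lit 2532) (.leaf (nat_lit 54)) (.leaf (nat_lit 270))) (.node (nat_lit 2549) (.leaf (nat_lit 162)) (.node (nat_lit 2562) (.leaf (nat_lit 216)) (.leaf (nat_lit 162))))))) (.node (nat_lit 2688) (.node (nat_lit 2600) (.node (nat_lit 2578) (.node (nat_lit 2576) (.leaf (nat_lit 270)) (.leaf (nat_lit 162))) (.node (nat_lit 2595) (.leaf (nat_lit 54)) (.leaf (nat_lit 9)))) (.node (nat_lit 2672) (.node (nat_lit 2657) (.leaf (nat_lit 54)) (.leaf (nat_lit 216))) (.node (nat_lit 2679) (.leaf (nat_lit 1)) (.leaf (nat_lit 270))))) (.node (nat_lit 2728) (.node (nat_lit 2725) (.node (nat_lit 2720) (.leaf (nat_lit 162)) (.leaf (nat_lit 27))) (.node (nat_lit 2726) (.leaf (nat_lit 54)) (.leaf (nat_lit 117)))) (.node (nat_lit 2819) (.node (nat_lit 2744) (.leaf (nat_lit 54)) (.leaf (nat_lit 162))) (.node (nat_lit 2832) (.leaf (nat_lit 225)) (.node (nat_lit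 2835) (.leaf (nat_lit 54)) (.leaf (nat_lit 162)))))))) (.node (nat_lit 3496) (.node (nat_lit 3314) (.node (nat_lit 3044) (.node (nat_lit 2913) (.node (nat_lit 2870) (.leaf (nat_lit 54)) (.leaf (nat_lit 162))) (.node (nat_lit 2979) (.leaf (nat_lit 216)) (.leaf (nat_lit 54)))) (.node (nat_lit 3268) (.node (nat_lit 3060) (.leaf (nat_lit 162)) (.leaf (nat_lit 216))) (.node (nat_lit 3284) (.leaf (nat_lit 9)) (.leaf (nat_lit 162))))) (.node (nat_lit 3377) (.node (nat_lit 3333) (.node (nat_lit 3330) (.leaf (nat_lit 270)) (.leaf (nat_lit 162))) (.node (nat_lit 3349) (.leaf (nat_lit 216)) (.leaf (nat_lit 270)))) (.node (nat_lit 3431) (.node (nat_lit 3415) (.leaf (nat_lit 1)) (.leaf (nat_lit 54))) (.node (nat_lit 3480) (.leaf (nat_lit 162)) (.node (nat_lit 3493) (.leaf (nat_lit 216)) (.leaf (nat_lit 162))))))) (.node (nat_lit 3728) (.node (nat_lit 3602) (.node (nat_lit 3584) (.node (nat_lit 3509) (.leaf (nat_lit 270)) (.leaf (nat_lit 9))) (.node (nat_lit 3586) (.leaf (nat_lit 162))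 (.leaf (nat_lit 216)))) (.node (nat_lit 3619) (.node (nat_lit 3603) (.leaf (nat_lit 0)) (.leaf (nat_lit 270))) (.node (nat_lit 3649) (.leaf (nat_lit 162)) (.leaf (nat_lit 54))))) (.node (nat_lit 3763) (.node (nat_lit 3750) (.node (nat_lit 3733) (.leaf (nat_lit 171)) (.leaf (nat_lit 216))) (.node (nat_lit 3752) (.leaf (nat_lit 270)) (.leaf (nat_lit 162)))) (.node (nat_lit 3779) (.node (nat_lit 3766) (.leaf (nat_lit 9)) (.leaf (nat_lit 162))) (.node (nat_lit 3780) (.leaf (nat_lit 9)) (.node (nat_lit 3796) (.leaf (nat_lit 162)) (.leaf (nat_lit 54))))))))) (.node (nat_lit 4241) (.node (nat_lit 4003) (.node (nat_lit 3878) (.node (nat_lit 3856) (.node (nat_lit 3828) (.node (nat_lit 3825) (.leaf (nat_lit 216)) (.leaf (nat_lit 270))) (.node (nat_lit 3844) (.leaf (nat_lit 162)) (.leaf (nat_lit 216)))) (.node (nat_lit 3872) (.node (nat_lit 3858) (.leaf (nat_lit 270)) (.leaf (nat_lit 54))) (.node (nat_lit 3874) (.leaf (nat_lit 1)) (.leaf (nat_lit 54))))) (.node (nat_lit 3922) (.node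 (nat_lit 3896) (.node (nat_lit 3894) (.leaf (nat_lit 162)) (.leaf (nat_lit 216))) (.node (nat_lit 3910) (.leaf (nat_lit 162)) (.leaf (nat_lit 54)))) (.node (nat_lit 3953) (.node (nat_lit 3926) (.leaf (nat_lit 216)) (.leaf (nat_lit 54))) (.node (nat_lit 3969) (.leaf (nat_lit 270)) (.node (nat_lit 3991) (.leaf (nat_lit 162)) (.leaf (nat_lit 216))))))) (.node (nat_lit 4144) (.node (nat_lit 4097) (.node (nat_lit 4022) (.node (nat_lit 4005) (.leaf (nat_lit 270)) (.leaf (nat_lit 54))) (.node (nat_lit 4081) (.leaf (nat_lit 216)) (.leaf (nat_lit 162)))) (.node (nat_lit 4119) (.node (nat_lit 4103) (.leaf (nat_lit 54)) (.leaf (nat_lit 216))) (.node (nat_lit 4128) (.leaf (nat_lit 270)) (.leaf (nat_lit 54))))) (.node (nat_lit 4194) (.node (nat_lit 4176) (.node (nat_lit 4166) (.leaf (nat_lit 162)) (.leaf (nat_lit 54))) (.node (nat_lit 4178) (.leaf (nat_lit 216)) (.leaf (nat_lit 270)))) (.node (nat_lit 4216) (.node (nat_lit 4200) (.leaf (nat_lit 27)) (.leaf (nat_lit 162))) (.node (nat_lit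 4225) (.leaf (nat_lit 216)) (.node (nat_lit 4228) (.leaf (nat_lit 54)) (.leaf (nat_lit 162)))))))) (.node (nat_lit 4488) (.node (nat_lit 4401) (.node (nat_lit 4291) (.node (nat_lit 4263) (.node (nat_lit 4247) (.leaf (nat_lit 54)) (.leaf (nat_lit 225))) (.node (nat_lit 4275) (.leaf (nat_lit 162)) (.leaf (nat_lit 54)))) (.node (nat_lit 4325) (.node (nat_lit 4322) (.leaf (nat_lit 162)) (.leaf (nat_lit 54))) (.node (nat_lit 4372) (.leaf (nat_lit 270)) (.leaf (nat_lit 54))))) (.node (nat_lit 4464) (.node (nat_lit 4448) (.node (nat_lit 4417) (.leaf (nat_lit 270)) (.leaf (nat_lit 162))) (.node (nat_lit 4450) (.leaf (nat_lit 1)) (.leaf (nat_lit 54)))) (.node (nat_lit 4469) (.node (nat_lit 4466) (.leaf (nat_lit 27)) (.leaf (nat_lit 162))) (.node (nat_lit 4470) (.leaf (nat_lit 54)) (.node (nat_lit 4486) (.leaf (nat_lit 216)) (.leaf (nat_lit 270))))))) (.node (nat_lit 4664) (.node (nat_lit 4592) (.node (nat_lit 4564) (.node (nat_lit 4517) (.leaf (nat_lit 54)) (.leaf (nat_lit 216)))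 (.node (nat_lit 4580) (.leaf (nat_lit 162)) (.leaf (nat_lit 9)))) (.node (nat_lit 4597) (.node (nat_lit 4595) (.leaf (nat_lit 162)) (.leaf (nat_lit 117))) (.node (nat_lit 4613) (.leaf (nat_lit 54)) (.leaf (nat_lit 162))))) (.node (nat_lit 4720) (.node (nat_lit 4695) (.node (nat_lit 4673) (.leaf (nat_lit 171)) (.leaf (nat_lit 216))) (.node (nat_lit 4711) (.leaf (nat_lit 270)) (.leaf (nat_lit 162)))) (.node (nat_lit 4758) (.node (nat_lit 4739) (.leaf (nat_lit 54)) (.leaf (nat_lit 162))) (.node (nat_lit 4787) (.leaf (nat_lit 54)) (.node (nat_lit 4789) (.leaf (nat_lit 225)) (.leaf (nat_lit 9)))))))))))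
noncomputable def PN_soc_F : Fm := (.all PN_L (.or (.qf (.eq (.v (nat_lit 0)) .one)) (.exF PN_L (fun cs => PN_soc_t1.find (Nat.mod (nth (nat_lit 0) cs (nat_lit 0)) (nat_lit 4816))) (.exF PN_L (fun cs => PN_soc_t0.find (Nat.mod (Nat.add (nth (nat_lit 0) cs (nat_lit 0)) (Nat.mul (nat_lit 7919) (nth (nat_lit 0) cs (nat_lit 1)))) (nat_lit 8818))) (.qf (.or (.eq (.mul (.mul (.v (nat_lit 0)) (.v (nat_lit 2))) (.inv (.v (nat_lit 0)))) (.mul (.mul (.v (nat_lit 5)) (.v (nat_lit 7))) (.v (nat_lit 9)))) (.or (.eq (.mul (.mul (.v (nat_lit 0)) (.v (nat_lit 2))) (.inv (.v (nat_lit 0)))) (.inv (.mul (.mul (.v (nat_lit 5)) (.v (nat_lit 7))) (.v (nat_lit 9))))) (.or (.eq (.mul (.mul (.v (nat_lit 0)) (.mul (.mul (.mul (.v (nat_lit 2)) (.v (nat_lit 1))) (.inv (.v (nat_lit 2)))) (.inv (.v (nat_lit 1))))) (.inv (.v (nat_lit 0)))) (.mul (.mul (.v (nat_lit 5)) (.v (nat_lit 7))) (.v (nat_lit 9)))) (.or (.eq (.mul (.mul (.v (nat_lit 0)) (.mul (.mul (.mul (.v (nat_lit 2)) (.v (nat_lit 1))) (.inv (.v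 (nat_lit 2)))) (.inv (.v (nat_lit 1))))) (.inv (.v (nat_lit 0)))) (.inv (.mul (.mul (.v (nat_lit 5)) (.v (nat_lit 7))) (.v (nat_lit 9))))) (.or (.eq (.mul (.mul (.mul (.mul (.mul (.mul (.v (nat_lit 2)) (.v (nat_lit 1))) (.inv (.v (nat_lit 2)))) (.inv (.v (nat_lit 1)))) (.v (nat_lit 0))) (.inv (.mul (.mul (.mul (.v (nat_lit 2)) (.v (nat_lit 1))) (.inv (.v (nat_lit 2)))) (.inv (.v (nat_lit 1)))))) (.inv (.v (nat_lit 0)))) (.mul (.mul (.v (nat_lit 5)) (.v (nat_lit 7))) (.v (nat_lit 9)))) (.eq (.mul (.mul (.mul (.mul (.mul (.mul (.v (nat_lit 2)) (.v (nat_lit 1))) (.inv (.v (nat_lit 2)))) (.inv (.v (nat_lit 1)))) (.v (nat_lit 0))) (.inv (.mul (.mul (.mul (.v (nat_lit 2)) (.v (nat_lit 1))) (.inv (.v (nat_lit 2)))) (.inv (.v (nat_lit 1)))))) (.inv (.v (nat_lit 0)))) (.inv (.mul (.mul (.v (nat_lit 5)) (.v (nat_lit 7))) (.v (nat_lit 9)))))))))))))))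
theorem PN_soc_chk : Fm.chk PN_o PN_soc_F PN_cs = true := by decide +kernel
theorem PN_soc {G : Type*} [Group G] {R : ℕ → G → Prop} {t n a a_i b b_i e e_i x x_i : G} {H : Subgroup G}
    (M : Mdl PN_o PN_cs PN_L R [t, n, a, a_i, b, b_i, e, e_i, x, x_i] H) :
    ∀ y_ ∈ H, y_ = 1 ∨ (∃ q_ ∈ H, ∃ k_ ∈ H, k_ * y_ * k_⁻¹ = a * b * e ∨ k_ * y_ * k_⁻¹ = (a * b * e)⁻¹ ∨ k_ * ⁅y_, q_⁆ * k_⁻¹ = a * b * e ∨ k_ * ⁅y_, q_⁆ * k_⁻¹ = (a * b * e)⁻¹ ∨ ⁅⁅y_, q_⁆, k_⁆ = a * b * e ∨ ⁅⁅y_, q_⁆, k_⁆ = (a * b * e)⁻¹) :=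
  have h : ∀ y_, InL PN_o R PN_L y_ → y_ = 1 ∨ (Good PN_o R PN_L → prods PN_o PN_L PN_o.one ≠ [] → ∃ q_, InL PN_o R PN_L q_ ∧ (Good PN_o R PN_L → prods PN_o PN_L PN_o.one ≠ [] → ∃ k_, InL PN_o R PN_L k_ ∧ (k_ * y_ * k_⁻¹ = a * b * e ∨ k_ * y_ * k_⁻¹ = (a * b * e)⁻¹ ∨ k_ * ⁅y_, q_⁆ * k_⁻¹ = a * b * e ∨ k_ * ⁅y_, q_⁆ * k_⁻¹ = (a * b * e)⁻¹ ∨ ⁅⁅y_, q_⁆, k_⁆ = a * b * e ∨ ⁅⁅y_, q_⁆, k_⁆ = (a * b * e)⁻¹))) :=
    Fm.sound M.μ PN_soc_F PN_soc_chk M.reps
  (fun y_ h0 => (Or.imp (fun h1 => h1) (fun h1 => (Exists.imp (fun q_ h2 => ⟨M.H.iff.1 h2.1, (Exists.imp (fun k_ h3 => ⟨M.H.iff.1 h3.1, h3.2⟩) (h2.2 M.H.good M.H.ne))⟩) (h1 M.H.good M.H.ne))) (h y_ (M.H.iff.2 h0))))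
theorem PN_mdl {G : Type*} [Group G] {t n a b e x : G}
    (h : B1 a b e x t)
    (l : Nn a b e x t n)
    (n1 : a * b * e ≠ 1) (n2 : (a * b * e)⁻¹ ≠ 1) :
    ∃ R, Mdl PN_o PN_cs PN_L R [t, n, a, a⁻¹, b, b⁻¹, e, e⁻¹, x, x⁻¹] (sp [t, n, a, a⁻¹, b, b⁻¹, e, e⁻¹, x, x⁻¹]) ∧ #(sp [t, n, a, a⁻¹, b, b⁻¹, e, e⁻¹, x, x⁻¹]) = 324 :=
  mdl_of PN_P rfl (PN_r h l) (.mul (.mul (.v (nat_lit 2)) (.v (nat_lit 4))) (.v (nat_lit 6))) (.inv (.mul (.mul (.v (nat_lit 2)) (.v (nat_lit 4))) (.v (nat_lit 6)))) n1 n2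
    fun _ ms _ M hl => match ms, M, (hl : ms.length = 10) with
      | [_, _, _, _, _, _, _, _, _, _], M, _ => PN_soc M
noncomputable def PM_cs : List ℕ := [(nat_lit 0x876210543), (nat_lit 0x786453120), (nat_lit 0x876543021), (nat_lit 0x876543102), (nat_lit 0x876354210), (nat_lit 0x876435210), (nat_lit 0x687543210), (nat_lit 0x768543210), (nat_lit 0x210876543), (nat_lit 0x543210876), (nat_lit 0x687354021), (nat_lit 0x876435021)]
theorem PM_ext {G : Type*} [Group G] {R : ℕ → G → Prop} {t n a b e x : G} {H : Subgroup G}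
    (M : Mdl PN_o PN_cs PN_L R [t, n, a, a⁻¹, b, b⁻¹, e, e⁻¹, x, x⁻¹] H) :
    Mdl PN_o PM_cs PN_L R [t, n, a, a⁻¹, b, b⁻¹, e, e⁻¹, x, x⁻¹, a * b * e, a * b⁻¹] H :=
  ⟨M.μ, M.reps.tms M.μ.1 [(.v (nat_lit 0)), (.v (nat_lit 1)), (.v (nat_lit 2)), (.v (nat_lit 3)), (.v (nat_lit 4)), (.v (nat_lit 5)), (.v (nat_lit 6)), (.v (nat_lit 7)), (.v (nat_lit 8)), (.v (nat_lit 9)), (.mul (.mul (.v (nat_lit 2)) (.v (nat_lit 4))) (.v (nat_lit 6))), (.mul (.v (nat_lit 2)) (.inv (.v (nat_lit 4))))] (cs' := PM_cs) (by decide +kernel),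
    tms_mem M.le [(.v (nat_lit 0)), (.v (nat_lit 1)), (.v (nat_lit 2)), (.v (nat_lit 3)), (.v (nat_lit 4)), (.v (nat_lit 5)), (.v (nat_lit 6)), (.v (nat_lit 7)), (.v (nat_lit 8)), (.v (nat_lit 9)), (.mul (.mul (.v (nat_lit 2)) (.v (nat_lit 4))) (.v (nat_lit 6))), (.mul (.v (nat_lit 2)) (.inv (.v (nat_lit 4))))], M.H⟩
noncomputable def PF_Rl : List (List ℕ) := [[0,0],
  [1,1],
  [2,2],
  [3,4],
  [4,3],
  [5,6],
  [6,5],
  [7,8],
  [8,7],
  [9,10],
  [10,9],
  [3,3,3],
  [5,5,5],
  [7,7,7],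
  [6,4,5,3],
  [8,4,7,3],
  [8,6,7,5],
  [9,9,9],
  [4,10,7,9],
  [6,10,3,9],
  [8,10,5,9],
  [9,0,9,0],
  [8,0,7,0],
  [6,0,3,0],
  [1,0,1,0],
  [8,1,7,1],
  [3,1,3,1],
  [5,1,5,1],
  [9,1,9,1,9,1],
  [3,2,3,2],
  [5,2,5,2],
  [7,2,7,2],
  [0,2,0,2],
  [10,2,9,2],
  [1,2,1,2]]
theorem PF_r {G : Type*} [Group G] {t c n a b e x : G}
    (h : B1 a b e x t)
    (k : C1 a b e x t c)
    (l : Nn a b e x t n)
    (nc : n * c = c * n) :
    Rels (nthG [t, c, n, a, a⁻¹, b, b⁻¹, e, e⁻¹, x, x⁻¹]) PF_Rl :=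
  rels_of_eqs ((InvI.cons h.2.2.2.2.2.2.2.2.2.2.1 (InvI.cons k.1 (InvI.cons l.1 InvI.nil))) : InvI [t, c, n, a, b, e, x] [(nat_lit 0), (nat_lit 1), (nat_lit 2)])
    (AllEq.append (show AllEq [t, c, n, a, b, e, x] [((.pw (.v (nat_lit 3)) (nat_lit 3)), .one), ((.pw (.v (nat_lit 4)) (nat_lit 3)), .one), ((.pw (.v (nat_lit 5)) (nat_lit 3)), .one), ((.mul (.v (nat_lit 3)) (.v (nat_lit 4))), (.mul (.v (nat_lit 4)) (.v (nat_lit 3)))), ((.mul (.v (nat_lit 3)) (.v (nat_lit 5))), (.mul (.v (nat_lit 5)) (.v (nat_lit 3)))), ((.mul (.v (nat_lit 4)) (.v (nat_lit 5))), (.mul (.v (nat_lit 5)) (.v (nat_lit 4)))), ((.pw (.v (nat_lit 6)) (nat_lit 3)), .one), ((.mul (.mul (.v (nat_lit 6)) (.v (nat_lit 5))) (.inv (.v (nat_lit 6)))), (.v (nat_lit 3))), ((.mul (.mul (.v (nat_lit 6)) (.v (nat_lit 3))) (.inv (.v (nat_lit 6)))), (.v (nat_lit 4))), ((.mul (.mul (.v (nat_lit 6)) (.v (nat_lit 4))) (.inv (.v (nat_lit 6)))), (.v (nat_lit 5))), ((.mul (.v (nat_lit 0)) (.v (nat_lit 0))), .one), ((.mul (.mul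 (.v (nat_lit 0)) (.v (nat_lit 6))) (.inv (.v (nat_lit 0)))), (.inv (.v (nat_lit 6)))), ((.mul (.v (nat_lit 0)) (.v (nat_lit 5))), (.mul (.v (nat_lit 5)) (.v (nat_lit 0)))), ((.mul (.mul (.v (nat_lit 0)) (.v (nat_lit 3))) (.inv (.v (nat_lit 0)))), (.v (nat_lit 4)))] from h)
    (AllEq.append (show AllEq [t, c, n, a, b, e, x] [((.mul (.v (nat_lit 1)) (.v (nat_lit 1))), .one), ((.mul (.v (nat_lit 0)) (.v (nat_lit 1))), (.mul (.v (nat_lit 1)) (.v (nat_lit 0)))), ((.mul (.v (nat_lit 1)) (.v (nat_lit 5))), (.mul (.v (nat_lit 5)) (.v (nat_lit 1)))), ((.mul (.mul (.v (nat_lit 1)) (.v (nat_lit 3))) (.inv (.v (nat_lit 1)))), (.inv (.v (nat_lit 3)))), ((.mul (.mul (.v (nat_lit 1)) (.v (nat_lit 4))) (.inv (.v (nat_lit 1)))), (.inv (.v (nat_lit 4)))), ((.pw (.mul (.v (nat_lit 1)) (.v (nat_lit 6))) (nat_lit 3)), .one)] from k)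
    (AllEq.append (show AllEq [t, c, n, a, b, e, x] [((.mul (.v (nat_lit 2)) (.v (nat_lit 2))), .one), ((.mul (.mul (.v (nat_lit 2)) (.v (nat_lit 3))) (.inv (.v (nat_lit 2)))), (.inv (.v (nat_lit 3)))), ((.mul (.mul (.v (nat_lit 2)) (.v (nat_lit 4))) (.inv (.v (nat_lit 2)))), (.inv (.v (nat_lit 4)))), ((.mul (.mul (.v (nat_lit 2)) (.v (nat_lit 5))) (.inv (.v (nat_lit 2)))), (.inv (.v (nat_lit 5)))), ((.mul (.v (nat_lit 2)) (.v (nat_lit 0))), (.mul (.v (nat_lit 0)) (.v (nat_lit 2)))), ((.mul (.v (nat_lit 2)) (.v (nat_lit 6))), (.mul (.v (nat_lit 6)) (.v (nat_lit 2))))] from l)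
    (show AllEq [t, c, n, a, b, e, x] [((.mul (.v (nat_lit 2)) (.v (nat_lit 1))), (.mul (.v (nat_lit 1)) (.v (nat_lit 2))))] from ⟨nc, trivial⟩))))
    [(.v (nat_lit 0)), (.v (nat_lit 1)), (.v (nat_lit 2)), (.v (nat_lit 3)), (.inv (.v (nat_lit 3))), (.v (nat_lit 4)), (.inv (.v (nat_lit 4))), (.v (nat_lit 5)), (.inv (.v (nat_lit 5))), (.v (nat_lit 6)), (.inv (.v (nat_lit 6)))] (by decide +kernel)
noncomputable abbrev PF_o : Ops := pops (nat_lit 9) (nat_lit 4) (nat_lit 15) (nat_lit 0x876543210)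
noncomputable def PF_cs : List ℕ := [(nat_lit 0x876210543), (nat_lit 0x876453120), (nat_lit 0x786453120), (nat_lit 0x876543021), (nat_lit 0x876543102), (nat_lit 0x876354210), (nat_lit 0x876435210), (nat_lit 0x687543210), (nat_lit 0x768543210), (nat_lit 0x210876543), (nat_lit 0x543210876)]
noncomputable def PF_L : List (List ℕ) := [[(nat_lit 0x876543210), (nat_lit 0x876210543), (nat_lit 0x876543021), (nat_lit 0x876543102), (nat_lit 0x543210876), (nat_lit 0x876210354), (nat_lit 0x876210435), (nat_lit 0x543210687), (nat_lit 0x543210768)],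
  [(nat_lit 0x876543210), (nat_lit 0x876354210), (nat_lit 0x876435210), (nat_lit 0x543876210), (nat_lit 0x543687210), (nat_lit 0x543768210)],
  [(nat_lit 0x876543210), (nat_lit 0x687543210), (nat_lit 0x768543210)],
  [(nat_lit 0x876543210), (nat_lit 0x876453120)],
  [(nat_lit 0x876543210), (nat_lit 0x786453210)],
  [(nat_lit 0x876543210), (nat_lit 0x786543210)]]
noncomputable def PF_WW : List (List (List ℕ)) := [[[],
  [(nat_lit 0)],
  [(nat_lit 3)],
  [(nat_lit 4)],
  [(nat_lit 10)],
  [(nat_lit 0), (nat_lit 5)],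
  [(nat_lit 0), (nat_lit 6)],
  [(nat_lit 3), (nat_lit 10)],
  [(nat_lit 4), (nat_lit 10)]],
  [[],
  [(nat_lit 5)],
  [(nat_lit 6)],
  [(nat_lit 0), (nat_lit 10)],
  [(nat_lit 0), (nat_lit 3), (nat_lit 10)],
  [(nat_lit 0), (nat_lit 4), (nat_lit 10)]],
  [[],
  [(nat_lit 7)],
  [(nat_lit 8)]],
  [[],
  [(nat_lit 1)]],
  [[],
  [(nat_lit 10), (nat_lit 1), (nat_lit 9)]],
  [[],
  [(nat_lit 1), (nat_lit 2)]]]
noncomputable def PF_b9_S0 : List ℕ := [nat_lit 0x17000014006012, nat_lit 0x1f00001c006014, nat_lit 0x27000024006016, nat_lit 0x2b00000700000c004022, nat_lit 0x2f000007000010008030, nat_lit 0x3300000700001c00c020, nat_lit 0x37000034006012, nat_lit 0x3700000700002000a020, nat_lit 0x3b000007000014002020, nat_lit 0x3f00003c006014, nat_lit 0x3f000007000018004020, nat_lit 0x4300000700002400c01e, nat_lit 0x47000044006016, nat_lit 0x4700000700002800401e, nat_lit 0x4b00000b000010008032, nat_lit 0x4f00000b000018004026, nat_lit 0x53000050006012, nat_lit 0x5300000b00001400a026, nat_lit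 0x5700000b000020004028, nat_lit 0x5b000058006014, nat_lit 0x5b00000b00001c00a028, nat_lit 0x5f00000b00002400c024, nat_lit 0x63000060006016, nat_lit 0x6300000b000028004024, nat_lit 0x6700000f00001800402a, nat_lit 0x6b000068006012, nat_lit 0x6b00000f00001400a02a, nat_lit 0x6f00000f00002000402c, nat_lit 0x73000070006014, nat_lit 0x7300000f00001c00a02c, nat_lit 0x7700000f00002800402e, nat_lit 0x7b000078006016, nat_lit 0x7b00000f00002400a02e, nat_lit 0x7f00001300001c002018, nat_lit 0x83000080006014, nat_lit 0x83000013000020004018, nat_lit 0x8700001300002400201a, nat_lit 0x8b000088006016, nat_lit 0x8b00001300002800401a, nat_lit 0x8f00001700001c00c018, nat_lit 0x8f000002000080002018, nat_lit 0x93000090006014, nat_lit 0x93000002000084004018, nat_lit 0x9300001700002000a018, nat_lit 0x9700001700002400c01a, nat_lit 0x9700000200008800201a, nat_lit 0x9b000098006016, nat_lit 0x9b00000200008c00401a, nat_lit 0x9b00001700002800a01a, nat_lit 0x9f00001b00002400201c, nat_lit 0xa30000a0006016,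 nat_lit 0xa300001b00002800401c, nat_lit 0xa700001f00002400c01c, nat_lit 0xa70000060000a000201c, nat_lit 0xab0000a8006016, nat_lit 0xab0000060000a400401c, nat_lit 0xab00001f00002800a01c, nat_lit 0xaf00000e00004c008030, nat_lit 0xaf00002b000030008032, nat_lit 0xb300000e00005800c020, nat_lit 0xb300002b000038004026, nat_lit 0xb70000b4006012, nat_lit 0xb700000e00005c00a020, nat_lit 0xb700002b00003400a026]
noncomputable def PF_b9_S1 : List ℕ := [nat_lit 0xbb00000e000050002020, nat_lit 0xbb00002b000040004028, nat_lit 0xbf0000bc006014, nat_lit 0xbf00000e000054004020, nat_lit 0xbf00002b00003c00a028, nat_lit 0xc300000e00006000c01e, nat_lit 0xc300002b00004400c024, nat_lit 0xc70000c4006016, nat_lit 0xc700000e00006400401e, nat_lit 0xc700002b000048004024, nat_lit 0xcb00001200007000c020, nat_lit 0xcb00002f00003800402a, nat_lit 0xcf0000cc006012, nat_lit 0xcf00001200007400a020, nat_lit 0xcf00002f00003400a02a, nat_lit 0xd3000012000068002020, nat_lit 0xd300002f00004000402c, nat_lit 0xd70000d4006014,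 nat_lit 0xd700001200006c004020, nat_lit 0xd700002f00003c00a02c, nat_lit 0xdb00001200007800c01e, nat_lit 0xdb00002f00004800402e, nat_lit 0xdf0000dc006016, nat_lit 0xdf00001200007c00401e, nat_lit 0xdf00002f00004400a02e, nat_lit 0xe300003300003c002018, nat_lit 0xe3000016000085002020, nat_lit 0xe70000e4006014, nat_lit 0xe7000033000040004018, nat_lit 0xe700001600009d004020, nat_lit 0xeb00003300004400201a, nat_lit 0xeb0000160000a000c01e, nat_lit 0xef0000ec006016, nat_lit 0xef00003300004800401a, nat_lit 0xef0000160000a400401e, nat_lit 0xf300003700003c00c018, nat_lit 0xf300001a0000e4002018, nat_lit 0xf300001e00008d002020, nat_lit 0xf70000f4006014, nat_lit 0xf700001a0000e8004018, nat_lit 0xf700003700004000a018, nat_lit 0xf700001e0000ad004020, nat_lit 0xfb00003700004400c01a, nat_lit 0xfb00001a0000ec00201a, nat_lit 0xfb00001e0000a800c01e, nat_lit 0xff0000fc006016, nat_lit 0xff00001a0000f000401a, nat_lit 0xff00003700004800a01a, nat_lit 0xff00001e0000ac00401e, nat_lit 0x10300003b00004400201c,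 nat_lit 0x10300002200008800c01e, nat_lit 0x107000104006016, nat_lit 0x10700003b00004800401c, nat_lit 0x10700002200008c00401e, nat_lit 0x10b00003f00004400c01c, nat_lit 0x10b00002600010400201c, nat_lit 0x10b00002a00009800c01e, nat_lit 0x10f00010c006016, nat_lit 0x10f00002600010800401c, nat_lit 0x10f00003f00004800a01c, nat_lit 0x10f00002a00009c00401e, nat_lit 0x11300003a00006c004026, nat_lit 0x11300004b00005400402a, nat_lit 0x117000114006012]
noncomputable def PF_b9_S2 : List ℕ := [nat_lit 0x11700003a00006800a026, nat_lit 0x11700004b00005000a02a, nat_lit 0x11b00003a000074004028, nat_lit 0x11b00004b00005c00402c, nat_lit 0x11f00011c006014, nat_lit 0x11f00003a00007000a028, nat_lit 0x11f00004b00005800a02c, nat_lit 0x12300003a00007800c024, nat_lit 0x12300004b00006400402e, nat_lit 0x127000124006016, nat_lit 0x12700003a00007c004024, nat_lit 0x12700004b00006000a02e, nat_lit 0x12b00004f000058002018, nat_lit 0x12b00003e000094004028, nat_lit 0x12f00012c006014, nat_lit 0x12f00004f00005c004018,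 nat_lit 0x12f00003e00009000a028, nat_lit 0x13300004f00006000201a, nat_lit 0x13300003e00009800c024, nat_lit 0x137000134006016, nat_lit 0x13700004f00006400401a, nat_lit 0x13700003e00009c004024, nat_lit 0x13b00005300005800c018, nat_lit 0x13b00004200012c002018, nat_lit 0x13b000046000084004028, nat_lit 0x13f00013c006014, nat_lit 0x13f000042000130004018, nat_lit 0x13f00005300005c00a018, nat_lit 0x13f00004600008000a028, nat_lit 0x14300005300006000c01a, nat_lit 0x14300004200013400201a, nat_lit 0x14300004600008800c024, nat_lit 0x147000144006016, nat_lit 0x14700004200013800401a, nat_lit 0x14700005300006400a01a, nat_lit 0x14700004600008c004024, nat_lit 0x14b00005700006000201c, nat_lit 0x14b00004a0000a800c024, nat_lit 0x14f00014c006016, nat_lit 0x14f00005700006400401c, nat_lit 0x14f00004a0000ac004024, nat_lit 0x15300005b00006000c01c, nat_lit 0x15300004e00014c00201c, nat_lit 0x1530000520000a000c024, nat_lit 0x157000154006016, nat_lit 0x15700004e00015000401c, nat_lit 0x15700005b00006400a01c,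 nat_lit 0x1570000520000a4004024, nat_lit 0x15b000067000070002018, nat_lit 0x15b00006200009400402c, nat_lit 0x15f00015c006014, nat_lit 0x15f000067000074004018, nat_lit 0x15f00006200009000a02c, nat_lit 0x16300006700007800201a, nat_lit 0x16300006200009c00402e, nat_lit 0x167000164006016, nat_lit 0x16700006700007c00401a, nat_lit 0x16700006200009800a02e, nat_lit 0x16b00006b00007000c018, nat_lit 0x16b00006600015c002018, nat_lit 0x16b00006a00008400402c, nat_lit 0x16f00016c006014, nat_lit 0x16f000066000160004018, nat_lit 0x16f00006b00007400a018]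
noncomputable def PF_b9_S3 : List ℕ := [nat_lit 0x16f00006a00008000a02c, nat_lit 0x17300006b00007800c01a, nat_lit 0x17300006600016400201a, nat_lit 0x17300006a00008c00402e, nat_lit 0x177000174006016, nat_lit 0x17700006600016800401a, nat_lit 0x17700006b00007c00a01a, nat_lit 0x17700006a00008800a02e, nat_lit 0x17b00006f00007800201c, nat_lit 0x17b00006e0000ac00402e, nat_lit 0x17f00017c006016, nat_lit 0x17f00006f00007c00401c, nat_lit 0x17f00006e0000a800a02e, nat_lit 0x18300007300007800c01c, nat_lit 0x18300007200017c00201c, nat_lit 0x1830000760000a400402e, nat_lit 0x187000184006016, nat_lit 0x18700007200018000401c, nat_lit 0x18700007300007c00a01c, nat_lit 0x1870000760000a000a02e, nat_lit 0x18b0000860000a000201a, nat_lit 0x18b00007f00008800201c, nat_lit 0x18f00018c006016, nat_lit 0x18f0000860000a400401a, nat_lit 0x18f00007f00008c00401c, nat_lit 0x19300008e0000a800201a, nat_lit 0x19300008300008800c01c, nat_lit 0x19300008a00018c00201c, nat_lit 0x197000194006016, nat_lit 0x19700008e0000ac00401a,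 nat_lit 0x19700008a00019000401c, nat_lit 0x19700008300008c00a01c, nat_lit 0x19b00009e0000a000c01a, nat_lit 0x19b0000a200018c00201a, nat_lit 0x19b00008f00009800201c, nat_lit 0x19f00019c006016, nat_lit 0x19f0000a200019000401a, nat_lit 0x19f00009e0000a400a01a, nat_lit 0x19f00008f00009c00401c, nat_lit 0x1a30000ae0000a800c01a, nat_lit 0x1a30000aa00019400201a, nat_lit 0x1a300009300009800c01c, nat_lit 0x1a30000a600019c00201c, nat_lit 0x1a70001a4006016, nat_lit 0x1a70000aa00019800401a, nat_lit 0x1a70000ae0000ac00a01a, nat_lit 0x1a70000a60001a000401c, nat_lit 0x1a700009300009c00a01c, nat_lit 0x1ab0000e600011c00c020, nat_lit 0x1ab0000ea0000d0004026, nat_lit 0x1ab0000af0000b800402a, nat_lit 0x1af0001ac006012, nat_lit 0x1af0000e600012000a020, nat_lit 0x1af0000ea0000cc00a026, nat_lit 0x1af0000af0000b400a02a, nat_lit 0x1b30000e6000114002020, nat_lit 0x1b30000ea0000d8004028, nat_lit 0x1b30000af0000c000402c, nat_lit 0x1b70001b4006014, nat_lit 0x1b70000e6000118004020, nat_lit 0x1b70000ea0000d400a028,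 nat_lit 0x1b70000af0000bc00a02c, nat_lit 0x1bb0000e600012400c01e, nat_lit 0x1bb0000ea0000dc00c024]
noncomputable def PF_b9_S4 : List ℕ := [nat_lit 0x1bb0000af0000c800402e, nat_lit 0x1bf0001bc006016, nat_lit 0x1bf0000e600012800401e, nat_lit 0x1bf0000ea0000e0004024, nat_lit 0x1bf0000af0000c400a02e, nat_lit 0x1c30000b30000bc002018, nat_lit 0x1c30000ee000231002020, nat_lit 0x1c30000f20000f8004028, nat_lit 0x1c70001c4006014, nat_lit 0x1c70000b30000c0004018, nat_lit 0x1c70000ee000259004020, nat_lit 0x1c70000f20000f400a028, nat_lit 0x1cb0000b30000c400201a, nat_lit 0x1cb0000ee00014c00c01e, nat_lit 0x1cb0000f20000fc00c024, nat_lit 0x1cf0001cc006016, nat_lit 0x1cf0000b30000c800401a, nat_lit 0x1cf0000ee00015000401e, nat_lit 0x1cf0000f2000100004024, nat_lit 0x1d30000b70000bc00c018, nat_lit 0x1d30000f60001c4002018, nat_lit 0x1d30000fa00023d002020, nat_lit 0x1d30000fe0000e8004028, nat_lit 0x1d70001d4006014, nat_lit 0x1d70000f60001c8004018, nat_lit 0x1d70000b70000c000a018, nat_lit 0x1d70000fa00026d004020,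 nat_lit 0x1d70000fe0000e400a028, nat_lit 0x1db0000b70000c400c01a, nat_lit 0x1db0000f60001cc00201a, nat_lit 0x1db0000fa00015400c01e, nat_lit 0x1db0000fe0000ec00c024, nat_lit 0x1df0001dc006016, nat_lit 0x1df0000f60001d000401a, nat_lit 0x1df0000b70000c800a01a, nat_lit 0x1df0000fa00015800401e, nat_lit 0x1df0000fe0000f0004024, nat_lit 0x1e30000bb0000c400201c, nat_lit 0x1e300010200013400c01e, nat_lit 0x1e300010600010c00c024, nat_lit 0x1e70001e4006016, nat_lit 0x1e70000bb0000c800401c, nat_lit 0x1e700010200013800401e, nat_lit 0x1e7000106000110004024, nat_lit 0x1eb0000bf0000c400c01c, nat_lit 0x1eb00010a0001e400201c, nat_lit 0x1eb00010e00014400c01e, nat_lit 0x1eb00011200010400c024, nat_lit 0x1ef0001ec006016, nat_lit 0x1ef00010a0001e800401c, nat_lit 0x1ef0000bf0000c800a01c, nat_lit 0x1ef00010e00014800401e, nat_lit 0x1ef000112000108004024, nat_lit 0x1f30000cb0000d4002018, nat_lit 0x1f300012a0002c1002020, nat_lit 0x1f300012e0000f800402c, nat_lit 0x1f70001f4006014, nat_lit 0x1f70000cb0000d8004018,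 nat_lit 0x1f700012a0002e9004020, nat_lit 0x1f700012e0000f400a02c, nat_lit 0x1fb0000cb0000dc00201a, nat_lit 0x1fb00012a00017c00c01e, nat_lit 0x1fb00012e00010000402e, nat_lit 0x1ff0001fc006016]
noncomputable def PF_b9_S5 : List ℕ := [nat_lit 0x1ff0000cb0000e000401a, nat_lit 0x1ff00012a00018000401e, nat_lit 0x1ff00012e0000fc00a02e, nat_lit 0x2030000cf0000d400c018, nat_lit 0x2030001320001f4002018, nat_lit 0x2030001360002cd002020, nat_lit 0x20300013a0000e800402c, nat_lit 0x207000204006014, nat_lit 0x2070001320001f8004018, nat_lit 0x2070000cf0000d800a018, nat_lit 0x2070001360002fd004020, nat_lit 0x20700013a0000e400a02c, nat_lit 0x20b0000cf0000dc00c01a, nat_lit 0x20b0001320001fc00201a, nat_lit 0x20b00013600018400c01e, nat_lit 0x20b00013a0000f000402e, nat_lit 0x20f00020c006016, nat_lit 0x20f00013200020000401a, nat_lit 0x20f0000cf0000e000a01a, nat_lit 0x20f00013600018800401e, nat_lit 0x20f00013a0000ec00a02e, nat_lit 0x2130000d30000dc00201c, nat_lit 0x21300013e00016400c01e, nat_lit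 0x21300014200011000402e, nat_lit 0x217000214006016, nat_lit 0x2170000d30000e000401c, nat_lit 0x21700013e00016800401e, nat_lit 0x21700014200010c00a02e, nat_lit 0x21b0000d70000dc00c01c, nat_lit 0x21b00014600021400201c, nat_lit 0x21b00014a00017400c01e, nat_lit 0x21b00014e00010800402e, nat_lit 0x21f00021c006016, nat_lit 0x21f00014600021800401c, nat_lit 0x21f0000d70000e000a01c, nat_lit 0x21f00014a00017800401e, nat_lit 0x21f00014e00010400a02e, nat_lit 0x22300016600010400201a, nat_lit 0x2230000e30000ec00201c, nat_lit 0x22300016a00018c00c01e, nat_lit 0x227000224006016, nat_lit 0x22700016600010800401a, nat_lit 0x2270000e30000f000401c, nat_lit 0x22700016a00019000401e, nat_lit 0x22b00017200010c00201a, nat_lit 0x22b0000e70000ec00c01c, nat_lit 0x22b00016e00022400201c, nat_lit 0x22b00017600019c00c01e, nat_lit 0x22f00022c006016, nat_lit 0x22f00017200011000401a, nat_lit 0x22f00016e00022800401c, nat_lit 0x22f0000e70000f000a01c, nat_lit 0x22f0001760001a000401e, nat_lit 0x23300018e00010400c01a,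 nat_lit 0x23300019200022400201a, nat_lit 0x2330000f30000fc00201c, nat_lit 0x23300019600019400c01e, nat_lit 0x237000234006016, nat_lit 0x23700019200022800401a, nat_lit 0x23700018e00010800a01a, nat_lit 0x2370000f300010000401c, nat_lit 0x23700019600019800401e, nat_lit 0x23b0001a200010c00c01a, nat_lit 0x23b00019e00022c00201a]
noncomputable def PF_b9_S6 : List ℕ := [nat_lit 0x23b0000f70000fc00c01c, nat_lit 0x23b00019a00023400201c, nat_lit 0x23b0001a60001a400c01e, nat_lit 0x23f00023c006016, nat_lit 0x23f00019e00023000401a, nat_lit 0x23f0001a200011000a01a, nat_lit 0x23f00019a00023800401c, nat_lit 0x23f0000f700010000a01c, nat_lit 0x23f0001a60001a800401e, nat_lit 0x24300011300011c002018, nat_lit 0x2430001f6000170004028, nat_lit 0x2430001fa00014000402c, nat_lit 0x247000244006014, nat_lit 0x247000113000120004018, nat_lit 0x2470001f600016c00a028, nat_lit 0x2470001fa00013c00a02c, nat_lit 0x24b00011300012400201a, nat_lit 0x24b0001f600017400c024, nat_lit 0x24b0001fa00014800402e, nat_lit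 0x24f00024c006016, nat_lit 0x24f00011300012800401a, nat_lit 0x24f0001f6000178004024, nat_lit 0x24f0001fa00014400a02e, nat_lit 0x25300011700011c00c018, nat_lit 0x2530001fe000244002018, nat_lit 0x253000202000160004028, nat_lit 0x25300020600013000402c, nat_lit 0x257000254006014, nat_lit 0x2570001fe000248004018, nat_lit 0x25700011700012000a018, nat_lit 0x25700020200015c00a028, nat_lit 0x25700020600012c00a02c, nat_lit 0x25b00011700012400c01a, nat_lit 0x25b0001fe00024c00201a, nat_lit 0x25b00020200016400c024, nat_lit 0x25b00020600013800402e, nat_lit 0x25f00025c006016, nat_lit 0x25f0001fe00025000401a, nat_lit 0x25f00011700012800a01a, nat_lit 0x25f000202000168004024, nat_lit 0x25f00020600013400a02e, nat_lit 0x26300011b00012400201c, nat_lit 0x26300020a00018400c024, nat_lit 0x26300020e00015800402e, nat_lit 0x267000264006016, nat_lit 0x26700011b00012800401c, nat_lit 0x26700020a000188004024, nat_lit 0x26700020e00015400a02e, nat_lit 0x26b00011f00012400c01c, nat_lit 0x26b00021200026400201c,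 nat_lit 0x26b00021600017c00c024, nat_lit 0x26b00021a00015000402e, nat_lit 0x26f00026c006016, nat_lit 0x26f00021200026800401c, nat_lit 0x26f00011f00012800a01c, nat_lit 0x26f000216000180004024, nat_lit 0x26f00021a00014c00a02e, nat_lit 0x27300023200014c00201a, nat_lit 0x27300012b00013400201c, nat_lit 0x2730002360001a400c024, nat_lit 0x277000274006016, nat_lit 0x27700023200015000401a, nat_lit 0x27700012b00013800401c, nat_lit 0x2770002360001a8004024]
noncomputable def PF_b9_S7 : List ℕ := [nat_lit 0x27b00023e00015400201a, nat_lit 0x27b00012f00013400c01c, nat_lit 0x27b00023a00027400201c, nat_lit 0x27b00024200019c00c024, nat_lit 0x27f00027c006016, nat_lit 0x27f00023e00015800401a, nat_lit 0x27f00023a00027800401c, nat_lit 0x27f00012f00013800a01c, nat_lit 0x27f0002420001a0004024, nat_lit 0x28300025a00014c00c01a, nat_lit 0x28300025e00027400201a, nat_lit 0x28300013b00014400201c, nat_lit 0x28300026200019400c024, nat_lit 0x287000284006016, nat_lit 0x28700025e00027800401a, nat_lit 0x28700025a00015000a01a,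 nat_lit 0x28700013b00014800401c, nat_lit 0x287000262000198004024, nat_lit 0x28b00026e00015400c01a, nat_lit 0x28b00026a00027c00201a, nat_lit 0x28b00013f00014400c01c, nat_lit 0x28b00026600028400201c, nat_lit 0x28b00027200018c00c024, nat_lit 0x28f00028c006016, nat_lit 0x28f00026a00028000401a, nat_lit 0x28f00026e00015800a01a, nat_lit 0x28f00026600028800401c, nat_lit 0x28f00013f00014800a01c, nat_lit 0x28f000272000190004024, nat_lit 0x2930002c200017c00201a, nat_lit 0x29300015b00016400201c, nat_lit 0x2930002c60001a800402e, nat_lit 0x297000294006016, nat_lit 0x2970002c200018000401a, nat_lit 0x29700015b00016800401c, nat_lit 0x2970002c60001a400a02e, nat_lit 0x29b0002ce00018400201a, nat_lit 0x29b00015f00016400c01c, nat_lit 0x29b0002ca00029400201c, nat_lit 0x29b0002d20001a000402e, nat_lit 0x29f00029c006016, nat_lit 0x29f0002ce00018800401a, nat_lit 0x29f0002ca00029800401c, nat_lit 0x29f00015f00016800a01c, nat_lit 0x29f0002d200019c00a02e, nat_lit 0x2a30002ea00017c00c01a, nat_lit 0x2a30002ee00029400201a,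 nat_lit 0x2a300016b00017400201c, nat_lit 0x2a30002f200019800402e, nat_lit 0x2a70002a4006016, nat_lit 0x2a70002ee00029800401a, nat_lit 0x2a70002ea00018000a01a, nat_lit 0x2a700016b00017800401c, nat_lit 0x2a70002f200019400a02e, nat_lit 0x2ab0002fe00018400c01a, nat_lit 0x2ab0002fa00029c00201a, nat_lit 0x2ab00016f00017400c01c, nat_lit 0x2ab0002f60002a400201c, nat_lit 0x2ab00030200019000402e, nat_lit 0x2af0002ac006016, nat_lit 0x2af0002fa0002a000401a, nat_lit 0x2af0002fe00018800a01a, nat_lit 0x2af0002f60002a800401c, nat_lit 0x2af00016f00017800a01c]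
noncomputable def PF_b9_S8 : List ℕ := [nat_lit 0x2af00030200018c00a02e, nat_lit 0x2b30001ab0001b4002018, nat_lit 0x2b30003c2000625002020, nat_lit 0x2b30003c6000208004028, nat_lit 0x2b30003ca0001d800402c, nat_lit 0x2b70002b4006014, nat_lit 0x2b70001ab0001b8004018, nat_lit 0x2b70003c200065d004020, nat_lit 0x2b70003c600020400a028, nat_lit 0x2b70003ca0001d400a02c, nat_lit 0x2bb0001ab0001bc00201a, nat_lit 0x2bb0003c200026400c01e, nat_lit 0x2bb0003c600020c00c024, nat_lit 0x2bb0003ca0001e000402e, nat_lit 0x2bf0002bc006016, nat_lit 0x2bf0001ab0001c000401a, nat_lit 0x2bf0003c200026800401e, nat_lit 0x2bf0003c6000210004024, nat_lit 0x2bf0003ca0001dc00a02e, nat_lit 0x2c30001af0001b400c018, nat_lit 0x2c30003ce0002b4002018, nat_lit 0x2c30003d2000635002020, nat_lit 0x2c30003d60001f8004028, nat_lit 0x2c30003da0001c800402c, nat_lit 0x2c70002c4006014, nat_lit 0x2c70003ce0002b8004018, nat_lit 0x2c70001af0001b800a018, nat_lit 0x2c70003d2000675004020, nat_lit 0x2c70003d60001f400a028, nat_lit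 0x2c70003da0001c400a02c, nat_lit 0x2cb0001af0001bc00c01a, nat_lit 0x2cb0003ce0002bc00201a, nat_lit 0x2cb0003d200026c00c01e, nat_lit 0x2cb0003d60001fc00c024, nat_lit 0x2cb0003da0001d000402e, nat_lit 0x2cf0002cc006016, nat_lit 0x2cf0003ce0002c000401a, nat_lit 0x2cf0001af0001c000a01a, nat_lit 0x2cf0003d200027000401e, nat_lit 0x2cf0003d6000200004024, nat_lit 0x2cf0003da0001cc00a02e, nat_lit 0x2d30001b30001bc00201c, nat_lit 0x2d30003de00024c00c01e, nat_lit 0x2d30003e200021c00c024, nat_lit 0x2d30003e60001f000402e, nat_lit 0x2d70002d4006016, nat_lit 0x2d70001b30001c000401c, nat_lit 0x2d70003de00025000401e, nat_lit 0x2d70003e2000220004024, nat_lit 0x2d70003e60001ec00a02e, nat_lit 0x2db0001b70001bc00c01c, nat_lit 0x2db0003ea0002d400201c, nat_lit 0x2db0003ee00025c00c01e, nat_lit 0x2db0003f200021400c024, nat_lit 0x2db0003f60001e800402e, nat_lit 0x2df0002dc006016, nat_lit 0x2df0003ea0002d800401c, nat_lit 0x2df0001b70001c000a01c, nat_lit 0x2df0003ee00026000401e, nat_lit 0x2df0003f2000218004024,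 nat_lit 0x2df0003f60001e400a02e, nat_lit 0x2e30004160001e400201a, nat_lit 0x2e30001c30001cc00201c, nat_lit 0x2e300041a00027400c01e]
noncomputable def PF_b9_S9 : List ℕ := [nat_lit 0x2e300041e00023c00c024, nat_lit 0x2e70002e4006016, nat_lit 0x2e70004160001e800401a, nat_lit 0x2e70001c30001d000401c, nat_lit 0x2e700041a00027800401e, nat_lit 0x2e700041e000240004024, nat_lit 0x2eb0004260001ec00201a, nat_lit 0x2eb0001c70001cc00c01c, nat_lit 0x2eb0004220002e400201c, nat_lit 0x2eb00042a00028400c01e, nat_lit 0x2eb00042e00023400c024, nat_lit 0x2ef0002ec006016, nat_lit 0x2ef0004260001f000401a, nat_lit 0x2ef0004220002e800401c, nat_lit 0x2ef0001c70001d000a01c, nat_lit 0x2ef00042a00028800401e, nat_lit 0x2ef00042e000238004024, nat_lit 0x2f300044e0001e400c01a, nat_lit 0x2f30004520002e400201a, nat_lit 0x2f30001d30001dc00201c, nat_lit 0x2f300045600027c00c01e, nat_lit 0x2f300045a00022c00c024, nat_lit 0x2f70002f4006016, nat_lit 0x2f70004520002e800401a, nat_lit 0x2f700044e0001e800a01a, nat_lit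 0x2f70001d30001e000401c, nat_lit 0x2f700045600028000401e, nat_lit 0x2f700045a000230004024, nat_lit 0x2fb0004660001ec00c01a, nat_lit 0x2fb0004620002ec00201a, nat_lit 0x2fb0001d70001dc00c01c, nat_lit 0x2fb00045e0002f400201c, nat_lit 0x2fb00046a00028c00c01e, nat_lit 0x2fb00046e00022400c024, nat_lit 0x2ff0002fc006016, nat_lit 0x2ff0004620002f000401a, nat_lit 0x2ff0004660001f000a01a, nat_lit 0x2ff00045e0002f800401c, nat_lit 0x2ff0001d70001e000a01c, nat_lit 0x2ff00046a00029000401e, nat_lit 0x2ff00046e000228004024, nat_lit 0x3030004d600021400201a, nat_lit 0x3030001f30001fc00201c, nat_lit 0x3030004da00029400c01e, nat_lit 0x3030004de00024000402e, nat_lit 0x307000304006016, nat_lit 0x3070004d600021800401a, nat_lit 0x3070001f300020000401c, nat_lit 0x3070004da00029800401e, nat_lit 0x3070004de00023c00a02e, nat_lit 0x30b0004e600021c00201a, nat_lit 0x30b0001f70001fc00c01c, nat_lit 0x30b0004e200030400201c, nat_lit 0x30b0004ea0002a400c01e, nat_lit 0x30b0004ee00023800402e, nat_lit 0x30f00030c006016,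 nat_lit 0x30f0004e600022000401a, nat_lit 0x30f0004e200030800401c, nat_lit 0x30f0001f700020000a01c, nat_lit 0x30f0004ea0002a800401e, nat_lit 0x30f0004ee00023400a02e, nat_lit 0x31300050e00021400c01a, nat_lit 0x31300051200030400201a, nat_lit 0x31300020300020c00201c]
noncomputable def PF_b9_S10 : List ℕ := [nat_lit 0x31300051600029c00c01e, nat_lit 0x31300051a00023000402e, nat_lit 0x317000314006016, nat_lit 0x31700051200030800401a, nat_lit 0x31700050e00021800a01a, nat_lit 0x31700020300021000401c, nat_lit 0x3170005160002a000401e, nat_lit 0x31700051a00022c00a02e, nat_lit 0x31b00052600021c00c01a, nat_lit 0x31b00052200030c00201a, nat_lit 0x31b00020700020c00c01c, nat_lit 0x31b00051e00031400201c, nat_lit 0x31b00052a0002ac00c01e, nat_lit 0x31b00052e00022800402e, nat_lit 0x31f00031c006016, nat_lit 0x31f00052200031000401a, nat_lit 0x31f00052600022000a01a, nat_lit 0x31f00051e00031800401c, nat_lit 0x31f00020700021000a01c, nat_lit 0x31f00052a0002b000401e, nat_lit 0x31f00052e00022400a02e,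 nat_lit 0x32300062600026400201a, nat_lit 0x32300024300024c00201c, nat_lit 0x32300062a0002ac00c024, nat_lit 0x32300062e00029000402e, nat_lit 0x327000324006016, nat_lit 0x32700062600026800401a, nat_lit 0x32700024300025000401c, nat_lit 0x32700062a0002b0004024, nat_lit 0x32700062e00028c00a02e, nat_lit 0x32b00063600026c00201a, nat_lit 0x32b00024700024c00c01c, nat_lit 0x32b00063200032400201c, nat_lit 0x32b00063a0002a400c024, nat_lit 0x32b00063e00028800402e, nat_lit 0x32f00032c006016, nat_lit 0x32f00063600027000401a, nat_lit 0x32f00063200032800401c, nat_lit 0x32f00024700025000a01c, nat_lit 0x32f00063a0002a8004024, nat_lit 0x32f00063e00028400a02e, nat_lit 0x33300065e00026400c01a, nat_lit 0x33300066200032400201a, nat_lit 0x33300025300025c00201c, nat_lit 0x33300066600029c00c024, nat_lit 0x33300066a00028000402e, nat_lit 0x337000334006016, nat_lit 0x33700066200032800401a, nat_lit 0x33700065e00026800a01a, nat_lit 0x33700025300026000401c, nat_lit 0x3370006660002a0004024, nat_lit 0x33700066a00027c00a02e,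 nat_lit 0x33b00067600026c00c01a, nat_lit 0x33b00067200032c00201a, nat_lit 0x33b00025700025c00c01c, nat_lit 0x33b00066e00033400201c, nat_lit 0x33b00067a00029400c024, nat_lit 0x33b00067e00027800402e, nat_lit 0x33f00033c006016, nat_lit 0x33f00067200033000401a, nat_lit 0x33f00067600027000a01a, nat_lit 0x33f00066e00033800401c, nat_lit 0x33f00025700026000a01c, nat_lit 0x33f00067a000298004024]
noncomputable def PF_b9_S11 : List ℕ := [nat_lit 0x33f00067e00027400a02e, nat_lit 0x3430008060002d400201a, nat_lit 0x3430002b30002bc00201c, nat_lit 0x34300080a00032400c01e, nat_lit 0x34300080e00031c00c024, nat_lit 0x34300081200030000402e, nat_lit 0x347000344006016, nat_lit 0x3470008060002d800401a, nat_lit 0x3470002b30002c000401c, nat_lit 0x34700080a00032800401e, nat_lit 0x34700080e000320004024, nat_lit 0x3470008120002fc00a02e, nat_lit 0x34b00081a0002dc00201a, nat_lit 0x34b0002b70002bc00c01c, nat_lit 0x34b00081600034400201c, nat_lit 0x34b00081e00033400c01e, nat_lit 0x34b00082200031400c024,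 nat_lit 0x34b0008260002f800402e, nat_lit 0x34f00034c006016, nat_lit 0x34f00081a0002e000401a, nat_lit 0x34f00081600034800401c, nat_lit 0x34f0002b70002c000a01c, nat_lit 0x34f00081e00033800401e, nat_lit 0x34f000822000318004024, nat_lit 0x34f0008260002f400a02e, nat_lit 0x35300084e0002d400c01a, nat_lit 0x35300085200034400201a, nat_lit 0x3530002c30002cc00201c, nat_lit 0x35300085600032c00c01e, nat_lit 0x35300085a00030c00c024, nat_lit 0x35300085e0002f000402e, nat_lit 0x357000354006016, nat_lit 0x35700085200034800401a, nat_lit 0x35700084e0002d800a01a, nat_lit 0x3570002c30002d000401c, nat_lit 0x35700085600033000401e, nat_lit 0x35700085a000310004024, nat_lit 0x35700085e0002ec00a02e, nat_lit 0x35b00086a0002dc00c01a, nat_lit 0x35b00086600034c00201a, nat_lit 0x35b0002c70002cc00c01c, nat_lit 0x35b00086200035400201c, nat_lit 0x35b00086e00033c00c01e, nat_lit 0x35b00087200030400c024, nat_lit 0x35b0008760002e800402e, nat_lit 0x35f00035c006016, nat_lit 0x35f00086600035000401a, nat_lit 0x35f00086a0002e000a01a,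 nat_lit 0x35f00086200035800401c, nat_lit 0x35f0002c70002d000a01c, nat_lit 0x35f00086e00034000401e, nat_lit 0x35f000872000308004024, nat_lit 0x35f0008760002e400a02e]
noncomputable def PF_b9_S : List (List ℕ) := [PF_b9_S0, PF_b9_S1, PF_b9_S2, PF_b9_S3, PF_b9_S4, PF_b9_S5, PF_b9_S6, PF_b9_S7, PF_b9_S8, PF_b9_S9, PF_b9_S10, PF_b9_S11]
noncomputable def PF_b9_defs : List ℕ := [(nat_lit 0x80000d0070000d0060000d0050000d0080000c0070000c0060000c0050000c0080000b0070000b0060000b0050000b0040000b0030000b0080000a0070000a0060000a0050000a0040000a0030000a0020000a00800007007000070080000600700006008000050070000500600005005000050080000400700004006000040050000400800003007000030060000300500003004000030030000300800002007000020060000200500002004000020030000200200002008000010070000100600001005000010040000100300001002000010010000100800000007000000060000000500000004000000030000000200000001000000000000000000000),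
  (nat_lit 0x8000320070003200600032005000320080002f0070002f0080002e0070002e0080002d0070002d0060002d0050002d0080002c0070002c0060002c0050002c0080002b0070002b0060002b0050002b0040002b0030002b0080002400700024008000230070002300800020007000200080001f0070001f0080001c0070001c0080001b0070001b0080001a0070001a0060001a0050001a008000190070001900600019005000190080001600700016008000150070001500800014007000140060001400500014008000130070001300600013005000130080001200700012006000120050001200400012003000120080000f0070000f0080000e0070000e),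
  (nat_lit 0x800075007000750080007400700074008000710070007100800070007000700080006d0070006d0080006c0070006c0080006b0070006b0060006b0050006b0080006a0070006a0060006a0050006a0080005b0070005b0080005a0070005a008000570070005700800056007000560080004f0070004f0080004e0070004e0080004b0070004b0080004a0070004a0080004700700047008000460070004600800045007000450060004500500045008000440070004400600044005000440080003d0070003d0080003c0070003c008000390070003900800038007000380080003500700035008000340070003400800033007000330060003300500033),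
  (nat_lit 0x8000b1007000b1008000b0007000b0008000ad007000ad008000ac007000ac0080009500700095008000940070009400800091007000910080009000700090008000810070008100800080007000800080007d0070007d0080007c0070007c)]
noncomputable def PF_b9_recs : List ℕ := [(nat_lit 0x10000c0002d00000160002d040002c0002d010000d0002c00000150002c010000b0002b00000120002b05000090002a06000280002a08000290002a060002700029050000800029060000900028080002700028060000800027030000900026040002200026080002500026040002100025030000800025030000700024040002000024060002300024040001f00023030000600023040000900022080002100022040000800021040000700020060001f0002004000060001f02000080001e080001d0001e02000090001d02000060001c060001b0001c02000070001b02000040001a04000190001a02000050001901000090001808000170001801000080001701000060001606000150001601000070001501000040001404000130001401000050001301000030001200000090001108000100001100000080001000000050000f060000e0000f00000040000e00000070000d040000c0000d00000060000c00000030000b00000020000a080000800009060000600007040000400005),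
  (nat_lit 0x40004400045020001400044010001a00044000002600043050001100043060004100043080004200043000002500042060004000042050001000042000002200041060001100041080004000041000002100040060001000040000002a0003f03000110003f040003b0003f080003e0003f00000290003e040003a0003e03000100003e00000240003d030000f0003d04000390003d060003c0003d00000200003c04000380003c030000e0003c00000280003b04000110003b080003a0003b00000270003a04000100003a000002300039040000f00039060003800039000001f00038040000e00038020001000037000001e00037080003600037020001100036000001d00036020000e00035000001a00035060003400035020000f00034000001900034020000c00033000001c00033040003200033020000d00032000001b00032010001100031000001800031080003000031010001000030000001700030010000e0002f00000140002f060002e0002f010000f0002e00000130002e),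
  (nat_lit 0x30001c0005b04000570005b060005a0005b02000200005a04000560005a030001b0005a020002500059040001e00059080005800059020002600058040001d00058020002300057040001c00057060005600057020002400056040001b00056010002800055050001800055060005300055080005400055010002700054060005200054050001700054010002a00053060001800053080005200053010002900052060001700052010002200051030001800051040004d00051080005000051010002100050040004c00050030001700050010001f0004f03000160004f040004b0004f060004e0004f01000200004e040004a0004e03000150004e01000260004d04000180004d080004c0004d01000250004c04000170004c01000230004b04000160004b060004a0004b01000240004a04000150004a020001700049010001e00049080004800049020001800048010001d00048020001500047010001b00047060004600047020001600046010001c00046020001300045010001900045),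
  (nat_lit 0x1000360006e00000480006e020002e0006d01000340006d00000450006d060006c0006d020002f0006c01000350006c00000440006c020002c0006b01000320006b00000470006b040006a0006b020002d0006a01000330006a00000460006a050002600069060006700069030002a00069040006500069080006800069060006600068050002500068040006400068030002900068060002600067030002800067040006300067080006600067060002500066040006200066030002700066050002200065060006300065040002a00065080006400065060006200064050002100064040002900064060002200063040002800063080006200063060002100062040002700062020002700061050001e00061060005f00061080006000061020002800060060005e00060050001d0006002000290005f060001e0005f080005e0005f020002a0005e060001d0005e02000210005d030001e0005d04000590005d080005c0005d02000220005c04000580005c030001d0005c020001f0005b),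
  (nat_lit 0x80007e0007f020003f0007e000005e0007e04000360007e020003c0007d000005a0007d04000350007d060007c0007d020003d0007c00000560007c04000340007c01000410007b00000510007b05000310007b06000790007b080007a0007b01000400007a00000500007a06000780007a05000300007a010004300079000004d00079060003100079080007800079010004200078000004c00078060003000078010003b00077000005500077030003100077040007300077080007600077010003a00076000005400076040007200076030003000076010003800075000004f00075030002f00075040007100075060007400075010003900074000004b00074040007000074030002e00074010003f00073000005300073040003100073080007200073010003e00072000005200072040003000072010003c00071000004e00071040002f00071060007000071010003d00070000004a00070040002e0007002000300006f01000370006f00000490006f080006e0006f02000310006e),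
  (nat_lit 0x40008a0008e03000420008e00000650008d060003f0008d03000410008d04000890008d080008c0008d00000640008c060003e0008c04000880008c03000400008c00000670008b050003b0008b06000890008b04000430008b080008a0008b00000660008a06000880008a050003a0008a04000420008a000006300089060003b00089040004100089080008800089000006200088060003a00088040004000088020004000087000005d00087050003700087060008500087080008600087020004100086000005c00086060008400086050003600086020004200085000005900085060003700085080008400085020004300084000005800084060003600084020003a00083000006100083030003700083040007f00083080008200083020003b00082000006000082040007e00082030003600082020003800081000005b00081030003500081040007d00081060008000081020003900080000005700080040007c00080030003400080020003e0007f000005f0007f04000370007f),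
  (nat_lit 0x1000690009d060004d0009d04000530009d080009c0009d01000680009c060004c0009c04000520009c02000520009b010005f0009b05000490009b06000990009b080009a0009b02000530009a010005e0009a06000980009a05000480009a020005400099010006100099060004900099080009800099020005500098010006000098060004800098020004c00097010005900097030004900097040009300097080009600097020004d00096010005800096040009200096030004800096020004a00095010005600095030004700095040009100095060009400095020004b00094010005700094040009000094030004600094020005000093010005d00093040004900093080009200093020005100092010005c00092040004800092020004e00091010005a00091040004700091060009000091020004f00090010005b0009004000460009000000690008f050003f0008f060008d0008f03000430008f040008b0008f080008e0008f00000680008e060008c0008e050003e0008e),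
  (nat_lit 0x50005d000ab06000a9000ab0300061000ab04000a7000ab08000aa000ab0200063000aa06000a8000aa050005c000aa04000a6000aa0300060000aa0200064000a9060005d000a9030005f000a904000a5000a908000a8000a90200065000a8060005c000a804000a4000a8030005e000a80200066000a70500059000a706000a5000a70400061000a708000a6000a70200067000a606000a4000a60500058000a60400060000a60200068000a50600059000a5040005f000a508000a4000a50200069000a40600058000a4040005e000a40100063000a30500051000a306000a1000a30300055000a3040009f000a308000a2000a30100062000a206000a0000a20500050000a2040009e000a20300054000a20100065000a10600051000a10300053000a1040009d000a108000a0000a10100064000a00600050000a0040009c000a00300052000a001000670009f050004d0009f060009d0009f04000550009f080009e0009f01000660009e060009c0009e050004c0009e04000540009e),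
  (nat_lit 0x9c000b80600072000b80400078000b80200078000b70100085000b70000097000b7050006f000b706000b5000b708000b6000b70200079000b60100084000b60000096000b606000b4000b6050006e000b6020007a000b50100087000b50000093000b5060006f000b508000b4000b5020007b000b40100086000b40000092000b4060006e000b40200072000b3010007f000b3000009b000b3030006f000b304000af000b308000b2000b30200073000b2010007e000b2000009a000b204000ae000b2030006e000b20200070000b1010007c000b10000095000b1030006d000b104000ad000b106000b0000b10200071000b0010007d000b00000091000b004000ac000b0030006c000b00200076000af0100083000af0000099000af040006f000af08000ae000af0200077000ae0100082000ae0000098000ae040006e000ae0200074000ad0100080000ad0000094000ad040006d000ad06000ac000ad0200075000ac0100081000ac0000090000ac040006c000ac0200062000ab),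
  (nat_lit 0x600082000c404000c0000c40300084000c4020008c000c300000a9000c3050007f000c306000c1000c30400087000c308000c2000c3020008d000c200000a8000c206000c0000c2050007e000c20400086000c2020008e000c100000a5000c1060007f000c10400085000c108000c0000c1020008f000c000000a4000c0060007e000c00400084000c00100089000bf00000a3000bf0500077000bf06000bd000bf030007b000bf04000bb000bf08000be000bf0100088000be00000a2000be06000bc000be0500076000be04000ba000be030007a000be010008b000bd000009f000bd0600077000bd0300079000bd04000b9000bd08000bc000bd010008a000bc000009e000bc0600076000bc04000b8000bc0300078000bc010008d000bb00000a1000bb0500073000bb06000b9000bb040007b000bb08000ba000bb010008c000ba00000a0000ba06000b8000ba0500072000ba040007a000ba010008f000b9000009d000b90600073000b90400079000b908000b8000b9010008e000b8),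
  (nat_lit 0x1000a5000cf0500097000cf06000cd000cf030009b000cf04000cb000cf08000ce000cf020009d000ce01000a4000ce06000cc000ce0500096000ce04000ca000ce030009a000ce020009e000cd01000a7000cd0600097000cd0300099000cd04000c9000cd08000cc000cd020009f000cc01000a6000cc0600096000cc04000c8000cc0300098000cc02000a0000cb01000a9000cb0500093000cb06000c9000cb040009b000cb08000ca000cb02000a1000ca01000a8000ca06000c8000ca0500092000ca040009a000ca02000a2000c901000ab000c90600093000c90400099000c908000c8000c902000a3000c801000aa000c80600092000c80400098000c80200088000c700000ab000c70500083000c706000c5000c70300087000c704000c3000c708000c6000c70200089000c600000aa000c606000c4000c60500082000c604000c2000c60300086000c6020008a000c500000a7000c50600083000c50300085000c504000c1000c508000c4000c5020008b000c400000a6000c4),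
  (nat_lit 0x2000b8000d701000c1000d700000cf000d705000b3000d706000d5000d703000b7000d704000d3000d708000d6000d702000b9000d601000c0000d600000ce000d606000d4000d605000b2000d604000d2000d603000b6000d602000ba000d501000c3000d500000cb000d506000b3000d503000b5000d504000d1000d508000d4000d502000bb000d401000c2000d400000ca000d406000b2000d404000d0000d403000b4000d402000bc000d301000c5000d300000cd000d305000af000d306000d1000d304000b7000d308000d2000d302000bd000d201000c4000d200000cc000d206000d0000d205000ae000d204000b6000d202000be000d101000c7000d100000c9000d106000af000d104000b5000d108000d0000d102000bf000d001000c6000d000000c8000d006000ae000d004000b4000d0020009c000cf)]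
noncomputable def PF_b9_L0 : List ℕ := [nat_lit 0x700000100000b00000200000f00000300001300000400001700000500001b00000600001f000007000023000008000027000009, nat_lit 0x800000000002b00000a00002f00000b00003300000c00003700000d00003b00000e00003f00000f000043000010000047000011, nat_lit 0xe00000a00000c00000000004b00001200004f00001300005300001400005700001500005b00001600005f000017000063000018, nat_lit 0x1200000b00003a00001200001000000000006700001900006b00001a00006f00001b00007300001c00007700001d00007b00001e, nat_lit 0x2200000e00004600001400006a00001a00000200000500001400000000007f00001f00008300002000008700002100008b000022, nat_lit 0x2a00000f00003e00001300006200001900001800000000000100000400008f00002300009300002400009700002500009b000026, nat_lit 0x1600000c00005200001600007600001c00008600001f00009e00002300000600000700001c00000000009f0000270000a3000028, nat_lit 0x1e00000d00004a00001500006e00001b00008e0000200000ae0000240000200000000000050000060000a70000290000ab00002a, nat_lit 0x2e00001000005600001700008200001e0000920000210000b20000250000c60000270000d200002900000a000009000024000000,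 nat_lit 0x3600001100005e00001800007a00001d00009a0000220000c20000260000ce0000280000e200002a000028000000000009000008, nat_lit 0xd00000200002c0000010000af00002b0000b300002c0000b700002d0000bb00002e0000bf00002f0000c30000300000c7000031, nat_lit 0x110000030000ea00002b0000300000010000cb0000320000cf0000330000d30000340000d70000350000db0000360000df000037, nat_lit 0x150000060000fe00002d00013a00003300001a00000d0000340000010000e30000380000e70000390000eb00003a0000ef00003b, nat_lit 0x1d0000070000f200002c00012e00003200003800000100001900000c0000f300003c0000f700003d0000fb00003e0000ff00003f, nat_lit 0x2100000400011200002f00014e00003500016600003800018e00003c00002600000f00003c000001000103000040000107000041, nat_lit 0x2900000500010600002e0001420000340001720000390001a200003d00004000000100002500000e00010b00004200010f000043, nat_lit 0x2d00000800011a00003000016200003700017a00003a0001aa00003e0001c60000400001da000042000032000011000044000001, nat_lit 0x3500000900012600003100015600003600018600003b0001be00003f0001d20000410001ee000043000048000001000031000010,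 nat_lit 0xe600002b00003900000300004c00000200011300004400011700004500011b00004600011f000047000123000048000127000049, nat_lit 0x10200002e00003d00000500020600004500004200001400005000000200012b00004a00012f00004b00013300004c00013700004d, nat_lit 0x10e00002f0000450000040001fa00004400005400000200004100001300013b00004e00013f00004f000143000050000147000051, nat_lit 0xee00002c00004900000700021a00004700023200004a00025a00004e00004e00001600005800000200014b00005200014f000053, nat_lit 0xfa00002d00005100000600020e00004600023e00004b00026e00004f00005c00000200004d000015000153000054000157000055, nat_lit 0x11600003000005500000800022e00004900024600004c0002760000500002920000520002a600005400005a000018000060000002, nat_lit 0x12200003100005d00000900022200004800025200004d00028a00005100029e0000530002ba000055000064000002000059000017, nat_lit 0x13e00003400020200004500006100000500006600001a00006800000300015b00005600015f000057000163000058000167000059, nat_lit 0x14a0000350001f600004400006900000400006c00000300006500001900016b00005a00016f00005b00017300005c00017700005d,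 nat_lit 0x12a00003200021600004700006d0000070002c20000560002ea00005a00007200001c00007000000300017b00005e00017f00005f, nat_lit 0x13600003300020a0000460000750000060002ce0000570002fe00005b00007400000300007100001b000183000060000187000061, nat_lit 0x15200003600021e0000480000790000090002d600005800030600005c00032200005e00033600006000007e00001e000078000003, nat_lit 0x15e00003700022a0000490000810000080002e200005900031a00005d00032e00005f00034a00006100007c00000300007d00001d, nat_lit 0x16a00003800027200004f00030200005b0000a200002300008500000600008a00002000008000000400018b00006200018f000063, nat_lit 0x19600003c00026200004e0002f200005a0000aa00002400008d00000700008400000400008900001f000193000064000197000065, nat_lit 0x1ca00004000027e00005000031e00005d0000b600002500009100000800035600006200036a000064000096000022000088000004, nat_lit 0x1d600004100028e00005100030e00005c0000be00002600009900000900036200006300037e00006500008c000004000095000021, nat_lit 0x17600003900024200004b0002d200005700009d0000060000a100001f0000a600002400009000000500019b00006600019f000067,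 nat_lit 0x1a600003d00023600004a0002c60000560000ad0000070000a90000200000940000050000a50000230001a30000680001a7000069, nat_lit 0x1e200004200024a00004c0002e60000590000b10000080000b500002100038a0000660003a60000680000ba000026000098000005, nat_lit 0x1f200004300025600004d0002da0000580000c10000090000bd00002200039a0000670003be00006900009c0000050000b9000025, nat_lit 0x17e00003a0002ae00005400034e0000610003520000620003820000660000d60000290000c50000080000ca0000280000a0000006, nat_lit 0x18a00003b0002be00005500033e00006000035e0000630003960000670000de00002a0000cd0000090000a40000060000c9000027, nat_lit 0x1b200003e00029600005200033200005f00036600006400039e0000680000d10000080000d50000270000da00002a0000a8000007, nat_lit 0x1c200003f0002a200005300032600005e0003760000650003b60000690000e10000090000dd0000280000ac0000070000d9000029, nat_lit 0xe50000120000e900000b0000b000000a0001ab00006a0001af00006b0001b300006c0001b700006d0001bb00006e0001bf00006f, nat_lit 0xed0000150000f100000d0003da00006b0000f600002d0000b400000a0001c30000700001c70000710001cb0000720001cf000073,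 nat_lit 0xf90000160000fd00000c0003ca00006a0000b800000a0000f500002c0001d30000740001d70000750001db0000760001df000077, nat_lit 0x10100001300010500000f0003f600006d00041600007000044e00007400010a00002f0000bc00000a0001e30000780001e7000079, nat_lit 0x10d00001400011100000e0003e600006c0004260000710004660000750000c000000a00010900002e0001eb00007a0001ef00007b, nat_lit 0x11500001700011900001000041200006f0004320000720004720000760004960000780004b200007a00011e0000310000c400000a, nat_lit 0x12100001800012500001100040200006e00044200007300048a0000770004a60000790004ca00007b0000c800000a00011d000030, nat_lit 0x12900001b0003d600006b00012d00000d0001320000330000cc00000b0001f300007c0001f700007d0001fb00007e0001ff00007f, nat_lit 0x13500001c0003c600006a00013900000c0000d000000b00013100003200020300008000020700008100020b00008200020f000083, nat_lit 0x13d0000190003f200006d00014100000f0004d600007c00050e0000800001460000350000d400000b000213000084000217000085, nat_lit 0x14900001a0003e200006c00014d00000e0004e600007d0005260000810000d800000b00014500003400021b00008600021f000087,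 nat_lit 0x15100001d0003fe00006e0001550000110004f200007e00053200008200055600008400057200008600015a0000370000dc00000b, nat_lit 0x15d00001e00040e00006f00016100001000050200007f00054a00008300056600008500058a0000870000e000000b000159000036, nat_lit 0x16900001f00046e00007500052e00008100019200003c00016500000e00016e0000390000e400000c000223000088000227000089, nat_lit 0x17500002300045a00007400051a00008000019e00003d00017100000f0000e800000c00016d00003800022b00008a00022f00008b, nat_lit 0x17d00002700047e0000760005520000830001ae00003e00017900001000059a0000880005b600008a00018200003b0000ec00000c, nat_lit 0x18900002800049200007700053e0000820001ba00003f0001850000110005aa0000890005ce00008b0000f000000c00018100003a, nat_lit 0x19500002000042e0000710004ee00007d00018d00000e00019100003800019a00003d0000f400000d00023300008c00023700008d, nat_lit 0x1a500002400041e0000700004de00007c0001a100000f00019d0000390000f800000d00019900003c00023b00008e00023f00008f, nat_lit 0x1b100002900043a00007200050a00007f0001a90000100001ad00003a0005de00008c00060200008e0001b600003f0000fc00000d,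 nat_lit 0x1c100002a00044a0000730004fa00007e0001bd0000110001b900003b0005f200008d00061e00008f00010000000d0001b500003e]
noncomputable def PF_b9_L1 : List ℕ := [nat_lit 0x1c90000210004be00007a0005920000870005960000880005d600008c0001de0000420001c50000100001ce00004100010400000e, nat_lit 0x1d50000220004d200007b00057e0000860005a60000890005ee00008d0001ea0000430001d100001100010800000e0001cd000040, nat_lit 0x1e100002500049e00007800056e0000850005b200008a0005fa00008e0001d90000100001dd0000400001e600004300010c00000f, nat_lit 0x1f10000260004ae00007900055e0000840005c600008b00061600008f0001ed0000110001e900004100011000000f0001e5000042, nat_lit 0x3de00006c0001f500001a0001f90000140001fe00004500011400001200024300009000024700009100024b00009200024f000093, nat_lit 0x3ee00006d0002010000190002050000130001180000120001fd00004400025300009400025700009500025b00009600025f000097, nat_lit 0x3c200006a00020900001c00020d00001600062600009000065e00009400021200004700011c000012000263000098000267000099, nat_lit 0x3d200006b00021500001b00021900001500063600009100067600009500012000001200021100004600026b00009a00026f00009b,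 nat_lit 0x3fa00006e00021d00001d0002210000180006420000920006820000960006a60000980006c200009a000226000049000124000012, nat_lit 0x40a00006f00022900001e00022d00001700065200009300069a0000970006b60000990006da00009b000128000012000225000048, nat_lit 0x41a00007000023500002400067e00009500025e00004e00023100001500023a00004b00012c00001300027300009c00027700009d, nat_lit 0x45600007400024100002300066a00009400026a00004f00023d00001600013000001300023900004a00027b00009e00027f00009f, nat_lit 0x49a0000780002490000250006a200009700027a0000500002450000170006ea00009c00070600009e00024e00004d000134000013, nat_lit 0x4aa00007900025500002600068e0000960002860000510002510000180006fa00009d00071e00009f00013800001300024d00004c, nat_lit 0x42a00007100026100002000063e00009100025900001500025d00004a00026600004f00013c0000140002830000a00002870000a1, nat_lit 0x46a00007500027100001f00062e00009000026d00001600026900004b00014000001400026500004e00028b0000a200028f0000a3, nat_lit 0x4ba00007a00027d00002100065a00009300027500001700027900004c00072e0000a00007520000a2000282000051000144000014,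 nat_lit 0x4ce00007b00028d00002200064a00009200028900001800028500004d0007420000a100076e0000a3000148000014000281000050, nat_lit 0x4360000720002950000290006e200009b0006e600009c0007260000a00002aa00005400029100001700029a00005300014c000015, nat_lit 0x4460000730002a100002a0006ce00009a0006f600009d00073e0000a10002b600005500029d000018000150000015000299000052, nat_lit 0x47a0000760002ad0000270006be00009900070200009e00074a0000a20002a50000170002a90000520002b2000055000154000016, nat_lit 0x48e0000770002bd0000280006ae00009800071600009f0007660000a30002b90000180002b50000530001580000160002b1000054, nat_lit 0x4da00007c00067a0000950002c50000240002ee00005a0002c100001b0002ca00005700015c0000190002930000a40002970000a5, nat_lit 0x5160000800006660000940002d10000230002fa00005b0002cd00001c0001600000190002c900005600029b0000a600029f0000a7, nat_lit 0x55a00008400068a0000960002d900002600030a00005c0002d500001d00077a0000a40007960000a60002de000059000164000019, nat_lit 0x56a00008500069e0000970002e500002500031600005d0002e100001e00078a0000a50007ae0000a70001680000190002dd000058,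 nat_lit 0x4ea00007d00063a0000910002f10000200002e900001b0002ed0000560002f600005b00016c00001a0002a30000a80002a70000a9, nat_lit 0x52a00008100062a00009000030100001f0002fd00001c0002f900005700017000001a0002f500005a0002ab0000aa0002af0000ab, nat_lit 0x57a00008600064600009200030d00002200030500001d0003090000580007be0000a80007e20000aa00031200005d00017400001a, nat_lit 0x58e00008700065600009300031d00002100031900001e0003150000590007d20000a90007fe0000ab00017800001a00031100005c, nat_lit 0x4f600007e0006ca00009a00032500002a0007760000a40007b60000a800033a00006000032100001d00032a00005f00017c00001b, nat_lit 0x50600007f0006de00009b0003310000290007860000a50007ce0000a900034600006100032d00001e00018000001b00032900005e, nat_lit 0x53a0000820006aa00009800033d0000280007920000a60007da0000aa00033500001d00033900005e00034200006100018400001c, nat_lit 0x54e0000830006ba00009900034d0000270007a60000a70007f60000ab00034900001e00034500005f00018800001c000341000060, nat_lit 0x59e00008800075a0000a20008020000ab00038600006600035100002700036e00006400035500002100035a00006300018c00001f,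 nat_lit 0x5ae0000890007720000a30007ea0000aa00039200006700035d00002800037a00006500036100002200019000001f000359000062, nat_lit 0x5e200008c0007320000a00007d60000a90003a200006800036500002900036900002100036d000062000372000065000194000020, nat_lit 0x5f600008d0007460000a10007c20000a80003b200006900037500002a00037d000022000379000063000198000020000371000064, nat_lit 0x5be00008a00070e00009e0007b20000a70003810000270003850000620003aa00006800038900002500038e00006700019c000023, nat_lit 0x5d200008b00072200009f00079e0000a60003950000280003910000630003ba0000690003990000260001a000002300038d000066, nat_lit 0x60a00008e0006ee00009c00078e0000a500039d0000290003a10000640003a50000250003a90000660003ae0000690001a4000024, nat_lit 0x62200008f0006fe00009d00077e0000a40003b500002a0003b10000650003bd0000260003b90000670001a80000240003ad000068, nat_lit 0x3c10000460003c50000330003c900002d0003ce00006b0001ac00002b0002b30000ac0002b70000ad0002bb0000ae0002bf0000af, nat_lit 0x3d10000470003d50000320003d900002c0001b000002b0003cd00006a0002c30000b00002c70000b10002cb0000b20002cf0000b3,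 nat_lit 0x3dd0000440003e10000350003e500002f0008060000ac00084e0000b00003ea00006d0001b400002b0002d30000b40002d70000b5, nat_lit 0x3ed0000450003f10000340003f500002e00081a0000ad00086a0000b10001b800002b0003e900006c0002db0000b60002df0000b7, nat_lit 0x3f90000480003fd00003600040100003100082a0000ae00087a0000b20008a60000b40008ca0000b600040600006f0001bc00002b, nat_lit 0x40900004900040d00003700041100003000083e0000af0008960000b30008ba0000b50008e60000b70001c000002b00040500006e, nat_lit 0x41900004a00041d00003d0008760000b100045200007400041500002e0004220000710001c400002c0002e30000b80002e70000b9, nat_lit 0x42900004e00042d00003c00085e0000b000046200007500042500002f0001c800002c0004210000700002eb0000ba0002ef0000bb, nat_lit 0x43500005200043900003e0008a20000b30004760000760004310000300008fa0000b800091e0000ba00043e0000730001cc00002c, nat_lit 0x44500005300044900003f00088a0000b200048600007700044100003100090e0000b900093a0000bb0001d000002c00043d000072, nat_lit 0x45500004b0004590000390008260000ad00044d00002e00045100007000045e0000750001d400002d0002f30000bc0002f70000bd,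 nat_lit 0x46900004f00046d0000380008120000ac00046500002f0004610000710001d800002d00045d0000740002fb0000be0002ff0000bf, nat_lit 0x47900005400047d00003a00084a0000af00047100003000047500007200094e0000bc00097a0000be0004820000770001dc00002d, nat_lit 0x48d00005500049100003b0008360000ae0004890000310004850000730009660000bd00099a0000bf0001e000002d000481000076, nat_lit 0x49900004c00049d0000420008f20000b70008f60000b80009460000bc0004b600007a0004950000300004a20000790001e400002e, nat_lit 0x4a900004d0004ad0000430008da0000b600090a0000b90009620000bd0004c600007b0004a50000310001e800002e0004a1000078, nat_lit 0x4b90000500004bd0000400008c60000b500091a0000ba0009720000be0004b10000300004b50000780004c200007b0001ec00002f, nat_lit 0x4cd0000510004d10000410008b20000b40009320000bb0009920000bf0004c90000310004c50000790001f000002f0004c100007a, nat_lit 0x4d90000560008720000b10004dd00003d0005120000800004d50000340004e200007d0001f40000320003030000c00003070000c1, nat_lit 0x4e900005a00085a0000b00004ed00003c0005220000810004e50000350001f80000320004e100007c00030b0000c200030f0000c3,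 nat_lit 0x4f500005e0008860000b20004f900003f0005360000820004f10000360009aa0000c00009ce0000c20004fe00007f0001fc000032, nat_lit 0x50500005f00089e0000b300050900003e0005460000830005010000370009be0000c10009ea0000c30002000000320004fd00007e]
noncomputable def PF_b9_L2 : List ℕ := [nat_lit 0x5150000570008220000ad00051900003900050d00003400051100007c00051e0000810002040000330003130000c40003170000c5, nat_lit 0x52900005b00080e0000ac00052d00003800052500003500052100007d00020800003300051d00008000031b0000c600031f0000c7, nat_lit 0x5390000600008320000ae00053d00003b00053100003600053500007e0009fe0000c4000a2a0000c600054200008300020c000033, nat_lit 0x54d0000610008460000af00055100003a00054900003700054500007f000a160000c5000a4a0000c7000210000033000541000082, nat_lit 0x5590000580008d60000b600055d0000430009a60000c00009f60000c4000576000086000555000036000562000085000214000034, nat_lit 0x5690000590008ee0000b700056d0000420009ba0000c1000a120000c5000586000087000565000037000218000034000561000084, nat_lit 0x57900005c0008ae0000b400057d0000410009ca0000c2000a220000c600057100003600057500008400058200008700021c000035,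 nat_lit 0x58d00005d0008c20000b50005910000400009e20000c3000a420000c7000589000037000585000085000220000035000581000086, nat_lit 0x59d0000620009860000be000a520000c70005da00008c0005950000400005ba00008a00059900003a0005a2000089000224000038, nat_lit 0x5ad0000630009a20000bf000a360000c60005ea00008d0005a50000410005ca00008b0005a900003b0002280000380005a1000088, nat_lit 0x5bd0000660009560000bc000a1e0000c50005fe00008e0005b10000420005b500003a0005b90000880005c200008b00022c000039, nat_lit 0x5d100006700096e0000bd000a060000c400061200008f0005c50000430005cd00003b0005c90000890002300000390005c100008a, nat_lit 0x5e100006400092a0000ba0009f20000c30005d50000400005d900008800060600008e0005dd00003e0005e600008d00023400003c, nat_lit 0x5f50000650009420000bb0009da0000c20005ed0000410005e900008900061a00008f0005f100003f00023800003c0005e500008c, nat_lit 0x6090000680009020000b80009c60000c10005f90000420005fd00008a00060100003e00060500008c00060e00008f00023c00003d, nat_lit 0x6210000690009160000b90009b20000c000061500004300061100008b00061d00003f00061900008d00024000003d00060d00008e,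 nat_lit 0x80a0000ac00062900005b00062d00004f0006620000940006250000460006320000910002440000440003230000c80003270000c9, nat_lit 0x8560000b000063900005a00063d00004e00067200009500063500004700024800004400063100009000032b0000ca00032f0000cb, nat_lit 0x8aa0000b400064500005c000649000051000686000096000641000048000a5a0000c8000a7e0000ca00064e00009300024c000044, nat_lit 0x8be0000b500065500005d000659000050000696000097000651000049000a6e0000c9000a9a0000cb00025000004400064d000092, nat_lit 0x81e0000ad00066500005700066900004b00065d00004600066100009000066e0000950002540000450003330000cc0003370000cd, nat_lit 0x86e0000b100067900005600067d00004a00067500004700067100009100025800004500066d00009400033b0000ce00033f0000cf, nat_lit 0x8d20000b600068900005800068d00004d000681000048000685000092000aae0000cc000ada0000ce00069200009700025c000045, nat_lit 0x8ea0000b700069d0000590006a100004c000699000049000695000093000ac60000cd000afa0000cf000260000045000691000096, nat_lit 0x82e0000ae0006a90000600006ad000055000a560000c8000aa60000cc0006c600009a0006a50000480006b2000099000264000046,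 nat_lit 0x8420000af0006b90000610006bd000054000a6a0000c9000ac20000cd0006d600009b0006b50000490002680000460006b1000098, nat_lit 0x8820000b20006c900005e0006cd000053000a7a0000ca000ad20000ce0006c10000480006c50000980006d200009b00026c000047, nat_lit 0x89a0000b30006dd00005f0006e1000052000a920000cb000af20000cf0006d90000490006d50000990002700000470006d100009a, nat_lit 0x8fe0000b80006ed000068000b020000cf00072a0000a00006e500005200070a00009e0006e900004c0006f200009d00027400004a, nat_lit 0x9120000b90006fd000069000ae60000ce00073a0000a10006f500005300071a00009f0006f900004d00027800004a0006f100009c, nat_lit 0x9520000bc00070d000066000ace0000cd00074e0000a200070100005400070500004c00070900009c00071200009f00027c00004b, nat_lit 0x96a0000bd000721000067000ab60000cc0007620000a300071500005500071d00004d00071900009d00028000004b00071100009e, nat_lit 0x9260000ba000731000064000aa20000cb00072500005200072900009c0007560000a200072d0000500007360000a100028400004e, nat_lit 0x93e0000bb000745000065000a8a0000ca00073d00005300073900009d00076a0000a300074100005100028800004e0007350000a0,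 nat_lit 0x9820000be000759000062000a760000c900074900005400074d00009e0007510000500007550000a000075e0000a300028c00004f, nat_lit 0x99e0000bf000771000063000a620000c800076500005500076100009f00076d0000510007690000a100029000004f00075d0000a2, nat_lit 0x9ae0000c0000ae20000ce00077d0000690007ba0000a800077500005e00079a0000a60007790000580007820000a5000294000056, nat_lit 0x9c20000c1000afe0000cf00078d0000680007ca0000a900078500005f0007aa0000a70007890000590002980000560007810000a4, nat_lit 0xa020000c4000ab20000cc00079d0000670007de0000aa0007910000600007950000580007990000a40007a20000a700029c000057, nat_lit 0xa1a0000c5000aca0000cd0007b10000660007f20000ab0007a50000610007ad0000590007a90000a50002a00000570007a10000a6, nat_lit 0x9d60000c2000a860000ca0007c10000650007b500005e0007b90000a40007e60000aa0007bd00005c0007c60000a90002a400005a, nat_lit 0x9ee0000c3000a9e0000cb0007d50000640007cd00005f0007c90000a50007fa0000ab0007d100005d0002a800005a0007c50000a8, nat_lit 0xa320000c6000a5e0000c80007e90000630007d90000600007dd0000a60007e100005c0007e50000a80007ee0000ab0002ac00005b,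 nat_lit 0xa4e0000c7000a720000c90008010000620007f50000610007f10000a70007fd00005d0007f90000a90002b000005b0007ed0000aa, nat_lit 0x80900009000080d0000810008110000750008520000b000080500006c0008160000ad0002b400006a0003430000d00003470000d1, nat_lit 0x81d0000940008210000800008250000740008660000b100081900006d0002b800006a0008150000ac00034b0000d200034f0000d3, nat_lit 0x82d00009800083100008200083500007700087e0000b200082900006e000b0a0000d0000b360000d200083a0000af0002bc00006a, nat_lit 0x8410000990008450000830008490000760008920000b300083d00006f000b220000d1000b560000d30002c000006a0008390000ae, nat_lit 0x85500009100085900007d00085d00007100084d00006c0008510000ac0008620000b10002c400006b0003530000d40003570000d5, nat_lit 0x86d00009500087100007c00087500007000086900006d0008650000ad0002c800006b0008610000b000035b0000d600035f0000d7, nat_lit 0x88100009a00088500007e00088900007300087900006e00087d0000ae000b6e0000d4000ba20000d600088e0000b30002cc00006b, nat_lit 0x89900009b00089d00007f0008a100007200089500006f0008910000af000b8a0000d5000bc60000d70002d000006b00088d0000b2,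 nat_lit 0x8a90000920008ad0000860008b100007b000b060000d0000b660000d40008ce0000b60008a500006e0008b60000b50002d400006c, nat_lit 0x8bd0000930008c10000870008c500007a000b1e0000d1000b860000d50008e20000b70008b900006f0002d800006c0008b50000b4, nat_lit 0x8d10000960008d50000840008d9000079000b320000d2000b9a0000d60008c900006e0008cd0000b40008de0000b70002dc00006d, nat_lit 0x8e90000970008ed0000850008f1000078000b4e0000d3000bbe0000d70008e500006f0008e10000b50002e000006d0008dd0000b6, nat_lit 0x8fd00009c00090100008e000bd20000d700094a0000bc0008f50000780009220000ba0008f90000720009060000b90002e4000070, nat_lit 0x91100009d00091500008f000bb20000d600095e0000bd0009090000790009360000bb00090d0000730002e80000700009050000b8, nat_lit 0x9250000a000092900008c000b960000d50009760000be00091900007a00091d0000720009210000b800092e0000bb0002ec000071, nat_lit 0x93d0000a100094100008d000b7a0000d400098e0000bf00093100007b0009390000730009350000b90002f000007100092d0000ba, nat_lit 0x95100009e00095500008a000b620000d30009450000780009490000b800097e0000be00094d00007600095a0000bd0002f4000074,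 nat_lit 0x96900009f00096d00008b000b460000d200096100007900095d0000b90009960000bf0009650000770002f80000740009590000bc, nat_lit 0x9810000a2000985000088000b2e0000d100097100007a0009750000ba00097900007600097d0000bc00098a0000bf0002fc000075, nat_lit 0x99d0000a30009a1000089000b160000d000099100007b00098d0000bb0009990000770009950000bd0003000000750009890000be]
noncomputable def PF_b9_L3 : List ℕ := [nat_lit 0x9ad0000a4000bae0000d60009b100008f0009fa0000c40009a50000840009d20000c20009a900007e0009b60000c100030400007c, nat_lit 0x9c10000a5000bce0000d70009c500008e000a0e0000c50009b90000850009e60000c30009bd00007f00030800007c0009b50000c0, nat_lit 0x9d50000a8000b760000d40009d900008d000a260000c60009c90000860009cd00007e0009d10000c00009de0000c300030c00007d, nat_lit 0x9ed0000a9000b920000d50009f100008c000a3e0000c70009e10000870009e900007f0009e50000c100031000007d0009dd0000c2, nat_lit 0xa010000a6000b420000d2000a0500008b0009f50000840009f90000c0000a2e0000c60009fd000082000a0a0000c5000314000080, nat_lit 0xa190000a7000b5e0000d3000a1d00008a000a11000085000a0d0000c1000a460000c7000a15000083000318000080000a090000c4,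 nat_lit 0xa310000aa000b120000d0000a35000089000a21000086000a250000c2000a29000082000a2d0000c4000a3a0000c700031c000081, nat_lit 0xa4d0000ab000b2a0000d1000a51000088000a41000087000a3d0000c3000a49000083000a450000c5000320000081000a390000c6, nat_lit 0xb0e0000d0000a5d0000aa000a610000a3000aaa0000cc000a55000098000a820000ca000a59000092000a660000c9000324000090, nat_lit 0xb260000d1000a710000ab000a750000a2000abe0000cd000a69000099000a960000cb000a6d000093000328000090000a650000c8, nat_lit 0xb720000d4000a850000a8000a890000a1000ad60000ce000a7900009a000a7d000092000a810000c8000a8e0000cb00032c000091, nat_lit 0xb8e0000d5000a9d0000a9000aa10000a0000aee0000cf000a9100009b000a99000093000a950000c9000330000091000a8d0000ca, nat_lit 0xb3e0000d2000ab10000a6000ab500009f000aa5000098000aa90000c8000ade0000ce000aad000096000aba0000cd000334000094, nat_lit 0xb5a0000d3000ac90000a7000acd00009e000ac1000099000abd0000c9000af60000cf000ac5000097000338000094000ab90000cc, nat_lit 0xbaa0000d6000ae10000a4000ae500009d000ad100009a000ad50000ca000ad9000096000add0000cc000aea0000cf00033c000095,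 nat_lit 0xbca0000d7000afd0000a5000b0100009c000af100009b000aed0000cb000af9000097000af50000cd000340000095000ae90000ce, nat_lit 0xb0d0000c8000b110000c6000b150000bf000b6a0000d4000b050000b4000b3a0000d2000b090000ae000b1a0000d10003440000ac, nat_lit 0xb250000c9000b290000c7000b2d0000be000b820000d5000b1d0000b5000b520000d3000b210000af0003480000ac000b190000d0, nat_lit 0xb3d0000cc000b410000c4000b450000bd000b9e0000d6000b310000b6000b350000ae000b390000d0000b4a0000d300034c0000ad, nat_lit 0xb590000cd000b5d0000c5000b610000bc000bba0000d7000b4d0000b7000b550000af000b510000d10003500000ad000b490000d2, nat_lit 0xb710000ca000b750000c2000b790000bb000b650000b4000b690000d0000ba60000d6000b6d0000b2000b7e0000d50003540000b0, nat_lit 0xb8d0000cb000b910000c3000b950000ba000b850000b5000b810000d1000bc20000d7000b890000b30003580000b0000b7d0000d4, nat_lit 0xba90000ce000bad0000c0000bb10000b9000b990000b6000b9d0000d2000ba10000b2000ba50000d4000bb60000d700035c0000b1, nat_lit 0xbc90000cf000bcd0000c1000bd10000b8000bbd0000b7000bb90000d3000bc50000b3000bc10000d50003600000b1000bb50000d6]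
noncomputable def PF_b9_L : List (List ℕ) := [PF_b9_L0, PF_b9_L1, PF_b9_L2, PF_b9_L3]
noncomputable def PF_b9_V : List ℕ := [(nat_lit 0x3f0000003e0000003d0000003c0000003b0000003a000000390000003800000037000000360000003500000034000000330000003200000031000000300000002f0000002e0000002d0000002c0000002b0000002a000000290000002800000027000000260000002500000024000000230000002200000021000000200000001f0000001e0000001d0000001c0000001b0000001a000000190000001800000017000000160000001500000014000000130000001200000011000000100000000f0000000e0000000d0000000c0000000b0000000a00000009000000080000000700000006000000050000000400000003000000020000000100000000),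
  (nat_lit 0x7f0000007e0000007d0000007c0000007b0000007a000000790000007800000077000000760000007500000074000000730000007200000071000000700000006f0000006e0000006d0000006c0000006b0000006a000000690000006800000067000000660000006500000064000000630000006200000061000000600000005f0000005e0000005d0000005c0000005b0000005a000000590000005800000057000000560000005500000054000000530000005200000051000000500000004f0000004e0000004d0000004c0000004b0000004a00000049000000480000004700000046000000450000004400000043000000420000004100000040),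
  (nat_lit 0xbf000000be000000bd000000bc000000bb000000ba000000b9000000b8000000b7000000b6000000b5000000b4000000b3000000b2000000b1000000b0000000af000000ae000000ad000000ac000000ab000000aa000000a9000000a8000000a7000000a6000000a5000000a4000000a3000000a2000000a1000000a00000009f0000009e0000009d0000009c0000009b0000009a000000990000009800000097000000960000009500000094000000930000009200000091000000900000008f0000008e0000008d0000008c0000008b0000008a00000089000000880000008700000086000000850000008400000083000000820000008100000080),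
  (nat_lit 0xd7000000d6000000d5000000d4000000d3000000d2000000d1000000d0000000cf000000ce000000cd000000cc000000cb000000ca000000c9000000c8000000c7000000c6000000c5000000c4000000c3000000c2000000c1000000c0)]
noncomputable def PF_b9_D : H26.Dag := ⟨[0,1,2,4,3,6,5,8,7], [[0,0],
  [1,1],
  [2,2],
  [3,4],
  [4,3],
  [5,6],
  [6,5],
  [7,8],
  [8,7],
  [3,3,3],
  [5,5,5],
  [7,7,7],
  [6,4,5,3],
  [8,4,7,3],
  [8,6,7,5],
  [8,0,7,0],
  [6,0,3,0],
  [1,0,1,0],
  [8,1,7,1],
  [3,1,3,1],
  [5,1,5,1],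
  [3,2,3,2],
  [5,2,5,2],
  [7,2,7,2],
  [0,2,0,2],
  [1,2,1,2]], [], PF_b9_defs, PF_b9_recs⟩
theorem PF_b9_c : PF_b9_D.checkTab PF_b9_S 216 9 PF_b9_V PF_b9_L = true := by decide +kernel
theorem PF_b9 : Bound PF_Rl 9 216 :=
  bound_dag (Bound.zero PF_Rl) (K := 9) (J := [0,1,2,3,4,5,6,7,8,11,12,13,14,15,16,22,23,24,25,26,27,29,30,31,32,34]) (by decide +kernel) PF_b9_c (by decide +kernel)
noncomputable def PF_b11_S0 : List ℕ := [nat_lit 0x1, nat_lit 0x1, nat_lit 0x1, nat_lit 0x1, nat_lit 0x1, nat_lit 0x1, nat_lit 0x7000015000008000018, nat_lit 0x700000d00000800001a, nat_lit 0x700001100000800001c, nat_lit 0x700000900000800c02a, nat_lit 0xb000008006016, nat_lit 0xb00000e00000c008018, nat_lit 0xb00001200000c00801a, nat_lit 0xb00001600000c00801c, nat_lit 0xb00000100000800a01e, nat_lit 0xb00000900000c00402a, nat_lit 0xf000021000010008022, nat_lit 0xf00001a000010008024, nat_lit 0xf00001e000010008026, nat_lit 0xf00002500001000402c, nat_lit 0x1300003a000010004020, nat_lit 0x1300002e000014008022,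 nat_lit 0x13000031000014008024, nat_lit 0x13000035000014008026, nat_lit 0x1300003d00001400402c, nat_lit 0x1300000b000005000008000010006028, nat_lit 0x17000065006016, nat_lit 0x17000046000018008018, nat_lit 0x1700004a00001800801a, nat_lit 0x1700004200001800801c, nat_lit 0x1700005100006900a01e, nat_lit 0x1700004d00001800402a, nat_lit 0x1700000f00002900001400006900a028]
noncomputable def PF_b11_S : List (List ℕ) := [PF_b11_S0]
noncomputable def PF_b11_defs : List ℕ := [(nat_lit 0xa00003001000020010000100a000000090000000000000)]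
noncomputable def PF_b11_recs : List ℕ := [(nat_lit 0x100005000050200005000050000005000050500005000050300005000050700005000050a00004000050a00003000040200004000040500004000040300004000040700004000040000003000040200003000030500003000030300003000030700003000030200002000020000001000020500002000020300002000020700002000020a0000100002020000100001080000100001060000100001040000100001070000000000050000000000030000000000020000000000010000000000000000000000)]
noncomputable def PF_b11_L0 : List ℕ := [nat_lit 0x100000000000500000000000900000000000d00000000000e00000000001100000000001200000000001500000000001600000000000700000100000b000002, nat_lit 0x3a00000200000f00000300002500000100001a00000100001900000100001e00000100001d00000100002200000100002100000100002a000002000008000000, nat_lit 0x3900000100001300000400003d00000200003100000200003200000200003500000200003600000200002d00000200002e00000200000c000000000029000001, nat_lit 0x5200000400001000000100004d00000300004500000300004600000300004900000300004a000003000041000003000042000003000066000004000017000005,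 nat_lit 0x5100000300001400000200006100000400005900000400005a00000400005d00000400005e00000400005500000400005600000400006a000005000065000003, nat_lit 0x7900000500008100000500007d00000500007100000500007200000500007500000500007600000500006d00000500006e000005000018000003000069000004]
noncomputable def PF_b11_L : List (List ℕ) := [PF_b11_L0]
noncomputable def PF_b11_V : List ℕ := [(nat_lit 0x50000000400000003000000020000000100000000)]
noncomputable def PF_b11_D : H26.Dag := ⟨[0,1,2,4,3,6,5,8,7,10,9], [[0,0],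
  [1,1],
  [2,2],
  [3,4],
  [4,3],
  [5,6],
  [6,5],
  [7,8],
  [8,7],
  [9,10],
  [10,9],
  [9,9,9],
  [4,10,7,9],
  [6,10,3,9],
  [8,10,5,9],
  [9,0,9,0],
  [1,0,1,0],
  [8,1,7,1],
  [3,1,3,1],
  [5,1,5,1],
  [9,1,9,1,9,1],
  [10,2,9,2],
  [1,2,1,2]], [0,1,2,3,4,5,6,7,8], PF_b11_defs, PF_b11_recs⟩
theorem PF_b11_c : PF_b11_D.checkTab PF_b11_S 6 11 PF_b11_V PF_b11_L = true := by decide +kernel
theorem PF_b11 : Bound PF_Rl 11 1296 :=
  bound_dag PF_b9 (K := 11) (J := [0,1,2,3,4,5,6,7,8,9,10,17,18,19,20,21,24,25,26,27,28,33,34]) (by decide +kernel) PF_b11_c (by decide +kernel)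
theorem PF_P : PModel (nat_lit 9) (nat_lit 4) (nat_lit 15) (nat_lit 0x876543210) PF_cs PF_Rl PF_L 1296 :=
  ⟨PkOK.of (by decide +kernel), by decide +kernel, by decide +kernel, PF_b11, ⟨PF_WW, by decide +kernel⟩,
    ⟨fun c => Nat.mod c (nat_lit 17191), by decide +kernel⟩⟩
noncomputable def PF_soc_t0 : ST := (.node (nat_lit 11310) (.node (nat_lit 5037) (.node (nat_lit 2890) (.node (nat_lit 1670) (.node (nat_lit 840) (.node (nat_lit 554) (.node (nat_lit 277) (.node (nat_lit 48) (.node (nat_lit 11) (.leaf (nat_lit 54)) (.leaf (nat_lit 0))) (.node (nat_lit 196) (.leaf (nat_lit 54)) (.node (nat_lit 202) (.leaf (nat_lit 0)) (.leaf (nat_lit 54))))) (.node (nat_lit 399) (.node (nat_lit 297) (.leaf (nat_lit 163)) (.node (nat_lit 302) (.leaf (nat_lit 54)) (.leaf (nat_lit 351)))) (.node (nat_lit 400) (.leaf (nat_lit 648)) (.node (nat_lit 548) (.leaf (nat_lit 54)) (.leaf (nat_lit 0)))))) (.node (nat_lit 680) (.node (nat_lit 632) (.node (nat_lit 628) (.leaf (nat_lit 54)) (.leaf (nat_lit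 163))) (.node (nat_lit 648) (.leaf (nat_lit 0)) (.node (nat_lit 654) (.leaf (nat_lit 54)) (.leaf (nat_lit 27))))) (.node (nat_lit 792) (.node (nat_lit 700) (.leaf (nat_lit 54)) (.node (nat_lit 701) (.leaf (nat_lit 171)) (.leaf (nat_lit 648)))) (.node (nat_lit 795) (.leaf (nat_lit 54)) (.node (nat_lit 828) (.leaf (nat_lit 11)) (.leaf (nat_lit 54))))))) (.node (nat_lit 1319) (.node (nat_lit 1008) (.node (nat_lit 936) (.node (nat_lit 857) (.leaf (nat_lit 648)) (.leaf (nat_lit 54))) (.node (nat_lit 943) (.leaf (nat_lit 648)) (.node (nat_lit 971) (.leaf (nat_lit 54)) (.leaf (nat_lit 0))))) (.node (nat_lit 1200) (.node (nat_lit 1052) (.leaf (nat_lit 54)) (.node (nat_lit 1072) (.leaf (nat_lit 163)) (.leaf (nat_lit 54)))) (.node (nat_lit 1226) (.leaf (nat_lit 0)) (.node (nat_lit 1287) (.leaf (nat_lit 54)) (.leaf (nat_lit 648)))))) (.node (nat_lit 1480) (.node (nat_lit 1347) (.node (nat_lit 1323) (.leaf (nat_lit 54)) (.node (nat_lit 1335) (.leaf (nat_lit 0)) (.leaf (nat_lit 648))))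 (.node (nat_lit 1403) (.leaf (nat_lit 54)) (.node (nat_lit 1476) (.leaf (nat_lit 163)) (.leaf (nat_lit 648))))) (.node (nat_lit 1588) (.node (nat_lit 1544) (.leaf (nat_lit 54)) (.node (nat_lit 1552) (.leaf (nat_lit 648)) (.leaf (nat_lit 54)))) (.node (nat_lit 1598) (.leaf (nat_lit 171)) (.node (nat_lit 1664) (.leaf (nat_lit 54)) (.leaf (nat_lit 0)))))))) (.node (nat_lit 2370) (.node (nat_lit 2047) (.node (nat_lit 1872) (.node (nat_lit 1712) (.node (nat_lit 1685) (.leaf (nat_lit 54)) (.leaf (nat_lit 648))) (.node (nat_lit 1805) (.leaf (nat_lit 54)) (.node (nat_lit 1831) (.leaf (nat_lit 0)) (.leaf (nat_lit 54))))) (.node (nat_lit 1944) (.node (nat_lit 1878) (.leaf (nat_lit 648)) (.node (nat_lit 1940) (.leaf (nat_lit 54)) (.leaf (nat_lit 163)))) (.node (nat_lit 1978) (.leaf (nat_lit 0)) (.node (nat_lit 2013) (.leaf (nat_lit 54)) (.leaf (nat_lit 648)))))) (.node (nat_lit 2157) (.node (nat_lit 2074) (.node (nat_lit 2062) (.leaf (nat_lit 54)) (.leaf (nat_lit 648))) (.node (nat_lit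 2112) (.leaf (nat_lit 54)) (.node (nat_lit 2137) (.leaf (nat_lit 351)) (.leaf (nat_lit 54))))) (.node (nat_lit 2255) (.node (nat_lit 2207) (.leaf (nat_lit 0)) (.node (nat_lit 2223) (.leaf (nat_lit 54)) (.leaf (nat_lit 648)))) (.node (nat_lit 2363) (.leaf (nat_lit 54)) (.node (nat_lit 2364) (.leaf (nat_lit 171)) (.leaf (nat_lit 648))))))) (.node (nat_lit 2621) (.node (nat_lit 2534) (.node (nat_lit 2390) (.node (nat_lit 2376) (.leaf (nat_lit 54)) (.leaf (nat_lit 351))) (.node (nat_lit 2439) (.leaf (nat_lit 648)) (.node (nat_lit 2451) (.leaf (nat_lit 0)) (.leaf (nat_lit 54))))) (.node (nat_lit 2584) (.node (nat_lit 2558) (.leaf (nat_lit 0)) (.node (nat_lit 2580) (.leaf (nat_lit 54)) (.leaf (nat_lit 0)))) (.node (nat_lit 2599) (.leaf (nat_lit 54)) (.node (nat_lit 2606) (.leaf (nat_lit 648)) (.leaf (nat_lit 54)))))) (.node (nat_lit 2717) (.node (nat_lit 2647) (.node (nat_lit 2630) (.leaf (nat_lit 648)) (.node (nat_lit 2633) (.leaf (nat_lit 166)) (.leaf (nat_lit 54)))) (.node (nat_lit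 2659) (.leaf (nat_lit 648)) (.node (nat_lit 2715) (.leaf (nat_lit 54)) (.leaf (nat_lit 163))))) (.node (nat_lit 2849) (.node (nat_lit 2776) (.leaf (nat_lit 648)) (.node (nat_lit 2788) (.leaf (nat_lit 54)) (.leaf (nat_lit 648)))) (.node (nat_lit 2856) (.leaf (nat_lit 54)) (.node (nat_lit 2863) (.leaf (nat_lit 648)) (.leaf (nat_lit 27))))))))) (.node (nat_lit 3918) (.node (nat_lit 3468) (.node (nat_lit 3117) (.node (nat_lit 2997) (.node (nat_lit 2935) (.node (nat_lit 2932) (.leaf (nat_lit 54)) (.leaf (nat_lit 0))) (.node (nat_lit 2976) (.leaf (nat_lit 54)) (.node (nat_lit 2982) (.leaf (nat_lit 0)) (.leaf (nat_lit 54))))) (.node (nat_lit 3057) (.node (nat_lit 3010) (.leaf (nat_lit 648)) (.node (nat_lit 3056) (.leaf (nat_lit 54)) (.leaf (nat_lit 27)))) (.node (nat_lit 3094) (.leaf (nat_lit 54)) (.node (nat_lit 3102) (.leaf (nat_lit 648)) (.leaf (nat_lit 54)))))) (.node (nat_lit 3235) (.node (nat_lit 3143) (.node (nat_lit 3139) (.leaf (nat_lit 0)) (.leaf (nat_lit 648))) (.node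 (nat_lit 3197) (.leaf (nat_lit 54)) (.node (nat_lit 3216) (.leaf (nat_lit 11)) (.leaf (nat_lit 54))))) (.node (nat_lit 3359) (.node (nat_lit 3241) (.leaf (nat_lit 648)) (.node (nat_lit 3327) (.leaf (nat_lit 54)) (.leaf (nat_lit 0)))) (.node (nat_lit 3374) (.leaf (nat_lit 54)) (.node (nat_lit 3386) (.leaf (nat_lit 648)) (.leaf (nat_lit 54))))))) (.node (nat_lit 3682) (.node (nat_lit 3535) (.node (nat_lit 3492) (.node (nat_lit 3474) (.leaf (nat_lit 0)) (.leaf (nat_lit 54))) (.node (nat_lit 3494) (.leaf (nat_lit 648)) (.node (nat_lit 3528) (.leaf (nat_lit 0)) (.leaf (nat_lit 54))))) (.node (nat_lit 3608) (.node (nat_lit 3549) (.leaf (nat_lit 648)) (.node (nat_lit 3596) (.leaf (nat_lit 171)) (.leaf (nat_lit 54)))) (.node (nat_lit 3667) (.leaf (nat_lit 0)) (.node (nat_lit 3676) (.leaf (nat_lit 54)) (.leaf (nat_lit 648)))))) (.node (nat_lit 3778) (.node (nat_lit 3751) (.node (nat_lit 3725) (.leaf (nat_lit 54)) (.node (nat_lit 3737) (.leaf (nat_lit 0)) (.leaf (nat_lit 54)))) (.node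 (nat_lit 3763) (.leaf (nat_lit 0)) (.node (nat_lit 3775) (.leaf (nat_lit 54)) (.leaf (nat_lit 324))))) (.node (nat_lit 3831) (.node (nat_lit 3820) (.leaf (nat_lit 54)) (.node (nat_lit 3826) (.leaf (nat_lit 0)) (.leaf (nat_lit 54)))) (.node (nat_lit 3850) (.leaf (nat_lit 27)) (.node (nat_lit 3892) (.leaf (nat_lit 54)) (.leaf (nat_lit 0)))))))) (.node (nat_lit 4386) (.node (nat_lit 4231) (.node (nat_lit 3994) (.node (nat_lit 3933) (.node (nat_lit 3926) (.leaf (nat_lit 54)) (.leaf (nat_lit 351))) (.node (nat_lit 3945) (.leaf (nat_lit 648)) (.node (nat_lit 3972) (.leaf (nat_lit 54)) (.leaf (nat_lit 11))))) (.node (nat_lit 4114) (.node (nat_lit 4029) (.leaf (nat_lit 54)) (.node (nat_lit 4102) (.leaf (nat_lit 648)) (.leaf (nat_lit 0)))) (.node (nat_lit 4171) (.leaf (nat_lit 54)) (.node (nat_lit 4177) (.leaf (nat_lit 648)) (.leaf (nat_lit 54)))))) (.node (nat_lit 4322) (.node (nat_lit 4243) (.node (nat_lit 4242) (.leaf (nat_lit 166)) (.leaf (nat_lit 54))) (.node (nat_lit 4247) (.leaf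 (nat_lit 0)) (.node (nat_lit 4310) (.leaf (nat_lit 54)) (.leaf (nat_lit 648))))) (.node (nat_lit 4368) (.node (nat_lit 4324) (.leaf (nat_lit 54)) (.node (nat_lit 4337) (.leaf (nat_lit 171)) (.leaf (nat_lit 54)))) (.node (nat_lit 4371) (.leaf (nat_lit 27)) (.node (nat_lit 4380) (.leaf (nat_lit 54)) (.leaf (nat_lit 648))))))) (.node (nat_lit 4639) (.node (nat_lit 4509) (.node (nat_lit 4440) (.node (nat_lit 4406) (.leaf (nat_lit 54)) (.leaf (nat_lit 648))) (.node (nat_lit 4451) (.leaf (nat_lit 54)) (.node (nat_lit 4491) (.leaf (nat_lit 648)) (.leaf (nat_lit 54))))) (.node (nat_lit 4553) (.node (nat_lit 4512) (.leaf (nat_lit 11)) (.node (nat_lit 4547) (.leaf (nat_lit 54)) (.leaf (nat_lit 648)))) (.node (nat_lit 4595) (.leaf (nat_lit 54)) (.node (nat_lit 4632) (.leaf (nat_lit 0)) (.leaf (nat_lit 54)))))) (.node (nat_lit 4804) (.node (nat_lit 4720) (.node (nat_lit 4673) (.leaf (nat_lit 0)) (.node (nat_lit 4719) (.leaf (nat_lit 54)) (.leaf (nat_lit 27)))) (.node (nat_lit 4780) (.leaf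 (nat_lit 54)) (.node (nat_lit 4786) (.leaf (nat_lit 0)) (.leaf (nat_lit 54))))) (.node (nat_lit 4889) (.node (nat_lit 4832) (.leaf (nat_lit 648)) (.node (nat_lit 4860) (.leaf (nat_lit 54)) (.leaf (nat_lit 11)))) (.node (nat_lit 5000) (.leaf (nat_lit 54)) (.node (nat_lit 5022) (.leaf (nat_lit 351)) (.leaf (nat_lit 54)))))))))) (.node (nat_lit 8309) (.node (nat_lit 6435) (.node (nat_lit 5555) (.node (nat_lit 5281) (.node (nat_lit 5144) (.node (nat_lit 5117) (.node (nat_lit 5049) (.leaf (nat_lit 0)) (.leaf (nat_lit 54))) (.node (nat_lit 5119) (.leaf (nat_lit 163)) (.node (nat_lit 5143) (.leaf (nat_lit 166)) (.leaf (nat_lit 27))))) (.node (nat_lit 5232) (.node (nat_lit 5158) (.leaf (nat_lit 648)) (.node (nat_lit 5212) (.leaf (nat_lit 0)) (.leaf (nat_lit 171)))) (.node (nat_lit 5275) (.leaf (nat_lit 54)) (.node (nat_lit 5280) (.leaf (nat_lit 0)) (.leaf (nat_lit 652)))))) (.node (nat_lit 5483) (.node (nat_lit 5306) (.node (nat_lit 5284) (.leaf (nat_lit 54)) (.leaf (nat_lit 11)))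 (.node (nat_lit 5414) (.leaf (nat_lit 54)) (.node (nat_lit 5426) (.leaf (nat_lit 0)) (.leaf (nat_lit 54))))) (.node (nat_lit 5527) (.node (nat_lit 5489) (.leaf (nat_lit 648)) (.node (nat_lit 5494) (.leaf (nat_lit 54)) (.leaf (nat_lit 27)))) (.node (nat_lit 5543) (.leaf (nat_lit 54)) (.node (nat_lit 5544) (.leaf (nat_lit 166)) (.leaf (nat_lit 54))))))) (.node (nat_lit 6058) (.node (nat_lit 5698) (.node (nat_lit 5635) (.node (nat_lit 5592) (.leaf (nat_lit 0)) (.leaf (nat_lit 54))) (.node (nat_lit 5660) (.leaf (nat_lit 11)) (.node (nat_lit 5692) (.leaf (nat_lit 54)) (.leaf (nat_lit 648))))) (.node (nat_lit 5936) (.node (nat_lit 5894) (.leaf (nat_lit 54)) (.node (nat_lit 5919) (.leaf (nat_lit 163)) (.leaf (nat_lit 648)))) (.node (nat_lit 5987) (.leaf (nat_lit 54)) (.node (nat_lit 6031) (.leaf (nat_lit 171)) (.leaf (nat_lit 27)))))) (.node (nat_lit 6173) (.node (nat_lit 6160) (.node (nat_lit 6128) (.leaf (nat_lit 54)) (.node (nat_lit 6144) (.leaf (nat_lit 648)) (.leaf (nat_lit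 54)))) (.node (nat_lit 6169) (.leaf (nat_lit 0)) (.node (nat_lit 6172) (.leaf (nat_lit 54)) (.leaf (nat_lit 11))))) (.node (nat_lit 6336) (.node (nat_lit 6182) (.leaf (nat_lit 171)) (.node (nat_lit 6248) (.leaf (nat_lit 54)) (.leaf (nat_lit 0)))) (.node (nat_lit 6429) (.leaf (nat_lit 54)) (.node (nat_lit 6431) (.leaf (nat_lit 163)) (.leaf (nat_lit 166)))))))) (.node (nat_lit 7248) (.node (nat_lit 6856) (.node (nat_lit 6587) (.node (nat_lit 6450) (.node (nat_lit 6444) (.leaf (nat_lit 54)) (.leaf (nat_lit 0))) (.node (nat_lit 6467) (.leaf (nat_lit 54)) (.node (nat_lit 6488) (.leaf (nat_lit 648)) (.leaf (nat_lit 54))))) (.node (nat_lit 6724) (.node (nat_lit 6593) (.leaf (nat_lit 0)) (.node (nat_lit 6667) (.leaf (nat_lit 54)) (.leaf (nat_lit 163)))) (.node (nat_lit 6806) (.leaf (nat_lit 54)) (.node (nat_lit 6807) (.leaf (nat_lit 27)) (.leaf (nat_lit 648)))))) (.node (nat_lit 6975) (.node (nat_lit 6944) (.node (nat_lit 6880) (.leaf (nat_lit 54)) (.leaf (nat_lit 0))) (.node (nat_lit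 6947) (.leaf (nat_lit 54)) (.node (nat_lit 6948) (.leaf (nat_lit 11)) (.leaf (nat_lit 171))))) (.node (nat_lit 7205) (.node (nat_lit 7023) (.leaf (nat_lit 54)) (.node (nat_lit 7076) (.leaf (nat_lit 0)) (.leaf (nat_lit 54)))) (.node (nat_lit 7206) (.leaf (nat_lit 648)) (.node (nat_lit 7219) (.leaf (nat_lit 163)) (.leaf (nat_lit 0))))))) (.node (nat_lit 7750) (.node (nat_lit 7472) (.node (nat_lit 7376) (.node (nat_lit 7301) (.leaf (nat_lit 54)) (.leaf (nat_lit 648))) (.node (nat_lit 7392) (.leaf (nat_lit 54)) (.node (nat_lit 7399) (.leaf (nat_lit 27)) (.leaf (nat_lit 54))))) (.node (nat_lit 7594) (.node (nat_lit 7474) (.leaf (nat_lit 0)) (.node (nat_lit 7582) (.leaf (nat_lit 54)) (.leaf (nat_lit 648)))) (.node (nat_lit 7640) (.leaf (nat_lit 54)) (.node (nat_lit 7678) (.leaf (nat_lit 351)) (.leaf (nat_lit 648)))))) (.node (nat_lit 7986) (.node (nat_lit 7911) (.node (nat_lit 7836) (.leaf (nat_lit 54)) (.node (nat_lit 7851) (.leaf (nat_lit 171)) (.leaf (nat_lit 54)))) (.node (nat_lit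 7971) (.leaf (nat_lit 0)) (.node (nat_lit 7979) (.leaf (nat_lit 54)) (.leaf (nat_lit 163))))) (.node (nat_lit 8151) (.node (nat_lit 8053) (.leaf (nat_lit 54)) (.node (nat_lit 8076) (.leaf (nat_lit 0)) (.leaf (nat_lit 648)))) (.node (nat_lit 8192) (.leaf (nat_lit 54)) (.node (nat_lit 8256) (.leaf (nat_lit 0)) (.leaf (nat_lit 54))))))))) (.node (nat_lit 9925) (.node (nat_lit 9303) (.node (nat_lit 8698) (.node (nat_lit 8546) (.node (nat_lit 8415) (.node (nat_lit 8360) (.leaf (nat_lit 0)) (.leaf (nat_lit 54))) (.node (nat_lit 8434) (.leaf (nat_lit 351)) (.node (nat_lit 8543) (.leaf (nat_lit 54)) (.leaf (nat_lit 648))))) (.node (nat_lit 8611) (.node (nat_lit 8552) (.leaf (nat_lit 54)) (.node (nat_lit 8578) (.leaf (nat_lit 648)) (.leaf (nat_lit 54)))) (.node (nat_lit 8672) (.leaf (nat_lit 171)) (.node (nat_lit 8686) (.leaf (nat_lit 54)) (.leaf (nat_lit 0)))))) (.node (nat_lit 8872) (.node (nat_lit 8761) (.node (nat_lit 8752) (.leaf (nat_lit 54)) (.leaf (nat_lit 648))) (.node (nat_lit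 8828) (.leaf (nat_lit 54)) (.node (nat_lit 8832) (.leaf (nat_lit 0)) (.leaf (nat_lit 54))))) (.node (nat_lit 8970) (.node (nat_lit 8929) (.leaf (nat_lit 0)) (.node (nat_lit 8964) (.leaf (nat_lit 54)) (.leaf (nat_lit 648)))) (.node (nat_lit 9224) (.leaf (nat_lit 54)) (.node (nat_lit 9255) (.leaf (nat_lit 0)) (.leaf (nat_lit 54))))))) (.node (nat_lit 9649) (.node (nat_lit 9431) (.node (nat_lit 9321) (.node (nat_lit 9320) (.leaf (nat_lit 351)) (.leaf (nat_lit 27))) (.node (nat_lit 9365) (.leaf (nat_lit 54)) (.node (nat_lit 9416) (.leaf (nat_lit 0)) (.leaf (nat_lit 54))))) (.node (nat_lit 9575) (.node (nat_lit 9445) (.leaf (nat_lit 648)) (.node (nat_lit 9466) (.leaf (nat_lit 11)) (.leaf (nat_lit 54)))) (.node (nat_lit 9607) (.leaf (nat_lit 0)) (.node (nat_lit 9647) (.leaf (nat_lit 54)) (.leaf (nat_lit 0)))))) (.node (nat_lit 9742) (.node (nat_lit 9716) (.node (nat_lit 9701) (.leaf (nat_lit 54)) (.node (nat_lit 9707) (.leaf (nat_lit 171)) (.leaf (nat_lit 54)))) (.node (nat_lit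 9722) (.leaf (nat_lit 0)) (.node (nat_lit 9739) (.leaf (nat_lit 54)) (.leaf (nat_lit 648))))) (.node (nat_lit 9843) (.node (nat_lit 9814) (.leaf (nat_lit 0)) (.node (nat_lit 9829) (.leaf (nat_lit 54)) (.leaf (nat_lit 648)))) (.node (nat_lit 9859) (.leaf (nat_lit 54)) (.node (nat_lit 9865) (.leaf (nat_lit 0)) (.leaf (nat_lit 54)))))))) (.node (nat_lit 10491) (.node (nat_lit 10206) (.node (nat_lit 10032) (.node (nat_lit 9973) (.node (nat_lit 9958) (.leaf (nat_lit 648)) (.leaf (nat_lit 54))) (.node (nat_lit 9984) (.leaf (nat_lit 0)) (.node (nat_lit 9999) (.leaf (nat_lit 54)) (.leaf (nat_lit 0))))) (.node (nat_lit 10098) (.node (nat_lit 10078) (.leaf (nat_lit 54)) (.node (nat_lit 10079) (.leaf (nat_lit 351)) (.leaf (nat_lit 27)))) (.node (nat_lit 10140) (.leaf (nat_lit 54)) (.node (nat_lit 10143) (.leaf (nat_lit 0)) (.leaf (nat_lit 54)))))) (.node (nat_lit 10264) (.node (nat_lit 10218) (.node (nat_lit 10209) (.leaf (nat_lit 648)) (.node (nat_lit 10215) (.leaf (nat_lit 54)) (.leaf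 (nat_lit 675)))) (.node (nat_lit 10220) (.leaf (nat_lit 54)) (.node (nat_lit 10241) (.leaf (nat_lit 11)) (.leaf (nat_lit 54))))) (.node (nat_lit 10361) (.node (nat_lit 10302) (.leaf (nat_lit 351)) (.node (nat_lit 10350) (.leaf (nat_lit 648)) (.leaf (nat_lit 0)))) (.node (nat_lit 10479) (.leaf (nat_lit 54)) (.node (nat_lit 10490) (.leaf (nat_lit 166)) (.leaf (nat_lit 54))))))) (.node (nat_lit 10918) (.node (nat_lit 10633) (.node (nat_lit 10535) (.node (nat_lit 10495) (.leaf (nat_lit 0)) (.leaf (nat_lit 54))) (.node (nat_lit 10592) (.leaf (nat_lit 0)) (.node (nat_lit 10616) (.leaf (nat_lit 54)) (.leaf (nat_lit 27))))) (.node (nat_lit 10757) (.node (nat_lit 10700) (.leaf (nat_lit 54)) (.node (nat_lit 10739) (.leaf (nat_lit 648)) (.leaf (nat_lit 54)))) (.node (nat_lit 10804) (.leaf (nat_lit 11)) (.node (nat_lit 10887) (.leaf (nat_lit 54)) (.leaf (nat_lit 0)))))) (.node (nat_lit 11108) (.node (nat_lit 11028) (.node (nat_lit 10933) (.leaf (nat_lit 54)) (.node (nat_lit 10984) (.leaf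 (nat_lit 0)) (.leaf (nat_lit 54)))) (.node (nat_lit 11034) (.leaf (nat_lit 0)) (.node (nat_lit 11039) (.leaf (nat_lit 54)) (.leaf (nat_lit 351))))) (.node (nat_lit 11270) (.node (nat_lit 11129) (.leaf (nat_lit 11)) (.node (nat_lit 11251) (.leaf (nat_lit 54)) (.leaf (nat_lit 171)))) (.node (nat_lit 11285) (.leaf (nat_lit 54)) (.node (nat_lit 11309) (.leaf (nat_lit 0)) (.leaf (nat_lit 54))))))))))) (.node (nat_lit 16906) (.node (nat_lit 14227) (.node (nat_lit 12735) (.node (nat_lit 11904) (.node (nat_lit 11588) (.node (nat_lit 11391) (.node (nat_lit 11365) (.node (nat_lit 11322) (.leaf (nat_lit 0)) (.leaf (nat_lit 54))) (.node (nat_lit 11379) (.leaf (nat_lit 163)) (.node (nat_lit 11385) (.leaf (nat_lit 648)) (.leaf (nat_lit 54))))) (.node (nat_lit 11528) (.node (nat_lit 11423) (.leaf (nat_lit 27)) (.node (nat_lit 11523) (.leaf (nat_lit 54)) (.leaf (nat_lit 0)))) (.node (nat_lit 11532) (.leaf (nat_lit 54)) (.node (nat_lit 11559) (.leaf (nat_lit 11)) (.leaf (nat_lit 54))))))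 (.node (nat_lit 11752) (.node (nat_lit 11662) (.node (nat_lit 11594) (.leaf (nat_lit 648)) (.leaf (nat_lit 54))) (.node (nat_lit 11674) (.leaf (nat_lit 0)) (.node (nat_lit 11742) (.leaf (nat_lit 54)) (.leaf (nat_lit 27))))) (.node (nat_lit 11815) (.node (nat_lit 11791) (.leaf (nat_lit 54)) (.node (nat_lit 11803) (.leaf (nat_lit 166)) (.leaf (nat_lit 0)))) (.node (nat_lit 11840) (.leaf (nat_lit 648)) (.node (nat_lit 11883) (.leaf (nat_lit 54)) (.leaf (nat_lit 11))))))) (.node (nat_lit 12334) (.node (nat_lit 12142) (.node (nat_lit 11960) (.node (nat_lit 11927) (.leaf (nat_lit 54)) (.leaf (nat_lit 351))) (.node (nat_lit 12024) (.leaf (nat_lit 54)) (.node (nat_lit 12025) (.leaf (nat_lit 648)) (.leaf (nat_lit 54))))) (.node (nat_lit 12279) (.node (nat_lit 12144) (.leaf (nat_lit 163)) (.node (nat_lit 12192) (.leaf (nat_lit 0)) (.leaf (nat_lit 54)))) (.node (nat_lit 12296) (.leaf (nat_lit 27)) (.node (nat_lit 12325) (.leaf (nat_lit 54)) (.leaf (nat_lit 171)))))) (.node (nat_lit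 12489) (.node (nat_lit 12420) (.node (nat_lit 12352) (.leaf (nat_lit 54)) (.node (nat_lit 12413) (.leaf (nat_lit 648)) (.leaf (nat_lit 54)))) (.node (nat_lit 12449) (.leaf (nat_lit 11)) (.node (nat_lit 12483) (.leaf (nat_lit 54)) (.leaf (nat_lit 0))))) (.node (nat_lit 12677) (.node (nat_lit 12496) (.leaf (nat_lit 54)) (.node (nat_lit 12520) (.leaf (nat_lit 0)) (.leaf (nat_lit 54)))) (.node (nat_lit 12679) (.leaf (nat_lit 163)) (.node (nat_lit 12702) (.leaf (nat_lit 166)) (.leaf (nat_lit 351)))))))) (.node (nat_lit 13454) (.node (nat_lit 13101) (.node (nat_lit 12944) (.node (nat_lit 12841) (.node (nat_lit 12835) (.leaf (nat_lit 54)) (.leaf (nat_lit 0))) (.node (nat_lit 12915) (.leaf (nat_lit 54)) (.node (nat_lit 12919) (.leaf (nat_lit 163)) (.leaf (nat_lit 0))))) (.node (nat_lit 13054) (.node (nat_lit 12960) (.leaf (nat_lit 54)) (.node (nat_lit 12972) (.leaf (nat_lit 648)) (.leaf (nat_lit 54)))) (.node (nat_lit 13056) (.leaf (nat_lit 27)) (.node (nat_lit 13064) (.leaf (nat_lit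 648)) (.leaf (nat_lit 54)))))) (.node (nat_lit 13197) (.node (nat_lit 13127) (.node (nat_lit 13115) (.leaf (nat_lit 648)) (.leaf (nat_lit 54))) (.node (nat_lit 13130) (.leaf (nat_lit 648)) (.node (nat_lit 13195) (.leaf (nat_lit 54)) (.leaf (nat_lit 11))))) (.node (nat_lit 13295) (.node (nat_lit 13223) (.leaf (nat_lit 648)) (.node (nat_lit 13271) (.leaf (nat_lit 54)) (.leaf (nat_lit 0)))) (.node (nat_lit 13336) (.leaf (nat_lit 54)) (.node (nat_lit 13337) (.leaf (nat_lit 648)) (.leaf (nat_lit 54))))))) (.node (nat_lit 13888) (.node (nat_lit 13623) (.node (nat_lit 13478) (.node (nat_lit 13456) (.leaf (nat_lit 163)) (.leaf (nat_lit 0))) (.node (nat_lit 13490) (.leaf (nat_lit 648)) (.node (nat_lit 13574) (.leaf (nat_lit 54)) (.leaf (nat_lit 648))))) (.node (nat_lit 13839) (.node (nat_lit 13807) (.leaf (nat_lit 54)) (.node (nat_lit 13831) (.leaf (nat_lit 0)) (.leaf (nat_lit 648)))) (.node (nat_lit 13875) (.leaf (nat_lit 54)) (.node (nat_lit 13880) (.leaf (nat_lit 171)) (.leaf (nat_lit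 54)))))) (.node (nat_lit 14076) (.node (nat_lit 13976) (.node (nat_lit 13905) (.leaf (nat_lit 351)) (.node (nat_lit 13972) (.leaf (nat_lit 54)) (.leaf (nat_lit 648)))) (.node (nat_lit 14015) (.leaf (nat_lit 54)) (.node (nat_lit 14064) (.leaf (nat_lit 648)) (.leaf (nat_lit 0))))) (.node (nat_lit 14159) (.node (nat_lit 14133) (.leaf (nat_lit 54)) (.node (nat_lit 14152) (.leaf (nat_lit 648)) (.leaf (nat_lit 54)))) (.node (nat_lit 14183) (.leaf (nat_lit 0)) (.node (nat_lit 14205) (.leaf (nat_lit 54)) (.leaf (nat_lit 0))))))))) (.node (nat_lit 15551) (.node (nat_lit 14793) (.node (nat_lit 14535) (.node (nat_lit 14284) (.node (nat_lit 14255) (.node (nat_lit 14231) (.leaf (nat_lit 163)) (.leaf (nat_lit 0))) (.node (nat_lit 14265) (.leaf (nat_lit 4)) (.node (nat_lit 14272) (.leaf (nat_lit 54)) (.leaf (nat_lit 648))))) (.node (nat_lit 14413) (.node (nat_lit 14368) (.leaf (nat_lit 54)) (.node (nat_lit 14398) (.leaf (nat_lit 648)) (.leaf (nat_lit 54)))) (.node (nat_lit 14453) (.leaf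 (nat_lit 648)) (.node (nat_lit 14509) (.leaf (nat_lit 54)) (.leaf (nat_lit 648)))))) (.node (nat_lit 14657) (.node (nat_lit 14594) (.node (nat_lit 14557) (.leaf (nat_lit 54)) (.leaf (nat_lit 0))) (.node (nat_lit 14632) (.leaf (nat_lit 54)) (.node (nat_lit 14651) (.leaf (nat_lit 976)) (.leaf (nat_lit 648))))) (.node (nat_lit 14719) (.node (nat_lit 14663) (.leaf (nat_lit 54)) (.node (nat_lit 14682) (.leaf (nat_lit 351)) (.leaf (nat_lit 54)))) (.node (nat_lit 14727) (.leaf (nat_lit 648)) (.node (nat_lit 14790) (.leaf (nat_lit 54)) (.leaf (nat_lit 648))))))) (.node (nat_lit 15153) (.node (nat_lit 14934) (.node (nat_lit 14866) (.node (nat_lit 14860) (.leaf (nat_lit 54)) (.leaf (nat_lit 648))) (.node (nat_lit 14886) (.leaf (nat_lit 54)) (.node (nat_lit 14920) (.leaf (nat_lit 648)) (.leaf (nat_lit 54))))) (.node (nat_lit 15119) (.node (nat_lit 14946) (.leaf (nat_lit 0)) (.node (nat_lit 15117) (.leaf (nat_lit 54)) (.leaf (nat_lit 648)))) (.node (nat_lit 15143) (.leaf (nat_lit 0))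 (.node (nat_lit 15150) (.leaf (nat_lit 648)) (.leaf (nat_lit 189)))))) (.node (nat_lit 15445) (.node (nat_lit 15310) (.node (nat_lit 15237) (.leaf (nat_lit 54)) (.node (nat_lit 15284) (.leaf (nat_lit 0)) (.leaf (nat_lit 648)))) (.node (nat_lit 15376) (.leaf (nat_lit 54)) (.node (nat_lit 15388) (.leaf (nat_lit 0)) (.leaf (nat_lit 54))))) (.node (nat_lit 15502) (.node (nat_lit 15456) (.leaf (nat_lit 648)) (.node (nat_lit 15494) (.leaf (nat_lit 27)) (.leaf (nat_lit 648)))) (.node (nat_lit 15517) (.leaf (nat_lit 54)) (.node (nat_lit 15545) (.leaf (nat_lit 0)) (.leaf (nat_lit 54)))))))) (.node (nat_lit 16107) (.node (nat_lit 15883) (.node (nat_lit 15639) (.node (nat_lit 15597) (.node (nat_lit 15568) (.leaf (nat_lit 351)) (.leaf (nat_lit 54))) (.node (nat_lit 15614) (.leaf (nat_lit 11)) (.node (nat_lit 15635) (.leaf (nat_lit 0)) (.leaf (nat_lit 648))))) (.node (nat_lit 15796) (.node (nat_lit 15755) (.leaf (nat_lit 54)) (.node (nat_lit 15761) (.leaf (nat_lit 0)) (.leaf (nat_lit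 54)))) (.node (nat_lit 15802) (.leaf (nat_lit 648)) (.node (nat_lit 15822) (.leaf (nat_lit 54)) (.leaf (nat_lit 648)))))) (.node (nat_lit 15969) (.node (nat_lit 15898) (.node (nat_lit 15894) (.leaf (nat_lit 54)) (.leaf (nat_lit 0))) (.node (nat_lit 15949) (.leaf (nat_lit 54)) (.node (nat_lit 15963) (.leaf (nat_lit 171)) (.leaf (nat_lit 648))))) (.node (nat_lit 16031) (.node (nat_lit 16012) (.leaf (nat_lit 54)) (.node (nat_lit 16024) (.leaf (nat_lit 0)) (.leaf (nat_lit 54)))) (.node (nat_lit 16062) (.leaf (nat_lit 648)) (.node (nat_lit 16065) (.leaf (nat_lit 162)) (.leaf (nat_lit 54))))))) (.node (nat_lit 16567) (.node (nat_lit 16232) (.node (nat_lit 16172) (.node (nat_lit 16113) (.leaf (nat_lit 0)) (.leaf (nat_lit 54))) (.node (nat_lit 16178) (.leaf (nat_lit 648)) (.node (nat_lit 16220) (.leaf (nat_lit 54)) (.leaf (nat_lit 648))))) (.node (nat_lit 16429) (.node (nat_lit 16326) (.leaf (nat_lit 54)) (.node (nat_lit 16391) (.leaf (nat_lit 351)) (.leaf (nat_lit 54)))) (.node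 (nat_lit 16457) (.leaf (nat_lit 648)) (.node (nat_lit 16549) (.leaf (nat_lit 54)) (.leaf (nat_lit 0)))))) (.node (nat_lit 16673) (.node (nat_lit 16629) (.node (nat_lit 16571) (.leaf (nat_lit 54)) (.node (nat_lit 16609) (.leaf (nat_lit 648)) (.leaf (nat_lit 54)))) (.node (nat_lit 16649) (.leaf (nat_lit 163)) (.node (nat_lit 16667) (.leaf (nat_lit 54)) (.leaf (nat_lit 648))))) (.node (nat_lit 16806) (.node (nat_lit 16768) (.leaf (nat_lit 54)) (.node (nat_lit 16783) (.leaf (nat_lit 27)) (.leaf (nat_lit 0)))) (.node (nat_lit 16818) (.leaf (nat_lit 648)) (.node (nat_lit 16900) (.leaf (nat_lit 54)) (.leaf (nat_lit 0)))))))))) (.node (nat_lit 20453) (.node (nat_lit 18648) (.node (nat_lit 17544) (.node (nat_lit 17114) (.node (nat_lit 16960) (.node (nat_lit 16919) (.node (nat_lit 16909) (.leaf (nat_lit 54)) (.leaf (nat_lit 11))) (.node (nat_lit 16926) (.leaf (nat_lit 54)) (.node (nat_lit 16947) (.leaf (nat_lit 0)) (.leaf (nat_lit 648))))) (.node (nat_lit 17067) (.node (nat_lit 17006)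 (.leaf (nat_lit 54)) (.node (nat_lit 17025) (.leaf (nat_lit 27)) (.leaf (nat_lit 54)))) (.node (nat_lit 17073) (.leaf (nat_lit 0)) (.node (nat_lit 17108) (.leaf (nat_lit 54)) (.leaf (nat_lit 648)))))) (.node (nat_lit 17287) (.node (nat_lit 17152) (.node (nat_lit 17147) (.leaf (nat_lit 54)) (.leaf (nat_lit 11))) (.node (nat_lit 17181) (.leaf (nat_lit 54)) (.node (nat_lit 17195) (.leaf (nat_lit 0)) (.leaf (nat_lit 54))))) (.node (nat_lit 17404) (.node (nat_lit 17324) (.leaf (nat_lit 351)) (.node (nat_lit 17336) (.leaf (nat_lit 0)) (.leaf (nat_lit 54)))) (.node (nat_lit 17417) (.leaf (nat_lit 163)) (.node (nat_lit 17499) (.leaf (nat_lit 54)) (.leaf (nat_lit 171))))))) (.node (nat_lit 17985) (.node (nat_lit 17712) (.node (nat_lit 17561) (.node (nat_lit 17558) (.leaf (nat_lit 648)) (.leaf (nat_lit 0))) (.node (nat_lit 17640) (.leaf (nat_lit 54)) (.node (nat_lit 17672) (.leaf (nat_lit 648)) (.leaf (nat_lit 0))))) (.node (nat_lit 17941) (.node (nat_lit 17883) (.leaf (nat_lit 54))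 (.node (nat_lit 17933) (.leaf (nat_lit 648)) (.leaf (nat_lit 54)))) (.node (nat_lit 17944) (.leaf (nat_lit 163)) (.node (nat_lit 17979) (.leaf (nat_lit 54)) (.leaf (nat_lit 648)))))) (.node (nat_lit 18415) (.node (nat_lit 18292) (.node (nat_lit 18212) (.leaf (nat_lit 54)) (.node (nat_lit 18218) (.leaf (nat_lit 0)) (.leaf (nat_lit 54)))) (.node (nat_lit 18318) (.leaf (nat_lit 163)) (.node (nat_lit 18336) (.leaf (nat_lit 27)) (.leaf (nat_lit 54))))) (.node (nat_lit 18481) (.node (nat_lit 18456) (.leaf (nat_lit 648)) (.node (nat_lit 18459) (.leaf (nat_lit 54)) (.leaf (nat_lit 11)))) (.node (nat_lit 18573) (.leaf (nat_lit 54)) (.node (nat_lit 18582) (.leaf (nat_lit 171)) (.leaf (nat_lit 54)))))))) (.node (nat_lit 19492) (.node (nat_lit 18950) (.node (nat_lit 18731) (.node (nat_lit 18716) (.node (nat_lit 18664) (.leaf (nat_lit 0)) (.leaf (nat_lit 54))) (.node (nat_lit 18717) (.leaf (nat_lit 163)) (.node (nat_lit 18718) (.leaf (nat_lit 648)) (.leaf (nat_lit 163))))) (.node (nat_lit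 18873) (.node (nat_lit 18736) (.leaf (nat_lit 0)) (.node (nat_lit 18867) (.leaf (nat_lit 54)) (.leaf (nat_lit 11)))) (.node (nat_lit 18904) (.leaf (nat_lit 54)) (.node (nat_lit 18911) (.leaf (nat_lit 27)) (.leaf (nat_lit 54)))))) (.node (nat_lit 19067) (.node (nat_lit 18986) (.node (nat_lit 18984) (.leaf (nat_lit 351)) (.leaf (nat_lit 0))) (.node (nat_lit 18987) (.leaf (nat_lit 54)) (.node (nat_lit 19011) (.leaf (nat_lit 0)) (.leaf (nat_lit 54))))) (.node (nat_lit 19233) (.node (nat_lit 19094) (.leaf (nat_lit 163)) (.node (nat_lit 19167) (.leaf (nat_lit 648)) (.leaf (nat_lit 0)))) (.node (nat_lit 19303) (.leaf (nat_lit 54)) (.node (nat_lit 19312) (.leaf (nat_lit 648)) (.leaf (nat_lit 54))))))) (.node (nat_lit 20087) (.node (nat_lit 19704) (.node (nat_lit 19604) (.node (nat_lit 19542) (.leaf (nat_lit 648)) (.leaf (nat_lit 54))) (.node (nat_lit 19625) (.leaf (nat_lit 163)) (.node (nat_lit 19701) (.leaf (nat_lit 54)) (.leaf (nat_lit 648))))) (.node (nat_lit 19872) (.node (nat_lit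 19761) (.leaf (nat_lit 0)) (.node (nat_lit 19821) (.leaf (nat_lit 54)) (.leaf (nat_lit 0)))) (.node (nat_lit 20040) (.leaf (nat_lit 54)) (.node (nat_lit 20078) (.leaf (nat_lit 351)) (.leaf (nat_lit 648)))))) (.node (nat_lit 20297) (.node (nat_lit 20168) (.node (nat_lit 20123) (.leaf (nat_lit 54)) (.node (nat_lit 20153) (.leaf (nat_lit 171)) (.leaf (nat_lit 54)))) (.node (nat_lit 20198) (.leaf (nat_lit 648)) (.node (nat_lit 20264) (.leaf (nat_lit 0)) (.leaf (nat_lit 648))))) (.node (nat_lit 20379) (.node (nat_lit 20312) (.leaf (nat_lit 54)) (.node (nat_lit 20323) (.leaf (nat_lit 0)) (.leaf (nat_lit 54)))) (.node (nat_lit 20380) (.leaf (nat_lit 163)) (.node (nat_lit 20386) (.leaf (nat_lit 648)) (.leaf (nat_lit 54))))))))) (.node (nat_lit 22142) (.node (nat_lit 21490) (.node (nat_lit 21206) (.node (nat_lit 20647) (.node (nat_lit 20479) (.node (nat_lit 20467) (.leaf (nat_lit 0)) (.leaf (nat_lit 54))) (.node (nat_lit 20482) (.leaf (nat_lit 0)) (.node (nat_lit 20596) (.leaf (nat_lit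 54)) (.leaf (nat_lit 0))))) (.node (nat_lit 21039) (.node (nat_lit 20830) (.leaf (nat_lit 54)) (.node (nat_lit 20842) (.leaf (nat_lit 0)) (.leaf (nat_lit 54)))) (.node (nat_lit 21041) (.leaf (nat_lit 648)) (.node (nat_lit 21155) (.leaf (nat_lit 54)) (.leaf (nat_lit 648)))))) (.node (nat_lit 21272) (.node (nat_lit 21219) (.node (nat_lit 21213) (.leaf (nat_lit 54)) (.leaf (nat_lit 171))) (.node (nat_lit 21251) (.leaf (nat_lit 54)) (.node (nat_lit 21257) (.leaf (nat_lit 648)) (.leaf (nat_lit 54))))) (.node (nat_lit 21367) (.node (nat_lit 21326) (.leaf (nat_lit 0)) (.node (nat_lit 21341) (.leaf (nat_lit 54)) (.leaf (nat_lit 648)))) (.node (nat_lit 21424) (.leaf (nat_lit 0)) (.node (nat_lit 21484) (.leaf (nat_lit 54)) (.leaf (nat_lit 0))))))) (.node (nat_lit 21845) (.node (nat_lit 21704) (.node (nat_lit 21609) (.node (nat_lit 21590) (.leaf (nat_lit 54)) (.leaf (nat_lit 351))) (.node (nat_lit 21624) (.leaf (nat_lit 54)) (.node (nat_lit 21661) (.leaf (nat_lit 0)) (.leaf (nat_lit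 54))))) (.node (nat_lit 21765) (.node (nat_lit 21718) (.leaf (nat_lit 27)) (.node (nat_lit 21750) (.leaf (nat_lit 648)) (.leaf (nat_lit 54)))) (.node (nat_lit 21816) (.leaf (nat_lit 0)) (.node (nat_lit 21840) (.leaf (nat_lit 54)) (.leaf (nat_lit 4)))))) (.node (nat_lit 21987) (.node (nat_lit 21927) (.node (nat_lit 21862) (.leaf (nat_lit 11)) (.node (nat_lit 21866) (.leaf (nat_lit 0)) (.leaf (nat_lit 54)))) (.node (nat_lit 21936) (.leaf (nat_lit 648)) (.node (nat_lit 21984) (.leaf (nat_lit 54)) (.leaf (nat_lit 328))))) (.node (nat_lit 22003) (.node (nat_lit 21988) (.leaf (nat_lit 54)) (.node (nat_lit 22001) (.leaf (nat_lit 171)) (.leaf (nat_lit 54)))) (.node (nat_lit 22009) (.leaf (nat_lit 0)) (.node (nat_lit 22116) (.leaf (nat_lit 54)) (.leaf (nat_lit 648)))))))) (.node (nat_lit 23148) (.node (nat_lit 22702) (.node (nat_lit 22364) (.node (nat_lit 22259) (.node (nat_lit 22145) (.leaf (nat_lit 0)) (.leaf (nat_lit 54))) (.node (nat_lit 22296) (.leaf (nat_lit 0)) (.node (nat_lit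 22325) (.leaf (nat_lit 54)) (.leaf (nat_lit 648))))) (.node (nat_lit 22502) (.node (nat_lit 22445) (.leaf (nat_lit 54)) (.node (nat_lit 22496) (.leaf (nat_lit 0)) (.leaf (nat_lit 54)))) (.node (nat_lit 22505) (.leaf (nat_lit 837)) (.node (nat_lit 22664) (.leaf (nat_lit 54)) (.leaf (nat_lit 351)))))) (.node (nat_lit 22877) (.node (nat_lit 22815) (.node (nat_lit 22714) (.leaf (nat_lit 648)) (.node (nat_lit 22797) (.leaf (nat_lit 54)) (.leaf (nat_lit 0)))) (.node (nat_lit 22822) (.leaf (nat_lit 54)) (.node (nat_lit 22876) (.leaf (nat_lit 0)) (.leaf (nat_lit 171))))) (.node (nat_lit 23010) (.node (nat_lit 22897) (.leaf (nat_lit 163)) (.node (nat_lit 23004) (.leaf (nat_lit 54)) (.leaf (nat_lit 648)))) (.node (nat_lit 23016) (.leaf (nat_lit 54)) (.node (nat_lit 23040) (.leaf (nat_lit 27)) (.leaf (nat_lit 54))))))) (.node (nat_lit 23489) (.node (nat_lit 23273) (.node (nat_lit 23157) (.node (nat_lit 23154) (.leaf (nat_lit 0)) (.leaf (nat_lit 54))) (.node (nat_lit 23174) (.leaf (nat_lit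 11)) (.node (nat_lit 23270) (.leaf (nat_lit 0)) (.leaf (nat_lit 486))))) (.node (nat_lit 23395) (.node (nat_lit 23315) (.leaf (nat_lit 54)) (.node (nat_lit 23321) (.leaf (nat_lit 0)) (.leaf (nat_lit 54)))) (.node (nat_lit 23416) (.leaf (nat_lit 11)) (.node (nat_lit 23440) (.leaf (nat_lit 54)) (.leaf (nat_lit 648)))))) (.node (nat_lit 23779) (.node (nat_lit 23651) (.node (nat_lit 23536) (.leaf (nat_lit 54)) (.node (nat_lit 23572) (.leaf (nat_lit 648)) (.leaf (nat_lit 0)))) (.node (nat_lit 23652) (.leaf (nat_lit 171)) (.node (nat_lit 23665) (.leaf (nat_lit 163)) (.leaf (nat_lit 54))))) (.node (nat_lit 23846) (.node (nat_lit 23808) (.leaf (nat_lit 648)) (.node (nat_lit 23837) (.leaf (nat_lit 54)) (.leaf (nat_lit 171)))) (.node (nat_lit 23875) (.leaf (nat_lit 54)) (.node (nat_lit 23881) (.leaf (nat_lit 648)) (.leaf (nat_lit 54))))))))))))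
noncomputable def PF_soc_t1 : ST := (.node (nat_lit 7505) (.node (nat_lit 4212) (.node (nat_lit 2620) (.node (nat_lit 1806) (.node (nat_lit 1530) (.node (nat_lit 1290) (.node (nat_lit 44) (.leaf (nat_lit 648)) (.node (nat_lit 97) (.leaf (nat_lit 324)) (.leaf (nat_lit 648)))) (.node (nat_lit 1305) (.node (nat_lit 1298) (.leaf (nat_lit 324)) (.leaf (nat_lit 648))) (.node (nat_lit 1313) (.leaf (nat_lit 324)) (.leaf (nat_lit 648))))) (.node (nat_lit 1568) (.node (nat_lit 1536) (.leaf (nat_lit 324)) (.node (nat_lit 1560) (.leaf (nat_lit 648)) (.leaf (nat_lit 324)))) (.node (nat_lit 1793) (.node (nat_lit 1785) (.leaf (nat_lit 648)) (.leaf (nat_lit 324))) (.node (nat_lit 1800) (.leaf (nat_lit 648)) (.leaf (nat_lit 324)))))) (.node (nat_lit 2264) (.node (nat_lit 1994) (.node (nat_lit 1904) (.leaf (nat_lit 648)) (.node (nat_lit 1936) (.leaf (nat_lit 0)) (.leaf (nat_lit 648)))) (.node (nat_lit 2234) (.node (nat_lit 2031) (.leaf (nat_lit 162)) (.leaf (nat_lit 648))) (.node (nat_lit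 2240) (.leaf (nat_lit 162)) (.leaf (nat_lit 648))))) (.node (nat_lit 2504) (.node (nat_lit 2489) (.node (nat_lit 2282) (.leaf (nat_lit 9)) (.leaf (nat_lit 648))) (.node (nat_lit 2502) (.leaf (nat_lit 162)) (.leaf (nat_lit 648)))) (.node (nat_lit 2605) (.node (nat_lit 2510) (.leaf (nat_lit 9)) (.leaf (nat_lit 648))) (.node (nat_lit 2606) (.leaf (nat_lit 324)) (.leaf (nat_lit 648))))))) (.node (nat_lit 3548) (.node (nat_lit 3176) (.node (nat_lit 2846) (.node (nat_lit 2631) (.leaf (nat_lit 324)) (.node (nat_lit 2845) (.leaf (nat_lit 648)) (.leaf (nat_lit 324)))) (.node (nat_lit 2936) (.node (nat_lit 2875) (.leaf (nat_lit 648)) (.leaf (nat_lit 324))) (.node (nat_lit 3100) (.leaf (nat_lit 648)) (.leaf (nat_lit 324))))) (.node (nat_lit 3324) (.node (nat_lit 3309) (.leaf (nat_lit 648)) (.node (nat_lit 3323) (.leaf (nat_lit 324)) (.leaf (nat_lit 648)))) (.node (nat_lit 3522) (.node (nat_lit 3426) (.leaf (nat_lit 324)) (.leaf (nat_lit 648))) (.node (nat_lit 3537) (.leaf (nat_lit 324))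 (.leaf (nat_lit 0)))))) (.node (nat_lit 3810) (.node (nat_lit 3579) (.node (nat_lit 3549) (.leaf (nat_lit 648)) (.node (nat_lit 3563) (.leaf (nat_lit 324)) (.leaf (nat_lit 648)))) (.node (nat_lit 3762) (.node (nat_lit 3585) (.leaf (nat_lit 324)) (.leaf (nat_lit 648))) (.node (nat_lit 3792) (.leaf (nat_lit 0)) (.leaf (nat_lit 324))))) (.node (nat_lit 4032) (.node (nat_lit 3824) (.node (nat_lit 3819) (.leaf (nat_lit 648)) (.leaf (nat_lit 324))) (.node (nat_lit 4017) (.leaf (nat_lit 648)) (.leaf (nat_lit 324)))) (.node (nat_lit 4197) (.node (nat_lit 4064) (.leaf (nat_lit 0)) (.leaf (nat_lit 648))) (.node (nat_lit 4198) (.leaf (nat_lit 324)) (.leaf (nat_lit 648)))))))) (.node (nat_lit 5352) (.node (nat_lit 4837) (.node (nat_lit 4476) (.node (nat_lit 4423) (.node (nat_lit 4221) (.leaf (nat_lit 324)) (.node (nat_lit 4410) (.leaf (nat_lit 648)) (.leaf (nat_lit 324)))) (.node (nat_lit 4438) (.node (nat_lit 4425) (.leaf (nat_lit 648)) (.leaf (nat_lit 324))) (.node (nat_lit 4467) (.leaf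 (nat_lit 648)) (.leaf (nat_lit 324))))) (.node (nat_lit 4692) (.node (nat_lit 4650) (.leaf (nat_lit 648)) (.node (nat_lit 4685) (.leaf (nat_lit 324)) (.leaf (nat_lit 648)))) (.node (nat_lit 4707) (.node (nat_lit 4700) (.leaf (nat_lit 324)) (.leaf (nat_lit 648))) (.node (nat_lit 4725) (.leaf (nat_lit 324)) (.leaf (nat_lit 648)))))) (.node (nat_lit 5098) (.node (nat_lit 4863) (.node (nat_lit 4849) (.leaf (nat_lit 324)) (.node (nat_lit 4852) (.leaf (nat_lit 648)) (.leaf (nat_lit 324)))) (.node (nat_lit 4925) (.node (nat_lit 4905) (.leaf (nat_lit 648)) (.leaf (nat_lit 324))) (.node (nat_lit 5077) (.leaf (nat_lit 648)) (.leaf (nat_lit 324))))) (.node (nat_lit 5180) (.node (nat_lit 5113) (.node (nat_lit 5107) (.leaf (nat_lit 648)) (.leaf (nat_lit 324))) (.node (nat_lit 5114) (.leaf (nat_lit 648)) (.leaf (nat_lit 162)))) (.node (nat_lit 5338) (.node (nat_lit 5332) (.leaf (nat_lit 648)) (.leaf (nat_lit 324))) (.node (nat_lit 5347) (.leaf (nat_lit 648)) (.leaf (nat_lit 324)))))))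 (.node (nat_lit 6228) (.node (nat_lit 5624) (.node (nat_lit 5384) (.node (nat_lit 5354) (.leaf (nat_lit 648)) (.node (nat_lit 5367) (.leaf (nat_lit 162)) (.leaf (nat_lit 648)))) (.node (nat_lit 5609) (.node (nat_lit 5429) (.leaf (nat_lit 54)) (.leaf (nat_lit 648))) (.node (nat_lit 5622) (.leaf (nat_lit 162)) (.leaf (nat_lit 648))))) (.node (nat_lit 5753) (.node (nat_lit 5669) (.leaf (nat_lit 54)) (.node (nat_lit 5725) (.leaf (nat_lit 648)) (.leaf (nat_lit 324)))) (.node (nat_lit 6000) (.node (nat_lit 5965) (.leaf (nat_lit 648)) (.leaf (nat_lit 324))) (.node (nat_lit 6220) (.leaf (nat_lit 648)) (.leaf (nat_lit 324)))))) (.node (nat_lit 6669) (.node (nat_lit 6429) (.node (nat_lit 6235) (.leaf (nat_lit 648)) (.node (nat_lit 6240) (.leaf (nat_lit 324)) (.leaf (nat_lit 648)))) (.node (nat_lit 6444) (.node (nat_lit 6440) (.leaf (nat_lit 324)) (.leaf (nat_lit 648))) (.node (nat_lit 6453) (.leaf (nat_lit 324)) (.leaf (nat_lit 648))))) (.node (nat_lit 6924) (.node (nat_lit 6699) (.node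 (nat_lit 6695) (.leaf (nat_lit 324)) (.leaf (nat_lit 648))) (.node (nat_lit 6708) (.leaf (nat_lit 324)) (.leaf (nat_lit 648)))) (.node (nat_lit 7296) (.node (nat_lit 6977) (.leaf (nat_lit 324)) (.leaf (nat_lit 648))) (.node (nat_lit 7308) (.leaf (nat_lit 0)) (.leaf (nat_lit 648))))))))) (.node (nat_lit 15648) (.node (nat_lit 9486) (.node (nat_lit 8665) (.node (nat_lit 8183) (.node (nat_lit 7743) (.node (nat_lit 7528) (.leaf (nat_lit 0)) (.node (nat_lit 7730) (.leaf (nat_lit 648)) (.leaf (nat_lit 0)))) (.node (nat_lit 8023) (.node (nat_lit 8000) (.leaf (nat_lit 648)) (.leaf (nat_lit 0))) (.node (nat_lit 8170) (.leaf (nat_lit 648)) (.leaf (nat_lit 324))))) (.node (nat_lit 8410) (.node (nat_lit 8185) (.leaf (nat_lit 648)) (.node (nat_lit 8198) (.leaf (nat_lit 324)) (.leaf (nat_lit 648)))) (.node (nat_lit 8440) (.node (nat_lit 8432) (.leaf (nat_lit 324)) (.leaf (nat_lit 648))) (.node (nat_lit 8447) (.leaf (nat_lit 324)) (.leaf (nat_lit 648)))))) (.node (nat_lit 9127) (.node (nat_lit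 8702) (.node (nat_lit 8672) (.leaf (nat_lit 324)) (.node (nat_lit 8680) (.leaf (nat_lit 648)) (.leaf (nat_lit 324)))) (.node (nat_lit 8927) (.node (nat_lit 8874) (.leaf (nat_lit 648)) (.leaf (nat_lit 162))) (.node (nat_lit 9114) (.leaf (nat_lit 648)) (.leaf (nat_lit 162))))) (.node (nat_lit 9382) (.node (nat_lit 9173) (.node (nat_lit 9144) (.leaf (nat_lit 648)) (.leaf (nat_lit 54))) (.node (nat_lit 9369) (.leaf (nat_lit 648)) (.leaf (nat_lit 162)))) (.node (nat_lit 9413) (.node (nat_lit 9384) (.leaf (nat_lit 648)) (.leaf (nat_lit 54))) (.node (nat_lit 9485) (.leaf (nat_lit 648)) (.leaf (nat_lit 324))))))) (.node (nat_lit 10701) (.node (nat_lit 9980) (.node (nat_lit 9725) (.node (nat_lit 9500) (.leaf (nat_lit 648)) (.node (nat_lit 9546) (.leaf (nat_lit 324)) (.leaf (nat_lit 648)))) (.node (nat_lit 9755) (.node (nat_lit 9726) (.leaf (nat_lit 324)) (.leaf (nat_lit 648))) (.node (nat_lit 9786) (.leaf (nat_lit 324)) (.leaf (nat_lit 648))))) (.node (nat_lit 10295) (.node (nat_lit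 10040) (.leaf (nat_lit 324)) (.node (nat_lit 10189) (.leaf (nat_lit 648)) (.leaf (nat_lit 324)))) (.node (nat_lit 10488) (.node (nat_lit 10402) (.leaf (nat_lit 648)) (.leaf (nat_lit 324))) (.node (nat_lit 10642) (.leaf (nat_lit 648)) (.leaf (nat_lit 324)))))) (.node (nat_lit 11957) (.node (nat_lit 11717) (.node (nat_lit 10897) (.leaf (nat_lit 648)) (.node (nat_lit 10941) (.leaf (nat_lit 324)) (.leaf (nat_lit 648)))) (.node (nat_lit 11732) (.node (nat_lit 11728) (.leaf (nat_lit 324)) (.leaf (nat_lit 648))) (.node (nat_lit 11744) (.leaf (nat_lit 324)) (.leaf (nat_lit 648))))) (.node (nat_lit 12212) (.node (nat_lit 11987) (.node (nat_lit 11983) (.leaf (nat_lit 324)) (.leaf (nat_lit 648))) (.node (nat_lit 11998) (.leaf (nat_lit 324)) (.leaf (nat_lit 648)))) (.node (nat_lit 13288) (.node (nat_lit 12256) (.leaf (nat_lit 324)) (.leaf (nat_lit 648))) (.node (nat_lit 13317) (.leaf (nat_lit 0)) (.leaf (nat_lit 648)))))))) (.node (nat_lit 17556) (.node (nat_lit 17053) (.node (nat_lit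 16016) (.node (nat_lit 15776) (.node (nat_lit 15660) (.leaf (nat_lit 0)) (.node (nat_lit 15738) (.leaf (nat_lit 648)) (.leaf (nat_lit 324)))) (.node (nat_lit 15909) (.node (nat_lit 15857) (.leaf (nat_lit 648)) (.leaf (nat_lit 0))) (.node (nat_lit 15978) (.leaf (nat_lit 648)) (.leaf (nat_lit 324))))) (.node (nat_lit 16233) (.node (nat_lit 16082) (.leaf (nat_lit 648)) (.node (nat_lit 16088) (.leaf (nat_lit 0)) (.leaf (nat_lit 648)))) (.node (nat_lit 16352) (.node (nat_lit 16271) (.leaf (nat_lit 324)) (.leaf (nat_lit 648))) (.node (nat_lit 16404) (.leaf (nat_lit 0)) (.leaf (nat_lit 648)))))) (.node (nat_lit 17293) (.node (nat_lit 17077) (.node (nat_lit 17054) (.leaf (nat_lit 324)) (.node (nat_lit 17068) (.leaf (nat_lit 648)) (.leaf (nat_lit 324)))) (.node (nat_lit 17279) (.node (nat_lit 17266) (.leaf (nat_lit 648)) (.leaf (nat_lit 324))) (.node (nat_lit 17281) (.leaf (nat_lit 648)) (.leaf (nat_lit 0))))) (.node (nat_lit 17506) (.node (nat_lit 17323) (.node (nat_lit 17294) (.leaf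 (nat_lit 324)) (.leaf (nat_lit 648))) (.node (nat_lit 17332) (.leaf (nat_lit 324)) (.leaf (nat_lit 648)))) (.node (nat_lit 17541) (.node (nat_lit 17536) (.leaf (nat_lit 0)) (.leaf (nat_lit 324))) (.node (nat_lit 17548) (.leaf (nat_lit 648)) (.leaf (nat_lit 324))))))) (.node (nat_lit 18478) (.node (nat_lit 17974) (.node (nat_lit 17761) (.node (nat_lit 17563) (.leaf (nat_lit 648)) (.node (nat_lit 17576) (.leaf (nat_lit 324)) (.leaf (nat_lit 648)))) (.node (nat_lit 17781) (.node (nat_lit 17776) (.leaf (nat_lit 324)) (.leaf (nat_lit 0))) (.node (nat_lit 17970) (.leaf (nat_lit 648)) (.leaf (nat_lit 162))))) (.node (nat_lit 18223) (.node (nat_lit 18008) (.node (nat_lit 17985) (.leaf (nat_lit 648)) (.leaf (nat_lit 0))) (.node (nat_lit 18210) (.leaf (nat_lit 648)) (.leaf (nat_lit 0)))) (.node (nat_lit 18248) (.node (nat_lit 18240) (.leaf (nat_lit 648)) (.leaf (nat_lit 1))) (.node (nat_lit 18465) (.leaf (nat_lit 648)) (.leaf (nat_lit 162)))))) (.node (nat_lit 19091) (.node (nat_lit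 18821) (.node (nat_lit 18581) (.leaf (nat_lit 648)) (.node (nat_lit 18647) (.leaf (nat_lit 324)) (.leaf (nat_lit 648)))) (.node (nat_lit 19076) (.node (nat_lit 18856) (.leaf (nat_lit 324)) (.leaf (nat_lit 648))) (.node (nat_lit 19084) (.leaf (nat_lit 324)) (.leaf (nat_lit 648))))) (.node (nat_lit 19300) (.node (nat_lit 19285) (.node (nat_lit 19096) (.leaf (nat_lit 324)) (.leaf (nat_lit 648))) (.node (nat_lit 19297) (.leaf (nat_lit 324)) (.leaf (nat_lit 648)))) (.node (nat_lit 19525) (.node (nat_lit 19309) (.leaf (nat_lit 324)) (.leaf (nat_lit 648))) (.node (nat_lit 19564) (.leaf (nat_lit 324)) (.leaf (nat_lit 648))))))))))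
noncomputable def PF_soc_F : Fm := (.all PF_L (.or (.qf (.eq (.v (nat_lit 0)) .one)) (.exF PF_L (fun cs => PF_soc_t1.find (Nat.mod (nth (nat_lit 0) cs (nat_lit 0)) (nat_lit 19736))) (.exF PF_L (fun cs => PF_soc_t0.find (Nat.mod (Nat.add (nth (nat_lit 0) cs (nat_lit 0)) (Nat.mul (nat_lit 7919) (nth (nat_lit 0) cs (nat_lit 1)))) (nat_lit 23912))) (.qf (.or (.eq (.mul (.mul (.v (nat_lit 0)) (.v (nat_lit 2))) (.inv (.v (nat_lit 0)))) (.v (nat_lit 10))) (.or (.eq (.mul (.mul (.v (nat_lit 0)) (.v (nat_lit 2))) (.inv (.v (nat_lit 0)))) (.mul (.v (nat_lit 6)) (.v (nat_lit 8)))) (.or (.eq (.mul (.mul (.v (nat_lit 0)) (.mul (.mul (.mul (.v (nat_lit 2)) (.v (nat_lit 1))) (.inv (.v (nat_lit 2)))) (.inv (.v (nat_lit 1))))) (.inv (.v (nat_lit 0)))) (.v (nat_lit 10))) (.or (.eq (.mul (.mul (.v (nat_lit 0)) (.mul (.mul (.mul (.v (nat_lit 2)) (.v (nat_lit 1))) (.inv (.v (nat_lit 2)))) (.inv (.v (nat_lit 1))))) (.inv (.v (nat_lit 0)))) (.mul (.v (nat_lit 6)) (.v (nat_lit 8)))) (.or (.eq (.mul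 (.mul (.mul (.mul (.mul (.mul (.v (nat_lit 2)) (.v (nat_lit 1))) (.inv (.v (nat_lit 2)))) (.inv (.v (nat_lit 1)))) (.v (nat_lit 0))) (.inv (.mul (.mul (.mul (.v (nat_lit 2)) (.v (nat_lit 1))) (.inv (.v (nat_lit 2)))) (.inv (.v (nat_lit 1)))))) (.inv (.v (nat_lit 0)))) (.v (nat_lit 10))) (.eq (.mul (.mul (.mul (.mul (.mul (.mul (.v (nat_lit 2)) (.v (nat_lit 1))) (.inv (.v (nat_lit 2)))) (.inv (.v (nat_lit 1)))) (.v (nat_lit 0))) (.inv (.mul (.mul (.mul (.v (nat_lit 2)) (.v (nat_lit 1))) (.inv (.v (nat_lit 2)))) (.inv (.v (nat_lit 1)))))) (.inv (.v (nat_lit 0)))) (.mul (.v (nat_lit 6)) (.v (nat_lit 8))))))))))))))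
theorem PF_soc_chk : Fm.chk PF_o PF_soc_F PF_cs = true := by decide +kernel
theorem PF_soc {G : Type*} [Group G] {R : ℕ → G → Prop} {t c n a a_i b b_i e e_i x x_i : G} {H : Subgroup G}
    (M : Mdl PF_o PF_cs PF_L R [t, c, n, a, a_i, b, b_i, e, e_i, x, x_i] H) :
    ∀ y_ ∈ H, y_ = 1 ∨ (∃ q_ ∈ H, ∃ k_ ∈ H, k_ * y_ * k_⁻¹ = e ∨ k_ * y_ * k_⁻¹ = a * b ∨ k_ * ⁅y_, q_⁆ * k_⁻¹ = e ∨ k_ * ⁅y_, q_⁆ * k_⁻¹ = a * b ∨ ⁅⁅y_, q_⁆, k_⁆ = e ∨ ⁅⁅y_, q_⁆, k_⁆ = a * b) :=
  have h : ∀ y_, InL PF_o R PF_L y_ → y_ = 1 ∨ (Good PF_o R PF_L → prods PF_o PF_L PF_o.one ≠ [] → ∃ q_, InL PF_o R PF_L q_ ∧ (Good PF_o R PF_L → prods PF_o PF_L PF_o.one ≠ [] → ∃ k_, InL PF_o R PF_L k_ ∧ (k_ * y_ * k_⁻¹ = e ∨ k_ * y_ * k_⁻¹ = a * b ∨ k_ * ⁅y_, q_⁆ * k_⁻¹ = e ∨ k_ * ⁅y_, q_⁆ * k_⁻¹ = a * b ∨ ⁅⁅y_, q_⁆, k_⁆ = e ∨ ⁅⁅y_, q_⁆, k_⁆ = a * b))) :=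
    Fm.sound M.μ PF_soc_F PF_soc_chk M.reps
  (fun y_ h0 => (Or.imp (fun h1 => h1) (fun h1 => (Exists.imp (fun q_ h2 => ⟨M.H.iff.1 h2.1, (Exists.imp (fun k_ h3 => ⟨M.H.iff.1 h3.1, h3.2⟩) (h2.2 M.H.good M.H.ne))⟩) (h1 M.H.good M.H.ne))) (h y_ (M.H.iff.2 h0))))
theorem PF_mdl {G : Type*} [Group G] {t c n a b e x : G}
    (h : B1 a b e x t)
    (k : C1 a b e x t c)
    (l : Nn a b e x t n)
    (nc : n * c = c * n)
    (n1 : e ≠ 1) (n2 : a * b ≠ 1) :
    ∃ R, Mdl PF_o PF_cs PF_L R [t, c, n, a, a⁻¹, b, b⁻¹, e, e⁻¹, x, x⁻¹] (sp [t, c, n, a, a⁻¹, b, b⁻¹, e, e⁻¹, x, x⁻¹]) ∧ #(sp [t, c, n, a, a⁻¹, b, b⁻¹, e, e⁻¹, x, x⁻¹]) = 1296 :=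
  mdl_of PF_P rfl (PF_r h k l nc) (.v (nat_lit 7)) (.mul (.v (nat_lit 3)) (.v (nat_lit 5))) n1 n2
    fun _ ms _ M hl => match ms, M, (hl : ms.length = 11) with
      | [_, _, _, _, _, _, _, _, _, _, _], M, _ => PF_soc M
noncomputable def PG_cs : List ℕ := [(nat_lit 0x876210543), (nat_lit 0x876453120), (nat_lit 0x786453120), (nat_lit 0x876543021), (nat_lit 0x876543102), (nat_lit 0x876354210), (nat_lit 0x876435210), (nat_lit 0x687543210), (nat_lit 0x768543210), (nat_lit 0x210876543), (nat_lit 0x543210876), (nat_lit 0x687354021), (nat_lit 0x876435021)]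
theorem PG_ext {G : Type*} [Group G] {R : ℕ → G → Prop} {t c n a b e x : G} {H : Subgroup G}
    (M : Mdl PF_o PF_cs PF_L R [t, c, n, a, a⁻¹, b, b⁻¹, e, e⁻¹, x, x⁻¹] H) :
    Mdl PF_o PG_cs PF_L R [t, c, n, a, a⁻¹, b, b⁻¹, e, e⁻¹, x, x⁻¹, a * b * e, a * b⁻¹] H :=
  ⟨M.μ, M.reps.tms M.μ.1 [(.v (nat_lit 0)), (.v (nat_lit 1)), (.v (nat_lit 2)), (.v (nat_lit 3)), (.v (nat_lit 4)), (.v (nat_lit 5)), (.v (nat_lit 6)), (.v (nat_lit 7)), (.v (nat_lit 8)), (.v (nat_lit 9)), (.v (nat_lit 10)), (.mul (.mul (.v (nat_lit 3)) (.v (nat_lit 5))) (.v (nat_lit 7))), (.mul (.v (nat_lit 3)) (.inv (.v (nat_lit 5))))] (cs' := PG_cs) (by decide +kernel),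
    tms_mem M.le [(.v (nat_lit 0)), (.v (nat_lit 1)), (.v (nat_lit 2)), (.v (nat_lit 3)), (.v (nat_lit 4)), (.v (nat_lit 5)), (.v (nat_lit 6)), (.v (nat_lit 7)), (.v (nat_lit 8)), (.v (nat_lit 9)), (.v (nat_lit 10)), (.mul (.mul (.v (nat_lit 3)) (.v (nat_lit 5))) (.v (nat_lit 7))), (.mul (.v (nat_lit 3)) (.inv (.v (nat_lit 5))))], M.H⟩

end H2.NB
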