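import Cfsg.Agent.H2.NB2a

/-! Generated: words in matrices over the field with three elements. -/

set_option maxRecDepth 100000
set_option maxHeartbeats 4000000

namespace H2.NB

noncomputable def tbN_T : List (List (List ℕ)) := [
  [[],[],[],[],[],[],[],[],[],[],[],[],[],[],[],[],[],[],[],[],[],[],[],[],[],[],[]],
  [[],[],[],[0,0],[0,0],[0,0],[0,0],[0,0],[0,0],[0,0],[0,0],[0,0],[],[],[],[0,0],[0,1,0],[0,0],[0,0],[0,0],[0,0],[0,0],[0,0],[0,0],[],[],[]],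
  [[],[],[],[0,0],[0,0],[0,0],[0,1,2],[0,0],[0,0],[0,0],[0,0],[0,0],[],[],[],[0,0],[0,0],[0,0],[0,1],[0,0],[0,0],[0,0],[0,0],[0,0],[],[],[]],
  [[],[0,0],[0,0],[],[0,0],[0,0],[],[0,0],[0,0],[0,1,0],[],[0,0],[0,0],[],[0,0],[0,0],[],[0,0],[0,0],[0,0],[],[0,0],[0,0],[],[0,0],[0,0],[]],
  [[],[0,0],[0,0],[0,0],[],[0,0],[0,0],[0,0],[],[],[0,0],[0,0],[0,0],[],[0,0],[0,0],[0,0],[],[],[0,0],[0,0],[0,0],[],[0,0],[0,0],[0,0],[]],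
  [[],[0,0],[0,0],[0,0],[0,0],[],[0,1,0],[],[0,0],[0,0],[0,0],[],[0,0],[],[0,0],[],[0,0],[0,0],[0,0],[],[0,0],[],[0,0],[0,0],[0,0],[0,0],[]],
  [[],[0,0],[0,0,0],[],[0,0],[0,0],[],[0,0],[0,0],[0,0],[],[0,0],[0,0],[],[0,0],[0,0],[],[0,0],[0,2],[0,0],[],[0,0],[0,0],[],[0,0],[0,0],[]],
  [[],[0,0],[0,0],[0,0],[0,0],[],[0,0],[],[0,0],[0,0],[0,0],[],[0,0],[],[0,0],[],[0,0],[0,0],[0,0],[],[0,1,0],[],[0,0],[0,0],[0,0],[0,0],[]],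
  [[],[0,0],[0,0],[0,1,0],[],[0,0],[0,1,0],[0,0],[],[],[0,0],[0,0],[0,0],[],[0,1,0],[0,0],[0,1,0],[],[],[0,1,0],[0,1,0],[0,0],[],[0,0],[0,0],[0,0],[]],
  [[],[0,0],[0,0],[0,1,0],[],[0,0],[0,1,0],[0,0],[],[],[0,0],[0,0],[0,0],[],[0,0],[0,1,0],[0,1,0],[],[],[0,0],[0,1,0],[0,0],[],[0,0],[0,1,0],[0,0],[]],
  [[],[0,0],[0,0],[],[0,0],[0,0],[],[0,0],[0,0],[0,0],[],[0,0],[0,0],[],[0,0],[0,0],[],[0,1,0],[0,0],[0,0],[],[0,0],[0,0],[],[0,0],[0,0],[]],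
  [[],[0,0],[0,0],[0,0],[0,0],[],[0,0],[],[0,0],[0,0],[0,0],[],[0,0],[],[0,0],[],[0,1,0],[0,0],[0,0],[],[0,0],[],[0,0],[0,0],[0,0],[0,0],[]],
  [[],[],[],[0,0],[0,0],[0,0],[0,1,0],[0,0],[0,0],[0,0],[0,0],[0,0],[],[],[],[0,0],[0,0],[0,0],[0,0],[0,0],[0,0],[0,0],[0,0],[0,0],[],[],[]],
  [[],[],[],[],[],[],[],[],[],[],[],[],[],[],[],[],[],[],[],[],[],[],[],[],[],[],[]],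
  [[],[],[],[0,0],[0,0],[0,0],[0,0],[0,0],[0,0],[0,0],[0,0],[0,0],[],[],[],[0,0],[0,0],[0,0],[0,0],[0,0],[0,1,0],[0,0],[0,0],[0,0],[],[],[]],
  [[],[0,0],[0,0],[0,0],[0,0],[],[0,1,0],[],[0,0],[0,0],[0,0],[],[0,0],[],[0,0],[],[0,0],[0,0],[0,0],[],[0,0],[],[0,0],[0,0],[0,0],[0,0],[]],
  [[],[0,0],[0,0],[],[0,0],[0,0],[],[0,0],[0,0],[0,0],[],[0,0],[0,0],[],[0,0],[0,0],[],[0,0],[0,0],[0,0],[],[0,0],[0,1,0],[],[0,0],[0,0],[]],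
  [[],[0,0],[0,0],[0,0],[],[0,0],[0,0],[0,0],[],[],[0,0],[0,0],[0,0],[],[0,0],[0,0],[0,0],[],[],[0,0],[0,0],[0,0],[],[0,0],[0,0],[0,0],[]],
  [[],[0,0],[0,2,1],[0,1,0],[],[0,0],[0],[0,1,0],[],[],[0,0],[0,1,0],[0,1,0],[],[0,0],[0,0],[0,1,0],[],[],[0,0],[0,1,0],[0,1,0],[],[0,0],[0,0],[0,1,0],[]],
  [[],[0,0],[0,0],[0,0],[0,0],[],[0,1,0],[],[0,0],[0,0],[0,0],[],[0,0],[],[0,0],[],[0,0],[0,0],[0,0],[],[0,0],[],[0,0],[0,0],[0,0],[0,0],[]],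
  [[],[0,0],[0,0],[],[0,0],[0,0],[],[0,0],[0,1,0],[0,0],[],[0,0],[0,0],[],[0,0],[0,0],[],[0,0],[0,0],[0,0],[],[0,0],[0,0],[],[0,0],[0,0],[]],
  [[],[0,0],[0,0],[0,1,0],[0,0],[],[0,0],[],[0,0],[0,0],[0,0],[],[0,0],[],[0,0],[],[0,0],[0,0],[0,0],[],[0,0],[],[0,0],[0,0],[0,0],[0,0],[]],
  [[],[0,1,0],[0,0],[0,1,0],[],[0,1,0],[0,1,0],[0,0],[],[],[0,0],[0,0],[0,0],[],[0,0],[0,0],[0,1,0],[],[],[0,0],[0,1,0],[0,0],[],[0,0],[0,0],[0,0],[]],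
  [[],[0,0],[0,0],[],[0,1,0],[0,0],[],[0,0],[0,0],[0,0],[],[0,0],[0,0],[],[0,0],[0,0],[],[0,0],[0,0],[0,0],[],[0,0],[0,0],[],[0,0],[0,0],[]],
  [[],[],[],[0,1,0],[0,0],[0,0],[0,0],[0,0],[0,0],[0,0],[0,0],[0,0],[],[],[],[0,0],[0,0],[0,0],[0,0],[0,0],[0,0],[0,0],[0,0],[0,0],[],[],[]],
  [[],[],[],[0,0],[0,0],[0,0],[0,1,0],[0,0],[0,0],[0,0],[0,0],[0,0],[],[],[],[0,0],[0,0],[0,0],[0,0],[0,0],[0,0],[0,0],[0,0],[0,0],[],[],[]],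
  [[],[],[],[],[],[],[],[],[],[],[],[],[],[],[],[],[],[],[],[],[],[],[],[],[],[],[]]]
theorem tbN : Tb (2, 2, 2) mT tbN_T mN := by decide +kernel
noncomputable def tbC_T : List (List (List ℕ)) := [
  [[],[],[],[],[],[],[],[],[],[],[],[],[],[],[],[],[],[],[],[],[],[],[],[],[],[],[]],
  [[],[],[],[0,0,0,1,0],[0,1,0,1,0],[0,1,0,0,0],[0,1,0,1,2,0],[0,0,1,0,0],[0,1,0,1,2,0],[0,1,0,1,2,0],[0,1,0,1,2,0],[0,1,0,0,0,0],[],[],[],[0,1,0,1,0],[0,0,0,2,0],[0,2,0,0],[0,1,0,1,0],[0,1,0,1,0],[0,0,1,1,0],[0,1,0,1,2,0],[0,0,0,2,0],[0,0,2,0],[],[],[]],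
  [[],[],[],[1,0,0,1,1],[0,1,0],[0,1,0],[0,1,0],[0,1,0],[0,1,0],[1,1,0,0],[0,1,2,0],[0,1,2,0],[],[],[],[0,1,2,0],[0,1,0],[0,1,0],[0,1,2,0],[0,1,0],[0,1,0],[0,1,0],[0,1,0],[0,1,0],[],[],[]],
  [[],[0,1,0,0,1,1,0],[1,0,0],[],[0,0,0,1,0,0],[0,0,1,0,0,0],[],[0,1,0,0,1,1,0],[0,0,0,2,0],[1,0,1,1,0,1],[0,0,0],[],[0,2,0,1,0],[0,1,0,0],[],[0,2,0,0,0,0,0],[0,2,0,0],[],[0,0,0,2,0],[],[0,1,1,0,0],[0,0,0,0,0,2,0],[],[0,0,0,1,1,0,1,0],[0,1,0,0,0],[],[0,1,0,0,0,0]],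
  [[],[0,0,1,0,1,1,0],[0,1,0,0],[0,1,2,0,1,0],[],[0,0,2,0],[0,1,0,1,1,0,0,0],[0,0,0,2,0],[],[0,0,0],[],[0,0],[0,2,0,1,0,1,0],[0,1,0,1,0,0],[],[],[0,1,0,1,2,0],[0,2,0,1,0],[0,0,1,0],[0,2,0,0],[],[],[0,1,0,0,1,0,0],[0,0,0,0,0,2,0],[0,0,0,2,0,0],[],[0,0,0,2,0]],
  [[],[0,1,1,0,0,0,0],[0,0,1,0],[0,0,0,2,0],[0,2,0,0],[],[0,0,0,2,0],[],[0,0,1,0,0,1,0],[],[0,0],[0,0,1,0,1,0],[0,0,0,1,0,1,0,0],[0,1,0,2,0,0],[],[0,1,0,1,0,0,0,0],[],[0,1,0,0],[],[0,1,0,0,0,1,0],[0,2,0,2,0,0],[0,1,1,0,0,1,0],[0,1,0,0,1,0],[],[0,1,0,0],[],[0,0,2,0]],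
  [[],[0,0,1,2,0,1,0],[0,2,1,0],[],[0,1,0,1,0,0,0],[0,0,0,2,0],[],[0,2,1,0,0],[0,0,0,0,1,0],[0,0,0,2,0],[0,0,1,1,0],[],[0,0,0,0,0,2,0],[0,1,0,1,0,0],[],[0,0],[0,0,2,0],[],[0,1,0,1,0,0],[],[0,1,0,0,1,0,0],[0,0,1,0],[],[0,2,1,0,1,0],[0,0,0,1,0,0,0],[],[0,0,1,0,1,1,0]],
  [[],[0,1,0,1,0,0],[0,1,1,0],[0,1,1,0,1,0],[0,0,0,2,0],[],[0,1,0,0],[],[0,2,0,0,0,0],[],[0,2,0,0],[0,1,0,0,0,0],[0,1,0,2,0,0],[0,2,0,1,0],[],[0,0,2,0],[],[0,0],[],[0,0,1,0,1,1,0],[0,0,0,0,0,2,0],[0,0,0,2,0],[0,0,2,0,0],[],[0,1,1,0,0,0],[],[0,0,1,0,0,2,0,0]],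
  [[],[0,0,1,0],[0,1,1,0],[0,0,0,2,0],[],[0,0,1,0,1,0],[0,0,0,2,0],[0,0,0,1,0,1,0],[],[0,1,0,0],[],[0,2,0,1,0,0],[0,1,0,0],[0,1,1,0,0,1,0],[],[],[0,0],[0,0,2,0],[0,0,0,1,0,0,1,0],[0,0,0,0,0,2,0],[],[],[0,1,2,0,0],[0,1,0,0,0,0],[0,0,0,2,0,0],[],[0,0,0,0,0,2,0]],
  [[],[0,0,0,1,1,0],[1,0,1,0],[1,0,1,0,1],[0,0,2,0],[],[0,0,1,1,0],[],[0,2,1,0,0],[],[0,1,1,0,0,1,0],[0,0,0,2,0],[0,0,1,0],[0,0,2,0],[],[0,0,1,0,1,0],[],[0,0,0,1,0,1,0],[],[0,1,0,1,1,0],[0,0,0,2,0],[0,0,0,0,1,0],[0,0,2,0],[],[0,1,0,0,0],[],[0,0,0,0,2,0,0]],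
  [[],[0,0,0,0,0,2,0],[0,0,2,0],[0,0,2,0],[],[0,2,0],[0,2,0,1,0],[0,0,2,0],[],[0,0,0,2,0,0],[],[0,2,0,0],[0,0,0,0,1,0],[0,0,0,1,0],[],[],[0,1,0,1,0,0],[0,0,0,0,0,2,0],[0,1,0,0,2,0,1,0],[0,0,0,2,0],[],[],[0,0,0,0,1,0],[0,0,1,0],[0,0,0,2,0],[],[0,1,0,0,0,0]],
  [[],[0,1,1,0,0,0],[0,1,1,0],[],[0,2,0],[0,0,1,0,1,1,0],[],[0,0,1,0,0],[0,0,0,2,0],[0,0,2,0,0,0],[0,0,2,0],[],[0,0,1,0,1,0,0],[0,0,0,2,0],[],[0,1,0,1,1,0],[0,0,0,0,0,2,0],[],[0,0,0,2,0],[],[0,1,0,0,1,1,0],[0,0,0,0,0,2,0],[],[0,1,2,0,0],[0,0,2,0],[],[0,1,0,0]],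
  [[],[],[],[0,0,1,1,0],[0,1,0,0,1,0],[0,1,0,0,1,0],[0,1,0,0,1,0],[0,0,0,2,0],[0,0,2,0],[0,1,0,0,1,0],[0,1,0,0,1,0],[0,1,0,0,1,0],[],[],[],[0,0,0,2,0],[0,2,0,0,0],[0,0,0,1,0,0],[0,0,0,0,1,0],[0,1,0,0,1,0],[0,2,0,0],[0,1,0,0,1,0],[0,0,2,0,0],[0,1,0,0,1,0],[],[],[]],
  [[],[],[],[0,0,2,0],[0,0,0,1,1,0],[0,0,0,2,0],[0,0,0,1,1,0],[0,0,1,1,0],[0,0,1,0,0,0],[0,2,0,0],[0,0,0,1,0,1,0],[0,1,0,0,0],[],[],[],[0,0,1,0,0,0,0],[0,0,0,1,0,1,1,0],[0,0,0,1,0],[0,0,0,0,1,0,0],[0,2,0,1,1,0],[0,1,0,0,1,0,0],[0,0,0,0,0,2,0],[0,0,1,0,0,0],[0,0,0,1,0,0],[],[],[]],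
  [[],[],[],[],[],[],[],[],[],[],[],[],[],[],[],[],[],[],[],[],[],[],[],[],[],[],[]],
  [[],[0,0,0,0,0,2,0],[0,1,1,0],[0,0,0,0,0,2,0],[],[0,0,0,0,0,2,0],[0,2,0],[0,0,0],[],[0,0,0,0,0,2,0],[],[0,1,0,1,2,0],[0,0,0,0,1,0],[0,0,0,0,0,2,0],[],[],[0,0,1,0,2,0],[0,2,1,0,0],[0,0,1,1,0],[0,0,0,2,0],[],[],[0,0,1,1,0,1,0,0],[0,0,0,2,0],[0,0,1,0],[],[0,1,0,0,0,0]],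
  [[],[0,0,0,2,0],[0,1,1,0],[0,0,2,0],[0,0,0,0,1,1,0],[],[0,0,0],[],[0,0],[],[0,1,0,1,1,0,0],[0,1,1,0,1,0],[0,0,0,1,0],[0,0,0,0,1,0,0],[],[0,1,2,0,0,0],[],[0,0,1,1,0],[],[0,0,2,0,0],[0,2,1,0,0],[0,0,0,1,0,0,1,0],[0,1,0,2,1,0,1,0],[],[0,0,0,1,1,0],[],[0,1,0,0,0]],
  [[],[0,0,2,0],[0,1,1,0],[],[0,0,0,2,0],[0,2,1,0,0],[],[0,0],[0,0,0],[0,0,0,1,0,1,1,0],[0,0,0,0,0,2,0],[],[0,0,1,2,0,1,0],[0,0,0,0,1,0,0],[],[0,0,1,0],[0,0,1,0,0],[],[0,2,1,0,1,0],[],[0,1,1,0,1,0],[0,0,0,2,0],[],[0,1,0,1,0,0],[0,0,1,0,1,0],[],[0,1,0,2,0,0]],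
  [[],[0,0,1,2,0,1,0],[0,1,1,0],[0,0,1,0],[0,1,2,0,1,0],[],[0,1,0,1,1,0,0],[],[0,0,1,0,0,0,1,0],[],[0,1,0,1,0,1,1,0],[0,0,0,2,0],[0,0,0,0,1,0],[0,0,0,1,0],[],[0,1,2,0,0],[],[0,0,1,0,0,0],[],[0,1,1,0,0],[0,0,0,2,0],[0,2,0],[0,0,0],[],[0,0,0,0,0,2,0],[],[0,0,0,1,1,0]],
  [[],[0,0,1,1,0,0],[0,1,1,0],[],[0,0,2,0],[0,0,1,1,0,0],[],[0,0,1,0,1,0],[0,0,0,0,0,2,0],[0,1,0,1,2,0],[0,0,0,2,0],[],[0,0,0,2,0],[0,0,1,0],[],[0,0,0,1,0],[0,2,0,0,0],[],[0,1,2,0,0],[],[0,0,2,0,1,0],[0,0,0],[],[0,0],[0,0,0,0,1,1,0],[],[0,0,0,0,0,1,1,0]],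
  [[],[0,2,0,1,0],[0,1,1,0],[0,0,0,1,0],[],[0,0,0,2,0],[0,0,1,0,1,1,0,0],[0,0,0,0,0,2,0],[],[0,0,0,2,0],[],[0,0,1,1,0,1,0],[0,0,2,0],[0,0,1,1,0,0,0],[],[],[0,1,0,0],[0,0,0,1,1,0,0],[0,1,0,1,1,0],[0,1,0,0,1,0],[],[],[0,0],[0,0,0],[0,0,0,0,1,0,0],[],[0,0,0,0,1,0]],
  [[],[0,0,0,1,0],[0,2,1,0],[0,0,0,0,0,2,0],[],[0,1,1,0,1,0],[0,2,1,0,0],[0,0,0,1,1,0],[],[0,1,0,1,0,0,0],[],[0,0,2,0,1,0,1,0],[0,0,0,2,0],[0,0,1,2,0,0,0],[],[],[0,0,1,0,0,1,0],[0,0,0,2,0],[0,0],[0,0,2,0],[],[],[0,0,0,0,1,0],[0,0,1,1,0],[0,2,0,1,0],[],[0,0,0,1,0,0]],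
  [[],[0,0,0,2,0],[0,1,1,0],[],[0,1,1,0,0,1,0],[0,1,0,1,2,0],[],[0,0,0,1,0],[0,1,1,0,0],[0,2,0,0],[0,2,1,0,0,0],[],[0,1,0,0,0],[0,0,0,1,0,0,0],[],[0,1,0,0,1,0,0,0],[0,1,0,1,0,1,1,0],[],[0,0,2,0],[],[0,0],[0,1,0,1,0,0],[],[0,0,2,0,0],[0,1,0,0,1,1,0],[],[0,0,1,0]],
  [[],[0,1,0,0],[0,1,1,0],[0,1,0,2,0,0,1,0],[0,0,0,0,0,2,0],[],[0,1,0,1,1,0],[],[0,0,0,1,0,0],[],[0,1,2,0,0,0],[0,1,1,0,0],[0,0,0,2,0,0],[0,0,0,1,1,0],[],[0,0,0,2,0],[],[0,1,0,1,1,0,0],[],[0,0],[0,0,2,0],[0,1,2,0,0],[0,0,1,0],[],[0,0,1,0,1,0],[],[0,0,0,2,0]],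
  [[],[],[],[0,2,0,0,0],[0,0,0,2,0],[0,0,2,0],[0,0,0,0,0,2,0],[0,0,0,0,1,0],[0,0,0,1,0,0],[0,2,0,0,0],[0,0,0,1,0,0],[0,2,0,0],[],[],[],[0,2,0,1,0,0],[0,2,0,0,1,0],[0,0,2,0,0,0],[0,0,0,2,0,0,0],[0,1,0,0,0],[0,0,0,2,0,0],[0,0,0,2,0],[0,0,0,1,0],[0,1,0,1,0,0,0],[],[],[]],
  [[],[],[],[],[],[],[],[],[],[],[],[],[],[],[],[],[],[],[],[],[],[],[],[],[],[],[]],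
  [[],[],[],[0,0,0,0,1,0,0],[0,2,0,0,0,0],[0,2,0,0],[0,0,0,1,0],[0,0,0,0,0,1,0],[0,0,0,0,1,1,0],[0,2,0,0,0,0],[0,0,0,2,0],[0,0,2,0],[],[],[],[0,0,0,2,0,0],[0,0,1,0,0],[0,0,0,2,0],[0,2,0,0,1,0],[0,0,2,1,0,1,0,0],[0,0,0,0,0,2,0],[0,1,0,0,0],[0,2,0,0,0],[0,2,0,2,0,0],[],[],[]]]
theorem tbC : Tb (1, 1, 2) mT tbC_T mC := by decide +kernel
noncomputable def tbD_T : List (List (List ℕ)) := [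
  [[],[],[],[],[],[],[],[],[],[],[],[],[],[],[],[],[],[],[],[],[],[],[],[],[],[],[]],
  [[],[],[],[0,1,0],[0,1,0],[0,1,0],[0,1,2],[0,1,0],[0,1,0],[0,1,2,0],[0,1,0],[0,1,0],[],[],[],[0,1,0],[0,1,0],[0,1,0],[0,1],[0,1,2,0],[0,1,2,0],[0,1,2,0],[0,1,0],[0,1,0],[],[],[]],
  [[],[],[],[0,0,0,0,1,1,0],[0,0,1,0,2,0,0],[0,2,0,0],[0,0,0,1,0],[0,1,0,0,0],[0,0,0,0,0,2,0],[0,1,0,0,1,0,0],[0,2,0,0,0,0],[0,0,2,0],[],[],[],[0,0,1,1,0],[0,0,0,0,0,2,0],[0,0,0,2,0],[0,2,0,0,1,0],[0,1,0,2,0,0],[0,0,1,1,0,0,0],[0,0,0,1,1,0],[0,0,0,2,0,0,0],[0,0,0,2,0],[],[],[]],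
  [[],[0,2,1,0],[0,0,1,2,0,1,0],[],[0,2,0,1,0],[0,0,1,0],[],[0,0,0,2,0],[0,0,0,1,0,0,1,0],[0,1,0,1,0,0],[0,1,1,0,2,1,0],[],[0,1,0,0],[0,0,0,0,1,1,0],[],[0,2,0,0],[0,1,0,1,2,0],[],[0,0,0,2,0],[],[0,2,0,1,1,0],[0,0],[],[0,0,0,0,0,2,0],[0,0,2,0],[],[0,0,0,1,0,0]],
  [[],[0,1,1,0],[0,1,0,0,0,0],[0,0,0,2,0],[],[0,0,1,0,1,1,0],[0,0,0,2,0],[0,0,1,0,1,0],[],[0,1,0,1,2,0],[],[0,0,0],[0,0,1,0],[0,0,2,0],[],[],[0,2,0,0,0,0],[0,1,1,0,0],[0,2,1,0,0],[0,1,0,0,0,0],[],[],[0,0,0,0,0,2,0],[0,0],[0,0,1,0,1,0,0,0],[],[0,1,0,0,0,0]],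
  [[],[0,1,1,0],[0,0,2,0],[0,0,0,1,0],[0,1,0,0,0,0],[],[0,1,0,2,0,1,0],[],[0,0,0,2,0],[],[0,0,0],[0,0,1,0,1,1,0],[0,1,1,0,0,0],[0,2,0,1,0],[],[0,0,0,2,0],[],[0,0,2,0,0],[],[0,2,0,1,0,0],[0,1,1,0,0],[0,1,0,1,1,0],[0,0],[],[0,1,0,2,0,0],[],[0,0,1,1,0,0,0]],
  [[],[0,1,1],[0,1,0,0,1,1,0],[],[0,0,0,2,0],[0,1,0,0,1,1,0],[],[0,2,0,2,0,0],[0,0,0,0,0,2,0],[0,0,0,2,0],[0,1,2,0,0],[],[0,1,0,0,0],[0,0,0,0,0,2,0],[],[0,0,2,0],[0,0,1,0,1,0,0],[],[0,2],[],[0,0,0,0,0,2,0],[0,2,0,0,0,0,0],[],[0,0,2,0],[0,0,0,0,2,0,0],[],[0,0,0,2,0]],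
  [[],[0,2,1,0],[0,1,1,0,0,1,0],[0,0,0,2,0],[0,0,0,1,0,1,0],[],[0,0,0,2,0],[],[0,1,1,0,0],[],[0,2,0,2,0,0],[0,1,0,0,1,1,0],[0,0,0,1,0,0,0],[0,0,1,0,1,0],[],[0,0,0,1,0,1,0],[],[0,0,2,0],[],[0,0,1,0,1,0],[0,0],[0,1,0,1,0,0,0,0],[0,1,2,0,0],[],[0,0,1,0],[],[0,1,0,2,0,0]],
  [[],[0,2,1,0],[0,0,1,0,0,0],[0,0,1,0,1,0,0],[],[0,0,0,2,0],[0,1,0,1,2,0],[0,1,2,0,0],[],[0,2,0,1,0],[],[0,1,0,0],[0,0,1,0,0,0],[0,0,0,2,0],[],[],[0,0,2,0],[0,1,0,1,0,0,0],[0,1,0,1,0,0],[0,0],[],[],[0,0,1,0],[0,1,2,0,0,0],[0,0,0,1,0,0],[],[0,1,0,1,0,0]],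
  [[],[0,1,1,0],[0,0,0,0,1,0],[0,1,0,1,1,0,0],[0,1,0,1,1,0],[],[0,0,2,0,0,0],[],[0,0,1,1,0],[],[0,0,1,0],[0,2,0,1,0],[0,0,2,0],[0,0,0,1,1,0],[],[0,2,0],[],[0,0,0,0,0,2,0],[],[0,0,0,2,0],[0,1,0,1,0,1,1,0],[0,0,2,0],[0,0,0,0,1,0],[],[0,1,0,0],[],[0,0,0,1,0]],
  [[],[0,1,1,0],[0,0,2,0,2,0,0],[0,1,1,0,1,0],[],[0,0,2,0],[0,0,0,1,0],[0,0,0,2,0],[],[0,2,0,1,0,0],[],[0,0,1,0,0,0],[0,2,0,1,0],[0,1,0,0],[],[],[0,0,0,0,0,2,0],[0,0],[0,0,0,2,0],[0,0,1,1,0,1,0],[],[],[0,0,1,1,0],[0,2,1,0,0],[0,0,0,0,0,2,0],[],[0,0,0,1,0,0]],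
  [[],[0,1,1,0],[0,1,0,0],[],[0,0,2,0],[0,0,1,0,1,0],[],[0,0,1,1,0,0],[0,2,1,0,0],[0,1,0,0],[0,0,2,0,1,0],[],[0,0,2,0,0,0],[0,0,1,0],[],[0,0,0,0,0,2,0],[0,0],[],[0,1,0,0,1,0,0],[],[0,0,0,2,0],[0,0,0,1,0],[],[0,2,0,0,0],[0,0,0,2,0],[],[0,0,0,1,0,0,0]],
  [[],[],[],[0,0,2,0],[0,0,0,2,0,0],[0,0,0,1,0,0],[0,2,0,0,0],[0,0,0,0,0,2,0],[0,0,0,2,0],[0,2,0,0],[0,0,1,1,0],[0,1,0,0,0],[],[],[],[0,0,0,2,0],[0,0,0,2,0,1,0,0],[0,0,0,1,0],[0,2,0,0,0],[0,0,0,2,0,0,0],[0,2,0,1,0,0],[0,0,0,1,0,0],[0,0,1,0,0,0,0],[0,2,0,0,1,0],[],[],[]],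
  [[],[],[],[0,0,0,1,0],[0,2,0,0],[0,0,1,1,0],[0,1,0,1,2,0],[0,1,0,1,2,0],[0,1,0,1,2,0],[0,0,0,0,1,0],[0,0,2,0],[0,1,0,1,2,0],[],[],[],[0,1,0,0,0],[0,1,0,1,0],[0,1,0,1,0],[0,1,0,1,0],[0,1,0,1,0],[0,0,0,2,0],[0,1,0,1,2,0],[0,0,0,2,0],[0,0,1,0,0],[],[],[]],
  [[],[],[],[],[],[],[],[],[],[],[],[],[],[],[],[],[],[],[],[],[],[],[],[],[],[],[]],
  [[],[0,2,1,0],[0,0,0,1,0],[0,0,2,0],[],[0,0,0,1,1,0],[0,0,0],[0,0,0,1,0,1,1,0],[],[0,0],[],[0,1,0,0,1,0],[0,0,0,2,0,0],[0,1,1,0,1,0,0],[],[],[0,2,0,0],[0,2,1,0,0,0],[0,1,0,0,0,1,0],[0,0,0,1,0,0,0,1,0],[],[],[0,0,0,2,0],[0,1,1,0,2,1,0],[0,0,0,2,0],[],[0,1,0,0]],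
  [[],[0,1,1,0],[0,0,0,2,0,0,0],[0,1,2,0,1,0],[0,0,1,0],[],[0,1,0,0,0,1,0],[],[0,0,0],[],[0,0,0,0,0,2,0],[0,0],[0,0,1,0,0,0],[0,0,0,2,0],[],[0,0,2,0],[],[0,2,0,0,0],[],[0,2,0,1,0],[0,0,1,1,0],[0,0,0,2,0],[0,1,0,1,1,0,0],[],[0,2,0,1,0,1,0],[],[0,0,0,1,1,0]],
  [[],[0,1,1,0],[0,0,0,2,0],[],[0,1,2,0,0],[0,0,0,1,0],[],[0,0,0],[0,1,1,0,0,1,0],[0,0,0,0,0,2,0],[0,0],[],[0,0,0,0,1,0],[0,0,2,0,0],[],[0,1,0,1,0,0],[0,0,2,0,0],[],[0,0,2,0],[],[0,2,1,0,0,0],[0,1,0,1,2,0],[],[0,1,0,1,0,1,1,0],[0,1,0,0,0],[],[0,0,1,0]],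
  [[],[0,2,1],[0,0,0,0,1,0],[0,0,1,0,0,0],[0,1,0,0],[],[0],[],[0,0,0,0,0,2,0],[],[0,0,0,2,0],[0,1,1,0,1,0,0,0],[0,1,0,0,0],[0,0,0,0,2,0,0],[],[0,0,0,1,0,0],[],[0,2,0,0],[],[0,0,0,2,0],[0,0,1,0,0,0],[0,0,0],[0,0,1,1,0,1,0,0],[],[0,1,0,0,0,0],[],[0,1,0,2,0,0]],
  [[],[0,1,1,0],[0,1,1,0,0,0],[],[0,0,0,2,0],[0,0,1,0,0],[],[0,0,1,0,1,1,0],[0,2,0],[0,0,0,2,0],[0,1,0,0,1,1,0],[],[0,0,0,0,0,2,0],[0,0,0,0,0,2,0],[],[0,0,0,0,0,2,0],[0,1,0,0],[],[0,2,0,1,0,0],[],[0,2,1,0,0],[0,1,0,2,0,1,0],[],[0,0,0],[0,2,0,1,0],[],[0,0,0,2,0]],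
  [[],[0,1,1,0],[0,0,0,0,1,0],[0,0,1,0],[],[0,1,2,0,0],[0,0,0,0,0,2,0],[0,2,0],[],[0,1,0,0,0,1,0],[],[0,0,0,2,0],[0,0,0,2,0],[0,1,0,2,0,0],[],[],[0,0,0,2,0],[0,1,0,1,2,0],[0,1,2,0,1,0],[0,1,0,0],[],[],[0,0,0],[0,1,0,1,0,0],[0,1,0,0,0,0],[],[0,0,0,1,0]],
  [[],[0,1,1,0],[0,0,1,0],[0,2,0],[],[0,1,0,1,2,0],[0,0,0,2,0,0],[0,0,0,0,1,0],[],[0,2,0,0],[],[0,0,0,2,0],[0,0,0,2,0],[0,1,1,0,0,0],[],[],[0,0,0,2,0],[0,1,0,1,1,0],[0,0,2,0],[0,0,1,0,0,1,0],[],[],[0,0,2,0],[0,0,1,0,2,0],[0,1,0,0,0,0],[],[0,0,2,0]],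
  [[],[0,1,1,0],[0,0,0,0,0,2,0],[],[0,0,0,0,0,2,0],[0,0],[],[0,0,1,0],[0,0,0,2,0],[0,1,0,1,2,0],[0,2,0,1,0],[],[0,0,1,0,1,0],[0,1,0,2,0,0],[],[0,0,0,2,0],[0,1,0,1,0,0],[],[0,1,1,0,1,0,1,0],[],[0,0,2,0],[0,2,0,0],[],[0,0,1,0,0],[0,0,1,2,0,1,0],[],[0,0,2,0,0,0]],
  [[],[0,1,1,0],[0,0,0,2,0],[0,0,0,0,0,2,0],[0,0],[],[0,2,0,0],[],[0,1,1,0,1,0,0],[],[0,1,0,0],[0,0,2,0,0],[0,0,0,1,1,0],[0,1,0,0,0],[],[0,1,1,0,1,0],[],[0,1,0,2,1,0,1,0],[],[0,0,2,0],[0,1,0,1,1,0,0],[0,1,2,0,0,0],[0,2,0,0,0],[],[0,0,0,1,0],[],[0,2,0,1,0]],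
  [[],[],[],[0,2,0,0],[0,0,0,0,1,0],[0,0,0,2,0],[0,1,0,0,1,0],[0,1,0,0,1,0],[0,1,0,0,1,0],[0,0,2,0],[0,1,0,0,1,0],[0,1,0,0,1,0],[],[],[],[0,1,0,0,1,0],[0,1,0,0,1,0],[0,0,2,0,0],[0,1,0,0,1,0],[0,0,1,1,0],[0,0,0,2,0,0],[0,0,0,2,0],[0,1,0,0,1,0],[0,2,0,0,0],[],[],[]],
  [[],[],[],[],[],[],[],[],[],[],[],[],[],[],[],[],[],[],[],[],[],[],[],[],[],[],[]],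
  [[],[],[],[0,0,0,1,1,0],[0,0,0,2,0,0],[0,0,0,0,0,0,1,0],[0,2,0,1,0,0],[0,0,0,2,0],[0,0,0,1,1,0],[0,0,0,0,1,0,0],[0,2,0,0,0,0],[0,0,1,0,0,0],[],[],[],[0,0,2,0],[0,0,1,0,0,0],[0,2,0,1,1,0],[0,0,0,2,0],[0,1,0,0,0],[0,2,0,1,1,0,0],[0,2,0,0],[0,0,0,1,0],[0,0,1,1,0],[],[],[]]]
theorem tbD : Tb (2, 2, 1) mT tbD_T mC := by decide +kernel
noncomputable def tbY_T : List (List (List ℕ)) := [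
  [[],[],[],[],[],[],[],[],[],[],[],[],[],[],[],[],[],[],[],[],[],[],[],[],[],[],[]],
  [[],[],[],[0,0,1,0],[0,1,0,2,0],[0,0,1,2,0],[0,0,1,0],[0,0,0,1,0,1,0],[0,0,2,0],[0,0,0,2,0],[0,0,0,0,1,0,1,0],[0,0,0,0,2,1,0],[0,2,1,0,1,0],[0,0,1,1,0],[0,0,1,0,0],[],[],[],[0,0,0,0,0,0,0,1,0],[0,0,0,2,1,0],[0,2,1,0],[],[],[],[0,0],[0,0,2,0],[0,0,2,0,0]],
  [[],[],[],[0,2,0,0,0,0,0],[0,0,1,0],[0,0,0,1,0,0],[0,0,2,0],[0,0,2,1,0,0],[0,1,0,0,0,0],[0,0,1,0],[0,0,0,2,0],[0,0,0,2,0,0,0],[0,2,0],[0,1,0,0,2,0],[0,0,2,0],[],[],[],[0,0,0],[0,0,2,0],[0,2,0,0,0],[],[],[],[0,1,0,1,1,0],[0,1,0,1,1,0],[0,0,1,0]],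
  [[],[0,0,2,0],[0,0,0,0,1,0,1,0],[],[0,2,1,0,1,0],[0,0,2,0,0],[],[0,0,0,2,1,0],[0,0,1,0],[],[0,0,0,0,0,0,0,1,0],[0,0,1,2,0],[],[0,0,0,1,0,1,0],[0,0,0,2,0],[],[0,0,1,0,0],[0,0,2,0],[],[0,0,1,1,0],[0,0],[],[0,2,1,0],[0,1,0,2,0],[],[0,0,1,0],[0,0,0,0,2,1,0]],
  [[],[0,1,0,0],[0,0,2,0],[0,1,0,0,0,0],[],[0,0,0,2,1,0],[0,0,1,0],[0,0,1,0,2,0],[],[0,1,0,0,0],[],[0,1,2,0,0],[0,1,0],[0,0,2,1,0],[],[],[0,0,0,0,1,0],[0,2,0],[0,0],[0,0,2,0,0,0],[],[],[0,0,1,1,0],[0,0,0],[0,0,1,2,0],[],[0,0,1,1,0,0]],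
  [[],[0,2,1,0,0],[0,0,0,1,2,0],[0,0,1,0,0,0],[0,0,1,0,0,0],[],[0,0,2,0],[],[0,0,1,0,1,0],[0,1,0,0,0],[0,0,0,0,0,2,1,0],[],[0,0,2,1,0],[],[0,1,2,0,1,0],[],[0,0,1,1,0],[0,1,0,2,0],[0,0,1,2,0],[],[0,1,0,0],[],[0,0,1,0],[0,1,0,2,1,0],[0,0,0,0,1,0],[0,2,1,0,0,0],[]],
  [[],[0,0,2,1,0],[0,0,1,0],[],[0,0,2,0],[0,1,0,0],[],[0,0,1,2,0],[0,2,0,0],[],[0,0,1,0,0],[0,0,2,0,0],[],[0,0,1,0,1,1,0],[0,1,1,0,0],[],[0,1,0,2,0],[0,1,0],[],[0,0,0,1,2,0],[0,0,0,2,1,0],[],[0,0,0,0,2,1,0],[0,0],[],[0,0,0],[0,0,0,0,1,0]],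
  [[],[0,0,0,1,0,0],[0,0,0,0,1,0],[0,1,0,1,2,0],[0,2,0,1,0,0],[],[0,0,1,0],[],[0,0,2,1,0],[0,0,2,0,0],[0,0,2,0,0],[],[0,2,0,1,0],[],[0,0,1,2,0],[],[0,1,0,0,1,0],[0,1,2,0,1,0],[0,2,0,0],[],[0,0,2,0],[],[0,0,0,1,2,0],[0,1,0,0],[0,0,1,0,0],[0,0,1,0,1,0],[]],
  [[],[0,0,1,0],[0,0,0,0,0,0,0,1,0],[0,0,2,0],[],[0,0,0,0,2,1,0],[0,0,2,0],[0,0,1,1,0],[],[0,0,1,0,0],[],[0,0,2,0,0],[0,1,0,2,0],[0,0,0,2,1,0],[],[],[0,0,0,2,0],[0,0,1,0],[0,0,0,0,1,0,1,0],[0,0,0,1,0,1,0],[],[],[0,0],[0,2,1,0,1,0],[0,2,1,0],[],[0,0,1,2,0]],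
  [[],[0,2,0,1,0],[0,0,2,1,0],[],[0,2,0,0,0],[0,2,0,0,1,0],[],[0,1,1,0,0],[0,1,0,1,1,0],[],[0,2,0,0],[0,0,2,1,0],[],[0,0,2,0,1,0],[0,0,1,0],[],[0,0,2,0],[0,1,0,2,1,0],[],[0,1,2,0,0],[0,1,0],[],[0,2,0],[0,0,1,1,0,0],[],[0,1,0,0],[0,0,0,2,0,0,0]],
  [[],[0,2,0,0,0,0,0],[0,0,0],[0,1,0,0,0,0],[],[0,0,0,2,0,0,0],[0,1,0,1,1,0],[0,1,0,0,2,0],[],[0,0,2,0],[],[0,0,1,0],[0,0,1,0],[0,0,2,0],[],[],[0,0,1,0],[0,0,2,0],[0,0,0,2,0],[0,0,2,1,0,0],[],[],[0,1,0,1,1,0],[0,2,0],[0,2,0,0,0],[],[0,0,0,1,0,0]],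
  [[],[0,0,1,0,1,0],[0,0,0,0,0,2,1,0],[0,2,1,0,0],[0,0,2,1,0],[],[0,1,0,2,0],[],[0,0,1,0,0,0],[0,0,1,1,0],[0,0,1,2,0],[],[0,1,0,2,1,0],[],[0,1,0,0,0],[],[0,1,2,0,1,0],[0,2,1,0,0,0],[0,0,0,1,2,0],[],[0,0,0,0,1,0],[],[0,1,0,0],[0,0,1,0,0,0],[0,0,1,0],[0,0,2,0],[]],
  [[],[0,1,0,0,0,0],[0,0],[],[0,0,0],[0,1,2,0,0],[],[0,0,2,1,0],[0,1,0,0],[],[0,0,2,0],[0,0,1,1,0,0],[],[0,0,2,0,0,0],[0,0,0,0,1,0],[],[0,1,0,0,0],[0,0,1,0],[],[0,0,1,0,2,0],[0,0,1,1,0],[],[0,0,1,2,0],[0,1,0],[],[0,2,0],[0,0,0,2,1,0]],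
  [[],[0,0,2,1,0],[0,0,2,0,0],[0,0,0,1,0,0],[0,2,0,1,0],[],[0,1,2,0,1,0],[],[0,1,0,1,2,0],[0,1,0,0,1,0],[0,2,0,0],[],[0,1,0,0],[],[0,0,2,0,0],[],[0,0,1,2,0],[0,0,1,0,1,0],[0,0,0,0,1,0],[],[0,0,1,0,0],[],[0,0,2,0],[0,2,0,1,0,0],[0,0,0,1,2,0],[0,0,1,0],[]],
  [[],[0,1,0,1,1,0],[0,2,0,0],[0,2,0,1,0],[],[0,0,0,2,0,0,0],[0,1,0,2,1,0],[0,1,2,0,0],[],[0,0,2,0],[],[0,2,0,0,1,0],[0,0,1,1,0,0],[0,1,1,0,0],[],[],[0,0,1,0],[0,1,0,0],[0,0,2,1,0],[0,0,2,0,1,0],[],[],[0,1,0],[0,2,0,0,0],[0,2,0],[],[0,0,2,1,0]],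
  [[],[],[],[],[],[],[],[],[],[],[],[],[],[],[],[],[],[],[],[],[],[],[],[],[],[],[]],
  [[],[],[],[0,1,0,1,1,0],[0,0,1,1,0,0],[0,0,2,1,0],[0,1,0,0],[0,0,2,0,1,0],[0,2,0,1,0],[0,0,1,0],[0,0,2,1,0],[0,0,0,2,0,0,0],[0,2,0,0,0],[0,1,2,0,0],[0,0,2,0],[],[],[],[0,2,0,0],[0,1,1,0,0],[0,2,0],[],[],[],[0,1,0],[0,1,0,2,1,0],[0,2,0,0,1,0]],
  [[],[],[],[0,2,0,0],[0,0],[0,0,2,0,0],[0,0,0],[0,0,1,0,1,1,0],[0,0,2,1,0],[0,1,1,0,0],[0,0,1,0],[0,0,0,0,1,0],[0,0,2,0],[0,0,0,1,2,0],[0,1,0,2,0],[],[],[],[0,0,1,0,0],[0,0,1,2,0],[0,0,0,0,2,1,0],[],[],[],[0,0,0,2,1,0],[0,1,0],[0,1,0,0]],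
  [[],[0,1,0,0,0,0],[0,0,0,2,0],[],[0,2,0],[0,0,1,0],[],[0,0,2,0],[0,2,0,0,0,0,0],[],[0,0,0],[0,0,0,1,0,0],[],[0,0,2,1,0,0],[0,0,1,0],[],[0,0,2,0],[0,1,0,1,1,0],[],[0,1,0,0,2,0],[0,1,0,1,1,0],[],[0,2,0,0,0],[0,0,1,0],[],[0,0,2,0],[0,0,0,2,0,0,0]],
  [[],[0,1,0,1,2,0],[0,2,0,0],[0,0,2,1,0],[0,1,0,0],[],[0,0,1,0,1,0],[],[0,0,0,1,0,0],[0,0,1,2,0],[0,0,0,0,1,0],[],[0,2,0,1,0,0],[],[0,1,0,0,1,0],[],[0,0,2,0,0],[0,0,1,0],[0,0,2,0,0],[],[0,0,0,1,2,0],[],[0,0,1,0,0],[0,2,0,1,0],[0,0,2,0],[0,1,2,0,1,0],[]],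
  [[],[0,1,0],[0,1,1,0,0],[0,2,0],[],[0,0,0,1,2,0],[0,2,0,0,0],[0,0,1,0],[],[0,2,1,0],[],[0,0,0,2,0,0,0],[0,0,1,2,0],[0,0,0,0,1,0],[],[],[0,0],[0,0,1,0,0],[0,1,0,1,2,0],[0,0,1,2,0,0],[],[],[0,0,1,0],[0,0,1,1,0],[0,0,2,0],[],[0,0,2,0]],
  [[],[],[],[],[],[],[],[],[],[],[],[],[],[],[],[],[],[],[],[],[],[],[],[],[],[],[]],
  [[],[],[],[0,1,0],[0,0,1,2,0],[0,0,2,0],[0,0,1,0,0],[0,0,1,2,0,0],[0,2,0],[0,0],[0,1,0,1,2,0],[0,0,0,1,2,0],[0,0,1,1,0],[0,0,1,0],[0,2,1,0],[],[],[],[0,1,1,0,0],[0,0,0,0,1,0],[0,0,2,0],[],[],[],[0,0,1,0],[0,2,0,0,0],[0,0,0,2,0,0,0]],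
  [[],[],[],[0,1,0,0],[0,1,0],[0,0,1,1,0,0],[0,2,0],[0,0,2,0,0,0],[0,1,0,0,0,0],[0,0,0,0,1,0],[0,0],[0,0,0,2,1,0],[0,0,0],[0,0,1,0,2,0],[0,1,0,0,0],[],[],[],[0,0,2,0],[0,0,2,1,0],[0,0,1,2,0],[],[],[],[0,0,1,1,0],[0,0,1,0],[0,1,2,0,0]],
  [[],[0,2,0],[0,1,0,1,2,0],[],[0,0,1,1,0],[0,0,0,2,0,0,0],[],[0,0,0,0,1,0],[0,1,0],[],[0,1,1,0,0],[0,0,2,0],[],[0,0,1,2,0,0],[0,0],[],[0,2,1,0],[0,2,0,0,0],[],[0,0,1,0],[0,0,1,0],[],[0,0,2,0],[0,0,1,2,0],[],[0,0,1,0,0],[0,0,0,1,2,0]],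
  [[],[0,2,0,0],[0,0,1,0,0],[0,0,2,1,0],[],[0,0,0,0,1,0],[0,1,0],[0,0,0,1,2,0],[],[0,1,0,2,0],[],[0,1,0,0],[0,0],[0,0,1,2,0],[],[],[0,1,1,0,0],[0,0,0],[0,0,1,0],[0,0,1,0,1,1,0],[],[],[0,0,0,2,1,0],[0,0,2,0],[0,0,0,0,2,1,0],[],[0,0,2,0,0]],
  [[],[0,0,1,0,0,0],[0,0,1,2,0],[0,0,1,0,1,0],[0,1,0,2,1,0],[],[0,2,1,0,0,0],[],[0,2,1,0,0],[0,1,2,0,1,0],[0,0,0,1,2,0],[],[0,0,1,0,0,0],[],[0,0,1,1,0],[],[0,1,0,0,0],[0,0,2,0],[0,0,0,0,0,2,1,0],[],[0,0,1,0],[],[0,0,0,0,1,0],[0,0,2,1,0],[0,1,0,0],[0,1,0,2,0],[]]]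
theorem tbY : Tb (1, 2, 0) mT tbY_T 0 := by decide +kernel
noncomputable def tbE_T : List (List (List ℕ)) := [
  [[],[],[],[],[],[],[],[],[],[],[],[],[],[],[],[],[],[],[],[],[],[],[],[],[],[],[]],
  [[],[],[],[],[],[],[],[],[],[],[],[],[],[],[],[],[],[],[],[],[],[],[],[],[],[],[]],
  [[],[],[],[],[],[],[],[],[],[],[],[],[],[],[],[],[],[],[],[],[],[],[],[],[],[],[]],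
  [[],[],[],[],[],[],[],[],[],[0,3],[0,3,0,0],[0,0,0,2,0],[0,0,3],[0,0,1,0],[3,1,0,0],[0,2,0,0],[0,1,0,3],[0,3,0,0],[0,0,0,2,0],[0,1,0,0],[0,2,0,3],[0,0],[0,3,0,3],[0,0,3],[0,0,2,0],[0,1,1,3],[0,0,0,3]],
  [[],[],[],[],[],[],[],[],[],[0,3,0,0],[0,0,0,3,0],[0,3],[3,1,1,0,3],[0,1,1,0],[0,0,0,0,0,3],[0,0,3],[0,0,1,3],[0,0,0,0,3],[0,0,2,0],[0,0,1,1,0],[0,0,0,3],[0,3,0,3],[0,0,3],[0,0],[0,1,0,0,0],[0,1,1,3],[0,0,0,1,0]],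
  [[],[],[],[],[],[],[],[],[],[0,0,0,2,0],[0,3],[0,3,0,0],[3,1,0,0],[0,1,1,0],[0,0,0,1,0],[3,0,0,1,0],[0,1,2,0,0],[0,0,0,2,0],[0,0,1,0],[0,0,1,0,0,0],[3,1,0,3],[0,0,3],[0,2,0],[0,3,0,3],[0,0,0,1,1,0],[0,1,1,3],[0,0,1,3]],
  [[],[],[],[],[],[],[],[],[],[0,0,0,2,0],[0,0,2,0],[3,0,0,3],[3,0,0,3],[0,0,0,3,0],[0,0,2,0],[0,3],[0,3,0,0],[0,0,0,2,0],[0,3,0],[0,3,0,3],[0,0,3],[0,0,3],[0,0,1,3],[3,0,0,0],[3,0,0,0],[0,0,3],[0,0,1,0]],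
  [[],[],[],[],[],[],[],[],[],[0,1,1,0,0],[0,0,1,0],[0,1,0,1,1,0],[0,0,0,3],[0,1,0,3],[0,0,0,1,1,0],[0,3,0,0],[0,0,0,2,0],[0,3],[0,3,0,3],[0,0,3],[0,0],[3,0,3,0,3],[0,1,0,0,3],[0,0,3,1,0],[3,1,0,3],[0,1,0,0],[0,0,0,0,3]],
  [[],[],[],[],[],[],[],[],[],[0,2,0,3],[0,0,0,3],[0,1,0,0],[0,0,1,3,0,0],[0,0,1,3],[0,3,0,3],[0,0,0,2,0],[0,3],[0,3,0,0],[0,0,3],[0,0],[0,3,0,3],[0,2,0,0],[0,1,0,3],[0,0,3,1,0,3],[0,3,0,0,3],[0,1,1,3],[3,1,0,3]],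
  [[],[],[],[0,3],[0,3,0,0],[0,0,0,2,0],[0,2,0,0,3],[3,0,0,0],[0,0,3],[],[],[],[0,0,2,0],[0,1,1,0],[0,0,1,3],[0,2,0],[0,3,0,3],[0,0,3],[],[],[],[0,0,2,0],[3,0,0,3],[0,0,0,2,0],[0,1,0,0],[0,1,1,3],[0,0,3]],
  [[],[],[],[0,3,0,0],[0,0,0,3,0],[0,3],[0,2,0,0],[0,0,1,3],[0,0,0,1,0],[],[],[],[3,1,0,3],[0,0,0,3],[0,0,3,1,0],[0,3,0,3],[0,0,3],[0,0],[],[],[],[0,2,0,3],[0,2,0,1,3],[0,1,1,0,0],[0,0,1,0],[0,1,1,3],[0,1,0,0,0]],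
  [[],[],[],[0,0,0,2,0],[0,3],[0,3,0,0],[0,1,0,3],[3,0,0,1,0],[0,0,0,0,3],[],[],[],[3,1,1,0,0],[0,2,1,0],[3,1,0,3],[0,0,3],[0,0],[0,3,0,3],[],[],[],[0,0,0,3],[0,0,1,0],[0,2,1,0,3],[0,0,3,0,0],[0,1,1,3],[0,3,0,0]],
  [[],[],[],[0,0,2,0],[3,1,1,0,3],[3,1,0,0],[0,2,0,0,0],[0,0,0,0,3],[0,0,3,0,0],[0,0,3],[3,1,0,3],[3,1,1,0,0],[],[],[],[0,0,0,2,0],[0,0,1,1,3],[0,0,1,0,3],[3,0,0,3],[0,0,0,3],[0,1,0,0,0],[3,0,0,0],[0,0,0,2,0],[0,2,0,0,3],[],[],[]],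
  [[],[],[],[0,1,0],[0,1,0],[0,1,2,0],[0,1,3,0],[0,0,3],[0,1,0],[0,1,2,0],[0,1,0],[0,1,0],[],[],[],[0,1,0],[0,1,2,0],[0,1,0],[0,1,3,0],[0,1,0],[0,1,0],[0,1,2,0],[0,1,0],[0,1,0],[],[],[]],
  [[],[],[],[3,1,0,0],[0,1,0,1,3],[0,1,0,0,3],[0,2,0,0],[0,1,0,1,3],[3,0,0,0],[0,0,0,0,3],[0,1,0,1,3],[3,1,0,3],[],[],[],[3,0,0,3],[0,0,0,3],[0,2,0,3],[0,0,2,0],[0,0,0,1,0],[0,3,0,3],[0,3,0,0],[0,1,0,1,3],[0,0,3],[],[],[]],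
  [[],[],[],[0,0,2,0],[0,2,0,3],[0,0,0,3],[0,3],[0,3,0,0],[0,0,0,2,0],[0,0],[0,3,0,3],[0,0,3],[3,0,0,0],[0,1,0,0],[0,3,0,0],[],[],[],[0,0,3],[0,0,3,1,0],[0,2,0,0],[],[],[],[0,1,0,3],[0,0,1,3],[0,3,0,3]],
  [[],[],[],[3,0,0,3],[0,0,1,0,2,0],[0,0,1,1,0],[0,3,0,0],[0,0,0,2,0],[0,3],[0,3,0,3],[0,0,3],[0,2,0],[0,0,1,0],[0,1,1,0],[0,1,0,2,0,3],[],[],[],[0,0,1,1,3],[0,0,1,0,3],[0,0,0,2,0],[],[],[],[0,0,2,0,3],[0,1,1,3],[0,1,3,1,0]],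
  [[],[],[],[0,0,0,2,0],[0,1,0,0],[0,1,2,0,3],[0,0,0,2,0],[0,3],[0,3,0,0],[0,0,3],[0,0],[0,3,0,3],[0,1,0,0,3],[0,1,1,0],[0,0,3],[],[],[],[0,0,1,3],[0,1,0,3],[0,1,0,1,3],[],[],[],[0,0,0,1,3],[0,0,0,3],[0,0,2,0]],
  [[],[],[],[0,2,0,0,3],[0,2,0,0],[0,0,1,3],[0,3,0],[0,3,0,3],[0,0,3],[],[],[],[0,1,0,0,0],[0,3,0,0],[0,1,0,0],[0,2,0,3],[0,3,0,3],[0,1,1,0,0],[],[],[],[0,3],[0,3,0,0],[0,0,0,2,0],[3,0,0,3],[0,1,0,3],[3,1,0,0]],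
  [[],[],[],[3,0,0,0],[0,1,0,3],[0,0,1,0,1,3],[0,3,0,3],[0,0,3],[0,0],[],[],[],[0,0,0,0,3],[0,0,3],[0,3,1,0,0],[0,0,0,2,0],[0,0,1,0],[0,2,1,0,3],[],[],[],[0,3,0,0],[0,0,0,2,0],[0,3],[0,0,0,3],[0,0,2,0],[0,1,3,1,0]],
  [[],[],[],[0,0,3],[0,2,0,0,0],[3,1,0,3],[0,0,3],[0,0],[0,3,0,3],[],[],[],[0,0,3,0,0],[0,1,1,0],[0,0,1,0],[0,0,2,0],[0,0,0,1,0],[0,0,0,3],[],[],[],[0,0,0,2,0],[0,3],[0,3,0,0],[3,1,0,0],[0,1,1,3],[0,0,0,2,0]],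
  [[],[],[],[0,2,0],[0,3,0,3],[0,0,3],[0,2,0,3],[0,0,1,0],[0,0,2,0],[0,2,0,0],[0,0,3],[0,2,0,1,0],[0,0,0,2,0],[0,0,2,0],[3,0,0,3],[],[],[],[0,3],[0,3,0,0],[0,0,0,2,0],[],[],[],[0,0,3],[0,1,1,3],[3,0,0,0]],
  [[],[],[],[0,3,0,3],[0,0,3],[0,0],[0,3,0,3],[0,0,1,1,0],[0,2,1,0,3],[0,1,1,0,3],[0,0,1,1,3],[0,1,0,0,3],[0,0,1,3],[0,2,1,0],[0,0,0,3],[],[],[],[0,3,0,0],[0,0,0,2,0],[0,3],[],[],[],[0,1,0,0,3],[0,1,1,3],[0,0,0,2,0]],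
  [[],[],[],[0,0,3],[0,0],[0,3,0,3],[0,1,0,0],[0,1,2,0,3],[0,0,0,3],[0,3,0,0],[0,0,1,3],[0,1,0,3],[0,0,2,0,3],[0,1,1,0],[0,1,0,3],[],[],[],[0,0,0,2,0],[0,3],[0,3,0,0],[],[],[],[3,1,0,0,3],[0,0,1,0],[0,1,0,0]],
  [[],[],[],[0,2,0,0],[0,0,0,0,3],[0,0,3,0,0],[3,0,0,3],[0,0,0,3],[0,3,1,0,3],[0,0,2,0],[0,0,0,1,3],[0,0,0,1,0],[],[],[],[0,0,3],[0,2,0,0,3],[0,0,1,3,0,3],[3,0,0,0],[0,0,0,2,0],[3,1,0,0],[0,2,0,3],[0,0,2,0,3],[3,0,0,0,0],[],[],[]],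
  [[],[],[],[0,1,3],[0,1,3],[0,1,3],[0,1,3],[0,1,3],[0,1,3],[0,1,3],[0,1,3],[0,1,3],[],[],[],[0,1,3],[0,1,3],[0,1,3],[0,0,3],[0,1,3],[0,1,3],[0,1,3],[0,1,3],[0,1,3],[],[],[]],
  [[],[],[],[0,0,3],[0,3,1,0],[0,3,0,0],[0,3,1,0],[0,3,1,0],[0,3,1,0],[0,0,0,3],[0,3,1,0],[0,3,1,0],[],[],[],[0,3,1,0],[0,3,1,0],[0,2,0,0],[0,3,1,0],[0,3,1,0],[0,3,1,0],[0,3,0,3],[0,3,1,0],[0,0,2,0],[],[],[]]]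
theorem tbE : Tb (0, 0, 1) mC tbE_T 0 := by decide +kernel

end H2.NB
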