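import Cfsg.Agent.H2.NB3g

/-! Generated: the split extension of an elementary abelian group of order 27 by the symmetric group of degree four. -/

set_option maxRecDepth 100000
set_option maxHeartbeats 4000000
set_option linter.unusedVariables false

open Subgroup
open scoped commutatorElement
namespace H2.NB
open H0 H0.PM H16 H19 H10.X H2.L3 H2.N9

noncomputable def PX_S1_F : Fm := (.allS PX_lS (.and (.qf (.not (.eq (.mul (.mul (.v (nat_lit 0)) (.v (nat_lit 8))) (.inv (.v (nat_lit 0)))) (.inv (.v (nat_lit 8)))))) (.and (.qf (.or (.eq (.pw (.v (nat_lit 0)) (nat_lit 3)) .one) (.or (.eq (.pw (.v (nat_lit 0)) (nat_lit 3)) (.v (nat_lit 10))) (.eq (.pw (.v (nat_lit 0)) (nat_lit 3)) (.inv (.v (nat_lit 10))))))) (.allS PX_lS (.qf (.mem (.mul (.inv (.v (nat_lit 0))) (.mul (.mul (.v (nat_lit 1)) (.v (nat_lit 0))) (.inv (.v (nat_lit 1))))) PX_lJ))))))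
theorem PX_S1_chk : Fm.chk PB_o PX_S1_F PX_cs = true := by decide +kernel
theorem PX_S1 {G : Type*} [Group G] {R : ℕ → G → Prop} {t a b e x z y : G} {H : Subgroup G}
    (M : Mdl PB_o PX_cs PB_L R [t, a, a⁻¹, b, b⁻¹, e, e⁻¹, x, x⁻¹, z, y] H) :
    ∀ s ∈ sp [a, b, e, x], s * x * s⁻¹ ≠ x⁻¹ ∧ (s ^ 3 = 1 ∨ s ^ 3 = z ∨ s ^ 3 = z⁻¹) ∧ (∀ u ∈ sp [a, b, e, x], u⁻¹ * (s * u * s⁻¹) ∈ sp [a, b, e]) :=
  have h : ∀ s, InS R PX_lS s → s * x * s⁻¹ ≠ x⁻¹ ∧ (s ^ 3 = 1 ∨ s ^ 3 = z ∨ s ^ 3 = z⁻¹) ∧ (∀ u, InS R PX_lS u → InS R PX_lJ (u⁻¹ * (s * u * s⁻¹))) :=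
    Fm.sound M.μ PX_S1_F PX_S1_chk M.reps
  (fun s h0 => (And.imp (fun h1 => h1) (fun h1 => (And.imp (fun h2 => h2) (fun h2 => (fun u h3 => ((PX_lJ_E M).iff.1 (h2 u ((PX_lS_E M).iff.2 h3))))) h1)) (h s ((PX_lS_E M).iff.2 h0))))
noncomputable def PX_S2_t0 : ST := (.node (nat_lit 23) (.node (nat_lit 14) (.node (nat_lit 11) (.node (nat_lit 10) (.leaf (nat_lit 7)) (.leaf (nat_lit 0))) (.node (nat_lit 12) (.leaf (nat_lit 3)) (.leaf (nat_lit 15)))) (.node (nat_lit 17) (.node (nat_lit 15) (.leaf (nat_lit 2)) (.leaf (nat_lit 0))) (.node (nat_lit 19) (.leaf (nat_lit 16)) (.leaf (nat_lit 6))))) (.node (nat_lit 44) (.node (nat_lit 28) (.node (nat_lit 27) (.leaf (nat_lit 1)) (.leaf (nat_lit 6))) (.node (nat_lit 32) (.leaf (nat_lit 7)) (.leaf (nat_lit 1)))) (.node (nat_lit 53) (.node (nat_lit 48) (.leaf (nat_lit 3)) (.leaf (nat_lit 5))) (.node (nat_lit 59) (.leaf (nat_lit 2)) (.node (nat_lit 64) (.leaf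 (nat_lit 16)) (.leaf (nat_lit 15)))))))
noncomputable def PX_S2_F : Fm := (.allS PX_lS (.imp (.eq (.pw (.v (nat_lit 0)) (nat_lit 3)) .one) (.or (.qf (.mem (.v (nat_lit 0)) PX_lJ)) (.exG PX_lS (fun cs => PX_S2_t0.find (Nat.mod (nth (nat_lit 0) cs (nat_lit 0)) (nat_lit 68))) (.qf (.or (.and (.eq (.mul (.mul (.v (nat_lit 0)) (.v (nat_lit 1))) (.inv (.v (nat_lit 0)))) (.v (nat_lit 9))) (.mem (.mul (.inv (.v (nat_lit 9))) (.v (nat_lit 1))) PX_lJ)) (.and (.eq (.mul (.mul (.v (nat_lit 0)) (.v (nat_lit 1))) (.inv (.v (nat_lit 0)))) (.inv (.v (nat_lit 9)))) (.mem (.mul (.inv (.inv (.v (nat_lit 9)))) (.v (nat_lit 1))) PX_lJ))))))))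
theorem PX_S2_chk : Fm.chk PB_o PX_S2_F PX_cs = true := by decide +kernel
theorem PX_S2 {G : Type*} [Group G] {R : ℕ → G → Prop} {t a b e x z y : G} {H : Subgroup G}
    (M : Mdl PB_o PX_cs PB_L R [t, a, a⁻¹, b, b⁻¹, e, e⁻¹, x, x⁻¹, z, y] H) :
    ∀ s ∈ sp [a, b, e, x], s ^ 3 = 1 → s ∈ sp [a, b, e] ∨ (∃ m ∈ sp [a, b, e, x], m * s * m⁻¹ = x ∧ x⁻¹ * s ∈ sp [a, b, e] ∨ m * s * m⁻¹ = x⁻¹ ∧ x⁻¹⁻¹ * s ∈ sp [a, b, e]) :=
  have h : ∀ s, InS R PX_lS s → s ^ 3 = 1 → InS R PX_lJ (s) ∨ (GoodS R PX_lS → PX_lS ≠ [] → ∃ m, InS R PX_lS m ∧ (m * s * m⁻¹ = x ∧ InS R PX_lJ (x⁻¹ * s) ∨ m * s * m⁻¹ = x⁻¹ ∧ InS R PX_lJ (x⁻¹⁻¹ * s))) :=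
    Fm.sound M.μ PX_S2_F PX_S2_chk M.reps
  (fun s h0 => (fun h1 => (Or.imp (fun h2 => ((PX_lJ_E M).iff.1 h2)) (fun h2 => (Exists.imp (fun m h3 => ⟨(PX_lS_E M).iff.1 h3.1, ((or_congr (and_congr Iff.rfl (PX_lJ_E M).iff) (and_congr Iff.rfl (PX_lJ_E M).iff)).1 h3.2)⟩) (h2 (PX_lS_E M).good (PX_lS_E M).ne))) ((h s ((PX_lS_E M).iff.2 h0)) h1))))
noncomputable def PX_S3_F : Fm := (.all PB_L (.qf (.or (.mem (.v (nat_lit 0)) PX_lS) (.mem (.mul (.v (nat_lit 1)) (.v (nat_lit 0))) PX_lS))))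
theorem PX_S3_chk : Fm.chk PB_o PX_S3_F PX_cs = true := by decide +kernel
theorem PX_S3 {G : Type*} [Group G] {R : ℕ → G → Prop} {t a b e x z y : G} {H : Subgroup G}
    (M : Mdl PB_o PX_cs PB_L R [t, a, a⁻¹, b, b⁻¹, e, e⁻¹, x, x⁻¹, z, y] H) :
    ∀ d ∈ H, d ∈ sp [a, b, e, x] ∨ t * d ∈ sp [a, b, e, x] :=
  have h : ∀ d, InL PB_o R PB_L d → InS R PX_lS (d) ∨ InS R PX_lS (t * d) :=
    Fm.sound M.μ PX_S3_F PX_S3_chk M.reps
  (fun d h0 => ((or_congr (PX_lS_E M).iff (PX_lS_E M).iff).1 (h d (M.H.iff.2 h0))))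
noncomputable def PX_W1_t0 : ST := (.node (nat_lit 14) (.node (nat_lit 7) (.leaf (nat_lit 72)) (.node (nat_lit 10) (.leaf (nat_lit 27)) (.leaf (nat_lit 99)))) (.node (nat_lit 17) (.leaf (nat_lit 0)) (.node (nat_lit 28) (.leaf (nat_lit 117)) (.leaf (nat_lit 144)))))
noncomputable def PX_W1_F : Fm := (.allS PX_lW (.or (.qf (.eq (.v (nat_lit 0)) .one)) (.or (.qf (.eq (.v (nat_lit 0)) (.v (nat_lit 10)))) (.or (.qf (.eq (.v (nat_lit 0)) (.inv (.v (nat_lit 10))))) (.exF PB_L (fun cs => PX_W1_t0.find (Nat.mod (nth (nat_lit 0) cs (nat_lit 0)) (nat_lit 31))) (.qf (.eq (.mul (.mul (.v (nat_lit 0)) (.v (nat_lit 1))) (.inv (.v (nat_lit 0)))) (.v (nat_lit 9)))))))))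
theorem PX_W1_chk : Fm.chk PB_o PX_W1_F PX_cs = true := by decide +kernel
theorem PX_W1 {G : Type*} [Group G] {R : ℕ → G → Prop} {t a b e x z y : G} {H : Subgroup G}
    (M : Mdl PB_o PX_cs PB_L R [t, a, a⁻¹, b, b⁻¹, e, e⁻¹, x, x⁻¹, z, y] H) :
    ∀ v ∈ sp [x, z], v = 1 ∨ v = z ∨ v = z⁻¹ ∨ (∃ m ∈ H, m * v * m⁻¹ = x) :=
  have h : ∀ v, InS R PX_lW v → v = 1 ∨ v = z ∨ v = z⁻¹ ∨ (Good PB_o R PB_L → prods PB_o PB_L PB_o.one ≠ [] → ∃ m, InL PB_o R PB_L m ∧ m * v * m⁻¹ = x) :=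
    Fm.sound M.μ PX_W1_F PX_W1_chk M.reps
  (fun v h0 => (Or.imp (fun h1 => h1) (fun h1 => (Or.imp (fun h2 => h2) (fun h2 => (Or.imp (fun h3 => h3) (fun h3 => (Exists.imp (fun m h4 => ⟨M.H.iff.1 h4.1, h4.2⟩) (h3 M.H.good M.H.ne))) h2)) h1)) (h v ((PX_lW_E M).iff.2 h0))))
noncomputable def PC_lU : List ℕ := [(nat_lit 0x876543210), (nat_lit 0x876543021), (nat_lit 0x876354210), (nat_lit 0x876543102), (nat_lit 0x876354021), (nat_lit 0x876435210), (nat_lit 0x876354102), (nat_lit 0x876435021), (nat_lit 0x876435102)]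
noncomputable def PC_lU_W : List (List ℕ) := [[],
  [(nat_lit 0)],
  [(nat_lit 1)],
  [(nat_lit 0), (nat_lit 0)],
  [(nat_lit 0), (nat_lit 1)],
  [(nat_lit 1), (nat_lit 1)],
  [(nat_lit 0), (nat_lit 0), (nat_lit 1)],
  [(nat_lit 0), (nat_lit 1), (nat_lit 1)],
  [(nat_lit 0), (nat_lit 0), (nat_lit 1), (nat_lit 1)]]
noncomputable def PC_lU_h (c : ℕ) : ℕ := Nat.mod c (nat_lit 28)
theorem PC_lU_E {G : Type*} [Group G] {R : ℕ → G → Prop} {t c a b e x z y : G} {H : Subgroup G}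
    (M : Mdl P1_o PC_cs P1_L R [t, c, a, a⁻¹, b, b⁻¹, e, e⁻¹, x, x⁻¹, z, y] H) :
    EnumS R PC_lU (sp [a, b]) :=
  enumS_sp M.μ.1 (M.reps.tms M.μ.1 [(.v (nat_lit 2)), (.v (nat_lit 4))] (cs' := [(nat_lit 0x876543021), (nat_lit 0x876354210)]) (by decide +kernel))
    (Ws := PC_lU_W) (by decide +kernel) (by decide +kernel)
theorem PC_lU_c {G : Type*} [Group G] {R : ℕ → G → Prop} {t c a b e x z y : G} {H : Subgroup G}
    (M : Mdl P1_o PC_cs P1_L R [t, c, a, a⁻¹, b, b⁻¹, e, e⁻¹, x, x⁻¹, z, y] H) :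
    #(sp [a, b]) = 9 :=
  (PC_lU_E M).card M.μ (h := PC_lU_h) (by decide +kernel)
noncomputable def PC_lF : List ℕ := [(nat_lit 0x876543210), (nat_lit 0x876354021), (nat_lit 0x687543210), (nat_lit 0x876435102), (nat_lit 0x687354021), (nat_lit 0x768543210), (nat_lit 0x687435102), (nat_lit 0x768354021), (nat_lit 0x768435102)]
noncomputable def PC_lF_W : List (List ℕ) := [[],
  [(nat_lit 0)],
  [(nat_lit 1)],
  [(nat_lit 0), (nat_lit 0)],
  [(nat_lit 0), (nat_lit 1)],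
  [(nat_lit 1), (nat_lit 1)],
  [(nat_lit 0), (nat_lit 0), (nat_lit 1)],
  [(nat_lit 0), (nat_lit 1), (nat_lit 1)],
  [(nat_lit 0), (nat_lit 0), (nat_lit 1), (nat_lit 1)]]
noncomputable def PC_lF_h (c : ℕ) : ℕ := Nat.mod c (nat_lit 13)
theorem PC_lF_E {G : Type*} [Group G] {R : ℕ → G → Prop} {t c a b e x z y : G} {H : Subgroup G}
    (M : Mdl P1_o PC_cs P1_L R [t, c, a, a⁻¹, b, b⁻¹, e, e⁻¹, x, x⁻¹, z, y] H) :
    EnumS R PC_lF (sp [a * b, e]) :=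
  enumS_sp M.μ.1 (M.reps.tms M.μ.1 [(.mul (.v (nat_lit 2)) (.v (nat_lit 4))), (.v (nat_lit 6))] (cs' := [(nat_lit 0x876354021), (nat_lit 0x687543210)]) (by decide +kernel))
    (Ws := PC_lF_W) (by decide +kernel) (by decide +kernel)
theorem PC_lF_c {G : Type*} [Group G] {R : ℕ → G → Prop} {t c a b e x z y : G} {H : Subgroup G}
    (M : Mdl P1_o PC_cs P1_L R [t, c, a, a⁻¹, b, b⁻¹, e, e⁻¹, x, x⁻¹, z, y] H) :
    #(sp [a * b, e]) = 9 :=
  (PC_lF_E M).card M.μ (h := PC_lF_h) (by decide +kernel)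
noncomputable def PC_lA : List ℕ := [(nat_lit 0x876543210), (nat_lit 0x876354021), (nat_lit 0x876435102)]
noncomputable def PC_lA_W : List (List ℕ) := [[],
  [(nat_lit 0)],
  [(nat_lit 0), (nat_lit 0)]]
noncomputable def PC_lA_h (c : ℕ) : ℕ := Nat.mod c (nat_lit 4)
theorem PC_lA_E {G : Type*} [Group G] {R : ℕ → G → Prop} {t c a b e x z y : G} {H : Subgroup G}
    (M : Mdl P1_o PC_cs P1_L R [t, c, a, a⁻¹, b, b⁻¹, e, e⁻¹, x, x⁻¹, z, y] H) :
    EnumS R PC_lA (sp [a * b]) :=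
  enumS_sp M.μ.1 (M.reps.tms M.μ.1 [(.mul (.v (nat_lit 2)) (.v (nat_lit 4)))] (cs' := [(nat_lit 0x876354021)]) (by decide +kernel))
    (Ws := PC_lA_W) (by decide +kernel) (by decide +kernel)
theorem PC_lA_c {G : Type*} [Group G] {R : ℕ → G → Prop} {t c a b e x z y : G} {H : Subgroup G}
    (M : Mdl P1_o PC_cs P1_L R [t, c, a, a⁻¹, b, b⁻¹, e, e⁻¹, x, x⁻¹, z, y] H) :
    #(sp [a * b]) = 3 :=
  (PC_lA_E M).card M.μ (h := PC_lA_h) (by decide +kernel)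
noncomputable def PC_lCT : List ℕ := [(nat_lit 0x876543210), (nat_lit 0x876354021), (nat_lit 0x687543210), (nat_lit 0x876210543), (nat_lit 0x876453120), (nat_lit 0x876435102), (nat_lit 0x687354021), (nat_lit 0x876021354), (nat_lit 0x876345012), (nat_lit 0x768543210), (nat_lit 0x687210543), (nat_lit 0x687453120), (nat_lit 0x876120453), (nat_lit 0x876534201), (nat_lit 0x687435102), (nat_lit 0x876102435), (nat_lit 0x768354021), (nat_lit 0x687021354), (nat_lit 0x687345012), (nat_lit 0x876012345), (nat_lit 0x768210543), (nat_lit 0x768453120), (nat_lit 0x687120453), (nat_lit 0x687534201), (nat_lit 0x876201534), (nat_lit 0x768435102), (nat_lit 0x687102435), (nat_lit 0x768021354), (nat_lit 0x768345012), (nat_lit 0x687012345), (nat_lit 0x768120453), (nat_lit 0x768534201), (nat_lit 0x687201534), (nat_lit 0x768102435), (nat_lit 0x768012345), (nat_lit 0x768201534)]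
noncomputable def PC_lCT_W : List (List ℕ) := [[],
  [(nat_lit 0)],
  [(nat_lit 1)],
  [(nat_lit 2)],
  [(nat_lit 3)],
  [(nat_lit 0), (nat_lit 0)],
  [(nat_lit 0), (nat_lit 1)],
  [(nat_lit 0), (nat_lit 2)],
  [(nat_lit 0), (nat_lit 3)],
  [(nat_lit 1), (nat_lit 1)],
  [(nat_lit 1), (nat_lit 2)],
  [(nat_lit 1), (nat_lit 3)],
  [(nat_lit 2), (nat_lit 3)],
  [(nat_lit 3), (nat_lit 0)],
  [(nat_lit 0), (nat_lit 0), (nat_lit 1)],
  [(nat_lit 0), (nat_lit 0), (nat_lit 2)],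
  [(nat_lit 0), (nat_lit 1), (nat_lit 1)],
  [(nat_lit 0), (nat_lit 1), (nat_lit 2)],
  [(nat_lit 0), (nat_lit 1), (nat_lit 3)],
  [(nat_lit 0), (nat_lit 2), (nat_lit 3)],
  [(nat_lit 1), (nat_lit 1), (nat_lit 2)],
  [(nat_lit 1), (nat_lit 1), (nat_lit 3)],
  [(nat_lit 1), (nat_lit 2), (nat_lit 3)],
  [(nat_lit 1), (nat_lit 3), (nat_lit 0)],
  [(nat_lit 2), (nat_lit 3), (nat_lit 0)],
  [(nat_lit 0), (nat_lit 0), (nat_lit 1), (nat_lit 1)],
  [(nat_lit 0), (nat_lit 0), (nat_lit 1), (nat_lit 2)],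
  [(nat_lit 0), (nat_lit 1), (nat_lit 1), (nat_lit 2)],
  [(nat_lit 0), (nat_lit 1), (nat_lit 1), (nat_lit 3)],
  [(nat_lit 0), (nat_lit 1), (nat_lit 2), (nat_lit 3)],
  [(nat_lit 1), (nat_lit 1), (nat_lit 2), (nat_lit 3)],
  [(nat_lit 1), (nat_lit 1), (nat_lit 3), (nat_lit 0)],
  [(nat_lit 1), (nat_lit 2), (nat_lit 3), (nat_lit 0)],
  [(nat_lit 0), (nat_lit 0), (nat_lit 1), (nat_lit 1), (nat_lit 2)],
  [(nat_lit 0), (nat_lit 1), (nat_lit 1), (nat_lit 2), (nat_lit 3)],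
  [(nat_lit 1), (nat_lit 1), (nat_lit 2), (nat_lit 3), (nat_lit 0)]]
noncomputable def PC_lCT_h (c : ℕ) : ℕ := Nat.mod c (nat_lit 142)
theorem PC_lCT_E {G : Type*} [Group G] {R : ℕ → G → Prop} {t c a b e x z y : G} {H : Subgroup G}
    (M : Mdl P1_o PC_cs P1_L R [t, c, a, a⁻¹, b, b⁻¹, e, e⁻¹, x, x⁻¹, z, y] H) :
    EnumS R PC_lCT (sp [a * b, e, t, c]) :=
  enumS_sp M.μ.1 (M.reps.tms M.μ.1 [(.mul (.v (nat_lit 2)) (.v (nat_lit 4))), (.v (nat_lit 6)), (.v (nat_lit 0)), (.v (nat_lit 1))] (cs' := [(nat_lit 0x876354021), (nat_lit 0x687543210), (nat_lit 0x876210543), (nat_lit 0x876453120)]) (by decide +kernel))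
    (Ws := PC_lCT_W) (by decide +kernel) (by decide +kernel)
theorem PC_lCT_c {G : Type*} [Group G] {R : ℕ → G → Prop} {t c a b e x z y : G} {H : Subgroup G}
    (M : Mdl P1_o PC_cs P1_L R [t, c, a, a⁻¹, b, b⁻¹, e, e⁻¹, x, x⁻¹, z, y] H) :
    #(sp [a * b, e, t, c]) = 36 :=
  (PC_lCT_E M).card M.μ (h := PC_lCT_h) (by decide +kernel)
noncomputable def PC_lV : List ℕ := [(nat_lit 0x876543210), (nat_lit 0x876210543), (nat_lit 0x876453120), (nat_lit 0x876120453)]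
noncomputable def PC_lV_W : List (List ℕ) := [[],
  [(nat_lit 0)],
  [(nat_lit 1)],
  [(nat_lit 0), (nat_lit 1)]]
noncomputable def PC_lV_h (c : ℕ) : ℕ := Nat.mod c (nat_lit 14)
theorem PC_lV_E {G : Type*} [Group G] {R : ℕ → G → Prop} {t c a b e x z y : G} {H : Subgroup G}
    (M : Mdl P1_o PC_cs P1_L R [t, c, a, a⁻¹, b, b⁻¹, e, e⁻¹, x, x⁻¹, z, y] H) :
    EnumS R PC_lV (sp [t, c]) :=
  enumS_sp M.μ.1 (M.reps.tms M.μ.1 [(.v (nat_lit 0)), (.v (nat_lit 1))] (cs' := [(nat_lit 0x876210543), (nat_lit 0x876453120)]) (by decide +kernel))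
    (Ws := PC_lV_W) (by decide +kernel) (by decide +kernel)
theorem PC_lV_c {G : Type*} [Group G] {R : ℕ → G → Prop} {t c a b e x z y : G} {H : Subgroup G}
    (M : Mdl P1_o PC_cs P1_L R [t, c, a, a⁻¹, b, b⁻¹, e, e⁻¹, x, x⁻¹, z, y] H) :
    #(sp [t, c]) = 4 :=
  (PC_lV_E M).card M.μ (h := PC_lV_h) (by decide +kernel)
noncomputable def PC_lY : List ℕ := [(nat_lit 0x876543210), (nat_lit 0x876543021), (nat_lit 0x876354210), (nat_lit 0x687543210), (nat_lit 0x210876543), (nat_lit 0x876453120), (nat_lit 0x876543102), (nat_lit 0x876354021), (nat_lit 0x687543021), (nat_lit 0x210876354), (nat_lit 0x876453012), (nat_lit 0x876435210), (nat_lit 0x687354210), (nat_lit 0x210687543), (nat_lit 0x876345120), (nat_lit 0x768543210), (nat_lit 0x21876543), (nat_lit 0x687453120), (nat_lit 0x543210876), (nat_lit 0x120876453), (nat_lit 0x876453201), (nat_lit 0x876534120), (nat_lit 0x210786453), (nat_lit 0x876354102),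 (nat_lit 0x687543102), (nat_lit 0x210876435), (nat_lit 0x876435021), (nat_lit 0x687354021), (nat_lit 0x210687354), (nat_lit 0x876345012), (nat_lit 0x768543021), (nat_lit 0x21876354), (nat_lit 0x687453012), (nat_lit 0x543210687), (nat_lit 0x120876345), (nat_lit 0x876534012), (nat_lit 0x210786345), (nat_lit 0x687435210), (nat_lit 0x210768543), (nat_lit 0x768354210), (nat_lit 0x21687543), (nat_lit 0x687345120), (nat_lit 0x543021876), (nat_lit 0x120687453), (nat_lit 0x876345201), (nat_lit 0x210678453), (nat_lit 0x102876543), (nat_lit 0x768453120), (nat_lit 0x354210876), (nat_lit 0x12876453), (nat_lit 0x687453201), (nat_lit 0x687534120), (nat_lit 0x21786453), (nat_lit 0x453120876), (nat_lit 0x201876453), (nat_lit 0x120876534), (nat_lit 0x453210786), (nat_lit 0x876534201), (nat_lit 0x210786534), (nat_lit 0x210867453), (nat_lit 0x543120786), (nat_lit 0x120786543), (nat_lit 0x876435102), (nat_lit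 0x687354102), (nat_lit 0x210687435), (nat_lit 0x768543102), (nat_lit 0x21876435), (nat_lit 0x543210768), (nat_lit 0x687435021), (nat_lit 0x210768354), (nat_lit 0x768354021), (nat_lit 0x21687354), (nat_lit 0x687345012), (nat_lit 0x543021687), (nat_lit 0x120687345), (nat_lit 0x210678345), (nat_lit 0x102876354), (nat_lit 0x768453012), (nat_lit 0x354210687), (nat_lit 0x12876345), (nat_lit 0x687534012), (nat_lit 0x21786345), (nat_lit 0x453120687), (nat_lit 0x201876345), (nat_lit 0x453210678), (nat_lit 0x210867345), (nat_lit 0x543120678), (nat_lit 0x120786354), (nat_lit 0x768435210), (nat_lit 0x21768543), (nat_lit 0x543102876), (nat_lit 0x120768453), (nat_lit 0x102687543), (nat_lit 0x768345120), (nat_lit 0x354021876), (nat_lit 0x12687453), (nat_lit 0x687345201), (nat_lit 0x21678453), (nat_lit 0x453012876), (nat_lit 0x201687453), (nat_lit 0x120687534), (nat_lit 0x453021786), (nat_lit 0x210678534),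 (nat_lit 0x543012786), (nat_lit 0x120678543), (nat_lit 0x435210876), (nat_lit 0x768453201), (nat_lit 0x768534120), (nat_lit 0x102786453), (nat_lit 0x345120876), (nat_lit 0x12876534), (nat_lit 0x345210786), (nat_lit 0x687534201), (nat_lit 0x21786534), (nat_lit 0x21867453), (nat_lit 0x354120786), (nat_lit 0x12786543), (nat_lit 0x453201876), (nat_lit 0x534120876), (nat_lit 0x786453210), (nat_lit 0x201876534), (nat_lit 0x534210786), (nat_lit 0x453210867), (nat_lit 0x786543120), (nat_lit 0x210867534), (nat_lit 0x543120867), (nat_lit 0x120786435), (nat_lit 0x543201786), (nat_lit 0x120867543), (nat_lit 0x201786543), (nat_lit 0x687435102), (nat_lit 0x210768435), (nat_lit 0x768354102), (nat_lit 0x21687435), (nat_lit 0x543021768), (nat_lit 0x102876435), (nat_lit 0x354210768), (nat_lit 0x453120768), (nat_lit 0x768435021), (nat_lit 0x21768354), (nat_lit 0x543102687), (nat_lit 0x120768345), (nat_lit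 0x102687354), (nat_lit 0x768345012), (nat_lit 0x354021687), (nat_lit 0x12687345), (nat_lit 0x21678345), (nat_lit 0x453012687), (nat_lit 0x201687345), (nat_lit 0x453021678), (nat_lit 0x543012678), (nat_lit 0x120678354), (nat_lit 0x435210687), (nat_lit 0x768534012), (nat_lit 0x102786345), (nat_lit 0x345120687), (nat_lit 0x345210678), (nat_lit 0x21867345), (nat_lit 0x354120678), (nat_lit 0x12786354), (nat_lit 0x453201687), (nat_lit 0x534120687), (nat_lit 0x786453021), (nat_lit 0x534210678), (nat_lit 0x786543012), (nat_lit 0x543201678), (nat_lit 0x120867354), (nat_lit 0x201786354), (nat_lit 0x102768543), (nat_lit 0x354102876), (nat_lit 0x12768453), (nat_lit 0x201768453), (nat_lit 0x120768534), (nat_lit 0x453102786), (nat_lit 0x435021876), (nat_lit 0x768345201), (nat_lit 0x102678453), (nat_lit 0x345012876), (nat_lit 0x12687534), (nat_lit 0x345021786), (nat_lit 0x21678534), (nat_lit 0x354012786),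 (nat_lit 0x12678543), (nat_lit 0x534012876), (nat_lit 0x786345210), (nat_lit 0x201687534), (nat_lit 0x534021786), (nat_lit 0x453021867), (nat_lit 0x786354120), (nat_lit 0x543012867), (nat_lit 0x120678435), (nat_lit 0x201678543), (nat_lit 0x768534201), (nat_lit 0x102786534), (nat_lit 0x102867453), (nat_lit 0x435120786), (nat_lit 0x345201876), (nat_lit 0x678453210), (nat_lit 0x345210867), (nat_lit 0x678543120), (nat_lit 0x21867534), (nat_lit 0x354120867), (nat_lit 0x12786435), (nat_lit 0x354201786), (nat_lit 0x12867543), (nat_lit 0x534201876), (nat_lit 0x786534210), (nat_lit 0x867453210), (nat_lit 0x534210867), (nat_lit 0x867543120), (nat_lit 0x786543201), (nat_lit 0x543201867), (nat_lit 0x120867435), (nat_lit 0x201786435), (nat_lit 0x201867543), (nat_lit 0x768435102), (nat_lit 0x21768435), (nat_lit 0x543102768), (nat_lit 0x102687435), (nat_lit 0x354021768), (nat_lit 0x453012768), (nat_lit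 0x435210768), (nat_lit 0x345120768), (nat_lit 0x453201768), (nat_lit 0x534120768), (nat_lit 0x786453102), (nat_lit 0x102768354), (nat_lit 0x354102687), (nat_lit 0x12768345), (nat_lit 0x201768345), (nat_lit 0x453102678), (nat_lit 0x435021687), (nat_lit 0x102678345), (nat_lit 0x345012687), (nat_lit 0x345021678), (nat_lit 0x354012678), (nat_lit 0x12678354), (nat_lit 0x534012687), (nat_lit 0x786345021), (nat_lit 0x534021678), (nat_lit 0x786354012), (nat_lit 0x201678354), (nat_lit 0x102867345), (nat_lit 0x435120678), (nat_lit 0x345201687), (nat_lit 0x678453021), (nat_lit 0x678543012), (nat_lit 0x354201678), (nat_lit 0x12867354), (nat_lit 0x534201687), (nat_lit 0x786534021), (nat_lit 0x867453021), (nat_lit 0x867543012), (nat_lit 0x201867354), (nat_lit 0x435102876), (nat_lit 0x12768534), (nat_lit 0x345102786), (nat_lit 0x201768534), (nat_lit 0x534102786), (nat_lit 0x453102867), (nat_lit 0x786435120),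 (nat_lit 0x102678534), (nat_lit 0x435012786), (nat_lit 0x678345210), (nat_lit 0x345021867), (nat_lit 0x678354120), (nat_lit 0x354012867), (nat_lit 0x12678435), (nat_lit 0x867345210), (nat_lit 0x534021867), (nat_lit 0x867354120), (nat_lit 0x786354201), (nat_lit 0x201678435), (nat_lit 0x102867534), (nat_lit 0x435120867), (nat_lit 0x435201786), (nat_lit 0x678534210), (nat_lit 0x678543201), (nat_lit 0x354201867), (nat_lit 0x12867435), (nat_lit 0x867534210), (nat_lit 0x867543201), (nat_lit 0x201867435), (nat_lit 0x102768435), (nat_lit 0x354102768), (nat_lit 0x435021768), (nat_lit 0x345012768), (nat_lit 0x534012768), (nat_lit 0x786345102), (nat_lit 0x345201768), (nat_lit 0x678453102), (nat_lit 0x534201768), (nat_lit 0x786534102), (nat_lit 0x867453102), (nat_lit 0x435102687), (nat_lit 0x345102678), (nat_lit 0x534102678), (nat_lit 0x786435012), (nat_lit 0x435012678), (nat_lit 0x678345021), (nat_lit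 0x678354012), (nat_lit 0x867345021), (nat_lit 0x867354012), (nat_lit 0x435201678), (nat_lit 0x678534021), (nat_lit 0x867534021), (nat_lit 0x345102867), (nat_lit 0x678435120), (nat_lit 0x534102867), (nat_lit 0x867435120), (nat_lit 0x786435201), (nat_lit 0x435012867), (nat_lit 0x678354201), (nat_lit 0x867354201), (nat_lit 0x435201867), (nat_lit 0x435102768), (nat_lit 0x678345102), (nat_lit 0x867345102), (nat_lit 0x678534102), (nat_lit 0x867534102), (nat_lit 0x678435012), (nat_lit 0x867435012), (nat_lit 0x678435201), (nat_lit 0x867435201)]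
noncomputable def PC_lY_W : List (List ℕ) := [[],
  [(nat_lit 0)],
  [(nat_lit 1)],
  [(nat_lit 2)],
  [(nat_lit 3)],
  [(nat_lit 4)],
  [(nat_lit 0), (nat_lit 0)],
  [(nat_lit 0), (nat_lit 1)],
  [(nat_lit 0), (nat_lit 2)],
  [(nat_lit 0), (nat_lit 3)],
  [(nat_lit 0), (nat_lit 4)],
  [(nat_lit 1), (nat_lit 1)],
  [(nat_lit 1), (nat_lit 2)],
  [(nat_lit 1), (nat_lit 3)],
  [(nat_lit 1), (nat_lit 4)],
  [(nat_lit 2), (nat_lit 2)],
  [(nat_lit 2), (nat_lit 3)],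
  [(nat_lit 2), (nat_lit 4)],
  [(nat_lit 3), (nat_lit 3)],
  [(nat_lit 3), (nat_lit 4)],
  [(nat_lit 4), (nat_lit 0)],
  [(nat_lit 4), (nat_lit 1)],
  [(nat_lit 4), (nat_lit 3)],
  [(nat_lit 0), (nat_lit 0), (nat_lit 1)],
  [(nat_lit 0), (nat_lit 0), (nat_lit 2)],
  [(nat_lit 0), (nat_lit 0), (nat_lit 3)],
  [(nat_lit 0), (nat_lit 1), (nat_lit 1)],
  [(nat_lit 0), (nat_lit 1), (nat_lit 2)],
  [(nat_lit 0), (nat_lit 1), (nat_lit 3)],
  [(nat_lit 0), (nat_lit 1), (nat_lit 4)],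
  [(nat_lit 0), (nat_lit 2), (nat_lit 2)],
  [(nat_lit 0), (nat_lit 2), (nat_lit 3)],
  [(nat_lit 0), (nat_lit 2), (nat_lit 4)],
  [(nat_lit 0), (nat_lit 3), (nat_lit 3)],
  [(nat_lit 0), (nat_lit 3), (nat_lit 4)],
  [(nat_lit 0), (nat_lit 4), (nat_lit 1)],
  [(nat_lit 0), (nat_lit 4), (nat_lit 3)],
  [(nat_lit 1), (nat_lit 1), (nat_lit 2)],
  [(nat_lit 1), (nat_lit 1), (nat_lit 3)],
  [(nat_lit 1), (nat_lit 2), (nat_lit 2)],
  [(nat_lit 1), (nat_lit 2), (nat_lit 3)],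
  [(nat_lit 1), (nat_lit 2), (nat_lit 4)],
  [(nat_lit 1), (nat_lit 3), (nat_lit 3)],
  [(nat_lit 1), (nat_lit 3), (nat_lit 4)],
  [(nat_lit 1), (nat_lit 4), (nat_lit 0)],
  [(nat_lit 1), (nat_lit 4), (nat_lit 3)],
  [(nat_lit 2), (nat_lit 2), (nat_lit 3)],
  [(nat_lit 2), (nat_lit 2), (nat_lit 4)],
  [(nat_lit 2), (nat_lit 3), (nat_lit 3)],
  [(nat_lit 2), (nat_lit 3), (nat_lit 4)],
  [(nat_lit 2), (nat_lit 4), (nat_lit 0)],
  [(nat_lit 2), (nat_lit 4), (nat_lit 1)],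
  [(nat_lit 2), (nat_lit 4), (nat_lit 3)],
  [(nat_lit 3), (nat_lit 3), (nat_lit 4)],
  [(nat_lit 3), (nat_lit 4), (nat_lit 0)],
  [(nat_lit 3), (nat_lit 4), (nat_lit 1)],
  [(nat_lit 3), (nat_lit 4), (nat_lit 3)],
  [(nat_lit 4), (nat_lit 0), (nat_lit 1)],
  [(nat_lit 4), (nat_lit 0), (nat_lit 3)],
  [(nat_lit 4), (nat_lit 1), (nat_lit 3)],
  [(nat_lit 4), (nat_lit 3), (nat_lit 3)],
  [(nat_lit 4), (nat_lit 3), (nat_lit 4)],
  [(nat_lit 0), (nat_lit 0), (nat_lit 1), (nat_lit 1)],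
  [(nat_lit 0), (nat_lit 0), (nat_lit 1), (nat_lit 2)],
  [(nat_lit 0), (nat_lit 0), (nat_lit 1), (nat_lit 3)],
  [(nat_lit 0), (nat_lit 0), (nat_lit 2), (nat_lit 2)],
  [(nat_lit 0), (nat_lit 0), (nat_lit 2), (nat_lit 3)],
  [(nat_lit 0), (nat_lit 0), (nat_lit 3), (nat_lit 3)],
  [(nat_lit 0), (nat_lit 1), (nat_lit 1), (nat_lit 2)],
  [(nat_lit 0), (nat_lit 1), (nat_lit 1), (nat_lit 3)],
  [(nat_lit 0), (nat_lit 1), (nat_lit 2), (nat_lit 2)],
  [(nat_lit 0), (nat_lit 1), (nat_lit 2), (nat_lit 3)],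
  [(nat_lit 0), (nat_lit 1), (nat_lit 2), (nat_lit 4)],
  [(nat_lit 0), (nat_lit 1), (nat_lit 3), (nat_lit 3)],
  [(nat_lit 0), (nat_lit 1), (nat_lit 3), (nat_lit 4)],
  [(nat_lit 0), (nat_lit 1), (nat_lit 4), (nat_lit 3)],
  [(nat_lit 0), (nat_lit 2), (nat_lit 2), (nat_lit 3)],
  [(nat_lit 0), (nat_lit 2), (nat_lit 2), (nat_lit 4)],
  [(nat_lit 0), (nat_lit 2), (nat_lit 3), (nat_lit 3)],
  [(nat_lit 0), (nat_lit 2), (nat_lit 3), (nat_lit 4)],
  [(nat_lit 0), (nat_lit 2), (nat_lit 4), (nat_lit 1)],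
  [(nat_lit 0), (nat_lit 2), (nat_lit 4), (nat_lit 3)],
  [(nat_lit 0), (nat_lit 3), (nat_lit 3), (nat_lit 4)],
  [(nat_lit 0), (nat_lit 3), (nat_lit 4), (nat_lit 0)],
  [(nat_lit 0), (nat_lit 3), (nat_lit 4), (nat_lit 3)],
  [(nat_lit 0), (nat_lit 4), (nat_lit 1), (nat_lit 3)],
  [(nat_lit 0), (nat_lit 4), (nat_lit 3), (nat_lit 3)],
  [(nat_lit 0), (nat_lit 4), (nat_lit 3), (nat_lit 4)],
  [(nat_lit 1), (nat_lit 1), (nat_lit 2), (nat_lit 2)],
  [(nat_lit 1), (nat_lit 1), (nat_lit 2), (nat_lit 3)],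
  [(nat_lit 1), (nat_lit 1), (nat_lit 3), (nat_lit 3)],
  [(nat_lit 1), (nat_lit 1), (nat_lit 3), (nat_lit 4)],
  [(nat_lit 1), (nat_lit 2), (nat_lit 2), (nat_lit 3)],
  [(nat_lit 1), (nat_lit 2), (nat_lit 2), (nat_lit 4)],
  [(nat_lit 1), (nat_lit 2), (nat_lit 3), (nat_lit 3)],
  [(nat_lit 1), (nat_lit 2), (nat_lit 3), (nat_lit 4)],
  [(nat_lit 1), (nat_lit 2), (nat_lit 4), (nat_lit 0)],
  [(nat_lit 1), (nat_lit 2), (nat_lit 4), (nat_lit 3)],
  [(nat_lit 1), (nat_lit 3), (nat_lit 3), (nat_lit 4)],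
  [(nat_lit 1), (nat_lit 3), (nat_lit 4), (nat_lit 0)],
  [(nat_lit 1), (nat_lit 3), (nat_lit 4), (nat_lit 1)],
  [(nat_lit 1), (nat_lit 3), (nat_lit 4), (nat_lit 3)],
  [(nat_lit 1), (nat_lit 4), (nat_lit 0), (nat_lit 3)],
  [(nat_lit 1), (nat_lit 4), (nat_lit 3), (nat_lit 3)],
  [(nat_lit 1), (nat_lit 4), (nat_lit 3), (nat_lit 4)],
  [(nat_lit 2), (nat_lit 2), (nat_lit 3), (nat_lit 3)],
  [(nat_lit 2), (nat_lit 2), (nat_lit 4), (nat_lit 0)],
  [(nat_lit 2), (nat_lit 2), (nat_lit 4), (nat_lit 1)],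
  [(nat_lit 2), (nat_lit 2), (nat_lit 4), (nat_lit 3)],
  [(nat_lit 2), (nat_lit 3), (nat_lit 3), (nat_lit 4)],
  [(nat_lit 2), (nat_lit 3), (nat_lit 4), (nat_lit 1)],
  [(nat_lit 2), (nat_lit 3), (nat_lit 4), (nat_lit 3)],
  [(nat_lit 2), (nat_lit 4), (nat_lit 0), (nat_lit 1)],
  [(nat_lit 2), (nat_lit 4), (nat_lit 0), (nat_lit 3)],
  [(nat_lit 2), (nat_lit 4), (nat_lit 1), (nat_lit 3)],
  [(nat_lit 2), (nat_lit 4), (nat_lit 3), (nat_lit 3)],
  [(nat_lit 2), (nat_lit 4), (nat_lit 3), (nat_lit 4)],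
  [(nat_lit 3), (nat_lit 3), (nat_lit 4), (nat_lit 0)],
  [(nat_lit 3), (nat_lit 3), (nat_lit 4), (nat_lit 1)],
  [(nat_lit 3), (nat_lit 3), (nat_lit 4), (nat_lit 3)],
  [(nat_lit 3), (nat_lit 4), (nat_lit 0), (nat_lit 1)],
  [(nat_lit 3), (nat_lit 4), (nat_lit 0), (nat_lit 3)],
  [(nat_lit 3), (nat_lit 4), (nat_lit 1), (nat_lit 3)],
  [(nat_lit 3), (nat_lit 4), (nat_lit 3), (nat_lit 3)],
  [(nat_lit 4), (nat_lit 0), (nat_lit 1), (nat_lit 3)],
  [(nat_lit 4), (nat_lit 0), (nat_lit 3), (nat_lit 3)],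
  [(nat_lit 4), (nat_lit 0), (nat_lit 3), (nat_lit 4)],
  [(nat_lit 4), (nat_lit 1), (nat_lit 3), (nat_lit 3)],
  [(nat_lit 4), (nat_lit 1), (nat_lit 3), (nat_lit 4)],
  [(nat_lit 4), (nat_lit 3), (nat_lit 4), (nat_lit 0)],
  [(nat_lit 0), (nat_lit 0), (nat_lit 1), (nat_lit 1), (nat_lit 2)],
  [(nat_lit 0), (nat_lit 0), (nat_lit 1), (nat_lit 1), (nat_lit 3)],
  [(nat_lit 0), (nat_lit 0), (nat_lit 1), (nat_lit 2), (nat_lit 2)],
  [(nat_lit 0), (nat_lit 0), (nat_lit 1), (nat_lit 2), (nat_lit 3)],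
  [(nat_lit 0), (nat_lit 0), (nat_lit 1), (nat_lit 3), (nat_lit 3)],
  [(nat_lit 0), (nat_lit 0), (nat_lit 2), (nat_lit 2), (nat_lit 3)],
  [(nat_lit 0), (nat_lit 0), (nat_lit 2), (nat_lit 3), (nat_lit 3)],
  [(nat_lit 0), (nat_lit 0), (nat_lit 3), (nat_lit 3), (nat_lit 4)],
  [(nat_lit 0), (nat_lit 1), (nat_lit 1), (nat_lit 2), (nat_lit 2)],
  [(nat_lit 0), (nat_lit 1), (nat_lit 1), (nat_lit 2), (nat_lit 3)],
  [(nat_lit 0), (nat_lit 1), (nat_lit 1), (nat_lit 3), (nat_lit 3)],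
  [(nat_lit 0), (nat_lit 1), (nat_lit 1), (nat_lit 3), (nat_lit 4)],
  [(nat_lit 0), (nat_lit 1), (nat_lit 2), (nat_lit 2), (nat_lit 3)],
  [(nat_lit 0), (nat_lit 1), (nat_lit 2), (nat_lit 2), (nat_lit 4)],
  [(nat_lit 0), (nat_lit 1), (nat_lit 2), (nat_lit 3), (nat_lit 3)],
  [(nat_lit 0), (nat_lit 1), (nat_lit 2), (nat_lit 3), (nat_lit 4)],
  [(nat_lit 0), (nat_lit 1), (nat_lit 2), (nat_lit 4), (nat_lit 3)],
  [(nat_lit 0), (nat_lit 1), (nat_lit 3), (nat_lit 3), (nat_lit 4)],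
  [(nat_lit 0), (nat_lit 1), (nat_lit 3), (nat_lit 4), (nat_lit 0)],
  [(nat_lit 0), (nat_lit 1), (nat_lit 3), (nat_lit 4), (nat_lit 3)],
  [(nat_lit 0), (nat_lit 1), (nat_lit 4), (nat_lit 3), (nat_lit 3)],
  [(nat_lit 0), (nat_lit 1), (nat_lit 4), (nat_lit 3), (nat_lit 4)],
  [(nat_lit 0), (nat_lit 2), (nat_lit 2), (nat_lit 3), (nat_lit 3)],
  [(nat_lit 0), (nat_lit 2), (nat_lit 2), (nat_lit 4), (nat_lit 1)],
  [(nat_lit 0), (nat_lit 2), (nat_lit 2), (nat_lit 4), (nat_lit 3)],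
  [(nat_lit 0), (nat_lit 2), (nat_lit 3), (nat_lit 3), (nat_lit 4)],
  [(nat_lit 0), (nat_lit 2), (nat_lit 3), (nat_lit 4), (nat_lit 3)],
  [(nat_lit 0), (nat_lit 2), (nat_lit 4), (nat_lit 1), (nat_lit 3)],
  [(nat_lit 0), (nat_lit 2), (nat_lit 4), (nat_lit 3), (nat_lit 3)],
  [(nat_lit 0), (nat_lit 2), (nat_lit 4), (nat_lit 3), (nat_lit 4)],
  [(nat_lit 0), (nat_lit 3), (nat_lit 3), (nat_lit 4), (nat_lit 0)],
  [(nat_lit 0), (nat_lit 3), (nat_lit 3), (nat_lit 4), (nat_lit 1)],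
  [(nat_lit 0), (nat_lit 3), (nat_lit 3), (nat_lit 4), (nat_lit 3)],
  [(nat_lit 0), (nat_lit 3), (nat_lit 4), (nat_lit 0), (nat_lit 3)],
  [(nat_lit 0), (nat_lit 3), (nat_lit 4), (nat_lit 3), (nat_lit 3)],
  [(nat_lit 0), (nat_lit 4), (nat_lit 1), (nat_lit 3), (nat_lit 3)],
  [(nat_lit 0), (nat_lit 4), (nat_lit 1), (nat_lit 3), (nat_lit 4)],
  [(nat_lit 0), (nat_lit 4), (nat_lit 3), (nat_lit 4), (nat_lit 0)],
  [(nat_lit 1), (nat_lit 1), (nat_lit 2), (nat_lit 2), (nat_lit 3)],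
  [(nat_lit 1), (nat_lit 1), (nat_lit 2), (nat_lit 3), (nat_lit 3)],
  [(nat_lit 1), (nat_lit 1), (nat_lit 2), (nat_lit 3), (nat_lit 4)],
  [(nat_lit 1), (nat_lit 1), (nat_lit 3), (nat_lit 4), (nat_lit 0)],
  [(nat_lit 1), (nat_lit 1), (nat_lit 3), (nat_lit 4), (nat_lit 1)],
  [(nat_lit 1), (nat_lit 1), (nat_lit 3), (nat_lit 4), (nat_lit 3)],
  [(nat_lit 1), (nat_lit 2), (nat_lit 2), (nat_lit 3), (nat_lit 3)],
  [(nat_lit 1), (nat_lit 2), (nat_lit 2), (nat_lit 4), (nat_lit 0)],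
  [(nat_lit 1), (nat_lit 2), (nat_lit 2), (nat_lit 4), (nat_lit 3)],
  [(nat_lit 1), (nat_lit 2), (nat_lit 3), (nat_lit 3), (nat_lit 4)],
  [(nat_lit 1), (nat_lit 2), (nat_lit 3), (nat_lit 4), (nat_lit 1)],
  [(nat_lit 1), (nat_lit 2), (nat_lit 3), (nat_lit 4), (nat_lit 3)],
  [(nat_lit 1), (nat_lit 2), (nat_lit 4), (nat_lit 0), (nat_lit 3)],
  [(nat_lit 1), (nat_lit 2), (nat_lit 4), (nat_lit 3), (nat_lit 3)],
  [(nat_lit 1), (nat_lit 2), (nat_lit 4), (nat_lit 3), (nat_lit 4)],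
  [(nat_lit 1), (nat_lit 3), (nat_lit 3), (nat_lit 4), (nat_lit 1)],
  [(nat_lit 1), (nat_lit 3), (nat_lit 3), (nat_lit 4), (nat_lit 3)],
  [(nat_lit 1), (nat_lit 3), (nat_lit 4), (nat_lit 0), (nat_lit 1)],
  [(nat_lit 1), (nat_lit 3), (nat_lit 4), (nat_lit 0), (nat_lit 3)],
  [(nat_lit 1), (nat_lit 3), (nat_lit 4), (nat_lit 1), (nat_lit 3)],
  [(nat_lit 1), (nat_lit 3), (nat_lit 4), (nat_lit 3), (nat_lit 3)],
  [(nat_lit 1), (nat_lit 4), (nat_lit 0), (nat_lit 3), (nat_lit 3)],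
  [(nat_lit 1), (nat_lit 4), (nat_lit 0), (nat_lit 3), (nat_lit 4)],
  [(nat_lit 1), (nat_lit 4), (nat_lit 3), (nat_lit 4), (nat_lit 0)],
  [(nat_lit 2), (nat_lit 2), (nat_lit 4), (nat_lit 0), (nat_lit 1)],
  [(nat_lit 2), (nat_lit 2), (nat_lit 4), (nat_lit 0), (nat_lit 3)],
  [(nat_lit 2), (nat_lit 2), (nat_lit 4), (nat_lit 1), (nat_lit 3)],
  [(nat_lit 2), (nat_lit 2), (nat_lit 4), (nat_lit 3), (nat_lit 3)],
  [(nat_lit 2), (nat_lit 3), (nat_lit 3), (nat_lit 4), (nat_lit 0)],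
  [(nat_lit 2), (nat_lit 3), (nat_lit 3), (nat_lit 4), (nat_lit 3)],
  [(nat_lit 2), (nat_lit 3), (nat_lit 4), (nat_lit 1), (nat_lit 3)],
  [(nat_lit 2), (nat_lit 3), (nat_lit 4), (nat_lit 3), (nat_lit 3)],
  [(nat_lit 2), (nat_lit 4), (nat_lit 0), (nat_lit 1), (nat_lit 3)],
  [(nat_lit 2), (nat_lit 4), (nat_lit 0), (nat_lit 3), (nat_lit 3)],
  [(nat_lit 2), (nat_lit 4), (nat_lit 0), (nat_lit 3), (nat_lit 4)],
  [(nat_lit 2), (nat_lit 4), (nat_lit 1), (nat_lit 3), (nat_lit 3)],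
  [(nat_lit 2), (nat_lit 4), (nat_lit 1), (nat_lit 3), (nat_lit 4)],
  [(nat_lit 3), (nat_lit 3), (nat_lit 4), (nat_lit 0), (nat_lit 1)],
  [(nat_lit 3), (nat_lit 3), (nat_lit 4), (nat_lit 0), (nat_lit 3)],
  [(nat_lit 3), (nat_lit 3), (nat_lit 4), (nat_lit 1), (nat_lit 3)],
  [(nat_lit 3), (nat_lit 4), (nat_lit 0), (nat_lit 1), (nat_lit 3)],
  [(nat_lit 3), (nat_lit 4), (nat_lit 0), (nat_lit 3), (nat_lit 3)],
  [(nat_lit 3), (nat_lit 4), (nat_lit 1), (nat_lit 3), (nat_lit 3)],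
  [(nat_lit 4), (nat_lit 0), (nat_lit 1), (nat_lit 3), (nat_lit 3)],
  [(nat_lit 4), (nat_lit 0), (nat_lit 1), (nat_lit 3), (nat_lit 4)],
  [(nat_lit 4), (nat_lit 0), (nat_lit 3), (nat_lit 4), (nat_lit 0)],
  [(nat_lit 4), (nat_lit 1), (nat_lit 3), (nat_lit 4), (nat_lit 0)],
  [(nat_lit 0), (nat_lit 0), (nat_lit 1), (nat_lit 1), (nat_lit 2), (nat_lit 2)],
  [(nat_lit 0), (nat_lit 0), (nat_lit 1), (nat_lit 1), (nat_lit 2), (nat_lit 3)],
  [(nat_lit 0), (nat_lit 0), (nat_lit 1), (nat_lit 1), (nat_lit 3), (nat_lit 3)],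
  [(nat_lit 0), (nat_lit 0), (nat_lit 1), (nat_lit 2), (nat_lit 2), (nat_lit 3)],
  [(nat_lit 0), (nat_lit 0), (nat_lit 1), (nat_lit 2), (nat_lit 3), (nat_lit 3)],
  [(nat_lit 0), (nat_lit 0), (nat_lit 1), (nat_lit 3), (nat_lit 3), (nat_lit 4)],
  [(nat_lit 0), (nat_lit 0), (nat_lit 2), (nat_lit 2), (nat_lit 3), (nat_lit 3)],
  [(nat_lit 0), (nat_lit 0), (nat_lit 2), (nat_lit 3), (nat_lit 3), (nat_lit 4)],
  [(nat_lit 0), (nat_lit 0), (nat_lit 3), (nat_lit 3), (nat_lit 4), (nat_lit 0)],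
  [(nat_lit 0), (nat_lit 0), (nat_lit 3), (nat_lit 3), (nat_lit 4), (nat_lit 1)],
  [(nat_lit 0), (nat_lit 0), (nat_lit 3), (nat_lit 3), (nat_lit 4), (nat_lit 3)],
  [(nat_lit 0), (nat_lit 1), (nat_lit 1), (nat_lit 2), (nat_lit 2), (nat_lit 3)],
  [(nat_lit 0), (nat_lit 1), (nat_lit 1), (nat_lit 2), (nat_lit 3), (nat_lit 3)],
  [(nat_lit 0), (nat_lit 1), (nat_lit 1), (nat_lit 2), (nat_lit 3), (nat_lit 4)],
  [(nat_lit 0), (nat_lit 1), (nat_lit 1), (nat_lit 3), (nat_lit 4), (nat_lit 0)],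
  [(nat_lit 0), (nat_lit 1), (nat_lit 1), (nat_lit 3), (nat_lit 4), (nat_lit 3)],
  [(nat_lit 0), (nat_lit 1), (nat_lit 2), (nat_lit 2), (nat_lit 3), (nat_lit 3)],
  [(nat_lit 0), (nat_lit 1), (nat_lit 2), (nat_lit 2), (nat_lit 4), (nat_lit 3)],
  [(nat_lit 0), (nat_lit 1), (nat_lit 2), (nat_lit 3), (nat_lit 3), (nat_lit 4)],
  [(nat_lit 0), (nat_lit 1), (nat_lit 2), (nat_lit 3), (nat_lit 4), (nat_lit 3)],
  [(nat_lit 0), (nat_lit 1), (nat_lit 2), (nat_lit 4), (nat_lit 3), (nat_lit 3)],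
  [(nat_lit 0), (nat_lit 1), (nat_lit 2), (nat_lit 4), (nat_lit 3), (nat_lit 4)],
  [(nat_lit 0), (nat_lit 1), (nat_lit 3), (nat_lit 3), (nat_lit 4), (nat_lit 1)],
  [(nat_lit 0), (nat_lit 1), (nat_lit 3), (nat_lit 3), (nat_lit 4), (nat_lit 3)],
  [(nat_lit 0), (nat_lit 1), (nat_lit 3), (nat_lit 4), (nat_lit 0), (nat_lit 3)],
  [(nat_lit 0), (nat_lit 1), (nat_lit 3), (nat_lit 4), (nat_lit 3), (nat_lit 3)],
  [(nat_lit 0), (nat_lit 1), (nat_lit 4), (nat_lit 3), (nat_lit 4), (nat_lit 0)],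
  [(nat_lit 0), (nat_lit 2), (nat_lit 2), (nat_lit 4), (nat_lit 1), (nat_lit 3)],
  [(nat_lit 0), (nat_lit 2), (nat_lit 2), (nat_lit 4), (nat_lit 3), (nat_lit 3)],
  [(nat_lit 0), (nat_lit 2), (nat_lit 3), (nat_lit 3), (nat_lit 4), (nat_lit 0)],
  [(nat_lit 0), (nat_lit 2), (nat_lit 3), (nat_lit 3), (nat_lit 4), (nat_lit 3)],
  [(nat_lit 0), (nat_lit 2), (nat_lit 3), (nat_lit 4), (nat_lit 3), (nat_lit 3)],
  [(nat_lit 0), (nat_lit 2), (nat_lit 4), (nat_lit 1), (nat_lit 3), (nat_lit 3)],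
  [(nat_lit 0), (nat_lit 2), (nat_lit 4), (nat_lit 1), (nat_lit 3), (nat_lit 4)],
  [(nat_lit 0), (nat_lit 3), (nat_lit 3), (nat_lit 4), (nat_lit 0), (nat_lit 1)],
  [(nat_lit 0), (nat_lit 3), (nat_lit 3), (nat_lit 4), (nat_lit 0), (nat_lit 3)],
  [(nat_lit 0), (nat_lit 3), (nat_lit 3), (nat_lit 4), (nat_lit 1), (nat_lit 3)],
  [(nat_lit 0), (nat_lit 3), (nat_lit 4), (nat_lit 0), (nat_lit 3), (nat_lit 3)],
  [(nat_lit 0), (nat_lit 4), (nat_lit 1), (nat_lit 3), (nat_lit 4), (nat_lit 0)],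
  [(nat_lit 1), (nat_lit 1), (nat_lit 2), (nat_lit 2), (nat_lit 3), (nat_lit 3)],
  [(nat_lit 1), (nat_lit 1), (nat_lit 2), (nat_lit 3), (nat_lit 4), (nat_lit 1)],
  [(nat_lit 1), (nat_lit 1), (nat_lit 2), (nat_lit 3), (nat_lit 4), (nat_lit 3)],
  [(nat_lit 1), (nat_lit 1), (nat_lit 3), (nat_lit 4), (nat_lit 0), (nat_lit 1)],
  [(nat_lit 1), (nat_lit 1), (nat_lit 3), (nat_lit 4), (nat_lit 0), (nat_lit 3)],
  [(nat_lit 1), (nat_lit 1), (nat_lit 3), (nat_lit 4), (nat_lit 1), (nat_lit 3)],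
  [(nat_lit 1), (nat_lit 1), (nat_lit 3), (nat_lit 4), (nat_lit 3), (nat_lit 3)],
  [(nat_lit 1), (nat_lit 2), (nat_lit 2), (nat_lit 4), (nat_lit 0), (nat_lit 3)],
  [(nat_lit 1), (nat_lit 2), (nat_lit 2), (nat_lit 4), (nat_lit 3), (nat_lit 3)],
  [(nat_lit 1), (nat_lit 2), (nat_lit 3), (nat_lit 3), (nat_lit 4), (nat_lit 3)],
  [(nat_lit 1), (nat_lit 2), (nat_lit 3), (nat_lit 4), (nat_lit 1), (nat_lit 3)],
  [(nat_lit 1), (nat_lit 2), (nat_lit 3), (nat_lit 4), (nat_lit 3), (nat_lit 3)],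
  [(nat_lit 1), (nat_lit 2), (nat_lit 4), (nat_lit 0), (nat_lit 3), (nat_lit 3)],
  [(nat_lit 1), (nat_lit 2), (nat_lit 4), (nat_lit 0), (nat_lit 3), (nat_lit 4)],
  [(nat_lit 1), (nat_lit 3), (nat_lit 3), (nat_lit 4), (nat_lit 1), (nat_lit 3)],
  [(nat_lit 1), (nat_lit 3), (nat_lit 4), (nat_lit 0), (nat_lit 1), (nat_lit 3)],
  [(nat_lit 1), (nat_lit 3), (nat_lit 4), (nat_lit 0), (nat_lit 3), (nat_lit 3)],
  [(nat_lit 1), (nat_lit 3), (nat_lit 4), (nat_lit 1), (nat_lit 3), (nat_lit 3)],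
  [(nat_lit 1), (nat_lit 4), (nat_lit 0), (nat_lit 3), (nat_lit 4), (nat_lit 0)],
  [(nat_lit 2), (nat_lit 2), (nat_lit 4), (nat_lit 0), (nat_lit 1), (nat_lit 3)],
  [(nat_lit 2), (nat_lit 2), (nat_lit 4), (nat_lit 0), (nat_lit 3), (nat_lit 3)],
  [(nat_lit 2), (nat_lit 2), (nat_lit 4), (nat_lit 1), (nat_lit 3), (nat_lit 3)],
  [(nat_lit 2), (nat_lit 3), (nat_lit 3), (nat_lit 4), (nat_lit 0), (nat_lit 3)],
  [(nat_lit 2), (nat_lit 3), (nat_lit 4), (nat_lit 1), (nat_lit 3), (nat_lit 3)],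
  [(nat_lit 2), (nat_lit 4), (nat_lit 0), (nat_lit 1), (nat_lit 3), (nat_lit 3)],
  [(nat_lit 2), (nat_lit 4), (nat_lit 0), (nat_lit 1), (nat_lit 3), (nat_lit 4)],
  [(nat_lit 3), (nat_lit 3), (nat_lit 4), (nat_lit 0), (nat_lit 1), (nat_lit 3)],
  [(nat_lit 3), (nat_lit 4), (nat_lit 0), (nat_lit 1), (nat_lit 3), (nat_lit 3)],
  [(nat_lit 4), (nat_lit 0), (nat_lit 1), (nat_lit 3), (nat_lit 4), (nat_lit 0)],
  [(nat_lit 0), (nat_lit 0), (nat_lit 1), (nat_lit 1), (nat_lit 2), (nat_lit 2), (nat_lit 3)],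
  [(nat_lit 0), (nat_lit 0), (nat_lit 1), (nat_lit 1), (nat_lit 2), (nat_lit 3), (nat_lit 3)],
  [(nat_lit 0), (nat_lit 0), (nat_lit 1), (nat_lit 2), (nat_lit 2), (nat_lit 3), (nat_lit 3)],
  [(nat_lit 0), (nat_lit 0), (nat_lit 1), (nat_lit 2), (nat_lit 3), (nat_lit 3), (nat_lit 4)],
  [(nat_lit 0), (nat_lit 0), (nat_lit 1), (nat_lit 3), (nat_lit 3), (nat_lit 4), (nat_lit 1)],
  [(nat_lit 0), (nat_lit 0), (nat_lit 1), (nat_lit 3), (nat_lit 3), (nat_lit 4), (nat_lit 3)],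
  [(nat_lit 0), (nat_lit 0), (nat_lit 2), (nat_lit 3), (nat_lit 3), (nat_lit 4), (nat_lit 0)],
  [(nat_lit 0), (nat_lit 0), (nat_lit 2), (nat_lit 3), (nat_lit 3), (nat_lit 4), (nat_lit 3)],
  [(nat_lit 0), (nat_lit 0), (nat_lit 3), (nat_lit 3), (nat_lit 4), (nat_lit 0), (nat_lit 1)],
  [(nat_lit 0), (nat_lit 0), (nat_lit 3), (nat_lit 3), (nat_lit 4), (nat_lit 0), (nat_lit 3)],
  [(nat_lit 0), (nat_lit 0), (nat_lit 3), (nat_lit 3), (nat_lit 4), (nat_lit 1), (nat_lit 3)],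
  [(nat_lit 0), (nat_lit 1), (nat_lit 1), (nat_lit 2), (nat_lit 2), (nat_lit 3), (nat_lit 3)],
  [(nat_lit 0), (nat_lit 1), (nat_lit 1), (nat_lit 2), (nat_lit 3), (nat_lit 4), (nat_lit 3)],
  [(nat_lit 0), (nat_lit 1), (nat_lit 1), (nat_lit 3), (nat_lit 4), (nat_lit 0), (nat_lit 3)],
  [(nat_lit 0), (nat_lit 1), (nat_lit 1), (nat_lit 3), (nat_lit 4), (nat_lit 3), (nat_lit 3)],
  [(nat_lit 0), (nat_lit 1), (nat_lit 2), (nat_lit 2), (nat_lit 4), (nat_lit 3), (nat_lit 3)],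
  [(nat_lit 0), (nat_lit 1), (nat_lit 2), (nat_lit 3), (nat_lit 3), (nat_lit 4), (nat_lit 3)],
  [(nat_lit 0), (nat_lit 1), (nat_lit 2), (nat_lit 3), (nat_lit 4), (nat_lit 3), (nat_lit 3)],
  [(nat_lit 0), (nat_lit 1), (nat_lit 3), (nat_lit 3), (nat_lit 4), (nat_lit 1), (nat_lit 3)],
  [(nat_lit 0), (nat_lit 1), (nat_lit 3), (nat_lit 4), (nat_lit 0), (nat_lit 3), (nat_lit 3)],
  [(nat_lit 0), (nat_lit 2), (nat_lit 2), (nat_lit 4), (nat_lit 1), (nat_lit 3), (nat_lit 3)],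
  [(nat_lit 0), (nat_lit 2), (nat_lit 3), (nat_lit 3), (nat_lit 4), (nat_lit 0), (nat_lit 3)],
  [(nat_lit 0), (nat_lit 3), (nat_lit 3), (nat_lit 4), (nat_lit 0), (nat_lit 1), (nat_lit 3)],
  [(nat_lit 1), (nat_lit 1), (nat_lit 2), (nat_lit 3), (nat_lit 4), (nat_lit 1), (nat_lit 3)],
  [(nat_lit 1), (nat_lit 1), (nat_lit 2), (nat_lit 3), (nat_lit 4), (nat_lit 3), (nat_lit 3)],
  [(nat_lit 1), (nat_lit 1), (nat_lit 3), (nat_lit 4), (nat_lit 0), (nat_lit 1), (nat_lit 3)],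
  [(nat_lit 1), (nat_lit 1), (nat_lit 3), (nat_lit 4), (nat_lit 0), (nat_lit 3), (nat_lit 3)],
  [(nat_lit 1), (nat_lit 1), (nat_lit 3), (nat_lit 4), (nat_lit 1), (nat_lit 3), (nat_lit 3)],
  [(nat_lit 1), (nat_lit 2), (nat_lit 2), (nat_lit 4), (nat_lit 0), (nat_lit 3), (nat_lit 3)],
  [(nat_lit 1), (nat_lit 2), (nat_lit 3), (nat_lit 4), (nat_lit 1), (nat_lit 3), (nat_lit 3)],
  [(nat_lit 1), (nat_lit 3), (nat_lit 4), (nat_lit 0), (nat_lit 1), (nat_lit 3), (nat_lit 3)],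
  [(nat_lit 2), (nat_lit 2), (nat_lit 4), (nat_lit 0), (nat_lit 1), (nat_lit 3), (nat_lit 3)],
  [(nat_lit 0), (nat_lit 0), (nat_lit 1), (nat_lit 1), (nat_lit 2), (nat_lit 2), (nat_lit 3), (nat_lit 3)],
  [(nat_lit 0), (nat_lit 0), (nat_lit 1), (nat_lit 2), (nat_lit 3), (nat_lit 3), (nat_lit 4), (nat_lit 3)],
  [(nat_lit 0), (nat_lit 0), (nat_lit 1), (nat_lit 3), (nat_lit 3), (nat_lit 4), (nat_lit 1), (nat_lit 3)],
  [(nat_lit 0), (nat_lit 0), (nat_lit 2), (nat_lit 3), (nat_lit 3), (nat_lit 4), (nat_lit 0), (nat_lit 3)],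
  [(nat_lit 0), (nat_lit 0), (nat_lit 3), (nat_lit 3), (nat_lit 4), (nat_lit 0), (nat_lit 1), (nat_lit 3)],
  [(nat_lit 0), (nat_lit 1), (nat_lit 1), (nat_lit 2), (nat_lit 3), (nat_lit 4), (nat_lit 3), (nat_lit 3)],
  [(nat_lit 0), (nat_lit 1), (nat_lit 1), (nat_lit 3), (nat_lit 4), (nat_lit 0), (nat_lit 3), (nat_lit 3)],
  [(nat_lit 1), (nat_lit 1), (nat_lit 2), (nat_lit 3), (nat_lit 4), (nat_lit 1), (nat_lit 3), (nat_lit 3)],
  [(nat_lit 1), (nat_lit 1), (nat_lit 3), (nat_lit 4), (nat_lit 0), (nat_lit 1), (nat_lit 3), (nat_lit 3)]]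
noncomputable def PC_lY_h (c : ℕ) : ℕ := Nat.mod c (nat_lit 4771)
theorem PC_lY_E {G : Type*} [Group G] {R : ℕ → G → Prop} {t c a b e x z y : G} {H : Subgroup G}
    (M : Mdl P1_o PC_cs P1_L R [t, c, a, a⁻¹, b, b⁻¹, e, e⁻¹, x, x⁻¹, z, y] H) :
    EnumS R PC_lY (sp [a, b, e, x, c]) :=
  enumS_sp M.μ.1 (M.reps.tms M.μ.1 [(.v (nat_lit 2)), (.v (nat_lit 4)), (.v (nat_lit 6)), (.v (nat_lit 8)), (.v (nat_lit 1))] (cs' := [(nat_lit 0x876543021), (nat_lit 0x876354210), (nat_lit 0x687543210), (nat_lit 0x210876543), (nat_lit 0x876453120)]) (by decide +kernel))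
    (Ws := PC_lY_W) (by decide +kernel) (by decide +kernel)
theorem PC_lY_c {G : Type*} [Group G] {R : ℕ → G → Prop} {t c a b e x z y : G} {H : Subgroup G}
    (M : Mdl P1_o PC_cs P1_L R [t, c, a, a⁻¹, b, b⁻¹, e, e⁻¹, x, x⁻¹, z, y] H) :
    #(sp [a, b, e, x, c]) = 324 :=
  (PC_lY_E M).card M.μ (h := PC_lY_h) (by decide +kernel)
noncomputable def PC_lO : List ℕ := [(nat_lit 0x876543210), (nat_lit 0x876453120), (nat_lit 0x786543120), (nat_lit 0x876543021), (nat_lit 0x876543102), (nat_lit 0x876354210), (nat_lit 0x876435210), (nat_lit 0x687543210), (nat_lit 0x768543210), (nat_lit 0x786453210), (nat_lit 0x876453201), (nat_lit 0x876453012), (nat_lit 0x876534120), (nat_lit 0x876345120), (nat_lit 0x687453120), (nat_lit 0x768453120), (nat_lit 0x786543201), (nat_lit 0x786543012), (nat_lit 0x786354120), (nat_lit 0x786435120), (nat_lit 0x867543120), (nat_lit 0x678543120), (nat_lit 0x876354021), (nat_lit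 0x876435021), (nat_lit 0x687543021), (nat_lit 0x768543021), (nat_lit 0x876354102), (nat_lit 0x876435102), (nat_lit 0x687543102), (nat_lit 0x768543102), (nat_lit 0x687354210), (nat_lit 0x768354210), (nat_lit 0x687435210), (nat_lit 0x768435210), (nat_lit 0x786453021), (nat_lit 0x786453102), (nat_lit 0x786534210), (nat_lit 0x786345210), (nat_lit 0x867453210), (nat_lit 0x678453210), (nat_lit 0x876534201), (nat_lit 0x876345201), (nat_lit 0x687453201), (nat_lit 0x768453201), (nat_lit 0x876534012), (nat_lit 0x876345012), (nat_lit 0x687453012), (nat_lit 0x768453012), (nat_lit 0x687534120), (nat_lit 0x768534120), (nat_lit 0x687345120), (nat_lit 0x768345120), (nat_lit 0x786354201), (nat_lit 0x786435201), (nat_lit 0x867543201), (nat_lit 0x678543201), (nat_lit 0x786354012), (nat_lit 0x786435012), (nat_lit 0x867543012), (nat_lit 0x678543012), (nat_lit 0x867354120), (nat_lit 0x678354120), (nat_lit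 0x867435120), (nat_lit 0x678435120), (nat_lit 0x687354021), (nat_lit 0x768354021), (nat_lit 0x687435021), (nat_lit 0x768435021), (nat_lit 0x687354102), (nat_lit 0x768354102), (nat_lit 0x687435102), (nat_lit 0x768435102), (nat_lit 0x786534021), (nat_lit 0x786345021), (nat_lit 0x867453021), (nat_lit 0x678453021), (nat_lit 0x786534102), (nat_lit 0x786345102), (nat_lit 0x867453102), (nat_lit 0x678453102), (nat_lit 0x867534210), (nat_lit 0x678534210), (nat_lit 0x867345210), (nat_lit 0x678345210), (nat_lit 0x687534201), (nat_lit 0x768534201), (nat_lit 0x687345201), (nat_lit 0x768345201), (nat_lit 0x687534012), (nat_lit 0x768534012), (nat_lit 0x687345012), (nat_lit 0x768345012), (nat_lit 0x867354201), (nat_lit 0x678354201), (nat_lit 0x867435201), (nat_lit 0x678435201), (nat_lit 0x867354012), (nat_lit 0x678354012), (nat_lit 0x867435012), (nat_lit 0x678435012), (nat_lit 0x867534021), (nat_lit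 0x678534021), (nat_lit 0x867345021), (nat_lit 0x678345021), (nat_lit 0x867534102), (nat_lit 0x678534102), (nat_lit 0x867345102), (nat_lit 0x678345102)]
noncomputable def PC_lO_W : List (List ℕ) := [[],
  [(nat_lit 0)],
  [(nat_lit 1)],
  [(nat_lit 2)],
  [(nat_lit 3)],
  [(nat_lit 4)],
  [(nat_lit 5)],
  [(nat_lit 6)],
  [(nat_lit 7)],
  [(nat_lit 0), (nat_lit 1)],
  [(nat_lit 0), (nat_lit 2)],
  [(nat_lit 0), (nat_lit 3)],
  [(nat_lit 0), (nat_lit 4)],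
  [(nat_lit 0), (nat_lit 5)],
  [(nat_lit 0), (nat_lit 6)],
  [(nat_lit 0), (nat_lit 7)],
  [(nat_lit 1), (nat_lit 2)],
  [(nat_lit 1), (nat_lit 3)],
  [(nat_lit 1), (nat_lit 4)],
  [(nat_lit 1), (nat_lit 5)],
  [(nat_lit 1), (nat_lit 6)],
  [(nat_lit 1), (nat_lit 7)],
  [(nat_lit 2), (nat_lit 4)],
  [(nat_lit 2), (nat_lit 5)],
  [(nat_lit 2), (nat_lit 6)],
  [(nat_lit 2), (nat_lit 7)],
  [(nat_lit 3), (nat_lit 4)],
  [(nat_lit 3), (nat_lit 5)],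
  [(nat_lit 3), (nat_lit 6)],
  [(nat_lit 3), (nat_lit 7)],
  [(nat_lit 4), (nat_lit 6)],
  [(nat_lit 4), (nat_lit 7)],
  [(nat_lit 5), (nat_lit 6)],
  [(nat_lit 5), (nat_lit 7)],
  [(nat_lit 0), (nat_lit 1), (nat_lit 2)],
  [(nat_lit 0), (nat_lit 1), (nat_lit 3)],
  [(nat_lit 0), (nat_lit 1), (nat_lit 4)],
  [(nat_lit 0), (nat_lit 1), (nat_lit 5)],
  [(nat_lit 0), (nat_lit 1), (nat_lit 6)],
  [(nat_lit 0), (nat_lit 1), (nat_lit 7)],
  [(nat_lit 0), (nat_lit 2), (nat_lit 4)],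
  [(nat_lit 0), (nat_lit 2), (nat_lit 5)],
  [(nat_lit 0), (nat_lit 2), (nat_lit 6)],
  [(nat_lit 0), (nat_lit 2), (nat_lit 7)],
  [(nat_lit 0), (nat_lit 3), (nat_lit 4)],
  [(nat_lit 0), (nat_lit 3), (nat_lit 5)],
  [(nat_lit 0), (nat_lit 3), (nat_lit 6)],
  [(nat_lit 0), (nat_lit 3), (nat_lit 7)],
  [(nat_lit 0), (nat_lit 4), (nat_lit 6)],
  [(nat_lit 0), (nat_lit 4), (nat_lit 7)],
  [(nat_lit 0), (nat_lit 5), (nat_lit 6)],
  [(nat_lit 0), (nat_lit 5), (nat_lit 7)],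
  [(nat_lit 1), (nat_lit 2), (nat_lit 4)],
  [(nat_lit 1), (nat_lit 2), (nat_lit 5)],
  [(nat_lit 1), (nat_lit 2), (nat_lit 6)],
  [(nat_lit 1), (nat_lit 2), (nat_lit 7)],
  [(nat_lit 1), (nat_lit 3), (nat_lit 4)],
  [(nat_lit 1), (nat_lit 3), (nat_lit 5)],
  [(nat_lit 1), (nat_lit 3), (nat_lit 6)],
  [(nat_lit 1), (nat_lit 3), (nat_lit 7)],
  [(nat_lit 1), (nat_lit 4), (nat_lit 6)],
  [(nat_lit 1), (nat_lit 4), (nat_lit 7)],
  [(nat_lit 1), (nat_lit 5), (nat_lit 6)],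
  [(nat_lit 1), (nat_lit 5), (nat_lit 7)],
  [(nat_lit 2), (nat_lit 4), (nat_lit 6)],
  [(nat_lit 2), (nat_lit 4), (nat_lit 7)],
  [(nat_lit 2), (nat_lit 5), (nat_lit 6)],
  [(nat_lit 2), (nat_lit 5), (nat_lit 7)],
  [(nat_lit 3), (nat_lit 4), (nat_lit 6)],
  [(nat_lit 3), (nat_lit 4), (nat_lit 7)],
  [(nat_lit 3), (nat_lit 5), (nat_lit 6)],
  [(nat_lit 3), (nat_lit 5), (nat_lit 7)],
  [(nat_lit 0), (nat_lit 1), (nat_lit 2), (nat_lit 4)],
  [(nat_lit 0), (nat_lit 1), (nat_lit 2), (nat_lit 5)],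
  [(nat_lit 0), (nat_lit 1), (nat_lit 2), (nat_lit 6)],
  [(nat_lit 0), (nat_lit 1), (nat_lit 2), (nat_lit 7)],
  [(nat_lit 0), (nat_lit 1), (nat_lit 3), (nat_lit 4)],
  [(nat_lit 0), (nat_lit 1), (nat_lit 3), (nat_lit 5)],
  [(nat_lit 0), (nat_lit 1), (nat_lit 3), (nat_lit 6)],
  [(nat_lit 0), (nat_lit 1), (nat_lit 3), (nat_lit 7)],
  [(nat_lit 0), (nat_lit 1), (nat_lit 4), (nat_lit 6)],
  [(nat_lit 0), (nat_lit 1), (nat_lit 4), (nat_lit 7)],
  [(nat_lit 0), (nat_lit 1), (nat_lit 5), (nat_lit 6)],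
  [(nat_lit 0), (nat_lit 1), (nat_lit 5), (nat_lit 7)],
  [(nat_lit 0), (nat_lit 2), (nat_lit 4), (nat_lit 6)],
  [(nat_lit 0), (nat_lit 2), (nat_lit 4), (nat_lit 7)],
  [(nat_lit 0), (nat_lit 2), (nat_lit 5), (nat_lit 6)],
  [(nat_lit 0), (nat_lit 2), (nat_lit 5), (nat_lit 7)],
  [(nat_lit 0), (nat_lit 3), (nat_lit 4), (nat_lit 6)],
  [(nat_lit 0), (nat_lit 3), (nat_lit 4), (nat_lit 7)],
  [(nat_lit 0), (nat_lit 3), (nat_lit 5), (nat_lit 6)],
  [(nat_lit 0), (nat_lit 3), (nat_lit 5), (nat_lit 7)],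
  [(nat_lit 1), (nat_lit 2), (nat_lit 4), (nat_lit 6)],
  [(nat_lit 1), (nat_lit 2), (nat_lit 4), (nat_lit 7)],
  [(nat_lit 1), (nat_lit 2), (nat_lit 5), (nat_lit 6)],
  [(nat_lit 1), (nat_lit 2), (nat_lit 5), (nat_lit 7)],
  [(nat_lit 1), (nat_lit 3), (nat_lit 4), (nat_lit 6)],
  [(nat_lit 1), (nat_lit 3), (nat_lit 4), (nat_lit 7)],
  [(nat_lit 1), (nat_lit 3), (nat_lit 5), (nat_lit 6)],
  [(nat_lit 1), (nat_lit 3), (nat_lit 5), (nat_lit 7)],
  [(nat_lit 0), (nat_lit 1), (nat_lit 2), (nat_lit 4), (nat_lit 6)],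
  [(nat_lit 0), (nat_lit 1), (nat_lit 2), (nat_lit 4), (nat_lit 7)],
  [(nat_lit 0), (nat_lit 1), (nat_lit 2), (nat_lit 5), (nat_lit 6)],
  [(nat_lit 0), (nat_lit 1), (nat_lit 2), (nat_lit 5), (nat_lit 7)],
  [(nat_lit 0), (nat_lit 1), (nat_lit 3), (nat_lit 4), (nat_lit 6)],
  [(nat_lit 0), (nat_lit 1), (nat_lit 3), (nat_lit 4), (nat_lit 7)],
  [(nat_lit 0), (nat_lit 1), (nat_lit 3), (nat_lit 5), (nat_lit 6)],
  [(nat_lit 0), (nat_lit 1), (nat_lit 3), (nat_lit 5), (nat_lit 7)]]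
noncomputable def PC_lO_h (c : ℕ) : ℕ := Nat.mod c (nat_lit 529)
theorem PC_lO_E {G : Type*} [Group G] {R : ℕ → G → Prop} {t c a b e x z y : G} {H : Subgroup G}
    (M : Mdl P1_o PC_cs P1_L R [t, c, a, a⁻¹, b, b⁻¹, e, e⁻¹, x, x⁻¹, z, y] H) :
    EnumS R PC_lO (sp [c, x⁻¹ * c * x, a, a⁻¹, b, b⁻¹, e, e⁻¹]) :=
  enumS_sp M.μ.1 (M.reps.tms M.μ.1 [(.v (nat_lit 1)), (.mul (.mul (.inv (.v (nat_lit 8))) (.v (nat_lit 1))) (.v (nat_lit 8))), (.v (nat_lit 2)), (.inv (.v (nat_lit 2))), (.v (nat_lit 4)), (.inv (.v (nat_lit 4))), (.v (nat_lit 6)), (.inv (.v (nat_lit 6)))] (cs' := [(nat_lit 0x876453120), (nat_lit 0x786543120), (nat_lit 0x876543021), (nat_lit 0x876543102), (nat_lit 0x876354210), (nat_lit 0x876435210), (nat_lit 0x687543210), (nat_lit 0x768543210)]) (by decide +kernel))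
    (Ws := PC_lO_W) (by decide +kernel) (by decide +kernel)
theorem PC_lO_c {G : Type*} [Group G] {R : ℕ → G → Prop} {t c a b e x z y : G} {H : Subgroup G}
    (M : Mdl P1_o PC_cs P1_L R [t, c, a, a⁻¹, b, b⁻¹, e, e⁻¹, x, x⁻¹, z, y] H) :
    #(sp [c, x⁻¹ * c * x, a, a⁻¹, b, b⁻¹, e, e⁻¹]) = 108 :=
  (PC_lO_E M).card M.μ (h := PC_lO_h) (by decide +kernel)
noncomputable def PC_r_f_F : Fm := (.qf (.and (.eq (.mul (.v (nat_lit 1)) (.v (nat_lit 1))) .one) (.and (.eq (.mul (.v (nat_lit 0)) (.v (nat_lit 1))) (.mul (.v (nat_lit 1)) (.v (nat_lit 0)))) (.and (.eq (.mul (.v (nat_lit 1)) (.v (nat_lit 6))) (.mul (.v (nat_lit 6)) (.v (nat_lit 1)))) (.and (.eq (.mul (.mul (.v (nat_lit 1)) (.v (nat_lit 2))) (.inv (.v (nat_lit 1)))) (.inv (.v (nat_lit 2)))) (.and (.eq (.mul (.mul (.v (nat_lit 1)) (.v (nat_lit 4))) (.inv (.v (nat_lit 1)))) (.inv (.v (nat_lit 4)))) (.eq (.pw (.mul (.v (nat_lit 1)) (.v (nat_lit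 8))) (nat_lit 3)) .one)))))))
theorem PC_r_f_chk : Fm.chk P1_o PC_r_f_F PC_cs = true := by decide +kernel
theorem PC_r_f {G : Type*} [Group G] {R : ℕ → G → Prop} {t c a b e x z y : G} {H : Subgroup G}
    (M : Mdl P1_o PC_cs P1_L R [t, c, a, a⁻¹, b, b⁻¹, e, e⁻¹, x, x⁻¹, z, y] H) :
    c * c = 1 ∧ t * c = c * t ∧ c * e = e * c ∧ c * a * c⁻¹ = a⁻¹ ∧ c * b * c⁻¹ = b⁻¹ ∧ (c * x) ^ 3 = 1 :=
  Fm.sound M.μ PC_r_f_F PC_r_f_chk M.reps
theorem PC_r {G : Type*} [Group G] {R : ℕ → G → Prop} {t c a b e x z y : G} {H : Subgroup G}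
    (M : Mdl P1_o PC_cs P1_L R [t, c, a, a⁻¹, b, b⁻¹, e, e⁻¹, x, x⁻¹, z, y] H) :
    C1 a b e x t c :=
  have h := PC_r_f M
  ⟨h.1, h.2.1, h.2.2.1, h.2.2.2.1, h.2.2.2.2.1, h.2.2.2.2.2, trivial⟩
noncomputable def PC_e_F : Fm := (.qf (.and (.eq (.mul (.mul (.v (nat_lit 0)) (.v (nat_lit 1))) (.mul (.v (nat_lit 0)) (.v (nat_lit 1)))) .one) (.and (.eq (.mul (.mul (.v (nat_lit 0)) (.v (nat_lit 1))) (.v (nat_lit 0))) (.mul (.v (nat_lit 0)) (.mul (.v (nat_lit 0)) (.v (nat_lit 1))))) (.and (.eq (.mul (.mul (.mul (.v (nat_lit 0)) (.v (nat_lit 1))) (.mul (.v (nat_lit 2)) (.v (nat_lit 4)))) (.inv (.mul (.v (nat_lit 0)) (.v (nat_lit 1))))) (.inv (.mul (.v (nat_lit 2)) (.v (nat_lit 4))))) (.and (.eq (.mul (.mul (.mul (.v (nat_lit 0)) (.v (nat_lit 1))) (.v (nat_lit 11))) (.inv (.mul (.v (nat_lit 0)) (.v (nat_lit 1))))) (.v (nat_lit 11))) (.and (.eq (.mul (.mul (.v (nat_lit 0)) (.v (nat_lit 1))) (.v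 (nat_lit 6))) (.mul (.v (nat_lit 6)) (.mul (.v (nat_lit 0)) (.v (nat_lit 1))))) (.and (.eq (.mul (.mul (.v (nat_lit 1)) (.mul (.v (nat_lit 2)) (.v (nat_lit 4)))) (.inv (.v (nat_lit 1)))) (.inv (.mul (.v (nat_lit 2)) (.v (nat_lit 4))))) (.and (.not (.mem (.v (nat_lit 0)) PC_lY)) (.and (.mem (.v (nat_lit 11)) PC_lU) (.eq (.mul (.mul (.mul (.mul (.inv (.v (nat_lit 8))) (.v (nat_lit 1))) (.v (nat_lit 8))) (.v (nat_lit 6))) (.inv (.mul (.mul (.inv (.v (nat_lit 8))) (.v (nat_lit 1))) (.v (nat_lit 8))))) (.inv (.v (nat_lit 6)))))))))))))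
theorem PC_e_chk : Fm.chk P1_o PC_e_F PC_cs = true := by decide +kernel
theorem PC_e {G : Type*} [Group G] {R : ℕ → G → Prop} {t c a b e x z y : G} {H : Subgroup G}
    (M : Mdl P1_o PC_cs P1_L R [t, c, a, a⁻¹, b, b⁻¹, e, e⁻¹, x, x⁻¹, z, y] H) :
    t * c * (t * c) = 1 ∧ t * c * t = t * (t * c) ∧ t * c * (a * b) * (t * c)⁻¹ = (a * b)⁻¹ ∧ t * c * y * (t * c)⁻¹ = y ∧ t * c * e = e * (t * c) ∧ c * (a * b) * c⁻¹ = (a * b)⁻¹ ∧ t ∉ sp [a, b, e, x, c] ∧ y ∈ sp [a, b] ∧ x⁻¹ * c * x * e * (x⁻¹ * c * x)⁻¹ = e⁻¹ :=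
  have h : t * c * (t * c) = 1 ∧ t * c * t = t * (t * c) ∧ t * c * (a * b) * (t * c)⁻¹ = (a * b)⁻¹ ∧ t * c * y * (t * c)⁻¹ = y ∧ t * c * e = e * (t * c) ∧ c * (a * b) * c⁻¹ = (a * b)⁻¹ ∧ ¬ InS R PC_lY (t) ∧ InS R PC_lU (y) ∧ x⁻¹ * c * x * e * (x⁻¹ * c * x)⁻¹ = e⁻¹ :=
    Fm.sound M.μ PC_e_F PC_e_chk M.reps
  ((and_congr Iff.rfl (and_congr Iff.rfl (and_congr Iff.rfl (and_congr Iff.rfl (and_congr Iff.rfl (and_congr Iff.rfl (and_congr (not_congr (PC_lY_E M).iff) (and_congr (PC_lU_E M).iff Iff.rfl)))))))).1 h)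
noncomputable def PC_N_t0 : ST := (.node (nat_lit 26) (.node (nat_lit 11) (.node (nat_lit 6) (.node (nat_lit 4) (.leaf (nat_lit 37)) (.leaf (nat_lit 9))) (.node (nat_lit 9) (.leaf (nat_lit 351)) (.leaf (nat_lit 342)))) (.node (nat_lit 16) (.node (nat_lit 12) (.leaf (nat_lit 0)) (.leaf (nat_lit 369))) (.node (nat_lit 19) (.leaf (nat_lit 361)) (.node (nat_lit 20) (.leaf (nat_lit 324)) (.leaf (nat_lit 28)))))) (.node (nat_lit 39) (.node (nat_lit 35) (.node (nat_lit 32) (.leaf (nat_lit 27)) (.leaf (nat_lit 352))) (.node (nat_lit 36) (.leaf (nat_lit 36)) (.leaf (nat_lit 370)))) (.node (nat_lit 53) (.node (nat_lit 40) (.leaf (nat_lit 360)) (.leaf (nat_lit 333))) (.node (nat_lit 64) (.leaf (nat_lit 18)) (.node (nat_lit 72) (.leaf (nat_lit 46)) (.leaf (nat_lit 45)))))))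
noncomputable def PC_N_F : Fm := (.all P1_L (.and (.qf (.not (.eq (.mul (.mul (.v (nat_lit 0)) (.v (nat_lit 11))) (.inv (.v (nat_lit 0)))) (.inv (.v (nat_lit 11)))))) (.and (.qf (.eq (.pw (.v (nat_lit 0)) (nat_lit 72)) .one)) (.and (.qf (.or (.mem (.v (nat_lit 0)) PC_lY) (.mem (.mul (.v (nat_lit 1)) (.v (nat_lit 0))) PC_lY))) (.or (.qf (.not (.eq (.mul (.v (nat_lit 0)) (.v (nat_lit 0))) .one))) (.or (.qf (.mem (.v (nat_lit 0)) PC_lY)) (.exF P1_L (fun cs => PC_N_t0.find (Nat.mod (nth (nat_lit 0) cs (nat_lit 0)) (nat_lit 76))) (.qf (.eq (.mul (.mul (.v (nat_lit 0)) (.v (nat_lit 2))) (.inv (.v (nat_lit 0)))) (.v (nat_lit 1)))))))))))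
theorem PC_N_chk : Fm.chk P1_o PC_N_F PC_cs = true := by decide +kernel
theorem PC_N {G : Type*} [Group G] {R : ℕ → G → Prop} {t c a b e x z y : G} {H : Subgroup G}
    (M : Mdl P1_o PC_cs P1_L R [t, c, a, a⁻¹, b, b⁻¹, e, e⁻¹, x, x⁻¹, z, y] H) :
    ∀ k ∈ H, k * z * k⁻¹ ≠ z⁻¹ ∧ k ^ 72 = 1 ∧ (k ∈ sp [a, b, e, x, c] ∨ t * k ∈ sp [a, b, e, x, c]) ∧ (k * k ≠ 1 ∨ k ∈ sp [a, b, e, x, c] ∨ (∃ m ∈ H, m * t * m⁻¹ = k)) :=
  have h : ∀ k, InL P1_o R P1_L k → k * z * k⁻¹ ≠ z⁻¹ ∧ k ^ 72 = 1 ∧ (InS R PC_lY (k) ∨ InS R PC_lY (t * k)) ∧ (k * k ≠ 1 ∨ InS R PC_lY (k) ∨ (Good P1_o R P1_L → prods P1_o P1_L P1_o.one ≠ [] → ∃ m, InL P1_o R P1_L m ∧ m * t * m⁻¹ = k)) :=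
    Fm.sound M.μ PC_N_F PC_N_chk M.reps
  (fun k h0 => (And.imp (fun h1 => h1) (fun h1 => (And.imp (fun h2 => h2) (fun h2 => (And.imp (fun h3 => ((or_congr (PC_lY_E M).iff (PC_lY_E M).iff).1 h3)) (fun h3 => (Or.imp (fun h4 => h4) (fun h4 => (Or.imp (fun h5 => ((PC_lY_E M).iff.1 h5)) (fun h5 => (Exists.imp (fun m h6 => ⟨M.H.iff.1 h6.1, h6.2⟩) (h5 M.H.good M.H.ne))) h4)) h3)) h2)) h1)) (h k (M.H.iff.2 h0))))
noncomputable def PC_cl2_t0 : ST := (.node (nat_lit 46) (.node (nat_lit 20) (.node (nat_lit 16) (.node (nat_lit 5) (.leaf (nat_lit 162)) (.node (nat_lit 14) (.leaf (nat_lit 324)) (.leaf (nat_lit 162)))) (.node (nat_lit 17) (.leaf (nat_lit 328)) (.node (nat_lit 18) (.leaf (nat_lit 486)) (.leaf (nat_lit 513))))) (.node (nat_lit 26) (.node (nat_lit 21) (.leaf (nat_lit 27)) (.node (nat_lit 24) (.leaf (nat_lit 351)) (.leaf (nat_lit 0)))) (.node (nat_lit 32) (.node (nat_lit 29) (.leaf (nat_lit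 486)) (.leaf (nat_lit 162))) (.node (nat_lit 44) (.leaf (nat_lit 4)) (.leaf (nat_lit 351)))))) (.node (nat_lit 57) (.node (nat_lit 53) (.node (nat_lit 49) (.leaf (nat_lit 166)) (.node (nat_lit 50) (.leaf (nat_lit 4)) (.leaf (nat_lit 0)))) (.node (nat_lit 54) (.leaf (nat_lit 324)) (.node (nat_lit 56) (.leaf (nat_lit 486)) (.leaf (nat_lit 166))))) (.node (nat_lit 61) (.node (nat_lit 58) (.leaf (nat_lit 0)) (.node (nat_lit 60) (.leaf (nat_lit 189)) (.leaf (nat_lit 324)))) (.node (nat_lit 68) (.node (nat_lit 66) (.leaf (nat_lit 27)) (.leaf (nat_lit 324))) (.node (nat_lit 69) (.leaf (nat_lit 490)) (.leaf (nat_lit 0)))))))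
noncomputable def PC_cl2_F : Fm := (.allS PC_lJ (.or (.qf (.eq (.v (nat_lit 0)) .one)) (.exF P1_L (fun cs => PC_cl2_t0.find (Nat.mod (nth (nat_lit 0) cs (nat_lit 0)) (nat_lit 76))) (.qf (.or (.eq (.mul (.mul (.v (nat_lit 0)) (.v (nat_lit 1))) (.inv (.v (nat_lit 0)))) (.v (nat_lit 12))) (.or (.eq (.mul (.mul (.v (nat_lit 0)) (.v (nat_lit 1))) (.inv (.v (nat_lit 0)))) (.inv (.v (nat_lit 12)))) (.or (.eq (.mul (.mul (.v (nat_lit 0)) (.v (nat_lit 1))) (.inv (.v (nat_lit 0)))) (.v (nat_lit 8))) (.eq (.mul (.mul (.v (nat_lit 0)) (.v (nat_lit 1))) (.inv (.v (nat_lit 0)))) (.mul (.v (nat_lit 4)) (.v (nat_lit 6)))))))))))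
theorem PC_cl2_chk : Fm.chk P1_o PC_cl2_F PC_cs = true := by decide +kernel
theorem PC_cl2 {G : Type*} [Group G] {R : ℕ → G → Prop} {t c a b e x z y : G} {H : Subgroup G}
    (M : Mdl P1_o PC_cs P1_L R [t, c, a, a⁻¹, b, b⁻¹, e, e⁻¹, x, x⁻¹, z, y] H) :
    ∀ j ∈ sp [a, b, e], j = 1 ∨ (∃ m ∈ H, m * j * m⁻¹ = z ∨ m * j * m⁻¹ = z⁻¹ ∨ m * j * m⁻¹ = e ∨ m * j * m⁻¹ = a * b) :=
  have h : ∀ j, InS R PC_lJ j → j = 1 ∨ (Good P1_o R P1_L → prods P1_o P1_L P1_o.one ≠ [] → ∃ m, InL P1_o R P1_L m ∧ (m * j * m⁻¹ = z ∨ m * j * m⁻¹ = z⁻¹ ∨ m * j * m⁻¹ = e ∨ m * j * m⁻¹ = a * b)) :=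
    Fm.sound M.μ PC_cl2_F PC_cl2_chk M.reps
  (fun j h0 => (Or.imp (fun h1 => h1) (fun h1 => (Exists.imp (fun m h2 => ⟨M.H.iff.1 h2.1, h2.2⟩) (h1 M.H.good M.H.ne))) (h j ((PC_lJ_E M).iff.2 h0))))
noncomputable def PC_cw_F : Fm := (.all P1_L (.imp (.eq (.mul (.v (nat_lit 0)) (.mul (.v (nat_lit 3)) (.v (nat_lit 5)))) (.mul (.mul (.v (nat_lit 3)) (.v (nat_lit 5))) (.v (nat_lit 0)))) (.qf (.and (.or (.mem (.v (nat_lit 0)) PC_lJ) (.mem (.mul (.v (nat_lit 1)) (.v (nat_lit 0))) PC_lJ)) (.and (.or (.not (.eq (.mul (.v (nat_lit 0)) (.v (nat_lit 12))) (.mul (.v (nat_lit 12)) (.v (nat_lit 0))))) (.mem (.v (nat_lit 0)) PC_lJ)) (.or (.not (.eq (.mul (.v (nat_lit 0)) (.v (nat_lit 1))) (.mul (.v (nat_lit 1)) (.v (nat_lit 0))))) (.or (.mem (.v (nat_lit 0)) PC_lF) (.mem (.mul (.v (nat_lit 0)) (.v (nat_lit 1))) PC_lF))))))))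
theorem PC_cw_chk : Fm.chk P1_o PC_cw_F PC_cs = true := by decide +kernel
theorem PC_cw {G : Type*} [Group G] {R : ℕ → G → Prop} {t c a b e x z y : G} {H : Subgroup G}
    (M : Mdl P1_o PC_cs P1_L R [t, c, a, a⁻¹, b, b⁻¹, e, e⁻¹, x, x⁻¹, z, y] H) :
    ∀ k ∈ H, k * (a * b) = a * b * k → (k ∈ sp [a, b, e] ∨ t * k ∈ sp [a, b, e]) ∧ (k * y ≠ y * k ∨ k ∈ sp [a, b, e]) ∧ (k * t ≠ t * k ∨ k ∈ sp [a * b, e] ∨ k * t ∈ sp [a * b, e]) :=
  have h : ∀ k, InL P1_o R P1_L k → k * (a * b) = a * b * k → (InS R PC_lJ (k) ∨ InS R PC_lJ (t * k)) ∧ (k * y ≠ y * k ∨ InS R PC_lJ (k)) ∧ (k * t ≠ t * k ∨ InS R PC_lF (k) ∨ InS R PC_lF (k * t)) :=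
    Fm.sound M.μ PC_cw_F PC_cw_chk M.reps
  (fun k h0 => (fun h1 => ((and_congr (or_congr (PC_lJ_E M).iff (PC_lJ_E M).iff) (and_congr (or_congr Iff.rfl (PC_lJ_E M).iff) (or_congr Iff.rfl (or_congr (PC_lF_E M).iff (PC_lF_E M).iff)))).1 ((h k (M.H.iff.2 h0)) h1))))
noncomputable def PC_ce_F : Fm := (.all P1_L (.imp (.eq (.mul (.v (nat_lit 0)) (.v (nat_lit 7))) (.mul (.v (nat_lit 7)) (.v (nat_lit 0)))) (.and (.qf (.mem (.mul (.v (nat_lit 0)) (.v (nat_lit 0))) PC_lJ)) (.and (.qf (.mem (.mul (.mul (.v (nat_lit 0)) (.v (nat_lit 3))) (.inv (.v (nat_lit 0)))) PC_lU)) (.and (.qf (.mem (.mul (.mul (.v (nat_lit 0)) (.v (nat_lit 5))) (.inv (.v (nat_lit 0)))) PC_lU)) (.and (.qf (.and (.or (.eq (.mul (.mul (.v (nat_lit 0)) (.mul (.v (nat_lit 3)) (.v (nat_lit 5)))) (.inv (.v (nat_lit 0)))) (.mul (.v (nat_lit 3)) (.v (nat_lit 5)))) (.eq (.mul (.mul (.v (nat_lit 0)) (.mul (.v (nat_lit 3)) (.v (nat_lit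 5)))) (.inv (.v (nat_lit 0)))) (.inv (.mul (.v (nat_lit 3)) (.v (nat_lit 5)))))) (.or (.eq (.mul (.mul (.v (nat_lit 0)) (.v (nat_lit 12))) (.inv (.v (nat_lit 0)))) (.v (nat_lit 12))) (.eq (.mul (.mul (.v (nat_lit 0)) (.v (nat_lit 12))) (.inv (.v (nat_lit 0)))) (.inv (.v (nat_lit 12))))))) (.allS PC_lJ (.qf (.mem (.mul (.inv (.v (nat_lit 0))) (.mul (.mul (.v (nat_lit 1)) (.v (nat_lit 0))) (.inv (.v (nat_lit 1))))) PC_lU)))))))))
theorem PC_ce_chk : Fm.chk P1_o PC_ce_F PC_cs = true := by decide +kernel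
theorem PC_ce {G : Type*} [Group G] {R : ℕ → G → Prop} {t c a b e x z y : G} {H : Subgroup G}
    (M : Mdl P1_o PC_cs P1_L R [t, c, a, a⁻¹, b, b⁻¹, e, e⁻¹, x, x⁻¹, z, y] H) :
    ∀ k ∈ H, k * e = e * k → k * k ∈ sp [a, b, e] ∧ k * a * k⁻¹ ∈ sp [a, b] ∧ k * b * k⁻¹ ∈ sp [a, b] ∧ ((k * (a * b) * k⁻¹ = a * b ∨ k * (a * b) * k⁻¹ = (a * b)⁻¹) ∧ (k * y * k⁻¹ = y ∨ k * y * k⁻¹ = y⁻¹)) ∧ (∀ j ∈ sp [a, b, e], j⁻¹ * (k * j * k⁻¹) ∈ sp [a, b]) :=
  have h : ∀ k, InL P1_o R P1_L k → k * e = e * k → InS R PC_lJ (k * k) ∧ InS R PC_lU (k * a * k⁻¹) ∧ InS R PC_lU (k * b * k⁻¹) ∧ ((k * (a * b) * k⁻¹ = a * b ∨ k * (a * b) * k⁻¹ = (a * b)⁻¹) ∧ (k * y * k⁻¹ = y ∨ k * y * k⁻¹ = y⁻¹)) ∧ (∀ j, InS R PC_lJ j → InS R PC_lU (j⁻¹ * (k * j * k⁻¹))) :=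
    Fm.sound M.μ PC_ce_F PC_ce_chk M.reps
  (fun k h0 => (fun h1 => (And.imp (fun h2 => ((PC_lJ_E M).iff.1 h2)) (fun h2 => (And.imp (fun h3 => ((PC_lU_E M).iff.1 h3)) (fun h3 => (And.imp (fun h4 => ((PC_lU_E M).iff.1 h4)) (fun h4 => (And.imp (fun h5 => h5) (fun h5 => (fun j h6 => ((PC_lU_E M).iff.1 (h5 j ((PC_lJ_E M).iff.2 h6))))) h4)) h3)) h2)) ((h k (M.H.iff.2 h0)) h1))))
noncomputable def PC_U_t0 : ST := (.node (nat_lit 21) (.node (nat_lit 13) (.node (nat_lit 12) (.leaf (nat_lit 4)) (.leaf (nat_lit 166))) (.node (nat_lit 14) (.leaf (nat_lit 0)) (.leaf (nat_lit 486)))) (.node (nat_lit 25) (.node (nat_lit 22) (.leaf (nat_lit 324)) (.leaf (nat_lit 162))) (.node (nat_lit 26) (.leaf (nat_lit 27)) (.leaf (nat_lit 189)))))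
noncomputable def PC_U_F : Fm := (.allS PC_lU (.or (.qf (.eq (.v (nat_lit 0)) .one)) (.exF P1_L (fun cs => PC_U_t0.find (Nat.mod (nth (nat_lit 0) cs (nat_lit 0)) (nat_lit 28))) (.qf (.or (.eq (.mul (.mul (.v (nat_lit 0)) (.v (nat_lit 1))) (.inv (.v (nat_lit 0)))) (.mul (.v (nat_lit 4)) (.v (nat_lit 6)))) (.eq (.mul (.mul (.v (nat_lit 0)) (.mul (.v (nat_lit 1)) (.v (nat_lit 8)))) (.inv (.v (nat_lit 0)))) (.mul (.v (nat_lit 4)) (.v (nat_lit 6)))))))))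
theorem PC_U_chk : Fm.chk P1_o PC_U_F PC_cs = true := by decide +kernel
theorem PC_U {G : Type*} [Group G] {R : ℕ → G → Prop} {t c a b e x z y : G} {H : Subgroup G}
    (M : Mdl P1_o PC_cs P1_L R [t, c, a, a⁻¹, b, b⁻¹, e, e⁻¹, x, x⁻¹, z, y] H) :
    ∀ u ∈ sp [a, b], u = 1 ∨ (∃ m ∈ H, m * u * m⁻¹ = a * b ∨ m * (u * e) * m⁻¹ = a * b) :=
  have h : ∀ u, InS R PC_lU u → u = 1 ∨ (Good P1_o R P1_L → prods P1_o P1_L P1_o.one ≠ [] → ∃ m, InL P1_o R P1_L m ∧ (m * u * m⁻¹ = a * b ∨ m * (u * e) * m⁻¹ = a * b)) :=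
    Fm.sound M.μ PC_U_F PC_U_chk M.reps
  (fun u h0 => (Or.imp (fun h1 => h1) (fun h1 => (Exists.imp (fun m h2 => ⟨M.H.iff.1 h2.1, h2.2⟩) (h1 M.H.good M.H.ne))) (h u ((PC_lU_E M).iff.2 h0))))
noncomputable def PC_ct_F : Fm := (.all P1_L (.imp (.eq (.mul (.v (nat_lit 0)) (.v (nat_lit 1))) (.mul (.v (nat_lit 1)) (.v (nat_lit 0)))) (.and (.qf (.mem (.mul (.v (nat_lit 0)) (.v (nat_lit 0))) PC_lF)) (.and (.qf (.mem (.v (nat_lit 0)) PC_lCT)) (.allS PC_lF (.qf (.mem (.mul (.inv (.v (nat_lit 0))) (.mul (.mul (.v (nat_lit 1)) (.v (nat_lit 0))) (.inv (.v (nat_lit 1))))) PC_lA)))))))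
theorem PC_ct_chk : Fm.chk P1_o PC_ct_F PC_cs = true := by decide +kernel
theorem PC_ct {G : Type*} [Group G] {R : ℕ → G → Prop} {t c a b e x z y : G} {H : Subgroup G}
    (M : Mdl P1_o PC_cs P1_L R [t, c, a, a⁻¹, b, b⁻¹, e, e⁻¹, x, x⁻¹, z, y] H) :
    ∀ k ∈ H, k * t = t * k → k * k ∈ sp [a * b, e] ∧ k ∈ sp [a * b, e, t, c] ∧ (∀ j ∈ sp [a * b, e], j⁻¹ * (k * j * k⁻¹) ∈ sp [a * b]) :=
  have h : ∀ k, InL P1_o R P1_L k → k * t = t * k → InS R PC_lF (k * k) ∧ InS R PC_lCT (k) ∧ (∀ j, InS R PC_lF j → InS R PC_lA (j⁻¹ * (k * j * k⁻¹))) :=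
    Fm.sound M.μ PC_ct_F PC_ct_chk M.reps
  (fun k h0 => (fun h1 => (And.imp (fun h2 => ((PC_lF_E M).iff.1 h2)) (fun h2 => (And.imp (fun h3 => ((PC_lCT_E M).iff.1 h3)) (fun h3 => (fun j h4 => ((PC_lA_E M).iff.1 (h3 j ((PC_lF_E M).iff.2 h4))))) h2)) ((h k (M.H.iff.2 h0)) h1))))
noncomputable def PC_CT_F : Fm := (.allS PC_lCT (.qf (.eq (.mul (.v (nat_lit 0)) (.v (nat_lit 1))) (.mul (.v (nat_lit 1)) (.v (nat_lit 0))))))
theorem PC_CT_chk : Fm.chk P1_o PC_CT_F PC_cs = true := by decide +kernel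
theorem PC_CT {G : Type*} [Group G] {R : ℕ → G → Prop} {t c a b e x z y : G} {H : Subgroup G}
    (M : Mdl P1_o PC_cs P1_L R [t, c, a, a⁻¹, b, b⁻¹, e, e⁻¹, x, x⁻¹, z, y] H) :
    ∀ k ∈ sp [a * b, e, t, c], k * t = t * k :=
  have h : ∀ k, InS R PC_lCT k → k * t = t * k :=
    Fm.sound M.μ PC_CT_F PC_CT_chk M.reps
  (fun k h0 => (h k ((PC_lCT_E M).iff.2 h0)))
noncomputable def PC_Y_F : Fm := (.allS PC_lY (.qf (.or (.mem (.v (nat_lit 0)) PC_lO) (.or (.mem (.mul (.v (nat_lit 9)) (.v (nat_lit 0))) PC_lO) (.mem (.mul (.inv (.v (nat_lit 9))) (.v (nat_lit 0))) PC_lO)))))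
theorem PC_Y_chk : Fm.chk P1_o PC_Y_F PC_cs = true := by decide +kernel
theorem PC_Y {G : Type*} [Group G] {R : ℕ → G → Prop} {t c a b e x z y : G} {H : Subgroup G}
    (M : Mdl P1_o PC_cs P1_L R [t, c, a, a⁻¹, b, b⁻¹, e, e⁻¹, x, x⁻¹, z, y] H) :
    ∀ k ∈ sp [a, b, e, x, c], k ∈ sp [c, x⁻¹ * c * x, a, a⁻¹, b, b⁻¹, e, e⁻¹] ∨ x * k ∈ sp [c, x⁻¹ * c * x, a, a⁻¹, b, b⁻¹, e, e⁻¹] ∨ x⁻¹ * k ∈ sp [c, x⁻¹ * c * x, a, a⁻¹, b, b⁻¹, e, e⁻¹] :=
  have h : ∀ k, InS R PC_lY k → InS R PC_lO (k) ∨ InS R PC_lO (x * k) ∨ InS R PC_lO (x⁻¹ * k) :=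
    Fm.sound M.μ PC_Y_F PC_Y_chk M.reps
  (fun k h0 => ((or_congr (PC_lO_E M).iff (or_congr (PC_lO_E M).iff (PC_lO_E M).iff)).1 (h k ((PC_lY_E M).iff.2 h0))))
def JV {G : Type*} [Group G] (a b e c d : G) : Prop :=
  a ^ 3 = 1 ∧
  b ^ 3 = 1 ∧
  e ^ 3 = 1 ∧
  a * b = b * a ∧
  a * e = e * a ∧
  b * e = e * b ∧
  c * c = 1 ∧
  d * d = 1 ∧
  c * d = d * c ∧
  c * a * c⁻¹ = a⁻¹ ∧
  c * b * c⁻¹ = b⁻¹ ∧
  c * e = e * c ∧
  d * a * d⁻¹ = a⁻¹ ∧
  d * b = b * d ∧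
  d * e * d⁻¹ = e⁻¹ ∧ True
theorem JV.map {G G' : Type*} [Group G] [Group G'] {a b e c d : G} (h : JV a b e c d) (f : G →* G') :
    JV (f a) (f b) (f e) (f c) (f d) :=
  ⟨by simpa only [map_mul, map_pow, map_inv, map_one, map_commutatorElement] using congrArg f h.1,
   by simpa only [map_mul, map_pow, map_inv, map_one, map_commutatorElement] using congrArg f h.2.1,
   by simpa only [map_mul, map_pow, map_inv, map_one, map_commutatorElement] using congrArg f h.2.2.1,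
   by simpa only [map_mul, map_pow, map_inv, map_one, map_commutatorElement] using congrArg f h.2.2.2.1,
   by simpa only [map_mul, map_pow, map_inv, map_one, map_commutatorElement] using congrArg f h.2.2.2.2.1,
   by simpa only [map_mul, map_pow, map_inv, map_one, map_commutatorElement] using congrArg f h.2.2.2.2.2.1,
   by simpa only [map_mul, map_pow, map_inv, map_one, map_commutatorElement] using congrArg f h.2.2.2.2.2.2.1,
   by simpa only [map_mul, map_pow, map_inv, map_one, map_commutatorElement] using congrArg f h.2.2.2.2.2.2.2.1,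
   by simpa only [map_mul, map_pow, map_inv, map_one, map_commutatorElement] using congrArg f h.2.2.2.2.2.2.2.2.1,
   by simpa only [map_mul, map_pow, map_inv, map_one, map_commutatorElement] using congrArg f h.2.2.2.2.2.2.2.2.2.1,
   by simpa only [map_mul, map_pow, map_inv, map_one, map_commutatorElement] using congrArg f h.2.2.2.2.2.2.2.2.2.2.1,
   by simpa only [map_mul, map_pow, map_inv, map_one, map_commutatorElement] using congrArg f h.2.2.2.2.2.2.2.2.2.2.2.1,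
   by simpa only [map_mul, map_pow, map_inv, map_one, map_commutatorElement] using congrArg f h.2.2.2.2.2.2.2.2.2.2.2.2.1,
   by simpa only [map_mul, map_pow, map_inv, map_one, map_commutatorElement] using congrArg f h.2.2.2.2.2.2.2.2.2.2.2.2.2.1,
   by simpa only [map_mul, map_pow, map_inv, map_one, map_commutatorElement] using congrArg f h.2.2.2.2.2.2.2.2.2.2.2.2.2.2.1, trivial⟩
theorem JV.comap {G G' : Type*} [Group G] [Group G'] {a b e c d : G} {f : G →* G'} (hf : Function.Injective f)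
    (h : JV (f a) (f b) (f e) (f c) (f d)) : JV a b e c d :=
  ⟨hf (by simpa only [map_mul, map_pow, map_inv, map_one, map_commutatorElement] using h.1),
   hf (by simpa only [map_mul, map_pow, map_inv, map_one, map_commutatorElement] using h.2.1),
   hf (by simpa only [map_mul, map_pow, map_inv, map_one, map_commutatorElement] using h.2.2.1),
   hf (by simpa only [map_mul, map_pow, map_inv, map_one, map_commutatorElement] using h.2.2.2.1),
   hf (by simpa only [map_mul, map_pow, map_inv, map_one, map_commutatorElement] using h.2.2.2.2.1),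
   hf (by simpa only [map_mul, map_pow, map_inv, map_one, map_commutatorElement] using h.2.2.2.2.2.1),
   hf (by simpa only [map_mul, map_pow, map_inv, map_one, map_commutatorElement] using h.2.2.2.2.2.2.1),
   hf (by simpa only [map_mul, map_pow, map_inv, map_one, map_commutatorElement] using h.2.2.2.2.2.2.2.1),
   hf (by simpa only [map_mul, map_pow, map_inv, map_one, map_commutatorElement] using h.2.2.2.2.2.2.2.2.1),
   hf (by simpa only [map_mul, map_pow, map_inv, map_one, map_commutatorElement] using h.2.2.2.2.2.2.2.2.2.1),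
   hf (by simpa only [map_mul, map_pow, map_inv, map_one, map_commutatorElement] using h.2.2.2.2.2.2.2.2.2.2.1),
   hf (by simpa only [map_mul, map_pow, map_inv, map_one, map_commutatorElement] using h.2.2.2.2.2.2.2.2.2.2.2.1),
   hf (by simpa only [map_mul, map_pow, map_inv, map_one, map_commutatorElement] using h.2.2.2.2.2.2.2.2.2.2.2.2.1),
   hf (by simpa only [map_mul, map_pow, map_inv, map_one, map_commutatorElement] using h.2.2.2.2.2.2.2.2.2.2.2.2.2.1),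
   hf (by simpa only [map_mul, map_pow, map_inv, map_one, map_commutatorElement] using h.2.2.2.2.2.2.2.2.2.2.2.2.2.2.1), trivial⟩
noncomputable def PC_jv_f_F : Fm := (.qf (.and (.eq (.pw (.v (nat_lit 2)) (nat_lit 3)) .one) (.and (.eq (.pw (.v (nat_lit 4)) (nat_lit 3)) .one) (.and (.eq (.pw (.v (nat_lit 6)) (nat_lit 3)) .one) (.and (.eq (.mul (.v (nat_lit 2)) (.v (nat_lit 4))) (.mul (.v (nat_lit 4)) (.v (nat_lit 2)))) (.and (.eq (.mul (.v (nat_lit 2)) (.v (nat_lit 6))) (.mul (.v (nat_lit 6)) (.v (nat_lit 2)))) (.and (.eq (.mul (.v (nat_lit 4)) (.v (nat_lit 6))) (.mul (.v (nat_lit 6)) (.v (nat_lit 4)))) (.and (.eq (.mul (.v (nat_lit 1)) (.v (nat_lit 1))) .one) (.and (.eq (.mul (.mul (.mul (.inv (.v (nat_lit 8))) (.v (nat_lit 1))) (.v (nat_lit 8))) (.mul (.mul (.inv (.v (nat_lit 8))) (.v (nat_lit 1))) (.v (nat_lit 8)))) .one) (.and (.eq (.mul (.v (nat_lit 1)) (.mul (.mul (.inv (.v (nat_lit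 8))) (.v (nat_lit 1))) (.v (nat_lit 8)))) (.mul (.mul (.mul (.inv (.v (nat_lit 8))) (.v (nat_lit 1))) (.v (nat_lit 8))) (.v (nat_lit 1)))) (.and (.eq (.mul (.mul (.v (nat_lit 1)) (.v (nat_lit 2))) (.inv (.v (nat_lit 1)))) (.inv (.v (nat_lit 2)))) (.and (.eq (.mul (.mul (.v (nat_lit 1)) (.v (nat_lit 4))) (.inv (.v (nat_lit 1)))) (.inv (.v (nat_lit 4)))) (.and (.eq (.mul (.v (nat_lit 1)) (.v (nat_lit 6))) (.mul (.v (nat_lit 6)) (.v (nat_lit 1)))) (.and (.eq (.mul (.mul (.mul (.mul (.inv (.v (nat_lit 8))) (.v (nat_lit 1))) (.v (nat_lit 8))) (.v (nat_lit 2))) (.inv (.mul (.mul (.inv (.v (nat_lit 8))) (.v (nat_lit 1))) (.v (nat_lit 8))))) (.inv (.v (nat_lit 2)))) (.and (.eq (.mul (.mul (.mul (.inv (.v (nat_lit 8))) (.v (nat_lit 1))) (.v (nat_lit 8))) (.v (nat_lit 4))) (.mul (.v (nat_lit 4)) (.mul (.mul (.inv (.v (nat_lit 8))) (.v (nat_lit 1))) (.v (nat_lit 8))))) (.eq (.mul (.mul (.mul (.mul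 (.inv (.v (nat_lit 8))) (.v (nat_lit 1))) (.v (nat_lit 8))) (.v (nat_lit 6))) (.inv (.mul (.mul (.inv (.v (nat_lit 8))) (.v (nat_lit 1))) (.v (nat_lit 8))))) (.inv (.v (nat_lit 6)))))))))))))))))))
theorem PC_jv_f_chk : Fm.chk P1_o PC_jv_f_F PC_cs = true := by decide +kernel
theorem PC_jv_f {G : Type*} [Group G] {R : ℕ → G → Prop} {t c a b e x z y : G} {H : Subgroup G}
    (M : Mdl P1_o PC_cs P1_L R [t, c, a, a⁻¹, b, b⁻¹, e, e⁻¹, x, x⁻¹, z, y] H) :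
    a ^ 3 = 1 ∧ b ^ 3 = 1 ∧ e ^ 3 = 1 ∧ a * b = b * a ∧ a * e = e * a ∧ b * e = e * b ∧ c * c = 1 ∧ x⁻¹ * c * x * (x⁻¹ * c * x) = 1 ∧ c * (x⁻¹ * c * x) = x⁻¹ * c * x * c ∧ c * a * c⁻¹ = a⁻¹ ∧ c * b * c⁻¹ = b⁻¹ ∧ c * e = e * c ∧ x⁻¹ * c * x * a * (x⁻¹ * c * x)⁻¹ = a⁻¹ ∧ x⁻¹ * c * x * b = b * (x⁻¹ * c * x) ∧ x⁻¹ * c * x * e * (x⁻¹ * c * x)⁻¹ = e⁻¹ :=
  Fm.sound M.μ PC_jv_f_F PC_jv_f_chk M.reps
theorem PC_jv {G : Type*} [Group G] {R : ℕ → G → Prop} {t c a b e x z y : G} {H : Subgroup G}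
    (M : Mdl P1_o PC_cs P1_L R [t, c, a, a⁻¹, b, b⁻¹, e, e⁻¹, x, x⁻¹, z, y] H) :
    JV a b e c (x⁻¹ * c * x) :=
  have h := PC_jv_f M
  ⟨h.1, h.2.1, h.2.2.1, h.2.2.2.1, h.2.2.2.2.1, h.2.2.2.2.2.1, h.2.2.2.2.2.2.1, h.2.2.2.2.2.2.2.1, h.2.2.2.2.2.2.2.2.1, h.2.2.2.2.2.2.2.2.2.1, h.2.2.2.2.2.2.2.2.2.2.1, h.2.2.2.2.2.2.2.2.2.2.2.1, h.2.2.2.2.2.2.2.2.2.2.2.2.1, h.2.2.2.2.2.2.2.2.2.2.2.2.2.1, h.2.2.2.2.2.2.2.2.2.2.2.2.2.2, trivial⟩
noncomputable def JV_Rl : List (List ℕ) := [[0,0],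
  [1,1],
  [2,3],
  [3,2],
  [4,5],
  [5,4],
  [6,7],
  [7,6],
  [2,2,2],
  [4,4,4],
  [6,6,6],
  [5,3,4,2],
  [7,3,6,2],
  [7,5,6,4],
  [1,0,1,0],
  [2,0,2,0],
  [4,0,4,0],
  [7,0,6,0],
  [2,1,2,1],
  [5,1,4,1],
  [6,1,6,1]]
theorem JV_r {G : Type*} [Group G] {c d a b e : G}
    (h : JV a b e c d) :
    Rels (nthG [c, d, a, a⁻¹, b, b⁻¹, e, e⁻¹]) JV_Rl :=
  rels_of_eqs ((InvI.cons h.2.2.2.2.2.2.1 (InvI.cons h.2.2.2.2.2.2.2.1 InvI.nil)) : InvI [c, d, a, b, e] [(nat_lit 0), (nat_lit 1)])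
    (show AllEq [c, d, a, b, e] [((.pw (.v (nat_lit 2)) (nat_lit 3)), .one), ((.pw (.v (nat_lit 3)) (nat_lit 3)), .one), ((.pw (.v (nat_lit 4)) (nat_lit 3)), .one), ((.mul (.v (nat_lit 2)) (.v (nat_lit 3))), (.mul (.v (nat_lit 3)) (.v (nat_lit 2)))), ((.mul (.v (nat_lit 2)) (.v (nat_lit 4))), (.mul (.v (nat_lit 4)) (.v (nat_lit 2)))), ((.mul (.v (nat_lit 3)) (.v (nat_lit 4))), (.mul (.v (nat_lit 4)) (.v (nat_lit 3)))), ((.mul (.v (nat_lit 0)) (.v (nat_lit 0))), .one), ((.mul (.v (nat_lit 1)) (.v (nat_lit 1))), .one), ((.mul (.v (nat_lit 0)) (.v (nat_lit 1))), (.mul (.v (nat_lit 1)) (.v (nat_lit 0)))), ((.mul (.mul (.v (nat_lit 0)) (.v (nat_lit 2))) (.inv (.v (nat_lit 0)))), (.inv (.v (nat_lit 2)))), ((.mul (.mul (.v (nat_lit 0)) (.v (nat_lit 3))) (.inv (.v (nat_lit 0)))), (.inv (.v (nat_lit 3)))), ((.mul (.v (nat_lit 0)) (.v (nat_lit 4))), (.mul (.v (nat_lit 4)) (.v (nat_lit 0)))), ((.mul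 (.mul (.v (nat_lit 1)) (.v (nat_lit 2))) (.inv (.v (nat_lit 1)))), (.inv (.v (nat_lit 2)))), ((.mul (.v (nat_lit 1)) (.v (nat_lit 3))), (.mul (.v (nat_lit 3)) (.v (nat_lit 1)))), ((.mul (.mul (.v (nat_lit 1)) (.v (nat_lit 4))) (.inv (.v (nat_lit 1)))), (.inv (.v (nat_lit 4))))] from h)
    [(.v (nat_lit 0)), (.v (nat_lit 1)), (.v (nat_lit 2)), (.inv (.v (nat_lit 2))), (.v (nat_lit 3)), (.inv (.v (nat_lit 3))), (.v (nat_lit 4)), (.inv (.v (nat_lit 4)))] (by decide +kernel)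
noncomputable def JV_b2_S0 : List ℕ := [nat_lit 0xf00000700000c004004]
noncomputable def JV_b2_S : List (List ℕ) := [JV_b2_S0]
noncomputable def JV_b2_defs : List ℕ := [(nat_lit 0x100001001000000000000000000000)]
noncomputable def JV_b2_recs : List ℕ := [(nat_lit 0x200003)]
noncomputable def JV_b2_L0 : List ℕ := [nat_lit 0x700000100000b000002, nat_lit 0x800000000000f000003, nat_lit 0x200000300000c000000, nat_lit 0x1000002000010000001]
noncomputable def JV_b2_L : List (List ℕ) := [JV_b2_L0]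
noncomputable def JV_b2_V : List ℕ := [(nat_lit 0x3000000020000000100000000)]
noncomputable def JV_b2_D : H26.Dag := ⟨[], [[0,0],
  [1,1],
  [1,0,1,0]], [], JV_b2_defs, JV_b2_recs⟩
theorem JV_b2_c : JV_b2_D.checkTab JV_b2_S 4 2 JV_b2_V JV_b2_L = true := by decide +kernel
theorem JV_b2 : Bound JV_Rl 2 4 :=
  bound_dag (Bound.zero JV_Rl) (K := 2) (J := [0,1,14]) (by decide +kernel) JV_b2_c (by decide +kernel)
noncomputable def JV_b8_S0 : List ℕ := [nat_lit 0x1, nat_lit 0x1, nat_lit 0xb000008006010, nat_lit 0xb00000100000800a01c, nat_lit 0xb00000500000800a022, nat_lit 0xf00000500001000c024, nat_lit 0x13000010006012, nat_lit 0x1300000100001000a01e, nat_lit 0x13000005000014004024, nat_lit 0x1700000100001800c020, nat_lit 0x1b000018006014, nat_lit 0x1b00000100001c004020, nat_lit 0x1b00000500001800a026, nat_lit 0x1f000007000010002016, nat_lit 0x23000020006012, nat_lit 0x23000007000014004016,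 nat_lit 0x27000007000018002018, nat_lit 0x2b000028006014, nat_lit 0x2b00000700001c004018, nat_lit 0x2f00000b00001000c016, nat_lit 0x2f00000a000020002016, nat_lit 0x2f00000e00002400401e, nat_lit 0x2f00001200002000c024, nat_lit 0x33000030006012, nat_lit 0x3300000a000024004016, nat_lit 0x3300000b00001400a016, nat_lit 0x3300000e00002000a01e, nat_lit 0x33000012000024004024, nat_lit 0x3700000b00001800c018, nat_lit 0x3700000a000028002018, nat_lit 0x3700000e00002800c020, nat_lit 0x3700001200002c004026, nat_lit 0x3b000038006014, nat_lit 0x3b00000a00002c004018, nat_lit 0x3b00000b00001c00a018, nat_lit 0x3b00000e00002c004020, nat_lit 0x3b00001200002800a026, nat_lit 0x3f00000f00001800201a, nat_lit 0x43000040006014, nat_lit 0x4300000f00001c00401a, nat_lit 0x4300001500004000a026, nat_lit 0x4700001300001800c01a, nat_lit 0x4700001a00004000201a, nat_lit 0x4700001e00004000c020, nat_lit 0x4b000048006014,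 nat_lit 0x4b00001a00004400401a, nat_lit 0x4b00001300001c00a01a, nat_lit 0x4b00001e000044004020, nat_lit 0x4b00002100004800a026, nat_lit 0x4f000036000040002018, nat_lit 0x4f00001f00002800201a, nat_lit 0x53000050006014, nat_lit 0x53000036000044004018, nat_lit 0x5300001f00002c00401a, nat_lit 0x5700003e000048002018, nat_lit 0x5700002300002800c01a, nat_lit 0x5700003a00005000201a, nat_lit 0x5b000058006014, nat_lit 0x5b00003e00004c004018, nat_lit 0x5b00003a00005400401a, nat_lit 0x5b00002300002c00a01a, nat_lit 0x5f00004e00004000c018, nat_lit 0x5f000052000050002018, nat_lit 0x5f00002f00003800201a]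
noncomputable def JV_b8_S1 : List ℕ := [nat_lit 0x5f00005600005800c020, nat_lit 0x5f00005a000054004026, nat_lit 0x63000060006014, nat_lit 0x63000052000054004018, nat_lit 0x6300004e00004400a018, nat_lit 0x6300002f00003c00401a, nat_lit 0x6300005600005c004020, nat_lit 0x6300005a00005000a026, nat_lit 0x6700006600004800c018, nat_lit 0x67000062000058002018, nat_lit 0x6700003300003800c01a, nat_lit 0x6700005e00006000201a, nat_lit 0x6700006a00005000c020, nat_lit 0x6700006e00005c004026, nat_lit 0x6b000068006014, nat_lit 0x6b00006200005c004018, nat_lit 0x6b00006600004c00a018, nat_lit 0x6b00005e00006400401a, nat_lit 0x6b00003300003c00a01a, nat_lit 0x6b00006a000054004020, nat_lit 0x6b00006e00005800a026]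
noncomputable def JV_b8_S : List (List ℕ) := [JV_b8_S0, JV_b8_S1]
noncomputable def JV_b8_defs : List ℕ := [(nat_lit 0x70000c0060000c0070000b0060000b0070000800600008007000070060000700700004006000040070000300600003007000020060000200500002004000020070000100600001005000010040000100700000006000000050000000400000003000000020000000000000)]
noncomputable def JV_b8_recs : List ℕ := [(nat_lit 0x50000d00017030001300017020000f00017040000a00016050001400016030001200016070001500016050001300015040000900015030001100015050000a00014030001000014070001300014050000900013030000f00013010001100012000001000012040000600012050001000012070001100012000000f00011050000f00011040000500011010000f00010050000600010070000f0001005000050000f01000090000e000000a0000e02000060000e030000a0000e070000d0000e010000a0000d00000090000d03000090000d02000050000d01000080000c00000070000c02000040000c03000080000c050000b0000c01000070000b00000080000b03000070000b02000030000b03000060000a07000090000a030000500009030000400008050000700008030000300007010000500006000000600006070000500006000000500005010000400004000000300004050000300004010000300003010000100002000000100002030000100002010000000000000000000000),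
  (nat_lit 0x1000150001a00000140001a040000e0001a05000180001a02000120001a03000160001a07000190001a010001600019000001300019050001700019040000d00019030001500019020001100019010001300018000001600018050000e00018020001000018030001400018070001700018010001400017000001500017)]
noncomputable def JV_b8_L0 : List ℕ := [nat_lit 0x100000000000500000000000700000100000b00000200000f00000300001300000400001700000500001b000006, nat_lit 0xe00000200001200000200000a00000200000800000000001f00000700002300000800002700000900002b00000a, nat_lit 0xd00000100001100000100000c00000000000900000100002f00000b00003300000c00003700000d00003b00000e, nat_lit 0x1e00000400001500000300003600000700004e00000b00001a00000400001000000000003f00000f000043000010, nat_lit 0x1d00000300002100000400003e00000800006600000c00001400000000001900000300004700001100004b000012, nat_lit 0x2500000500003200000600004200000900007200000d00009600000f0000a600001100002a000006000018000000,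 nat_lit 0x2d00000600003100000500004a00000a00008a00000e00009e0000100000ba00001200001c000000000029000005, nat_lit 0x6a00000c00005a00000b00005200000b00003500000300003a00000800002000000100004f000013000053000014, nat_lit 0x5600000b00006e00000c00006200000c00003d00000400002400000100003900000700005700001500005b000016, nat_lit 0x7a00000d00009200000e00007600000d0000410000050000ca0000130000de00001500004600000a000028000001, nat_lit 0x8e00000e00007e00000d00008600000e0000490000060000d60000140000f200001600002c000001000045000009, nat_lit 0x5500000800005900000700004d00000300005100000700005e00000c00003000000200005f000017000063000018, nat_lit 0x6900000700006d00000800006500000400006100000800003400000200005d00000b00006700001900006b00001a, nat_lit 0x7900000900007d00000a0000710000050000750000090000fe00001700012a00001900008200000e000038000002, nat_lit 0x8d00000a00009100000900008900000600008500000a00011600001800014a00001a00003c00000200008100000d,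 nat_lit 0xae0000110000a20000100000c60000130000f60000170000aa00001100009500000500009a000010000040000003, nat_lit 0xbe0000120000a100000f0000d20000140001120000180000b600001200009d00000600004400000300009900000f, nat_lit 0xad00000f0000c20000120000da0000150001220000190000a50000050000a900000f0000b2000012000048000004, nat_lit 0xbd0000100000c10000110000ea00001600014200001a0000b90000060000b500001000004c0000040000b1000011, nat_lit 0x13200001900011e0000180000fa0000170000c500000f0000e20000150000c90000090000ce000014000050000007, nat_lit 0x14e00001a00010600001700010e0000180000d10000100000ee0000160000d500000a0000540000070000cd000013, nat_lit 0x10200001700015200001a0001260000190000d90000110000dd0000090000e10000130000e6000016000058000008, nat_lit 0x11a00001800013600001900013e00001a0000e90000120000f100000a0000ed00001400005c0000080000e5000015, nat_lit 0x1010000150001050000140000f500000f0000f900001300012e0000190000fd00000d00010a00001800006000000b,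 nat_lit 0x11900001600011d00001300011100001000010d00001400014600001a00011500000e00006400000b000109000017, nat_lit 0x13100001300013500001600012100001100012500001500012900000d00012d00001700013a00001a00006800000c, nat_lit 0x14d00001400015100001500014100001200013d00001600014900000e00014500001800006c00000c000139000019]
noncomputable def JV_b8_L : List (List ℕ) := [JV_b8_L0]
noncomputable def JV_b8_V : List ℕ := [(nat_lit 0x1a000000190000001800000017000000160000001500000014000000130000001200000011000000100000000f0000000e0000000d0000000c0000000b0000000a00000009000000080000000700000006000000050000000400000003000000020000000100000000)]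
noncomputable def JV_b8_D : H26.Dag := ⟨[0,1,3,2,5,4,7,6], [[0,0],
  [1,1],
  [2,3],
  [3,2],
  [4,5],
  [5,4],
  [6,7],
  [7,6],
  [2,2,2],
  [4,4,4],
  [6,6,6],
  [5,3,4,2],
  [7,3,6,2],
  [7,5,6,4],
  [2,0,2,0],
  [4,0,4,0],
  [7,0,6,0],
  [2,1,2,1],
  [5,1,4,1],
  [6,1,6,1]], [0,1], JV_b8_defs, JV_b8_recs⟩
theorem JV_b8_c : JV_b8_D.checkTab JV_b8_S 27 8 JV_b8_V JV_b8_L = true := by decide +kernel
theorem JV_b8 : Bound JV_Rl 8 108 :=
  bound_dag JV_b2 (K := 8) (J := [0,1,2,3,4,5,6,7,8,9,10,11,12,13,15,16,17,18,19,20]) (by decide +kernel) JV_b8_c (by decide +kernel)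

end H2.NB
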