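import Cfsg.Agent.H2.NB5g

/-! Generated: the normalizer of a three-cycle in the symmetric group of degree nine. -/

set_option maxRecDepth 100000
set_option maxHeartbeats 4000000
set_option linter.unusedVariables false

open Subgroup
open scoped commutatorElement
namespace H2.NB
open H0 H0.PM H16 H19 H10.X H2.L3 H2.N9

def S6r {G : Type*} [Group G] (a b p o t w : G) : Prop :=
  a ^ 3 = 1 ∧
  b ^ 3 = 1 ∧
  p * p = 1 ∧
  o * o = 1 ∧
  t * t = 1 ∧
  w * w = 1 ∧
  p * a * p⁻¹ = a⁻¹ ∧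
  t * a * t⁻¹ = b ∧
  t * p * t⁻¹ = o ∧
  a * b = b * a ∧
  p * o = o * p ∧
  p * b = b * p ∧
  o * a = a * o ∧
  (a * p * w) ^ 3 = 1 ∧
  p * w = w * p ∧
  w * o = o * w ∧
  (w * (b * o)) ^ 3 = 1 ∧
  t = p * (a * p) * w * (b * o) * o * p * (a * p) * w * (b * o) * p * (a * p) * w * p * (a * p) * p ∧ True
def NE6 {G : Type*} [Group G] (a p t w e r : G) : Prop :=
  e ^ 3 = 1 ∧
  r * r = 1 ∧
  r * e * r⁻¹ = e⁻¹ ∧
  e * a = a * e ∧
  e * p = p * e ∧
  e * t = t * e ∧
  e * w = w * e ∧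
  r * a = a * r ∧
  r * p = p * r ∧
  r * t = t * r ∧
  r * w = w * r ∧ True
noncomputable def SX_Rl : List (List ℕ) := [[0,0],
  [1,1],
  [2,2],
  [3,4],
  [4,3],
  [5,6],
  [6,5],
  [7,7],
  [3,3,3],
  [5,5,5],
  [3,0,3,0],
  [6,2,3,2],
  [1,2,0,2],
  [6,4,5,3],
  [1,0,1,0],
  [6,0,5,0],
  [4,1,3,1],
  [7,0,3,7,0,3,7,0,3],
  [7,0,7,0],
  [1,7,1,7],
  [1,5,7,1,5,7,1,5,7],
  [0,4,0,7,6,0,4,0,7,6,1,0,4,0,7,0,4,2]]
theorem SX_r {G : Type*} [Group G] {p o t a b w : G}
    (h : S6r a b p o t w) :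
    Rels (nthG [p, o, t, a, a⁻¹, b, b⁻¹, w]) SX_Rl :=
  rels_of_eqs ((InvI.cons h.2.2.1 (InvI.cons h.2.2.2.1 (InvI.cons h.2.2.2.2.1 (InvI.cons h.2.2.2.2.2.1 InvI.nil)))) : InvI [p, o, t, a, b, w] [(nat_lit 0), (nat_lit 1), (nat_lit 2), (nat_lit 5)])
    (show AllEq [p, o, t, a, b, w] [((.pw (.v (nat_lit 3)) (nat_lit 3)), .one), ((.pw (.v (nat_lit 4)) (nat_lit 3)), .one), ((.mul (.v (nat_lit 0)) (.v (nat_lit 0))), .one), ((.mul (.v (nat_lit 1)) (.v (nat_lit 1))), .one), ((.mul (.v (nat_lit 2)) (.v (nat_lit 2))), .one), ((.mul (.v (nat_lit 5)) (.v (nat_lit 5))), .one), ((.mul (.mul (.v (nat_lit 0)) (.v (nat_lit 3))) (.inv (.v (nat_lit 0)))), (.inv (.v (nat_lit 3)))), ((.mul (.mul (.v (nat_lit 2)) (.v (nat_lit 3))) (.inv (.v (nat_lit 2)))), (.v (nat_lit 4))), ((.mul (.mul (.v (nat_lit 2)) (.v (nat_lit 0))) (.inv (.v (nat_lit 2)))), (.v (nat_lit 1))), ((.mul (.v (nat_lit 3)) (.v (nat_lit 4))), (.mul (.v (nat_lit 4)) (.v (nat_lit 3)))),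 ((.mul (.v (nat_lit 0)) (.v (nat_lit 1))), (.mul (.v (nat_lit 1)) (.v (nat_lit 0)))), ((.mul (.v (nat_lit 0)) (.v (nat_lit 4))), (.mul (.v (nat_lit 4)) (.v (nat_lit 0)))), ((.mul (.v (nat_lit 1)) (.v (nat_lit 3))), (.mul (.v (nat_lit 3)) (.v (nat_lit 1)))), ((.pw (.mul (.mul (.v (nat_lit 3)) (.v (nat_lit 0))) (.v (nat_lit 5))) (nat_lit 3)), .one), ((.mul (.v (nat_lit 0)) (.v (nat_lit 5))), (.mul (.v (nat_lit 5)) (.v (nat_lit 0)))), ((.mul (.v (nat_lit 5)) (.v (nat_lit 1))), (.mul (.v (nat_lit 1)) (.v (nat_lit 5)))), ((.pw (.mul (.v (nat_lit 5)) (.mul (.v (nat_lit 4)) (.v (nat_lit 1)))) (nat_lit 3)), .one), ((.v (nat_lit 2)), (.mul (.mul (.mul (.mul (.mul (.mul (.mul (.mul (.mul (.mul (.mul (.mul (.mul (.mul (.v (nat_lit 0)) (.mul (.v (nat_lit 3)) (.v (nat_lit 0)))) (.v (nat_lit 5))) (.mul (.v (nat_lit 4)) (.v (nat_lit 1)))) (.v (nat_lit 1))) (.v (nat_lit 0))) (.mul (.v (nat_lit 3)) (.v (nat_lit 0)))) (.v (nat_lit 5))) (.mul (.v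 (nat_lit 4)) (.v (nat_lit 1)))) (.v (nat_lit 0))) (.mul (.v (nat_lit 3)) (.v (nat_lit 0)))) (.v (nat_lit 5))) (.v (nat_lit 0))) (.mul (.v (nat_lit 3)) (.v (nat_lit 0)))) (.v (nat_lit 0))))] from h)
    [(.v (nat_lit 0)), (.v (nat_lit 1)), (.v (nat_lit 2)), (.v (nat_lit 3)), (.inv (.v (nat_lit 3))), (.v (nat_lit 4)), (.inv (.v (nat_lit 4))), (.v (nat_lit 5))] (by decide +kernel)
noncomputable abbrev SX_o : Ops := pops (nat_lit 6) (nat_lit 3) (nat_lit 7) (nat_lit 181896)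
noncomputable def SX_cs : List ℕ := [(nat_lit 181840), (nat_lit 153224), (nat_lit 69987), (nat_lit 181777), (nat_lit 181826), (nat_lit 120968), (nat_lit 146056), (nat_lit 180363)]
noncomputable def SX_L : List (List ℕ) := [[(nat_lit 181896), (nat_lit 69987), (nat_lit 181777), (nat_lit 181826), (nat_lit 69868), (nat_lit 69917)],
  [(nat_lit 181896), (nat_lit 181840), (nat_lit 71520), (nat_lit 71464), (nat_lit 72472)],
  [(nat_lit 181896), (nat_lit 181448), (nat_lit 120072), (nat_lit 144712)],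
  [(nat_lit 181896), (nat_lit 120968), (nat_lit 146056)],
  [(nat_lit 181896), (nat_lit 153224)]]
noncomputable def SX_WW : List (List (List ℕ)) := [[[],
  [(nat_lit 2)],
  [(nat_lit 3)],
  [(nat_lit 4)],
  [(nat_lit 2), (nat_lit 5)],
  [(nat_lit 2), (nat_lit 6)]],
  [[],
  [(nat_lit 0)],
  [(nat_lit 2), (nat_lit 7)],
  [(nat_lit 0), (nat_lit 2), (nat_lit 7)],
  [(nat_lit 2), (nat_lit 7), (nat_lit 6)]],
  [[],
  [(nat_lit 3), (nat_lit 7), (nat_lit 4)],
  [(nat_lit 3), (nat_lit 7), (nat_lit 4), (nat_lit 5)],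
  [(nat_lit 3), (nat_lit 7), (nat_lit 4), (nat_lit 6)]],
  [[],
  [(nat_lit 5)],
  [(nat_lit 6)]],
  [[],
  [(nat_lit 1)]]]
noncomputable def SX_b2_S0 : List ℕ := [nat_lit 0xf00000700000c004004]
noncomputable def SX_b2_S : List (List ℕ) := [SX_b2_S0]
noncomputable def SX_b2_defs : List ℕ := [(nat_lit 0x100001001000000000000000000000)]
noncomputable def SX_b2_recs : List ℕ := [(nat_lit 0x200003)]
noncomputable def SX_b2_L0 : List ℕ := [nat_lit 0x700000100000b000002, nat_lit 0x800000000000f000003, nat_lit 0x200000300000c000000, nat_lit 0x1000002000010000001]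
noncomputable def SX_b2_L : List (List ℕ) := [SX_b2_L0]
noncomputable def SX_b2_V : List ℕ := [(nat_lit 0x3000000020000000100000000)]
noncomputable def SX_b2_D : H26.Dag := ⟨[], [[0,0],
  [1,1],
  [1,0,1,0]], [], SX_b2_defs, SX_b2_recs⟩
theorem SX_b2_c : SX_b2_D.checkTab SX_b2_S 4 2 SX_b2_V SX_b2_L = true := by decide +kernel
theorem SX_b2 : Bound SX_Rl 2 4 :=
  bound_dag (Bound.zero SX_Rl) (K := 2) (J := [0,1,14]) (by decide +kernel) SX_b2_c (by decide +kernel)
noncomputable def SX_b3_S0 : List ℕ := [nat_lit 0x1, nat_lit 0x1, nat_lit 0x7000005000008008006, nat_lit 0x7000001000008000006]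
noncomputable def SX_b3_S : List (List ℕ) := [SX_b3_S0]
noncomputable def SX_b3_defs : List ℕ := [(nat_lit 0x20000000000000)]
noncomputable def SX_b3_recs : List ℕ := [(nat_lit 0x10000100001000000100001010000000000000000000000)]
noncomputable def SX_b3_L0 : List ℕ := [nat_lit 0x1000000000005000000000007000001, nat_lit 0x900000100000d000001000008000000]
noncomputable def SX_b3_L : List (List ℕ) := [SX_b3_L0]
noncomputable def SX_b3_V : List ℕ := [(nat_lit 0x100000000)]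
noncomputable def SX_b3_D : H26.Dag := ⟨[], [[0,0],
  [1,1],
  [2,2],
  [1,2,0,2]], [0,1], SX_b3_defs, SX_b3_recs⟩
theorem SX_b3_c : SX_b3_D.checkTab SX_b3_S 2 3 SX_b3_V SX_b3_L = true := by decide +kernel
theorem SX_b3 : Bound SX_Rl 3 8 :=
  bound_dag SX_b2 (K := 3) (J := [0,1,2,12]) (by decide +kernel) SX_b3_c (by decide +kernel)
noncomputable def SX_b7_S0 : List ℕ := [nat_lit 0x1, nat_lit 0x1, nat_lit 0x1, nat_lit 0x700000500000800c01c, nat_lit 0xb00000800600e, nat_lit 0xb00000100000800a012, nat_lit 0xb00000500000c00401c, nat_lit 0xf000009000008002014, nat_lit 0xf00000100001000c01a, nat_lit 0x13000010006010, nat_lit 0x1300000900000c004014, nat_lit 0x1300000100001400401a, nat_lit 0x1e000015000029000016, nat_lit 0x17000007000010002018, nat_lit 0x3600001e00001800c014, nat_lit 0x1b000018006010, nat_lit 0x1b000007000014004018, nat_lit 0x3600003200004100c01c, nat_lit 0x1f000029000041002014, nat_lit 0x1f00000b00001000c018, nat_lit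 0x1f000012000018002018, nat_lit 0x1f00001600001800c01a, nat_lit 0x23000020006010, nat_lit 0x2300001200001c004018, nat_lit 0x2300000b00001400a018, nat_lit 0x2300001600001c00401a, nat_lit 0x6200002a00002400a014, nat_lit 0x4a000065000069000016]
noncomputable def SX_b7_S : List (List ℕ) := [SX_b7_S0]
noncomputable def SX_b7_defs : List ℕ := [(nat_lit 0x6000020050000200600001005000010060000000500000004000000030000000000000)]
noncomputable def SX_b7_recs : List ℕ := [(nat_lit 0x10000800007020000800008000000600008030000400008040000600008060000700008000000500007040000500007030000300007020000600007010000600005040000400006060000500006020000500005040000300005010000400003000000400004020000200004060000300004000000300003020000100003010000200002000000100002040000100002010000100001020000000000010000000000000000000000)]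
noncomputable def SX_b7_L0 : List ℕ := [nat_lit 0x100000000000500000000000900000000000700000100000b00000200000f000003000013000004, nat_lit 0x1600000200000d00000100001e00000300001200000200000800000000001700000500001b000006, nat_lit 0x1500000100001900000200002a00000400000c00000000001100000100001f000007000023000008, nat_lit 0x2100000300003100000400001d00000100003600000500004e000007000026000004000010000000, nat_lit 0x2d000004000032000003000029000002000042000006000062000008000014000000000025000003, nat_lit 0x5600000700004500000600003900000500005200000700003500000300003e000006000018000001, nat_lit 0x6600000800004600000500004a00000700005e00000800004100000400001c00000100003d000005, nat_lit 0x5500000500006d00000800004900000600004d00000300005100000500005a000008000020000002, nat_lit 0x6500000600006e00000700006900000800006100000400005d000006000024000002000059000007]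
noncomputable def SX_b7_L : List (List ℕ) := [SX_b7_L0]
noncomputable def SX_b7_V : List ℕ := [(nat_lit 0x80000000700000006000000050000000400000003000000020000000100000000)]
noncomputable def SX_b7_D : H26.Dag := ⟨[0,1,2,4,3,6,5], [[0,0],
  [1,1],
  [2,2],
  [3,4],
  [4,3],
  [5,6],
  [6,5],
  [3,3,3],
  [5,5,5],
  [3,0,3,0],
  [6,2,3,2],
  [1,2,0,2],
  [6,4,5,3],
  [6,0,5,0],
  [4,1,3,1]], [0,1,2], SX_b7_defs, SX_b7_recs⟩
theorem SX_b7_c : SX_b7_D.checkTab SX_b7_S 9 7 SX_b7_V SX_b7_L = true := by decide +kernel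
theorem SX_b7 : Bound SX_Rl 7 72 :=
  bound_dag SX_b3 (K := 7) (J := [0,1,2,3,4,5,6,8,9,10,11,12,13,15,16]) (by decide +kernel) SX_b7_c (by decide +kernel)
noncomputable def SX_b8_S0 : List ℕ := [nat_lit 0x1, nat_lit 0x1, nat_lit 0x1, nat_lit 0x1, nat_lit 0x1, nat_lit 0x1700001300000f00000b00000700000d000001000008014020, nat_lit 0xf00000b00001500001700c014, nat_lit 0x1a000018000000, nat_lit 0x1a00001300000e, nat_lit 0x1d00002100001e008022, nat_lit 0xb000007000001000008008022, nat_lit 0x2900000b000000, nat_lit 0x29000010000006, nat_lit 0x31000015004010, nat_lit 0x7000005000008008024, nat_lit 0x3100003900003200c01e, nat_lit 0x1600003900001500401e, nat_lit 0x2300001f00001b00003900000700001100000500000801c026, nat_lit 0x1b000045008012, nat_lit 0x4600002d00004500401c, nat_lit 0x4a00004d00004900401c, nat_lit 0x2f00002b00002700004d00004600000700000100000e00000100000900000e00000100000800002d00003200001e000041024028, nat_lit 0x1b00001500005500201a,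 nat_lit 0x1600002d00000700000100000e00000100000500001200000800002d00003200001e00005500002f00002b00002700004d044028, nat_lit 0x4a00005d000035004016, nat_lit 0x4500005d000016002016, nat_lit 0x2400005d00001d000061004018, nat_lit 0x69000024000002, nat_lit 0x6900001f00000e, nat_lit 0x6d00007100006e00c024, nat_lit 0x2700006d00005a00401e, nat_lit 0x5900004a00002800801a, nat_lit 0x7d000056004012, nat_lit 0x2700005d00008100a016, nat_lit 0x1e00008100002c00001c, nat_lit 0x8200003500008a00401a, nat_lit 0x8d000027006010, nat_lit 0x8d00008500007d00a016, nat_lit 0x3300002c00008d00002c00008900002100001e00001600002d00006500003200001e00002500001d00003600001d00003d024028, nat_lit 0x8900009900a012, nat_lit 0x1b00003200009900c01a, nat_lit 0x5600003500009900201a, nat_lit 0x5600001d00009900c01c, nat_lit 0x8900002100003d00009900003300007a00007e000034016026, nat_lit 0x9a0000610000a2002016]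
noncomputable def SX_b8_S : List (List ℕ) := [SX_b8_S0]
noncomputable def SX_b8_defs : List ℕ := [(nat_lit 0x7000090070000a0000000900400008001000070070000600500001000000040070000300300002000000010070000000000000)]
noncomputable def SX_b8_recs : List ℕ := [(nat_lit 0x20000c0000c010000c0000a000000c0000b040000c0000b030000c00006060000c0000a06000030000c020000b0000a04000080000a040000a00009060000a0000302000090000905000050000905000090000b010000b00009070000800008070000600006010000800006ff0000600007020000100001020000300006020000800005040000b0000606000050000b000000600006000000800008050000800006050000100008010000500005010000300003010000100001030000500003030000300001000000100001ff0000100002070000500005070000300003000000500003ff0000400003030000100005050000000000030000000000020000000000010000000000000000000000)]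
noncomputable def SX_b8_L0 : List ℕ := [nat_lit 0x100000000000500000000000900000000000d00000000000e000000000011000000000012000000000007000001, nat_lit 0x2d00000100003900000100006500000100003100000200001600000300001b000004000046000005000008000000, nat_lit 0x1d00000300003d00000200006200000400003500000300003200000100009a000009000089000007000021000002, nat_lit 0x1e00000200004100000300005d000005000015000001000036000002000056000008000082000006000025000003, nat_lit 0x5100000400006d0000050000610000020000a100000900005900000800004900000500001c000001000071000004, nat_lit 0x4d00000500006e00000400005e00000300009200000700002700000600004500000100004a000004000075000005, nat_lit 0x2b00000700007900000800008500000600002800000500008d00000700008100000300007e000008000033000009, nat_lit 0x2c0000060000ad00000900009500000800008e00000600009100000500008a00000200009d00000900002f000008, nat_lit 0xa900000900007a00000600009600000700005a0000040000a500000900007d000006000055000003000030000007,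 nat_lit 0xaa0000080000ae0000070000b10000090000a60000080000a200000400009e000007000099000002000034000006]
noncomputable def SX_b8_L : List (List ℕ) := [SX_b8_L0]
noncomputable def SX_b8_V : List ℕ := [(nat_lit 0xc0000000b0000000a00000009000000080000000600000005000000030000000100000000)]
noncomputable def SX_b8_D : H26.Dag := ⟨[0,1,2,4,3,6,5,7], [[0,0],
  [1,1],
  [2,2],
  [3,4],
  [4,3],
  [5,6],
  [6,5],
  [7,7],
  [3,3,3],
  [5,5,5],
  [3,0,3,0],
  [6,2,3,2],
  [1,2,0,2],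
  [6,4,5,3],
  [6,0,5,0],
  [4,1,3,1],
  [7,0,3,7,0,3,7,0,3],
  [7,0,7,0],
  [1,7,1,7],
  [1,5,7,1,5,7,1,5,7],
  [0,4,0,7,6,0,4,0,7,6,1,0,4,0,7,0,4,2]], [0,1,2,3,4,5,6], SX_b8_defs, SX_b8_recs⟩
theorem SX_b8_c : SX_b8_D.checkTab SX_b8_S 10 8 SX_b8_V SX_b8_L = true := by decide +kernel
theorem SX_b8 : Bound SX_Rl 8 720 :=
  bound_dag SX_b7 (K := 8) (J := [0,1,2,3,4,5,6,7,8,9,10,11,12,13,15,16,17,18,19,20,21]) (by decide +kernel) SX_b8_c (by decide +kernel)
theorem SX_P : PModel (nat_lit 6) (nat_lit 3) (nat_lit 7) (nat_lit 181896) SX_cs SX_Rl SX_L 720 :=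
  ⟨PkOK.of (by decide +kernel), by decide +kernel, by decide +kernel, SX_b8, ⟨SX_WW, by decide +kernel⟩,
    ⟨fun c => Nat.mod c (nat_lit 15334), by decide +kernel⟩⟩
noncomputable def SX_soc_t0 : ST := (.node (nat_lit 32277) (.node (nat_lit 16924) (.node (nat_lit 8170) (.node (nat_lit 4063) (.node (nat_lit 2160) (.node (nat_lit 624) (.node (nat_lit 248) (.node (nat_lit 134) (.node (nat_lit 98) (.leaf (nat_lit 8)) (.leaf (nat_lit 169))) (.node (nat_lit 137) (.leaf (nat_lit 55)) (.node (nat_lit 177) (.leaf (nat_lit 128)) (.leaf (nat_lit 447))))) (.node (nat_lit 429) (.node (nat_lit 304) (.leaf (nat_lit 289)) (.leaf (nat_lit 49))) (.node (nat_lit 586) (.leaf (nat_lit 295)) (.node (nat_lit 588) (.leaf (nat_lit 175)) (.leaf (nat_lit 169)))))) (.node (nat_lit 1292) (.node (nat_lit 811) (.node (nat_lit 625) (.leaf (nat_lit 55)) (.leaf (nat_lit 8))) (.node (nat_lit 919) (.leaf (nat_lit 447)) (.node (nat_lit 1281) (.leaf (nat_lit 295))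 (.leaf (nat_lit 0))))) (.node (nat_lit 1726) (.node (nat_lit 1301) (.leaf (nat_lit 175)) (.node (nat_lit 1607) (.leaf (nat_lit 447)) (.leaf (nat_lit 128)))) (.node (nat_lit 1895) (.leaf (nat_lit 49)) (.node (nat_lit 1940) (.leaf (nat_lit 121)) (.leaf (nat_lit 55))))))) (.node (nat_lit 2795) (.node (nat_lit 2641) (.node (nat_lit 2382) (.node (nat_lit 2161) (.leaf (nat_lit 687)) (.leaf (nat_lit 64))) (.node (nat_lit 2549) (.leaf (nat_lit 55)) (.node (nat_lit 2603) (.leaf (nat_lit 567)) (.leaf (nat_lit 8))))) (.node (nat_lit 2698) (.node (nat_lit 2643) (.leaf (nat_lit 295)) (.leaf (nat_lit 539))) (.node (nat_lit 2706) (.leaf (nat_lit 289)) (.node (nat_lit 2766) (.leaf (nat_lit 49)) (.leaf (nat_lit 295)))))) (.node (nat_lit 3410) (.node (nat_lit 3093) (.node (nat_lit 2872) (.leaf (nat_lit 59)) (.leaf (nat_lit 55))) (.node (nat_lit 3120) (.leaf (nat_lit 8)) (.node (nat_lit 3348) (.leaf (nat_lit 544)) (.leaf (nat_lit 0))))) (.node (nat_lit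 3573) (.node (nat_lit 3462) (.leaf (nat_lit 55)) (.node (nat_lit 3495) (.leaf (nat_lit 193)) (.leaf (nat_lit 121)))) (.node (nat_lit 3746) (.leaf (nat_lit 55)) (.node (nat_lit 4055) (.leaf (nat_lit 295)) (.leaf (nat_lit 8)))))))) (.node (nat_lit 6311) (.node (nat_lit 4623) (.node (nat_lit 4383) (.node (nat_lit 4120) (.node (nat_lit 4107) (.leaf (nat_lit 55)) (.leaf (nat_lit 659))) (.node (nat_lit 4204) (.leaf (nat_lit 687)) (.node (nat_lit 4345) (.leaf (nat_lit 424)) (.leaf (nat_lit 121))))) (.node (nat_lit 4394) (.node (nat_lit 4392) (.leaf (nat_lit 653)) (.leaf (nat_lit 175))) (.node (nat_lit 4545) (.leaf (nat_lit 289)) (.node (nat_lit 4556) (.leaf (nat_lit 8)) (.leaf (nat_lit 122)))))) (.node (nat_lit 5466) (.node (nat_lit 5091) (.node (nat_lit 4629) (.leaf (nat_lit 242)) (.leaf (nat_lit 299))) (.node (nat_lit 5240) (.leaf (nat_lit 295)) (.node (nat_lit 5455) (.leaf (nat_lit 169)) (.leaf (nat_lit 121))))) (.node (nat_lit 5821)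 (.node (nat_lit 5519) (.leaf (nat_lit 8)) (.node (nat_lit 5730) (.leaf (nat_lit 544)) (.leaf (nat_lit 169)))) (.node (nat_lit 6080) (.leaf (nat_lit 55)) (.node (nat_lit 6158) (.leaf (nat_lit 289)) (.leaf (nat_lit 481))))))) (.node (nat_lit 7457) (.node (nat_lit 6844) (.node (nat_lit 6446) (.node (nat_lit 6319) (.leaf (nat_lit 55)) (.leaf (nat_lit 447))) (.node (nat_lit 6517) (.leaf (nat_lit 8)) (.node (nat_lit 6576) (.leaf (nat_lit 567)) (.leaf (nat_lit 49))))) (.node (nat_lit 7276) (.node (nat_lit 6965) (.leaf (nat_lit 289)) (.node (nat_lit 7046) (.leaf (nat_lit 175)) (.leaf (nat_lit 447)))) (.node (nat_lit 7343) (.leaf (nat_lit 169)) (.node (nat_lit 7424) (.leaf (nat_lit 687)) (.leaf (nat_lit 128)))))) (.node (nat_lit 7650) (.node (nat_lit 7497) (.node (nat_lit 7488) (.leaf (nat_lit 169)) (.leaf (nat_lit 467))) (.node (nat_lit 7507) (.leaf (nat_lit 567)) (.node (nat_lit 7538) (.leaf (nat_lit 494)) (.leaf (nat_lit 49))))) (.node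 (nat_lit 7986) (.node (nat_lit 7789) (.leaf (nat_lit 413)) (.node (nat_lit 7833) (.leaf (nat_lit 447)) (.leaf (nat_lit 687)))) (.node (nat_lit 8026) (.leaf (nat_lit 128)) (.node (nat_lit 8046) (.leaf (nat_lit 447)) (.leaf (nat_lit 49))))))))) (.node (nat_lit 13560) (.node (nat_lit 10982) (.node (nat_lit 9150) (.node (nat_lit 8651) (.node (nat_lit 8435) (.node (nat_lit 8404) (.leaf (nat_lit 447)) (.leaf (nat_lit 128))) (.node (nat_lit 8437) (.leaf (nat_lit 175)) (.node (nat_lit 8530) (.leaf (nat_lit 169)) (.leaf (nat_lit 289))))) (.node (nat_lit 8784) (.node (nat_lit 8746) (.leaf (nat_lit 175)) (.leaf (nat_lit 169))) (.node (nat_lit 8888) (.leaf (nat_lit 707)) (.node (nat_lit 8946) (.leaf (nat_lit 175)) (.leaf (nat_lit 681)))))) (.node (nat_lit 10121) (.node (nat_lit 9753) (.node (nat_lit 9299) (.leaf (nat_lit 447)) (.leaf (nat_lit 55))) (.node (nat_lit 9867) (.leaf (nat_lit 122)) (.node (nat_lit 9988) (.leaf (nat_lit 8)) (.leaf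 (nat_lit 49))))) (.node (nat_lit 10243) (.node (nat_lit 10125) (.leaf (nat_lit 175)) (.node (nat_lit 10239) (.leaf (nat_lit 295)) (.leaf (nat_lit 169)))) (.node (nat_lit 10644) (.leaf (nat_lit 122)) (.node (nat_lit 10942) (.leaf (nat_lit 59)) (.leaf (nat_lit 8))))))) (.node (nat_lit 11948) (.node (nat_lit 11344) (.node (nat_lit 11072) (.node (nat_lit 10993) (.leaf (nat_lit 228)) (.leaf (nat_lit 481))) (.node (nat_lit 11178) (.leaf (nat_lit 49)) (.node (nat_lit 11259) (.leaf (nat_lit 121)) (.leaf (nat_lit 55))))) (.node (nat_lit 11595) (.node (nat_lit 11377) (.leaf (nat_lit 121)) (.node (nat_lit 11417) (.leaf (nat_lit 175)) (.leaf (nat_lit 494)))) (.node (nat_lit 11687) (.leaf (nat_lit 295)) (.node (nat_lit 11827) (.leaf (nat_lit 2)) (.leaf (nat_lit 8)))))) (.node (nat_lit 12550) (.node (nat_lit 12158) (.node (nat_lit 12090) (.leaf (nat_lit 49)) (.leaf (nat_lit 169))) (.node (nat_lit 12199) (.leaf (nat_lit 121)) (.node (nat_lit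 12542) (.leaf (nat_lit 169)) (.leaf (nat_lit 49))))) (.node (nat_lit 13069) (.node (nat_lit 12814) (.leaf (nat_lit 419)) (.node (nat_lit 12847) (.leaf (nat_lit 121)) (.leaf (nat_lit 175)))) (.node (nat_lit 13306) (.leaf (nat_lit 59)) (.node (nat_lit 13443) (.leaf (nat_lit 8)) (.leaf (nat_lit 481)))))))) (.node (nat_lit 15306) (.node (nat_lit 14416) (.node (nat_lit 14142) (.node (nat_lit 13830) (.node (nat_lit 13805) (.leaf (nat_lit 169)) (.leaf (nat_lit 8))) (.node (nat_lit 13876) (.leaf (nat_lit 121)) (.node (nat_lit 13908) (.leaf (nat_lit 567)) (.leaf (nat_lit 49))))) (.node (nat_lit 14168) (.node (nat_lit 14155) (.leaf (nat_lit 293)) (.leaf (nat_lit 567))) (.node (nat_lit 14208) (.leaf (nat_lit 447)) (.node (nat_lit 14277) (.leaf (nat_lit 553)) (.leaf (nat_lit 8)))))) (.node (nat_lit 14702) (.node (nat_lit 14484) (.node (nat_lit 14444) (.leaf (nat_lit 49)) (.leaf (nat_lit 59))) (.node (nat_lit 14497) (.leaf (nat_lit 49)) (.node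 (nat_lit 14617) (.leaf (nat_lit 242)) (.leaf (nat_lit 128))))) (.node (nat_lit 15125) (.node (nat_lit 14889) (.leaf (nat_lit 687)) (.node (nat_lit 14895) (.leaf (nat_lit 544)) (.leaf (nat_lit 447)))) (.node (nat_lit 15148) (.leaf (nat_lit 169)) (.node (nat_lit 15179) (.leaf (nat_lit 447)) (.leaf (nat_lit 128))))))) (.node (nat_lit 16019) (.node (nat_lit 15597) (.node (nat_lit 15365) (.node (nat_lit 15346) (.leaf (nat_lit 169)) (.leaf (nat_lit 567))) (.node (nat_lit 15385) (.leaf (nat_lit 467)) (.node (nat_lit 15405) (.leaf (nat_lit 447)) (.leaf (nat_lit 49))))) (.node (nat_lit 15796) (.node (nat_lit 15682) (.leaf (nat_lit 128)) (.node (nat_lit 15747) (.leaf (nat_lit 687)) (.leaf (nat_lit 8)))) (.node (nat_lit 15846) (.leaf (nat_lit 169)) (.node (nat_lit 15980) (.leaf (nat_lit 544)) (.leaf (nat_lit 14)))))) (.node (nat_lit 16340) (.node (nat_lit 16132) (.node (nat_lit 16105) (.leaf (nat_lit 447)) (.leaf (nat_lit 169))) (.node (nat_lit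 16159) (.leaf (nat_lit 299)) (.node (nat_lit 16323) (.leaf (nat_lit 128)) (.leaf (nat_lit 8))))) (.node (nat_lit 16737) (.node (nat_lit 16444) (.leaf (nat_lit 55)) (.node (nat_lit 16622) (.leaf (nat_lit 49)) (.leaf (nat_lit 73)))) (.node (nat_lit 16830) (.leaf (nat_lit 175)) (.node (nat_lit 16866) (.leaf (nat_lit 55)) (.leaf (nat_lit 49)))))))))) (.node (nat_lit 25988) (.node (nat_lit 21408) (.node (nat_lit 19341) (.node (nat_lit 18618) (.node (nat_lit 18088) (.node (nat_lit 17593) (.node (nat_lit 17288) (.leaf (nat_lit 553)) (.leaf (nat_lit 0))) (.node (nat_lit 17802) (.leaf (nat_lit 121)) (.node (nat_lit 18028) (.leaf (nat_lit 8)) (.leaf (nat_lit 481))))) (.node (nat_lit 18404) (.node (nat_lit 18301) (.leaf (nat_lit 169)) (.leaf (nat_lit 8))) (.node (nat_lit 18556) (.leaf (nat_lit 49)) (.node (nat_lit 18588) (.leaf (nat_lit 8)) (.leaf (nat_lit 55)))))) (.node (nat_lit 19043) (.node (nat_lit 18773) (.node (nat_lit 18670) (.leaf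 (nat_lit 122)) (.leaf (nat_lit 59))) (.node (nat_lit 18851) (.leaf (nat_lit 8)) (.node (nat_lit 18912) (.leaf (nat_lit 242)) (.leaf (nat_lit 49))))) (.node (nat_lit 19150) (.node (nat_lit 19063) (.leaf (nat_lit 533)) (.node (nat_lit 19078) (.leaf (nat_lit 121)) (.leaf (nat_lit 55)))) (.node (nat_lit 19160) (.leaf (nat_lit 0)) (.node (nat_lit 19226) (.leaf (nat_lit 193)) (.leaf (nat_lit 175))))))) (.node (nat_lit 20243) (.node (nat_lit 19875) (.node (nat_lit 19598) (.node (nat_lit 19558) (.leaf (nat_lit 242)) (.leaf (nat_lit 169))) (.node (nat_lit 19762) (.leaf (nat_lit 122)) (.node (nat_lit 19779) (.leaf (nat_lit 8)) (.leaf (nat_lit 55))))) (.node (nat_lit 20206) (.node (nat_lit 19901) (.leaf (nat_lit 687)) (.node (nat_lit 19939) (.leaf (nat_lit 49)) (.leaf (nat_lit 169)))) (.node (nat_lit 20218) (.leaf (nat_lit 175)) (.node (nat_lit 20238) (.leaf (nat_lit 122)) (.leaf (nat_lit 427)))))) (.node (nat_lit 20831) (.node (nat_lit 20341)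 (.node (nat_lit 20269) (.leaf (nat_lit 8)) (.leaf (nat_lit 55))) (.node (nat_lit 20365) (.leaf (nat_lit 567)) (.node (nat_lit 20708) (.leaf (nat_lit 687)) (.leaf (nat_lit 122))))) (.node (nat_lit 21194) (.node (nat_lit 20919) (.leaf (nat_lit 567)) (.node (nat_lit 21155) (.leaf (nat_lit 169)) (.leaf (nat_lit 8)))) (.node (nat_lit 21362) (.leaf (nat_lit 169)) (.node (nat_lit 21366) (.leaf (nat_lit 49)) (.leaf (nat_lit 248)))))))) (.node (nat_lit 23616) (.node (nat_lit 22447) (.node (nat_lit 22027) (.node (nat_lit 21467) (.node (nat_lit 21428) (.leaf (nat_lit 193)) (.leaf (nat_lit 169))) (.node (nat_lit 21528) (.leaf (nat_lit 248)) (.node (nat_lit 21888) (.leaf (nat_lit 687)) (.leaf (nat_lit 0))))) (.node (nat_lit 22174) (.node (nat_lit 22126) (.leaf (nat_lit 55)) (.leaf (nat_lit 8))) (.node (nat_lit 22265) (.leaf (nat_lit 169)) (.node (nat_lit 22332) (.leaf (nat_lit 49)) (.leaf (nat_lit 175)))))) (.node (nat_lit 22663) (.node (nat_lit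 22551) (.node (nat_lit 22517) (.leaf (nat_lit 248)) (.leaf (nat_lit 55))) (.node (nat_lit 22625) (.leaf (nat_lit 687)) (.node (nat_lit 22636) (.leaf (nat_lit 8)) (.leaf (nat_lit 49))))) (.node (nat_lit 23070) (.node (nat_lit 22986) (.leaf (nat_lit 175)) (.node (nat_lit 23041) (.leaf (nat_lit 55)) (.leaf (nat_lit 687)))) (.node (nat_lit 23106) (.leaf (nat_lit 0)) (.node (nat_lit 23153) (.leaf (nat_lit 8)) (.leaf (nat_lit 175))))))) (.node (nat_lit 24956) (.node (nat_lit 24225) (.node (nat_lit 23795) (.node (nat_lit 23780) (.leaf (nat_lit 49)) (.leaf (nat_lit 567))) (.node (nat_lit 24050) (.leaf (nat_lit 289)) (.node (nat_lit 24094) (.leaf (nat_lit 0)) (.leaf (nat_lit 122))))) (.node (nat_lit 24633) (.node (nat_lit 24270) (.leaf (nat_lit 49)) (.node (nat_lit 24349) (.leaf (nat_lit 567)) (.leaf (nat_lit 175)))) (.node (nat_lit 24775) (.leaf (nat_lit 447)) (.node (nat_lit 24839) (.leaf (nat_lit 289)) (.leaf (nat_lit 175)))))) (.node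 (nat_lit 25613) (.node (nat_lit 25114) (.node (nat_lit 25037) (.leaf (nat_lit 295)) (.leaf (nat_lit 687))) (.node (nat_lit 25318) (.leaf (nat_lit 175)) (.node (nat_lit 25565) (.leaf (nat_lit 0)) (.leaf (nat_lit 8))))) (.node (nat_lit 25823) (.node (nat_lit 25651) (.leaf (nat_lit 447)) (.node (nat_lit 25707) (.leaf (nat_lit 8)) (.leaf (nat_lit 687)))) (.node (nat_lit 25902) (.leaf (nat_lit 295)) (.node (nat_lit 25977) (.leaf (nat_lit 289)) (.leaf (nat_lit 122))))))))) (.node (nat_lit 28818) (.node (nat_lit 27608) (.node (nat_lit 26584) (.node (nat_lit 26313) (.node (nat_lit 26192) (.node (nat_lit 26075) (.leaf (nat_lit 169)) (.leaf (nat_lit 567))) (.node (nat_lit 26197) (.leaf (nat_lit 553)) (.node (nat_lit 26298) (.leaf (nat_lit 687)) (.leaf (nat_lit 0))))) (.node (nat_lit 26525) (.node (nat_lit 26507) (.leaf (nat_lit 295)) (.leaf (nat_lit 687))) (.node (nat_lit 26545) (.leaf (nat_lit 248)) (.node (nat_lit 26556) (.leaf (nat_lit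 8)) (.leaf (nat_lit 55)))))) (.node (nat_lit 27055) (.node (nat_lit 26691) (.node (nat_lit 26622) (.leaf (nat_lit 175)) (.leaf (nat_lit 8))) (.node (nat_lit 26761) (.leaf (nat_lit 481)) (.node (nat_lit 26916) (.leaf (nat_lit 49)) (.leaf (nat_lit 295))))) (.node (nat_lit 27505) (.node (nat_lit 27447) (.leaf (nat_lit 567)) (.node (nat_lit 27480) (.leaf (nat_lit 122)) (.leaf (nat_lit 0)))) (.node (nat_lit 27575) (.leaf (nat_lit 248)) (.node (nat_lit 27602) (.leaf (nat_lit 567)) (.leaf (nat_lit 8))))))) (.node (nat_lit 28181) (.node (nat_lit 27941) (.node (nat_lit 27807) (.node (nat_lit 27646) (.leaf (nat_lit 169)) (.leaf (nat_lit 49))) (.node (nat_lit 27838) (.leaf (nat_lit 169)) (.node (nat_lit 27919) (.leaf (nat_lit 175)) (.leaf (nat_lit 447))))) (.node (nat_lit 28098) (.node (nat_lit 27970) (.leaf (nat_lit 289)) (.node (nat_lit 28026) (.leaf (nat_lit 0)) (.leaf (nat_lit 55)))) (.node (nat_lit 28100) (.leaf (nat_lit 169)) (.node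 (nat_lit 28161) (.leaf (nat_lit 55)) (.leaf (nat_lit 481)))))) (.node (nat_lit 28557) (.node (nat_lit 28409) (.node (nat_lit 28205) (.leaf (nat_lit 567)) (.leaf (nat_lit 295))) (.node (nat_lit 28468) (.leaf (nat_lit 447)) (.node (nat_lit 28474) (.leaf (nat_lit 193)) (.leaf (nat_lit 295))))) (.node (nat_lit 28695) (.node (nat_lit 28620) (.leaf (nat_lit 122)) (.node (nat_lit 28626) (.leaf (nat_lit 228)) (.leaf (nat_lit 49)))) (.node (nat_lit 28721) (.leaf (nat_lit 295)) (.node (nat_lit 28787) (.leaf (nat_lit 49)) (.leaf (nat_lit 169)))))))) (.node (nat_lit 30064) (.node (nat_lit 29627) (.node (nat_lit 29328) (.node (nat_lit 28921) (.node (nat_lit 28838) (.leaf (nat_lit 175)) (.leaf (nat_lit 2))) (.node (nat_lit 29154) (.leaf (nat_lit 289)) (.node (nat_lit 29210) (.leaf (nat_lit 55)) (.leaf (nat_lit 447))))) (.node (nat_lit 29467) (.node (nat_lit 29335) (.leaf (nat_lit 2)) (.leaf (nat_lit 128))) (.node (nat_lit 29574) (.leaf (nat_lit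 0)) (.node (nat_lit 29622) (.leaf (nat_lit 567)) (.leaf (nat_lit 121)))))) (.node (nat_lit 29897) (.node (nat_lit 29651) (.node (nat_lit 29631) (.leaf (nat_lit 289)) (.leaf (nat_lit 419))) (.node (nat_lit 29700) (.leaf (nat_lit 567)) (.node (nat_lit 29728) (.leaf (nat_lit 447)) (.leaf (nat_lit 0))))) (.node (nat_lit 29964) (.node (nat_lit 29906) (.leaf (nat_lit 128)) (.node (nat_lit 29957) (.leaf (nat_lit 553)) (.leaf (nat_lit 0)))) (.node (nat_lit 30060) (.leaf (nat_lit 242)) (.node (nat_lit 30061) (.leaf (nat_lit 55)) (.leaf (nat_lit 8))))))) (.node (nat_lit 31125) (.node (nat_lit 30944) (.node (nat_lit 30348) (.node (nat_lit 30218) (.leaf (nat_lit 567)) (.leaf (nat_lit 0))) (.node (nat_lit 30524) (.leaf (nat_lit 55)) (.node (nat_lit 30607) (.leaf (nat_lit 567)) (.leaf (nat_lit 289))))) (.node (nat_lit 31041) (.node (nat_lit 30963) (.leaf (nat_lit 242)) (.node (nat_lit 31014) (.leaf (nat_lit 248)) (.leaf (nat_lit 567)))) (.node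 (nat_lit 31085) (.leaf (nat_lit 8)) (.node (nat_lit 31086) (.leaf (nat_lit 49)) (.leaf (nat_lit 2)))))) (.node (nat_lit 31715) (.node (nat_lit 31295) (.node (nat_lit 31161) (.leaf (nat_lit 413)) (.leaf (nat_lit 293))) (.node (nat_lit 31576) (.leaf (nat_lit 128)) (.node (nat_lit 31711) (.leaf (nat_lit 2)) (.leaf (nat_lit 447))))) (.node (nat_lit 31992) (.node (nat_lit 31847) (.leaf (nat_lit 0)) (.node (nat_lit 31857) (.leaf (nat_lit 374)) (.leaf (nat_lit 128)))) (.node (nat_lit 32065) (.leaf (nat_lit 447)) (.node (nat_lit 32205) (.leaf (nat_lit 49)) (.leaf (nat_lit 0))))))))))) (.node (nat_lit 48812) (.node (nat_lit 40315) (.node (nat_lit 35986) (.node (nat_lit 34356) (.node (nat_lit 33122) (.node (nat_lit 32591) (.node (nat_lit 32396) (.node (nat_lit 32315) (.leaf (nat_lit 2)) (.leaf (nat_lit 295))) (.node (nat_lit 32473) (.leaf (nat_lit 687)) (.node (nat_lit 32510) (.leaf (nat_lit 175)) (.leaf (nat_lit 55))))) (.node (nat_lit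 32846) (.node (nat_lit 32758) (.leaf (nat_lit 567)) (.leaf (nat_lit 2))) (.node (nat_lit 33016) (.leaf (nat_lit 55)) (.node (nat_lit 33022) (.leaf (nat_lit 289)) (.leaf (nat_lit 121)))))) (.node (nat_lit 33483) (.node (nat_lit 33336) (.node (nat_lit 33255) (.leaf (nat_lit 49)) (.leaf (nat_lit 121))) (.node (nat_lit 33434) (.leaf (nat_lit 55)) (.node (nat_lit 33462) (.leaf (nat_lit 567)) (.leaf (nat_lit 447))))) (.node (nat_lit 33738) (.node (nat_lit 33506) (.leaf (nat_lit 707)) (.node (nat_lit 33571) (.leaf (nat_lit 289)) (.leaf (nat_lit 567)))) (.node (nat_lit 33915) (.leaf (nat_lit 2)) (.node (nat_lit 34037) (.leaf (nat_lit 55)) (.leaf (nat_lit 295))))))) (.node (nat_lit 35417) (.node (nat_lit 34765) (.node (nat_lit 34525) (.node (nat_lit 34433) (.leaf (nat_lit 687)) (.leaf (nat_lit 175))) (.node (nat_lit 34527) (.leaf (nat_lit 2)) (.node (nat_lit 34758) (.leaf (nat_lit 295)) (.leaf (nat_lit 55))))) (.node (nat_lit 35006) (.node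 (nat_lit 34904) (.leaf (nat_lit 295)) (.leaf (nat_lit 567))) (.node (nat_lit 35197) (.leaf (nat_lit 2)) (.node (nat_lit 35278) (.leaf (nat_lit 175)) (.leaf (nat_lit 447)))))) (.node (nat_lit 35562) (.node (nat_lit 35459) (.node (nat_lit 35426) (.leaf (nat_lit 121)) (.leaf (nat_lit 122))) (.node (nat_lit 35503) (.leaf (nat_lit 55)) (.node (nat_lit 35540) (.leaf (nat_lit 659)) (.leaf (nat_lit 567))))) (.node (nat_lit 35875) (.node (nat_lit 35581) (.leaf (nat_lit 347)) (.node (nat_lit 35705) (.leaf (nat_lit 49)) (.leaf (nat_lit 121)))) (.node (nat_lit 35912) (.leaf (nat_lit 55)) (.node (nat_lit 35916) (.leaf (nat_lit 169)) (.leaf (nat_lit 122)))))))) (.node (nat_lit 37707) (.node (nat_lit 36907) (.node (nat_lit 36395) (.node (nat_lit 36185) (.node (nat_lit 35993) (.leaf (nat_lit 2)) (.leaf (nat_lit 427))) (.node (nat_lit 36228) (.leaf (nat_lit 248)) (.node (nat_lit 36258) (.leaf (nat_lit 55)) (.leaf (nat_lit 447))))) (.node (nat_lit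 36569) (.node (nat_lit 36561) (.leaf (nat_lit 567)) (.leaf (nat_lit 49))) (.node (nat_lit 36667) (.leaf (nat_lit 447)) (.node (nat_lit 36826) (.leaf (nat_lit 175)) (.leaf (nat_lit 0)))))) (.node (nat_lit 37354) (.node (nat_lit 37070) (.node (nat_lit 36981) (.leaf (nat_lit 424)) (.leaf (nat_lit 128))) (.node (nat_lit 37168) (.leaf (nat_lit 553)) (.node (nat_lit 37323) (.leaf (nat_lit 2)) (.leaf (nat_lit 242))))) (.node (nat_lit 37500) (.node (nat_lit 37377) (.leaf (nat_lit 49)) (.node (nat_lit 37480) (.leaf (nat_lit 121)) (.leaf (nat_lit 419)))) (.node (nat_lit 37549) (.leaf (nat_lit 567)) (.node (nat_lit 37658) (.leaf (nat_lit 447)) (.leaf (nat_lit 2))))))) (.node (nat_lit 39335) (.node (nat_lit 38498) (.node (nat_lit 37872) (.node (nat_lit 37806) (.leaf (nat_lit 55)) (.leaf (nat_lit 0))) (.node (nat_lit 37909) (.leaf (nat_lit 169)) (.node (nat_lit 38272) (.leaf (nat_lit 55)) (.leaf (nat_lit 175))))) (.node (nat_lit 39074) (.node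 (nat_lit 38562) (.leaf (nat_lit 567)) (.node (nat_lit 38793) (.leaf (nat_lit 295)) (.leaf (nat_lit 242)))) (.node (nat_lit 39252) (.leaf (nat_lit 0)) (.node (nat_lit 39314) (.leaf (nat_lit 175)) (.leaf (nat_lit 49)))))) (.node (nat_lit 39933) (.node (nat_lit 39416) (.node (nat_lit 39375) (.leaf (nat_lit 567)) (.leaf (nat_lit 659))) (.node (nat_lit 39869) (.leaf (nat_lit 2)) (.node (nat_lit 39906) (.leaf (nat_lit 55)) (.leaf (nat_lit 2))))) (.node (nat_lit 40105) (.node (nat_lit 39950) (.leaf (nat_lit 419)) (.node (nat_lit 40054) (.leaf (nat_lit 567)) (.leaf (nat_lit 0)))) (.node (nat_lit 40117) (.leaf (nat_lit 481)) (.node (nat_lit 40157) (.leaf (nat_lit 2)) (.leaf (nat_lit 55))))))))) (.node (nat_lit 44908) (.node (nat_lit 42864) (.node (nat_lit 41884) (.node (nat_lit 41361) (.node (nat_lit 40616) (.node (nat_lit 40536) (.leaf (nat_lit 567)) (.leaf (nat_lit 347))) (.node (nat_lit 40810) (.leaf (nat_lit 2)) (.node (nat_lit 41243)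 (.leaf (nat_lit 295)) (.leaf (nat_lit 248))))) (.node (nat_lit 41587) (.node (nat_lit 41420) (.leaf (nat_lit 122)) (.leaf (nat_lit 567))) (.node (nat_lit 41675) (.leaf (nat_lit 2)) (.node (nat_lit 41829) (.leaf (nat_lit 122)) (.leaf (nat_lit 55)))))) (.node (nat_lit 42284) (.node (nat_lit 41966) (.node (nat_lit 41890) (.leaf (nat_lit 2)) (.leaf (nat_lit 553))) (.node (nat_lit 42117) (.leaf (nat_lit 64)) (.node (nat_lit 42165) (.leaf (nat_lit 55)) (.leaf (nat_lit 122))))) (.node (nat_lit 42418) (.node (nat_lit 42326) (.leaf (nat_lit 567)) (.node (nat_lit 42365) (.leaf (nat_lit 169)) (.leaf (nat_lit 2)))) (.node (nat_lit 42555) (.leaf (nat_lit 567)) (.node (nat_lit 42849) (.leaf (nat_lit 481)) (.leaf (nat_lit 447))))))) (.node (nat_lit 44080) (.node (nat_lit 43339) (.node (nat_lit 43127) (.node (nat_lit 43100) (.leaf (nat_lit 2)) (.leaf (nat_lit 121))) (.node (nat_lit 43203) (.leaf (nat_lit 447)) (.node (nat_lit 43266) (.leaf (nat_lit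 248)) (.leaf (nat_lit 121))))) (.node (nat_lit 43835) (.node (nat_lit 43796) (.leaf (nat_lit 447)) (.node (nat_lit 43816) (.leaf (nat_lit 169)) (.leaf (nat_lit 55)))) (.node (nat_lit 43938) (.leaf (nat_lit 2)) (.node (nat_lit 44077) (.leaf (nat_lit 658)) (.leaf (nat_lit 55)))))) (.node (nat_lit 44418) (.node (nat_lit 44166) (.node (nat_lit 44104) (.leaf (nat_lit 121)) (.leaf (nat_lit 55))) (.node (nat_lit 44244) (.leaf (nat_lit 193)) (.node (nat_lit 44409) (.leaf (nat_lit 567)) (.leaf (nat_lit 175))))) (.node (nat_lit 44527) (.node (nat_lit 44429) (.leaf (nat_lit 447)) (.node (nat_lit 44501) (.leaf (nat_lit 419)) (.leaf (nat_lit 14)))) (.node (nat_lit 44675) (.leaf (nat_lit 2)) (.node (nat_lit 44700) (.leaf (nat_lit 0)) (.leaf (nat_lit 121)))))))) (.node (nat_lit 47274) (.node (nat_lit 46013) (.node (nat_lit 45507) (.node (nat_lit 45033) (.node (nat_lit 45026) (.leaf (nat_lit 447)) (.leaf (nat_lit 2))) (.node (nat_lit 45147) (.leaf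 (nat_lit 128)) (.node (nat_lit 45242) (.leaf (nat_lit 0)) (.leaf (nat_lit 567))))) (.node (nat_lit 45631) (.node (nat_lit 45595) (.leaf (nat_lit 2)) (.leaf (nat_lit 128))) (.node (nat_lit 45776) (.leaf (nat_lit 175)) (.node (nat_lit 45804) (.leaf (nat_lit 55)) (.leaf (nat_lit 2)))))) (.node (nat_lit 46575) (.node (nat_lit 46347) (.node (nat_lit 46064) (.leaf (nat_lit 128)) (.leaf (nat_lit 55))) (.node (nat_lit 46369) (.leaf (nat_lit 567)) (.node (nat_lit 46411) (.leaf (nat_lit 175)) (.leaf (nat_lit 295))))) (.node (nat_lit 46908) (.node (nat_lit 46694) (.leaf (nat_lit 128)) (.node (nat_lit 46775) (.leaf (nat_lit 567)) (.leaf (nat_lit 2)))) (.node (nat_lit 46923) (.leaf (nat_lit 49)) (.node (nat_lit 47101) (.leaf (nat_lit 0)) (.leaf (nat_lit 175))))))) (.node (nat_lit 48180) (.node (nat_lit 47690) (.node (nat_lit 47395) (.node (nat_lit 47327) (.leaf (nat_lit 2)) (.leaf (nat_lit 567))) (.node (nat_lit 47485) (.leaf (nat_lit 0)) (.node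 (nat_lit 47597) (.leaf (nat_lit 2)) (.leaf (nat_lit 0))))) (.node (nat_lit 48024) (.node (nat_lit 47734) (.leaf (nat_lit 447)) (.node (nat_lit 47755) (.leaf (nat_lit 289)) (.leaf (nat_lit 2)))) (.node (nat_lit 48139) (.leaf (nat_lit 55)) (.node (nat_lit 48164) (.leaf (nat_lit 128)) (.leaf (nat_lit 567)))))) (.node (nat_lit 48312) (.node (nat_lit 48230) (.node (nat_lit 48226) (.leaf (nat_lit 447)) (.leaf (nat_lit 55))) (.node (nat_lit 48262) (.leaf (nat_lit 128)) (.node (nat_lit 48272) (.leaf (nat_lit 49)) (.leaf (nat_lit 553))))) (.node (nat_lit 48629) (.node (nat_lit 48508) (.leaf (nat_lit 576)) (.node (nat_lit 48586) (.leaf (nat_lit 73)) (.leaf (nat_lit 0)))) (.node (nat_lit 48752) (.leaf (nat_lit 128)) (.node (nat_lit 48774) (.leaf (nat_lit 49)) (.leaf (nat_lit 73)))))))))) (.node (nat_lit 55803) (.node (nat_lit 52376) (.node (nat_lit 50834) (.node (nat_lit 49733) (.node (nat_lit 49204) (.node (nat_lit 48953) (.node (nat_lit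 48868) (.leaf (nat_lit 289)) (.leaf (nat_lit 49))) (.node (nat_lit 49132) (.leaf (nat_lit 121)) (.node (nat_lit 49191) (.leaf (nat_lit 567)) (.leaf (nat_lit 128))))) (.node (nat_lit 49569) (.node (nat_lit 49557) (.leaf (nat_lit 289)) (.leaf (nat_lit 0))) (.node (nat_lit 49622) (.leaf (nat_lit 419)) (.node (nat_lit 49705) (.leaf (nat_lit 567)) (.leaf (nat_lit 55)))))) (.node (nat_lit 50208) (.node (nat_lit 49978) (.node (nat_lit 49845) (.leaf (nat_lit 2)) (.leaf (nat_lit 0))) (.node (nat_lit 50070) (.leaf (nat_lit 122)) (.node (nat_lit 50175) (.leaf (nat_lit 228)) (.leaf (nat_lit 169))))) (.node (nat_lit 50282) (.node (nat_lit 50223) (.leaf (nat_lit 447)) (.node (nat_lit 50267) (.leaf (nat_lit 2)) (.leaf (nat_lit 567)))) (.node (nat_lit 50423) (.leaf (nat_lit 289)) (.node (nat_lit 50474) (.leaf (nat_lit 121)) (.leaf (nat_lit 55))))))) (.node (nat_lit 51517) (.node (nat_lit 51155) (.node (nat_lit 50958) (.node (nat_lit 50895) (.leaf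 (nat_lit 0)) (.leaf (nat_lit 175))) (.node (nat_lit 51036) (.leaf (nat_lit 122)) (.node (nat_lit 51122) (.leaf (nat_lit 0)) (.leaf (nat_lit 567))))) (.node (nat_lit 51385) (.node (nat_lit 51175) (.leaf (nat_lit 169)) (.node (nat_lit 51188) (.leaf (nat_lit 55)) (.leaf (nat_lit 447)))) (.node (nat_lit 51405) (.leaf (nat_lit 175)) (.node (nat_lit 51444) (.leaf (nat_lit 2)) (.leaf (nat_lit 169)))))) (.node (nat_lit 51934) (.node (nat_lit 51737) (.node (nat_lit 51610) (.leaf (nat_lit 0)) (.leaf (nat_lit 169))) (.node (nat_lit 51805) (.leaf (nat_lit 567)) (.node (nat_lit 51883) (.leaf (nat_lit 0)) (.leaf (nat_lit 248))))) (.node (nat_lit 52251) (.node (nat_lit 51953) (.leaf (nat_lit 169)) (.node (nat_lit 52140) (.leaf (nat_lit 55)) (.leaf (nat_lit 122)))) (.node (nat_lit 52258) (.leaf (nat_lit 687)) (.node (nat_lit 52278) (.leaf (nat_lit 175)) (.leaf (nat_lit 419)))))))) (.node (nat_lit 53728) (.node (nat_lit 53052) (.node (nat_lit 52758)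 (.node (nat_lit 52630) (.node (nat_lit 52590) (.leaf (nat_lit 2)) (.leaf (nat_lit 169))) (.node (nat_lit 52679) (.leaf (nat_lit 122)) (.node (nat_lit 52732) (.leaf (nat_lit 128)) (.leaf (nat_lit 295))))) (.node (nat_lit 52863) (.node (nat_lit 52768) (.leaf (nat_lit 49)) (.leaf (nat_lit 553))) (.node (nat_lit 52866) (.leaf (nat_lit 248)) (.node (nat_lit 52958) (.leaf (nat_lit 2)) (.leaf (nat_lit 289)))))) (.node (nat_lit 53284) (.node (nat_lit 53169) (.node (nat_lit 53091) (.leaf (nat_lit 49)) (.leaf (nat_lit 567))) (.node (nat_lit 53178) (.leaf (nat_lit 121)) (.node (nat_lit 53248) (.leaf (nat_lit 481)) (.leaf (nat_lit 49))))) (.node (nat_lit 53511) (.node (nat_lit 53423) (.leaf (nat_lit 0)) (.node (nat_lit 53428) (.leaf (nat_lit 55)) (.leaf (nat_lit 193)))) (.node (nat_lit 53625) (.leaf (nat_lit 242)) (.node (nat_lit 53721) (.leaf (nat_lit 55)) (.leaf (nat_lit 687))))))) (.node (nat_lit 54883) (.node (nat_lit 54270) (.node (nat_lit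 54032) (.node (nat_lit 53765) (.leaf (nat_lit 175)) (.leaf (nat_lit 0))) (.node (nat_lit 54071) (.leaf (nat_lit 49)) (.node (nat_lit 54251) (.leaf (nat_lit 567)) (.leaf (nat_lit 441))))) (.node (nat_lit 54624) (.node (nat_lit 54428) (.leaf (nat_lit 64)) (.node (nat_lit 54511) (.leaf (nat_lit 289)) (.leaf (nat_lit 8)))) (.node (nat_lit 54644) (.leaf (nat_lit 2)) (.node (nat_lit 54692) (.leaf (nat_lit 289)) (.leaf (nat_lit 295)))))) (.node (nat_lit 55398) (.node (nat_lit 55114) (.node (nat_lit 55001) (.leaf (nat_lit 447)) (.leaf (nat_lit 8))) (.node (nat_lit 55140) (.leaf (nat_lit 2)) (.node (nat_lit 55373) (.leaf (nat_lit 49)) (.leaf (nat_lit 447))))) (.node (nat_lit 55630) (.node (nat_lit 55583) (.leaf (nat_lit 576)) (.node (nat_lit 55585) (.leaf (nat_lit 289)) (.leaf (nat_lit 55)))) (.node (nat_lit 55648) (.leaf (nat_lit 49)) (.node (nat_lit 55793) (.leaf (nat_lit 567)) (.leaf (nat_lit 539))))))))) (.node (nat_lit 59411) (.node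 (nat_lit 57462) (.node (nat_lit 56330) (.node (nat_lit 55943) (.node (nat_lit 55840) (.node (nat_lit 55815) (.leaf (nat_lit 481)) (.leaf (nat_lit 2))) (.node (nat_lit 55867) (.leaf (nat_lit 169)) (.node (nat_lit 55873) (.leaf (nat_lit 299)) (.leaf (nat_lit 55))))) (.node (nat_lit 56102) (.node (nat_lit 56020) (.leaf (nat_lit 687)) (.leaf (nat_lit 175))) (.node (nat_lit 56114) (.leaf (nat_lit 49)) (.node (nat_lit 56305) (.leaf (nat_lit 289)) (.leaf (nat_lit 2)))))) (.node (nat_lit 56941) (.node (nat_lit 56435) (.node (nat_lit 56433) (.leaf (nat_lit 169)) (.leaf (nat_lit 687))) (.node (nat_lit 56510) (.leaf (nat_lit 0)) (.node (nat_lit 56563) (.leaf (nat_lit 175)) (.leaf (nat_lit 289))))) (.node (nat_lit 57337) (.node (nat_lit 57011) (.leaf (nat_lit 248)) (.node (nat_lit 57273) (.leaf (nat_lit 567)) (.leaf (nat_lit 481)))) (.node (nat_lit 57406) (.leaf (nat_lit 122)) (.node (nat_lit 57418) (.leaf (nat_lit 0)) (.leaf (nat_lit 419)))))))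 (.node (nat_lit 58539) (.node (nat_lit 58083) (.node (nat_lit 57833) (.node (nat_lit 57572) (.leaf (nat_lit 55)) (.leaf (nat_lit 49))) (.node (nat_lit 58057) (.leaf (nat_lit 55)) (.node (nat_lit 58063) (.leaf (nat_lit 447)) (.leaf (nat_lit 2))))) (.node (nat_lit 58395) (.node (nat_lit 58300) (.leaf (nat_lit 687)) (.node (nat_lit 58350) (.leaf (nat_lit 49)) (.leaf (nat_lit 73)))) (.node (nat_lit 58431) (.leaf (nat_lit 0)) (.node (nat_lit 58481) (.leaf (nat_lit 8)) (.leaf (nat_lit 567)))))) (.node (nat_lit 58807) (.node (nat_lit 58553) (.node (nat_lit 58547) (.leaf (nat_lit 494)) (.leaf (nat_lit 447))) (.node (nat_lit 58564) (.leaf (nat_lit 2)) (.node (nat_lit 58683) (.leaf (nat_lit 295)) (.leaf (nat_lit 0))))) (.node (nat_lit 59076) (.node (nat_lit 58876) (.leaf (nat_lit 122)) (.node (nat_lit 59007) (.leaf (nat_lit 0)) (.leaf (nat_lit 8)))) (.node (nat_lit 59087) (.leaf (nat_lit 242)) (.node (nat_lit 59151) (.leaf (nat_lit 567))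 (.leaf (nat_lit 59)))))))) (.node (nat_lit 61329) (.node (nat_lit 60091) (.node (nat_lit 59636) (.node (nat_lit 59553) (.node (nat_lit 59499) (.leaf (nat_lit 8)) (.leaf (nat_lit 122))) (.node (nat_lit 59577) (.leaf (nat_lit 687)) (.node (nat_lit 59610) (.leaf (nat_lit 567)) (.leaf (nat_lit 687))))) (.node (nat_lit 59941) (.node (nat_lit 59654) (.leaf (nat_lit 49)) (.leaf (nat_lit 0))) (.node (nat_lit 60030) (.leaf (nat_lit 175)) (.node (nat_lit 60056) (.leaf (nat_lit 427)) (.leaf (nat_lit 242)))))) (.node (nat_lit 60643) (.node (nat_lit 60431) (.node (nat_lit 60126) (.leaf (nat_lit 295)) (.leaf (nat_lit 49))) (.node (nat_lit 60479) (.leaf (nat_lit 175)) (.node (nat_lit 60524) (.leaf (nat_lit 122)) (.leaf (nat_lit 295))))) (.node (nat_lit 60980) (.node (nat_lit 60783) (.leaf (nat_lit 0)) (.node (nat_lit 60845) (.leaf (nat_lit 424)) (.leaf (nat_lit 0)))) (.node (nat_lit 61124) (.leaf (nat_lit 175)) (.node (nat_lit 61144) (.leaf (nat_lit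 0)) (.leaf (nat_lit 169))))))) (.node (nat_lit 62606) (.node (nat_lit 61879) (.node (nat_lit 61492) (.node (nat_lit 61389) (.leaf (nat_lit 175)) (.leaf (nat_lit 8))) (.node (nat_lit 61570) (.leaf (nat_lit 49)) (.node (nat_lit 61819) (.leaf (nat_lit 687)) (.leaf (nat_lit 175))))) (.node (nat_lit 62392) (.node (nat_lit 62068) (.leaf (nat_lit 8)) (.node (nat_lit 62315) (.leaf (nat_lit 49)) (.leaf (nat_lit 0)))) (.node (nat_lit 62541) (.leaf (nat_lit 567)) (.node (nat_lit 62581) (.leaf (nat_lit 295)) (.leaf (nat_lit 374)))))) (.node (nat_lit 62888) (.node (nat_lit 62841) (.node (nat_lit 62652) (.leaf (nat_lit 49)) (.leaf (nat_lit 295))) (.node (nat_lit 62857) (.leaf (nat_lit 8)) (.node (nat_lit 62882) (.leaf (nat_lit 128)) (.leaf (nat_lit 567))))) (.node (nat_lit 63093) (.node (nat_lit 62927) (.leaf (nat_lit 175)) (.node (nat_lit 62969) (.leaf (nat_lit 8)) (.leaf (nat_lit 447)))) (.node (nat_lit 63200) (.leaf (nat_lit 0)) (.node (nat_lit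 63220) (.leaf (nat_lit 55)) (.leaf (nat_lit 175))))))))))))
noncomputable def SX_soc_t1 : ST := (.node (nat_lit 5651) (.node (nat_lit 3149) (.node (nat_lit 1212) (.node (nat_lit 913) (.node (nat_lit 465) (.node (nat_lit 98) (.node (nat_lit 51) (.node (nat_lit 44) (.leaf (nat_lit 120)) (.node (nat_lit 45) (.leaf (nat_lit 360)) (.leaf (nat_lit 120)))) (.node (nat_lit 73) (.leaf (nat_lit 360)) (.node (nat_lit 97) (.leaf (nat_lit 120)) (.leaf (nat_lit 360))))) (.node (nat_lit 153) (.node (nat_lit 132) (.leaf (nat_lit 120)) (.node (nat_lit 147) (.leaf (nat_lit 360)) (.leaf (nat_lit 120)))) (.node (nat_lit 161) (.leaf (nat_lit 360)) (.node (nat_lit 441) (.leaf (nat_lit 120)) (.leaf (nat_lit 600)))))) (.node (nat_lit 620) (.node (nat_lit 542) (.node (nat_lit 479) (.leaf (nat_lit 0)) (.node (nat_lit 529) (.leaf (nat_lit 600)) (.leaf (nat_lit 150)))) (.node (nat_lit 557) (.leaf (nat_lit 600)) (.node (nat_lit 609) (.leaf (nat_lit 150)) (.leaf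 (nat_lit 600))))) (.node (nat_lit 821) (.node (nat_lit 644) (.leaf (nat_lit 150)) (.node (nat_lit 647) (.leaf (nat_lit 0)) (.leaf (nat_lit 600)))) (.node (nat_lit 844) (.node (nat_lit 837) (.leaf (nat_lit 360)) (.leaf (nat_lit 0))) (.node (nat_lit 845) (.leaf (nat_lit 390)) (.leaf (nat_lit 360))))))) (.node (nat_lit 1053) (.node (nat_lit 966) (.node (nat_lit 930) (.node (nat_lit 915) (.leaf (nat_lit 600)) (.node (nat_lit 927) (.leaf (nat_lit 360)) (.leaf (nat_lit 600)))) (.node (nat_lit 945) (.leaf (nat_lit 360)) (.node (nat_lit 964) (.leaf (nat_lit 210)) (.leaf (nat_lit 360))))) (.node (nat_lit 1017) (.node (nat_lit 971) (.leaf (nat_lit 0)) (.node (nat_lit 1011) (.leaf (nat_lit 360)) (.leaf (nat_lit 480)))) (.node (nat_lit 1018) (.leaf (nat_lit 360)) (.node (nat_lit 1025) (.leaf (nat_lit 480)) (.leaf (nat_lit 0)))))) (.node (nat_lit 1130) (.node (nat_lit 1073) (.node (nat_lit 1057) (.leaf (nat_lit 600)) (.node (nat_lit 1067) (.leaf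 (nat_lit 156)) (.leaf (nat_lit 480)))) (.node (nat_lit 1081) (.leaf (nat_lit 360)) (.node (nat_lit 1092) (.leaf (nat_lit 480)) (.leaf (nat_lit 366))))) (.node (nat_lit 1151) (.node (nat_lit 1142) (.leaf (nat_lit 480)) (.node (nat_lit 1149) (.leaf (nat_lit 0)) (.leaf (nat_lit 30)))) (.node (nat_lit 1165) (.node (nat_lit 1154) (.leaf (nat_lit 600)) (.leaf (nat_lit 360))) (.node (nat_lit 1198) (.leaf (nat_lit 600)) (.leaf (nat_lit 30)))))))) (.node (nat_lit 1967) (.node (nat_lit 1476) (.node (nat_lit 1325) (.node (nat_lit 1268) (.node (nat_lit 1246) (.leaf (nat_lit 0)) (.node (nat_lit 1261) (.leaf (nat_lit 150)) (.leaf (nat_lit 0)))) (.node (nat_lit 1293) (.leaf (nat_lit 390)) (.node (nat_lit 1300) (.leaf (nat_lit 360)) (.leaf (nat_lit 0))))) (.node (nat_lit 1438) (.node (nat_lit 1417) (.leaf (nat_lit 360)) (.node (nat_lit 1420) (.leaf (nat_lit 0)) (.leaf (nat_lit 360)))) (.node (nat_lit 1465) (.leaf (nat_lit 210)) (.node (nat_lit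 1473) (.leaf (nat_lit 360)) (.leaf (nat_lit 1)))))) (.node (nat_lit 1577) (.node (nat_lit 1551) (.node (nat_lit 1482) (.leaf (nat_lit 0)) (.node (nat_lit 1501) (.leaf (nat_lit 360)) (.leaf (nat_lit 156)))) (.node (nat_lit 1563) (.leaf (nat_lit 120)) (.node (nat_lit 1565) (.leaf (nat_lit 360)) (.leaf (nat_lit 120))))) (.node (nat_lit 1628) (.node (nat_lit 1607) (.leaf (nat_lit 360)) (.node (nat_lit 1609) (.leaf (nat_lit 120)) (.leaf (nat_lit 360)))) (.node (nat_lit 1733) (.node (nat_lit 1662) (.leaf (nat_lit 120)) (.leaf (nat_lit 150))) (.node (nat_lit 1797) (.leaf (nat_lit 120)) (.leaf (nat_lit 360))))))) (.node (nat_lit 2399) (.node (nat_lit 2219) (.node (nat_lit 1979) (.node (nat_lit 1969) (.leaf (nat_lit 120)) (.node (nat_lit 1974) (.leaf (nat_lit 360)) (.leaf (nat_lit 120)))) (.node (nat_lit 2079) (.leaf (nat_lit 360)) (.node (nat_lit 2212) (.leaf (nat_lit 120)) (.leaf (nat_lit 480))))) (.node (nat_lit 2331) (.node (nat_lit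 2268) (.leaf (nat_lit 0)) (.node (nat_lit 2308) (.leaf (nat_lit 480)) (.leaf (nat_lit 360)))) (.node (nat_lit 2343) (.leaf (nat_lit 480)) (.node (nat_lit 2364) (.leaf (nat_lit 120)) (.leaf (nat_lit 360)))))) (.node (nat_lit 2803) (.node (nat_lit 2439) (.node (nat_lit 2413) (.leaf (nat_lit 0)) (.node (nat_lit 2427) (.leaf (nat_lit 120)) (.leaf (nat_lit 360)))) (.node (nat_lit 2621) (.leaf (nat_lit 120)) (.node (nat_lit 2791) (.leaf (nat_lit 480)) (.leaf (nat_lit 120))))) (.node (nat_lit 2934) (.node (nat_lit 2903) (.leaf (nat_lit 480)) (.node (nat_lit 2924) (.leaf (nat_lit 120)) (.leaf (nat_lit 0)))) (.node (nat_lit 3037) (.node (nat_lit 2966) (.leaf (nat_lit 480)) (.leaf (nat_lit 120))) (.node (nat_lit 3108) (.leaf (nat_lit 360)) (.leaf (nat_lit 480))))))))) (.node (nat_lit 4536) (.node (nat_lit 3628) (.node (nat_lit 3312) (.node (nat_lit 3226) (.node (nat_lit 3175) (.node (nat_lit 3168) (.leaf (nat_lit 360)) (.node (nat_lit 3170)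 (.leaf (nat_lit 480)) (.leaf (nat_lit 360)))) (.node (nat_lit 3212) (.leaf (nat_lit 480)) (.node (nat_lit 3214) (.leaf (nat_lit 360)) (.leaf (nat_lit 480))))) (.node (nat_lit 3301) (.node (nat_lit 3276) (.leaf (nat_lit 360)) (.node (nat_lit 3295) (.leaf (nat_lit 480)) (.leaf (nat_lit 120)))) (.node (nat_lit 3304) (.leaf (nat_lit 480)) (.node (nat_lit 3309) (.leaf (nat_lit 0)) (.leaf (nat_lit 120)))))) (.node (nat_lit 3484) (.node (nat_lit 3372) (.node (nat_lit 3351) (.leaf (nat_lit 480)) (.node (nat_lit 3357) (.leaf (nat_lit 120)) (.leaf (nat_lit 480)))) (.node (nat_lit 3438) (.leaf (nat_lit 120)) (.node (nat_lit 3477) (.leaf (nat_lit 480)) (.leaf (nat_lit 120))))) (.node (nat_lit 3565) (.node (nat_lit 3509) (.leaf (nat_lit 0)) (.node (nat_lit 3517) (.leaf (nat_lit 360)) (.leaf (nat_lit 480)))) (.node (nat_lit 3616) (.node (nat_lit 3612) (.leaf (nat_lit 360)) (.leaf (nat_lit 540))) (.node (nat_lit 3626) (.leaf (nat_lit 480)) (.leaf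 (nat_lit 0))))))) (.node (nat_lit 3864) (.node (nat_lit 3806) (.node (nat_lit 3725) (.node (nat_lit 3640) (.leaf (nat_lit 360)) (.node (nat_lit 3724) (.leaf (nat_lit 480)) (.leaf (nat_lit 516)))) (.node (nat_lit 3752) (.leaf (nat_lit 480)) (.node (nat_lit 3759) (.leaf (nat_lit 366)) (.leaf (nat_lit 480))))) (.node (nat_lit 3832) (.node (nat_lit 3811) (.leaf (nat_lit 0)) (.node (nat_lit 3813) (.leaf (nat_lit 480)) (.leaf (nat_lit 300)))) (.node (nat_lit 3850) (.leaf (nat_lit 480)) (.node (nat_lit 3862) (.leaf (nat_lit 510)) (.leaf (nat_lit 300)))))) (.node (nat_lit 4021) (.node (nat_lit 3932) (.node (nat_lit 3868) (.leaf (nat_lit 510)) (.node (nat_lit 3876) (.leaf (nat_lit 480)) (.leaf (nat_lit 0)))) (.node (nat_lit 3933) (.leaf (nat_lit 180)) (.node (nat_lit 3949) (.leaf (nat_lit 360)) (.leaf (nat_lit 480))))) (.node (nat_lit 4192) (.node (nat_lit 4157) (.leaf (nat_lit 120)) (.node (nat_lit 4168) (.leaf (nat_lit 360)) (.leaf (nat_lit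 120)))) (.node (nat_lit 4248) (.node (nat_lit 4235) (.leaf (nat_lit 360)) (.leaf (nat_lit 120))) (.node (nat_lit 4256) (.leaf (nat_lit 360)) (.leaf (nat_lit 120)))))))) (.node (nat_lit 5120) (.node (nat_lit 4782) (.node (nat_lit 4686) (.node (nat_lit 4645) (.node (nat_lit 4624) (.leaf (nat_lit 480)) (.node (nat_lit 4630) (.leaf (nat_lit 120)) (.leaf (nat_lit 480)))) (.node (nat_lit 4679) (.leaf (nat_lit 120)) (.node (nat_lit 4680) (.leaf (nat_lit 480)) (.leaf (nat_lit 120))))) (.node (nat_lit 4732) (.node (nat_lit 4708) (.leaf (nat_lit 480)) (.node (nat_lit 4726) (.leaf (nat_lit 120)) (.leaf (nat_lit 30)))) (.node (nat_lit 4733) (.leaf (nat_lit 480)) (.node (nat_lit 4767) (.leaf (nat_lit 30)) (.leaf (nat_lit 480)))))) (.node (nat_lit 4941) (.node (nat_lit 4845) (.node (nat_lit 4788) (.leaf (nat_lit 30)) (.node (nat_lit 4796) (.leaf (nat_lit 480)) (.leaf (nat_lit 30)))) (.node (nat_lit 4853) (.leaf (nat_lit 390)) (.node (nat_lit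 4869) (.leaf (nat_lit 360)) (.leaf (nat_lit 120))))) (.node (nat_lit 5043) (.node (nat_lit 5008) (.leaf (nat_lit 360)) (.node (nat_lit 5040) (.leaf (nat_lit 480)) (.leaf (nat_lit 120)))) (.node (nat_lit 5054) (.node (nat_lit 5053) (.leaf (nat_lit 480)) (.leaf (nat_lit 360))) (.node (nat_lit 5077) (.leaf (nat_lit 120)) (.leaf (nat_lit 360))))))) (.node (nat_lit 5212) (.node (nat_lit 5155) (.node (nat_lit 5141) (.node (nat_lit 5135) (.leaf (nat_lit 480)) (.node (nat_lit 5140) (.leaf (nat_lit 600)) (.leaf (nat_lit 360)))) (.node (nat_lit 5149) (.leaf (nat_lit 480)) (.node (nat_lit 5152) (.leaf (nat_lit 600)) (.leaf (nat_lit 120))))) (.node (nat_lit 5180) (.node (nat_lit 5168) (.leaf (nat_lit 480)) (.node (nat_lit 5176) (.leaf (nat_lit 0)) (.leaf (nat_lit 480)))) (.node (nat_lit 5191) (.node (nat_lit 5183) (.leaf (nat_lit 120)) (.leaf (nat_lit 480))) (.node (nat_lit 5197) (.leaf (nat_lit 600)) (.leaf (nat_lit 480)))))) (.node (nat_lit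 5512) (.node (nat_lit 5278) (.node (nat_lit 5218) (.leaf (nat_lit 600)) (.node (nat_lit 5242) (.leaf (nat_lit 480)) (.leaf (nat_lit 360)))) (.node (nat_lit 5317) (.leaf (nat_lit 120)) (.node (nat_lit 5349) (.leaf (nat_lit 600)) (.leaf (nat_lit 360))))) (.node (nat_lit 5551) (.node (nat_lit 5525) (.leaf (nat_lit 120)) (.node (nat_lit 5526) (.leaf (nat_lit 360)) (.leaf (nat_lit 120)))) (.node (nat_lit 5568) (.node (nat_lit 5560) (.leaf (nat_lit 600)) (.leaf (nat_lit 360))) (.node (nat_lit 5592) (.leaf (nat_lit 120)) (.leaf (nat_lit 0)))))))))) (.node (nat_lit 12313) (.node (nat_lit 8132) (.node (nat_lit 6812) (.node (nat_lit 6079) (.node (nat_lit 5704) (.node (nat_lit 5684) (.node (nat_lit 5663) (.leaf (nat_lit 360)) (.node (nat_lit 5672) (.leaf (nat_lit 600)) (.leaf (nat_lit 360)))) (.node (nat_lit 5690) (.leaf (nat_lit 600)) (.node (nat_lit 5694) (.leaf (nat_lit 360)) (.leaf (nat_lit 120))))) (.node (nat_lit 5804) (.node (nat_lit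 5726) (.leaf (nat_lit 360)) (.node (nat_lit 5797) (.leaf (nat_lit 600)) (.leaf (nat_lit 0)))) (.node (nat_lit 6023) (.leaf (nat_lit 360)) (.node (nat_lit 6036) (.leaf (nat_lit 600)) (.leaf (nat_lit 360)))))) (.node (nat_lit 6357) (.node (nat_lit 6244) (.node (nat_lit 6099) (.leaf (nat_lit 600)) (.node (nat_lit 6142) (.leaf (nat_lit 360)) (.leaf (nat_lit 600)))) (.node (nat_lit 6301) (.leaf (nat_lit 480)) (.node (nat_lit 6356) (.leaf (nat_lit 360)) (.leaf (nat_lit 480))))) (.node (nat_lit 6419) (.node (nat_lit 6377) (.leaf (nat_lit 360)) (.node (nat_lit 6378) (.leaf (nat_lit 480)) (.leaf (nat_lit 360)))) (.node (nat_lit 6483) (.node (nat_lit 6433) (.leaf (nat_lit 0)) (.leaf (nat_lit 480))) (.node (nat_lit 6653) (.leaf (nat_lit 360)) (.leaf (nat_lit 480))))))) (.node (nat_lit 7321) (.node (nat_lit 7069) (.node (nat_lit 6888) (.node (nat_lit 6860) (.leaf (nat_lit 360)) (.node (nat_lit 6868) (.leaf (nat_lit 480)) (.leaf (nat_lit 360))))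 (.node (nat_lit 6931) (.leaf (nat_lit 480)) (.node (nat_lit 6944) (.leaf (nat_lit 360)) (.leaf (nat_lit 0))))) (.node (nat_lit 7269) (.node (nat_lit 7101) (.leaf (nat_lit 360)) (.node (nat_lit 7237) (.leaf (nat_lit 480)) (.leaf (nat_lit 360)))) (.node (nat_lit 7300) (.leaf (nat_lit 480)) (.node (nat_lit 7304) (.leaf (nat_lit 360)) (.leaf (nat_lit 480)))))) (.node (nat_lit 7776) (.node (nat_lit 7700) (.node (nat_lit 7395) (.leaf (nat_lit 360)) (.node (nat_lit 7517) (.leaf (nat_lit 480)) (.leaf (nat_lit 360)))) (.node (nat_lit 7741) (.leaf (nat_lit 510)) (.node (nat_lit 7756) (.leaf (nat_lit 360)) (.leaf (nat_lit 510))))) (.node (nat_lit 7945) (.node (nat_lit 7784) (.leaf (nat_lit 360)) (.node (nat_lit 7804) (.leaf (nat_lit 510)) (.leaf (nat_lit 360)))) (.node (nat_lit 8013) (.node (nat_lit 7952) (.leaf (nat_lit 0)) (.leaf (nat_lit 390))) (.node (nat_lit 8109) (.leaf (nat_lit 360)) (.leaf (nat_lit 120)))))))) (.node (nat_lit 10892)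 (.node (nat_lit 10025) (.node (nat_lit 9337) (.node (nat_lit 8165) (.node (nat_lit 8137) (.leaf (nat_lit 360)) (.node (nat_lit 8139) (.leaf (nat_lit 120)) (.leaf (nat_lit 360)))) (.node (nat_lit 8933) (.leaf (nat_lit 120)) (.node (nat_lit 9131) (.leaf (nat_lit 360)) (.leaf (nat_lit 480))))) (.node (nat_lit 9792) (.node (nat_lit 9616) (.leaf (nat_lit 360)) (.node (nat_lit 9624) (.leaf (nat_lit 0)) (.leaf (nat_lit 360)))) (.node (nat_lit 9829) (.leaf (nat_lit 0)) (.node (nat_lit 9997) (.leaf (nat_lit 360)) (.leaf (nat_lit 0)))))) (.node (nat_lit 10445) (.node (nat_lit 10346) (.node (nat_lit 10332) (.leaf (nat_lit 360)) (.node (nat_lit 10333) (.leaf (nat_lit 120)) (.leaf (nat_lit 360)))) (.node (nat_lit 10347) (.leaf (nat_lit 120)) (.node (nat_lit 10388) (.leaf (nat_lit 360)) (.leaf (nat_lit 120))))) (.node (nat_lit 10741) (.node (nat_lit 10514) (.leaf (nat_lit 360)) (.node (nat_lit 10540) (.leaf (nat_lit 120)) (.leaf (nat_lit 360))))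 (.node (nat_lit 10797) (.node (nat_lit 10780) (.leaf (nat_lit 600)) (.leaf (nat_lit 120))) (.node (nat_lit 10844) (.leaf (nat_lit 600)) (.leaf (nat_lit 360))))))) (.node (nat_lit 11490) (.node (nat_lit 11033) (.node (nat_lit 11018) (.node (nat_lit 10956) (.leaf (nat_lit 120)) (.node (nat_lit 10986) (.leaf (nat_lit 360)) (.leaf (nat_lit 600)))) (.node (nat_lit 11019) (.leaf (nat_lit 120)) (.node (nat_lit 11032) (.leaf (nat_lit 360)) (.leaf (nat_lit 120))))) (.node (nat_lit 11301) (.node (nat_lit 11189) (.leaf (nat_lit 360)) (.node (nat_lit 11284) (.leaf (nat_lit 600)) (.leaf (nat_lit 120)))) (.node (nat_lit 11336) (.node (nat_lit 11305) (.leaf (nat_lit 600)) (.leaf (nat_lit 120))) (.node (nat_lit 11340) (.leaf (nat_lit 600)) (.leaf (nat_lit 120)))))) (.node (nat_lit 11769) (.node (nat_lit 11693) (.node (nat_lit 11529) (.leaf (nat_lit 600)) (.node (nat_lit 11573) (.leaf (nat_lit 120)) (.leaf (nat_lit 360)))) (.node (nat_lit 11741)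 (.leaf (nat_lit 600)) (.node (nat_lit 11749) (.leaf (nat_lit 360)) (.leaf (nat_lit 600))))) (.node (nat_lit 12001) (.node (nat_lit 11784) (.leaf (nat_lit 360)) (.node (nat_lit 11804) (.leaf (nat_lit 600)) (.leaf (nat_lit 360)))) (.node (nat_lit 12306) (.node (nat_lit 12021) (.leaf (nat_lit 600)) (.leaf (nat_lit 360))) (.node (nat_lit 12308) (.leaf (nat_lit 0)) (.leaf (nat_lit 360))))))))) (.node (nat_lit 15693) (.node (nat_lit 14572) (.node (nat_lit 13413) (.node (nat_lit 13226) (.node (nat_lit 12376) (.node (nat_lit 12336) (.leaf (nat_lit 30)) (.node (nat_lit 12362) (.leaf (nat_lit 360)) (.leaf (nat_lit 30)))) (.node (nat_lit 12432) (.leaf (nat_lit 0)) (.node (nat_lit 12941) (.leaf (nat_lit 390)) (.leaf (nat_lit 360))))) (.node (nat_lit 13256) (.node (nat_lit 13228) (.leaf (nat_lit 30)) (.node (nat_lit 13233) (.leaf (nat_lit 360)) (.leaf (nat_lit 30)))) (.node (nat_lit 13282) (.leaf (nat_lit 360)) (.node (nat_lit 13345) (.leaf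 (nat_lit 30)) (.leaf (nat_lit 390)))))) (.node (nat_lit 14434) (.node (nat_lit 14096) (.node (nat_lit 13848) (.leaf (nat_lit 360)) (.node (nat_lit 13949) (.leaf (nat_lit 0)) (.leaf (nat_lit 360)))) (.node (nat_lit 14100) (.leaf (nat_lit 0)) (.node (nat_lit 14427) (.leaf (nat_lit 360)) (.leaf (nat_lit 0))))) (.node (nat_lit 14483) (.node (nat_lit 14442) (.leaf (nat_lit 30)) (.node (nat_lit 14477) (.leaf (nat_lit 360)) (.leaf (nat_lit 0)))) (.node (nat_lit 14505) (.node (nat_lit 14497) (.leaf (nat_lit 122)) (.leaf (nat_lit 36))) (.node (nat_lit 14546) (.leaf (nat_lit 360)) (.leaf (nat_lit 150))))))) (.node (nat_lit 15245) (.node (nat_lit 15008) (.node (nat_lit 14932) (.node (nat_lit 14875) (.leaf (nat_lit 360)) (.node (nat_lit 14882) (.leaf (nat_lit 30)) (.leaf (nat_lit 0)))) (.node (nat_lit 14987) (.leaf (nat_lit 360)) (.node (nat_lit 14988) (.leaf (nat_lit 36)) (.leaf (nat_lit 360))))) (.node (nat_lit 15114) (.node (nat_lit 15009)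 (.leaf (nat_lit 126)) (.node (nat_lit 15050) (.leaf (nat_lit 360)) (.leaf (nat_lit 150)))) (.node (nat_lit 15216) (.leaf (nat_lit 360)) (.node (nat_lit 15223) (.leaf (nat_lit 0)) (.leaf (nat_lit 480)))))) (.node (nat_lit 15561) (.node (nat_lit 15335) (.node (nat_lit 15272) (.leaf (nat_lit 120)) (.node (nat_lit 15301) (.leaf (nat_lit 480)) (.leaf (nat_lit 120)))) (.node (nat_lit 15379) (.leaf (nat_lit 480)) (.node (nat_lit 15490) (.leaf (nat_lit 150)) (.leaf (nat_lit 120))))) (.node (nat_lit 15661) (.node (nat_lit 15568) (.leaf (nat_lit 0)) (.node (nat_lit 15625) (.leaf (nat_lit 180)) (.leaf (nat_lit 480)))) (.node (nat_lit 15675) (.node (nat_lit 15664) (.leaf (nat_lit 600)) (.leaf (nat_lit 480))) (.node (nat_lit 15681) (.leaf (nat_lit 600)) (.leaf (nat_lit 480)))))))) (.node (nat_lit 16174) (.node (nat_lit 15897) (.node (nat_lit 15801) (.node (nat_lit 15773) (.node (nat_lit 15702) (.leaf (nat_lit 120)) (.node (nat_lit 15714) (.leaf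 (nat_lit 480)) (.leaf (nat_lit 120)))) (.node (nat_lit 15776) (.leaf (nat_lit 600)) (.node (nat_lit 15797) (.leaf (nat_lit 0)) (.leaf (nat_lit 480))))) (.node (nat_lit 15840) (.node (nat_lit 15805) (.leaf (nat_lit 600)) (.node (nat_lit 15807) (.leaf (nat_lit 120)) (.leaf (nat_lit 480)))) (.node (nat_lit 15853) (.leaf (nat_lit 120)) (.node (nat_lit 15890) (.leaf (nat_lit 480)) (.leaf (nat_lit 1)))))) (.node (nat_lit 16009) (.node (nat_lit 15946) (.node (nat_lit 15899) (.leaf (nat_lit 36)) (.node (nat_lit 15913) (.leaf (nat_lit 0)) (.leaf (nat_lit 600)))) (.node (nat_lit 15960) (.leaf (nat_lit 36)) (.node (nat_lit 15994) (.leaf (nat_lit 12)) (.leaf (nat_lit 120))))) (.node (nat_lit 16109) (.node (nat_lit 16041) (.leaf (nat_lit 1)) (.node (nat_lit 16073) (.leaf (nat_lit 360)) (.leaf (nat_lit 480)))) (.node (nat_lit 16153) (.node (nat_lit 16147) (.leaf (nat_lit 600)) (.leaf (nat_lit 0))) (.node (nat_lit 16168) (.leaf (nat_lit 360))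 (.leaf (nat_lit 0))))))) (.node (nat_lit 16277) (.node (nat_lit 16213) (.node (nat_lit 16189) (.node (nat_lit 16182) (.leaf (nat_lit 360)) (.node (nat_lit 16185) (.leaf (nat_lit 540)) (.leaf (nat_lit 480)))) (.node (nat_lit 16197) (.leaf (nat_lit 600)) (.node (nat_lit 16210) (.leaf (nat_lit 120)) (.leaf (nat_lit 600))))) (.node (nat_lit 16225) (.node (nat_lit 16216) (.leaf (nat_lit 480)) (.node (nat_lit 16224) (.leaf (nat_lit 360)) (.leaf (nat_lit 1)))) (.node (nat_lit 16245) (.node (nat_lit 16230) (.leaf (nat_lit 120)) (.leaf (nat_lit 360))) (.node (nat_lit 16253) (.leaf (nat_lit 516)) (.leaf (nat_lit 120)))))) (.node (nat_lit 16403) (.node (nat_lit 16312) (.node (nat_lit 16288) (.leaf (nat_lit 600)) (.node (nat_lit 16311) (.leaf (nat_lit 120)) (.leaf (nat_lit 480)))) (.node (nat_lit 16325) (.leaf (nat_lit 600)) (.node (nat_lit 16350) (.leaf (nat_lit 480)) (.leaf (nat_lit 510))))) (.node (nat_lit 16505) (.node (nat_lit 16424)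 (.leaf (nat_lit 600)) (.node (nat_lit 16489) (.leaf (nat_lit 0)) (.leaf (nat_lit 360)))) (.node (nat_lit 16577) (.node (nat_lit 16513) (.leaf (nat_lit 120)) (.leaf (nat_lit 360))) (.node (nat_lit 16583) (.leaf (nat_lit 120)) (.leaf (nat_lit 360)))))))))))
noncomputable def SX_soc_F : Fm := (.all SX_L (.or (.qf (.eq (.v (nat_lit 0)) .one)) (.exF SX_L (fun cs => SX_soc_t1.find (Nat.mod (nth (nat_lit 0) cs (nat_lit 0)) (nat_lit 16588))) (.exF SX_L (fun cs => SX_soc_t0.find (Nat.mod (Nat.add (nth (nat_lit 0) cs (nat_lit 0)) (Nat.mul (nat_lit 7919) (nth (nat_lit 0) cs (nat_lit 1)))) (nat_lit 63282))) (.qf (.or (.eq (.mul (.mul (.v (nat_lit 0)) (.v (nat_lit 2))) (.inv (.v (nat_lit 0)))) (.mul (.v (nat_lit 3)) (.v (nat_lit 4)))) (.or (.eq (.mul (.mul (.v (nat_lit 0)) (.v (nat_lit 2))) (.inv (.v (nat_lit 0)))) (.mul (.v (nat_lit 3)) (.v (nat_lit 4)))) (.or (.eq (.mul (.mul (.v (nat_lit 0)) (.mul (.mul (.mul (.v (nat_lit 2)) (.v (nat_lit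 1))) (.inv (.v (nat_lit 2)))) (.inv (.v (nat_lit 1))))) (.inv (.v (nat_lit 0)))) (.mul (.v (nat_lit 3)) (.v (nat_lit 4)))) (.or (.eq (.mul (.mul (.v (nat_lit 0)) (.mul (.mul (.mul (.v (nat_lit 2)) (.v (nat_lit 1))) (.inv (.v (nat_lit 2)))) (.inv (.v (nat_lit 1))))) (.inv (.v (nat_lit 0)))) (.mul (.v (nat_lit 3)) (.v (nat_lit 4)))) (.or (.eq (.mul (.mul (.mul (.mul (.mul (.mul (.v (nat_lit 2)) (.v (nat_lit 1))) (.inv (.v (nat_lit 2)))) (.inv (.v (nat_lit 1)))) (.v (nat_lit 0))) (.inv (.mul (.mul (.mul (.v (nat_lit 2)) (.v (nat_lit 1))) (.inv (.v (nat_lit 2)))) (.inv (.v (nat_lit 1)))))) (.inv (.v (nat_lit 0)))) (.mul (.v (nat_lit 3)) (.v (nat_lit 4)))) (.eq (.mul (.mul (.mul (.mul (.mul (.mul (.v (nat_lit 2)) (.v (nat_lit 1))) (.inv (.v (nat_lit 2)))) (.inv (.v (nat_lit 1)))) (.v (nat_lit 0))) (.inv (.mul (.mul (.mul (.v (nat_lit 2)) (.v (nat_lit 1))) (.inv (.v (nat_lit 2)))) (.inv (.v (nat_lit 1)))))) (.inv (.v (nat_lit 0)))) (.mul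 (.v (nat_lit 3)) (.v (nat_lit 4))))))))))))))
theorem SX_soc_chk : Fm.chk SX_o SX_soc_F SX_cs = true := by decide +kernel
theorem SX_soc {G : Type*} [Group G] {R : ℕ → G → Prop} {p o t a a_i b b_i w : G} {H : Subgroup G}
    (M : Mdl SX_o SX_cs SX_L R [p, o, t, a, a_i, b, b_i, w] H) :
    ∀ y_ ∈ H, y_ = 1 ∨ (∃ q_ ∈ H, ∃ k_ ∈ H, k_ * y_ * k_⁻¹ = p * o ∨ k_ * y_ * k_⁻¹ = p * o ∨ k_ * ⁅y_, q_⁆ * k_⁻¹ = p * o ∨ k_ * ⁅y_, q_⁆ * k_⁻¹ = p * o ∨ ⁅⁅y_, q_⁆, k_⁆ = p * o ∨ ⁅⁅y_, q_⁆, k_⁆ = p * o) :=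
  have h : ∀ y_, InL SX_o R SX_L y_ → y_ = 1 ∨ (Good SX_o R SX_L → prods SX_o SX_L SX_o.one ≠ [] → ∃ q_, InL SX_o R SX_L q_ ∧ (Good SX_o R SX_L → prods SX_o SX_L SX_o.one ≠ [] → ∃ k_, InL SX_o R SX_L k_ ∧ (k_ * y_ * k_⁻¹ = p * o ∨ k_ * y_ * k_⁻¹ = p * o ∨ k_ * ⁅y_, q_⁆ * k_⁻¹ = p * o ∨ k_ * ⁅y_, q_⁆ * k_⁻¹ = p * o ∨ ⁅⁅y_, q_⁆, k_⁆ = p * o ∨ ⁅⁅y_, q_⁆, k_⁆ = p * o))) :=
    Fm.sound M.μ SX_soc_F SX_soc_chk M.reps
  (fun y_ h0 => (Or.imp (fun h1 => h1) (fun h1 => (Exists.imp (fun q_ h2 => ⟨M.H.iff.1 h2.1, (Exists.imp (fun k_ h3 => ⟨M.H.iff.1 h3.1, h3.2⟩) (h2.2 M.H.good M.H.ne))⟩) (h1 M.H.good M.H.ne))) (h y_ (M.H.iff.2 h0))))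
theorem SX_mdl {G : Type*} [Group G] {p o t a b w : G}
    (h : S6r a b p o t w)
    (n1 : p * o ≠ 1) :
    ∃ R, Mdl SX_o SX_cs SX_L R [p, o, t, a, a⁻¹, b, b⁻¹, w] (sp [p, o, t, a, a⁻¹, b, b⁻¹, w]) ∧ #(sp [p, o, t, a, a⁻¹, b, b⁻¹, w]) = 720 :=
  mdl_of SX_P rfl (SX_r h) (.mul (.v (nat_lit 0)) (.v (nat_lit 1))) (.mul (.v (nat_lit 0)) (.v (nat_lit 1))) n1 n1
    fun _ ms _ M hl => match ms, M, (hl : ms.length = 8) with
      | [_, _, _, _, _, _, _, _], M, _ => SX_soc M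
noncomputable def SX_uq_F : Fm := (.all SX_L (.imp (.eq (.mul (.v (nat_lit 0)) (.v (nat_lit 0))) .one) (.imp (.eq (.mul (.v (nat_lit 1)) (.v (nat_lit 0))) (.mul (.v (nat_lit 0)) (.v (nat_lit 1)))) (.imp (.eq (.mul (.v (nat_lit 0)) (.v (nat_lit 2))) (.mul (.v (nat_lit 2)) (.v (nat_lit 0)))) (.imp (.eq (.pw (.mul (.mul (.v (nat_lit 4)) (.v (nat_lit 1))) (.v (nat_lit 0))) (nat_lit 3)) .one) (.imp (.eq (.pw (.mul (.v (nat_lit 0)) (.mul (.v (nat_lit 6)) (.v (nat_lit 2)))) (nat_lit 3)) .one) (.qf (.eq (.v (nat_lit 0)) (.v (nat_lit 8))))))))))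
theorem SX_uq_chk : Fm.chk SX_o SX_uq_F SX_cs = true := by decide +kernel
theorem SX_uq {G : Type*} [Group G] {R : ℕ → G → Prop} {p o t a b w : G} {H : Subgroup G}
    (M : Mdl SX_o SX_cs SX_L R [p, o, t, a, a⁻¹, b, b⁻¹, w] H) :
    ∀ k ∈ H, k * k = 1 → p * k = k * p → k * o = o * k → (a * p * k) ^ 3 = 1 → (k * (b * o)) ^ 3 = 1 → k = w :=
  have h : ∀ k, InL SX_o R SX_L k → k * k = 1 → p * k = k * p → k * o = o * k → (a * p * k) ^ 3 = 1 → (k * (b * o)) ^ 3 = 1 → k = w :=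
    Fm.sound M.μ SX_uq_F SX_uq_chk M.reps
  (fun k h0 => (h k (M.H.iff.2 h0)))
noncomputable def YN_Rl : List (List ℕ) := [[0,0],
  [1,1],
  [2,2],
  [3,4],
  [4,3],
  [5,6],
  [6,5],
  [7,7],
  [8,8],
  [9,10],
  [10,9],
  [3,3,3],
  [5,5,5],
  [3,0,3,0],
  [6,2,3,2],
  [1,2,0,2],
  [6,4,5,3],
  [1,0,1,0],
  [6,0,5,0],
  [4,1,3,1],
  [7,0,3,7,0,3,7,0,3],
  [7,0,7,0],
  [1,7,1,7],
  [1,5,7,1,5,7,1,5,7],
  [0,4,0,7,6,0,4,0,7,6,1,0,4,0,7,0,4,2],
  [9,9,9],
  [9,8,9,8],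
  [4,10,3,9],
  [0,10,0,9],
  [2,10,2,9],
  [7,10,7,9],
  [4,8,3,8],
  [0,8,0,8],
  [2,8,2,8],
  [7,8,7,8]]
theorem YN_r {G : Type*} [Group G] {p o t a b w r e : G}
    (h : S6r a b p o t w)
    (k : NE6 a p t w e r) :
    Rels (nthG [p, o, t, a, a⁻¹, b, b⁻¹, w, r, e, e⁻¹]) YN_Rl :=
  rels_of_eqs ((InvI.cons h.2.2.1 (InvI.cons h.2.2.2.1 (InvI.cons h.2.2.2.2.1 (InvI.cons h.2.2.2.2.2.1 (InvI.cons k.2.1 InvI.nil))))) : InvI [p, o, t, a, b, w, r, e] [(nat_lit 0), (nat_lit 1), (nat_lit 2), (nat_lit 5), (nat_lit 6)])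
    (AllEq.append (show AllEq [p, o, t, a, b, w, r, e] [((.pw (.v (nat_lit 3)) (nat_lit 3)), .one), ((.pw (.v (nat_lit 4)) (nat_lit 3)), .one), ((.mul (.v (nat_lit 0)) (.v (nat_lit 0))), .one), ((.mul (.v (nat_lit 1)) (.v (nat_lit 1))), .one), ((.mul (.v (nat_lit 2)) (.v (nat_lit 2))), .one), ((.mul (.v (nat_lit 5)) (.v (nat_lit 5))), .one), ((.mul (.mul (.v (nat_lit 0)) (.v (nat_lit 3))) (.inv (.v (nat_lit 0)))), (.inv (.v (nat_lit 3)))), ((.mul (.mul (.v (nat_lit 2)) (.v (nat_lit 3))) (.inv (.v (nat_lit 2)))), (.v (nat_lit 4))), ((.mul (.mul (.v (nat_lit 2)) (.v (nat_lit 0))) (.inv (.v (nat_lit 2)))), (.v (nat_lit 1))), ((.mul (.v (nat_lit 3)) (.v (nat_lit 4))), (.mul (.v (nat_lit 4)) (.v (nat_lit 3)))), ((.mul (.v (nat_lit 0)) (.v (nat_lit 1))), (.mul (.v (nat_lit 1)) (.v (nat_lit 0)))), ((.mul (.v (nat_lit 0)) (.v (nat_lit 4))), (.mul (.v (nat_lit 4)) (.v (nat_lit 0)))), ((.mul (.v (nat_lit 1)) (.v (nat_lit 3))), (.mul (.v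 (nat_lit 3)) (.v (nat_lit 1)))), ((.pw (.mul (.mul (.v (nat_lit 3)) (.v (nat_lit 0))) (.v (nat_lit 5))) (nat_lit 3)), .one), ((.mul (.v (nat_lit 0)) (.v (nat_lit 5))), (.mul (.v (nat_lit 5)) (.v (nat_lit 0)))), ((.mul (.v (nat_lit 5)) (.v (nat_lit 1))), (.mul (.v (nat_lit 1)) (.v (nat_lit 5)))), ((.pw (.mul (.v (nat_lit 5)) (.mul (.v (nat_lit 4)) (.v (nat_lit 1)))) (nat_lit 3)), .one), ((.v (nat_lit 2)), (.mul (.mul (.mul (.mul (.mul (.mul (.mul (.mul (.mul (.mul (.mul (.mul (.mul (.mul (.v (nat_lit 0)) (.mul (.v (nat_lit 3)) (.v (nat_lit 0)))) (.v (nat_lit 5))) (.mul (.v (nat_lit 4)) (.v (nat_lit 1)))) (.v (nat_lit 1))) (.v (nat_lit 0))) (.mul (.v (nat_lit 3)) (.v (nat_lit 0)))) (.v (nat_lit 5))) (.mul (.v (nat_lit 4)) (.v (nat_lit 1)))) (.v (nat_lit 0))) (.mul (.v (nat_lit 3)) (.v (nat_lit 0)))) (.v (nat_lit 5))) (.v (nat_lit 0))) (.mul (.v (nat_lit 3)) (.v (nat_lit 0)))) (.v (nat_lit 0))))] from h)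
    (show AllEq [p, o, t, a, b, w, r, e] [((.pw (.v (nat_lit 7)) (nat_lit 3)), .one), ((.mul (.v (nat_lit 6)) (.v (nat_lit 6))), .one), ((.mul (.mul (.v (nat_lit 6)) (.v (nat_lit 7))) (.inv (.v (nat_lit 6)))), (.inv (.v (nat_lit 7)))), ((.mul (.v (nat_lit 7)) (.v (nat_lit 3))), (.mul (.v (nat_lit 3)) (.v (nat_lit 7)))), ((.mul (.v (nat_lit 7)) (.v (nat_lit 0))), (.mul (.v (nat_lit 0)) (.v (nat_lit 7)))), ((.mul (.v (nat_lit 7)) (.v (nat_lit 2))), (.mul (.v (nat_lit 2)) (.v (nat_lit 7)))), ((.mul (.v (nat_lit 7)) (.v (nat_lit 5))), (.mul (.v (nat_lit 5)) (.v (nat_lit 7)))), ((.mul (.v (nat_lit 6)) (.v (nat_lit 3))), (.mul (.v (nat_lit 3)) (.v (nat_lit 6)))), ((.mul (.v (nat_lit 6)) (.v (nat_lit 0))), (.mul (.v (nat_lit 0)) (.v (nat_lit 6)))), ((.mul (.v (nat_lit 6)) (.v (nat_lit 2))), (.mul (.v (nat_lit 2)) (.v (nat_lit 6)))), ((.mul (.v (nat_lit 6)) (.v (nat_lit 5))), (.mul (.v (nat_lit 5)) (.v (nat_lit 6))))] from k))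
    [(.v (nat_lit 0)), (.v (nat_lit 1)), (.v (nat_lit 2)), (.v (nat_lit 3)), (.inv (.v (nat_lit 3))), (.v (nat_lit 4)), (.inv (.v (nat_lit 4))), (.v (nat_lit 5)), (.v (nat_lit 6)), (.v (nat_lit 7)), (.inv (.v (nat_lit 7)))] (by decide +kernel)
noncomputable abbrev YN_o : Ops := pops (nat_lit 9) (nat_lit 4) (nat_lit 15) (nat_lit 0x876543210)
noncomputable def YN_cs : List ℕ := [(nat_lit 0x876543120), (nat_lit 0x876453210), (nat_lit 0x876210543), (nat_lit 0x876543021), (nat_lit 0x876543102), (nat_lit 0x876354210), (nat_lit 0x876435210), (nat_lit 0x876540213), (nat_lit 0x786543210), (nat_lit 0x687543210), (nat_lit 0x768543210)]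
noncomputable def YN_L : List (List ℕ) := [[(nat_lit 0x876543210), (nat_lit 0x876210543), (nat_lit 0x876543021), (nat_lit 0x876543102), (nat_lit 0x876210354), (nat_lit 0x876210435)],
  [(nat_lit 0x876543210), (nat_lit 0x876543120), (nat_lit 0x876213540), (nat_lit 0x876213450), (nat_lit 0x876215430)],
  [(nat_lit 0x876543210), (nat_lit 0x876542310), (nat_lit 0x876352410), (nat_lit 0x876432510)],
  [(nat_lit 0x876543210), (nat_lit 0x876354210), (nat_lit 0x876435210)],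
  [(nat_lit 0x876543210), (nat_lit 0x687543210), (nat_lit 0x768543210)],
  [(nat_lit 0x876543210), (nat_lit 0x876453210)],
  [(nat_lit 0x876543210), (nat_lit 0x786543210)]]
noncomputable def YN_WW : List (List (List ℕ)) := [[[],
  [(nat_lit 2)],
  [(nat_lit 3)],
  [(nat_lit 4)],
  [(nat_lit 2), (nat_lit 5)],
  [(nat_lit 2), (nat_lit 6)]],
  [[],
  [(nat_lit 0)],
  [(nat_lit 2), (nat_lit 7)],
  [(nat_lit 0), (nat_lit 2), (nat_lit 7)],
  [(nat_lit 2), (nat_lit 7), (nat_lit 6)]],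
  [[],
  [(nat_lit 3), (nat_lit 7), (nat_lit 4)],
  [(nat_lit 3), (nat_lit 7), (nat_lit 4), (nat_lit 5)],
  [(nat_lit 3), (nat_lit 7), (nat_lit 4), (nat_lit 6)]],
  [[],
  [(nat_lit 5)],
  [(nat_lit 6)]],
  [[],
  [(nat_lit 9)],
  [(nat_lit 10)]],
  [[],
  [(nat_lit 1)]],
  [[],
  [(nat_lit 8)]]]
noncomputable def YN_b2_S0 : List ℕ := [nat_lit 0xf00000700000c004004]
noncomputable def YN_b2_S : List (List ℕ) := [YN_b2_S0]
noncomputable def YN_b2_defs : List ℕ := [(nat_lit 0x100001001000000000000000000000)]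
noncomputable def YN_b2_recs : List ℕ := [(nat_lit 0x200003)]
noncomputable def YN_b2_L0 : List ℕ := [nat_lit 0x700000100000b000002, nat_lit 0x800000000000f000003, nat_lit 0x200000300000c000000, nat_lit 0x1000002000010000001]
noncomputable def YN_b2_L : List (List ℕ) := [YN_b2_L0]
noncomputable def YN_b2_V : List ℕ := [(nat_lit 0x3000000020000000100000000)]
noncomputable def YN_b2_D : H26.Dag := ⟨[], [[0,0],
  [1,1],
  [1,0,1,0]], [], YN_b2_defs, YN_b2_recs⟩
theorem YN_b2_c : YN_b2_D.checkTab YN_b2_S 4 2 YN_b2_V YN_b2_L = true := by decide +kernel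
theorem YN_b2 : Bound YN_Rl 2 4 :=
  bound_dag (Bound.zero YN_Rl) (K := 2) (J := [0,1,17]) (by decide +kernel) YN_b2_c (by decide +kernel)
noncomputable def YN_b3_S0 : List ℕ := [nat_lit 0x1, nat_lit 0x1, nat_lit 0x7000005000008008006, nat_lit 0x7000001000008000006]
noncomputable def YN_b3_S : List (List ℕ) := [YN_b3_S0]
noncomputable def YN_b3_defs : List ℕ := [(nat_lit 0x20000000000000)]
noncomputable def YN_b3_recs : List ℕ := [(nat_lit 0x10000100001000000100001010000000000000000000000)]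
noncomputable def YN_b3_L0 : List ℕ := [nat_lit 0x1000000000005000000000007000001, nat_lit 0x900000100000d000001000008000000]
noncomputable def YN_b3_L : List (List ℕ) := [YN_b3_L0]
noncomputable def YN_b3_V : List ℕ := [(nat_lit 0x100000000)]
noncomputable def YN_b3_D : H26.Dag := ⟨[], [[0,0],
  [1,1],
  [2,2],
  [1,2,0,2]], [0,1], YN_b3_defs, YN_b3_recs⟩
theorem YN_b3_c : YN_b3_D.checkTab YN_b3_S 2 3 YN_b3_V YN_b3_L = true := by decide +kernel
theorem YN_b3 : Bound YN_Rl 3 8 :=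
  bound_dag YN_b2 (K := 3) (J := [0,1,2,15]) (by decide +kernel) YN_b3_c (by decide +kernel)
noncomputable def YN_b7_S0 : List ℕ := [nat_lit 0x1, nat_lit 0x1, nat_lit 0x1, nat_lit 0x700000500000800c01c, nat_lit 0xb00000800600e, nat_lit 0xb00000100000800a012, nat_lit 0xb00000500000c00401c, nat_lit 0xf000009000008002014, nat_lit 0xf00000100001000c01a, nat_lit 0x13000010006010, nat_lit 0x1300000900000c004014, nat_lit 0x1300000100001400401a, nat_lit 0x1e000015000029000016, nat_lit 0x17000007000010002018, nat_lit 0x3600001e00001800c014, nat_lit 0x1b000018006010, nat_lit 0x1b000007000014004018, nat_lit 0x3600003200004100c01c, nat_lit 0x1f000029000041002014, nat_lit 0x1f00000b00001000c018, nat_lit 0x1f000012000018002018, nat_lit 0x1f00001600001800c01a, nat_lit 0x23000020006010, nat_lit 0x2300001200001c004018, nat_lit 0x2300000b00001400a018, nat_lit 0x2300001600001c00401a, nat_lit 0x6200002a00002400a014, nat_lit 0x4a000065000069000016]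
noncomputable def YN_b7_S : List (List ℕ) := [YN_b7_S0]
noncomputable def YN_b7_defs : List ℕ := [(nat_lit 0x6000020050000200600001005000010060000000500000004000000030000000000000)]
noncomputable def YN_b7_recs : List ℕ := [(nat_lit 0x10000800007020000800008000000600008030000400008040000600008060000700008000000500007040000500007030000300007020000600007010000600005040000400006060000500006020000500005040000300005010000400003000000400004020000200004060000300004000000300003020000100003010000200002000000100002040000100002010000100001020000000000010000000000000000000000)]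
noncomputable def YN_b7_L0 : List ℕ := [nat_lit 0x100000000000500000000000900000000000700000100000b00000200000f000003000013000004, nat_lit 0x1600000200000d00000100001e00000300001200000200000800000000001700000500001b000006, nat_lit 0x1500000100001900000200002a00000400000c00000000001100000100001f000007000023000008, nat_lit 0x2100000300003100000400001d00000100003600000500004e000007000026000004000010000000, nat_lit 0x2d000004000032000003000029000002000042000006000062000008000014000000000025000003, nat_lit 0x5600000700004500000600003900000500005200000700003500000300003e000006000018000001, nat_lit 0x6600000800004600000500004a00000700005e00000800004100000400001c00000100003d000005, nat_lit 0x5500000500006d00000800004900000600004d00000300005100000500005a000008000020000002, nat_lit 0x6500000600006e00000700006900000800006100000400005d000006000024000002000059000007]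
noncomputable def YN_b7_L : List (List ℕ) := [YN_b7_L0]
noncomputable def YN_b7_V : List ℕ := [(nat_lit 0x80000000700000006000000050000000400000003000000020000000100000000)]
noncomputable def YN_b7_D : H26.Dag := ⟨[0,1,2,4,3,6,5], [[0,0],
  [1,1],
  [2,2],
  [3,4],
  [4,3],
  [5,6],
  [6,5],
  [3,3,3],
  [5,5,5],
  [3,0,3,0],
  [6,2,3,2],
  [1,2,0,2],
  [6,4,5,3],
  [6,0,5,0],
  [4,1,3,1]], [0,1,2], YN_b7_defs, YN_b7_recs⟩
theorem YN_b7_c : YN_b7_D.checkTab YN_b7_S 9 7 YN_b7_V YN_b7_L = true := by decide +kernel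
theorem YN_b7 : Bound YN_Rl 7 72 :=
  bound_dag YN_b3 (K := 7) (J := [0,1,2,3,4,5,6,11,12,13,14,15,16,18,19]) (by decide +kernel) YN_b7_c (by decide +kernel)
noncomputable def YN_b8_S0 : List ℕ := [nat_lit 0x1, nat_lit 0x1, nat_lit 0x1, nat_lit 0x1, nat_lit 0x1, nat_lit 0x1700001300000f00000b00000700000d000001000008014020, nat_lit 0xf00000b00001500001700c014, nat_lit 0x1a000018000000, nat_lit 0x1a00001300000e, nat_lit 0x1d00002100001e008022, nat_lit 0xb000007000001000008008022, nat_lit 0x2900000b000000, nat_lit 0x29000010000006, nat_lit 0x31000015004010, nat_lit 0x7000005000008008024, nat_lit 0x3100003900003200c01e, nat_lit 0x1600003900001500401e, nat_lit 0x2300001f00001b00003900000700001100000500000801c026, nat_lit 0x1b000045008012, nat_lit 0x4600002d00004500401c, nat_lit 0x4a00004d00004900401c, nat_lit 0x2f00002b00002700004d00004600000700000100000e00000100000900000e00000100000800002d00003200001e000041024028, nat_lit 0x1b00001500005500201a,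 nat_lit 0x1600002d00000700000100000e00000100000500001200000800002d00003200001e00005500002f00002b00002700004d044028, nat_lit 0x4a00005d000035004016, nat_lit 0x4500005d000016002016, nat_lit 0x2400005d00001d000061004018, nat_lit 0x69000024000002, nat_lit 0x6900001f00000e, nat_lit 0x6d00007100006e00c024, nat_lit 0x2700006d00005a00401e, nat_lit 0x5900004a00002800801a, nat_lit 0x7d000056004012, nat_lit 0x2700005d00008100a016, nat_lit 0x1e00008100002c00001c, nat_lit 0x8200003500008a00401a, nat_lit 0x8d000027006010, nat_lit 0x8d00008500007d00a016, nat_lit 0x3300002c00008d00002c00008900002100001e00001600002d00006500003200001e00002500001d00003600001d00003d024028, nat_lit 0x8900009900a012, nat_lit 0x1b00003200009900c01a, nat_lit 0x5600003500009900201a, nat_lit 0x5600001d00009900c01c, nat_lit 0x8900002100003d00009900003300007a00007e000034016026, nat_lit 0x9a0000610000a2002016]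
noncomputable def YN_b8_S : List (List ℕ) := [YN_b8_S0]
noncomputable def YN_b8_defs : List ℕ := [(nat_lit 0x7000090070000a0000000900400008001000070070000600500001000000040070000300300002000000010070000000000000)]
noncomputable def YN_b8_recs : List ℕ := [(nat_lit 0x20000c0000c010000c0000a000000c0000b040000c0000b030000c00006060000c0000a06000030000c020000b0000a04000080000a040000a00009060000a0000302000090000905000050000905000090000b010000b00009070000800008070000600006010000800006ff0000600007020000100001020000300006020000800005040000b0000606000050000b000000600006000000800008050000800006050000100008010000500005010000300003010000100001030000500003030000300001000000100001ff0000100002070000500005070000300003000000500003ff0000400003030000100005050000000000030000000000020000000000010000000000000000000000)]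
noncomputable def YN_b8_L0 : List ℕ := [nat_lit 0x100000000000500000000000900000000000d00000000000e000000000011000000000012000000000007000001, nat_lit 0x2d00000100003900000100006500000100003100000200001600000300001b000004000046000005000008000000, nat_lit 0x1d00000300003d00000200006200000400003500000300003200000100009a000009000089000007000021000002, nat_lit 0x1e00000200004100000300005d000005000015000001000036000002000056000008000082000006000025000003, nat_lit 0x5100000400006d0000050000610000020000a100000900005900000800004900000500001c000001000071000004, nat_lit 0x4d00000500006e00000400005e00000300009200000700002700000600004500000100004a000004000075000005, nat_lit 0x2b00000700007900000800008500000600002800000500008d00000700008100000300007e000008000033000009, nat_lit 0x2c0000060000ad00000900009500000800008e00000600009100000500008a00000200009d00000900002f000008, nat_lit 0xa900000900007a00000600009600000700005a0000040000a500000900007d000006000055000003000030000007,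 nat_lit 0xaa0000080000ae0000070000b10000090000a60000080000a200000400009e000007000099000002000034000006]
noncomputable def YN_b8_L : List (List ℕ) := [YN_b8_L0]
noncomputable def YN_b8_V : List ℕ := [(nat_lit 0xc0000000b0000000a00000009000000080000000600000005000000030000000100000000)]
noncomputable def YN_b8_D : H26.Dag := ⟨[0,1,2,4,3,6,5,7], [[0,0],
  [1,1],
  [2,2],
  [3,4],
  [4,3],
  [5,6],
  [6,5],
  [7,7],
  [3,3,3],
  [5,5,5],
  [3,0,3,0],
  [6,2,3,2],
  [1,2,0,2],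
  [6,4,5,3],
  [6,0,5,0],
  [4,1,3,1],
  [7,0,3,7,0,3,7,0,3],
  [7,0,7,0],
  [1,7,1,7],
  [1,5,7,1,5,7,1,5,7],
  [0,4,0,7,6,0,4,0,7,6,1,0,4,0,7,0,4,2]], [0,1,2,3,4,5,6], YN_b8_defs, YN_b8_recs⟩
theorem YN_b8_c : YN_b8_D.checkTab YN_b8_S 10 8 YN_b8_V YN_b8_L = true := by decide +kernel
theorem YN_b8 : Bound YN_Rl 8 720 :=
  bound_dag YN_b7 (K := 8) (J := [0,1,2,3,4,5,6,7,11,12,13,14,15,16,18,19,20,21,22,23,24]) (by decide +kernel) YN_b8_c (by decide +kernel)
noncomputable def YN_b9_S0 : List ℕ := [nat_lit 0x1, nat_lit 0x1, nat_lit 0x1, nat_lit 0x1, nat_lit 0x1, nat_lit 0x1, nat_lit 0x700000e000008008016, nat_lit 0x7000001000008008018, nat_lit 0x700000900000800801a, nat_lit 0x700001500000800801c, nat_lit 0x21000019000021000012, nat_lit 0x2100001d000021000014]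
noncomputable def YN_b9_S : List (List ℕ) := [YN_b9_S0]
noncomputable def YN_b9_defs : List ℕ := [(nat_lit 0x80000000000000)]
noncomputable def YN_b9_recs : List ℕ := [(nat_lit 0x10000100001060000100001070000100001020000100001000000100001030000100001070000000000050000000000030000000000020000000000010000000000000000000000)]
noncomputable def YN_b9_L0 : List ℕ := [nat_lit 0x100000000000500000000000900000000000d00000000000e000000000011000000000012000000000015000000000007000001, nat_lit 0x1d00000100002d00000100002100000100001900000100001a00000100002a000001000029000001000025000001000008000000]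
noncomputable def YN_b9_L : List (List ℕ) := [YN_b9_L0]
noncomputable def YN_b9_V : List ℕ := [(nat_lit 0x100000000)]
noncomputable def YN_b9_D : H26.Dag := ⟨[0,1,2,4,3,6,5,7,8], [[0,0],
  [1,1],
  [2,2],
  [3,4],
  [4,3],
  [5,6],
  [6,5],
  [7,7],
  [8,8],
  [6,2,3,2],
  [1,2,0,2],
  [4,8,3,8],
  [0,8,0,8],
  [2,8,2,8],
  [7,8,7,8]], [0,1,2,3,4,5,6,7], YN_b9_defs, YN_b9_recs⟩
theorem YN_b9_c : YN_b9_D.checkTab YN_b9_S 2 9 YN_b9_V YN_b9_L = true := by decide +kernel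
theorem YN_b9 : Bound YN_Rl 9 1440 :=
  bound_dag YN_b8 (K := 9) (J := [0,1,2,3,4,5,6,7,8,14,15,31,32,33,34]) (by decide +kernel) YN_b9_c (by decide +kernel)
noncomputable def YN_b11_S0 : List ℕ := [nat_lit 0x1, nat_lit 0x1, nat_lit 0x1, nat_lit 0x1, nat_lit 0x1, nat_lit 0x1, nat_lit 0x1, nat_lit 0x700000d00000800001e, nat_lit 0x7000001000008000020, nat_lit 0x7000009000008000022, nat_lit 0x7000015000008000024, nat_lit 0x2500001e000025000016, nat_lit 0x25000021000025000018, nat_lit 0xb00000800601a, nat_lit 0xb00001900000800a01c, nat_lit 0xb00000e00000c00801e, nat_lit 0xb00000100000c008020, nat_lit 0xb00000900000c008022, nat_lit 0xb00001500000c008024, nat_lit 0x4500003d000045000016, nat_lit 0x45000041000045000018]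
noncomputable def YN_b11_S : List (List ℕ) := [YN_b11_S0]
noncomputable def YN_b11_defs : List ℕ := [(nat_lit 0xa000000090000000000000)]
noncomputable def YN_b11_recs : List ℕ := [(nat_lit 0x100002000020600002000020700002000020200002000020000002000020300002000020800001000020a0000100002010000100001060000100001070000100001020000100001000000100001040000100001080000000000070000000000050000000000030000000000020000000000010000000000000000000000)]
noncomputable def YN_b11_L0 : List ℕ := [nat_lit 0x100000000000500000000000900000000000d00000000000e00000000001100000000001200000000001500000000001900000000000700000100000b000002, nat_lit 0x2100000100003100000100002500000100001e00000100001d00000100002e00000100002d00000100002900000100003a000002000036000002000008000000, nat_lit 0x4100000200005100000200004500000200003d00000200003e00000200004e00000200004d00000200004900000200003900000100000c000000000035000001]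
noncomputable def YN_b11_L : List (List ℕ) := [YN_b11_L0]
noncomputable def YN_b11_V : List ℕ := [(nat_lit 0x20000000100000000)]
noncomputable def YN_b11_D : H26.Dag := ⟨[0,1,2,4,3,6,5,7,8,10,9], [[0,0],
  [1,1],
  [2,2],
  [3,4],
  [4,3],
  [5,6],
  [6,5],
  [7,7],
  [8,8],
  [9,10],
  [10,9],
  [6,2,3,2],
  [1,2,0,2],
  [9,9,9],
  [9,8,9,8],
  [4,10,3,9],
  [0,10,0,9],
  [2,10,2,9],
  [7,10,7,9]], [0,1,2,3,4,5,6,7,8], YN_b11_defs, YN_b11_recs⟩
theorem YN_b11_c : YN_b11_D.checkTab YN_b11_S 3 11 YN_b11_V YN_b11_L = true := by decide +kernel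
theorem YN_b11 : Bound YN_Rl 11 4320 :=
  bound_dag YN_b9 (K := 11) (J := [0,1,2,3,4,5,6,7,8,9,10,14,15,25,26,27,28,29,30]) (by decide +kernel) YN_b11_c (by decide +kernel)
theorem YN_P : PModel (nat_lit 9) (nat_lit 4) (nat_lit 15) (nat_lit 0x876543210) YN_cs YN_Rl YN_L 4320 :=
  ⟨PkOK.of (by decide +kernel), by decide +kernel, by decide +kernel, YN_b11, ⟨YN_WW, by decide +kernel⟩,
    ⟨fun c => Nat.mod c (nat_lit 237548), by decide +kernel⟩⟩
noncomputable def YN_soc_t0 : ST := (.node (nat_lit 881556) (.node (nat_lit 443730) (.node (nat_lit 206953) (.node (nat_lit 104572) (.node (nat_lit 54892) (.node (nat_lit 26029) (.node (nat_lit 13456) (.node (nat_lit 7830) (.node (nat_lit 5389) (.node (nat_lit 2774) (.node (nat_lit 1227) (.leaf (nat_lit 0)) (.leaf (nat_lit 2160))) (.node (nat_lit 3707) (.leaf (nat_lit 2)) (.node (nat_lit 3874) (.leaf (nat_lit 1287)) (.leaf (nat_lit 2160))))) (.node (nat_lit 7533) (.node (nat_lit 5900) (.leaf (nat_lit 8)) (.node (nat_lit 6036) (.leaf (nat_lit 2)) (.leaf (nat_lit 0)))) (.node (nat_lit 7647) (.leaf (nat_lit 2160)) (.node (nat_lit 7761) (.leaf (nat_lit 1287)) (.leaf (nat_lit 2160)))))) (.node (nat_lit 11016) (.node (nat_lit 8393) (.node (nat_lit 8272) (.leaf (nat_lit 0)) (.leaf (nat_lit 2160))) (.node (nat_lit 9669) (.leaf (nat_lit 0)) (.node (nat_lit 10877) (.leaf (nat_lit 2160)) (.leaf (nat_lit 0))))) (.node (nat_lit 12006) (.node (nat_lit 11367) (.leaf (nat_lit 248)) (.node (nat_lit 11963) (.leaf (nat_lit 0)) (.leaf (nat_lit 121)))) (.node (nat_lit 12510) (.leaf (nat_lit 0)) (.node (nat_lit 13242) (.leaf (nat_lit 1271)) (.leaf (nat_lit 0))))))) (.node (nat_lit 19479) (.node (nat_lit 15593) (.node (nat_lit 14020) (.node (nat_lit 14003) (.leaf (nat_lit 2160)) (.leaf (nat_lit 0))) (.node (nat_lit 15176) (.leaf (nat_lit 2160)) (.node (nat_lit 15511) (.leaf (nat_lit 0)) (.leaf (nat_lit 2160))))) (.node (nat_lit 18312) (.node (nat_lit 16547) (.leaf (nat_lit 2)) (.node (nat_lit 16746) (.leaf (nat_lit 0)) (.leaf (nat_lit 55)))) (.node (nat_lit 18329) (.leaf (nat_lit 0)) (.node (nat_lit 18573) (.leaf (nat_lit 2160)) (.leaf (nat_lit 0)))))) (.node (nat_lit 21987) (.node (nat_lit 20104) (.node (nat_lit 20017) (.leaf (nat_lit 2160)) (.leaf (nat_lit 0))) (.node (nat_lit 20512) (.leaf (nat_lit 248)) (.node (nat_lit 21873) (.leaf (nat_lit 2160)) (.leaf (nat_lit 1369))))) (.node (nat_lit 24082) (.node (nat_lit 22066) (.leaf (nat_lit 2160)) (.node (nat_lit 23982) (.leaf (nat_lit 0)) (.leaf (nat_lit 8)))) (.node (nat_lit 24280) (.leaf (nat_lit 2160)) (.node (nat_lit 24352) (.leaf (nat_lit 0)) (.leaf (nat_lit 2160)))))))) (.node (nat_lit 43653) (.node (nat_lit 33696) (.node (nat_lit 31084) (.node (nat_lit 26321) (.node (nat_lit 26240) (.leaf (nat_lit 0)) (.leaf (nat_lit 1287))) (.node (nat_lit 26540) (.leaf (nat_lit 1201)) (.node (nat_lit 31027) (.leaf (nat_lit 0)) (.leaf (nat_lit 2160))))) (.node (nat_lit 31526) (.node (nat_lit 31116) (.leaf (nat_lit 0)) (.node (nat_lit 31499) (.leaf (nat_lit 2160)) (.leaf (nat_lit 1273)))) (.node (nat_lit 32085) (.leaf (nat_lit 2160)) (.node (nat_lit 33663) (.leaf (nat_lit 0)) (.leaf (nat_lit 2160)))))) (.node (nat_lit 38869) (.node (nat_lit 35811) (.node (nat_lit 34185) (.leaf (nat_lit 8)) (.leaf (nat_lit 2160))) (.node (nat_lit 36346) (.leaf (nat_lit 1375)) (.node (nat_lit 37494) (.leaf (nat_lit 2160)) (.leaf (nat_lit 8))))) (.node (nat_lit 42845) (.node (nat_lit 39955) (.leaf (nat_lit 0)) (.node (nat_lit 41778) (.leaf (nat_lit 121)) (.leaf (nat_lit 0)))) (.node (nat_lit 42873) (.leaf (nat_lit 2160)) (.node (nat_lit 43074) (.leaf (nat_lit 0)) (.leaf (nat_lit 2160))))))) (.node (nat_lit 47947) (.node (nat_lit 45802) (.node (nat_lit 44217) (.node (nat_lit 44096) (.leaf (nat_lit 0)) (.leaf (nat_lit 2160))) (.node (nat_lit 44889) (.leaf (nat_lit 0)) (.node (nat_lit 45084) (.leaf (nat_lit 2160)) (.leaf (nat_lit 295))))) (.node (nat_lit 46160) (.node (nat_lit 46019) (.leaf (nat_lit 1369)) (.node (nat_lit 46081) (.leaf (nat_lit 0)) (.leaf (nat_lit 2160)))) (.node (nat_lit 47075) (.leaf (nat_lit 0)) (.node (nat_lit 47190) (.leaf (nat_lit 1287)) (.leaf (nat_lit 0)))))) (.node (nat_lit 49818) (.node (nat_lit 49186) (.node (nat_lit 48668) (.leaf (nat_lit 2160)) (.node (nat_lit 49051) (.leaf (nat_lit 0)) (.leaf (nat_lit 2)))) (.node (nat_lit 49234) (.leaf (nat_lit 2160)) (.node (nat_lit 49319) (.leaf (nat_lit 0)) (.leaf (nat_lit 1328))))) (.node (nat_lit 52298) (.node (nat_lit 50533) (.leaf (nat_lit 0)) (.node (nat_lit 50598) (.leaf (nat_lit 1375)) (.leaf (nat_lit 0)))) (.node (nat_lit 52970) (.leaf (nat_lit 2160)) (.node (nat_lit 53032) (.leaf (nat_lit 1287)) (.leaf (nat_lit 0))))))))) (.node (nat_lit 79034) (.node (nat_lit 66239) (.node (nat_lit 59490) (.node (nat_lit 56929) (.node (nat_lit 54992) (.node (nat_lit 54942) (.leaf (nat_lit 2160)) (.leaf (nat_lit 49))) (.node (nat_lit 55102) (.leaf (nat_lit 2160)) (.node (nat_lit 56336) (.leaf (nat_lit 0)) (.leaf (nat_lit 2160))))) (.node (nat_lit 58212) (.node (nat_lit 57629) (.leaf (nat_lit 1287)) (.node (nat_lit 57989) (.leaf (nat_lit 2160)) (.leaf (nat_lit 1369)))) (.node (nat_lit 58268) (.leaf (nat_lit 49)) (.node (nat_lit 58893) (.leaf (nat_lit 2160)) (.leaf (nat_lit 55)))))) (.node (nat_lit 60929) (.node (nat_lit 60223) (.node (nat_lit 59519) (.leaf (nat_lit 1141)) (.leaf (nat_lit 0))) (.node (nat_lit 60344) (.leaf (nat_lit 2160)) (.node (nat_lit 60787) (.leaf (nat_lit 0)) (.leaf (nat_lit 2160))))) (.node (nat_lit 62613) (.node (nat_lit 61156) (.leaf (nat_lit 1407)) (.node (nat_lit 62478) (.leaf (nat_lit 2160)) (.leaf (nat_lit 193)))) (.node (nat_lit 63832) (.leaf (nat_lit 0)) (.node (nat_lit 64574) (.leaf (nat_lit 121)) (.leaf (nat_lit 2160))))))) (.node (nat_lit 72762) (.node (nat_lit 68894) (.node (nat_lit 67154) (.node (nat_lit 66540) (.leaf (nat_lit 0)) (.leaf (nat_lit 2160))) (.node (nat_lit 67221) (.leaf (nat_lit 8)) (.node (nat_lit 68508) (.leaf (nat_lit 2160)) (.leaf (nat_lit 0))))) (.node (nat_lit 70441) (.node (nat_lit 69097) (.leaf (nat_lit 2160)) (.node (nat_lit 69447) (.leaf (nat_lit 49)) (.leaf (nat_lit 2160)))) (.node (nat_lit 70541) (.leaf (nat_lit 1287)) (.node (nat_lit 72463) (.leaf (nat_lit 55)) (.leaf (nat_lit 2160)))))) (.node (nat_lit 75256) (.node (nat_lit 73750) (.node (nat_lit 73256) (.leaf (nat_lit 0)) (.node (nat_lit 73577) (.leaf (nat_lit 2160)) (.leaf (nat_lit 49)))) (.node (nat_lit 74589) (.leaf (nat_lit 0)) (.node (nat_lit 74959) (.leaf (nat_lit 2)) (.leaf (nat_lit 2160))))) (.node (nat_lit 77486) (.node (nat_lit 75981) (.leaf (nat_lit 0)) (.node (nat_lit 77200) (.leaf (nat_lit 2160)) (.leaf (nat_lit 0)))) (.node (nat_lit 78080) (.leaf (nat_lit 55)) (.node (nat_lit 78305) (.leaf (nat_lit 0)) (.leaf (nat_lit 2160)))))))) (.node (nat_lit 93452) (.node (nat_lit 85489) (.node (nat_lit 83158) (.node (nat_lit 80748) (.node (nat_lit 80652) (.leaf (nat_lit 0)) (.leaf (nat_lit 1322))) (.node (nat_lit 81452) (.leaf (nat_lit 0)) (.node (nat_lit 81691) (.leaf (nat_lit 2160)) (.leaf (nat_lit 0))))) (.node (nat_lit 84635) (.node (nat_lit 83260) (.leaf (nat_lit 55)) (.node (nat_lit 84346) (.leaf (nat_lit 0)) (.leaf (nat_lit 59)))) (.node (nat_lit 84704) (.leaf (nat_lit 0)) (.node (nat_lit 84881) (.leaf (nat_lit 49)) (.leaf (nat_lit 2160)))))) (.node (nat_lit 89372) (.node (nat_lit 87739) (.node (nat_lit 87375) (.leaf (nat_lit 0)) (.leaf (nat_lit 2160))) (.node (nat_lit 87939) (.leaf (nat_lit 1375)) (.node (nat_lit 89034) (.leaf (nat_lit 2160)) (.leaf (nat_lit 1287))))) (.node (nat_lit 91785) (.node (nat_lit 91227) (.leaf (nat_lit 2160)) (.node (nat_lit 91737) (.leaf (nat_lit 2)) (.leaf (nat_lit 2160)))) (.node (nat_lit 93041) (.leaf (nat_lit 0)) (.node (nat_lit 93370) (.leaf (nat_lit 2160)) (.leaf (nat_lit 1139))))))) (.node (nat_lit 97897) (.node (nat_lit 95589) (.node (nat_lit 93781) (.node (nat_lit 93456) (.leaf (nat_lit 2160)) (.leaf (nat_lit 0))) (.node (nat_lit 93907) (.leaf (nat_lit 2160)) (.node (nat_lit 94192) (.leaf (nat_lit 55)) (.leaf (nat_lit 2160))))) (.node (nat_lit 96202) (.node (nat_lit 95693) (.leaf (nat_lit 49)) (.node (nat_lit 96100) (.leaf (nat_lit 0)) (.leaf (nat_lit 1287)))) (.node (nat_lit 96332) (.leaf (nat_lit 1407)) (.node (nat_lit 97861) (.leaf (nat_lit 0)) (.leaf (nat_lit 2160)))))) (.node (nat_lit 100729) (.node (nat_lit 99193) (.node (nat_lit 99065) (.leaf (nat_lit 0)) (.node (nat_lit 99133) (.leaf (nat_lit 2160)) (.leaf (nat_lit 0)))) (.node (nat_lit 99569) (.leaf (nat_lit 2160)) (.node (nat_lit 99858) (.leaf (nat_lit 49)) (.leaf (nat_lit 2160))))) (.node (nat_lit 103556) (.node (nat_lit 100756) (.leaf (nat_lit 1369)) (.node (nat_lit 102352) (.leaf (nat_lit 228)) (.leaf (nat_lit 2160)))) (.node (nat_lit 104114) (.leaf (nat_lit 8)) (.node (nat_lit 104410) (.leaf (nat_lit 0)) (.leaf (nat_lit 8)))))))))) (.node (nat_lit 162356) (.node (nat_lit 129604) (.node (nat_lit 117672) (.node (nat_lit 110540) (.node (nat_lit 105781) (.node (nat_lit 105170) (.node (nat_lit 104921) (.leaf (nat_lit 0)) (.leaf (nat_lit 2))) (.node (nat_lit 105667) (.leaf (nat_lit 55)) (.node (nat_lit 105681) (.leaf (nat_lit 0)) (.leaf (nat_lit 49))))) (.node (nat_lit 108875) (.node (nat_lit 106207) (.leaf (nat_lit 2160)) (.node (nat_lit 107536) (.leaf (nat_lit 0)) (.leaf (nat_lit 8)))) (.node (nat_lit 109445) (.leaf (nat_lit 2160)) (.node (nat_lit 110284) (.leaf (nat_lit 0)) (.leaf (nat_lit 8)))))) (.node (nat_lit 114770) (.node (nat_lit 111591) (.node (nat_lit 111252) (.leaf (nat_lit 0)) (.leaf (nat_lit 2160))) (.node (nat_lit 112274) (.leaf (nat_lit 0)) (.node (nat_lit 114657) (.leaf (nat_lit 2160)) (.leaf (nat_lit 1187))))) (.node (nat_lit 115764) (.node (nat_lit 114849) (.leaf (nat_lit 2160)) (.node (nat_lit 115668) (.leaf (nat_lit 0)) (.leaf (nat_lit 1401)))) (.node (nat_lit 116094) (.leaf (nat_lit 1287)) (.node (nat_lit 116846) (.leaf (nat_lit 2160)) (.leaf (nat_lit 0))))))) (.node (nat_lit 122237) (.node (nat_lit 120012) (.node (nat_lit 117804) (.node (nat_lit 117786) (.leaf (nat_lit 55)) (.leaf (nat_lit 2160))) (.node (nat_lit 118339) (.leaf (nat_lit 193)) (.node (nat_lit 118536) (.leaf (nat_lit 2160)) (.leaf (nat_lit 0))))) (.node (nat_lit 121559) (.node (nat_lit 120459) (.leaf (nat_lit 2160)) (.node (nat_lit 120693) (.leaf (nat_lit 0)) (.leaf (nat_lit 2160)))) (.node (nat_lit 121726) (.leaf (nat_lit 2)) (.node (nat_lit 121858) (.leaf (nat_lit 2160)) (.leaf (nat_lit 49)))))) (.node (nat_lit 126104) (.node (nat_lit 125296) (.node (nat_lit 122816) (.leaf (nat_lit 2160)) (.node (nat_lit 123763) (.leaf (nat_lit 0)) (.leaf (nat_lit 55)))) (.node (nat_lit 125460) (.leaf (nat_lit 2160)) (.node (nat_lit 125795) (.leaf (nat_lit 0)) (.leaf (nat_lit 2160))))) (.node (nat_lit 128883) (.node (nat_lit 126446) (.leaf (nat_lit 0)) (.node (nat_lit 127876) (.leaf (nat_lit 2160)) (.leaf (nat_lit 49)))) (.node (nat_lit 128912) (.leaf (nat_lit 1151)) (.node (nat_lit 129033) (.leaf (nat_lit 2160)) (.leaf (nat_lit 0)))))))) (.node (nat_lit 142344) (.node (nat_lit 137029) (.node (nat_lit 132699) (.node (nat_lit 130897) (.node (nat_lit 130225) (.leaf (nat_lit 2160)) (.leaf (nat_lit 0))) (.node (nat_lit 131302) (.leaf (nat_lit 2160)) (.node (nat_lit 132241) (.leaf (nat_lit 0)) (.leaf (nat_lit 2160))))) (.node (nat_lit 134935) (.node (nat_lit 133202) (.leaf (nat_lit 0)) (.node (nat_lit 133210) (.leaf (nat_lit 1375)) (.leaf (nat_lit 0)))) (.node (nat_lit 136013) (.leaf (nat_lit 2160)) (.node (nat_lit 136524) (.leaf (nat_lit 49)) (.leaf (nat_lit 1287)))))) (.node (nat_lit 139286) (.node (nat_lit 137681) (.node (nat_lit 137275) (.leaf (nat_lit 0)) (.leaf (nat_lit 55))) (.node (nat_lit 138047) (.leaf (nat_lit 0)) (.node (nat_lit 138300) (.leaf (nat_lit 2160)) (.leaf (nat_lit 0))))) (.node (nat_lit 141152) (.node (nat_lit 140493) (.leaf (nat_lit 2160)) (.node (nat_lit 140658) (.leaf (nat_lit 49)) (.leaf (nat_lit 1369)))) (.node (nat_lit 141344) (.leaf (nat_lit 2160)) (.node (nat_lit 141451) (.leaf (nat_lit 2)) (.leaf (nat_lit 0))))))) (.node (nat_lit 151032) (.node (nat_lit 144159) (.node (nat_lit 142924) (.node (nat_lit 142767) (.leaf (nat_lit 2160)) (.leaf (nat_lit 8))) (.node (nat_lit 143137) (.leaf (nat_lit 0)) (.node (nat_lit 143414) (.leaf (nat_lit 2160)) (.leaf (nat_lit 0))))) (.node (nat_lit 149800) (.node (nat_lit 144514) (.leaf (nat_lit 2160)) (.node (nat_lit 144867) (.leaf (nat_lit 49)) (.leaf (nat_lit 0)))) (.node (nat_lit 150380) (.leaf (nat_lit 2160)) (.node (nat_lit 150834) (.leaf (nat_lit 0)) (.leaf (nat_lit 2160)))))) (.node (nat_lit 153746) (.node (nat_lit 153048) (.node (nat_lit 151198) (.leaf (nat_lit 0)) (.node (nat_lit 151551) (.leaf (nat_lit 2)) (.leaf (nat_lit 0)))) (.node (nat_lit 153127) (.leaf (nat_lit 2160)) (.node (nat_lit 153570) (.leaf (nat_lit 0)) (.leaf (nat_lit 2160))))) (.node (nat_lit 158894) (.node (nat_lit 155707) (.leaf (nat_lit 0)) (.node (nat_lit 156282) (.leaf (nat_lit 2160)) (.leaf (nat_lit 0)))) (.node (nat_lit 160052) (.leaf (nat_lit 1287)) (.node (nat_lit 161859) (.leaf (nat_lit 0)) (.leaf (nat_lit 2160))))))))) (.node (nat_lit 184741) (.node (nat_lit 172401) (.node (nat_lit 167346) (.node (nat_lit 163949) (.node (nat_lit 162881) (.node (nat_lit 162505) (.leaf (nat_lit 0)) (.leaf (nat_lit 49))) (.node (nat_lit 162894) (.leaf (nat_lit 2160)) (.node (nat_lit 163151) (.leaf (nat_lit 295)) (.leaf (nat_lit 2160))))) (.node (nat_lit 166371) (.node (nat_lit 164249) (.leaf (nat_lit 55)) (.node (nat_lit 165246) (.leaf (nat_lit 0)) (.leaf (nat_lit 2160)))) (.node (nat_lit 166721) (.leaf (nat_lit 8)) (.node (nat_lit 166929) (.leaf (nat_lit 2160)) (.leaf (nat_lit 0)))))) (.node (nat_lit 169318) (.node (nat_lit 167754) (.node (nat_lit 167419) (.leaf (nat_lit 8)) (.leaf (nat_lit 0))) (.node (nat_lit 167836) (.leaf (nat_lit 2160)) (.node (nat_lit 168904) (.leaf (nat_lit 2)) (.leaf (nat_lit 2160))))) (.node (nat_lit 170712) (.node (nat_lit 169961) (.leaf (nat_lit 1375)) (.node (nat_lit 170472) (.leaf (nat_lit 0)) (.leaf (nat_lit 8)))) (.node (nat_lit 171722) (.leaf (nat_lit 55)) (.node (nat_lit 171755) (.leaf (nat_lit 2160)) (.leaf (nat_lit 1287))))))) (.node (nat_lit 177564) (.node (nat_lit 174370) (.node (nat_lit 172924) (.node (nat_lit 172702) (.leaf (nat_lit 0)) (.leaf (nat_lit 2160))) (.node (nat_lit 173213) (.leaf (nat_lit 1322)) (.node (nat_lit 173887) (.leaf (nat_lit 2160)) (.leaf (nat_lit 0))))) (.node (nat_lit 176225) (.node (nat_lit 174385) (.leaf (nat_lit 49)) (.node (nat_lit 175224) (.leaf (nat_lit 0)) (.leaf (nat_lit 49)))) (.node (nat_lit 176542) (.leaf (nat_lit 8)) (.node (nat_lit 177034) (.leaf (nat_lit 2160)) (.leaf (nat_lit 0)))))) (.node (nat_lit 179472) (.node (nat_lit 178679) (.node (nat_lit 178168) (.leaf (nat_lit 2160)) (.node (nat_lit 178483) (.leaf (nat_lit 49)) (.leaf (nat_lit 1287)))) (.node (nat_lit 178961) (.leaf (nat_lit 0)) (.node (nat_lit 179237) (.leaf (nat_lit 2160)) (.leaf (nat_lit 0))))) (.node (nat_lit 182884) (.node (nat_lit 180887) (.leaf (nat_lit 2160)) (.node (nat_lit 182666) (.leaf (nat_lit 0)) (.leaf (nat_lit 2160)))) (.node (nat_lit 183359) (.leaf (nat_lit 0)) (.node (nat_lit 184568) (.leaf (nat_lit 2160)) (.leaf (nat_lit 0)))))))) (.node (nat_lit 195843) (.node (nat_lit 191110) (.node (nat_lit 188898) (.node (nat_lit 185484) (.node (nat_lit 185270) (.leaf (nat_lit 1407)) (.leaf (nat_lit 0))) (.node (nat_lit 186203) (.leaf (nat_lit 2160)) (.node (nat_lit 188589) (.leaf (nat_lit 0)) (.leaf (nat_lit 2160))))) (.node (nat_lit 190248) (.node (nat_lit 189153) (.leaf (nat_lit 0)) (.node (nat_lit 190126) (.leaf (nat_lit 2160)) (.leaf (nat_lit 1369)))) (.node (nat_lit 190357) (.leaf (nat_lit 2)) (.node (nat_lit 190762) (.leaf (nat_lit 2160)) (.leaf (nat_lit 0)))))) (.node (nat_lit 192509) (.node (nat_lit 191337) (.node (nat_lit 191198) (.leaf (nat_lit 289)) (.leaf (nat_lit 1139))) (.node (nat_lit 191623) (.leaf (nat_lit 2160)) (.node (nat_lit 191848) (.leaf (nat_lit 0)) (.leaf (nat_lit 2160))))) (.node (nat_lit 193744) (.node (nat_lit 193374) (.leaf (nat_lit 0)) (.node (nat_lit 193531) (.leaf (nat_lit 2)) (.leaf (nat_lit 0)))) (.node (nat_lit 194021) (.leaf (nat_lit 2160)) (.node (nat_lit 194766) (.leaf (nat_lit 0)) (.leaf (nat_lit 2160))))))) (.node (nat_lit 200008) (.node (nat_lit 198324) (.node (nat_lit 196897) (.node (nat_lit 196271) (.leaf (nat_lit 0)) (.leaf (nat_lit 55))) (.node (nat_lit 197813) (.leaf (nat_lit 0)) (.node (nat_lit 198057) (.leaf (nat_lit 2160)) (.leaf (nat_lit 0))))) (.node (nat_lit 199318) (.node (nat_lit 198403) (.leaf (nat_lit 2160)) (.node (nat_lit 199075) (.leaf (nat_lit 0)) (.leaf (nat_lit 2160)))) (.node (nat_lit 199437) (.leaf (nat_lit 1287)) (.node (nat_lit 199489) (.leaf (nat_lit 1322)) (.leaf (nat_lit 73)))))) (.node (nat_lit 203312) (.node (nat_lit 202930) (.node (nat_lit 200987) (.leaf (nat_lit 2160)) (.node (nat_lit 202544) (.leaf (nat_lit 0)) (.leaf (nat_lit 2160)))) (.node (nat_lit 203080) (.leaf (nat_lit 0)) (.node (nat_lit 203144) (.leaf (nat_lit 289)) (.leaf (nat_lit 2160))))) (.node (nat_lit 206302) (.node (nat_lit 205110) (.leaf (nat_lit 1151)) (.node (nat_lit 205328) (.leaf (nat_lit 2160)) (.leaf (nat_lit 0)))) (.node (nat_lit 206382) (.leaf (nat_lit 2160)) (.node (nat_lit 206889) (.leaf (nat_lit 1322)) (.leaf (nat_lit 0))))))))))) (.node (nat_lit 333130) (.node (nat_lit 268211) (.node (nat_lit 238815) (.node (nat_lit 227149) (.node (nat_lit 212977) (.node (nat_lit 210591) (.node (nat_lit 207993) (.node (nat_lit 207661) (.leaf (nat_lit 2160)) (.leaf (nat_lit 0))) (.node (nat_lit 210033) (.leaf (nat_lit 1427)) (.node (nat_lit 210511) (.leaf (nat_lit 2)) (.leaf (nat_lit 2160))))) (.node (nat_lit 211809) (.node (nat_lit 211122) (.leaf (nat_lit 0)) (.node (nat_lit 211136) (.leaf (nat_lit 2160)) (.leaf (nat_lit 55)))) (.node (nat_lit 212566) (.leaf (nat_lit 0)) (.node (nat_lit 212805) (.leaf (nat_lit 2160)) (.leaf (nat_lit 0)))))) (.node (nat_lit 219750) (.node (nat_lit 216467) (.node (nat_lit 213826) (.leaf (nat_lit 2160)) (.leaf (nat_lit 0))) (.node (nat_lit 216996) (.leaf (nat_lit 8)) (.node (nat_lit 219514) (.leaf (nat_lit 0)) (.leaf (nat_lit 1369))))) (.node (nat_lit 225945) (.node (nat_lit 225499) (.leaf (nat_lit 0)) (.node (nat_lit 225571) (.leaf (nat_lit 2160)) (.leaf (nat_lit 0)))) (.node (nat_lit 226674) (.leaf (nat_lit 2160)) (.node (nat_lit 226832) (.leaf (nat_lit 0)) (.leaf (nat_lit 2))))))) (.node (nat_lit 233555) (.node (nat_lit 229115) (.node (nat_lit 228068) (.node (nat_lit 228010) (.leaf (nat_lit 2160)) (.leaf (nat_lit 0))) (.node (nat_lit 228171) (.leaf (nat_lit 49)) (.node (nat_lit 228796) (.leaf (nat_lit 2160)) (.leaf (nat_lit 0))))) (.node (nat_lit 232005) (.node (nat_lit 229354) (.leaf (nat_lit 2160)) (.node (nat_lit 230548) (.leaf (nat_lit 0)) (.leaf (nat_lit 2160)))) (.node (nat_lit 232162) (.leaf (nat_lit 0)) (.node (nat_lit 232480) (.leaf (nat_lit 2160)) (.leaf (nat_lit 0)))))) (.node (nat_lit 235503) (.node (nat_lit 234549) (.node (nat_lit 234263) (.leaf (nat_lit 2160)) (.leaf (nat_lit 0))) (.node (nat_lit 235127) (.leaf (nat_lit 1287)) (.node (nat_lit 235401) (.leaf (nat_lit 2160)) (.leaf (nat_lit 55))))) (.node (nat_lit 236947) (.node (nat_lit 236525) (.leaf (nat_lit 0)) (.node (nat_lit 236571) (.leaf (nat_lit 2)) (.leaf (nat_lit 2160)))) (.node (nat_lit 237024) (.leaf (nat_lit 49)) (.node (nat_lit 238243) (.leaf (nat_lit 2160)) (.leaf (nat_lit 0)))))))) (.node (nat_lit 255785) (.node (nat_lit 245231) (.node (nat_lit 243159) (.node (nat_lit 241277) (.node (nat_lit 240129) (.leaf (nat_lit 1369)) (.leaf (nat_lit 2160))) (.node (nat_lit 241369) (.leaf (nat_lit 1287)) (.node (nat_lit 242548) (.leaf (nat_lit 0)) (.leaf (nat_lit 55))))) (.node (nat_lit 244266) (.node (nat_lit 243598) (.leaf (nat_lit 2160)) (.node (nat_lit 243913) (.leaf (nat_lit 0)) (.leaf (nat_lit 49)))) (.node (nat_lit 244862) (.leaf (nat_lit 0)) (.node (nat_lit 245084) (.leaf (nat_lit 2160)) (.leaf (nat_lit 49)))))) (.node (nat_lit 251590) (.node (nat_lit 248389) (.node (nat_lit 246150) (.leaf (nat_lit 2160)) (.leaf (nat_lit 55))) (.node (nat_lit 248447) (.leaf (nat_lit 2160)) (.node (nat_lit 250314) (.leaf (nat_lit 0)) (.leaf (nat_lit 1375))))) (.node (nat_lit 253585) (.node (nat_lit 252673) (.leaf (nat_lit 2160)) (.node (nat_lit 253151) (.leaf (nat_lit 8)) (.leaf (nat_lit 2160)))) (.node (nat_lit 254117) (.leaf (nat_lit 49)) (.node (nat_lit 255717) (.leaf (nat_lit 0)) (.leaf (nat_lit 2160))))))) (.node (nat_lit 261118) (.node (nat_lit 258071) (.node (nat_lit 257413) (.node (nat_lit 257042) (.leaf (nat_lit 0)) (.leaf (nat_lit 1369))) (.node (nat_lit 257553) (.leaf (nat_lit 55)) (.node (nat_lit 257596) (.leaf (nat_lit 327)) (.leaf (nat_lit 0))))) (.node (nat_lit 259396) (.node (nat_lit 258268) (.leaf (nat_lit 2160)) (.node (nat_lit 258764) (.leaf (nat_lit 0)) (.leaf (nat_lit 2160)))) (.node (nat_lit 260129) (.leaf (nat_lit 0)) (.node (nat_lit 260687) (.leaf (nat_lit 2)) (.leaf (nat_lit 0)))))) (.node (nat_lit 265041) (.node (nat_lit 262730) (.node (nat_lit 261688) (.leaf (nat_lit 2160)) (.node (nat_lit 262433) (.leaf (nat_lit 0)) (.leaf (nat_lit 2160)))) (.node (nat_lit 263173) (.leaf (nat_lit 0)) (.node (nat_lit 263781) (.leaf (nat_lit 2160)) (.leaf (nat_lit 0))))) (.node (nat_lit 266460) (.node (nat_lit 265163) (.leaf (nat_lit 1407)) (.node (nat_lit 265724) (.leaf (nat_lit 1287)) (.leaf (nat_lit 0)))) (.node (nat_lit 266746) (.leaf (nat_lit 2160)) (.node (nat_lit 267904) (.leaf (nat_lit 0)) (.leaf (nat_lit 2160))))))))) (.node (nat_lit 304192) (.node (nat_lit 290112) (.node (nat_lit 276552) (.node (nat_lit 271833) (.node (nat_lit 269655) (.node (nat_lit 269493) (.leaf (nat_lit 0)) (.leaf (nat_lit 8))) (.node (nat_lit 271515) (.leaf (nat_lit 0)) (.node (nat_lit 271619) (.leaf (nat_lit 2160)) (.leaf (nat_lit 0))))) (.node (nat_lit 275667) (.node (nat_lit 272108) (.leaf (nat_lit 2160)) (.node (nat_lit 272936) (.leaf (nat_lit 0)) (.leaf (nat_lit 2160)))) (.node (nat_lit 275684) (.leaf (nat_lit 0)) (.node (nat_lit 276417) (.leaf (nat_lit 2160)) (.leaf (nat_lit 8)))))) (.node (nat_lit 284520) (.node (nat_lit 280914) (.node (nat_lit 279421) (.leaf (nat_lit 2160)) (.leaf (nat_lit 0))) (.node (nat_lit 281787) (.leaf (nat_lit 2160)) (.node (nat_lit 284513) (.leaf (nat_lit 0)) (.leaf (nat_lit 55))))) (.node (nat_lit 286756) (.node (nat_lit 285156) (.leaf (nat_lit 0)) (.node (nat_lit 285714) (.leaf (nat_lit 8)) (.leaf (nat_lit 0)))) (.node (nat_lit 287575) (.leaf (nat_lit 2160)) (.node (nat_lit 287631) (.leaf (nat_lit 0)) (.leaf (nat_lit 2160))))))) (.node (nat_lit 296757) (.node (nat_lit 293660) (.node (nat_lit 291697) (.node (nat_lit 290596) (.leaf (nat_lit 0)) (.leaf (nat_lit 2160))) (.node (nat_lit 293155) (.leaf (nat_lit 0)) (.node (nat_lit 293587) (.leaf (nat_lit 49)) (.leaf (nat_lit 2))))) (.node (nat_lit 295327) (.node (nat_lit 293906) (.leaf (nat_lit 0)) (.node (nat_lit 294345) (.leaf (nat_lit 2160)) (.leaf (nat_lit 1322)))) (.node (nat_lit 296188) (.leaf (nat_lit 2160)) (.node (nat_lit 296349) (.leaf (nat_lit 0)) (.leaf (nat_lit 2160)))))) (.node (nat_lit 301580) (.node (nat_lit 298485) (.node (nat_lit 297057) (.leaf (nat_lit 49)) (.node (nat_lit 298435) (.leaf (nat_lit 0)) (.leaf (nat_lit 299)))) (.node (nat_lit 299672) (.leaf (nat_lit 2160)) (.node (nat_lit 301451) (.leaf (nat_lit 0)) (.leaf (nat_lit 2160))))) (.node (nat_lit 303077) (.node (nat_lit 302566) (.leaf (nat_lit 0)) (.node (nat_lit 303015) (.leaf (nat_lit 2160)) (.leaf (nat_lit 327)))) (.node (nat_lit 303113) (.leaf (nat_lit 2160)) (.node (nat_lit 303816) (.leaf (nat_lit 0)) (.leaf (nat_lit 2160)))))))) (.node (nat_lit 320725) (.node (nat_lit 311055) (.node (nat_lit 308307) (.node (nat_lit 304724) (.node (nat_lit 304691) (.leaf (nat_lit 0)) (.leaf (nat_lit 2160))) (.node (nat_lit 305713) (.leaf (nat_lit 8)) (.node (nat_lit 308203) (.leaf (nat_lit 2160)) (.leaf (nat_lit 0))))) (.node (nat_lit 309983) (.node (nat_lit 309125) (.leaf (nat_lit 2160)) (.node (nat_lit 309895) (.leaf (nat_lit 0)) (.leaf (nat_lit 289)))) (.node (nat_lit 310003) (.leaf (nat_lit 1139)) (.node (nat_lit 311035) (.leaf (nat_lit 0)) (.leaf (nat_lit 295)))))) (.node (nat_lit 316357) (.node (nat_lit 313040) (.node (nat_lit 311265) (.leaf (nat_lit 2160)) (.leaf (nat_lit 0))) (.node (nat_lit 315192) (.leaf (nat_lit 2160)) (.node (nat_lit 315917) (.leaf (nat_lit 0)) (.leaf (nat_lit 2160))))) (.node (nat_lit 316842) (.node (nat_lit 316625) (.leaf (nat_lit 1141)) (.node (nat_lit 316830) (.leaf (nat_lit 0)) (.leaf (nat_lit 1369)))) (.node (nat_lit 318903) (.leaf (nat_lit 0)) (.node (nat_lit 319824) (.leaf (nat_lit 1375)) (.leaf (nat_lit 0))))))) (.node (nat_lit 326957) (.node (nat_lit 323384) (.node (nat_lit 321784) (.node (nat_lit 320851) (.leaf (nat_lit 2160)) (.leaf (nat_lit 0))) (.node (nat_lit 321929) (.leaf (nat_lit 55)) (.node (nat_lit 322627) (.leaf (nat_lit 2160)) (.leaf (nat_lit 0))))) (.node (nat_lit 325167) (.node (nat_lit 324503) (.leaf (nat_lit 2160)) (.node (nat_lit 325087) (.leaf (nat_lit 0)) (.leaf (nat_lit 2160)))) (.node (nat_lit 325967) (.leaf (nat_lit 1322)) (.node (nat_lit 326359) (.leaf (nat_lit 2160)) (.leaf (nat_lit 1369)))))) (.node (nat_lit 330568) (.node (nat_lit 329017) (.node (nat_lit 327957) (.leaf (nat_lit 0)) (.node (nat_lit 328785) (.leaf (nat_lit 1287)) (.leaf (nat_lit 2160)))) (.node (nat_lit 329572) (.leaf (nat_lit 1369)) (.node (nat_lit 329578) (.leaf (nat_lit 0)) (.leaf (nat_lit 2160))))) (.node (nat_lit 331943) (.node (nat_lit 330782) (.leaf (nat_lit 0)) (.node (nat_lit 331448) (.leaf (nat_lit 2160)) (.leaf (nat_lit 0)))) (.node (nat_lit 332100) (.leaf (nat_lit 2160)) (.node (nat_lit 333047) (.leaf (nat_lit 0)) (.leaf (nat_lit 55)))))))))) (.node (nat_lit 392672) (.node (nat_lit 361744) (.node (nat_lit 345480) (.node (nat_lit 338182) (.node (nat_lit 335810) (.node (nat_lit 334413) (.node (nat_lit 333376) (.leaf (nat_lit 0)) (.leaf (nat_lit 2160))) (.node (nat_lit 334909) (.leaf (nat_lit 0)) (.node (nat_lit 335252) (.leaf (nat_lit 2160)) (.leaf (nat_lit 8))))) (.node (nat_lit 336984) (.node (nat_lit 336649) (.leaf (nat_lit 0)) (.node (nat_lit 336805) (.leaf (nat_lit 55)) (.leaf (nat_lit 2160)))) (.node (nat_lit 337139) (.leaf (nat_lit 1407)) (.node (nat_lit 337322) (.leaf (nat_lit 49)) (.leaf (nat_lit 0)))))) (.node (nat_lit 341975) (.node (nat_lit 340636) (.node (nat_lit 338478) (.leaf (nat_lit 8)) (.leaf (nat_lit 2160))) (.node (nat_lit 341150) (.leaf (nat_lit 1287)) (.node (nat_lit 341343) (.leaf (nat_lit 0)) (.leaf (nat_lit 2160))))) (.node (nat_lit 342491) (.node (nat_lit 341980) (.leaf (nat_lit 0)) (.node (nat_lit 342316) (.leaf (nat_lit 8)) (.leaf (nat_lit 1328)))) (.node (nat_lit 342880) (.leaf (nat_lit 2)) (.node (nat_lit 343580) (.leaf (nat_lit 327)) (.leaf (nat_lit 2160))))))) (.node (nat_lit 354094) (.node (nat_lit 347842) (.node (nat_lit 346426) (.node (nat_lit 345934) (.leaf (nat_lit 0)) (.leaf (nat_lit 2160))) (.node (nat_lit 346956) (.leaf (nat_lit 0)) (.node (nat_lit 347359) (.leaf (nat_lit 2160)) (.leaf (nat_lit 0))))) (.node (nat_lit 349651) (.node (nat_lit 348139) (.leaf (nat_lit 2160)) (.node (nat_lit 349375) (.leaf (nat_lit 0)) (.leaf (nat_lit 2160)))) (.node (nat_lit 351221) (.leaf (nat_lit 0)) (.node (nat_lit 352187) (.leaf (nat_lit 71)) (.leaf (nat_lit 0)))))) (.node (nat_lit 358492) (.node (nat_lit 355084) (.node (nat_lit 354304) (.leaf (nat_lit 2160)) (.node (nat_lit 354423) (.leaf (nat_lit 0)) (.leaf (nat_lit 2160)))) (.node (nat_lit 355387) (.leaf (nat_lit 0)) (.node (nat_lit 356174) (.leaf (nat_lit 2160)) (.leaf (nat_lit 0))))) (.node (nat_lit 359232) (.node (nat_lit 358767) (.leaf (nat_lit 2160)) (.node (nat_lit 359214) (.leaf (nat_lit 1375)) (.leaf (nat_lit 1201)))) (.node (nat_lit 359285) (.leaf (nat_lit 0)) (.node (nat_lit 360905) (.leaf (nat_lit 2160)) (.leaf (nat_lit 0)))))))) (.node (nat_lit 377564) (.node (nat_lit 368889) (.node (nat_lit 364995) (.node (nat_lit 362255) (.node (nat_lit 361872) (.leaf (nat_lit 8)) (.leaf (nat_lit 0))) (.node (nat_lit 362412) (.leaf (nat_lit 2)) (.node (nat_lit 364580) (.leaf (nat_lit 0)) (.leaf (nat_lit 2160))))) (.node (nat_lit 368061) (.node (nat_lit 366423) (.leaf (nat_lit 0)) (.node (nat_lit 367903) (.leaf (nat_lit 2160)) (.leaf (nat_lit 0)))) (.node (nat_lit 368318) (.leaf (nat_lit 55)) (.node (nat_lit 368361) (.leaf (nat_lit 121)) (.leaf (nat_lit 0)))))) (.node (nat_lit 369779) (.node (nat_lit 369221) (.node (nat_lit 368891) (.leaf (nat_lit 2160)) (.leaf (nat_lit 1201))) (.node (nat_lit 369610) (.leaf (nat_lit 2)) (.node (nat_lit 369632) (.leaf (nat_lit 1369)) (.leaf (nat_lit 289))))) (.node (nat_lit 373380) (.node (nat_lit 370821) (.leaf (nat_lit 0)) (.node (nat_lit 370997) (.leaf (nat_lit 2160)) (.leaf (nat_lit 0)))) (.node (nat_lit 375380) (.leaf (nat_lit 2160)) (.node (nat_lit 375834) (.leaf (nat_lit 0)) (.leaf (nat_lit 2160))))))) (.node (nat_lit 382707) (.node (nat_lit 379983) (.node (nat_lit 378063) (.node (nat_lit 377899) (.leaf (nat_lit 0)) (.leaf (nat_lit 121))) (.node (nat_lit 378692) (.leaf (nat_lit 49)) (.node (nat_lit 379392) (.leaf (nat_lit 0)) (.leaf (nat_lit 2160))))) (.node (nat_lit 381787) (.node (nat_lit 381550) (.leaf (nat_lit 0)) (.node (nat_lit 381568) (.leaf (nat_lit 8)) (.leaf (nat_lit 0)))) (.node (nat_lit 382108) (.leaf (nat_lit 299)) (.node (nat_lit 382651) (.leaf (nat_lit 0)) (.leaf (nat_lit 2160)))))) (.node (nat_lit 387412) (.node (nat_lit 384301) (.node (nat_lit 382926) (.leaf (nat_lit 0)) (.node (nat_lit 383584) (.leaf (nat_lit 55)) (.leaf (nat_lit 2160)))) (.node (nat_lit 384916) (.leaf (nat_lit 0)) (.node (nat_lit 385020) (.leaf (nat_lit 2160)) (.leaf (nat_lit 0))))) (.node (nat_lit 389789) (.node (nat_lit 387580) (.leaf (nat_lit 2160)) (.node (nat_lit 388768) (.leaf (nat_lit 0)) (.leaf (nat_lit 2)))) (.node (nat_lit 390075) (.leaf (nat_lit 2160)) (.node (nat_lit 390811) (.leaf (nat_lit 0)) (.leaf (nat_lit 2160))))))))) (.node (nat_lit 415498) (.node (nat_lit 404916) (.node (nat_lit 397052) (.node (nat_lit 394826) (.node (nat_lit 393362) (.node (nat_lit 392754) (.leaf (nat_lit 242)) (.leaf (nat_lit 2160))) (.node (nat_lit 393687) (.leaf (nat_lit 0)) (.node (nat_lit 393852) (.leaf (nat_lit 2160)) (.leaf (nat_lit 0))))) (.node (nat_lit 395848) (.node (nat_lit 395406) (.leaf (nat_lit 2160)) (.node (nat_lit 395734) (.leaf (nat_lit 0)) (.leaf (nat_lit 2)))) (.node (nat_lit 395969) (.leaf (nat_lit 2160)) (.node (nat_lit 395974) (.leaf (nat_lit 0)) (.leaf (nat_lit 49)))))) (.node (nat_lit 402157) (.node (nat_lit 398267) (.node (nat_lit 397088) (.leaf (nat_lit 2160)) (.leaf (nat_lit 0))) (.node (nat_lit 400075) (.leaf (nat_lit 2160)) (.node (nat_lit 400789) (.leaf (nat_lit 49)) (.leaf (nat_lit 0))))) (.node (nat_lit 402697) (.node (nat_lit 402436) (.leaf (nat_lit 1369)) (.node (nat_lit 402557) (.leaf (nat_lit 2160)) (.leaf (nat_lit 1375)))) (.node (nat_lit 403430) (.leaf (nat_lit 0)) (.node (nat_lit 403780) (.leaf (nat_lit 1287)) (.leaf (nat_lit 2160))))))) (.node (nat_lit 409381) (.node (nat_lit 405828) (.node (nat_lit 405304) (.node (nat_lit 405215) (.leaf (nat_lit 8)) (.leaf (nat_lit 1369))) (.node (nat_lit 405494) (.leaf (nat_lit 1287)) (.node (nat_lit 405674) (.leaf (nat_lit 2160)) (.leaf (nat_lit 1328))))) (.node (nat_lit 408146) (.node (nat_lit 406173) (.leaf (nat_lit 49)) (.node (nat_lit 407167) (.leaf (nat_lit 0)) (.leaf (nat_lit 2160)))) (.node (nat_lit 408303) (.leaf (nat_lit 0)) (.node (nat_lit 409232) (.leaf (nat_lit 55)) (.leaf (nat_lit 1328)))))) (.node (nat_lit 413795) (.node (nat_lit 410250) (.node (nat_lit 410153) (.leaf (nat_lit 2160)) (.node (nat_lit 410167) (.leaf (nat_lit 0)) (.leaf (nat_lit 49)))) (.node (nat_lit 412269) (.leaf (nat_lit 0)) (.node (nat_lit 413114) (.leaf (nat_lit 2160)) (.leaf (nat_lit 0))))) (.node (nat_lit 414623) (.node (nat_lit 414165) (.leaf (nat_lit 8)) (.node (nat_lit 414344) (.leaf (nat_lit 2160)) (.leaf (nat_lit 1369)))) (.node (nat_lit 415026) (.leaf (nat_lit 2160)) (.node (nat_lit 415248) (.leaf (nat_lit 0)) (.leaf (nat_lit 55)))))))) (.node (nat_lit 430590) (.node (nat_lit 421898) (.node (nat_lit 418510) (.node (nat_lit 416748) (.node (nat_lit 416056) (.leaf (nat_lit 2)) (.leaf (nat_lit 0))) (.node (nat_lit 418253) (.leaf (nat_lit 2160)) (.node (nat_lit 418292) (.leaf (nat_lit 1259)) (.leaf (nat_lit 2160))))) (.node (nat_lit 420217) (.node (nat_lit 419498) (.leaf (nat_lit 0)) (.node (nat_lit 419964) (.leaf (nat_lit 1201)) (.leaf (nat_lit 0)))) (.node (nat_lit 420365) (.leaf (nat_lit 1375)) (.node (nat_lit 421800) (.leaf (nat_lit 0)) (.leaf (nat_lit 327)))))) (.node (nat_lit 427420) (.node (nat_lit 422571) (.node (nat_lit 422272) (.leaf (nat_lit 0)) (.leaf (nat_lit 2160))) (.node (nat_lit 427145) (.leaf (nat_lit 0)) (.node (nat_lit 427316) (.leaf (nat_lit 2160)) (.leaf (nat_lit 1287))))) (.node (nat_lit 428277) (.node (nat_lit 427663) (.leaf (nat_lit 0)) (.node (nat_lit 427927) (.leaf (nat_lit 59)) (.leaf (nat_lit 2160)))) (.node (nat_lit 430028) (.leaf (nat_lit 0)) (.node (nat_lit 430563) (.leaf (nat_lit 8)) (.leaf (nat_lit 2160))))))) (.node (nat_lit 436785) (.node (nat_lit 433922) (.node (nat_lit 431611) (.node (nat_lit 430932) (.leaf (nat_lit 0)) (.leaf (nat_lit 2160))) (.node (nat_lit 432404) (.leaf (nat_lit 0)) (.node (nat_lit 433157) (.leaf (nat_lit 121)) (.leaf (nat_lit 2160))))) (.node (nat_lit 434287) (.node (nat_lit 434044) (.leaf (nat_lit 295)) (.node (nat_lit 434090) (.leaf (nat_lit 1287)) (.leaf (nat_lit 2160)))) (.node (nat_lit 434690) (.leaf (nat_lit 1322)) (.node (nat_lit 435841) (.leaf (nat_lit 2160)) (.leaf (nat_lit 0)))))) (.node (nat_lit 440989) (.node (nat_lit 439510) (.node (nat_lit 437688) (.leaf (nat_lit 2160)) (.node (nat_lit 438698) (.leaf (nat_lit 1375)) (.leaf (nat_lit 0)))) (.node (nat_lit 439513) (.leaf (nat_lit 2160)) (.node (nat_lit 440114) (.leaf (nat_lit 55)) (.leaf (nat_lit 2160))))) (.node (nat_lit 441922) (.node (nat_lit 441124) (.leaf (nat_lit 0)) (.node (nat_lit 441486) (.leaf (nat_lit 2160)) (.leaf (nat_lit 0)))) (.node (nat_lit 443350) (.leaf (nat_lit 55)) (.node (nat_lit 443429) (.leaf (nat_lit 2160)) (.leaf (nat_lit 0)))))))))))) (.node (nat_lit 663046) (.node (nat_lit 557547) (.node (nat_lit 493384) (.node (nat_lit 464772) (.node (nat_lit 455518) (.node (nat_lit 448573) (.node (nat_lit 446013) (.node (nat_lit 444094) (.node (nat_lit 443969) (.leaf (nat_lit 2160)) (.leaf (nat_lit 0))) (.node (nat_lit 444459) (.leaf (nat_lit 1375)) (.node (nat_lit 445944) (.leaf (nat_lit 0)) (.leaf (nat_lit 2160))))) (.node (nat_lit 446588) (.node (nat_lit 446252) (.leaf (nat_lit 0)) (.node (nat_lit 446359) (.leaf (nat_lit 49)) (.leaf (nat_lit 0)))) (.node (nat_lit 447253) (.leaf (nat_lit 1322)) (.node (nat_lit 447623) (.leaf (nat_lit 8)) (.leaf (nat_lit 2160)))))) (.node (nat_lit 450865) (.node (nat_lit 449353) (.node (nat_lit 448874) (.leaf (nat_lit 0)) (.leaf (nat_lit 2160))) (.node (nat_lit 450678) (.leaf (nat_lit 0)) (.node (nat_lit 450817) (.leaf (nat_lit 73)) (.leaf (nat_lit 2160))))) (.node (nat_lit 453605) (.node (nat_lit 451711) (.leaf (nat_lit 0)) (.node (nat_lit 451968) (.leaf (nat_lit 228)) (.leaf (nat_lit 0)))) (.node (nat_lit 455258) (.leaf (nat_lit 2160)) (.node (nat_lit 455434) (.leaf (nat_lit 327)) (.leaf (nat_lit 55))))))) (.node (nat_lit 460946) (.node (nat_lit 456673) (.node (nat_lit 456162) (.node (nat_lit 455548) (.leaf (nat_lit 0)) (.leaf (nat_lit 2160))) (.node (nat_lit 456298) (.leaf (nat_lit 49)) (.node (nat_lit 456512) (.leaf (nat_lit 0)) (.leaf (nat_lit 2160))))) (.node (nat_lit 457534) (.node (nat_lit 456967) (.leaf (nat_lit 0)) (.node (nat_lit 457231) (.leaf (nat_lit 8)) (.leaf (nat_lit 0)))) (.node (nat_lit 457613) (.leaf (nat_lit 2160)) (.node (nat_lit 457774) (.leaf (nat_lit 0)) (.leaf (nat_lit 2160)))))) (.node (nat_lit 462541) (.node (nat_lit 461790) (.node (nat_lit 461525) (.leaf (nat_lit 248)) (.leaf (nat_lit 55))) (.node (nat_lit 462036) (.leaf (nat_lit 0)) (.node (nat_lit 462318) (.leaf (nat_lit 49)) (.leaf (nat_lit 2160))))) (.node (nat_lit 463298) (.node (nat_lit 462829) (.leaf (nat_lit 0)) (.node (nat_lit 463278) (.leaf (nat_lit 2160)) (.leaf (nat_lit 295)))) (.node (nat_lit 464402) (.leaf (nat_lit 2160)) (.node (nat_lit 464687) (.leaf (nat_lit 2)) (.leaf (nat_lit 0)))))))) (.node (nat_lit 473161) (.node (nat_lit 470139) (.node (nat_lit 467382) (.node (nat_lit 465230) (.node (nat_lit 465122) (.leaf (nat_lit 2160)) (.leaf (nat_lit 0))) (.node (nat_lit 465941) (.leaf (nat_lit 2160)) (.node (nat_lit 466627) (.leaf (nat_lit 1259)) (.leaf (nat_lit 2160))))) (.node (nat_lit 468160) (.node (nat_lit 467637) (.leaf (nat_lit 0)) (.node (nat_lit 467946) (.leaf (nat_lit 2160)) (.leaf (nat_lit 0)))) (.node (nat_lit 469275) (.leaf (nat_lit 2160)) (.node (nat_lit 469732) (.leaf (nat_lit 1287)) (.leaf (nat_lit 2160)))))) (.node (nat_lit 470682) (.node (nat_lit 470508) (.node (nat_lit 470285) (.leaf (nat_lit 0)) (.leaf (nat_lit 2160))) (.node (nat_lit 470525) (.leaf (nat_lit 0)) (.node (nat_lit 470529) (.leaf (nat_lit 2160)) (.leaf (nat_lit 0))))) (.node (nat_lit 471246) (.node (nat_lit 470972) (.leaf (nat_lit 1328)) (.node (nat_lit 471036) (.leaf (nat_lit 0)) (.leaf (nat_lit 2160)))) (.node (nat_lit 471265) (.leaf (nat_lit 327)) (.node (nat_lit 471700) (.leaf (nat_lit 2160)) (.leaf (nat_lit 0))))))) (.node (nat_lit 482758) (.node (nat_lit 474570) (.node (nat_lit 473869) (.node (nat_lit 473605) (.leaf (nat_lit 2160)) (.leaf (nat_lit 8))) (.node (nat_lit 474027) (.leaf (nat_lit 0)) (.node (nat_lit 474315) (.leaf (nat_lit 55)) (.leaf (nat_lit 295))))) (.node (nat_lit 477048) (.node (nat_lit 476795) (.leaf (nat_lit 293)) (.node (nat_lit 476835) (.leaf (nat_lit 1139)) (.leaf (nat_lit 0)))) (.node (nat_lit 479395) (.leaf (nat_lit 2160)) (.node (nat_lit 482103) (.leaf (nat_lit 0)) (.leaf (nat_lit 2160)))))) (.node (nat_lit 489606) (.node (nat_lit 486448) (.node (nat_lit 485290) (.leaf (nat_lit 0)) (.node (nat_lit 486130) (.leaf (nat_lit 55)) (.leaf (nat_lit 2160)))) (.node (nat_lit 488395) (.leaf (nat_lit 0)) (.node (nat_lit 488781) (.leaf (nat_lit 1369)) (.leaf (nat_lit 0))))) (.node (nat_lit 490721) (.node (nat_lit 490110) (.leaf (nat_lit 2160)) (.node (nat_lit 490621) (.leaf (nat_lit 1287)) (.leaf (nat_lit 8)))) (.node (nat_lit 491179) (.leaf (nat_lit 2160)) (.node (nat_lit 491514) (.leaf (nat_lit 0)) (.leaf (nat_lit 2160))))))))) (.node (nat_lit 523197) (.node (nat_lit 509699) (.node (nat_lit 497477) (.node (nat_lit 495596) (.node (nat_lit 494676) (.node (nat_lit 494612) (.leaf (nat_lit 0)) (.leaf (nat_lit 1369))) (.node (nat_lit 495123) (.leaf (nat_lit 0)) (.node (nat_lit 495166) (.leaf (nat_lit 327)) (.leaf (nat_lit 0))))) (.node (nat_lit 496838) (.node (nat_lit 496334) (.leaf (nat_lit 289)) (.node (nat_lit 496455) (.leaf (nat_lit 2160)) (.leaf (nat_lit 0)))) (.node (nat_lit 496859) (.leaf (nat_lit 1287)) (.node (nat_lit 497127) (.leaf (nat_lit 0)) (.leaf (nat_lit 2160)))))) (.node (nat_lit 500329) (.node (nat_lit 498230) (.node (nat_lit 497860) (.leaf (nat_lit 0)) (.leaf (nat_lit 2))) (.node (nat_lit 498635) (.leaf (nat_lit 2160)) (.node (nat_lit 499763) (.leaf (nat_lit 0)) (.leaf (nat_lit 2160))))) (.node (nat_lit 508052) (.node (nat_lit 504723) (.leaf (nat_lit 0)) (.node (nat_lit 506735) (.leaf (nat_lit 2160)) (.leaf (nat_lit 0)))) (.node (nat_lit 508656) (.leaf (nat_lit 2160)) (.node (nat_lit 508803) (.leaf (nat_lit 55)) (.leaf (nat_lit 2160))))))) (.node (nat_lit 515383) (.node (nat_lit 512147) (.node (nat_lit 510735) (.node (nat_lit 510031) (.leaf (nat_lit 1287)) (.leaf (nat_lit 0))) (.node (nat_lit 511053) (.leaf (nat_lit 2160)) (.node (nat_lit 511668) (.leaf (nat_lit 0)) (.leaf (nat_lit 2160))))) (.node (nat_lit 514191) (.node (nat_lit 513611) (.leaf (nat_lit 0)) (.node (nat_lit 513987) (.leaf (nat_lit 2160)) (.leaf (nat_lit 8)))) (.node (nat_lit 514633) (.leaf (nat_lit 0)) (.node (nat_lit 514941) (.leaf (nat_lit 2160)) (.leaf (nat_lit 49)))))) (.node (nat_lit 520093) (.node (nat_lit 517962) (.node (nat_lit 516401) (.leaf (nat_lit 0)) (.node (nat_lit 517270) (.leaf (nat_lit 2160)) (.leaf (nat_lit 0)))) (.node (nat_lit 518312) (.leaf (nat_lit 2160)) (.node (nat_lit 518473) (.leaf (nat_lit 0)) (.leaf (nat_lit 2160))))) (.node (nat_lit 521464) (.node (nat_lit 520304) (.leaf (nat_lit 0)) (.node (nat_lit 520953) (.leaf (nat_lit 55)) (.leaf (nat_lit 8)))) (.node (nat_lit 521482) (.leaf (nat_lit 2)) (.node (nat_lit 522387) (.leaf (nat_lit 0)) (.leaf (nat_lit 295)))))))) (.node (nat_lit 539546) (.node (nat_lit 532710) (.node (nat_lit 530713) (.node (nat_lit 530431) (.node (nat_lit 525237) (.leaf (nat_lit 121)) (.leaf (nat_lit 0))) (.node (nat_lit 530479) (.leaf (nat_lit 2160)) (.node (nat_lit 530523) (.leaf (nat_lit 0)) (.leaf (nat_lit 1375))))) (.node (nat_lit 531224) (.node (nat_lit 530740) (.leaf (nat_lit 2160)) (.node (nat_lit 531157) (.leaf (nat_lit 0)) (.leaf (nat_lit 2)))) (.node (nat_lit 531967) (.leaf (nat_lit 2160)) (.node (nat_lit 532069) (.leaf (nat_lit 1407)) (.leaf (nat_lit 1287)))))) (.node (nat_lit 536491) (.node (nat_lit 533758) (.node (nat_lit 533640) (.leaf (nat_lit 2160)) (.leaf (nat_lit 289))) (.node (nat_lit 535316) (.leaf (nat_lit 0)) (.node (nat_lit 536069) (.leaf (nat_lit 2160)) (.leaf (nat_lit 1407))))) (.node (nat_lit 537999) (.node (nat_lit 537441) (.leaf (nat_lit 0)) (.node (nat_lit 537806) (.leaf (nat_lit 2160)) (.leaf (nat_lit 0)))) (.node (nat_lit 538196) (.leaf (nat_lit 2160)) (.node (nat_lit 539002) (.leaf (nat_lit 0)) (.leaf (nat_lit 1375))))))) (.node (nat_lit 547649) (.node (nat_lit 545283) (.node (nat_lit 541428) (.node (nat_lit 541096) (.leaf (nat_lit 8)) (.leaf (nat_lit 1407))) (.node (nat_lit 542558) (.leaf (nat_lit 2160)) (.node (nat_lit 544897) (.leaf (nat_lit 0)) (.leaf (nat_lit 2160))))) (.node (nat_lit 545877) (.node (nat_lit 545408) (.leaf (nat_lit 0)) (.node (nat_lit 545684) (.leaf (nat_lit 2160)) (.leaf (nat_lit 0)))) (.node (nat_lit 546695) (.leaf (nat_lit 2160)) (.node (nat_lit 547545) (.leaf (nat_lit 0)) (.leaf (nat_lit 49)))))) (.node (nat_lit 552829) (.node (nat_lit 549770) (.node (nat_lit 547956) (.leaf (nat_lit 0)) (.node (nat_lit 548084) (.leaf (nat_lit 2)) (.leaf (nat_lit 0)))) (.node (nat_lit 550960) (.leaf (nat_lit 2160)) (.node (nat_lit 551189) (.leaf (nat_lit 0)) (.leaf (nat_lit 121))))) (.node (nat_lit 555084) (.node (nat_lit 553551) (.leaf (nat_lit 1287)) (.node (nat_lit 554400) (.leaf (nat_lit 0)) (.leaf (nat_lit 1369)))) (.node (nat_lit 556293) (.leaf (nat_lit 0)) (.node (nat_lit 557342) (.leaf (nat_lit 2160)) (.leaf (nat_lit 0)))))))))) (.node (nat_lit 611664) (.node (nat_lit 584068) (.node (nat_lit 568596) (.node (nat_lit 563079) (.node (nat_lit 558927) (.node (nat_lit 557917) (.node (nat_lit 557737) (.leaf (nat_lit 1287)) (.leaf (nat_lit 2160))) (.node (nat_lit 558659) (.leaf (nat_lit 1328)) (.node (nat_lit 558724) (.leaf (nat_lit 2160)) (.leaf (nat_lit 1253))))) (.node (nat_lit 560842) (.node (nat_lit 559181) (.leaf (nat_lit 0)) (.node (nat_lit 560271) (.leaf (nat_lit 2160)) (.leaf (nat_lit 0)))) (.node (nat_lit 562160) (.leaf (nat_lit 2160)) (.node (nat_lit 562343) (.leaf (nat_lit 248)) (.leaf (nat_lit 0)))))) (.node (nat_lit 566336) (.node (nat_lit 564729) (.node (nat_lit 564615) (.leaf (nat_lit 2160)) (.leaf (nat_lit 2))) (.node (nat_lit 564798) (.leaf (nat_lit 2160)) (.node (nat_lit 566038) (.leaf (nat_lit 0)) (.leaf (nat_lit 8))))) (.node (nat_lit 567163) (.node (nat_lit 566355) (.leaf (nat_lit 0)) (.node (nat_lit 566587) (.leaf (nat_lit 2160)) (.leaf (nat_lit 1369)))) (.node (nat_lit 567741) (.leaf (nat_lit 0)) (.node (nat_lit 567941) (.leaf (nat_lit 2)) (.leaf (nat_lit 2160))))))) (.node (nat_lit 575083) (.node (nat_lit 571499) (.node (nat_lit 570181) (.node (nat_lit 569513) (.leaf (nat_lit 0)) (.leaf (nat_lit 2160))) (.node (nat_lit 570946) (.leaf (nat_lit 0)) (.node (nat_lit 571385) (.leaf (nat_lit 2160)) (.leaf (nat_lit 327))))) (.node (nat_lit 572493) (.node (nat_lit 571578) (.leaf (nat_lit 2160)) (.node (nat_lit 572390) (.leaf (nat_lit 0)) (.leaf (nat_lit 2160)))) (.node (nat_lit 574844) (.leaf (nat_lit 1287)) (.node (nat_lit 575066) (.leaf (nat_lit 2160)) (.leaf (nat_lit 121)))))) (.node (nat_lit 579559) (.node (nat_lit 578455) (.node (nat_lit 576741) (.leaf (nat_lit 0)) (.node (nat_lit 578177) (.leaf (nat_lit 2160)) (.leaf (nat_lit 0)))) (.node (nat_lit 579142) (.leaf (nat_lit 2160)) (.node (nat_lit 579335) (.leaf (nat_lit 0)) (.leaf (nat_lit 2160))))) (.node (nat_lit 582676) (.node (nat_lit 580064) (.leaf (nat_lit 1287)) (.node (nat_lit 581038) (.leaf (nat_lit 0)) (.leaf (nat_lit 2160)))) (.node (nat_lit 582753) (.leaf (nat_lit 8)) (.node (nat_lit 583907) (.leaf (nat_lit 2160)) (.leaf (nat_lit 0)))))))) (.node (nat_lit 596998) (.node (nat_lit 592268) (.node (nat_lit 588835) (.node (nat_lit 585158) (.node (nat_lit 584072) (.leaf (nat_lit 2160)) (.leaf (nat_lit 0))) (.node (nat_lit 588031) (.leaf (nat_lit 1328)) (.node (nat_lit 588791) (.leaf (nat_lit 0)) (.leaf (nat_lit 289))))) (.node (nat_lit 590153) (.node (nat_lit 589467) (.leaf (nat_lit 0)) (.node (nat_lit 589995) (.leaf (nat_lit 1328)) (.leaf (nat_lit 0)))) (.node (nat_lit 590852) (.leaf (nat_lit 2)) (.node (nat_lit 591946) (.leaf (nat_lit 0)) (.leaf (nat_lit 2160)))))) (.node (nat_lit 595580) (.node (nat_lit 593100) (.node (nat_lit 592957) (.leaf (nat_lit 295)) (.leaf (nat_lit 2160))) (.node (nat_lit 593367) (.leaf (nat_lit 295)) (.node (nat_lit 594598) (.leaf (nat_lit 2160)) (.leaf (nat_lit 0))))) (.node (nat_lit 596257) (.node (nat_lit 595748) (.leaf (nat_lit 1139)) (.node (nat_lit 596026) (.leaf (nat_lit 0)) (.leaf (nat_lit 2160)))) (.node (nat_lit 596312) (.leaf (nat_lit 289)) (.node (nat_lit 596337) (.leaf (nat_lit 0)) (.leaf (nat_lit 1375))))))) (.node (nat_lit 601543) (.node (nat_lit 600199) (.node (nat_lit 598152) (.node (nat_lit 597387) (.leaf (nat_lit 49)) (.leaf (nat_lit 1369))) (.node (nat_lit 598180) (.leaf (nat_lit 1287)) (.node (nat_lit 599813) (.leaf (nat_lit 0)) (.leaf (nat_lit 2160))))) (.node (nat_lit 600606) (.node (nat_lit 600268) (.leaf (nat_lit 0)) (.node (nat_lit 600600) (.leaf (nat_lit 49)) (.leaf (nat_lit 0)))) (.node (nat_lit 600795) (.leaf (nat_lit 2160)) (.node (nat_lit 601346) (.leaf (nat_lit 59)) (.leaf (nat_lit 2160)))))) (.node (nat_lit 606669) (.node (nat_lit 604158) (.node (nat_lit 602971) (.leaf (nat_lit 0)) (.node (nat_lit 604000) (.leaf (nat_lit 2160)) (.leaf (nat_lit 327)))) (.node (nat_lit 605937) (.leaf (nat_lit 0)) (.node (nat_lit 606461) (.leaf (nat_lit 2160)) (.leaf (nat_lit 1201))))) (.node (nat_lit 610299) (.node (nat_lit 606791) (.leaf (nat_lit 1375)) (.node (nat_lit 607349) (.leaf (nat_lit 2)) (.leaf (nat_lit 0)))) (.node (nat_lit 611148) (.leaf (nat_lit 2160)) (.node (nat_lit 611153) (.leaf (nat_lit 0)) (.leaf (nat_lit 49))))))))) (.node (nat_lit 636023) (.node (nat_lit 623267) (.node (nat_lit 617876) (.node (nat_lit 615623) (.node (nat_lit 612882) (.node (nat_lit 612439) (.leaf (nat_lit 1287)) (.leaf (nat_lit 0))) (.node (nat_lit 613440) (.leaf (nat_lit 2160)) (.node (nat_lit 615133) (.leaf (nat_lit 0)) (.leaf (nat_lit 49))))) (.node (nat_lit 616733) (.node (nat_lit 615751) (.leaf (nat_lit 1287)) (.node (nat_lit 616645) (.leaf (nat_lit 0)) (.leaf (nat_lit 2)))) (.node (nat_lit 617312) (.leaf (nat_lit 2160)) (.node (nat_lit 617666) (.leaf (nat_lit 0)) (.leaf (nat_lit 2160)))))) (.node (nat_lit 620734) (.node (nat_lit 618770) (.node (nat_lit 618548) (.leaf (nat_lit 0)) (.leaf (nat_lit 2160))) (.node (nat_lit 619120) (.leaf (nat_lit 1296)) (.node (nat_lit 619678) (.leaf (nat_lit 8)) (.leaf (nat_lit 0))))) (.node (nat_lit 622329) (.node (nat_lit 621245) (.leaf (nat_lit 55)) (.node (nat_lit 621518) (.leaf (nat_lit 49)) (.leaf (nat_lit 1287)))) (.node (nat_lit 622668) (.leaf (nat_lit 0)) (.node (nat_lit 623100) (.leaf (nat_lit 55)) (.leaf (nat_lit 8))))))) (.node (nat_lit 629038) (.node (nat_lit 625404) (.node (nat_lit 623489) (.node (nat_lit 623436) (.leaf (nat_lit 2160)) (.leaf (nat_lit 1322))) (.node (nat_lit 623508) (.leaf (nat_lit 327)) (.node (nat_lit 624399) (.leaf (nat_lit 2160)) (.leaf (nat_lit 0))))) (.node (nat_lit 626326) (.node (nat_lit 625843) (.leaf (nat_lit 2160)) (.node (nat_lit 625848) (.leaf (nat_lit 0)) (.leaf (nat_lit 8)))) (.node (nat_lit 626691) (.leaf (nat_lit 2160)) (.node (nat_lit 627870) (.leaf (nat_lit 0)) (.leaf (nat_lit 2160)))))) (.node (nat_lit 633539) (.node (nat_lit 629431) (.node (nat_lit 629076) (.leaf (nat_lit 1273)) (.node (nat_lit 629130) (.leaf (nat_lit 248)) (.leaf (nat_lit 0)))) (.node (nat_lit 630671) (.leaf (nat_lit 2160)) (.node (nat_lit 632907) (.leaf (nat_lit 0)) (.leaf (nat_lit 2160))))) (.node (nat_lit 635097) (.node (nat_lit 634293) (.leaf (nat_lit 0)) (.node (nat_lit 634658) (.leaf (nat_lit 2160)) (.leaf (nat_lit 0)))) (.node (nat_lit 635512) (.leaf (nat_lit 2160)) (.node (nat_lit 635608) (.leaf (nat_lit 0)) (.leaf (nat_lit 2160)))))))) (.node (nat_lit 648927) (.node (nat_lit 642874) (.node (nat_lit 638638) (.node (nat_lit 636518) (.node (nat_lit 636430) (.leaf (nat_lit 0)) (.leaf (nat_lit 2))) (.node (nat_lit 636586) (.leaf (nat_lit 2160)) (.node (nat_lit 637962) (.leaf (nat_lit 0)) (.leaf (nat_lit 2160))))) (.node (nat_lit 641249) (.node (nat_lit 639327) (.leaf (nat_lit 0)) (.node (nat_lit 639389) (.leaf (nat_lit 55)) (.leaf (nat_lit 0)))) (.node (nat_lit 641386) (.leaf (nat_lit 2160)) (.node (nat_lit 641620) (.leaf (nat_lit 0)) (.leaf (nat_lit 2160)))))) (.node (nat_lit 645844) (.node (nat_lit 645101) (.node (nat_lit 643293) (.leaf (nat_lit 1287)) (.leaf (nat_lit 2160))) (.node (nat_lit 645612) (.leaf (nat_lit 0)) (.node (nat_lit 645658) (.leaf (nat_lit 8)) (.leaf (nat_lit 2160))))) (.node (nat_lit 646866) (.node (nat_lit 646802) (.leaf (nat_lit 0)) (.node (nat_lit 646862) (.leaf (nat_lit 1328)) (.leaf (nat_lit 2160)))) (.node (nat_lit 648705) (.leaf (nat_lit 0)) (.node (nat_lit 648774) (.leaf (nat_lit 2160)) (.leaf (nat_lit 0))))))) (.node (nat_lit 657068) (.node (nat_lit 654318) (.node (nat_lit 652174) (.node (nat_lit 650420) (.leaf (nat_lit 121)) (.leaf (nat_lit 2160))) (.node (nat_lit 653068) (.leaf (nat_lit 0)) (.node (nat_lit 653332) (.leaf (nat_lit 2)) (.leaf (nat_lit 0))))) (.node (nat_lit 654829) (.node (nat_lit 654786) (.leaf (nat_lit 2160)) (.node (nat_lit 654790) (.leaf (nat_lit 0)) (.leaf (nat_lit 299)))) (.node (nat_lit 654865) (.leaf (nat_lit 2160)) (.node (nat_lit 656033) (.leaf (nat_lit 0)) (.leaf (nat_lit 2160)))))) (.node (nat_lit 660446) (.node (nat_lit 658608) (.node (nat_lit 657186) (.leaf (nat_lit 1201)) (.node (nat_lit 658331) (.leaf (nat_lit 55)) (.leaf (nat_lit 8)))) (.node (nat_lit 659702) (.leaf (nat_lit 0)) (.node (nat_lit 660141) (.leaf (nat_lit 2160)) (.leaf (nat_lit 0))))) (.node (nat_lit 661046) (.node (nat_lit 660624) (.leaf (nat_lit 1375)) (.node (nat_lit 660946) (.leaf (nat_lit 2160)) (.leaf (nat_lit 1287)))) (.node (nat_lit 661755) (.leaf (nat_lit 2160)) (.node (nat_lit 662068) (.leaf (nat_lit 0)) (.leaf (nat_lit 2160))))))))))) (.node (nat_lit 765651) (.node (nat_lit 709270) (.node (nat_lit 684210) (.node (nat_lit 674458) (.node (nat_lit 667851) (.node (nat_lit 666330) (.node (nat_lit 664047) (.node (nat_lit 663914) (.leaf (nat_lit 0)) (.leaf (nat_lit 49))) (.node (nat_lit 664293) (.leaf (nat_lit 0)) (.node (nat_lit 664886) (.leaf (nat_lit 2160)) (.leaf (nat_lit 1287))))) (.node (nat_lit 667115) (.node (nat_lit 666358) (.leaf (nat_lit 49)) (.node (nat_lit 666741) (.leaf (nat_lit 0)) (.leaf (nat_lit 2)))) (.node (nat_lit 667298) (.leaf (nat_lit 0)) (.node (nat_lit 667626) (.leaf (nat_lit 2160)) (.leaf (nat_lit 0)))))) (.node (nat_lit 671846) (.node (nat_lit 668591) (.node (nat_lit 668377) (.leaf (nat_lit 2160)) (.leaf (nat_lit 0))) (.node (nat_lit 669310) (.leaf (nat_lit 2160)) (.node (nat_lit 670727) (.leaf (nat_lit 0)) (.leaf (nat_lit 2160))))) (.node (nat_lit 672953) (.node (nat_lit 672260) (.leaf (nat_lit 0)) (.node (nat_lit 672336) (.leaf (nat_lit 2160)) (.leaf (nat_lit 0)))) (.node (nat_lit 673869) (.leaf (nat_lit 2160)) (.node (nat_lit 673874) (.leaf (nat_lit 0)) (.leaf (nat_lit 2160))))))) (.node (nat_lit 679737) (.node (nat_lit 676255) (.node (nat_lit 675307) (.node (nat_lit 674972) (.leaf (nat_lit 1287)) (.leaf (nat_lit 0))) (.node (nat_lit 675616) (.leaf (nat_lit 2160)) (.node (nat_lit 676243) (.leaf (nat_lit 0)) (.leaf (nat_lit 1369))))) (.node (nat_lit 678477) (.node (nat_lit 676933) (.leaf (nat_lit 0)) (.node (nat_lit 678069) (.leaf (nat_lit 2160)) (.leaf (nat_lit 49)))) (.node (nat_lit 679326) (.leaf (nat_lit 2160)) (.node (nat_lit 679513) (.leaf (nat_lit 0)) (.leaf (nat_lit 55)))))) (.node (nat_lit 682766) (.node (nat_lit 681181) (.node (nat_lit 680920) (.leaf (nat_lit 0)) (.leaf (nat_lit 2160))) (.node (nat_lit 682534) (.leaf (nat_lit 0)) (.node (nat_lit 682714) (.leaf (nat_lit 2160)) (.leaf (nat_lit 1369))))) (.node (nat_lit 683045) (.node (nat_lit 682956) (.leaf (nat_lit 1375)) (.node (nat_lit 682983) (.leaf (nat_lit 2160)) (.leaf (nat_lit 0)))) (.node (nat_lit 683400) (.leaf (nat_lit 2160)) (.node (nat_lit 684158) (.leaf (nat_lit 2)) (.leaf (nat_lit 1322)))))))) (.node (nat_lit 693732) (.node (nat_lit 689934) (.node (nat_lit 686001) (.node (nat_lit 684900) (.node (nat_lit 684312) (.leaf (nat_lit 1407)) (.leaf (nat_lit 1287))) (.node (nat_lit 685121) (.leaf (nat_lit 2160)) (.node (nat_lit 685651) (.leaf (nat_lit 0)) (.leaf (nat_lit 2160))))) (.node (nat_lit 687137) (.node (nat_lit 686036) (.leaf (nat_lit 0)) (.node (nat_lit 686276) (.leaf (nat_lit 8)) (.leaf (nat_lit 55)))) (.node (nat_lit 687193) (.leaf (nat_lit 2160)) (.node (nat_lit 687648) (.leaf (nat_lit 0)) (.leaf (nat_lit 2160)))))) (.node (nat_lit 691856) (.node (nat_lit 690170) (.node (nat_lit 689996) (.leaf (nat_lit 49)) (.leaf (nat_lit 0))) (.node (nat_lit 691445) (.leaf (nat_lit 327)) (.node (nat_lit 691789) (.leaf (nat_lit 2160)) (.leaf (nat_lit 8))))) (.node (nat_lit 692999) (.node (nat_lit 692066) (.leaf (nat_lit 2160)) (.node (nat_lit 692828) (.leaf (nat_lit 0)) (.leaf (nat_lit 327)))) (.node (nat_lit 693300) (.leaf (nat_lit 0)) (.node (nat_lit 693607) (.leaf (nat_lit 2160)) (.leaf (nat_lit 0))))))) (.node (nat_lit 701127) (.node (nat_lit 698120) (.node (nat_lit 694243) (.node (nat_lit 693900) (.leaf (nat_lit 49)) (.leaf (nat_lit 2160))) (.node (nat_lit 697240) (.leaf (nat_lit 0)) (.node (nat_lit 697473) (.leaf (nat_lit 2160)) (.leaf (nat_lit 0))))) (.node (nat_lit 700132) (.node (nat_lit 698448) (.leaf (nat_lit 2160)) (.node (nat_lit 699312) (.leaf (nat_lit 0)) (.leaf (nat_lit 2160)))) (.node (nat_lit 700399) (.leaf (nat_lit 0)) (.node (nat_lit 700455) (.leaf (nat_lit 2160)) (.leaf (nat_lit 0)))))) (.node (nat_lit 704185) (.node (nat_lit 701814) (.node (nat_lit 701574) (.leaf (nat_lit 2160)) (.node (nat_lit 701591) (.leaf (nat_lit 0)) (.leaf (nat_lit 2160)))) (.node (nat_lit 701960) (.leaf (nat_lit 0)) (.node (nat_lit 701996) (.leaf (nat_lit 2160)) (.leaf (nat_lit 0))))) (.node (nat_lit 705383) (.node (nat_lit 704471) (.leaf (nat_lit 2160)) (.node (nat_lit 705118) (.leaf (nat_lit 0)) (.leaf (nat_lit 2160)))) (.node (nat_lit 708816) (.leaf (nat_lit 0)) (.node (nat_lit 708938) (.leaf (nat_lit 327)) (.leaf (nat_lit 2))))))))) (.node (nat_lit 739176) (.node (nat_lit 721350) (.node (nat_lit 715587) (.node (nat_lit 711053) (.node (nat_lit 709585) (.node (nat_lit 709558) (.leaf (nat_lit 0)) (.leaf (nat_lit 2160))) (.node (nat_lit 710309) (.leaf (nat_lit 0)) (.node (nat_lit 710541) (.leaf (nat_lit 2160)) (.leaf (nat_lit 55))))) (.node (nat_lit 712574) (.node (nat_lit 712461) (.leaf (nat_lit 295)) (.node (nat_lit 712528) (.leaf (nat_lit 0)) (.leaf (nat_lit 8)))) (.node (nat_lit 714164) (.leaf (nat_lit 2160)) (.node (nat_lit 715269) (.leaf (nat_lit 0)) (.leaf (nat_lit 2160)))))) (.node (nat_lit 719090) (.node (nat_lit 716937) (.node (nat_lit 715833) (.leaf (nat_lit 0)) (.leaf (nat_lit 2160))) (.node (nat_lit 717616) (.leaf (nat_lit 1287)) (.node (nat_lit 718416) (.leaf (nat_lit 1322)) (.leaf (nat_lit 2160))))) (.node (nat_lit 719902) (.node (nat_lit 719580) (.leaf (nat_lit 0)) (.node (nat_lit 719601) (.leaf (nat_lit 59)) (.leaf (nat_lit 0)))) (.node (nat_lit 720892) (.leaf (nat_lit 2160)) (.node (nat_lit 721234) (.leaf (nat_lit 0)) (.leaf (nat_lit 2160))))))) (.node (nat_lit 728562) (.node (nat_lit 724722) (.node (nat_lit 722453) (.node (nat_lit 721756) (.leaf (nat_lit 0)) (.leaf (nat_lit 2160))) (.node (nat_lit 723628) (.leaf (nat_lit 0)) (.node (nat_lit 724476) (.leaf (nat_lit 327)) (.leaf (nat_lit 0))))) (.node (nat_lit 727640) (.node (nat_lit 726286) (.leaf (nat_lit 2160)) (.node (nat_lit 727057) (.leaf (nat_lit 327)) (.leaf (nat_lit 0)))) (.node (nat_lit 727680) (.leaf (nat_lit 2160)) (.node (nat_lit 728191) (.leaf (nat_lit 1287)) (.leaf (nat_lit 8)))))) (.node (nat_lit 732553) (.node (nat_lit 730420) (.node (nat_lit 728749) (.leaf (nat_lit 2160)) (.node (nat_lit 730316) (.leaf (nat_lit 0)) (.leaf (nat_lit 49)))) (.node (nat_lit 730645) (.leaf (nat_lit 0)) (.node (nat_lit 731735) (.leaf (nat_lit 2160)) (.leaf (nat_lit 0))))) (.node (nat_lit 736097) (.node (nat_lit 734919) (.leaf (nat_lit 55)) (.node (nat_lit 735518) (.leaf (nat_lit 8)) (.leaf (nat_lit 2160)))) (.node (nat_lit 736258) (.leaf (nat_lit 0)) (.node (nat_lit 738733) (.leaf (nat_lit 2160)) (.leaf (nat_lit 0)))))))) (.node (nat_lit 752089) (.node (nat_lit 747569) (.node (nat_lit 741541) (.node (nat_lit 741271) (.node (nat_lit 740520) (.leaf (nat_lit 2160)) (.leaf (nat_lit 0))) (.node (nat_lit 741453) (.leaf (nat_lit 2160)) (.node (nat_lit 741536) (.leaf (nat_lit 55)) (.leaf (nat_lit 0))))) (.node (nat_lit 742563) (.node (nat_lit 742238) (.leaf (nat_lit 2160)) (.node (nat_lit 742396) (.leaf (nat_lit 0)) (.leaf (nat_lit 2)))) (.node (nat_lit 744172) (.leaf (nat_lit 2160)) (.node (nat_lit 745200) (.leaf (nat_lit 0)) (.leaf (nat_lit 2160)))))) (.node (nat_lit 748216) (.node (nat_lit 747915) (.node (nat_lit 747836) (.leaf (nat_lit 0)) (.leaf (nat_lit 2160))) (.node (nat_lit 748076) (.leaf (nat_lit 0)) (.node (nat_lit 748133) (.leaf (nat_lit 2160)) (.leaf (nat_lit 0))))) (.node (nat_lit 751067) (.node (nat_lit 748502) (.leaf (nat_lit 2160)) (.node (nat_lit 750201) (.leaf (nat_lit 0)) (.leaf (nat_lit 2160)))) (.node (nat_lit 751382) (.leaf (nat_lit 0)) (.node (nat_lit 751645) (.leaf (nat_lit 293)) (.leaf (nat_lit 2160))))))) (.node (nat_lit 760034) (.node (nat_lit 755215) (.node (nat_lit 752799) (.node (nat_lit 752511) (.leaf (nat_lit 2)) (.leaf (nat_lit 49))) (.node (nat_lit 753131) (.leaf (nat_lit 289)) (.node (nat_lit 754840) (.leaf (nat_lit 2160)) (.leaf (nat_lit 0))))) (.node (nat_lit 756933) (.node (nat_lit 755351) (.leaf (nat_lit 2)) (.node (nat_lit 755532) (.leaf (nat_lit 0)) (.leaf (nat_lit 2160)))) (.node (nat_lit 758112) (.leaf (nat_lit 0)) (.node (nat_lit 759170) (.leaf (nat_lit 55)) (.leaf (nat_lit 0)))))) (.node (nat_lit 762718) (.node (nat_lit 761495) (.node (nat_lit 760648) (.leaf (nat_lit 2160)) (.node (nat_lit 760827) (.leaf (nat_lit 49)) (.leaf (nat_lit 2160)))) (.node (nat_lit 761849) (.leaf (nat_lit 121)) (.node (nat_lit 762160) (.leaf (nat_lit 2160)) (.leaf (nat_lit 2))))) (.node (nat_lit 764819) (.node (nat_lit 763270) (.leaf (nat_lit 0)) (.node (nat_lit 763338) (.leaf (nat_lit 2160)) (.leaf (nat_lit 0)))) (.node (nat_lit 764932) (.leaf (nat_lit 55)) (.node (nat_lit 765432) (.leaf (nat_lit 0)) (.leaf (nat_lit 248)))))))))) (.node (nat_lit 819912) (.node (nat_lit 792707) (.node (nat_lit 780029) (.node (nat_lit 773160) (.node (nat_lit 769149) (.node (nat_lit 767627) (.node (nat_lit 766624) (.leaf (nat_lit 0)) (.leaf (nat_lit 289))) (.node (nat_lit 768093) (.leaf (nat_lit 0)) (.node (nat_lit 768319) (.leaf (nat_lit 1375)) (.leaf (nat_lit 0))))) (.node (nat_lit 770738) (.node (nat_lit 769205) (.leaf (nat_lit 49)) (.node (nat_lit 769663) (.leaf (nat_lit 2160)) (.leaf (nat_lit 0)))) (.node (nat_lit 771868) (.leaf (nat_lit 2160)) (.node (nat_lit 772977) (.leaf (nat_lit 0)) (.leaf (nat_lit 55)))))) (.node (nat_lit 775679) (.node (nat_lit 774818) (.node (nat_lit 774489) (.leaf (nat_lit 0)) (.leaf (nat_lit 8))) (.node (nat_lit 775015) (.leaf (nat_lit 2160)) (.node (nat_lit 775457) (.leaf (nat_lit 0)) (.leaf (nat_lit 2160))))) (.node (nat_lit 778326) (.node (nat_lit 776186) (.leaf (nat_lit 1322)) (.node (nat_lit 777454) (.leaf (nat_lit 0)) (.leaf (nat_lit 2160)))) (.node (nat_lit 778627) (.leaf (nat_lit 0)) (.node (nat_lit 779731) (.leaf (nat_lit 2160)) (.leaf (nat_lit 1287))))))) (.node (nat_lit 787140) (.node (nat_lit 782696) (.node (nat_lit 781051) (.node (nat_lit 780727) (.leaf (nat_lit 0)) (.leaf (nat_lit 1287))) (.node (nat_lit 781763) (.leaf (nat_lit 0)) (.node (nat_lit 782342) (.leaf (nat_lit 2160)) (.leaf (nat_lit 0))))) (.node (nat_lit 786083) (.node (nat_lit 783342) (.leaf (nat_lit 2160)) (.node (nat_lit 783775) (.leaf (nat_lit 49)) (.leaf (nat_lit 0)))) (.node (nat_lit 786175) (.leaf (nat_lit 2160)) (.node (nat_lit 786636) (.leaf (nat_lit 295)) (.leaf (nat_lit 2160)))))) (.node (nat_lit 789448) (.node (nat_lit 787798) (.node (nat_lit 787287) (.leaf (nat_lit 49)) (.node (nat_lit 787672) (.leaf (nat_lit 2160)) (.leaf (nat_lit 0)))) (.node (nat_lit 788515) (.leaf (nat_lit 2160)) (.node (nat_lit 788673) (.leaf (nat_lit 0)) (.leaf (nat_lit 2))))) (.node (nat_lit 791981) (.node (nat_lit 790434) (.leaf (nat_lit 0)) (.node (nat_lit 791231) (.leaf (nat_lit 2160)) (.leaf (nat_lit 0)))) (.node (nat_lit 792148) (.leaf (nat_lit 8)) (.node (nat_lit 792673) (.leaf (nat_lit 2160)) (.leaf (nat_lit 242)))))))) (.node (nat_lit 811194) (.node (nat_lit 803738) (.node (nat_lit 795536) (.node (nat_lit 793238) (.node (nat_lit 793170) (.leaf (nat_lit 0)) (.leaf (nat_lit 2160))) (.node (nat_lit 793392) (.leaf (nat_lit 0)) (.node (nat_lit 795107) (.leaf (nat_lit 327)) (.leaf (nat_lit 8))))) (.node (nat_lit 800084) (.node (nat_lit 796265) (.leaf (nat_lit 2160)) (.node (nat_lit 799005) (.leaf (nat_lit 0)) (.leaf (nat_lit 49)))) (.node (nat_lit 801102) (.leaf (nat_lit 0)) (.node (nat_lit 802931) (.leaf (nat_lit 2160)) (.leaf (nat_lit 0)))))) (.node (nat_lit 808719) (.node (nat_lit 805229) (.node (nat_lit 804928) (.leaf (nat_lit 2160)) (.leaf (nat_lit 0))) (.node (nat_lit 805575) (.leaf (nat_lit 2160)) (.node (nat_lit 808187) (.leaf (nat_lit 0)) (.leaf (nat_lit 55))))) (.node (nat_lit 809429) (.node (nat_lit 808980) (.leaf (nat_lit 49)) (.node (nat_lit 809224) (.leaf (nat_lit 2160)) (.leaf (nat_lit 0)))) (.node (nat_lit 810230) (.leaf (nat_lit 55)) (.node (nat_lit 810851) (.leaf (nat_lit 2160)) (.leaf (nat_lit 0))))))) (.node (nat_lit 814581) (.node (nat_lit 812867) (.node (nat_lit 812256) (.node (nat_lit 812124) (.leaf (nat_lit 2160)) (.leaf (nat_lit 1407))) (.node (nat_lit 812685) (.leaf (nat_lit 2)) (.node (nat_lit 812814) (.leaf (nat_lit 2160)) (.leaf (nat_lit 0))))) (.node (nat_lit 813998) (.node (nat_lit 813542) (.leaf (nat_lit 2160)) (.node (nat_lit 813889) (.leaf (nat_lit 0)) (.leaf (nat_lit 2160)))) (.node (nat_lit 814070) (.leaf (nat_lit 0)) (.node (nat_lit 814399) (.leaf (nat_lit 2160)) (.leaf (nat_lit 1273)))))) (.node (nat_lit 817047) (.node (nat_lit 816258) (.node (nat_lit 815236) (.leaf (nat_lit 2160)) (.node (nat_lit 815925) (.leaf (nat_lit 0)) (.leaf (nat_lit 2160)))) (.node (nat_lit 816483) (.leaf (nat_lit 0)) (.node (nat_lit 816712) (.leaf (nat_lit 2160)) (.leaf (nat_lit 0))))) (.node (nat_lit 818677) (.node (nat_lit 817144) (.leaf (nat_lit 2160)) (.node (nat_lit 818379) (.leaf (nat_lit 0)) (.leaf (nat_lit 2160)))) (.node (nat_lit 819541) (.leaf (nat_lit 0)) (.node (nat_lit 819756) (.leaf (nat_lit 2160)) (.leaf (nat_lit 0))))))))) (.node (nat_lit 851951) (.node (nat_lit 836401) (.node (nat_lit 826361) (.node (nat_lit 824585) (.node (nat_lit 822728) (.node (nat_lit 822724) (.leaf (nat_lit 2160)) (.leaf (nat_lit 0))) (.node (nat_lit 822970) (.leaf (nat_lit 1328)) (.node (nat_lit 823767) (.leaf (nat_lit 2160)) (.leaf (nat_lit 0))))) (.node (nat_lit 826064) (.node (nat_lit 824689) (.leaf (nat_lit 8)) (.node (nat_lit 825620) (.leaf (nat_lit 0)) (.leaf (nat_lit 1201)))) (.node (nat_lit 826165) (.leaf (nat_lit 2160)) (.node (nat_lit 826339) (.leaf (nat_lit 0)) (.leaf (nat_lit 1369)))))) (.node (nat_lit 832080) (.node (nat_lit 830949) (.node (nat_lit 827726) (.leaf (nat_lit 289)) (.leaf (nat_lit 0))) (.node (nat_lit 831147) (.leaf (nat_lit 2160)) (.node (nat_lit 831959) (.leaf (nat_lit 0)) (.leaf (nat_lit 2160))))) (.node (nat_lit 835294) (.node (nat_lit 834777) (.leaf (nat_lit 0)) (.node (nat_lit 834957) (.leaf (nat_lit 2160)) (.leaf (nat_lit 1369)))) (.node (nat_lit 835710) (.leaf (nat_lit 0)) (.node (nat_lit 835826) (.leaf (nat_lit 2160)) (.leaf (nat_lit 0))))))) (.node (nat_lit 843635) (.node (nat_lit 840806) (.node (nat_lit 837201) (.node (nat_lit 836608) (.leaf (nat_lit 1322)) (.leaf (nat_lit 1139))) (.node (nat_lit 838191) (.leaf (nat_lit 2160)) (.node (nat_lit 838969) (.leaf (nat_lit 0)) (.leaf (nat_lit 2160))))) (.node (nat_lit 843266) (.node (nat_lit 842485) (.leaf (nat_lit 0)) (.node (nat_lit 842682) (.leaf (nat_lit 2160)) (.leaf (nat_lit 0)))) (.node (nat_lit 843314) (.leaf (nat_lit 2160)) (.node (nat_lit 843521) (.leaf (nat_lit 0)) (.leaf (nat_lit 1287)))))) (.node (nat_lit 848207) (.node (nat_lit 845071) (.node (nat_lit 843999) (.leaf (nat_lit 2160)) (.node (nat_lit 844199) (.leaf (nat_lit 1369)) (.leaf (nat_lit 2160)))) (.node (nat_lit 845136) (.leaf (nat_lit 327)) (.node (nat_lit 846143) (.leaf (nat_lit 0)) (.leaf (nat_lit 2160))))) (.node (nat_lit 849430) (.node (nat_lit 848611) (.leaf (nat_lit 0)) (.node (nat_lit 848694) (.leaf (nat_lit 55)) (.leaf (nat_lit 0)))) (.node (nat_lit 849612) (.leaf (nat_lit 2160)) (.node (nat_lit 851837) (.leaf (nat_lit 0)) (.leaf (nat_lit 2160)))))))) (.node (nat_lit 868505) (.node (nat_lit 859076) (.node (nat_lit 852886) (.node (nat_lit 852031) (.node (nat_lit 851953) (.leaf (nat_lit 289)) (.leaf (nat_lit 0))) (.node (nat_lit 852669) (.leaf (nat_lit 49)) (.node (nat_lit 852703) (.leaf (nat_lit 327)) (.leaf (nat_lit 49))))) (.node (nat_lit 855446) (.node (nat_lit 853299) (.leaf (nat_lit 0)) (.node (nat_lit 853781) (.leaf (nat_lit 2)) (.leaf (nat_lit 2160)))) (.node (nat_lit 856475) (.leaf (nat_lit 0)) (.node (nat_lit 856714) (.leaf (nat_lit 2160)) (.leaf (nat_lit 0)))))) (.node (nat_lit 866646) (.node (nat_lit 861348) (.node (nat_lit 861006) (.leaf (nat_lit 2160)) (.leaf (nat_lit 1322))) (.node (nat_lit 864149) (.leaf (nat_lit 2160)) (.node (nat_lit 866608) (.leaf (nat_lit 0)) (.leaf (nat_lit 1273))))) (.node (nat_lit 867751) (.node (nat_lit 867408) (.leaf (nat_lit 248)) (.node (nat_lit 867565) (.leaf (nat_lit 0)) (.leaf (nat_lit 2160)))) (.node (nat_lit 868023) (.leaf (nat_lit 0)) (.node (nat_lit 868241) (.leaf (nat_lit 2160)) (.leaf (nat_lit 0))))))) (.node (nat_lit 876469) (.node (nat_lit 872427) (.node (nat_lit 869022) (.node (nat_lit 868986) (.leaf (nat_lit 1379)) (.leaf (nat_lit 2160))) (.node (nat_lit 870237) (.leaf (nat_lit 0)) (.node (nat_lit 871738) (.leaf (nat_lit 2160)) (.leaf (nat_lit 0))))) (.node (nat_lit 874013) (.node (nat_lit 873082) (.leaf (nat_lit 2160)) (.node (nat_lit 873988) (.leaf (nat_lit 0)) (.leaf (nat_lit 2160)))) (.node (nat_lit 874796) (.leaf (nat_lit 1407)) (.node (nat_lit 876227) (.leaf (nat_lit 0)) (.leaf (nat_lit 1201)))))) (.node (nat_lit 878439) (.node (nat_lit 877697) (.node (nat_lit 876946) (.leaf (nat_lit 0)) (.node (nat_lit 877308) (.leaf (nat_lit 1375)) (.leaf (nat_lit 8)))) (.node (nat_lit 877819) (.leaf (nat_lit 1375)) (.node (nat_lit 878118) (.leaf (nat_lit 2)) (.leaf (nat_lit 1287))))) (.node (nat_lit 879552) (.node (nat_lit 878683) (.leaf (nat_lit 2160)) (.node (nat_lit 878837) (.leaf (nat_lit 0)) (.leaf (nat_lit 1214)))) (.node (nat_lit 879883) (.leaf (nat_lit 121)) (.node (nat_lit 881503) (.leaf (nat_lit 2160)) (.leaf (nat_lit 0))))))))))))) (.node (nat_lit 0x13ebf7) (.node (nat_lit 0x10ccb7) (.node (nat_lit 986536) (.node (nat_lit 939530) (.node (nat_lit 912177) (.node (nat_lit 895427) (.node (nat_lit 889576) (.node (nat_lit 883910) (.node (nat_lit 883399) (.node (nat_lit 881612) (.leaf (nat_lit 2160)) (.leaf (nat_lit 0))) (.node (nat_lit 883467) (.leaf (nat_lit 2160)) (.node (nat_lit 883625) (.leaf (nat_lit 0)) (.leaf (nat_lit 55))))) (.node (nat_lit 888322) (.node (nat_lit 883925) (.leaf (nat_lit 2160)) (.node (nat_lit 887068) (.leaf (nat_lit 0)) (.leaf (nat_lit 2160)))) (.node (nat_lit 888911) (.leaf (nat_lit 1407)) (.node (nat_lit 889133) (.leaf (nat_lit 2160)) (.leaf (nat_lit 121)))))) (.node (nat_lit 893357) (.node (nat_lit 889644) (.node (nat_lit 889632) (.leaf (nat_lit 2160)) (.leaf (nat_lit 0))) (.node (nat_lit 892846) (.leaf (nat_lit 1328)) (.node (nat_lit 893274) (.leaf (nat_lit 0)) (.leaf (nat_lit 8))))) (.node (nat_lit 894128) (.node (nat_lit 893731) (.leaf (nat_lit 0)) (.node (nat_lit 893832) (.leaf (nat_lit 2160)) (.leaf (nat_lit 0)))) (.node (nat_lit 894753) (.leaf (nat_lit 8)) (.node (nat_lit 894888) (.leaf (nat_lit 2160)) (.leaf (nat_lit 55))))))) (.node (nat_lit 901751) (.node (nat_lit 898490) (.node (nat_lit 896415) (.node (nat_lit 896150) (.leaf (nat_lit 0)) (.leaf (nat_lit 2160))) (.node (nat_lit 896432) (.leaf (nat_lit 0)) (.node (nat_lit 897229) (.leaf (nat_lit 2160)) (.leaf (nat_lit 0))))) (.node (nat_lit 900743) (.node (nat_lit 898814) (.leaf (nat_lit 55)) (.node (nat_lit 900548) (.leaf (nat_lit 0)) (.leaf (nat_lit 2160)))) (.node (nat_lit 900745) (.leaf (nat_lit 289)) (.node (nat_lit 901484) (.leaf (nat_lit 0)) (.leaf (nat_lit 49)))))) (.node (nat_lit 905321) (.node (nat_lit 902673) (.node (nat_lit 902638) (.leaf (nat_lit 2160)) (.leaf (nat_lit 1287))) (.node (nat_lit 904332) (.leaf (nat_lit 2160)) (.node (nat_lit 905078) (.leaf (nat_lit 2)) (.leaf (nat_lit 0))))) (.node (nat_lit 910981) (.node (nat_lit 907614) (.leaf (nat_lit 2160)) (.node (nat_lit 910411) (.leaf (nat_lit 0)) (.leaf (nat_lit 2160)))) (.node (nat_lit 911955) (.leaf (nat_lit 0)) (.node (nat_lit 912023) (.leaf (nat_lit 2160)) (.leaf (nat_lit 0)))))))) (.node (nat_lit 922012) (.node (nat_lit 915795) (.node (nat_lit 913902) (.node (nat_lit 912652) (.node (nat_lit 912648) (.leaf (nat_lit 327)) (.leaf (nat_lit 2160))) (.node (nat_lit 913670) (.leaf (nat_lit 0)) (.node (nat_lit 913813) (.leaf (nat_lit 2160)) (.leaf (nat_lit 1369))))) (.node (nat_lit 914503) (.node (nat_lit 914028) (.leaf (nat_lit 1287)) (.node (nat_lit 914479) (.leaf (nat_lit 0)) (.leaf (nat_lit 1273)))) (.node (nat_lit 915581) (.leaf (nat_lit 2160)) (.node (nat_lit 915639) (.leaf (nat_lit 0)) (.leaf (nat_lit 49)))))) (.node (nat_lit 918458) (.node (nat_lit 917062) (.node (nat_lit 916925) (.leaf (nat_lit 2160)) (.leaf (nat_lit 0))) (.node (nat_lit 917197) (.leaf (nat_lit 55)) (.node (nat_lit 917790) (.leaf (nat_lit 2160)) (.leaf (nat_lit 49))))) (.node (nat_lit 920333) (.node (nat_lit 919733) (.leaf (nat_lit 0)) (.node (nat_lit 919870) (.leaf (nat_lit 2160)) (.leaf (nat_lit 0)))) (.node (nat_lit 920509) (.leaf (nat_lit 2160)) (.node (nat_lit 921392) (.leaf (nat_lit 0)) (.leaf (nat_lit 49))))))) (.node (nat_lit 929359) (.node (nat_lit 925731) (.node (nat_lit 924109) (.node (nat_lit 924096) (.leaf (nat_lit 2160)) (.leaf (nat_lit 2))) (.node (nat_lit 924142) (.leaf (nat_lit 295)) (.node (nat_lit 925029) (.leaf (nat_lit 2160)) (.leaf (nat_lit 0))))) (.node (nat_lit 926836) (.node (nat_lit 925814) (.leaf (nat_lit 49)) (.node (nat_lit 925818) (.leaf (nat_lit 0)) (.leaf (nat_lit 73)))) (.node (nat_lit 927700) (.leaf (nat_lit 0)) (.node (nat_lit 928940) (.leaf (nat_lit 2160)) (.leaf (nat_lit 0)))))) (.node (nat_lit 934670) (.node (nat_lit 930730) (.node (nat_lit 930490) (.leaf (nat_lit 8)) (.node (nat_lit 930569) (.leaf (nat_lit 2160)) (.leaf (nat_lit 0)))) (.node (nat_lit 931041) (.leaf (nat_lit 2160)) (.node (nat_lit 931177) (.leaf (nat_lit 2)) (.leaf (nat_lit 0))))) (.node (nat_lit 935929) (.node (nat_lit 935075) (.leaf (nat_lit 347)) (.node (nat_lit 935914) (.leaf (nat_lit 0)) (.leaf (nat_lit 1287)))) (.node (nat_lit 939108) (.leaf (nat_lit 0)) (.node (nat_lit 939405) (.leaf (nat_lit 2160)) (.leaf (nat_lit 0))))))))) (.node (nat_lit 962051) (.node (nat_lit 946528) (.node (nat_lit 943370) (.node (nat_lit 940239) (.node (nat_lit 939619) (.node (nat_lit 939587) (.leaf (nat_lit 2160)) (.leaf (nat_lit 0))) (.node (nat_lit 939827) (.leaf (nat_lit 2160)) (.node (nat_lit 940094) (.leaf (nat_lit 0)) (.leaf (nat_lit 2160))))) (.node (nat_lit 942677) (.node (nat_lit 940543) (.leaf (nat_lit 0)) (.node (nat_lit 941269) (.leaf (nat_lit 1375)) (.leaf (nat_lit 0)))) (.node (nat_lit 942880) (.leaf (nat_lit 2160)) (.node (nat_lit 942953) (.leaf (nat_lit 1287)) (.leaf (nat_lit 0)))))) (.node (nat_lit 944950) (.node (nat_lit 944338) (.node (nat_lit 943928) (.leaf (nat_lit 8)) (.leaf (nat_lit 0))) (.node (nat_lit 944897) (.leaf (nat_lit 2160)) (.node (nat_lit 944916) (.leaf (nat_lit 0)) (.leaf (nat_lit 242))))) (.node (nat_lit 945992) (.node (nat_lit 945360) (.leaf (nat_lit 0)) (.node (nat_lit 945635) (.leaf (nat_lit 2160)) (.leaf (nat_lit 327)))) (.node (nat_lit 946335) (.leaf (nat_lit 0)) (.node (nat_lit 946350) (.leaf (nat_lit 2160)) (.leaf (nat_lit 0))))))) (.node (nat_lit 952612) (.node (nat_lit 949932) (.node (nat_lit 948019) (.node (nat_lit 946600) (.leaf (nat_lit 2160)) (.leaf (nat_lit 0))) (.node (nat_lit 948229) (.leaf (nat_lit 2160)) (.node (nat_lit 949608) (.leaf (nat_lit 0)) (.leaf (nat_lit 1287))))) (.node (nat_lit 950744) (.node (nat_lit 950098) (.leaf (nat_lit 0)) (.node (nat_lit 950301) (.leaf (nat_lit 8)) (.leaf (nat_lit 0)))) (.node (nat_lit 951405) (.leaf (nat_lit 2160)) (.node (nat_lit 952358) (.leaf (nat_lit 0)) (.leaf (nat_lit 2160)))))) (.node (nat_lit 957486) (.node (nat_lit 957243) (.node (nat_lit 954213) (.leaf (nat_lit 289)) (.node (nat_lit 956553) (.leaf (nat_lit 2160)) (.leaf (nat_lit 0)))) (.node (nat_lit 957299) (.leaf (nat_lit 2160)) (.node (nat_lit 957472) (.leaf (nat_lit 0)) (.leaf (nat_lit 2160))))) (.node (nat_lit 960290) (.node (nat_lit 957689) (.leaf (nat_lit 55)) (.node (nat_lit 958221) (.leaf (nat_lit 2160)) (.leaf (nat_lit 0)))) (.node (nat_lit 961198) (.leaf (nat_lit 2160)) (.node (nat_lit 961467) (.leaf (nat_lit 327)) (.leaf (nat_lit 0)))))))) (.node (nat_lit 973775) (.node (nat_lit 966429) (.node (nat_lit 964499) (.node (nat_lit 962784) (.node (nat_lit 962608) (.leaf (nat_lit 2160)) (.leaf (nat_lit 1094))) (.node (nat_lit 962817) (.leaf (nat_lit 1369)) (.node (nat_lit 962991) (.leaf (nat_lit 8)) (.leaf (nat_lit 1094))))) (.node (nat_lit 965432) (.node (nat_lit 965146) (.leaf (nat_lit 2)) (.node (nat_lit 965210) (.leaf (nat_lit 0)) (.leaf (nat_lit 2160)))) (.node (nat_lit 965785) (.leaf (nat_lit 1287)) (.node (nat_lit 966132) (.leaf (nat_lit 0)) (.leaf (nat_lit 2160)))))) (.node (nat_lit 969237) (.node (nat_lit 967503) (.node (nat_lit 966771) (.leaf (nat_lit 0)) (.leaf (nat_lit 2160))) (.node (nat_lit 968779) (.leaf (nat_lit 0)) (.node (nat_lit 968955) (.leaf (nat_lit 2160)) (.leaf (nat_lit 0))))) (.node (nat_lit 971454) (.node (nat_lit 969555) (.leaf (nat_lit 2160)) (.node (nat_lit 970340) (.leaf (nat_lit 0)) (.leaf (nat_lit 2160)))) (.node (nat_lit 971999) (.leaf (nat_lit 327)) (.node (nat_lit 973130) (.leaf (nat_lit 0)) (.leaf (nat_lit 2160))))))) (.node (nat_lit 979844) (.node (nat_lit 977600) (.node (nat_lit 977089) (.node (nat_lit 975202) (.leaf (nat_lit 0)) (.leaf (nat_lit 2160))) (.node (nat_lit 977333) (.leaf (nat_lit 55)) (.node (nat_lit 977439) (.leaf (nat_lit 0)) (.leaf (nat_lit 2160))))) (.node (nat_lit 978307) (.node (nat_lit 977861) (.leaf (nat_lit 49)) (.node (nat_lit 978105) (.leaf (nat_lit 2160)) (.leaf (nat_lit 0)))) (.node (nat_lit 978355) (.leaf (nat_lit 2160)) (.node (nat_lit 979622) (.leaf (nat_lit 0)) (.leaf (nat_lit 2160)))))) (.node (nat_lit 983192) (.node (nat_lit 980754) (.node (nat_lit 979966) (.leaf (nat_lit 327)) (.node (nat_lit 980317) (.leaf (nat_lit 2)) (.leaf (nat_lit 295)))) (.node (nat_lit 981337) (.leaf (nat_lit 0)) (.node (nat_lit 981742) (.leaf (nat_lit 2160)) (.leaf (nat_lit 0))))) (.node (nat_lit 984839) (.node (nat_lit 983812) (.leaf (nat_lit 2160)) (.node (nat_lit 984806) (.leaf (nat_lit 0)) (.leaf (nat_lit 2160)))) (.node (nat_lit 985703) (.leaf (nat_lit 1287)) (.node (nat_lit 986277) (.leaf (nat_lit 0)) (.leaf (nat_lit 295)))))))))) (.node (nat_lit 0xfe19d) (.node (nat_lit 0xf6861) (.node (nat_lit 0xf424f) (.node (nat_lit 994535) (.node (nat_lit 991159) (.node (nat_lit 987537) (.node (nat_lit 987531) (.leaf (nat_lit 0)) (.leaf (nat_lit 2160))) (.node (nat_lit 989022) (.leaf (nat_lit 0)) (.node (nat_lit 990369) (.leaf (nat_lit 2160)) (.leaf (nat_lit 289))))) (.node (nat_lit 992862) (.node (nat_lit 991763) (.leaf (nat_lit 2160)) (.node (nat_lit 992798) (.leaf (nat_lit 0)) (.leaf (nat_lit 1407)))) (.node (nat_lit 992941) (.leaf (nat_lit 2160)) (.node (nat_lit 993782) (.leaf (nat_lit 0)) (.leaf (nat_lit 1271)))))) (.node (nat_lit 995557) (.node (nat_lit 995456) (.node (nat_lit 994656) (.leaf (nat_lit 0)) (.leaf (nat_lit 327))) (.node (nat_lit 995504) (.leaf (nat_lit 2160)) (.node (nat_lit 995523) (.leaf (nat_lit 0)) (.leaf (nat_lit 242))))) (.node (nat_lit 996389) (.node (nat_lit 995931) (.leaf (nat_lit 0)) (.node (nat_lit 996242) (.leaf (nat_lit 2160)) (.leaf (nat_lit 1369)))) (.node (nat_lit 998708) (.leaf (nat_lit 2160)) (.node (nat_lit 999065) (.leaf (nat_lit 1287)) (.leaf (nat_lit 121))))))) (.node (nat_lit 0xf5649) (.node (nat_lit 0xf544a) (.node (nat_lit 0xf4a1c) (.node (nat_lit 0xf4596) (.leaf (nat_lit 0)) (.leaf (nat_lit 55))) (.node (nat_lit 0xf50f3) (.leaf (nat_lit 0)) (.node (nat_lit 0xf52a2) (.leaf (nat_lit 55)) (.leaf (nat_lit 289))))) (.node (nat_lit 0xf5514) (.node (nat_lit 0xf5488) (.leaf (nat_lit 0)) (.node (nat_lit 0xf54a3) (.leaf (nat_lit 2160)) (.leaf (nat_lit 0)))) (.node (nat_lit 0xf5570) (.leaf (nat_lit 2160)) (.node (nat_lit 0xf5604) (.leaf (nat_lit 327)) (.leaf (nat_lit 2160)))))) (.node (nat_lit 0xf5c97) (.node (nat_lit 0xf586a) (.node (nat_lit 0xf56e2) (.leaf (nat_lit 0)) (.node (nat_lit 0xf5742) (.leaf (nat_lit 121)) (.leaf (nat_lit 0)))) (.node (nat_lit 0xf5941) (.leaf (nat_lit 1287)) (.node (nat_lit 0xf5a69) (.leaf (nat_lit 0)) (.leaf (nat_lit 8))))) (.node (nat_lit 0xf60a9) (.node (nat_lit 0xf5dd1) (.leaf (nat_lit 0)) (.node (nat_lit 0xf6014) (.leaf (nat_lit 2160)) (.leaf (nat_lit 0)))) (.node (nat_lit 0xf6520) (.leaf (nat_lit 2160)) (.node (nat_lit 0xf65d1) (.leaf (nat_lit 0)) (.leaf (nat_lit 1375)))))))) (.node (nat_lit 0xfa8c3) (.node (nat_lit 0xf88fe) (.node (nat_lit 0xf7722) (.node (nat_lit 0xf72b2) (.node (nat_lit 0xf6ed0) (.leaf (nat_lit 0)) (.leaf (nat_lit 2160))) (.node (nat_lit 0xf7324) (.leaf (nat_lit 1287)) (.node (nat_lit 0xf76b0) (.leaf (nat_lit 2160)) (.leaf (nat_lit 2))))) (.node (nat_lit 0xf7db1) (.node (nat_lit 0xf7725) (.leaf (nat_lit 2160)) (.node (nat_lit 0xf79b7) (.leaf (nat_lit 55)) (.leaf (nat_lit 0)))) (.node (nat_lit 0xf8248) (.leaf (nat_lit 2160)) (.node (nat_lit 0xf85bb) (.leaf (nat_lit 0)) (.leaf (nat_lit 55)))))) (.node (nat_lit 0xf97b8) (.node (nat_lit 0xf8a7d) (.node (nat_lit 0xf89f1) (.leaf (nat_lit 0)) (.leaf (nat_lit 2160))) (.node (nat_lit 0xf8d96) (.leaf (nat_lit 0)) (.node (nat_lit 0xf951c) (.leaf (nat_lit 2160)) (.leaf (nat_lit 0))))) (.node (nat_lit 0xfa2c6) (.node (nat_lit 0xfa0dc) (.leaf (nat_lit 2160)) (.node (nat_lit 0xfa269) (.leaf (nat_lit 55)) (.leaf (nat_lit 2160)))) (.node (nat_lit 0xfa473) (.leaf (nat_lit 49)) (.node (nat_lit 0xfa63b) (.leaf (nat_lit 2160)) (.leaf (nat_lit 0))))))) (.node (nat_lit 0xfc647) (.node (nat_lit 0xfb855) (.node (nat_lit 0xfafa4) (.node (nat_lit 0xfaa39) (.leaf (nat_lit 2)) (.leaf (nat_lit 0))) (.node (nat_lit 0xfb362) (.leaf (nat_lit 2160)) (.node (nat_lit 0xfb5af) (.leaf (nat_lit 0)) (.leaf (nat_lit 8))))) (.node (nat_lit 0xfc26d) (.node (nat_lit 0xfb8d9) (.leaf (nat_lit 2160)) (.node (nat_lit 0xfbdee) (.leaf (nat_lit 1287)) (.leaf (nat_lit 2160)))) (.node (nat_lit 0xfc2ad) (.leaf (nat_lit 0)) (.node (nat_lit 0xfc481) (.leaf (nat_lit 2160)) (.leaf (nat_lit 0)))))) (.node (nat_lit 0xfd3bb) (.node (nat_lit 0xfcafa) (.node (nat_lit 0xfc67f) (.leaf (nat_lit 2160)) (.node (nat_lit 0xfca32) (.leaf (nat_lit 0)) (.leaf (nat_lit 49)))) (.node (nat_lit 0xfcd89) (.leaf (nat_lit 2160)) (.node (nat_lit 0xfce5c) (.leaf (nat_lit 0)) (.leaf (nat_lit 55))))) (.node (nat_lit 0xfdc28) (.node (nat_lit 0xfda29) (.leaf (nat_lit 0)) (.node (nat_lit 0xfdb11) (.leaf (nat_lit 2160)) (.leaf (nat_lit 1375)))) (.node (nat_lit 0xfdd8e) (.leaf (nat_lit 2160)) (.node (nat_lit 0xfe185) (.leaf (nat_lit 0)) (.leaf (nat_lit 49))))))))) (.node (nat_lit 0x104d69) (.node (nat_lit 0x10152a) (.node (nat_lit 0xff913) (.node (nat_lit 0xfe9ce) (.node (nat_lit 0xfe566) (.node (nat_lit 0xfe1a1) (.leaf (nat_lit 2160)) (.leaf (nat_lit 0))) (.node (nat_lit 0xfe5d3) (.leaf (nat_lit 2160)) (.node (nat_lit 0xfe75c) (.leaf (nat_lit 0)) (.leaf (nat_lit 49))))) (.node (nat_lit 0xff606) (.node (nat_lit 0xfeac9) (.leaf (nat_lit 295)) (.node (nat_lit 0xff5d6) (.leaf (nat_lit 0)) (.leaf (nat_lit 2160)))) (.node (nat_lit 0xff6b4) (.leaf (nat_lit 0)) (.node (nat_lit 0xff86f) (.leaf (nat_lit 1328)) (.leaf (nat_lit 2160)))))) (.node (nat_lit 0x100363) (.node (nat_lit 0xffc51) (.node (nat_lit 0xffa5b) (.leaf (nat_lit 0)) (.leaf (nat_lit 55))) (.node (nat_lit 0xffda3) (.leaf (nat_lit 1287)) (.node (nat_lit 0xfffa5) (.leaf (nat_lit 2160)) (.leaf (nat_lit 55))))) (.node (nat_lit 0x100d97) (.node (nat_lit 0x100bf8) (.leaf (nat_lit 0)) (.node (nat_lit 0x100d41) (.leaf (nat_lit 2160)) (.leaf (nat_lit 1273)))) (.node (nat_lit 0x100df7) (.leaf (nat_lit 0)) (.node (nat_lit 0x100f96) (.leaf (nat_lit 2160)) (.leaf (nat_lit 0))))))) (.node (nat_lit 0x1036fe) (.node (nat_lit 0x102b75) (.node (nat_lit 0x101bb3) (.node (nat_lit 0x1016a2) (.leaf (nat_lit 2160)) (.leaf (nat_lit 49))) (.node (nat_lit 0x1021b3) (.leaf (nat_lit 2160)) (.node (nat_lit 0x102231) (.leaf (nat_lit 295)) (.leaf (nat_lit 0))))) (.node (nat_lit 0x1032ba) (.node (nat_lit 0x102c9a) (.leaf (nat_lit 2)) (.node (nat_lit 0x103180) (.leaf (nat_lit 347)) (.leaf (nat_lit 0)))) (.node (nat_lit 0x103307) (.leaf (nat_lit 2160)) (.node (nat_lit 0x103573) (.leaf (nat_lit 1379)) (.leaf (nat_lit 0)))))) (.node (nat_lit 0x103d58) (.node (nat_lit 0x103903) (.node (nat_lit 0x1038c5) (.leaf (nat_lit 2160)) (.node (nat_lit 0x1038d3) (.leaf (nat_lit 49)) (.leaf (nat_lit 2160)))) (.node (nat_lit 0x103a60) (.leaf (nat_lit 0)) (.node (nat_lit 0x103cd1) (.leaf (nat_lit 2)) (.leaf (nat_lit 2160))))) (.node (nat_lit 0x104644) (.node (nat_lit 0x104047) (.leaf (nat_lit 49)) (.node (nat_lit 0x10454e) (.leaf (nat_lit 2160)) (.leaf (nat_lit 0)))) (.node (nat_lit 0x104696) (.leaf (nat_lit 2160)) (.node (nat_lit 0x1049d2) (.leaf (nat_lit 2)) (.leaf (nat_lit 2160)))))))) (.node (nat_lit 0x108941) (.node (nat_lit 0x106d7b) (.node (nat_lit 0x105c71) (.node (nat_lit 0x1055a1) (.node (nat_lit 0x10503b) (.leaf (nat_lit 1287)) (.leaf (nat_lit 0))) (.node (nat_lit 0x105638) (.leaf (nat_lit 55)) (.node (nat_lit 0x105a26) (.leaf (nat_lit 0)) (.leaf (nat_lit 2160))))) (.node (nat_lit 0x10641a) (.node (nat_lit 0x105dc0) (.leaf (nat_lit 0)) (.node (nat_lit 0x105ea5) (.leaf (nat_lit 2160)) (.leaf (nat_lit 0)))) (.node (nat_lit 0x10643e) (.leaf (nat_lit 2160)) (.node (nat_lit 0x106818) (.leaf (nat_lit 0)) (.leaf (nat_lit 2160)))))) (.node (nat_lit 0x107bfa) (.node (nat_lit 0x107712) (.node (nat_lit 0x1075ab) (.leaf (nat_lit 0)) (.leaf (nat_lit 1328))) (.node (nat_lit 0x107723) (.leaf (nat_lit 0)) (.node (nat_lit 0x1077af) (.leaf (nat_lit 2160)) (.leaf (nat_lit 55))))) (.node (nat_lit 0x108102) (.node (nat_lit 0x107e12) (.leaf (nat_lit 2160)) (.node (nat_lit 0x107e48) (.leaf (nat_lit 242)) (.leaf (nat_lit 0)))) (.node (nat_lit 0x1081a9) (.leaf (nat_lit 8)) (.node (nat_lit 0x1087a9) (.leaf (nat_lit 2160)) (.leaf (nat_lit 2))))))) (.node (nat_lit 0x10b078) (.node (nat_lit 0x1097e8) (.node (nat_lit 0x109244) (.node (nat_lit 0x108a1b) (.leaf (nat_lit 2160)) (.leaf (nat_lit 0))) (.node (nat_lit 0x109338) (.leaf (nat_lit 2160)) (.node (nat_lit 0x1094cf) (.leaf (nat_lit 0)) (.leaf (nat_lit 49))))) (.node (nat_lit 0x10ab82) (.node (nat_lit 0x10996a) (.leaf (nat_lit 2160)) (.node (nat_lit 0x109f7f) (.leaf (nat_lit 0)) (.leaf (nat_lit 2160)))) (.node (nat_lit 0x10acb2) (.leaf (nat_lit 0)) (.node (nat_lit 0x10ad9f) (.leaf (nat_lit 1375)) (.leaf (nat_lit 2160)))))) (.node (nat_lit 0x10bfc4) (.node (nat_lit 0x10bb85) (.node (nat_lit 0x10b5d3) (.leaf (nat_lit 0)) (.node (nat_lit 0x10b7cc) (.leaf (nat_lit 1287)) (.leaf (nat_lit 0)))) (.node (nat_lit 0x10bd61) (.leaf (nat_lit 2160)) (.node (nat_lit 0x10be97) (.leaf (nat_lit 0)) (.leaf (nat_lit 1369))))) (.node (nat_lit 0x10c45b) (.node (nat_lit 0x10c200) (.leaf (nat_lit 2160)) (.node (nat_lit 0x10c26d) (.leaf (nat_lit 8)) (.leaf (nat_lit 2160)))) (.node (nat_lit 0x10c753) (.leaf (nat_lit 0)) (.node (nat_lit 0x10c840) (.leaf (nat_lit 1287)) (.leaf (nat_lit 2160))))))))))) (.node (nat_lit 0x128ca0) (.node (nat_lit 0x11abbf) (.node (nat_lit 0x11435a) (.node (nat_lit 0x110bf3) (.node (nat_lit 0x10f224) (.node (nat_lit 0x10dc0e) (.node (nat_lit 0x10d6eb) (.node (nat_lit 0x10d6e7) (.leaf (nat_lit 0)) (.leaf (nat_lit 2160))) (.node (nat_lit 0x10daa7) (.leaf (nat_lit 0)) (.node (nat_lit 0x10dad9) (.leaf (nat_lit 1375)) (.leaf (nat_lit 2160))))) (.node (nat_lit 0x10edb9) (.node (nat_lit 0x10dd76) (.leaf (nat_lit 0)) (.node (nat_lit 0x10e2a0) (.leaf (nat_lit 1328)) (.leaf (nat_lit 0)))) (.node (nat_lit 0x10ee26) (.leaf (nat_lit 2160)) (.node (nat_lit 0x10ef25) (.leaf (nat_lit 0)) (.leaf (nat_lit 2)))))) (.node (nat_lit 0x110081) (.node (nat_lit 0x10fd61) (.node (nat_lit 0x10fa04) (.leaf (nat_lit 0)) (.leaf (nat_lit 2160))) (.node (nat_lit 0x10fe74) (.leaf (nat_lit 327)) (.node (nat_lit 0x10feb2) (.leaf (nat_lit 1287)) (.leaf (nat_lit 0))))) (.node (nat_lit 0x110628) (.node (nat_lit 0x110166) (.leaf (nat_lit 2160)) (.node (nat_lit 0x1105f6) (.leaf (nat_lit 0)) (.leaf (nat_lit 2160)))) (.node (nat_lit 0x110769) (.leaf (nat_lit 1287)) (.node (nat_lit 0x110804) (.leaf (nat_lit 2160)) (.leaf (nat_lit 0))))))) (.node (nat_lit 0x1122f3) (.node (nat_lit 0x111be7) (.node (nat_lit 0x111589) (.node (nat_lit 0x111403) (.leaf (nat_lit 2160)) (.leaf (nat_lit 0))) (.node (nat_lit 0x1115cd) (.leaf (nat_lit 2160)) (.node (nat_lit 0x1118f4) (.leaf (nat_lit 0)) (.leaf (nat_lit 2160))))) (.node (nat_lit 0x111d7d) (.node (nat_lit 0x111cc8) (.leaf (nat_lit 0)) (.node (nat_lit 0x111d4f) (.leaf (nat_lit 2160)) (.leaf (nat_lit 1287)))) (.node (nat_lit 0x111e1a) (.leaf (nat_lit 2160)) (.node (nat_lit 0x11217b) (.leaf (nat_lit 0)) (.leaf (nat_lit 2160)))))) (.node (nat_lit 0x11332a) (.node (nat_lit 0x112804) (.node (nat_lit 0x112524) (.leaf (nat_lit 49)) (.leaf (nat_lit 0))) (.node (nat_lit 0x112e82) (.leaf (nat_lit 2160)) (.node (nat_lit 0x1130aa) (.leaf (nat_lit 0)) (.leaf (nat_lit 2160))))) (.node (nat_lit 0x113ed1) (.node (nat_lit 0x113a6f) (.leaf (nat_lit 0)) (.node (nat_lit 0x113b26) (.leaf (nat_lit 8)) (.leaf (nat_lit 0)))) (.node (nat_lit 0x113f6c) (.leaf (nat_lit 2160)) (.node (nat_lit 0x1142b3) (.leaf (nat_lit 0)) (.leaf (nat_lit 1287)))))))) (.node (nat_lit 0x1170dd) (.node (nat_lit 0x115411) (.node (nat_lit 0x1146b1) (.node (nat_lit 0x114403) (.node (nat_lit 0x11436a) (.leaf (nat_lit 2160)) (.leaf (nat_lit 0))) (.node (nat_lit 0x114524) (.leaf (nat_lit 1328)) (.node (nat_lit 0x114602) (.leaf (nat_lit 2160)) (.leaf (nat_lit 1322))))) (.node (nat_lit 0x114d71) (.node (nat_lit 0x114810) (.leaf (nat_lit 2)) (.node (nat_lit 0x1149c5) (.leaf (nat_lit 295)) (.leaf (nat_lit 0)))) (.node (nat_lit 0x11504a) (.leaf (nat_lit 2160)) (.node (nat_lit 0x11504e) (.leaf (nat_lit 0)) (.leaf (nat_lit 1322)))))) (.node (nat_lit 0x115f04) (.node (nat_lit 0x115ce5) (.node (nat_lit 0x1159ba) (.leaf (nat_lit 0)) (.leaf (nat_lit 1287))) (.node (nat_lit 0x115e38) (.leaf (nat_lit 0)) (.node (nat_lit 0x115e7f) (.leaf (nat_lit 55)) (.leaf (nat_lit 71))))) (.node (nat_lit 0x1168c2) (.node (nat_lit 0x115f58) (.leaf (nat_lit 0)) (.node (nat_lit 0x11652e) (.leaf (nat_lit 295)) (.leaf (nat_lit 2160)))) (.node (nat_lit 0x116e6c) (.leaf (nat_lit 0)) (.node (nat_lit 0x116fee) (.leaf (nat_lit 2160)) (.leaf (nat_lit 0))))))) (.node (nat_lit 0x1193fa) (.node (nat_lit 0x118368) (.node (nat_lit 0x117960) (.node (nat_lit 0x11726a) (.leaf (nat_lit 55)) (.leaf (nat_lit 2160))) (.node (nat_lit 0x118310) (.leaf (nat_lit 0)) (.node (nat_lit 0x118363) (.leaf (nat_lit 8)) (.leaf (nat_lit 0))))) (.node (nat_lit 0x1184d9) (.node (nat_lit 0x118446) (.leaf (nat_lit 2160)) (.node (nat_lit 0x118471) (.leaf (nat_lit 1375)) (.leaf (nat_lit 0)))) (.node (nat_lit 0x118c74) (.leaf (nat_lit 2160)) (.node (nat_lit 0x118ca0) (.leaf (nat_lit 1407)) (.leaf (nat_lit 0)))))) (.node (nat_lit 0x119c9a) (.node (nat_lit 0x119756) (.node (nat_lit 0x119425) (.leaf (nat_lit 2)) (.node (nat_lit 0x119502) (.leaf (nat_lit 59)) (.leaf (nat_lit 0)))) (.node (nat_lit 0x119aea) (.leaf (nat_lit 2160)) (.node (nat_lit 0x119afb) (.leaf (nat_lit 0)) (.leaf (nat_lit 2160))))) (.node (nat_lit 0x11a8b7) (.node (nat_lit 0x11a73b) (.leaf (nat_lit 0)) (.node (nat_lit 0x11a756) (.leaf (nat_lit 2160)) (.leaf (nat_lit 0)))) (.node (nat_lit 0x11a9c0) (.leaf (nat_lit 2160)) (.node (nat_lit 0x11ab1d) (.leaf (nat_lit 0)) (.leaf (nat_lit 1287))))))))) (.node (nat_lit 0x120f4a) (.node (nat_lit 0x11e7cf) (.node (nat_lit 0x11b903) (.node (nat_lit 0x11b368) (.node (nat_lit 0x11ad8f) (.node (nat_lit 0x11abd0) (.leaf (nat_lit 0)) (.leaf (nat_lit 2160))) (.node (nat_lit 0x11aea1) (.leaf (nat_lit 0)) (.node (nat_lit 0x11b0b6) (.leaf (nat_lit 1369)) (.leaf (nat_lit 1407))))) (.node (nat_lit 0x11b5d9) (.node (nat_lit 0x11b3e1) (.leaf (nat_lit 2160)) (.node (nat_lit 0x11b55b) (.leaf (nat_lit 121)) (.leaf (nat_lit 2160)))) (.node (nat_lit 0x11b61c) (.leaf (nat_lit 0)) (.node (nat_lit 0x11b7d8) (.leaf (nat_lit 2160)) (.leaf (nat_lit 8)))))) (.node (nat_lit 0x11cfa6) (.node (nat_lit 0x11c60c) (.node (nat_lit 0x11c516) (.leaf (nat_lit 327)) (.leaf (nat_lit 0))) (.node (nat_lit 0x11c8e9) (.leaf (nat_lit 2160)) (.node (nat_lit 0x11caef) (.leaf (nat_lit 327)) (.leaf (nat_lit 2160))))) (.node (nat_lit 0x11d600) (.node (nat_lit 0x11d01c) (.leaf (nat_lit 55)) (.node (nat_lit 0x11d4f8) (.leaf (nat_lit 0)) (.leaf (nat_lit 2)))) (.node (nat_lit 0x11e2d4) (.leaf (nat_lit 0)) (.node (nat_lit 0x11e338) (.leaf (nat_lit 49)) (.leaf (nat_lit 2160))))))) (.node (nat_lit 0x11fb76) (.node (nat_lit 0x11ecc3) (.node (nat_lit 0x11e8a2) (.node (nat_lit 0x11e7e0) (.leaf (nat_lit 0)) (.leaf (nat_lit 2160))) (.node (nat_lit 0x11e8c5) (.leaf (nat_lit 1287)) (.node (nat_lit 0x11ea03) (.leaf (nat_lit 2160)) (.leaf (nat_lit 0))))) (.node (nat_lit 0x11f48a) (.node (nat_lit 0x11f02b) (.leaf (nat_lit 2160)) (.node (nat_lit 0x11f3be) (.leaf (nat_lit 0)) (.leaf (nat_lit 1287)))) (.node (nat_lit 0x11fa01) (.leaf (nat_lit 0)) (.node (nat_lit 0x11fa77) (.leaf (nat_lit 1375)) (.leaf (nat_lit 0)))))) (.node (nat_lit 0x120500) (.node (nat_lit 0x11ffdb) (.node (nat_lit 0x11fcec) (.leaf (nat_lit 2)) (.node (nat_lit 0x11ff73) (.leaf (nat_lit 0)) (.leaf (nat_lit 2160)))) (.node (nat_lit 0x120172) (.leaf (nat_lit 0)) (.node (nat_lit 0x120322) (.leaf (nat_lit 2160)) (.leaf (nat_lit 1287))))) (.node (nat_lit 0x120a61) (.node (nat_lit 0x1208c6) (.leaf (nat_lit 2160)) (.node (nat_lit 0x120909) (.leaf (nat_lit 49)) (.leaf (nat_lit 2160)))) (.node (nat_lit 0x120ad3) (.leaf (nat_lit 2)) (.node (nat_lit 0x120de5) (.leaf (nat_lit 2160)) (.leaf (nat_lit 327)))))))) (.node (nat_lit 0x12438e) (.node (nat_lit 0x12203c) (.node (nat_lit 0x1212fd) (.node (nat_lit 0x1210b3) (.node (nat_lit 0x121048) (.leaf (nat_lit 0)) (.leaf (nat_lit 2160))) (.node (nat_lit 0x1211aa) (.leaf (nat_lit 53)) (.node (nat_lit 0x121299) (.leaf (nat_lit 0)) (.leaf (nat_lit 1287))))) (.node (nat_lit 0x121645) (.node (nat_lit 0x1213ba) (.leaf (nat_lit 55)) (.node (nat_lit 0x12154f) (.leaf (nat_lit 2160)) (.leaf (nat_lit 0)))) (.node (nat_lit 0x121d65) (.leaf (nat_lit 2160)) (.node (nat_lit 0x121d78) (.leaf (nat_lit 0)) (.leaf (nat_lit 2160)))))) (.node (nat_lit 0x122a88) (.node (nat_lit 0x1225a2) (.node (nat_lit 0x122181) (.leaf (nat_lit 0)) (.leaf (nat_lit 2160))) (.node (nat_lit 0x122639) (.leaf (nat_lit 55)) (.node (nat_lit 0x1229ce) (.leaf (nat_lit 0)) (.leaf (nat_lit 2160))))) (.node (nat_lit 0x123ea1) (.node (nat_lit 0x12341b) (.leaf (nat_lit 0)) (.node (nat_lit 0x123b75) (.leaf (nat_lit 2160)) (.leaf (nat_lit 0)))) (.node (nat_lit 0x123f0f) (.leaf (nat_lit 2160)) (.node (nat_lit 0x124156) (.leaf (nat_lit 0)) (.leaf (nat_lit 2160))))))) (.node (nat_lit 0x127042) (.node (nat_lit 0x125815) (.node (nat_lit 0x124f04) (.node (nat_lit 0x124b22) (.leaf (nat_lit 0)) (.leaf (nat_lit 2160))) (.node (nat_lit 0x124fa0) (.leaf (nat_lit 1287)) (.node (nat_lit 0x125795) (.leaf (nat_lit 2160)) (.leaf (nat_lit 2))))) (.node (nat_lit 0x1262a9) (.node (nat_lit 0x125e76) (.leaf (nat_lit 0)) (.node (nat_lit 0x126261) (.leaf (nat_lit 2160)) (.leaf (nat_lit 0)))) (.node (nat_lit 0x126538) (.leaf (nat_lit 2160)) (.node (nat_lit 0x126acc) (.leaf (nat_lit 0)) (.leaf (nat_lit 2160)))))) (.node (nat_lit 0x1285ba) (.node (nat_lit 0x1278f7) (.node (nat_lit 0x127353) (.leaf (nat_lit 49)) (.node (nat_lit 0x12740a) (.leaf (nat_lit 0)) (.leaf (nat_lit 2160)))) (.node (nat_lit 0x1279cc) (.leaf (nat_lit 0)) (.node (nat_lit 0x1285b1) (.leaf (nat_lit 2160)) (.leaf (nat_lit 0))))) (.node (nat_lit 0x128826) (.node (nat_lit 0x12861d) (.leaf (nat_lit 1141)) (.node (nat_lit 0x12876c) (.leaf (nat_lit 0)) (.leaf (nat_lit 2160)))) (.node (nat_lit 0x128bbb) (.leaf (nat_lit 0)) (.node (nat_lit 0x128c99) (.leaf (nat_lit 2160)) (.leaf (nat_lit 1375)))))))))) (.node (nat_lit 0x133f33) (.node (nat_lit 0x12ddec) (.node (nat_lit 0x12b076) (.node (nat_lit 0x129801) (.node (nat_lit 0x12920a) (.node (nat_lit 0x129097) (.node (nat_lit 0x128d62) (.leaf (nat_lit 2160)) (.leaf (nat_lit 0))) (.node (nat_lit 0x1291b8) (.leaf (nat_lit 327)) (.node (nat_lit 0x129204) (.leaf (nat_lit 2160)) (.leaf (nat_lit 0))))) (.node (nat_lit 0x12955f) (.node (nat_lit 0x12926e) (.leaf (nat_lit 1287)) (.node (nat_lit 0x129272) (.leaf (nat_lit 2160)) (.leaf (nat_lit 0)))) (.node (nat_lit 0x1296b0) (.leaf (nat_lit 295)) (.node (nat_lit 0x129754) (.leaf (nat_lit 121)) (.leaf (nat_lit 1287)))))) (.node (nat_lit 0x129eb9) (.node (nat_lit 0x129c85) (.node (nat_lit 0x129bd2) (.leaf (nat_lit 0)) (.leaf (nat_lit 289))) (.node (nat_lit 0x129d99) (.leaf (nat_lit 2160)) (.node (nat_lit 0x129e77) (.leaf (nat_lit 0)) (.leaf (nat_lit 1139))))) (.node (nat_lit 0x12a8eb) (.node (nat_lit 0x12a153) (.leaf (nat_lit 2160)) (.node (nat_lit 0x12a741) (.leaf (nat_lit 0)) (.leaf (nat_lit 2160)))) (.node (nat_lit 0x12a940) (.leaf (nat_lit 0)) (.node (nat_lit 0x12aa53) (.leaf (nat_lit 2160)) (.leaf (nat_lit 49))))))) (.node (nat_lit 0x12ca05) (.node (nat_lit 0x12bd3c) (.node (nat_lit 0x12b219) (.node (nat_lit 0x12b082) (.leaf (nat_lit 1375)) (.leaf (nat_lit 0))) (.node (nat_lit 0x12b281) (.leaf (nat_lit 2160)) (.node (nat_lit 0x12b508) (.leaf (nat_lit 0)) (.leaf (nat_lit 2160))))) (.node (nat_lit 0x12c660) (.node (nat_lit 0x12bf26) (.leaf (nat_lit 8)) (.node (nat_lit 0x12c441) (.leaf (nat_lit 2)) (.leaf (nat_lit 0)))) (.node (nat_lit 0x12c85e) (.leaf (nat_lit 2160)) (.node (nat_lit 0x12c92f) (.leaf (nat_lit 121)) (.leaf (nat_lit 0)))))) (.node (nat_lit 0x12da47) (.node (nat_lit 0x12d2b6) (.node (nat_lit 0x12ce75) (.leaf (nat_lit 2160)) (.node (nat_lit 0x12d167) (.leaf (nat_lit 1287)) (.leaf (nat_lit 0)))) (.node (nat_lit 0x12d394) (.leaf (nat_lit 2160)) (.node (nat_lit 0x12d427) (.leaf (nat_lit 1369)) (.leaf (nat_lit 2160))))) (.node (nat_lit 0x12db4c) (.node (nat_lit 0x12dace) (.leaf (nat_lit 2)) (.node (nat_lit 0x12db47) (.leaf (nat_lit 2160)) (.leaf (nat_lit 0)))) (.node (nat_lit 0x12dbf4) (.leaf (nat_lit 49)) (.node (nat_lit 0x12dd46) (.leaf (nat_lit 2160)) (.leaf (nat_lit 0)))))))) (.node (nat_lit 0x131014) (.node (nat_lit 0x12f9ee) (.node (nat_lit 0x12ed50) (.node (nat_lit 0x12e314) (.node (nat_lit 0x12e1b6) (.leaf (nat_lit 1287)) (.leaf (nat_lit 2160))) (.node (nat_lit 0x12e526) (.leaf (nat_lit 0)) (.node (nat_lit 0x12e5eb) (.leaf (nat_lit 2160)) (.leaf (nat_lit 0))))) (.node (nat_lit 0x12f572) (.node (nat_lit 0x12ee07) (.leaf (nat_lit 1287)) (.node (nat_lit 0x12f232) (.leaf (nat_lit 0)) (.leaf (nat_lit 2160)))) (.node (nat_lit 0x12f58f) (.leaf (nat_lit 327)) (.node (nat_lit 0x12f86c) (.leaf (nat_lit 0)) (.leaf (nat_lit 1287)))))) (.node (nat_lit 0x1302b8) (.node (nat_lit 0x12fa6b) (.node (nat_lit 0x12fa2e) (.leaf (nat_lit 0)) (.leaf (nat_lit 2160))) (.node (nat_lit 0x12fbc9) (.leaf (nat_lit 8)) (.node (nat_lit 0x12fc99) (.leaf (nat_lit 2160)) (.leaf (nat_lit 0))))) (.node (nat_lit 0x130b27) (.node (nat_lit 0x13032b) (.leaf (nat_lit 49)) (.node (nat_lit 0x130a9e) (.leaf (nat_lit 0)) (.leaf (nat_lit 2160)))) (.node (nat_lit 0x130b75) (.leaf (nat_lit 0)) (.node (nat_lit 0x130c9d) (.leaf (nat_lit 55)) (.leaf (nat_lit 2160))))))) (.node (nat_lit 0x1325b8) (.node (nat_lit 0x1317fe) (.node (nat_lit 0x1312af) (.node (nat_lit 0x13126b) (.leaf (nat_lit 0)) (.leaf (nat_lit 2160))) (.node (nat_lit 0x1314b3) (.leaf (nat_lit 0)) (.node (nat_lit 0x13155a) (.leaf (nat_lit 8)) (.leaf (nat_lit 2160))))) (.node (nat_lit 0x131e98) (.node (nat_lit 0x131c99) (.leaf (nat_lit 0)) (.node (nat_lit 0x131da2) (.leaf (nat_lit 2160)) (.leaf (nat_lit 0)))) (.node (nat_lit 0x132129) (.leaf (nat_lit 2160)) (.node (nat_lit 0x1324e6) (.leaf (nat_lit 1273)) (.leaf (nat_lit 2160)))))) (.node (nat_lit 0x133479) (.node (nat_lit 0x132e71) (.node (nat_lit 0x132d5a) (.leaf (nat_lit 0)) (.node (nat_lit 0x132e39) (.leaf (nat_lit 1375)) (.leaf (nat_lit 55)))) (.node (nat_lit 0x132e8c) (.leaf (nat_lit 2160)) (.node (nat_lit 0x13324f) (.leaf (nat_lit 0)) (.leaf (nat_lit 59))))) (.node (nat_lit 0x13371d) (.node (nat_lit 0x13351e) (.leaf (nat_lit 2160)) (.node (nat_lit 0x1335f1) (.leaf (nat_lit 0)) (.leaf (nat_lit 1287)))) (.node (nat_lit 0x133ad3) (.leaf (nat_lit 0)) (.node (nat_lit 0x133cba) (.leaf (nat_lit 2160)) (.leaf (nat_lit 1214))))))))) (.node (nat_lit 0x13961d) (.node (nat_lit 0x136483) (.node (nat_lit 0x135311) (.node (nat_lit 0x1346ba) (.node (nat_lit 0x134331) (.node (nat_lit 0x13406c) (.leaf (nat_lit 0)) (.leaf (nat_lit 2160))) (.node (nat_lit 0x134405) (.leaf (nat_lit 0)) (.node (nat_lit 0x1344d7) (.leaf (nat_lit 2160)) (.leaf (nat_lit 0))))) (.node (nat_lit 0x135074) (.node (nat_lit 0x134827) (.leaf (nat_lit 2160)) (.node (nat_lit 0x134cb7) (.leaf (nat_lit 0)) (.leaf (nat_lit 2160)))) (.node (nat_lit 0x1351ee) (.leaf (nat_lit 0)) (.node (nat_lit 0x13524f) (.leaf (nat_lit 55)) (.leaf (nat_lit 2160)))))) (.node (nat_lit 0x135c75) (.node (nat_lit 0x135646) (.node (nat_lit 0x13550f) (.leaf (nat_lit 8)) (.leaf (nat_lit 2160))) (.node (nat_lit 0x1357f3) (.leaf (nat_lit 1369)) (.node (nat_lit 0x135b7a) (.leaf (nat_lit 2160)) (.leaf (nat_lit 0))))) (.node (nat_lit 0x136284) (.node (nat_lit 0x135d79) (.leaf (nat_lit 1407)) (.node (nat_lit 0x1361e7) (.leaf (nat_lit 0)) (.leaf (nat_lit 8)))) (.node (nat_lit 0x1363fb) (.leaf (nat_lit 0)) (.node (nat_lit 0x136426) (.leaf (nat_lit 2)) (.leaf (nat_lit 59))))))) (.node (nat_lit 0x137b03) (.node (nat_lit 0x136cb3) (.node (nat_lit 0x136681) (.node (nat_lit 0x1365d9) (.leaf (nat_lit 0)) (.leaf (nat_lit 2160))) (.node (nat_lit 0x136b99) (.leaf (nat_lit 0)) (.node (nat_lit 0x136c3e) (.leaf (nat_lit 121)) (.leaf (nat_lit 295))))) (.node (nat_lit 0x137288) (.node (nat_lit 0x136e8a) (.leaf (nat_lit 0)) (.node (nat_lit 0x136e9a) (.leaf (nat_lit 2160)) (.leaf (nat_lit 0)))) (.node (nat_lit 0x137824) (.leaf (nat_lit 2160)) (.node (nat_lit 0x1379f6) (.leaf (nat_lit 327)) (.leaf (nat_lit 0)))))) (.node (nat_lit 0x138904) (.node (nat_lit 0x13861d) (.node (nat_lit 0x137f1c) (.leaf (nat_lit 1427)) (.node (nat_lit 0x13814a) (.leaf (nat_lit 2)) (.leaf (nat_lit 0)))) (.node (nat_lit 0x138754) (.leaf (nat_lit 2160)) (.node (nat_lit 0x13875e) (.leaf (nat_lit 1287)) (.leaf (nat_lit 49))))) (.node (nat_lit 0x138ad1) (.node (nat_lit 0x13897f) (.leaf (nat_lit 327)) (.node (nat_lit 0x1389f0) (.leaf (nat_lit 55)) (.leaf (nat_lit 0)))) (.node (nat_lit 0x139079) (.leaf (nat_lit 2160)) (.node (nat_lit 0x1395d8) (.leaf (nat_lit 0)) (.leaf (nat_lit 2160)))))))) (.node (nat_lit 0x13be6a) (.node (nat_lit 0x13a601) (.node (nat_lit 0x139c0a) (.node (nat_lit 0x13972b) (.node (nat_lit 0x1396b6) (.leaf (nat_lit 0)) (.leaf (nat_lit 1328))) (.node (nat_lit 0x1398ea) (.leaf (nat_lit 0)) (.node (nat_lit 0x1399d9) (.leaf (nat_lit 327)) (.leaf (nat_lit 55))))) (.node (nat_lit 0x13a0ad) (.node (nat_lit 0x139c6b) (.leaf (nat_lit 2160)) (.node (nat_lit 0x139e5b) (.leaf (nat_lit 0)) (.leaf (nat_lit 1287)))) (.node (nat_lit 0x13a2bd) (.leaf (nat_lit 0)) (.node (nat_lit 0x13a301) (.leaf (nat_lit 2160)) (.leaf (nat_lit 1322)))))) (.node (nat_lit 0x13b173) (.node (nat_lit 0x13abb2) (.node (nat_lit 0x13a9f0) (.leaf (nat_lit 0)) (.leaf (nat_lit 2160))) (.node (nat_lit 0x13aea4) (.leaf (nat_lit 0)) (.node (nat_lit 0x13af45) (.leaf (nat_lit 2160)) (.leaf (nat_lit 8))))) (.node (nat_lit 0x13b5e6) (.node (nat_lit 0x13b2d5) (.leaf (nat_lit 0)) (.node (nat_lit 0x13b57e) (.leaf (nat_lit 49)) (.leaf (nat_lit 55)))) (.node (nat_lit 0x13b7e1) (.leaf (nat_lit 0)) (.node (nat_lit 0x13bb75) (.leaf (nat_lit 2160)) (.leaf (nat_lit 0))))))) (.node (nat_lit 0x13dbe7) (.node (nat_lit 0x13d258) (.node (nat_lit 0x13c631) (.node (nat_lit 0x13c3bf) (.leaf (nat_lit 2160)) (.leaf (nat_lit 1287))) (.node (nat_lit 0x13ccb4) (.leaf (nat_lit 0)) (.node (nat_lit 0x13d1da) (.leaf (nat_lit 2160)) (.leaf (nat_lit 49))))) (.node (nat_lit 0x13d71b) (.node (nat_lit 0x13d5c3) (.leaf (nat_lit 2160)) (.node (nat_lit 0x13d5e6) (.leaf (nat_lit 8)) (.leaf (nat_lit 2160)))) (.node (nat_lit 0x13d7e5) (.leaf (nat_lit 0)) (.node (nat_lit 0x13db17) (.leaf (nat_lit 2160)) (.leaf (nat_lit 242)))))) (.node (nat_lit 0x13e2fe) (.node (nat_lit 0x13e073) (.node (nat_lit 0x13dd5a) (.leaf (nat_lit 1369)) (.node (nat_lit 0x13dfbf) (.leaf (nat_lit 49)) (.leaf (nat_lit 1407)))) (.node (nat_lit 0x13e0b0) (.leaf (nat_lit 2160)) (.node (nat_lit 0x13e29a) (.leaf (nat_lit 49)) (.leaf (nat_lit 1287))))) (.node (nat_lit 0x13e6d8) (.node (nat_lit 0x13e60f) (.leaf (nat_lit 55)) (.node (nat_lit 0x13e6ad) (.leaf (nat_lit 0)) (.leaf (nat_lit 2)))) (.node (nat_lit 0x13e933) (.leaf (nat_lit 193)) (.node (nat_lit 0x13e9d4) (.leaf (nat_lit 0)) (.leaf (nat_lit 2160)))))))))))) (.node (nat_lit 0x1764ba) (.node (nat_lit 0x15c53b) (.node (nat_lit 0x14de2b) (.node (nat_lit 0x146098) (.node (nat_lit 0x141e87) (.node (nat_lit 0x14011f) (.node (nat_lit 0x13f9cf) (.node (nat_lit 0x13ef65) (.node (nat_lit 0x13ed79) (.leaf (nat_lit 0)) (.leaf (nat_lit 2160))) (.node (nat_lit 0x13f420) (.leaf (nat_lit 0)) (.node (nat_lit 0x13f65a) (.leaf (nat_lit 2160)) (.leaf (nat_lit 0))))) (.node (nat_lit 0x13fe1f) (.node (nat_lit 0x13fd01) (.leaf (nat_lit 2160)) (.node (nat_lit 0x13fd93) (.leaf (nat_lit 0)) (.leaf (nat_lit 2160)))) (.node (nat_lit 0x13ffcf) (.leaf (nat_lit 55)) (.node (nat_lit 0x140071) (.leaf (nat_lit 8)) (.leaf (nat_lit 0)))))) (.node (nat_lit 0x1415ad) (.node (nat_lit 0x14052a) (.node (nat_lit 0x140455) (.leaf (nat_lit 1328)) (.leaf (nat_lit 0))) (.node (nat_lit 0x14088c) (.leaf (nat_lit 2160)) (.node (nat_lit 0x140f09) (.leaf (nat_lit 0)) (.leaf (nat_lit 49))))) (.node (nat_lit 0x141b67) (.node (nat_lit 0x1417c9) (.leaf (nat_lit 1328)) (.node (nat_lit 0x14188a) (.leaf (nat_lit 0)) (.leaf (nat_lit 2160)))) (.node (nat_lit 0x141bfc) (.leaf (nat_lit 1322)) (.node (nat_lit 0x141d62) (.leaf (nat_lit 2160)) (.leaf (nat_lit 0))))))) (.node (nat_lit 0x143c81) (.node (nat_lit 0x142c30) (.node (nat_lit 0x141fa1) (.node (nat_lit 0x141f76) (.leaf (nat_lit 2160)) (.leaf (nat_lit 0))) (.node (nat_lit 0x14235f) (.leaf (nat_lit 2160)) (.node (nat_lit 0x142b3b) (.leaf (nat_lit 0)) (.leaf (nat_lit 1287))))) (.node (nat_lit 0x1432e7) (.node (nat_lit 0x142eac) (.leaf (nat_lit 0)) (.node (nat_lit 0x14304b) (.leaf (nat_lit 2160)) (.leaf (nat_lit 0)))) (.node (nat_lit 0x14360f) (.leaf (nat_lit 55)) (.node (nat_lit 0x1437ea) (.leaf (nat_lit 0)) (.leaf (nat_lit 2160)))))) (.node (nat_lit 0x144bbb) (.node (nat_lit 0x1442cc) (.node (nat_lit 0x143e44) (.leaf (nat_lit 0)) (.leaf (nat_lit 55))) (.node (nat_lit 0x1444fa) (.leaf (nat_lit 2)) (.node (nat_lit 0x1449cd) (.leaf (nat_lit 0)) (.leaf (nat_lit 2160))))) (.node (nat_lit 0x145b87) (.node (nat_lit 0x145563) (.leaf (nat_lit 0)) (.node (nat_lit 0x1457ce) (.leaf (nat_lit 2160)) (.leaf (nat_lit 0)))) (.node (nat_lit 0x145c9a) (.leaf (nat_lit 2160)) (.node (nat_lit 0x145ea0) (.leaf (nat_lit 1375)) (.leaf (nat_lit 2160)))))))) (.node (nat_lit 0x14a0c6) (.node (nat_lit 0x147f3a) (.node (nat_lit 0x14702b) (.node (nat_lit 0x14674b) (.node (nat_lit 0x1461b9) (.leaf (nat_lit 327)) (.leaf (nat_lit 2160))) (.node (nat_lit 0x14694a) (.leaf (nat_lit 8)) (.node (nat_lit 0x146bb0) (.leaf (nat_lit 2)) (.leaf (nat_lit 0))))) (.node (nat_lit 0x147307) (.node (nat_lit 0x1471ad) (.leaf (nat_lit 2160)) (.node (nat_lit 0x1472f5) (.leaf (nat_lit 0)) (.leaf (nat_lit 8)))) (.node (nat_lit 0x147aa9) (.leaf (nat_lit 0)) (.node (nat_lit 0x147ae7) (.leaf (nat_lit 1375)) (.leaf (nat_lit 2160)))))) (.node (nat_lit 0x14909d) (.node (nat_lit 0x148077) (.node (nat_lit 0x14801b) (.leaf (nat_lit 0)) (.leaf (nat_lit 2160))) (.node (nat_lit 0x148358) (.leaf (nat_lit 1375)) (.node (nat_lit 0x148cc2) (.leaf (nat_lit 0)) (.leaf (nat_lit 49))))) (.node (nat_lit 0x149b19) (.node (nat_lit 0x1493a5) (.leaf (nat_lit 0)) (.node (nat_lit 0x149641) (.leaf (nat_lit 1287)) (.leaf (nat_lit 0)))) (.node (nat_lit 0x149cca) (.leaf (nat_lit 55)) (.node (nat_lit 0x149f3a) (.leaf (nat_lit 0)) (.leaf (nat_lit 2160))))))) (.node (nat_lit 0x14bc09) (.node (nat_lit 0x14aa48) (.node (nat_lit 0x14a196) (.node (nat_lit 0x14a0fc) (.leaf (nat_lit 242)) (.leaf (nat_lit 0))) (.node (nat_lit 0x14a20c) (.leaf (nat_lit 1375)) (.node (nat_lit 0x14a25e) (.leaf (nat_lit 1271)) (.leaf (nat_lit 2160))))) (.node (nat_lit 0x14b1b7) (.node (nat_lit 0x14ab10) (.leaf (nat_lit 2)) (.node (nat_lit 0x14aee2) (.leaf (nat_lit 2160)) (.leaf (nat_lit 0)))) (.node (nat_lit 0x14b252) (.leaf (nat_lit 2160)) (.node (nat_lit 0x14b527) (.leaf (nat_lit 0)) (.leaf (nat_lit 2160)))))) (.node (nat_lit 0x14d218) (.node (nat_lit 0x14c6c4) (.node (nat_lit 0x14c2f5) (.leaf (nat_lit 0)) (.node (nat_lit 0x14c342) (.leaf (nat_lit 49)) (.leaf (nat_lit 2160)))) (.node (nat_lit 0x14cc7f) (.leaf (nat_lit 179)) (.node (nat_lit 0x14d131) (.leaf (nat_lit 2160)) (.leaf (nat_lit 121))))) (.node (nat_lit 0x14d4b8) (.node (nat_lit 0x14d324) (.leaf (nat_lit 2160)) (.node (nat_lit 0x14d330) (.leaf (nat_lit 0)) (.leaf (nat_lit 1328)))) (.node (nat_lit 0x14d815) (.leaf (nat_lit 0)) (.node (nat_lit 0x14d864) (.leaf (nat_lit 2160)) (.leaf (nat_lit 0))))))))) (.node (nat_lit 0x15532f) (.node (nat_lit 0x1503f3) (.node (nat_lit 0x14ef20) (.node (nat_lit 0x14e6b6) (.node (nat_lit 0x14de7c) (.node (nat_lit 0x14de39) (.leaf (nat_lit 49)) (.leaf (nat_lit 2160))) (.node (nat_lit 0x14e2be) (.leaf (nat_lit 1201)) (.node (nat_lit 0x14e436) (.leaf (nat_lit 49)) (.leaf (nat_lit 2160))))) (.node (nat_lit 0x14eb06) (.node (nat_lit 0x14e7ac) (.leaf (nat_lit 0)) (.node (nat_lit 0x14eac5) (.leaf (nat_lit 55)) (.leaf (nat_lit 2160)))) (.node (nat_lit 0x14eb9e) (.leaf (nat_lit 1373)) (.node (nat_lit 0x14ee62) (.leaf (nat_lit 2160)) (.leaf (nat_lit 0)))))) (.node (nat_lit 0x14f406) (.node (nat_lit 0x14f050) (.node (nat_lit 0x14ef72) (.leaf (nat_lit 14)) (.leaf (nat_lit 2160))) (.node (nat_lit 0x14f137) (.leaf (nat_lit 1322)) (.node (nat_lit 0x14f2f9) (.leaf (nat_lit 2160)) (.leaf (nat_lit 1375))))) (.node (nat_lit 0x14f9f4) (.node (nat_lit 0x14f791) (.leaf (nat_lit 0)) (.node (nat_lit 0x14f99f) (.leaf (nat_lit 2)) (.leaf (nat_lit 0)))) (.node (nat_lit 0x14fdbd) (.leaf (nat_lit 2160)) (.node (nat_lit 0x150071) (.leaf (nat_lit 0)) (.leaf (nat_lit 2160))))))) (.node (nat_lit 0x152dfa) (.node (nat_lit 0x150d6c) (.node (nat_lit 0x150615) (.node (nat_lit 0x150554) (.leaf (nat_lit 49)) (.leaf (nat_lit 0))) (.node (nat_lit 0x1508f9) (.leaf (nat_lit 2160)) (.node (nat_lit 0x150bb9) (.leaf (nat_lit 0)) (.leaf (nat_lit 2160))))) (.node (nat_lit 0x152306) (.node (nat_lit 0x151c7a) (.leaf (nat_lit 0)) (.node (nat_lit 0x151d7d) (.leaf (nat_lit 289)) (.leaf (nat_lit 0)))) (.node (nat_lit 0x152647) (.leaf (nat_lit 2160)) (.node (nat_lit 0x1528dc) (.leaf (nat_lit 1369)) (.leaf (nat_lit 1287)))))) (.node (nat_lit 0x153881) (.node (nat_lit 0x15363e) (.node (nat_lit 0x153434) (.leaf (nat_lit 0)) (.node (nat_lit 0x1535b2) (.leaf (nat_lit 2160)) (.leaf (nat_lit 193)))) (.node (nat_lit 0x153792) (.leaf (nat_lit 2160)) (.node (nat_lit 0x15380e) (.leaf (nat_lit 71)) (.leaf (nat_lit 2160))))) (.node (nat_lit 0x154ea3) (.node (nat_lit 0x1545ca) (.leaf (nat_lit 0)) (.node (nat_lit 0x154825) (.leaf (nat_lit 2160)) (.leaf (nat_lit 327)))) (.node (nat_lit 0x154f1d) (.leaf (nat_lit 1369)) (.node (nat_lit 0x15514b) (.leaf (nat_lit 2)) (.leaf (nat_lit 0)))))))) (.node (nat_lit 0x1588a4) (.node (nat_lit 0x156e5c) (.node (nat_lit 0x155bab) (.node (nat_lit 0x15555d) (.node (nat_lit 0x15540e) (.leaf (nat_lit 2160)) (.leaf (nat_lit 0))) (.node (nat_lit 0x155954) (.leaf (nat_lit 2160)) (.node (nat_lit 0x155b82) (.leaf (nat_lit 8)) (.leaf (nat_lit 0))))) (.node (nat_lit 0x155d51) (.node (nat_lit 0x155bf0) (.leaf (nat_lit 2160)) (.node (nat_lit 0x155d23) (.leaf (nat_lit 0)) (.leaf (nat_lit 8)))) (.node (nat_lit 0x156916) (.leaf (nat_lit 2160)) (.node (nat_lit 0x156da6) (.leaf (nat_lit 0)) (.leaf (nat_lit 2160)))))) (.node (nat_lit 0x15721d) (.node (nat_lit 0x156fa5) (.node (nat_lit 0x156ef8) (.leaf (nat_lit 1287)) (.leaf (nat_lit 0))) (.node (nat_lit 0x15701e) (.leaf (nat_lit 2160)) (.node (nat_lit 0x1570bf) (.leaf (nat_lit 0)) (.leaf (nat_lit 2160))))) (.node (nat_lit 0x157f46) (.node (nat_lit 0x157be9) (.leaf (nat_lit 0)) (.node (nat_lit 0x157d9a) (.leaf (nat_lit 49)) (.leaf (nat_lit 0)))) (.node (nat_lit 0x157f99) (.leaf (nat_lit 8)) (.node (nat_lit 0x158594) (.leaf (nat_lit 0)) (.leaf (nat_lit 55))))))) (.node (nat_lit 0x15ae75) (.node (nat_lit 0x15a42b) (.node (nat_lit 0x159b6c) (.node (nat_lit 0x15897d) (.leaf (nat_lit 1287)) (.leaf (nat_lit 0))) (.node (nat_lit 0x15a327) (.leaf (nat_lit 2160)) (.node (nat_lit 0x15a3da) (.leaf (nat_lit 0)) (.leaf (nat_lit 1287))))) (.node (nat_lit 0x15a78d) (.node (nat_lit 0x15a44c) (.leaf (nat_lit 1201)) (.node (nat_lit 0x15a6cc) (.leaf (nat_lit 2160)) (.leaf (nat_lit 0)))) (.node (nat_lit 0x15a919) (.leaf (nat_lit 2160)) (.node (nat_lit 0x15a924) (.leaf (nat_lit 1201)) (.leaf (nat_lit 0)))))) (.node (nat_lit 0x15ba0a) (.node (nat_lit 0x15b273) (.node (nat_lit 0x15afc0) (.leaf (nat_lit 2160)) (.node (nat_lit 0x15b153) (.leaf (nat_lit 1407)) (.leaf (nat_lit 0)))) (.node (nat_lit 0x15b699) (.leaf (nat_lit 2160)) (.node (nat_lit 0x15b934) (.leaf (nat_lit 2)) (.leaf (nat_lit 0))))) (.node (nat_lit 0x15bf4e) (.node (nat_lit 0x15bbf8) (.leaf (nat_lit 2160)) (.node (nat_lit 0x15bdaf) (.leaf (nat_lit 0)) (.leaf (nat_lit 2160)))) (.node (nat_lit 0x15c222) (.leaf (nat_lit 0)) (.node (nat_lit 0x15c246) (.leaf (nat_lit 2160)) (.leaf (nat_lit 0)))))))))) (.node (nat_lit 0x16aa72) (.node (nat_lit 0x162e9a) (.node (nat_lit 0x15f307) (.node (nat_lit 0x15d894) (.node (nat_lit 0x15d083) (.node (nat_lit 0x15ce20) (.node (nat_lit 0x15cc74) (.leaf (nat_lit 2160)) (.leaf (nat_lit 0))) (.node (nat_lit 0x15cf93) (.leaf (nat_lit 55)) (.node (nat_lit 0x15d058) (.leaf (nat_lit 2160)) (.leaf (nat_lit 0))))) (.node (nat_lit 0x15d51a) (.node (nat_lit 0x15d085) (.leaf (nat_lit 2160)) (.node (nat_lit 0x15d354) (.leaf (nat_lit 248)) (.leaf (nat_lit 327)))) (.node (nat_lit 0x15d52b) (.leaf (nat_lit 0)) (.node (nat_lit 0x15d6e2) (.leaf (nat_lit 2160)) (.leaf (nat_lit 0)))))) (.node (nat_lit 0x15e08c) (.node (nat_lit 0x15dc32) (.node (nat_lit 0x15da07) (.leaf (nat_lit 1328)) (.leaf (nat_lit 1287))) (.node (nat_lit 0x15dc86) (.leaf (nat_lit 55)) (.node (nat_lit 0x15df0a) (.leaf (nat_lit 0)) (.leaf (nat_lit 49))))) (.node (nat_lit 0x15e9a9) (.node (nat_lit 0x15e88b) (.leaf (nat_lit 0)) (.node (nat_lit 0x15e9a7) (.leaf (nat_lit 2160)) (.leaf (nat_lit 295)))) (.node (nat_lit 0x15eb68) (.leaf (nat_lit 0)) (.node (nat_lit 0x15ee88) (.leaf (nat_lit 1322)) (.leaf (nat_lit 2160))))))) (.node (nat_lit 0x160bdd) (.node (nat_lit 0x1603e2) (.node (nat_lit 0x15f6f3) (.node (nat_lit 0x15f5f0) (.leaf (nat_lit 0)) (.leaf (nat_lit 2160))) (.node (nat_lit 0x15f7ac) (.leaf (nat_lit 1296)) (.node (nat_lit 0x15fa9e) (.leaf (nat_lit 2)) (.leaf (nat_lit 0))))) (.node (nat_lit 0x160831) (.node (nat_lit 0x1603f1) (.leaf (nat_lit 2)) (.node (nat_lit 0x160639) (.leaf (nat_lit 0)) (.leaf (nat_lit 2160)))) (.node (nat_lit 0x1608c4) (.leaf (nat_lit 55)) (.node (nat_lit 0x160a98) (.leaf (nat_lit 2160)) (.leaf (nat_lit 0)))))) (.node (nat_lit 0x161d04) (.node (nat_lit 0x1612cd) (.node (nat_lit 0x160eb6) (.leaf (nat_lit 2160)) (.node (nat_lit 0x160f77) (.leaf (nat_lit 0)) (.leaf (nat_lit 2160)))) (.node (nat_lit 0x161355) (.leaf (nat_lit 2)) (.node (nat_lit 0x161cb5) (.leaf (nat_lit 0)) (.leaf (nat_lit 1375))))) (.node (nat_lit 0x1625d6) (.node (nat_lit 0x161dcc) (.leaf (nat_lit 8)) (.node (nat_lit 0x161f32) (.leaf (nat_lit 2160)) (.leaf (nat_lit 0)))) (.node (nat_lit 0x1629ce) (.leaf (nat_lit 1287)) (.node (nat_lit 0x162d58) (.leaf (nat_lit 0)) (.leaf (nat_lit 2160)))))))) (.node (nat_lit 0x167214) (.node (nat_lit 0x164ca9) (.node (nat_lit 0x164019) (.node (nat_lit 0x163272) (.node (nat_lit 0x16301c) (.leaf (nat_lit 1369)) (.leaf (nat_lit 0))) (.node (nat_lit 0x16345e) (.leaf (nat_lit 1407)) (.node (nat_lit 0x163ba2) (.leaf (nat_lit 0)) (.leaf (nat_lit 2160))))) (.node (nat_lit 0x1642f6) (.node (nat_lit 0x164061) (.leaf (nat_lit 0)) (.node (nat_lit 0x164155) (.leaf (nat_lit 2160)) (.leaf (nat_lit 0)))) (.node (nat_lit 0x164524) (.leaf (nat_lit 8)) (.node (nat_lit 0x164a55) (.leaf (nat_lit 0)) (.leaf (nat_lit 49)))))) (.node (nat_lit 0x165d39) (.node (nat_lit 0x165075) (.node (nat_lit 0x164d2d) (.leaf (nat_lit 295)) (.leaf (nat_lit 0))) (.node (nat_lit 0x165407) (.leaf (nat_lit 2160)) (.node (nat_lit 0x1657dd) (.leaf (nat_lit 1369)) (.leaf (nat_lit 2160))))) (.node (nat_lit 0x165e29) (.node (nat_lit 0x165d3e) (.leaf (nat_lit 0)) (.node (nat_lit 0x165dda) (.leaf (nat_lit 8)) (.leaf (nat_lit 2160)))) (.node (nat_lit 0x1663a6) (.leaf (nat_lit 0)) (.node (nat_lit 0x1663fe) (.leaf (nat_lit 1287)) (.leaf (nat_lit 2160))))))) (.node (nat_lit 0x168c90) (.node (nat_lit 0x16812a) (.node (nat_lit 0x167dbe) (.node (nat_lit 0x167424) (.leaf (nat_lit 0)) (.leaf (nat_lit 2160))) (.node (nat_lit 0x167dee) (.leaf (nat_lit 0)) (.node (nat_lit 0x167e03) (.leaf (nat_lit 1287)) (.leaf (nat_lit 0))))) (.node (nat_lit 0x16899b) (.node (nat_lit 0x1682ab) (.leaf (nat_lit 2160)) (.node (nat_lit 0x16883a) (.leaf (nat_lit 0)) (.leaf (nat_lit 49)))) (.node (nat_lit 0x1689d0) (.leaf (nat_lit 0)) (.node (nat_lit 0x168a20) (.leaf (nat_lit 2160)) (.leaf (nat_lit 0)))))) (.node (nat_lit 0x1699f0) (.node (nat_lit 0x16957f) (.node (nat_lit 0x1690f7) (.leaf (nat_lit 2160)) (.node (nat_lit 0x16917e) (.leaf (nat_lit 55)) (.leaf (nat_lit 2160)))) (.node (nat_lit 0x169591) (.leaf (nat_lit 2)) (.node (nat_lit 0x169924) (.leaf (nat_lit 0)) (.leaf (nat_lit 1287))))) (.node (nat_lit 0x16a7bd) (.node (nat_lit 0x169cd9) (.leaf (nat_lit 0)) (.node (nat_lit 0x16a235) (.leaf (nat_lit 2160)) (.leaf (nat_lit 0)))) (.node (nat_lit 0x16a7cf) (.leaf (nat_lit 2160)) (.node (nat_lit 0x16a93f) (.leaf (nat_lit 1375)) (.leaf (nat_lit 0))))))))) (.node (nat_lit 0x170127) (.node (nat_lit 0x16ce8c) (.node (nat_lit 0x16bbba) (.node (nat_lit 0x16b437) (.node (nat_lit 0x16b016) (.node (nat_lit 0x16ae3a) (.leaf (nat_lit 8)) (.leaf (nat_lit 2160))) (.node (nat_lit 0x16b07c) (.leaf (nat_lit 0)) (.node (nat_lit 0x16b327) (.leaf (nat_lit 242)) (.leaf (nat_lit 0))))) (.node (nat_lit 0x16b9bb) (.node (nat_lit 0x16b6cc) (.leaf (nat_lit 2160)) (.node (nat_lit 0x16b813) (.leaf (nat_lit 0)) (.leaf (nat_lit 295)))) (.node (nat_lit 0x16bac6) (.leaf (nat_lit 0)) (.node (nat_lit 0x16bae1) (.leaf (nat_lit 2160)) (.leaf (nat_lit 1369)))))) (.node (nat_lit 0x16c792) (.node (nat_lit 0x16c414) (.node (nat_lit 0x16c36c) (.leaf (nat_lit 0)) (.leaf (nat_lit 2160))) (.node (nat_lit 0x16c4e8) (.leaf (nat_lit 0)) (.node (nat_lit 0x16c585) (.leaf (nat_lit 2160)) (.leaf (nat_lit 0))))) (.node (nat_lit 0x16c9c0) (.node (nat_lit 0x16c7a1) (.leaf (nat_lit 2)) (.node (nat_lit 0x16c89e) (.leaf (nat_lit 0)) (.leaf (nat_lit 1328)))) (.node (nat_lit 0x16cc74) (.leaf (nat_lit 0)) (.node (nat_lit 0x16cdbe) (.leaf (nat_lit 2160)) (.leaf (nat_lit 0))))))) (.node (nat_lit 0x16ea27) (.node (nat_lit 0x16d5d6) (.node (nat_lit 0x16d072) (.node (nat_lit 0x16d02b) (.leaf (nat_lit 289)) (.leaf (nat_lit 121))) (.node (nat_lit 0x16d1d0) (.leaf (nat_lit 2160)) (.node (nat_lit 0x16d3e8) (.leaf (nat_lit 0)) (.leaf (nat_lit 2160))))) (.node (nat_lit 0x16de8d) (.node (nat_lit 0x16d8ce) (.leaf (nat_lit 0)) (.node (nat_lit 0x16d8da) (.leaf (nat_lit 1407)) (.leaf (nat_lit 0)))) (.node (nat_lit 0x16e16b) (.leaf (nat_lit 2160)) (.node (nat_lit 0x16e6bc) (.leaf (nat_lit 0)) (.leaf (nat_lit 2160)))))) (.node (nat_lit 0x16f36b) (.node (nat_lit 0x16ec26) (.node (nat_lit 0x16ea7c) (.leaf (nat_lit 0)) (.node (nat_lit 0x16ebe3) (.leaf (nat_lit 1369)) (.leaf (nat_lit 0)))) (.node (nat_lit 0x16ecb9) (.leaf (nat_lit 8)) (.node (nat_lit 0x16ef7d) (.leaf (nat_lit 2160)) (.leaf (nat_lit 0))))) (.node (nat_lit 0x16f474) (.node (nat_lit 0x16f430) (.leaf (nat_lit 2160)) (.node (nat_lit 0x16f449) (.leaf (nat_lit 0)) (.leaf (nat_lit 1375)))) (.node (nat_lit 0x16f4dc) (.leaf (nat_lit 0)) (.node (nat_lit 0x16fb7c) (.leaf (nat_lit 2160)) (.leaf (nat_lit 0)))))))) (.node (nat_lit 0x17352e) (.node (nat_lit 0x1726ca) (.node (nat_lit 0x170e9c) (.node (nat_lit 0x170411) (.node (nat_lit 0x17035f) (.leaf (nat_lit 2160)) (.leaf (nat_lit 0))) (.node (nat_lit 0x17055e) (.leaf (nat_lit 2160)) (.node (nat_lit 0x170b9b) (.leaf (nat_lit 0)) (.leaf (nat_lit 121))))) (.node (nat_lit 0x171b20) (.node (nat_lit 0x17173e) (.leaf (nat_lit 0)) (.node (nat_lit 0x171a42) (.leaf (nat_lit 2160)) (.leaf (nat_lit 0)))) (.node (nat_lit 0x171e4e) (.leaf (nat_lit 1287)) (.node (nat_lit 0x171f21) (.leaf (nat_lit 228)) (.leaf (nat_lit 0)))))) (.node (nat_lit 0x172e24) (.node (nat_lit 0x172ad3) (.node (nat_lit 0x172955) (.leaf (nat_lit 2160)) (.leaf (nat_lit 8))) (.node (nat_lit 0x172b83) (.leaf (nat_lit 2160)) (.node (nat_lit 0x172cd2) (.leaf (nat_lit 0)) (.leaf (nat_lit 2160))))) (.node (nat_lit 0x173028) (.node (nat_lit 0x172edf) (.leaf (nat_lit 0)) (.node (nat_lit 0x173023) (.leaf (nat_lit 55)) (.leaf (nat_lit 0)))) (.node (nat_lit 0x1732c8) (.leaf (nat_lit 49)) (.node (nat_lit 0x17345e) (.leaf (nat_lit 0)) (.leaf (nat_lit 2160))))))) (.node (nat_lit 0x174a6b) (.node (nat_lit 0x173e51) (.node (nat_lit 0x17372d) (.node (nat_lit 0x1736e9) (.leaf (nat_lit 0)) (.leaf (nat_lit 2160))) (.node (nat_lit 0x173bd2) (.leaf (nat_lit 0)) (.node (nat_lit 0x173cb1) (.leaf (nat_lit 2160)) (.leaf (nat_lit 0))))) (.node (nat_lit 0x1745ac) (.node (nat_lit 0x173ef9) (.leaf (nat_lit 2160)) (.node (nat_lit 0x174138) (.leaf (nat_lit 0)) (.leaf (nat_lit 289)))) (.node (nat_lit 0x174999) (.leaf (nat_lit 1375)) (.node (nat_lit 0x174a44) (.leaf (nat_lit 2160)) (.leaf (nat_lit 2)))))) (.node (nat_lit 0x17597e) (.node (nat_lit 0x1756a6) (.node (nat_lit 0x174ea6) (.leaf (nat_lit 0)) (.node (nat_lit 0x1752dd) (.leaf (nat_lit 2160)) (.leaf (nat_lit 1322)))) (.node (nat_lit 0x1757d2) (.leaf (nat_lit 49)) (.node (nat_lit 0x1758c8) (.leaf (nat_lit 0)) (.leaf (nat_lit 2160))))) (.node (nat_lit 0x175eb2) (.node (nat_lit 0x175be3) (.leaf (nat_lit 0)) (.node (nat_lit 0x175cc6) (.leaf (nat_lit 248)) (.leaf (nat_lit 2160)))) (.node (nat_lit 0x175f7a) (.leaf (nat_lit 1375)) (.node (nat_lit 0x176034) (.leaf (nat_lit 2160)) (.leaf (nat_lit 0))))))))))) (.node (nat_lit 0x191116) (.node (nat_lit 0x183c91) (.node (nat_lit 0x17d6ff) (.node (nat_lit 0x179621) (.node (nat_lit 0x1780b2) (.node (nat_lit 0x17733d) (.node (nat_lit 0x176e50) (.node (nat_lit 0x176790) (.leaf (nat_lit 2160)) (.leaf (nat_lit 0))) (.node (nat_lit 0x177308) (.leaf (nat_lit 2160)) (.node (nat_lit 0x17730b) (.leaf (nat_lit 0)) (.leaf (nat_lit 1379))))) (.node (nat_lit 0x1775c5) (.node (nat_lit 0x177413) (.leaf (nat_lit 0)) (.node (nat_lit 0x177507) (.leaf (nat_lit 2160)) (.leaf (nat_lit 0)))) (.node (nat_lit 0x17762b) (.leaf (nat_lit 8)) (.node (nat_lit 0x1779c2) (.leaf (nat_lit 242)) (.leaf (nat_lit 2160)))))) (.node (nat_lit 0x1786e7) (.node (nat_lit 0x1782ac) (.node (nat_lit 0x178274) (.leaf (nat_lit 49)) (.leaf (nat_lit 2160))) (.node (nat_lit 0x1786af) (.leaf (nat_lit 0)) (.node (nat_lit 0x1786da) (.leaf (nat_lit 2)) (.leaf (nat_lit 193))))) (.node (nat_lit 0x178d50) (.node (nat_lit 0x178866) (.leaf (nat_lit 2160)) (.node (nat_lit 0x178a8c) (.leaf (nat_lit 1273)) (.leaf (nat_lit 2160)))) (.node (nat_lit 0x179223) (.leaf (nat_lit 0)) (.node (nat_lit 0x17936d) (.leaf (nat_lit 2160)) (.leaf (nat_lit 0))))))) (.node (nat_lit 0x17ae5e) (.node (nat_lit 0x17a121) (.node (nat_lit 0x179ea9) (.node (nat_lit 0x179c7e) (.leaf (nat_lit 2160)) (.leaf (nat_lit 295))) (.node (nat_lit 0x179f6a) (.leaf (nat_lit 0)) (.node (nat_lit 0x17a059) (.leaf (nat_lit 2160)) (.leaf (nat_lit 0))))) (.node (nat_lit 0x17a81e) (.node (nat_lit 0x17a355) (.leaf (nat_lit 1328)) (.node (nat_lit 0x17a442) (.leaf (nat_lit 327)) (.leaf (nat_lit 0)))) (.node (nat_lit 0x17a92a) (.leaf (nat_lit 49)) (.node (nat_lit 0x17abb8) (.leaf (nat_lit 2160)) (.leaf (nat_lit 327)))))) (.node (nat_lit 0x17c11e) (.node (nat_lit 0x17b869) (.node (nat_lit 0x17b4c4) (.leaf (nat_lit 2160)) (.leaf (nat_lit 0))) (.node (nat_lit 0x17bb7a) (.leaf (nat_lit 55)) (.node (nat_lit 0x17bebe) (.leaf (nat_lit 0)) (.leaf (nat_lit 2160))))) (.node (nat_lit 0x17d3d7) (.node (nat_lit 0x17cca4) (.leaf (nat_lit 0)) (.node (nat_lit 0x17d04d) (.leaf (nat_lit 2160)) (.leaf (nat_lit 0)))) (.node (nat_lit 0x17d3f2) (.leaf (nat_lit 2160)) (.node (nat_lit 0x17d63a) (.leaf (nat_lit 0)) (.leaf (nat_lit 2160)))))))) (.node (nat_lit 0x18094c) (.node (nat_lit 0x17ed2c) (.node (nat_lit 0x17e0ca) (.node (nat_lit 0x17d847) (.node (nat_lit 0x17d7c8) (.leaf (nat_lit 0)) (.leaf (nat_lit 1271))) (.node (nat_lit 0x17dab9) (.leaf (nat_lit 55)) (.node (nat_lit 0x17e039) (.leaf (nat_lit 0)) (.leaf (nat_lit 2160))))) (.node (nat_lit 0x17e7c5) (.node (nat_lit 0x17e3f9) (.leaf (nat_lit 0)) (.node (nat_lit 0x17e4d0) (.leaf (nat_lit 49)) (.leaf (nat_lit 0)))) (.node (nat_lit 0x17e8fa) (.leaf (nat_lit 2160)) (.node (nat_lit 0x17ed05) (.leaf (nat_lit 0)) (.leaf (nat_lit 8)))))) (.node (nat_lit 0x17f89a) (.node (nat_lit 0x17f27a) (.node (nat_lit 0x17f102) (.leaf (nat_lit 0)) (.leaf (nat_lit 2160))) (.node (nat_lit 0x17f48e) (.leaf (nat_lit 55)) (.node (nat_lit 0x17f877) (.leaf (nat_lit 49)) (.leaf (nat_lit 8))))) (.node (nat_lit 0x18020d) (.node (nat_lit 0x17fe41) (.leaf (nat_lit 2160)) (.node (nat_lit 0x18001d) (.leaf (nat_lit 1287)) (.leaf (nat_lit 0)))) (.node (nat_lit 0x1804a8) (.leaf (nat_lit 1287)) (.node (nat_lit 0x18074d) (.leaf (nat_lit 0)) (.leaf (nat_lit 8))))))) (.node (nat_lit 0x18201d) (.node (nat_lit 0x181219) (.node (nat_lit 0x180c88) (.node (nat_lit 0x180bd5) (.leaf (nat_lit 2)) (.leaf (nat_lit 289))) (.node (nat_lit 0x180e1b) (.leaf (nat_lit 2160)) (.node (nat_lit 0x181021) (.leaf (nat_lit 0)) (.leaf (nat_lit 2160))))) (.node (nat_lit 0x181b44) (.node (nat_lit 0x1813e4) (.leaf (nat_lit 0)) (.node (nat_lit 0x1814f9) (.leaf (nat_lit 73)) (.leaf (nat_lit 0)))) (.node (nat_lit 0x181c83) (.leaf (nat_lit 49)) (.node (nat_lit 0x181d2e) (.leaf (nat_lit 2160)) (.leaf (nat_lit 0)))))) (.node (nat_lit 0x18338d) (.node (nat_lit 0x182995) (.node (nat_lit 0x18233a) (.leaf (nat_lit 2160)) (.node (nat_lit 0x182482) (.leaf (nat_lit 0)) (.leaf (nat_lit 2)))) (.node (nat_lit 0x182e6a) (.leaf (nat_lit 0)) (.node (nat_lit 0x182f39) (.leaf (nat_lit 327)) (.leaf (nat_lit 0))))) (.node (nat_lit 0x1839fc) (.node (nat_lit 0x1833ff) (.leaf (nat_lit 55)) (.node (nat_lit 0x183861) (.leaf (nat_lit 2160)) (.leaf (nat_lit 121)))) (.node (nat_lit 0x183a5d) (.leaf (nat_lit 2160)) (.node (nat_lit 0x183c5a) (.leaf (nat_lit 0)) (.leaf (nat_lit 295))))))))) (.node (nat_lit 0x18a685) (.node (nat_lit 0x1873e4) (.node (nat_lit 0x18559b) (.node (nat_lit 0x184789) (.node (nat_lit 0x18422a) (.node (nat_lit 0x183d72) (.leaf (nat_lit 0)) (.leaf (nat_lit 2160))) (.node (nat_lit 0x184425) (.leaf (nat_lit 0)) (.node (nat_lit 0x184613) (.leaf (nat_lit 2160)) (.leaf (nat_lit 0))))) (.node (nat_lit 0x184e59) (.node (nat_lit 0x184b4a) (.leaf (nat_lit 2160)) (.node (nat_lit 0x184e24) (.leaf (nat_lit 0)) (.leaf (nat_lit 1133)))) (.node (nat_lit 0x18535f) (.leaf (nat_lit 1287)) (.node (nat_lit 0x185363) (.leaf (nat_lit 2160)) (.leaf (nat_lit 0)))))) (.node (nat_lit 0x186807) (.node (nat_lit 0x1858ec) (.node (nat_lit 0x18571d) (.leaf (nat_lit 55)) (.leaf (nat_lit 0))) (.node (nat_lit 0x186134) (.leaf (nat_lit 2160)) (.node (nat_lit 0x186519) (.leaf (nat_lit 0)) (.leaf (nat_lit 2160))))) (.node (nat_lit 0x1871b6) (.node (nat_lit 0x186c81) (.leaf (nat_lit 0)) (.node (nat_lit 0x186fde) (.leaf (nat_lit 2160)) (.leaf (nat_lit 0)))) (.node (nat_lit 0x18721a) (.leaf (nat_lit 2)) (.node (nat_lit 0x1872bb) (.leaf (nat_lit 2160)) (.leaf (nat_lit 49))))))) (.node (nat_lit 0x1892fb) (.node (nat_lit 0x188ae2) (.node (nat_lit 0x18807d) (.node (nat_lit 0x1877be) (.leaf (nat_lit 0)) (.leaf (nat_lit 2160))) (.node (nat_lit 0x188154) (.leaf (nat_lit 242)) (.node (nat_lit 0x18875a) (.leaf (nat_lit 2160)) (.leaf (nat_lit 0))))) (.node (nat_lit 0x18924d) (.node (nat_lit 0x188cfe) (.leaf (nat_lit 1369)) (.node (nat_lit 0x188f6f) (.leaf (nat_lit 0)) (.leaf (nat_lit 2160)))) (.node (nat_lit 0x1892df) (.leaf (nat_lit 0)) (.node (nat_lit 0x1892f1) (.leaf (nat_lit 2160)) (.leaf (nat_lit 295)))))) (.node (nat_lit 0x189e74) (.node (nat_lit 0x189986) (.node (nat_lit 0x189303) (.leaf (nat_lit 1375)) (.node (nat_lit 0x18989f) (.leaf (nat_lit 0)) (.leaf (nat_lit 1328)))) (.node (nat_lit 0x189b4d) (.leaf (nat_lit 2160)) (.node (nat_lit 0x189d5d) (.leaf (nat_lit 0)) (.leaf (nat_lit 1375))))) (.node (nat_lit 0x18a247) (.node (nat_lit 0x18a1d9) (.leaf (nat_lit 2160)) (.node (nat_lit 0x18a1df) (.leaf (nat_lit 0)) (.leaf (nat_lit 8)))) (.node (nat_lit 0x18a3e9) (.leaf (nat_lit 0)) (.node (nat_lit 0x18a40d) (.leaf (nat_lit 2160)) (.leaf (nat_lit 0)))))))) (.node (nat_lit 0x18da37) (.node (nat_lit 0x18c28b) (.node (nat_lit 0x18ba7d) (.node (nat_lit 0x18af36) (.node (nat_lit 0x18a8cf) (.leaf (nat_lit 1328)) (.leaf (nat_lit 1407))) (.node (nat_lit 0x18b6b1) (.leaf (nat_lit 0)) (.node (nat_lit 0x18b982) (.leaf (nat_lit 2160)) (.leaf (nat_lit 0))))) (.node (nat_lit 0x18bd88) (.node (nat_lit 0x18bb81) (.leaf (nat_lit 1369)) (.node (nat_lit 0x18bc55) (.leaf (nat_lit 0)) (.leaf (nat_lit 2160)))) (.node (nat_lit 0x18c1ee) (.leaf (nat_lit 0)) (.node (nat_lit 0x18c1f1) (.leaf (nat_lit 2160)) (.leaf (nat_lit 55)))))) (.node (nat_lit 0x18d412) (.node (nat_lit 0x18cd11) (.node (nat_lit 0x18c9af) (.leaf (nat_lit 0)) (.leaf (nat_lit 2160))) (.node (nat_lit 0x18cd31) (.leaf (nat_lit 2)) (.node (nat_lit 0x18d003) (.leaf (nat_lit 1407)) (.leaf (nat_lit 0))))) (.node (nat_lit 0x18d5d0) (.node (nat_lit 0x18d506) (.leaf (nat_lit 2160)) (.node (nat_lit 0x18d5b4) (.leaf (nat_lit 0)) (.leaf (nat_lit 193)))) (.node (nat_lit 0x18d7c8) (.leaf (nat_lit 2160)) (.node (nat_lit 0x18d947) (.leaf (nat_lit 0)) (.leaf (nat_lit 2))))))) (.node (nat_lit 0x18f757) (.node (nat_lit 0x18ea43) (.node (nat_lit 0x18de8d) (.node (nat_lit 0x18dc9e) (.leaf (nat_lit 49)) (.leaf (nat_lit 0))) (.node (nat_lit 0x18df52) (.leaf (nat_lit 2160)) (.node (nat_lit 0x18e28b) (.leaf (nat_lit 0)) (.leaf (nat_lit 2160))))) (.node (nat_lit 0x18ef33) (.node (nat_lit 0x18ead8) (.leaf (nat_lit 0)) (.node (nat_lit 0x18ed1b) (.leaf (nat_lit 2160)) (.leaf (nat_lit 0)))) (.node (nat_lit 0x18f21a) (.leaf (nat_lit 2160)) (.node (nat_lit 0x18f425) (.leaf (nat_lit 1375)) (.leaf (nat_lit 0)))))) (.node (nat_lit 0x190321) (.node (nat_lit 0x18fd25) (.node (nat_lit 0x18fac9) (.leaf (nat_lit 1287)) (.node (nat_lit 0x18fb3b) (.leaf (nat_lit 2160)) (.leaf (nat_lit 1287)))) (.node (nat_lit 0x1900df) (.leaf (nat_lit 8)) (.node (nat_lit 0x1902c9) (.leaf (nat_lit 49)) (.leaf (nat_lit 0))))) (.node (nat_lit 0x190bd3) (.node (nat_lit 0x1909c3) (.leaf (nat_lit 2160)) (.node (nat_lit 0x190a60) (.leaf (nat_lit 0)) (.leaf (nat_lit 55)))) (.node (nat_lit 0x190c6e) (.leaf (nat_lit 2160)) (.node (nat_lit 0x190cac) (.leaf (nat_lit 0)) (.leaf (nat_lit 2160)))))))))) (.node (nat_lit 0x19de1c) (.node (nat_lit 0x1977e2) (.node (nat_lit 0x1946ae) (.node (nat_lit 0x192581) (.node (nat_lit 0x191912) (.node (nat_lit 0x1915ea) (.node (nat_lit 0x191304) (.leaf (nat_lit 0)) (.leaf (nat_lit 1322))) (.node (nat_lit 0x1916c7) (.leaf (nat_lit 2160)) (.node (nat_lit 0x19185b) (.leaf (nat_lit 0)) (.leaf (nat_lit 8))))) (.node (nat_lit 0x191c72) (.node (nat_lit 0x19199a) (.leaf (nat_lit 0)) (.node (nat_lit 0x191a6c) (.leaf (nat_lit 2160)) (.leaf (nat_lit 0)))) (.node (nat_lit 0x192483) (.leaf (nat_lit 2160)) (.node (nat_lit 0x1924f5) (.leaf (nat_lit 0)) (.leaf (nat_lit 2160)))))) (.node (nat_lit 0x192eb3) (.node (nat_lit 0x192a07) (.node (nat_lit 0x19289a) (.leaf (nat_lit 55)) (.leaf (nat_lit 2160))) (.node (nat_lit 0x192e25) (.leaf (nat_lit 0)) (.node (nat_lit 0x192e36) (.leaf (nat_lit 1322)) (.leaf (nat_lit 0))))) (.node (nat_lit 0x194329) (.node (nat_lit 0x19338e) (.leaf (nat_lit 1375)) (.node (nat_lit 0x193e7b) (.leaf (nat_lit 0)) (.leaf (nat_lit 2160)))) (.node (nat_lit 0x1945e9) (.leaf (nat_lit 0)) (.node (nat_lit 0x19462c) (.leaf (nat_lit 2160)) (.leaf (nat_lit 242))))))) (.node (nat_lit 0x195d51) (.node (nat_lit 0x194926) (.node (nat_lit 0x19473c) (.node (nat_lit 0x194703) (.leaf (nat_lit 0)) (.leaf (nat_lit 2160))) (.node (nat_lit 0x19478f) (.leaf (nat_lit 0)) (.node (nat_lit 0x1948ab) (.leaf (nat_lit 2160)) (.leaf (nat_lit 1407))))) (.node (nat_lit 0x195076) (.node (nat_lit 0x1949c3) (.leaf (nat_lit 0)) (.node (nat_lit 0x194f74) (.leaf (nat_lit 2160)) (.leaf (nat_lit 0)))) (.node (nat_lit 0x19550d) (.leaf (nat_lit 2160)) (.node (nat_lit 0x19568f) (.leaf (nat_lit 0)) (.leaf (nat_lit 2160)))))) (.node (nat_lit 0x196a8c) (.node (nat_lit 0x19614f) (.node (nat_lit 0x195e96) (.leaf (nat_lit 0)) (.node (nat_lit 0x1960fc) (.leaf (nat_lit 2160)) (.leaf (nat_lit 8)))) (.node (nat_lit 0x1962e5) (.leaf (nat_lit 0)) (.node (nat_lit 0x19693f) (.leaf (nat_lit 2160)) (.leaf (nat_lit 1375))))) (.node (nat_lit 0x197087) (.node (nat_lit 0x196c7f) (.leaf (nat_lit 0)) (.node (nat_lit 0x196fc0) (.leaf (nat_lit 295)) (.leaf (nat_lit 1133)))) (.node (nat_lit 0x19723e) (.leaf (nat_lit 248)) (.node (nat_lit 0x197458) (.leaf (nat_lit 2160)) (.leaf (nat_lit 0)))))))) (.node (nat_lit 0x19b2d2) (.node (nat_lit 0x199417) (.node (nat_lit 0x197f6c) (.node (nat_lit 0x1978d6) (.node (nat_lit 0x197896) (.leaf (nat_lit 2160)) (.leaf (nat_lit 1328))) (.node (nat_lit 0x19796f) (.leaf (nat_lit 0)) (.node (nat_lit 0x197c88) (.leaf (nat_lit 121)) (.leaf (nat_lit 0))))) (.node (nat_lit 0x1987ac) (.node (nat_lit 0x1980a2) (.leaf (nat_lit 1151)) (.node (nat_lit 0x1984b9) (.leaf (nat_lit 0)) (.leaf (nat_lit 2160)))) (.node (nat_lit 0x198cb5) (.leaf (nat_lit 0)) (.node (nat_lit 0x198d78) (.leaf (nat_lit 2160)) (.leaf (nat_lit 295)))))) (.node (nat_lit 0x19a302) (.node (nat_lit 0x199b56) (.node (nat_lit 0x1995f2) (.leaf (nat_lit 0)) (.leaf (nat_lit 2160))) (.node (nat_lit 0x199e9d) (.leaf (nat_lit 0)) (.node (nat_lit 0x19a1d9) (.leaf (nat_lit 49)) (.leaf (nat_lit 2160))))) (.node (nat_lit 0x19af79) (.node (nat_lit 0x19abdf) (.leaf (nat_lit 0)) (.node (nat_lit 0x19adf3) (.leaf (nat_lit 2160)) (.leaf (nat_lit 0)))) (.node (nat_lit 0x19b0d7) (.leaf (nat_lit 2160)) (.node (nat_lit 0x19b1f8) (.leaf (nat_lit 1322)) (.leaf (nat_lit 2160))))))) (.node (nat_lit 0x19c752) (.node (nat_lit 0x19c1e0) (.node (nat_lit 0x19bb87) (.node (nat_lit 0x19b6c9) (.leaf (nat_lit 0)) (.leaf (nat_lit 1187))) (.node (nat_lit 0x19be79) (.leaf (nat_lit 0)) (.node (nat_lit 0x19c0c0) (.leaf (nat_lit 2160)) (.leaf (nat_lit 49))))) (.node (nat_lit 0x19c553) (.node (nat_lit 0x19c27b) (.leaf (nat_lit 289)) (.node (nat_lit 0x19c2e6) (.leaf (nat_lit 55)) (.leaf (nat_lit 14)))) (.node (nat_lit 0x19c5bb) (.leaf (nat_lit 49)) (.node (nat_lit 0x19c68e) (.leaf (nat_lit 0)) (.leaf (nat_lit 1287)))))) (.node (nat_lit 0x19d274) (.node (nat_lit 0x19cacf) (.node (nat_lit 0x19c878) (.leaf (nat_lit 0)) (.node (nat_lit 0x19c914) (.leaf (nat_lit 8)) (.leaf (nat_lit 0)))) (.node (nat_lit 0x19ce42) (.leaf (nat_lit 2160)) (.node (nat_lit 0x19d077) (.leaf (nat_lit 1287)) (.leaf (nat_lit 0))))) (.node (nat_lit 0x19d962) (.node (nat_lit 0x19d276) (.leaf (nat_lit 1407)) (.node (nat_lit 0x19d2e7) (.leaf (nat_lit 0)) (.leaf (nat_lit 2160)))) (.node (nat_lit 0x19da4d) (.leaf (nat_lit 2)) (.node (nat_lit 0x19dba4) (.leaf (nat_lit 0)) (.leaf (nat_lit 2160))))))))) (.node (nat_lit 0x1a5bc5) (.node (nat_lit 0x1a0aec) (.node (nat_lit 0x19fd60) (.node (nat_lit 0x19f085) (.node (nat_lit 0x19e21a) (.node (nat_lit 0x19de23) (.leaf (nat_lit 0)) (.leaf (nat_lit 2160))) (.node (nat_lit 0x19ea7a) (.leaf (nat_lit 0)) (.node (nat_lit 0x19ef96) (.leaf (nat_lit 2160)) (.leaf (nat_lit 0))))) (.node (nat_lit 0x19f21d) (.node (nat_lit 0x19f0e9) (.leaf (nat_lit 1287)) (.node (nat_lit 0x19f127) (.leaf (nat_lit 55)) (.leaf (nat_lit 0)))) (.node (nat_lit 0x19f33b) (.leaf (nat_lit 2160)) (.node (nat_lit 0x19f7df) (.leaf (nat_lit 0)) (.leaf (nat_lit 2160)))))) (.node (nat_lit 0x1a0340) (.node (nat_lit 0x19fddc) (.node (nat_lit 0x19fd72) (.leaf (nat_lit 289)) (.leaf (nat_lit 0))) (.node (nat_lit 0x19fe6b) (.leaf (nat_lit 2160)) (.node (nat_lit 0x1a0310) (.leaf (nat_lit 327)) (.leaf (nat_lit 2160))))) (.node (nat_lit 0x1a0644) (.node (nat_lit 0x1a038e) (.leaf (nat_lit 0)) (.node (nat_lit 0x1a042a) (.leaf (nat_lit 55)) (.leaf (nat_lit 2160)))) (.node (nat_lit 0x1a0976) (.leaf (nat_lit 0)) (.node (nat_lit 0x1a09a4) (.leaf (nat_lit 8)) (.leaf (nat_lit 2160))))))) (.node (nat_lit 0x1a35d6) (.node (nat_lit 0x1a1614) (.node (nat_lit 0x1a0d73) (.node (nat_lit 0x1a0b1c) (.leaf (nat_lit 0)) (.leaf (nat_lit 55))) (.node (nat_lit 0x1a0e5c) (.leaf (nat_lit 2160)) (.node (nat_lit 0x1a113c) (.leaf (nat_lit 0)) (.leaf (nat_lit 2160))))) (.node (nat_lit 0x1a26a3) (.node (nat_lit 0x1a1625) (.leaf (nat_lit 0)) (.node (nat_lit 0x1a1b68) (.leaf (nat_lit 2160)) (.leaf (nat_lit 0)))) (.node (nat_lit 0x1a2d37) (.leaf (nat_lit 289)) (.node (nat_lit 0x1a3581) (.leaf (nat_lit 0)) (.leaf (nat_lit 2)))))) (.node (nat_lit 0x1a4e8a) (.node (nat_lit 0x1a4a16) (.node (nat_lit 0x1a3fdf) (.leaf (nat_lit 248)) (.node (nat_lit 0x1a460d) (.leaf (nat_lit 0)) (.leaf (nat_lit 2160)))) (.node (nat_lit 0x1a4a68) (.leaf (nat_lit 1139)) (.node (nat_lit 0x1a4e2e) (.leaf (nat_lit 2160)) (.leaf (nat_lit 49))))) (.node (nat_lit 0x1a5526) (.node (nat_lit 0x1a500c) (.leaf (nat_lit 0)) (.node (nat_lit 0x1a52b3) (.leaf (nat_lit 2160)) (.leaf (nat_lit 0)))) (.node (nat_lit 0x1a56b9) (.leaf (nat_lit 1407)) (.node (nat_lit 0x1a5b89) (.leaf (nat_lit 0)) (.leaf (nat_lit 1214)))))))) (.node (nat_lit 0x1a8352) (.node (nat_lit 0x1a6ff6) (.node (nat_lit 0x1a6409) (.node (nat_lit 0x1a6099) (.node (nat_lit 0x1a5f70) (.leaf (nat_lit 0)) (.leaf (nat_lit 2160))) (.node (nat_lit 0x1a62d4) (.leaf (nat_lit 0)) (.node (nat_lit 0x1a63b2) (.leaf (nat_lit 2160)) (.leaf (nat_lit 121))))) (.node (nat_lit 0x1a6f36) (.node (nat_lit 0x1a6788) (.leaf (nat_lit 0)) (.node (nat_lit 0x1a69a2) (.leaf (nat_lit 2160)) (.leaf (nat_lit 0)))) (.node (nat_lit 0x1a6f5d) (.leaf (nat_lit 2160)) (.node (nat_lit 0x1a6ff0) (.leaf (nat_lit 295)) (.leaf (nat_lit 0)))))) (.node (nat_lit 0x1a78ba) (.node (nat_lit 0x1a71d2) (.node (nat_lit 0x1a718e) (.leaf (nat_lit 1287)) (.leaf (nat_lit 2160))) (.node (nat_lit 0x1a75eb) (.leaf (nat_lit 0)) (.node (nat_lit 0x1a75ed) (.leaf (nat_lit 248)) (.leaf (nat_lit 0))))) (.node (nat_lit 0x1a7e36) (.node (nat_lit 0x1a7a91) (.leaf (nat_lit 327)) (.node (nat_lit 0x1a7b85) (.leaf (nat_lit 2160)) (.leaf (nat_lit 0)))) (.node (nat_lit 0x1a8129) (.leaf (nat_lit 2160)) (.node (nat_lit 0x1a820a) (.leaf (nat_lit 0)) (.leaf (nat_lit 2160))))))) (.node (nat_lit 0x1a9b56) (.node (nat_lit 0x1a8c7d) (.node (nat_lit 0x1a84db) (.node (nat_lit 0x1a8409) (.leaf (nat_lit 0)) (.leaf (nat_lit 2160))) (.node (nat_lit 0x1a883f) (.leaf (nat_lit 0)) (.node (nat_lit 0x1a8ae0) (.leaf (nat_lit 49)) (.leaf (nat_lit 0))))) (.node (nat_lit 0x1a91f2) (.node (nat_lit 0x1a8d28) (.leaf (nat_lit 289)) (.node (nat_lit 0x1a8ff0) (.leaf (nat_lit 0)) (.leaf (nat_lit 2160)))) (.node (nat_lit 0x1a93ee) (.leaf (nat_lit 55)) (.node (nat_lit 0x1a9674) (.leaf (nat_lit 2160)) (.leaf (nat_lit 1287)))))) (.node (nat_lit 0x1aa3d2) (.node (nat_lit 0x1aa004) (.node (nat_lit 0x1a9d12) (.leaf (nat_lit 2160)) (.node (nat_lit 0x1a9d55) (.leaf (nat_lit 2)) (.leaf (nat_lit 2160)))) (.node (nat_lit 0x1aa129) (.leaf (nat_lit 0)) (.node (nat_lit 0x1aa3cb) (.leaf (nat_lit 2160)) (.leaf (nat_lit 0))))) (.node (nat_lit 0x1aa811) (.node (nat_lit 0x1aa75e) (.leaf (nat_lit 2160)) (.node (nat_lit 0x1aa7c9) (.leaf (nat_lit 8)) (.leaf (nat_lit 0)))) (.node (nat_lit 0x1aaaee) (.leaf (nat_lit 2160)) (.node (nat_lit 0x1aaca8) (.leaf (nat_lit 49)) (.leaf (nat_lit 0))))))))))))))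
noncomputable def YN_soc_t1 : ST := (.node (nat_lit 168022) (.node (nat_lit 88579) (.node (nat_lit 50364) (.node (nat_lit 26895) (.node (nat_lit 10501) (.node (nat_lit 4947) (.node (nat_lit 3061) (.node (nat_lit 852) (.node (nat_lit 597) (.node (nat_lit 209) (.leaf (nat_lit 2160)) (.leaf (nat_lit 1200))) (.node (nat_lit 669) (.leaf (nat_lit 2160)) (.leaf (nat_lit 1080)))) (.node (nat_lit 1343) (.node (nat_lit 1179) (.leaf (nat_lit 2160)) (.leaf (nat_lit 1080))) (.node (nat_lit 2341) (.leaf (nat_lit 2160)) (.node (nat_lit 2460) (.leaf (nat_lit 1080)) (.leaf (nat_lit 2160)))))) (.node (nat_lit 4236) (.node (nat_lit 4044) (.node (nat_lit 3936) (.leaf (nat_lit 1080)) (.leaf (nat_lit 1230))) (.node (nat_lit 4176) (.leaf (nat_lit 1080)) (.node (nat_lit 4197) (.leaf (nat_lit 1230)) (.leaf (nat_lit 2160))))) (.node (nat_lit 4764) (.node (nat_lit 4413) (.leaf (nat_lit 1230)) (.leaf (nat_lit 2160))) (.node (nat_lit 4849) (.leaf (nat_lit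 1080)) (.node (nat_lit 4941) (.leaf (nat_lit 2160)) (.leaf (nat_lit 0))))))) (.node (nat_lit 8781) (.node (nat_lit 7073) (.node (nat_lit 4962) (.node (nat_lit 4956) (.leaf (nat_lit 2160)) (.leaf (nat_lit 1110))) (.node (nat_lit 5019) (.leaf (nat_lit 2160)) (.node (nat_lit 5065) (.leaf (nat_lit 1080)) (.leaf (nat_lit 2160))))) (.node (nat_lit 8292) (.node (nat_lit 8031) (.leaf (nat_lit 1080)) (.leaf (nat_lit 120))) (.node (nat_lit 8316) (.leaf (nat_lit 2160)) (.node (nat_lit 8320) (.leaf (nat_lit 120)) (.leaf (nat_lit 2160)))))) (.node (nat_lit 9197) (.node (nat_lit 8796) (.node (nat_lit 8787) (.leaf (nat_lit 120)) (.leaf (nat_lit 2160))) (.node (nat_lit 8802) (.leaf (nat_lit 120)) (.node (nat_lit 9173) (.leaf (nat_lit 2160)) (.leaf (nat_lit 1080))))) (.node (nat_lit 9895) (.node (nat_lit 9893) (.leaf (nat_lit 2160)) (.leaf (nat_lit 1080))) (.node (nat_lit 9953) (.leaf (nat_lit 2160)) (.node (nat_lit 10395) (.leaf (nat_lit 1080))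 (.leaf (nat_lit 2160)))))))) (.node (nat_lit 24158) (.node (nat_lit 16480) (.node (nat_lit 13013) (.node (nat_lit 10741) (.node (nat_lit 10650) (.leaf (nat_lit 1080)) (.leaf (nat_lit 2160))) (.node (nat_lit 10801) (.leaf (nat_lit 0)) (.node (nat_lit 12385) (.leaf (nat_lit 1080)) (.leaf (nat_lit 2160))))) (.node (nat_lit 13973) (.node (nat_lit 13030) (.leaf (nat_lit 1080)) (.leaf (nat_lit 2160))) (.node (nat_lit 13990) (.leaf (nat_lit 1080)) (.node (nat_lit 14048) (.leaf (nat_lit 2160)) (.leaf (nat_lit 1080)))))) (.node (nat_lit 22305) (.node (nat_lit 20704) (.node (nat_lit 19485) (.leaf (nat_lit 2160)) (.leaf (nat_lit 1080))) (.node (nat_lit 21825) (.leaf (nat_lit 2160)) (.node (nat_lit 21881) (.leaf (nat_lit 360)) (.leaf (nat_lit 2160))))) (.node (nat_lit 22365) (.node (nat_lit 22307) (.leaf (nat_lit 360)) (.leaf (nat_lit 2160))) (.node (nat_lit 22913) (.leaf (nat_lit 360)) (.node (nat_lit 23468) (.leaf (nat_lit 1080)) (.leaf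 (nat_lit 0))))))) (.node (nat_lit 25568) (.node (nat_lit 24567) (.node (nat_lit 24360) (.node (nat_lit 24297) (.leaf (nat_lit 1080)) (.leaf (nat_lit 2160))) (.node (nat_lit 24537) (.leaf (nat_lit 1080)) (.node (nat_lit 24540) (.leaf (nat_lit 2160)) (.leaf (nat_lit 1080))))) (.node (nat_lit 24792) (.node (nat_lit 24600) (.leaf (nat_lit 2160)) (.leaf (nat_lit 1080))) (.node (nat_lit 25253) (.leaf (nat_lit 2160)) (.node (nat_lit 25517) (.leaf (nat_lit 1080)) (.leaf (nat_lit 2160)))))) (.node (nat_lit 25892) (.node (nat_lit 25665) (.node (nat_lit 25592) (.leaf (nat_lit 1080)) (.leaf (nat_lit 2160))) (.node (nat_lit 25682) (.leaf (nat_lit 360)) (.node (nat_lit 25695) (.leaf (nat_lit 2160)) (.leaf (nat_lit 360))))) (.node (nat_lit 26402) (.node (nat_lit 26385) (.leaf (nat_lit 2160)) (.leaf (nat_lit 360))) (.node (nat_lit 26460) (.leaf (nat_lit 2160)) (.node (nat_lit 26513) (.leaf (nat_lit 360)) (.leaf (nat_lit 1080))))))))) (.node (nat_lit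 41441) (.node (nat_lit 34972) (.node (nat_lit 30353) (.node (nat_lit 29501) (.node (nat_lit 28137) (.node (nat_lit 27008) (.leaf (nat_lit 360)) (.leaf (nat_lit 1080))) (.node (nat_lit 29348) (.leaf (nat_lit 2160)) (.leaf (nat_lit 1080)))) (.node (nat_lit 29612) (.node (nat_lit 29588) (.leaf (nat_lit 2160)) (.leaf (nat_lit 1080))) (.node (nat_lit 29648) (.leaf (nat_lit 2160)) (.node (nat_lit 29672) (.leaf (nat_lit 1080)) (.leaf (nat_lit 2160)))))) (.node (nat_lit 34106) (.node (nat_lit 33825) (.node (nat_lit 30663) (.leaf (nat_lit 1080)) (.leaf (nat_lit 2160))) (.node (nat_lit 34021) (.leaf (nat_lit 360)) (.node (nat_lit 34065) (.leaf (nat_lit 2160)) (.leaf (nat_lit 360))))) (.node (nat_lit 34233) (.node (nat_lit 34140) (.leaf (nat_lit 2160)) (.leaf (nat_lit 360))) (.node (nat_lit 34492) (.leaf (nat_lit 2160)) (.node (nat_lit 34741) (.leaf (nat_lit 360)) (.leaf (nat_lit 2160))))))) (.node (nat_lit 38332) (.node (nat_lit 35565) (.node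 (nat_lit 35017) (.node (nat_lit 34996) (.leaf (nat_lit 360)) (.leaf (nat_lit 2160))) (.node (nat_lit 35041) (.leaf (nat_lit 360)) (.node (nat_lit 35085) (.leaf (nat_lit 2160)) (.leaf (nat_lit 360))))) (.node (nat_lit 36825) (.node (nat_lit 36312) (.leaf (nat_lit 1080)) (.leaf (nat_lit 2160))) (.node (nat_lit 36840) (.leaf (nat_lit 1080)) (.node (nat_lit 37833) (.leaf (nat_lit 0)) (.leaf (nat_lit 2160)))))) (.node (nat_lit 39136) (.node (nat_lit 39052) (.node (nat_lit 38821) (.leaf (nat_lit 360)) (.leaf (nat_lit 2160))) (.node (nat_lit 39073) (.leaf (nat_lit 360)) (.node (nat_lit 39112) (.leaf (nat_lit 2160)) (.leaf (nat_lit 360))))) (.node (nat_lit 39328) (.node (nat_lit 39307) (.leaf (nat_lit 2160)) (.leaf (nat_lit 360))) (.node (nat_lit 39352) (.leaf (nat_lit 2160)) (.node (nat_lit 39660) (.leaf (nat_lit 360)) (.leaf (nat_lit 1080)))))))) (.node (nat_lit 46732) (.node (nat_lit 44897) (.node (nat_lit 42015) (.node (nat_lit 41681)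 (.node (nat_lit 41537) (.leaf (nat_lit 2160)) (.leaf (nat_lit 1080))) (.node (nat_lit 41792) (.leaf (nat_lit 2160)) (.node (nat_lit 41936) (.leaf (nat_lit 1080)) (.leaf (nat_lit 2160))))) (.node (nat_lit 42765) (.node (nat_lit 42580) (.leaf (nat_lit 360)) (.leaf (nat_lit 2160))) (.node (nat_lit 42820) (.leaf (nat_lit 360)) (.node (nat_lit 44789) (.leaf (nat_lit 2160)) (.leaf (nat_lit 1320)))))) (.node (nat_lit 46023) (.node (nat_lit 45617) (.node (nat_lit 45029) (.leaf (nat_lit 1080)) (.leaf (nat_lit 1320))) (.node (nat_lit 45794) (.leaf (nat_lit 1080)) (.node (nat_lit 45872) (.leaf (nat_lit 1320)) (.leaf (nat_lit 1080))))) (.node (nat_lit 46518) (.node (nat_lit 46492) (.leaf (nat_lit 2160)) (.leaf (nat_lit 360))) (.node (nat_lit 46537) (.leaf (nat_lit 2160)) (.node (nat_lit 46673) (.leaf (nat_lit 360)) (.leaf (nat_lit 2160))))))) (.node (nat_lit 49184) (.node (nat_lit 47503) (.node (nat_lit 46792) (.node (nat_lit 46753) (.leaf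 (nat_lit 360)) (.leaf (nat_lit 2160))) (.node (nat_lit 46900) (.leaf (nat_lit 360)) (.node (nat_lit 47497) (.leaf (nat_lit 2160)) (.leaf (nat_lit 360))))) (.node (nat_lit 47518) (.node (nat_lit 47512) (.leaf (nat_lit 2160)) (.leaf (nat_lit 360))) (.node (nat_lit 48629) (.leaf (nat_lit 2160)) (.node (nat_lit 49145) (.leaf (nat_lit 1320)) (.leaf (nat_lit 2160)))))) (.node (nat_lit 49655) (.node (nat_lit 49629) (.node (nat_lit 49385) (.leaf (nat_lit 1320)) (.leaf (nat_lit 2160))) (.node (nat_lit 49640) (.leaf (nat_lit 1080)) (.node (nat_lit 49644) (.leaf (nat_lit 2160)) (.leaf (nat_lit 1080))))) (.node (nat_lit 50101) (.node (nat_lit 49874) (.leaf (nat_lit 2160)) (.leaf (nat_lit 1320))) (.node (nat_lit 50109) (.leaf (nat_lit 2160)) (.node (nat_lit 50161) (.leaf (nat_lit 1080)) (.leaf (nat_lit 2160)))))))))) (.node (nat_lit 69693) (.node (nat_lit 62111) (.node (nat_lit 54062) (.node (nat_lit 51343) (.node (nat_lit 50827) (.node (nat_lit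 50587) (.node (nat_lit 50416) (.leaf (nat_lit 1080)) (.leaf (nat_lit 2160))) (.node (nat_lit 50740) (.leaf (nat_lit 360)) (.leaf (nat_lit 2160)))) (.node (nat_lit 50872) (.node (nat_lit 50848) (.leaf (nat_lit 360)) (.leaf (nat_lit 2160))) (.node (nat_lit 51088) (.leaf (nat_lit 360)) (.node (nat_lit 51337) (.leaf (nat_lit 2160)) (.leaf (nat_lit 360)))))) (.node (nat_lit 53024) (.node (nat_lit 51358) (.node (nat_lit 51352) (.leaf (nat_lit 2160)) (.leaf (nat_lit 360))) (.node (nat_lit 52709) (.leaf (nat_lit 2160)) (.node (nat_lit 52961) (.leaf (nat_lit 1320)) (.leaf (nat_lit 2160))))) (.node (nat_lit 53465) (.node (nat_lit 53057) (.leaf (nat_lit 1320)) (.leaf (nat_lit 1080))) (.node (nat_lit 53969) (.leaf (nat_lit 2160)) (.node (nat_lit 53996) (.leaf (nat_lit 1320)) (.leaf (nat_lit 2160))))))) (.node (nat_lit 58206) (.node (nat_lit 57350) (.node (nat_lit 57152) (.node (nat_lit 54176) (.leaf (nat_lit 1080)) (.leaf (nat_lit 2160)))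 (.node (nat_lit 57305) (.leaf (nat_lit 1080)) (.node (nat_lit 57309) (.leaf (nat_lit 2160)) (.leaf (nat_lit 1080))))) (.node (nat_lit 57456) (.node (nat_lit 57392) (.leaf (nat_lit 2160)) (.leaf (nat_lit 1080))) (.node (nat_lit 57761) (.leaf (nat_lit 120)) (.node (nat_lit 57902) (.leaf (nat_lit 2160)) (.leaf (nat_lit 1080)))))) (.node (nat_lit 61296) (.node (nat_lit 58271) (.node (nat_lit 58269) (.leaf (nat_lit 120)) (.leaf (nat_lit 1080))) (.node (nat_lit 58344) (.leaf (nat_lit 2160)) (.node (nat_lit 58673) (.leaf (nat_lit 1080)) (.leaf (nat_lit 2160))))) (.node (nat_lit 61776) (.node (nat_lit 61400) (.leaf (nat_lit 120)) (.leaf (nat_lit 2160))) (.node (nat_lit 61856) (.leaf (nat_lit 120)) (.node (nat_lit 62041) (.leaf (nat_lit 2160)) (.leaf (nat_lit 1080)))))))) (.node (nat_lit 65881) (.node (nat_lit 64155) (.node (nat_lit 62821) (.node (nat_lit 62493) (.node (nat_lit 62286) (.leaf (nat_lit 2160)) (.leaf (nat_lit 120))) (.node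 (nat_lit 62761) (.leaf (nat_lit 2160)) (.node (nat_lit 62808) (.leaf (nat_lit 1080)) (.leaf (nat_lit 2160))))) (.node (nat_lit 64021) (.node (nat_lit 63180) (.leaf (nat_lit 1080)) (.leaf (nat_lit 2160))) (.node (nat_lit 64025) (.leaf (nat_lit 0)) (.node (nat_lit 64051) (.leaf (nat_lit 2160)) (.leaf (nat_lit 1320)))))) (.node (nat_lit 65376) (.node (nat_lit 64377) (.node (nat_lit 64261) (.leaf (nat_lit 2160)) (.leaf (nat_lit 1320))) (.node (nat_lit 64771) (.leaf (nat_lit 2160)) (.node (nat_lit 64994) (.leaf (nat_lit 1320)) (.leaf (nat_lit 30))))) (.node (nat_lit 65489) (.node (nat_lit 65469) (.leaf (nat_lit 120)) (.leaf (nat_lit 1080))) (.node (nat_lit 65514) (.leaf (nat_lit 1110)) (.node (nat_lit 65616) (.leaf (nat_lit 1080)) (.leaf (nat_lit 120))))))) (.node (nat_lit 66841) (.node (nat_lit 66385) (.node (nat_lit 65949) (.node (nat_lit 65905) (.leaf (nat_lit 1080)) (.leaf (nat_lit 2160))) (.node (nat_lit 66289) (.leaf (nat_lit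 1080)) (.node (nat_lit 66381) (.leaf (nat_lit 2160)) (.leaf (nat_lit 120))))) (.node (nat_lit 66430) (.node (nat_lit 66396) (.leaf (nat_lit 2160)) (.leaf (nat_lit 120))) (.node (nat_lit 66714) (.leaf (nat_lit 2160)) (.node (nat_lit 66745) (.leaf (nat_lit 1080)) (.leaf (nat_lit 2160)))))) (.node (nat_lit 67255) (.node (nat_lit 66916) (.node (nat_lit 66863) (.leaf (nat_lit 1080)) (.leaf (nat_lit 2160))) (.node (nat_lit 67103) (.leaf (nat_lit 1080)) (.node (nat_lit 67156) (.leaf (nat_lit 2160)) (.leaf (nat_lit 1080))))) (.node (nat_lit 68341) (.node (nat_lit 67861) (.leaf (nat_lit 2160)) (.leaf (nat_lit 1320))) (.node (nat_lit 68401) (.leaf (nat_lit 0)) (.node (nat_lit 69564) (.leaf (nat_lit 1320)) (.leaf (nat_lit 1080))))))))) (.node (nat_lit 80389) (.node (nat_lit 73343) (.node (nat_lit 72241) (.node (nat_lit 70720) (.node (nat_lit 70173) (.node (nat_lit 70044) (.leaf (nat_lit 2160)) (.leaf (nat_lit 1080))) (.node (nat_lit 70554)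 (.leaf (nat_lit 2160)) (.leaf (nat_lit 1080)))) (.node (nat_lit 71986) (.node (nat_lit 71941) (.leaf (nat_lit 2160)) (.leaf (nat_lit 0))) (.node (nat_lit 72057) (.leaf (nat_lit 210)) (.node (nat_lit 72181) (.leaf (nat_lit 2160)) (.leaf (nat_lit 1)))))) (.node (nat_lit 72833) (.node (nat_lit 72593) (.node (nat_lit 72345) (.leaf (nat_lit 156)) (.leaf (nat_lit 2160))) (.node (nat_lit 72623) (.leaf (nat_lit 1320)) (.node (nat_lit 72709) (.leaf (nat_lit 0)) (.leaf (nat_lit 2160))))) (.node (nat_lit 72878) (.node (nat_lit 72837) (.leaf (nat_lit 1320)) (.leaf (nat_lit 2160))) (.node (nat_lit 72946) (.leaf (nat_lit 1320)) (.node (nat_lit 73219) (.leaf (nat_lit 150)) (.leaf (nat_lit 2160))))))) (.node (nat_lit 78145) (.node (nat_lit 73818) (.node (nat_lit 73581) (.node (nat_lit 73566) (.leaf (nat_lit 1320)) (.leaf (nat_lit 0))) (.node (nat_lit 73788) (.leaf (nat_lit 30)) (.node (nat_lit 73806) (.leaf (nat_lit 2160)) (.leaf (nat_lit 30)))))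 (.node (nat_lit 74076) (.node (nat_lit 73836) (.leaf (nat_lit 2160)) (.leaf (nat_lit 0))) (.node (nat_lit 74185) (.leaf (nat_lit 1110)) (.node (nat_lit 78121) (.leaf (nat_lit 2160)) (.leaf (nat_lit 1080)))))) (.node (nat_lit 79381) (.node (nat_lit 78205) (.node (nat_lit 78181) (.leaf (nat_lit 2160)) (.leaf (nat_lit 1080))) (.node (nat_lit 78361) (.leaf (nat_lit 2160)) (.node (nat_lit 78701) (.leaf (nat_lit 1080)) (.leaf (nat_lit 2160))))) (.node (nat_lit 80131) (.node (nat_lit 79412) (.leaf (nat_lit 1080)) (.leaf (nat_lit 2160))) (.node (nat_lit 80273) (.leaf (nat_lit 120)) (.node (nat_lit 80371) (.leaf (nat_lit 1320)) (.leaf (nat_lit 120)))))))) (.node (nat_lit 84353) (.node (nat_lit 81503) (.node (nat_lit 80641) (.node (nat_lit 80434) (.node (nat_lit 80401) (.leaf (nat_lit 2160)) (.leaf (nat_lit 120))) (.node (nat_lit 80626) (.leaf (nat_lit 2160)) (.node (nat_lit 80629) (.leaf (nat_lit 120)) (.leaf (nat_lit 2160))))) (.node (nat_lit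 80993) (.node (nat_lit 80689) (.leaf (nat_lit 120)) (.leaf (nat_lit 2160))) (.node (nat_lit 81068) (.leaf (nat_lit 1320)) (.node (nat_lit 81394) (.leaf (nat_lit 0)) (.leaf (nat_lit 2160)))))) (.node (nat_lit 82285) (.node (nat_lit 82216) (.node (nat_lit 81889) (.leaf (nat_lit 1320)) (.leaf (nat_lit 2160))) (.node (nat_lit 82240) (.leaf (nat_lit 1080)) (.node (nat_lit 82261) (.leaf (nat_lit 2160)) (.leaf (nat_lit 1080))))) (.node (nat_lit 82609) (.node (nat_lit 82456) (.leaf (nat_lit 2160)) (.leaf (nat_lit 1080))) (.node (nat_lit 83221) (.leaf (nat_lit 2160)) (.node (nat_lit 83372) (.leaf (nat_lit 1080)) (.leaf (nat_lit 2160))))))) (.node (nat_lit 85999) (.node (nat_lit 85136) (.node (nat_lit 84833) (.node (nat_lit 84398) (.leaf (nat_lit 210)) (.leaf (nat_lit 0))) (.node (nat_lit 84908) (.leaf (nat_lit 156)) (.node (nat_lit 85005) (.leaf (nat_lit 1086)) (.leaf (nat_lit 1320))))) (.node (nat_lit 85598) (.node (nat_lit 85485) (.leaf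 (nat_lit 2160)) (.leaf (nat_lit 1320))) (.node (nat_lit 85631) (.leaf (nat_lit 150)) (.node (nat_lit 85995) (.leaf (nat_lit 2160)) (.leaf (nat_lit 0)))))) (.node (nat_lit 87585) (.node (nat_lit 86232) (.node (nat_lit 86025) (.leaf (nat_lit 2160)) (.leaf (nat_lit 1320))) (.node (nat_lit 87345) (.leaf (nat_lit 2160)) (.node (nat_lit 87416) (.leaf (nat_lit 360)) (.leaf (nat_lit 2160))))) (.node (nat_lit 87645) (.node (nat_lit 87596) (.leaf (nat_lit 360)) (.leaf (nat_lit 2160))) (.node (nat_lit 87656) (.leaf (nat_lit 360)) (.node (nat_lit 88350) (.leaf (nat_lit 2160)) (.leaf (nat_lit 360))))))))))) (.node (nat_lit 131455) (.node (nat_lit 108845) (.node (nat_lit 97977) (.node (nat_lit 93068) (.node (nat_lit 90317) (.node (nat_lit 88976) (.node (nat_lit 88849) (.node (nat_lit 88845) (.leaf (nat_lit 2160)) (.leaf (nat_lit 1320))) (.node (nat_lit 88875) (.leaf (nat_lit 2160)) (.leaf (nat_lit 1320)))) (.node (nat_lit 89711) (.node (nat_lit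 89565) (.leaf (nat_lit 2160)) (.leaf (nat_lit 1320))) (.node (nat_lit 90075) (.leaf (nat_lit 2160)) (.node (nat_lit 90120) (.leaf (nat_lit 1320)) (.leaf (nat_lit 0)))))) (.node (nat_lit 91740) (.node (nat_lit 91353) (.node (nat_lit 91185) (.leaf (nat_lit 2160)) (.leaf (nat_lit 360))) (.node (nat_lit 91665) (.leaf (nat_lit 2160)) (.node (nat_lit 91689) (.leaf (nat_lit 360)) (.leaf (nat_lit 2160))))) (.node (nat_lit 92430) (.node (nat_lit 91764) (.leaf (nat_lit 360)) (.leaf (nat_lit 2160))) (.node (nat_lit 92543) (.leaf (nat_lit 360)) (.node (nat_lit 93056) (.leaf (nat_lit 120)) (.leaf (nat_lit 2160))))))) (.node (nat_lit 95580) (.node (nat_lit 93341) (.node (nat_lit 93278) (.node (nat_lit 93086) (.leaf (nat_lit 120)) (.leaf (nat_lit 2160))) (.node (nat_lit 93296) (.leaf (nat_lit 120)) (.node (nat_lit 93308) (.leaf (nat_lit 2160)) (.leaf (nat_lit 120))))) (.node (nat_lit 95402) (.node (nat_lit 95265) (.leaf (nat_lit 2160)) (.leaf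 (nat_lit 360))) (.node (nat_lit 95505) (.leaf (nat_lit 2160)) (.node (nat_lit 95507) (.leaf (nat_lit 360)) (.leaf (nat_lit 2160)))))) (.node (nat_lit 97245) (.node (nat_lit 96525) (.node (nat_lit 95762) (.leaf (nat_lit 360)) (.leaf (nat_lit 2160))) (.node (nat_lit 97005) (.leaf (nat_lit 360)) (.node (nat_lit 97151) (.leaf (nat_lit 150)) (.leaf (nat_lit 2160))))) (.node (nat_lit 97657) (.node (nat_lit 97391) (.leaf (nat_lit 150)) (.leaf (nat_lit 2160))) (.node (nat_lit 97661) (.leaf (nat_lit 120)) (.node (nat_lit 97702) (.leaf (nat_lit 2160)) (.leaf (nat_lit 120)))))))) (.node (nat_lit 103956) (.node (nat_lit 100297) (.node (nat_lit 98666) (.node (nat_lit 98280) (.node (nat_lit 98265) (.leaf (nat_lit 2160)) (.leaf (nat_lit 0))) (.node (nat_lit 98487) (.leaf (nat_lit 1110)) (.node (nat_lit 98662) (.leaf (nat_lit 2160)) (.leaf (nat_lit 120))))) (.node (nat_lit 99033) (.node (nat_lit 98677) (.leaf (nat_lit 2160)) (.leaf (nat_lit 120)))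 (.node (nat_lit 100012) (.leaf (nat_lit 2160)) (.node (nat_lit 100263) (.leaf (nat_lit 360)) (.leaf (nat_lit 2160)))))) (.node (nat_lit 101977) (.node (nat_lit 100762) (.node (nat_lit 100308) (.leaf (nat_lit 360)) (.leaf (nat_lit 2160))) (.node (nat_lit 101497) (.leaf (nat_lit 360)) (.node (nat_lit 101592) (.leaf (nat_lit 120)) (.leaf (nat_lit 2160))))) (.node (nat_lit 102742) (.node (nat_lit 102072) (.leaf (nat_lit 120)) (.leaf (nat_lit 2160))) (.node (nat_lit 102969) (.leaf (nat_lit 120)) (.node (nat_lit 103852) (.leaf (nat_lit 2160)) (.leaf (nat_lit 360))))))) (.node (nat_lit 106789) (.node (nat_lit 104842) (.node (nat_lit 104358) (.node (nat_lit 104332) (.leaf (nat_lit 2160)) (.leaf (nat_lit 360))) (.node (nat_lit 104392) (.leaf (nat_lit 2160)) (.node (nat_lit 104515) (.leaf (nat_lit 360)) (.leaf (nat_lit 2160))))) (.node (nat_lit 105829) (.node (nat_lit 105195) (.leaf (nat_lit 360)) (.leaf (nat_lit 120))) (.node (nat_lit 105892)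 (.leaf (nat_lit 2160)) (.node (nat_lit 106577) (.leaf (nat_lit 120)) (.leaf (nat_lit 360)))))) (.node (nat_lit 107327) (.node (nat_lit 106837) (.node (nat_lit 106817) (.leaf (nat_lit 2160)) (.leaf (nat_lit 360))) (.node (nat_lit 106862) (.leaf (nat_lit 120)) (.node (nat_lit 106864) (.leaf (nat_lit 360)) (.leaf (nat_lit 2160))))) (.node (nat_lit 107550) (.node (nat_lit 107364) (.leaf (nat_lit 360)) (.leaf (nat_lit 2160))) (.node (nat_lit 108069) (.leaf (nat_lit 360)) (.node (nat_lit 108172) (.leaf (nat_lit 2160)) (.leaf (nat_lit 360))))))))) (.node (nat_lit 123006) (.node (nat_lit 116122) (.node (nat_lit 114497) (.node (nat_lit 110585) (.node (nat_lit 109085) (.node (nat_lit 108937) (.leaf (nat_lit 2160)) (.leaf (nat_lit 360))) (.node (nat_lit 110417) (.leaf (nat_lit 2160)) (.leaf (nat_lit 360)))) (.node (nat_lit 111080) (.node (nat_lit 110897) (.leaf (nat_lit 2160)) (.leaf (nat_lit 360))) (.node (nat_lit 111407) (.leaf (nat_lit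 2160)) (.node (nat_lit 111700) (.leaf (nat_lit 360)) (.leaf (nat_lit 2160)))))) (.node (nat_lit 114979) (.node (nat_lit 114737) (.node (nat_lit 114724) (.leaf (nat_lit 360)) (.leaf (nat_lit 2160))) (.node (nat_lit 114784) (.leaf (nat_lit 360)) (.node (nat_lit 114797) (.leaf (nat_lit 2160)) (.leaf (nat_lit 360))))) (.node (nat_lit 115780) (.node (nat_lit 115149) (.leaf (nat_lit 2160)) (.leaf (nat_lit 360))) (.node (nat_lit 115899) (.leaf (nat_lit 2160)) (.node (nat_lit 116033) (.leaf (nat_lit 360)) (.leaf (nat_lit 2160))))))) (.node (nat_lit 118357) (.node (nat_lit 116770) (.node (nat_lit 116362) (.node (nat_lit 116260) (.leaf (nat_lit 360)) (.leaf (nat_lit 2160))) (.node (nat_lit 116513) (.leaf (nat_lit 360)) (.node (nat_lit 116617) (.leaf (nat_lit 2160)) (.leaf (nat_lit 360))))) (.node (nat_lit 117877) (.node (nat_lit 117862) (.leaf (nat_lit 2160)) (.leaf (nat_lit 0))) (.node (nat_lit 118132) (.leaf (nat_lit 30)) (.node (nat_lit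 118265) (.leaf (nat_lit 0)) (.leaf (nat_lit 2160)))))) (.node (nat_lit 122829) (.node (nat_lit 118985) (.node (nat_lit 118372) (.leaf (nat_lit 0)) (.leaf (nat_lit 1110))) (.node (nat_lit 122687) (.leaf (nat_lit 2160)) (.node (nat_lit 122825) (.leaf (nat_lit 360)) (.leaf (nat_lit 2160))))) (.node (nat_lit 122927) (.node (nat_lit 122885) (.leaf (nat_lit 360)) (.leaf (nat_lit 2160))) (.node (nat_lit 122973) (.leaf (nat_lit 360)) (.node (nat_lit 122991) (.leaf (nat_lit 2160)) (.leaf (nat_lit 0)))))))) (.node (nat_lit 127591) (.node (nat_lit 126831) (.node (nat_lit 123486) (.node (nat_lit 123231) (.node (nat_lit 123182) (.leaf (nat_lit 30)) (.leaf (nat_lit 360))) (.node (nat_lit 123261) (.leaf (nat_lit 122)) (.node (nat_lit 123335) (.leaf (nat_lit 36)) (.leaf (nat_lit 2160))))) (.node (nat_lit 123933) (.node (nat_lit 123549) (.leaf (nat_lit 150)) (.leaf (nat_lit 360))) (.node (nat_lit 124059) (.leaf (nat_lit 2160)) (.node (nat_lit 124188)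 (.leaf (nat_lit 360)) (.leaf (nat_lit 2160)))))) (.node (nat_lit 126965) (.node (nat_lit 126909) (.node (nat_lit 126846) (.leaf (nat_lit 30)) (.leaf (nat_lit 0))) (.node (nat_lit 126920) (.leaf (nat_lit 360)) (.node (nat_lit 126954) (.leaf (nat_lit 2160)) (.leaf (nat_lit 360))))) (.node (nat_lit 127356) (.node (nat_lit 127311) (.leaf (nat_lit 2160)) (.leaf (nat_lit 36))) (.node (nat_lit 127389) (.leaf (nat_lit 126)) (.node (nat_lit 127566) (.leaf (nat_lit 360)) (.leaf (nat_lit 150))))))) (.node (nat_lit 129571) (.node (nat_lit 128555) (.node (nat_lit 128041) (.node (nat_lit 127596) (.leaf (nat_lit 360)) (.leaf (nat_lit 150))) (.node (nat_lit 128540) (.leaf (nat_lit 360)) (.node (nat_lit 128551) (.leaf (nat_lit 2160)) (.leaf (nat_lit 360))))) (.node (nat_lit 128700) (.node (nat_lit 128581) (.leaf (nat_lit 2160)) (.leaf (nat_lit 360))) (.node (nat_lit 129556) (.leaf (nat_lit 2160)) (.node (nat_lit 129560) (.leaf (nat_lit 1200)) (.leaf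 (nat_lit 2160)))))) (.node (nat_lit 130152) (.node (nat_lit 129796) (.node (nat_lit 129690) (.leaf (nat_lit 1200)) (.leaf (nat_lit 2160))) (.node (nat_lit 129897) (.leaf (nat_lit 1200)) (.node (nat_lit 130051) (.leaf (nat_lit 2160)) (.leaf (nat_lit 1200))))) (.node (nat_lit 131401) (.node (nat_lit 130911) (.leaf (nat_lit 2160)) (.leaf (nat_lit 150))) (.node (nat_lit 131425) (.leaf (nat_lit 360)) (.node (nat_lit 131431) (.leaf (nat_lit 2160)) (.leaf (nat_lit 360)))))))))) (.node (nat_lit 146528) (.node (nat_lit 137716) (.node (nat_lit 134131) (.node (nat_lit 132631) (.node (nat_lit 131710) (.node (nat_lit 131665) (.node (nat_lit 131661) (.leaf (nat_lit 2160)) (.leaf (nat_lit 0))) (.node (nat_lit 131676) (.leaf (nat_lit 2160)) (.leaf (nat_lit 180)))) (.node (nat_lit 132175) (.node (nat_lit 132121) (.leaf (nat_lit 2160)) (.leaf (nat_lit 360))) (.node (nat_lit 132196) (.leaf (nat_lit 2160)) (.node (nat_lit 132265) (.leaf (nat_lit 360))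 (.leaf (nat_lit 2160)))))) (.node (nat_lit 133785) (.node (nat_lit 132676) (.node (nat_lit 132638) (.leaf (nat_lit 360)) (.leaf (nat_lit 2160))) (.node (nat_lit 132775) (.leaf (nat_lit 360)) (.node (nat_lit 133396) (.leaf (nat_lit 2160)) (.leaf (nat_lit 1200))))) (.node (nat_lit 133909) (.node (nat_lit 133876) (.leaf (nat_lit 2160)) (.leaf (nat_lit 1200))) (.node (nat_lit 133921) (.leaf (nat_lit 2160)) (.node (nat_lit 133939) (.leaf (nat_lit 1200)) (.leaf (nat_lit 2160))))))) (.node (nat_lit 135276) (.node (nat_lit 135021) (.node (nat_lit 134161) (.node (nat_lit 134149) (.leaf (nat_lit 1200)) (.leaf (nat_lit 2160))) (.node (nat_lit 134194) (.leaf (nat_lit 1200)) (.node (nat_lit 135006) (.leaf (nat_lit 2160)) (.leaf (nat_lit 1))))) (.node (nat_lit 135213) (.node (nat_lit 135099) (.leaf (nat_lit 36)) (.leaf (nat_lit 360))) (.node (nat_lit 135246) (.leaf (nat_lit 2160)) (.node (nat_lit 135265) (.leaf (nat_lit 36)) (.leaf (nat_lit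 2160)))))) (.node (nat_lit 135625) (.node (nat_lit 135501) (.node (nat_lit 135295) (.leaf (nat_lit 12)) (.leaf (nat_lit 2160))) (.node (nat_lit 135528) (.leaf (nat_lit 1)) (.node (nat_lit 135579) (.leaf (nat_lit 2160)) (.leaf (nat_lit 360))))) (.node (nat_lit 135987) (.node (nat_lit 135834) (.leaf (nat_lit 2160)) (.leaf (nat_lit 360))) (.node (nat_lit 137476) (.leaf (nat_lit 2160)) (.node (nat_lit 137577) (.leaf (nat_lit 120)) (.leaf (nat_lit 2160)))))))) (.node (nat_lit 140453) (.node (nat_lit 139621) (.node (nat_lit 138372) (.node (nat_lit 138226) (.node (nat_lit 138128) (.leaf (nat_lit 120)) (.leaf (nat_lit 1200))) (.node (nat_lit 138342) (.leaf (nat_lit 120)) (.node (nat_lit 138368) (.leaf (nat_lit 2160)) (.leaf (nat_lit 1200))))) (.node (nat_lit 138852) (.node (nat_lit 138398) (.leaf (nat_lit 2160)) (.leaf (nat_lit 1200))) (.node (nat_lit 139561) (.leaf (nat_lit 2160)) (.node (nat_lit 139572) (.leaf (nat_lit 360)) (.leaf (nat_lit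 2160)))))) (.node (nat_lit 139997) (.node (nat_lit 139801) (.node (nat_lit 139632) (.leaf (nat_lit 360)) (.leaf (nat_lit 2160))) (.node (nat_lit 139827) (.leaf (nat_lit 360)) (.node (nat_lit 139876) (.leaf (nat_lit 2160)) (.leaf (nat_lit 360))))) (.node (nat_lit 140237) (.node (nat_lit 140213) (.leaf (nat_lit 2160)) (.leaf (nat_lit 360))) (.node (nat_lit 140258) (.leaf (nat_lit 2160)) (.node (nat_lit 140282) (.leaf (nat_lit 360)) (.leaf (nat_lit 2160))))))) (.node (nat_lit 141811) (.node (nat_lit 141222) (.node (nat_lit 140821) (.node (nat_lit 140747) (.leaf (nat_lit 360)) (.leaf (nat_lit 2160))) (.node (nat_lit 140970) (.leaf (nat_lit 360)) (.node (nat_lit 141218) (.leaf (nat_lit 2160)) (.leaf (nat_lit 360))))) (.node (nat_lit 141240) (.node (nat_lit 141233) (.leaf (nat_lit 2160)) (.leaf (nat_lit 360))) (.node (nat_lit 141571) (.leaf (nat_lit 2160)) (.node (nat_lit 141589) (.leaf (nat_lit 1320)) (.leaf (nat_lit 2160)))))) (.node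 (nat_lit 144701) (.node (nat_lit 144053) (.node (nat_lit 142182) (.leaf (nat_lit 1320)) (.leaf (nat_lit 2160))) (.node (nat_lit 144100) (.leaf (nat_lit 360)) (.node (nat_lit 144533) (.leaf (nat_lit 2160)) (.leaf (nat_lit 360))))) (.node (nat_lit 145669) (.node (nat_lit 145298) (.leaf (nat_lit 2160)) (.leaf (nat_lit 360))) (.node (nat_lit 145808) (.leaf (nat_lit 2160)) (.node (nat_lit 146149) (.leaf (nat_lit 1200)) (.leaf (nat_lit 2160))))))))) (.node (nat_lit 154718) (.node (nat_lit 148448) (.node (nat_lit 147781) (.node (nat_lit 146816) (.node (nat_lit 146588) (.node (nat_lit 146576) (.leaf (nat_lit 1200)) (.leaf (nat_lit 2160))) (.node (nat_lit 146591) (.leaf (nat_lit 1200)) (.node (nat_lit 146783) (.leaf (nat_lit 2160)) (.leaf (nat_lit 1200))))) (.node (nat_lit 146846) (.node (nat_lit 146828) (.leaf (nat_lit 2160)) (.leaf (nat_lit 1200))) (.node (nat_lit 147751) (.leaf (nat_lit 2160)) (.node (nat_lit 147775) (.leaf (nat_lit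 360)) (.leaf (nat_lit 2160)))))) (.node (nat_lit 148045) (.node (nat_lit 147991) (.node (nat_lit 147805) (.leaf (nat_lit 360)) (.leaf (nat_lit 2160))) (.node (nat_lit 148030) (.leaf (nat_lit 360)) (.node (nat_lit 148036) (.leaf (nat_lit 2160)) (.leaf (nat_lit 360))))) (.node (nat_lit 148292) (.node (nat_lit 148133) (.leaf (nat_lit 2160)) (.leaf (nat_lit 360))) (.node (nat_lit 148373) (.leaf (nat_lit 2160)) (.node (nat_lit 148397) (.leaf (nat_lit 360)) (.leaf (nat_lit 2160))))))) (.node (nat_lit 151032) (.node (nat_lit 149888) (.node (nat_lit 148501) (.node (nat_lit 148472) (.leaf (nat_lit 360)) (.leaf (nat_lit 2160))) (.node (nat_lit 148781) (.leaf (nat_lit 360)) (.node (nat_lit 149393) (.leaf (nat_lit 2160)) (.leaf (nat_lit 360))))) (.node (nat_lit 150878) (.node (nat_lit 150540) (.leaf (nat_lit 120)) (.leaf (nat_lit 1200))) (.node (nat_lit 151017) (.leaf (nat_lit 120)) (.node (nat_lit 151020) (.leaf (nat_lit 2160)) (.leaf (nat_lit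 1200)))))) (.node (nat_lit 154380) (.node (nat_lit 151497) (.node (nat_lit 151065) (.leaf (nat_lit 2160)) (.leaf (nat_lit 1200))) (.node (nat_lit 153983) (.leaf (nat_lit 2160)) (.node (nat_lit 154256) (.leaf (nat_lit 1320)) (.leaf (nat_lit 2160))))) (.node (nat_lit 154395) (.node (nat_lit 154384) (.leaf (nat_lit 1200)) (.leaf (nat_lit 2160))) (.node (nat_lit 154463) (.leaf (nat_lit 1200)) (.node (nat_lit 154594) (.leaf (nat_lit 1320)) (.leaf (nat_lit 2160)))))))) (.node (nat_lit 163222) (.node (nat_lit 160658) (.node (nat_lit 155577) (.node (nat_lit 155100) (.node (nat_lit 154857) (.leaf (nat_lit 1320)) (.leaf (nat_lit 2160))) (.node (nat_lit 155231) (.leaf (nat_lit 1200)) (.node (nat_lit 155355) (.leaf (nat_lit 2160)) (.leaf (nat_lit 1200))))) (.node (nat_lit 160427) (.node (nat_lit 160418) (.leaf (nat_lit 2160)) (.leaf (nat_lit 360))) (.node (nat_lit 160433) (.leaf (nat_lit 2160)) (.node (nat_lit 160472) (.leaf (nat_lit 360))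 (.leaf (nat_lit 2160)))))) (.node (nat_lit 161193) (.node (nat_lit 160688) (.node (nat_lit 160682) (.leaf (nat_lit 360)) (.leaf (nat_lit 2160))) (.node (nat_lit 160712) (.leaf (nat_lit 360)) (.node (nat_lit 160913) (.leaf (nat_lit 2160)) (.leaf (nat_lit 360))))) (.node (nat_lit 162911) (.node (nat_lit 162540) (.leaf (nat_lit 2160)) (.leaf (nat_lit 120))) (.node (nat_lit 163192) (.leaf (nat_lit 2160)) (.node (nat_lit 163196) (.leaf (nat_lit 1200)) (.leaf (nat_lit 2160))))))) (.node (nat_lit 166042) (.node (nat_lit 164022) (.node (nat_lit 163432) (.node (nat_lit 163257) (.leaf (nat_lit 1200)) (.leaf (nat_lit 2160))) (.node (nat_lit 163545) (.leaf (nat_lit 1200)) (.node (nat_lit 163942) (.leaf (nat_lit 120)) (.leaf (nat_lit 1200))))) (.node (nat_lit 165669) (.node (nat_lit 165547) (.leaf (nat_lit 2160)) (.leaf (nat_lit 360))) (.node (nat_lit 165787) (.leaf (nat_lit 2160)) (.node (nat_lit 165891) (.leaf (nat_lit 360)) (.leaf (nat_lit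 2160)))))) (.node (nat_lit 167385) (.node (nat_lit 166635) (.node (nat_lit 166066) (.leaf (nat_lit 360)) (.leaf (nat_lit 2160))) (.node (nat_lit 167032) (.leaf (nat_lit 1320)) (.node (nat_lit 167112) (.leaf (nat_lit 1200)) (.leaf (nat_lit 2160))))) (.node (nat_lit 167400) (.node (nat_lit 167397) (.leaf (nat_lit 1320)) (.leaf (nat_lit 2160))) (.node (nat_lit 167512) (.leaf (nat_lit 1320)) (.node (nat_lit 167862) (.leaf (nat_lit 1200)) (.leaf (nat_lit 2160)))))))))))) (.node (nat_lit 391272) (.node (nat_lit 213992) (.node (nat_lit 184622) (.node (nat_lit 176687) (.node (nat_lit 172599) (.node (nat_lit 170146) (.node (nat_lit 169867) (.node (nat_lit 169387) (.node (nat_lit 168229) (.leaf (nat_lit 1200)) (.leaf (nat_lit 2160))) (.node (nat_lit 169456) (.leaf (nat_lit 360)) (.leaf (nat_lit 2160)))) (.node (nat_lit 169912) (.node (nat_lit 169893) (.leaf (nat_lit 360)) (.leaf (nat_lit 2160))) (.node (nat_lit 170035) (.leaf (nat_lit 360))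 (.node (nat_lit 170122) (.leaf (nat_lit 2160)) (.leaf (nat_lit 360)))))) (.node (nat_lit 172112) (.node (nat_lit 170176) (.node (nat_lit 170152) (.leaf (nat_lit 2160)) (.leaf (nat_lit 360))) (.node (nat_lit 171112) (.leaf (nat_lit 2160)) (.node (nat_lit 172001) (.leaf (nat_lit 1200)) (.leaf (nat_lit 2160))))) (.node (nat_lit 172127) (.node (nat_lit 172117) (.leaf (nat_lit 360)) (.leaf (nat_lit 1200))) (.node (nat_lit 172132) (.leaf (nat_lit 360)) (.node (nat_lit 172352) (.leaf (nat_lit 1200)) (.leaf (nat_lit 360))))))) (.node (nat_lit 175880) (.node (nat_lit 174217) (.node (nat_lit 172629) (.node (nat_lit 172607) (.leaf (nat_lit 2160)) (.leaf (nat_lit 360))) (.node (nat_lit 173467) (.leaf (nat_lit 2160)) (.node (nat_lit 173860) (.leaf (nat_lit 360)) (.leaf (nat_lit 2160))))) (.node (nat_lit 175859) (.node (nat_lit 174241) (.leaf (nat_lit 360)) (.leaf (nat_lit 2160))) (.node (nat_lit 175865) (.leaf (nat_lit 120)) (.node (nat_lit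 175874) (.leaf (nat_lit 2160)) (.leaf (nat_lit 120)))))) (.node (nat_lit 176345) (.node (nat_lit 175984) (.node (nat_lit 175952) (.leaf (nat_lit 2160)) (.leaf (nat_lit 360))) (.node (nat_lit 176099) (.leaf (nat_lit 2160)) (.node (nat_lit 176129) (.leaf (nat_lit 0)) (.leaf (nat_lit 120))))) (.node (nat_lit 176390) (.node (nat_lit 176354) (.leaf (nat_lit 2160)) (.leaf (nat_lit 120))) (.node (nat_lit 176432) (.leaf (nat_lit 2160)) (.node (nat_lit 176600) (.leaf (nat_lit 360)) (.leaf (nat_lit 2160)))))))) (.node (nat_lit 179720) (.node (nat_lit 178057) (.node (nat_lit 177573) (.node (nat_lit 176717) (.node (nat_lit 176704) (.leaf (nat_lit 360)) (.leaf (nat_lit 2160))) (.node (nat_lit 176801) (.leaf (nat_lit 360)) (.node (nat_lit 177562) (.leaf (nat_lit 2160)) (.leaf (nat_lit 360))))) (.node (nat_lit 177588) (.node (nat_lit 177577) (.leaf (nat_lit 2160)) (.leaf (nat_lit 360))) (.node (nat_lit 177802) (.leaf (nat_lit 2160)) (.node (nat_lit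 178033) (.leaf (nat_lit 360)) (.leaf (nat_lit 2160)))))) (.node (nat_lit 179554) (.node (nat_lit 179302) (.node (nat_lit 178108) (.leaf (nat_lit 360)) (.leaf (nat_lit 2160))) (.node (nat_lit 179524) (.leaf (nat_lit 30)) (.node (nat_lit 179542) (.leaf (nat_lit 2160)) (.leaf (nat_lit 30))))) (.node (nat_lit 179699) (.node (nat_lit 179572) (.leaf (nat_lit 2160)) (.leaf (nat_lit 30))) (.node (nat_lit 179705) (.leaf (nat_lit 120)) (.node (nat_lit 179714) (.leaf (nat_lit 2160)) (.leaf (nat_lit 120))))))) (.node (nat_lit 180485) (.node (nat_lit 180179) (.node (nat_lit 180004) (.node (nat_lit 179797) (.leaf (nat_lit 2160)) (.leaf (nat_lit 1110))) (.node (nat_lit 180032) (.leaf (nat_lit 2160)) (.node (nat_lit 180064) (.leaf (nat_lit 360)) (.leaf (nat_lit 2160))))) (.node (nat_lit 180272) (.node (nat_lit 180224) (.leaf (nat_lit 120)) (.leaf (nat_lit 0))) (.node (nat_lit 180425) (.leaf (nat_lit 360)) (.node (nat_lit 180434) (.leaf (nat_lit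 2160)) (.leaf (nat_lit 120)))))) (.node (nat_lit 183779) (.node (nat_lit 180725) (.node (nat_lit 180684) (.leaf (nat_lit 2160)) (.leaf (nat_lit 360))) (.node (nat_lit 180782) (.leaf (nat_lit 2160)) (.node (nat_lit 181300) (.leaf (nat_lit 360)) (.leaf (nat_lit 2160))))) (.node (nat_lit 184437) (.node (nat_lit 184127) (.leaf (nat_lit 120)) (.leaf (nat_lit 360))) (.node (nat_lit 184529) (.leaf (nat_lit 2160)) (.node (nat_lit 184544) (.leaf (nat_lit 120)) (.leaf (nat_lit 0))))))))) (.node (nat_lit 205120) (.node (nat_lit 192476) (.node (nat_lit 188364) (.node (nat_lit 187910) (.node (nat_lit 187874) (.node (nat_lit 184917) (.leaf (nat_lit 360)) (.leaf (nat_lit 2160))) (.node (nat_lit 187889) (.leaf (nat_lit 0)) (.leaf (nat_lit 300)))) (.node (nat_lit 188141) (.node (nat_lit 188114) (.leaf (nat_lit 2160)) (.leaf (nat_lit 300))) (.node (nat_lit 188144) (.leaf (nat_lit 2160)) (.node (nat_lit 188165) (.leaf (nat_lit 0)) (.leaf (nat_lit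 2160)))))) (.node (nat_lit 189084) (.node (nat_lit 188379) (.node (nat_lit 188369) (.leaf (nat_lit 360)) (.leaf (nat_lit 0))) (.node (nat_lit 188384) (.leaf (nat_lit 360)) (.node (nat_lit 188396) (.leaf (nat_lit 180)) (.leaf (nat_lit 2160))))) (.node (nat_lit 189384) (.node (nat_lit 189341) (.leaf (nat_lit 360)) (.leaf (nat_lit 2160))) (.node (nat_lit 190377) (.leaf (nat_lit 360)) (.node (nat_lit 192444) (.leaf (nat_lit 2160)) (.leaf (nat_lit 360))))))) (.node (nat_lit 196960) (.node (nat_lit 193434) (.node (nat_lit 193077) (.node (nat_lit 192924) (.leaf (nat_lit 2160)) (.leaf (nat_lit 360))) (.node (nat_lit 193096) (.leaf (nat_lit 2160)) (.node (nat_lit 193152) (.leaf (nat_lit 360)) (.leaf (nat_lit 2160))))) (.node (nat_lit 196539) (.node (nat_lit 194235) (.leaf (nat_lit 360)) (.leaf (nat_lit 2160))) (.node (nat_lit 196849) (.leaf (nat_lit 360)) (.node (nat_lit 196936) (.leaf (nat_lit 2160)) (.leaf (nat_lit 360)))))) (.node (nat_lit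 197656) (.node (nat_lit 197200) (.node (nat_lit 197019) (.leaf (nat_lit 2160)) (.leaf (nat_lit 360))) (.node (nat_lit 197274) (.leaf (nat_lit 2160)) (.node (nat_lit 197305) (.leaf (nat_lit 360)) (.leaf (nat_lit 2160))))) (.node (nat_lit 197911) (.node (nat_lit 197824) (.leaf (nat_lit 360)) (.leaf (nat_lit 2160))) (.node (nat_lit 198310) (.leaf (nat_lit 360)) (.node (nat_lit 205096) (.leaf (nat_lit 2160)) (.leaf (nat_lit 360)))))))) (.node (nat_lit 206712) (.node (nat_lit 205802) (.node (nat_lit 205396) (.node (nat_lit 205165) (.node (nat_lit 205141) (.leaf (nat_lit 2160)) (.leaf (nat_lit 360))) (.node (nat_lit 205336) (.leaf (nat_lit 2160)) (.node (nat_lit 205362) (.leaf (nat_lit 360)) (.leaf (nat_lit 2160))))) (.node (nat_lit 205748) (.node (nat_lit 205465) (.leaf (nat_lit 360)) (.leaf (nat_lit 2160))) (.node (nat_lit 205772) (.leaf (nat_lit 360)) (.node (nat_lit 205778) (.leaf (nat_lit 2160)) (.leaf (nat_lit 360)))))) (.node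 (nat_lit 206101) (.node (nat_lit 206027) (.node (nat_lit 205988) (.leaf (nat_lit 2160)) (.leaf (nat_lit 360))) (.node (nat_lit 206033) (.leaf (nat_lit 2160)) (.node (nat_lit 206042) (.leaf (nat_lit 360)) (.leaf (nat_lit 2160))))) (.node (nat_lit 206498) (.node (nat_lit 206485) (.leaf (nat_lit 360)) (.leaf (nat_lit 2160))) (.node (nat_lit 206500) (.leaf (nat_lit 360)) (.node (nat_lit 206513) (.leaf (nat_lit 2160)) (.leaf (nat_lit 360))))))) (.node (nat_lit 209972) (.node (nat_lit 209431) (.node (nat_lit 209215) (.node (nat_lit 209191) (.leaf (nat_lit 2160)) (.leaf (nat_lit 360))) (.node (nat_lit 209221) (.leaf (nat_lit 2160)) (.node (nat_lit 209245) (.leaf (nat_lit 360)) (.leaf (nat_lit 2160))))) (.node (nat_lit 209476) (.node (nat_lit 209470) (.leaf (nat_lit 360)) (.leaf (nat_lit 2160))) (.node (nat_lit 209485) (.leaf (nat_lit 360)) (.node (nat_lit 209588) (.leaf (nat_lit 2160)) (.leaf (nat_lit 360)))))) (.node (nat_lit 213668)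 (.node (nat_lit 210212) (.node (nat_lit 210068) (.leaf (nat_lit 2160)) (.leaf (nat_lit 360))) (.node (nat_lit 210578) (.leaf (nat_lit 2160)) (.node (nat_lit 210722) (.leaf (nat_lit 360)) (.leaf (nat_lit 2160))))) (.node (nat_lit 213908) (.node (nat_lit 213812) (.leaf (nat_lit 360)) (.leaf (nat_lit 2160))) (.node (nat_lit 213932) (.leaf (nat_lit 360)) (.node (nat_lit 213968) (.leaf (nat_lit 2160)) (.leaf (nat_lit 360)))))))))) (.node (nat_lit 354051) (.node (nat_lit 226575) (.node (nat_lit 222098) (.node (nat_lit 218685) (.node (nat_lit 218421) (.node (nat_lit 214802) (.node (nat_lit 214673) (.leaf (nat_lit 2160)) (.leaf (nat_lit 360))) (.node (nat_lit 218415) (.leaf (nat_lit 2160)) (.leaf (nat_lit 360)))) (.node (nat_lit 218436) (.node (nat_lit 218430) (.leaf (nat_lit 2160)) (.leaf (nat_lit 360))) (.node (nat_lit 218655) (.leaf (nat_lit 2160)) (.node (nat_lit 218679) (.leaf (nat_lit 360)) (.leaf (nat_lit 2160)))))) (.node (nat_lit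 218946) (.node (nat_lit 218910) (.node (nat_lit 218709) (.leaf (nat_lit 360)) (.leaf (nat_lit 2160))) (.node (nat_lit 218912) (.leaf (nat_lit 360)) (.node (nat_lit 218925) (.leaf (nat_lit 2160)) (.leaf (nat_lit 360))))) (.node (nat_lit 221867) (.node (nat_lit 221858) (.leaf (nat_lit 2160)) (.leaf (nat_lit 360))) (.node (nat_lit 221873) (.leaf (nat_lit 2160)) (.node (nat_lit 221912) (.leaf (nat_lit 360)) (.leaf (nat_lit 2160))))))) (.node (nat_lit 222735) (.node (nat_lit 222261) (.node (nat_lit 222128) (.node (nat_lit 222122) (.leaf (nat_lit 360)) (.leaf (nat_lit 2160))) (.node (nat_lit 222152) (.leaf (nat_lit 360)) (.node (nat_lit 222255) (.leaf (nat_lit 2160)) (.leaf (nat_lit 360))))) (.node (nat_lit 222276) (.node (nat_lit 222270) (.leaf (nat_lit 2160)) (.leaf (nat_lit 360))) (.node (nat_lit 222353) (.leaf (nat_lit 2160)) (.node (nat_lit 222393) (.leaf (nat_lit 360)) (.leaf (nat_lit 2160)))))) (.node (nat_lit 223041) (.node (nat_lit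 222780) (.node (nat_lit 222759) (.leaf (nat_lit 360)) (.leaf (nat_lit 2160))) (.node (nat_lit 222804) (.leaf (nat_lit 360)) (.node (nat_lit 222990) (.leaf (nat_lit 2160)) (.leaf (nat_lit 360))))) (.node (nat_lit 226352) (.node (nat_lit 226335) (.leaf (nat_lit 2160)) (.leaf (nat_lit 360))) (.node (nat_lit 226365) (.leaf (nat_lit 2160)) (.node (nat_lit 226473) (.leaf (nat_lit 360)) (.leaf (nat_lit 2160)))))))) (.node (nat_lit 340707) (.node (nat_lit 230925) (.node (nat_lit 227238) (.node (nat_lit 226620) (.node (nat_lit 226577) (.leaf (nat_lit 360)) (.leaf (nat_lit 2160))) (.node (nat_lit 226993) (.leaf (nat_lit 360)) (.node (nat_lit 227085) (.leaf (nat_lit 2160)) (.leaf (nat_lit 360))))) (.node (nat_lit 230466) (.node (nat_lit 230430) (.leaf (nat_lit 2160)) (.leaf (nat_lit 360))) (.node (nat_lit 230670) (.leaf (nat_lit 2160)) (.node (nat_lit 230721) (.leaf (nat_lit 360)) (.leaf (nat_lit 2160)))))) (.node (nat_lit 312943) (.node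 (nat_lit 288032) (.node (nat_lit 230949) (.leaf (nat_lit 360)) (.leaf (nat_lit 2160))) (.node (nat_lit 288261) (.leaf (nat_lit 0)) (.node (nat_lit 312880) (.leaf (nat_lit 2160)) (.leaf (nat_lit 0))))) (.node (nat_lit 337045) (.node (nat_lit 336867) (.leaf (nat_lit 2160)) (.leaf (nat_lit 1080))) (.node (nat_lit 337107) (.leaf (nat_lit 2160)) (.node (nat_lit 337782) (.leaf (nat_lit 1080)) (.leaf (nat_lit 2160))))))) (.node (nat_lit 345386) (.node (nat_lit 341442) (.node (nat_lit 340796) (.node (nat_lit 340722) (.leaf (nat_lit 1080)) (.leaf (nat_lit 0))) (.node (nat_lit 341187) (.leaf (nat_lit 2160)) (.node (nat_lit 341306) (.leaf (nat_lit 1080)) (.leaf (nat_lit 2160))))) (.node (nat_lit 344787) (.node (nat_lit 342911) (.leaf (nat_lit 1080)) (.leaf (nat_lit 2160))) (.node (nat_lit 344876) (.leaf (nat_lit 1080)) (.node (nat_lit 345027) (.leaf (nat_lit 2160)) (.leaf (nat_lit 1080)))))) (.node (nat_lit 353119) (.node (nat_lit 346751)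 (.node (nat_lit 345439) (.leaf (nat_lit 2160)) (.leaf (nat_lit 1080))) (.node (nat_lit 348882) (.leaf (nat_lit 2160)) (.node (nat_lit 349476) (.leaf (nat_lit 1080)) (.leaf (nat_lit 2160))))) (.node (nat_lit 353839) (.node (nat_lit 353223) (.leaf (nat_lit 1080)) (.leaf (nat_lit 2160))) (.node (nat_lit 353841) (.leaf (nat_lit 1080)) (.node (nat_lit 353899) (.leaf (nat_lit 2160)) (.leaf (nat_lit 1080))))))))) (.node (nat_lit 374696) (.node (nat_lit 361691) (.node (nat_lit 357851) (.node (nat_lit 357396) (.node (nat_lit 354139) (.node (nat_lit 354094) (.leaf (nat_lit 2160)) (.leaf (nat_lit 0))) (.node (nat_lit 354926) (.leaf (nat_lit 1080)) (.node (nat_lit 357199) (.leaf (nat_lit 2160)) (.leaf (nat_lit 1080))))) (.node (nat_lit 357681) (.node (nat_lit 357679) (.leaf (nat_lit 2160)) (.leaf (nat_lit 1080))) (.node (nat_lit 357739) (.leaf (nat_lit 2160)) (.node (nat_lit 357798) (.leaf (nat_lit 1080)) (.leaf (nat_lit 2160)))))) (.node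 (nat_lit 358543) (.node (nat_lit 358189) (.node (nat_lit 358048) (.leaf (nat_lit 1080)) (.leaf (nat_lit 2160))) (.node (nat_lit 358288) (.leaf (nat_lit 1080)) (.node (nat_lit 358331) (.leaf (nat_lit 2160)) (.leaf (nat_lit 1080))))) (.node (nat_lit 361143) (.node (nat_lit 358586) (.leaf (nat_lit 2160)) (.leaf (nat_lit 1080))) (.node (nat_lit 361294) (.leaf (nat_lit 2160)) (.node (nat_lit 361383) (.leaf (nat_lit 1080)) (.leaf (nat_lit 2160))))))) (.node (nat_lit 370856) (.node (nat_lit 365238) (.node (nat_lit 361774) (.node (nat_lit 361731) (.leaf (nat_lit 1080)) (.leaf (nat_lit 2160))) (.node (nat_lit 361893) (.leaf (nat_lit 1080)) (.node (nat_lit 362029) (.leaf (nat_lit 2160)) (.leaf (nat_lit 1080))))) (.node (nat_lit 370288) (.node (nat_lit 369851) (.leaf (nat_lit 2160)) (.leaf (nat_lit 1080))) (.node (nat_lit 370503) (.leaf (nat_lit 2160)) (.node (nat_lit 370798) (.leaf (nat_lit 1200)) (.leaf (nat_lit 2160)))))) (.node (nat_lit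 374186) (.node (nat_lit 371253) (.node (nat_lit 370940) (.leaf (nat_lit 1080)) (.leaf (nat_lit 2160))) (.node (nat_lit 373903) (.leaf (nat_lit 1200)) (.node (nat_lit 373946) (.leaf (nat_lit 2160)) (.leaf (nat_lit 1080))))) (.node (nat_lit 374300) (.node (nat_lit 374231) (.leaf (nat_lit 0)) (.leaf (nat_lit 1080))) (.node (nat_lit 374343) (.leaf (nat_lit 2160)) (.node (nat_lit 374383) (.leaf (nat_lit 1200)) (.leaf (nat_lit 2160)))))))) (.node (nat_lit 383998) (.node (nat_lit 382460) (.node (nat_lit 379423) (.node (nat_lit 375020) (.node (nat_lit 374823) (.leaf (nat_lit 1080)) (.leaf (nat_lit 1200))) (.node (nat_lit 375333) (.leaf (nat_lit 2160)) (.node (nat_lit 378423) (.leaf (nat_lit 1200)) (.leaf (nat_lit 120))))) (.node (nat_lit 379438) (.node (nat_lit 379428) (.leaf (nat_lit 1080)) (.leaf (nat_lit 120))) (.node (nat_lit 379443) (.leaf (nat_lit 1080)) (.node (nat_lit 379663) (.leaf (nat_lit 120)) (.leaf (nat_lit 1080)))))) (.node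 (nat_lit 383410) (.node (nat_lit 383185) (.node (nat_lit 383170) (.leaf (nat_lit 2160)) (.leaf (nat_lit 0))) (.node (nat_lit 383263) (.leaf (nat_lit 1200)) (.node (nat_lit 383352) (.leaf (nat_lit 1080)) (.leaf (nat_lit 2160))))) (.node (nat_lit 383665) (.node (nat_lit 383465) (.leaf (nat_lit 1200)) (.leaf (nat_lit 2160))) (.node (nat_lit 383743) (.leaf (nat_lit 1200)) (.node (nat_lit 383862) (.leaf (nat_lit 1080)) (.leaf (nat_lit 2160))))))) (.node (nat_lit 387490) (.node (nat_lit 386952) (.node (nat_lit 386613) (.node (nat_lit 386555) (.leaf (nat_lit 1080)) (.leaf (nat_lit 2160))) (.node (nat_lit 386795) (.leaf (nat_lit 1200)) (.node (nat_lit 386853) (.leaf (nat_lit 2160)) (.leaf (nat_lit 1200))))) (.node (nat_lit 387305) (.node (nat_lit 387010) (.leaf (nat_lit 2160)) (.leaf (nat_lit 1200))) (.node (nat_lit 387343) (.leaf (nat_lit 2160)) (.node (nat_lit 387432) (.leaf (nat_lit 1080)) (.leaf (nat_lit 2160)))))) (.node (nat_lit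 387942) (.node (nat_lit 387535) (.node (nat_lit 387492) (.leaf (nat_lit 0)) (.leaf (nat_lit 2160))) (.node (nat_lit 387583) (.leaf (nat_lit 1200)) (.node (nat_lit 387745) (.leaf (nat_lit 1080)) (.leaf (nat_lit 1200))))) (.node (nat_lit 391032) (.node (nat_lit 387995) (.leaf (nat_lit 2160)) (.leaf (nat_lit 1080))) (.node (nat_lit 391090) (.leaf (nat_lit 2160)) (.node (nat_lit 391120) (.leaf (nat_lit 0)) (.leaf (nat_lit 1260))))))))))) (.node (nat_lit 461847) (.node (nat_lit 425996) (.node (nat_lit 412843) (.node (nat_lit 400099) (.node (nat_lit 393590) (.node (nat_lit 391438) (.node (nat_lit 391332) (.node (nat_lit 391330) (.leaf (nat_lit 2160)) (.leaf (nat_lit 1))) (.node (nat_lit 391375) (.leaf (nat_lit 2160)) (.leaf (nat_lit 1236)))) (.node (nat_lit 391933) (.node (nat_lit 391840) (.leaf (nat_lit 1080)) (.leaf (nat_lit 1230))) (.node (nat_lit 392037) (.leaf (nat_lit 1080)) (.node (nat_lit 393575) (.leaf (nat_lit 2160)) (.leaf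 (nat_lit 0)))))) (.node (nat_lit 395695) (.node (nat_lit 395675) (.node (nat_lit 395185) (.leaf (nat_lit 1080)) (.leaf (nat_lit 120))) (.node (nat_lit 395680) (.leaf (nat_lit 1080)) (.node (nat_lit 395690) (.leaf (nat_lit 120)) (.leaf (nat_lit 1080))))) (.node (nat_lit 396395) (.node (nat_lit 395779) (.leaf (nat_lit 120)) (.leaf (nat_lit 2160))) (.node (nat_lit 399222) (.leaf (nat_lit 1080)) (.node (nat_lit 399755) (.leaf (nat_lit 2160)) (.leaf (nat_lit 1080))))))) (.node (nat_lit 404449) (.node (nat_lit 403850) (.node (nat_lit 400354) (.node (nat_lit 400235) (.leaf (nat_lit 2160)) (.leaf (nat_lit 1080))) (.node (nat_lit 400407) (.leaf (nat_lit 2160)) (.node (nat_lit 403699) (.leaf (nat_lit 1080)) (.leaf (nat_lit 2160))))) (.node (nat_lit 404247) (.node (nat_lit 403939) (.leaf (nat_lit 1080)) (.leaf (nat_lit 2160))) (.node (nat_lit 404271) (.leaf (nat_lit 1080)) (.node (nat_lit 404330) (.leaf (nat_lit 2160)) (.leaf (nat_lit 1080))))))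 (.node (nat_lit 412407) (.node (nat_lit 404766) (.node (nat_lit 404585) (.leaf (nat_lit 2160)) (.leaf (nat_lit 1080))) (.node (nat_lit 404967) (.leaf (nat_lit 2160)) (.node (nat_lit 407794) (.leaf (nat_lit 1080)) (.leaf (nat_lit 2160))))) (.node (nat_lit 412452) (.node (nat_lit 412431) (.leaf (nat_lit 1080)) (.leaf (nat_lit 2160))) (.node (nat_lit 412476) (.leaf (nat_lit 1080)) (.node (nat_lit 412647) (.leaf (nat_lit 2160)) (.leaf (nat_lit 1080)))))))) (.node (nat_lit 416899) (.node (nat_lit 413809) (.node (nat_lit 413299) (.node (nat_lit 413083) (.node (nat_lit 413059) (.leaf (nat_lit 2160)) (.leaf (nat_lit 360))) (.node (nat_lit 413089) (.leaf (nat_lit 2160)) (.node (nat_lit 413113) (.leaf (nat_lit 360)) (.leaf (nat_lit 2160))))) (.node (nat_lit 413344) (.node (nat_lit 413338) (.leaf (nat_lit 360)) (.leaf (nat_lit 2160))) (.node (nat_lit 413353) (.leaf (nat_lit 360)) (.node (nat_lit 413412) (.leaf (nat_lit 2160)) (.leaf (nat_lit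 1080)))))) (.node (nat_lit 416556) (.node (nat_lit 416502) (.node (nat_lit 416286) (.leaf (nat_lit 360)) (.leaf (nat_lit 2160))) (.node (nat_lit 416526) (.leaf (nat_lit 1080)) (.node (nat_lit 416532) (.leaf (nat_lit 2160)) (.leaf (nat_lit 1080))))) (.node (nat_lit 416781) (.node (nat_lit 416742) (.leaf (nat_lit 2160)) (.leaf (nat_lit 1080))) (.node (nat_lit 416787) (.leaf (nat_lit 2160)) (.node (nat_lit 416796) (.leaf (nat_lit 1080)) (.leaf (nat_lit 2160))))))) (.node (nat_lit 421303) (.node (nat_lit 419771) (.node (nat_lit 417379) (.node (nat_lit 417252) (.leaf (nat_lit 360)) (.leaf (nat_lit 1080))) (.node (nat_lit 418399) (.leaf (nat_lit 360)) (.node (nat_lit 419674) (.leaf (nat_lit 1080)) (.leaf (nat_lit 0))))) (.node (nat_lit 420979) (.node (nat_lit 420523) (.leaf (nat_lit 1080)) (.leaf (nat_lit 2160))) (.node (nat_lit 421243) (.leaf (nat_lit 360)) (.node (nat_lit 421279) (.leaf (nat_lit 2160)) (.leaf (nat_lit 360)))))) (.node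 (nat_lit 425735) (.node (nat_lit 422479) (.node (nat_lit 421984) (.leaf (nat_lit 2160)) (.leaf (nat_lit 360))) (.node (nat_lit 424603) (.leaf (nat_lit 1080)) (.node (nat_lit 425726) (.leaf (nat_lit 2160)) (.leaf (nat_lit 360))))) (.node (nat_lit 425780) (.node (nat_lit 425741) (.leaf (nat_lit 2160)) (.leaf (nat_lit 360))) (.node (nat_lit 425966) (.leaf (nat_lit 2160)) (.node (nat_lit 425990) (.leaf (nat_lit 360)) (.leaf (nat_lit 2160))))))))) (.node (nat_lit 440451) (.node (nat_lit 430301) (.node (nat_lit 429409) (.node (nat_lit 428698) (.node (nat_lit 426221) (.node (nat_lit 426020) (.leaf (nat_lit 360)) (.leaf (nat_lit 2160))) (.node (nat_lit 426574) (.leaf (nat_lit 360)) (.leaf (nat_lit 1080)))) (.node (nat_lit 429178) (.node (nat_lit 429169) (.leaf (nat_lit 2160)) (.leaf (nat_lit 360))) (.node (nat_lit 429184) (.leaf (nat_lit 2160)) (.node (nat_lit 429223) (.leaf (nat_lit 360)) (.leaf (nat_lit 2160)))))) (.node (nat_lit 429815)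 (.node (nat_lit 429439) (.node (nat_lit 429433) (.leaf (nat_lit 360)) (.leaf (nat_lit 2160))) (.node (nat_lit 429463) (.leaf (nat_lit 360)) (.node (nat_lit 429566) (.leaf (nat_lit 2160)) (.leaf (nat_lit 360))))) (.node (nat_lit 430070) (.node (nat_lit 430046) (.leaf (nat_lit 2160)) (.leaf (nat_lit 360))) (.node (nat_lit 430091) (.leaf (nat_lit 2160)) (.node (nat_lit 430115) (.leaf (nat_lit 360)) (.leaf (nat_lit 2160))))))) (.node (nat_lit 437981) (.node (nat_lit 433646) (.node (nat_lit 432291) (.node (nat_lit 431943) (.leaf (nat_lit 360)) (.leaf (nat_lit 1200))) (.node (nat_lit 432693) (.leaf (nat_lit 1080)) (.node (nat_lit 432786) (.leaf (nat_lit 1200)) (.leaf (nat_lit 1080))))) (.node (nat_lit 437255) (.node (nat_lit 435131) (.leaf (nat_lit 360)) (.leaf (nat_lit 1080))) (.node (nat_lit 437741) (.leaf (nat_lit 2160)) (.node (nat_lit 437907) (.leaf (nat_lit 360)) (.leaf (nat_lit 2160)))))) (.node (nat_lit 439623) (.node (nat_lit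 438236) (.node (nat_lit 438147) (.leaf (nat_lit 360)) (.leaf (nat_lit 2160))) (.node (nat_lit 438260) (.leaf (nat_lit 360)) (.node (nat_lit 439226) (.leaf (nat_lit 2160)) (.leaf (nat_lit 1080))))) (.node (nat_lit 439766) (.node (nat_lit 439706) (.leaf (nat_lit 1200)) (.leaf (nat_lit 1080))) (.node (nat_lit 440211) (.leaf (nat_lit 0)) (.node (nat_lit 440343) (.leaf (nat_lit 1080)) (.leaf (nat_lit 1200)))))))) (.node (nat_lit 456370) (.node (nat_lit 444948) (.node (nat_lit 444306) (.node (nat_lit 440961) (.node (nat_lit 440853) (.leaf (nat_lit 1080)) (.leaf (nat_lit 1200))) (.node (nat_lit 441350) (.leaf (nat_lit 1080)) (.node (nat_lit 443703) (.leaf (nat_lit 2160)) (.leaf (nat_lit 120))))) (.node (nat_lit 444625) (.node (nat_lit 444610) (.leaf (nat_lit 1080)) (.leaf (nat_lit 1200))) (.node (nat_lit 444801) (.leaf (nat_lit 0)) (.node (nat_lit 444850) (.leaf (nat_lit 1080)) (.leaf (nat_lit 1200)))))) (.node (nat_lit 451175) (.node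 (nat_lit 445827) (.node (nat_lit 445105) (.leaf (nat_lit 120)) (.leaf (nat_lit 1200))) (.node (nat_lit 449435) (.leaf (nat_lit 2160)) (.node (nat_lit 450574) (.leaf (nat_lit 1080)) (.leaf (nat_lit 2160))))) (.node (nat_lit 453070) (.node (nat_lit 451893) (.leaf (nat_lit 1080)) (.leaf (nat_lit 1200))) (.node (nat_lit 453265) (.leaf (nat_lit 0)) (.node (nat_lit 454017) (.leaf (nat_lit 1200)) (.leaf (nat_lit 2160))))))) (.node (nat_lit 459244) (.node (nat_lit 457360) (.node (nat_lit 456850) (.node (nat_lit 456400) (.leaf (nat_lit 1260)) (.leaf (nat_lit 0))) (.node (nat_lit 456910) (.leaf (nat_lit 1236)) (.node (nat_lit 457139) (.leaf (nat_lit 1086)) (.leaf (nat_lit 2160))))) (.node (nat_lit 457390) (.node (nat_lit 457379) (.leaf (nat_lit 1230)) (.leaf (nat_lit 2160))) (.node (nat_lit 457409) (.leaf (nat_lit 1230)) (.node (nat_lit 458855) (.leaf (nat_lit 2160)) (.leaf (nat_lit 1080)))))) (.node (nat_lit 460979) (.node (nat_lit 459635)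 (.node (nat_lit 459575) (.leaf (nat_lit 2160)) (.leaf (nat_lit 0))) (.node (nat_lit 460465) (.leaf (nat_lit 1080)) (.node (nat_lit 460955) (.leaf (nat_lit 120)) (.leaf (nat_lit 1080))))) (.node (nat_lit 460994) (.node (nat_lit 460990) (.leaf (nat_lit 2160)) (.leaf (nat_lit 120))) (.node (nat_lit 461200) (.leaf (nat_lit 2160)) (.node (nat_lit 461459) (.leaf (nat_lit 120)) (.leaf (nat_lit 2160)))))))))) (.node (nat_lit 497703) (.node (nat_lit 486814) (.node (nat_lit 474283) (.node (nat_lit 465089) (.node (nat_lit 462935) (.node (nat_lit 462612) (.node (nat_lit 462589) (.leaf (nat_lit 1080)) (.leaf (nat_lit 2160))) (.node (nat_lit 462829) (.leaf (nat_lit 1080)) (.leaf (nat_lit 2160)))) (.node (nat_lit 463415) (.node (nat_lit 463084) (.leaf (nat_lit 1080)) (.leaf (nat_lit 2160))) (.node (nat_lit 465059) (.leaf (nat_lit 1080)) (.node (nat_lit 465065) (.leaf (nat_lit 2160)) (.leaf (nat_lit 1080)))))) (.node (nat_lit 469527) (.node (nat_lit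 465809) (.node (nat_lit 465755) (.leaf (nat_lit 2160)) (.leaf (nat_lit 1080))) (.node (nat_lit 465830) (.leaf (nat_lit 2160)) (.node (nat_lit 469154) (.leaf (nat_lit 1080)) (.leaf (nat_lit 2160))))) (.node (nat_lit 469850) (.node (nat_lit 469649) (.leaf (nat_lit 1080)) (.leaf (nat_lit 2160))) (.node (nat_lit 472302) (.leaf (nat_lit 1080)) (.node (nat_lit 472482) (.leaf (nat_lit 0)) (.leaf (nat_lit 1080))))))) (.node (nat_lit 475347) (.node (nat_lit 474739) (.node (nat_lit 474523) (.node (nat_lit 474499) (.leaf (nat_lit 2160)) (.leaf (nat_lit 360))) (.node (nat_lit 474529) (.leaf (nat_lit 2160)) (.node (nat_lit 474553) (.leaf (nat_lit 360)) (.leaf (nat_lit 2160))))) (.node (nat_lit 474784) (.node (nat_lit 474778) (.leaf (nat_lit 360)) (.leaf (nat_lit 2160))) (.node (nat_lit 474793) (.leaf (nat_lit 360)) (.node (nat_lit 475249) (.leaf (nat_lit 2160)) (.leaf (nat_lit 360)))))) (.node (nat_lit 485803) (.node (nat_lit 482262) (.node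 (nat_lit 482179) (.leaf (nat_lit 1080)) (.leaf (nat_lit 360))) (.node (nat_lit 482899) (.leaf (nat_lit 1080)) (.node (nat_lit 484571) (.leaf (nat_lit 360)) (.leaf (nat_lit 1080))))) (.node (nat_lit 486695) (.node (nat_lit 486259) (.leaf (nat_lit 2160)) (.leaf (nat_lit 360))) (.node (nat_lit 486739) (.leaf (nat_lit 2160)) (.node (nat_lit 486763) (.leaf (nat_lit 360)) (.leaf (nat_lit 2160)))))))) (.node (nat_lit 493748) (.node (nat_lit 487504) (.node (nat_lit 487220) (.node (nat_lit 487166) (.node (nat_lit 486838) (.leaf (nat_lit 360)) (.leaf (nat_lit 2160))) (.node (nat_lit 487175) (.leaf (nat_lit 360)) (.node (nat_lit 487181) (.leaf (nat_lit 2160)) (.leaf (nat_lit 360))))) (.node (nat_lit 487430) (.node (nat_lit 487406) (.leaf (nat_lit 2160)) (.leaf (nat_lit 360))) (.node (nat_lit 487436) (.leaf (nat_lit 2160)) (.node (nat_lit 487460) (.leaf (nat_lit 360)) (.leaf (nat_lit 2160)))))) (.node (nat_lit 489626) (.node (nat_lit 489383)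 (.node (nat_lit 488411) (.leaf (nat_lit 360)) (.leaf (nat_lit 1080))) (.node (nat_lit 489446) (.leaf (nat_lit 2160)) (.node (nat_lit 489623) (.leaf (nat_lit 1080)) (.leaf (nat_lit 2160))))) (.node (nat_lit 489686) (.node (nat_lit 489653) (.leaf (nat_lit 1080)) (.leaf (nat_lit 2160))) (.node (nat_lit 489878) (.leaf (nat_lit 1080)) (.node (nat_lit 493731) (.leaf (nat_lit 2160)) (.leaf (nat_lit 1080))))))) (.node (nat_lit 494998) (.node (nat_lit 494449) (.node (nat_lit 493978) (.node (nat_lit 493971) (.leaf (nat_lit 2160)) (.leaf (nat_lit 1080))) (.node (nat_lit 494001) (.leaf (nat_lit 2160)) (.node (nat_lit 494375) (.leaf (nat_lit 1080)) (.leaf (nat_lit 2160))))) (.node (nat_lit 494846) (.node (nat_lit 494698) (.leaf (nat_lit 360)) (.leaf (nat_lit 2160))) (.node (nat_lit 494953) (.leaf (nat_lit 360)) (.node (nat_lit 494974) (.leaf (nat_lit 2160)) (.leaf (nat_lit 360)))))) (.node (nat_lit 495626) (.node (nat_lit 495335) (.node (nat_lit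 495184) (.leaf (nat_lit 2160)) (.leaf (nat_lit 360))) (.node (nat_lit 495566) (.leaf (nat_lit 2160)) (.node (nat_lit 495590) (.leaf (nat_lit 360)) (.leaf (nat_lit 2160))))) (.node (nat_lit 495821) (.node (nat_lit 495650) (.leaf (nat_lit 360)) (.leaf (nat_lit 2160))) (.node (nat_lit 497223) (.leaf (nat_lit 360)) (.node (nat_lit 497303) (.leaf (nat_lit 1200)) (.leaf (nat_lit 2160))))))))) (.node (nat_lit 505766) (.node (nat_lit 501893) (.node (nat_lit 499916) (.node (nat_lit 498450) (.node (nat_lit 498213) (.node (nat_lit 497955) (.leaf (nat_lit 1200)) (.leaf (nat_lit 2160))) (.node (nat_lit 498225) (.leaf (nat_lit 1200)) (.node (nat_lit 498243) (.leaf (nat_lit 2160)) (.leaf (nat_lit 1200))))) (.node (nat_lit 499347) (.node (nat_lit 498926) (.leaf (nat_lit 2160)) (.leaf (nat_lit 360))) (.node (nat_lit 499406) (.leaf (nat_lit 2160)) (.node (nat_lit 499587) (.leaf (nat_lit 360)) (.leaf (nat_lit 2160)))))) (.node (nat_lit 501411) (.node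 (nat_lit 500651) (.node (nat_lit 500097) (.leaf (nat_lit 360)) (.leaf (nat_lit 2160))) (.node (nat_lit 501063) (.leaf (nat_lit 1080)) (.node (nat_lit 501398) (.leaf (nat_lit 1200)) (.leaf (nat_lit 2160))))) (.node (nat_lit 501426) (.node (nat_lit 501413) (.leaf (nat_lit 1080)) (.leaf (nat_lit 2160))) (.node (nat_lit 501638) (.leaf (nat_lit 1080)) (.node (nat_lit 501783) (.leaf (nat_lit 2160)) (.leaf (nat_lit 1200))))))) (.node (nat_lit 503015) (.node (nat_lit 502386) (.node (nat_lit 502293) (.node (nat_lit 501911) (.leaf (nat_lit 2160)) (.leaf (nat_lit 1080))) (.node (nat_lit 502303) (.leaf (nat_lit 1200)) (.node (nat_lit 502338) (.leaf (nat_lit 1080)) (.leaf (nat_lit 1200))))) (.node (nat_lit 502543) (.node (nat_lit 502535) (.leaf (nat_lit 1080)) (.leaf (nat_lit 2160))) (.node (nat_lit 502580) (.leaf (nat_lit 1080)) (.node (nat_lit 502798) (.leaf (nat_lit 2160)) (.leaf (nat_lit 1080)))))) (.node (nat_lit 503786) (.node (nat_lit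 503090) (.node (nat_lit 503021) (.leaf (nat_lit 2160)) (.leaf (nat_lit 360))) (.node (nat_lit 503501) (.leaf (nat_lit 2160)) (.node (nat_lit 503780) (.leaf (nat_lit 360)) (.leaf (nat_lit 2160))))) (.node (nat_lit 504746) (.node (nat_lit 503810) (.leaf (nat_lit 360)) (.leaf (nat_lit 2160))) (.node (nat_lit 505635) (.leaf (nat_lit 1080)) (.node (nat_lit 505751) (.leaf (nat_lit 2160)) (.leaf (nat_lit 1080)))))))) (.node (nat_lit 513730) (.node (nat_lit 510195) (.node (nat_lit 509223) (.node (nat_lit 506355) (.node (nat_lit 505971) (.leaf (nat_lit 0)) (.leaf (nat_lit 1080))) (.node (nat_lit 506481) (.leaf (nat_lit 2160)) (.node (nat_lit 506610) (.leaf (nat_lit 1080)) (.leaf (nat_lit 2160))))) (.node (nat_lit 509715) (.node (nat_lit 509586) (.leaf (nat_lit 120)) (.leaf (nat_lit 1080))) (.node (nat_lit 509890) (.leaf (nat_lit 2160)) (.node (nat_lit 510066) (.leaf (nat_lit 1200)) (.leaf (nat_lit 1080)))))) (.node (nat_lit 510415) (.node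 (nat_lit 510367) (.node (nat_lit 510321) (.leaf (nat_lit 2160)) (.leaf (nat_lit 1080))) (.node (nat_lit 510370) (.leaf (nat_lit 2160)) (.node (nat_lit 510382) (.leaf (nat_lit 1200)) (.leaf (nat_lit 2160))))) (.node (nat_lit 510625) (.node (nat_lit 510483) (.leaf (nat_lit 1200)) (.leaf (nat_lit 120))) (.node (nat_lit 510655) (.leaf (nat_lit 0)) (.node (nat_lit 510705) (.leaf (nat_lit 1200)) (.leaf (nat_lit 2160))))))) (.node (nat_lit 514705) (.node (nat_lit 514207) (.node (nat_lit 513823) (.node (nat_lit 513810) (.leaf (nat_lit 1200)) (.leaf (nat_lit 2160))) (.node (nat_lit 513825) (.leaf (nat_lit 1080)) (.node (nat_lit 513838) (.leaf (nat_lit 2160)) (.leaf (nat_lit 1080))))) (.node (nat_lit 514471) (.node (nat_lit 514450) (.leaf (nat_lit 2160)) (.leaf (nat_lit 1200))) (.node (nat_lit 514510) (.leaf (nat_lit 2160)) (.node (nat_lit 514545) (.leaf (nat_lit 1200)) (.leaf (nat_lit 2160)))))) (.node (nat_lit 515038) (.node (nat_lit 514750)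 (.node (nat_lit 514726) (.leaf (nat_lit 1200)) (.leaf (nat_lit 2160))) (.node (nat_lit 514783) (.leaf (nat_lit 0)) (.node (nat_lit 514927) (.leaf (nat_lit 1080)) (.leaf (nat_lit 2160))))) (.node (nat_lit 516455) (.node (nat_lit 515182) (.leaf (nat_lit 1080)) (.leaf (nat_lit 2160))) (.node (nat_lit 517413) (.leaf (nat_lit 1080)) (.node (nat_lit 517903) (.leaf (nat_lit 1200)) (.leaf (nat_lit 1080)))))))))))))
noncomputable def YN_soc_F : Fm := (.all YN_L (.or (.qf (.eq (.v (nat_lit 0)) .one)) (.exF YN_L (fun cs => YN_soc_t1.find (Nat.mod (nth (nat_lit 0) cs (nat_lit 0)) (nat_lit 517954))) (.exF YN_L (fun cs => YN_soc_t0.find (Nat.mod (Nat.add (nth (nat_lit 0) cs (nat_lit 0)) (Nat.mul (nat_lit 7919) (nth (nat_lit 0) cs (nat_lit 1)))) (nat_lit 0x1aad5d))) (.qf (.or (.eq (.mul (.mul (.v (nat_lit 0)) (.v (nat_lit 2))) (.inv (.v (nat_lit 0)))) (.mul (.v (nat_lit 3)) (.v (nat_lit 4)))) (.or (.eq (.mul (.mul (.v (nat_lit 0)) (.v (nat_lit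 2))) (.inv (.v (nat_lit 0)))) (.v (nat_lit 12))) (.or (.eq (.mul (.mul (.v (nat_lit 0)) (.mul (.mul (.mul (.v (nat_lit 2)) (.v (nat_lit 1))) (.inv (.v (nat_lit 2)))) (.inv (.v (nat_lit 1))))) (.inv (.v (nat_lit 0)))) (.mul (.v (nat_lit 3)) (.v (nat_lit 4)))) (.or (.eq (.mul (.mul (.v (nat_lit 0)) (.mul (.mul (.mul (.v (nat_lit 2)) (.v (nat_lit 1))) (.inv (.v (nat_lit 2)))) (.inv (.v (nat_lit 1))))) (.inv (.v (nat_lit 0)))) (.v (nat_lit 12))) (.or (.eq (.mul (.mul (.mul (.mul (.mul (.mul (.v (nat_lit 2)) (.v (nat_lit 1))) (.inv (.v (nat_lit 2)))) (.inv (.v (nat_lit 1)))) (.v (nat_lit 0))) (.inv (.mul (.mul (.mul (.v (nat_lit 2)) (.v (nat_lit 1))) (.inv (.v (nat_lit 2)))) (.inv (.v (nat_lit 1)))))) (.inv (.v (nat_lit 0)))) (.mul (.v (nat_lit 3)) (.v (nat_lit 4)))) (.eq (.mul (.mul (.mul (.mul (.mul (.mul (.v (nat_lit 2)) (.v (nat_lit 1))) (.inv (.v (nat_lit 2)))) (.inv (.v (nat_lit 1)))) (.v (nat_lit 0))) (.inv (.mul (.mul (.mul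 (.v (nat_lit 2)) (.v (nat_lit 1))) (.inv (.v (nat_lit 2)))) (.inv (.v (nat_lit 1)))))) (.inv (.v (nat_lit 0)))) (.v (nat_lit 12)))))))))))))
theorem YN_soc_chk : Fm.chk YN_o YN_soc_F YN_cs = true := by decide +kernel
theorem YN_soc {G : Type*} [Group G] {R : ℕ → G → Prop} {p o t a a_i b b_i w r e e_i : G} {H : Subgroup G}
    (M : Mdl YN_o YN_cs YN_L R [p, o, t, a, a_i, b, b_i, w, r, e, e_i] H) :
    ∀ y_ ∈ H, y_ = 1 ∨ (∃ q_ ∈ H, ∃ k_ ∈ H, k_ * y_ * k_⁻¹ = p * o ∨ k_ * y_ * k_⁻¹ = e ∨ k_ * ⁅y_, q_⁆ * k_⁻¹ = p * o ∨ k_ * ⁅y_, q_⁆ * k_⁻¹ = e ∨ ⁅⁅y_, q_⁆, k_⁆ = p * o ∨ ⁅⁅y_, q_⁆, k_⁆ = e) :=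
  have h : ∀ y_, InL YN_o R YN_L y_ → y_ = 1 ∨ (Good YN_o R YN_L → prods YN_o YN_L YN_o.one ≠ [] → ∃ q_, InL YN_o R YN_L q_ ∧ (Good YN_o R YN_L → prods YN_o YN_L YN_o.one ≠ [] → ∃ k_, InL YN_o R YN_L k_ ∧ (k_ * y_ * k_⁻¹ = p * o ∨ k_ * y_ * k_⁻¹ = e ∨ k_ * ⁅y_, q_⁆ * k_⁻¹ = p * o ∨ k_ * ⁅y_, q_⁆ * k_⁻¹ = e ∨ ⁅⁅y_, q_⁆, k_⁆ = p * o ∨ ⁅⁅y_, q_⁆, k_⁆ = e))) :=
    Fm.sound M.μ YN_soc_F YN_soc_chk M.reps
  (fun y_ h0 => (Or.imp (fun h1 => h1) (fun h1 => (Exists.imp (fun q_ h2 => ⟨M.H.iff.1 h2.1, (Exists.imp (fun k_ h3 => ⟨M.H.iff.1 h3.1, h3.2⟩) (h2.2 M.H.good M.H.ne))⟩) (h1 M.H.good M.H.ne))) (h y_ (M.H.iff.2 h0))))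
theorem YN_mdl {G : Type*} [Group G] {p o t a b w r e : G}
    (h : S6r a b p o t w)
    (k : NE6 a p t w e r)
    (n1 : p * o ≠ 1) (n2 : e ≠ 1) :
    ∃ R, Mdl YN_o YN_cs YN_L R [p, o, t, a, a⁻¹, b, b⁻¹, w, r, e, e⁻¹] (sp [p, o, t, a, a⁻¹, b, b⁻¹, w, r, e, e⁻¹]) ∧ #(sp [p, o, t, a, a⁻¹, b, b⁻¹, w, r, e, e⁻¹]) = 4320 :=
  mdl_of YN_P rfl (YN_r h k) (.mul (.v (nat_lit 0)) (.v (nat_lit 1))) (.v (nat_lit 9)) n1 n2
    fun _ ms _ M hl => match ms, M, (hl : ms.length = 11) with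
      | [_, _, _, _, _, _, _, _, _, _, _], M, _ => YN_soc M
noncomputable def YM_cs : List ℕ := [(nat_lit 0x876543120), (nat_lit 0x876453210), (nat_lit 0x876210543), (nat_lit 0x876543021), (nat_lit 0x876543102), (nat_lit 0x876354210), (nat_lit 0x876435210), (nat_lit 0x876540213), (nat_lit 0x786543210), (nat_lit 0x687543210), (nat_lit 0x768543210), (nat_lit 0x876453120), (nat_lit 0x786453120), (nat_lit 0x786120453), (nat_lit 0x687354021), (nat_lit 0x876435021), (nat_lit 0x876513240), (nat_lit 0x876243510)]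
theorem YM_ext {G : Type*} [Group G] {R : ℕ → G → Prop} {p o t a b w r e : G} {H : Subgroup G}
    (M : Mdl YN_o YN_cs YN_L R [p, o, t, a, a⁻¹, b, b⁻¹, w, r, e, e⁻¹] H) :
    Mdl YN_o YM_cs YN_L R [p, o, t, a, a⁻¹, b, b⁻¹, w, r, e, e⁻¹, p * o, p * o * r, t * (p * o * r), a * b * e, a * b⁻¹, a * b * w * (a * b)⁻¹, (a * b)⁻¹ * w * (a * b)] H :=
  ⟨M.μ, M.reps.tms M.μ.1 [(.v (nat_lit 0)), (.v (nat_lit 1)), (.v (nat_lit 2)), (.v (nat_lit 3)), (.v (nat_lit 4)), (.v (nat_lit 5)), (.v (nat_lit 6)), (.v (nat_lit 7)), (.v (nat_lit 8)), (.v (nat_lit 9)), (.v (nat_lit 10)), (.mul (.v (nat_lit 0)) (.v (nat_lit 1))), (.mul (.mul (.v (nat_lit 0)) (.v (nat_lit 1))) (.v (nat_lit 8))), (.mul (.v (nat_lit 2)) (.mul (.mul (.v (nat_lit 0)) (.v (nat_lit 1))) (.v (nat_lit 8)))), (.mul (.mul (.v (nat_lit 3)) (.v (nat_lit 5))) (.v (nat_lit 9))), (.mul (.v (nat_lit 3)) (.inv (.v (nat_lit 5)))), (.mul (.mul (.mul (.v (nat_lit 3)) (.v (nat_lit 5))) (.v (nat_lit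 7))) (.inv (.mul (.v (nat_lit 3)) (.v (nat_lit 5))))), (.mul (.mul (.inv (.mul (.v (nat_lit 3)) (.v (nat_lit 5)))) (.v (nat_lit 7))) (.mul (.v (nat_lit 3)) (.v (nat_lit 5))))] (cs' := YM_cs) (by decide +kernel),
    tms_mem M.le [(.v (nat_lit 0)), (.v (nat_lit 1)), (.v (nat_lit 2)), (.v (nat_lit 3)), (.v (nat_lit 4)), (.v (nat_lit 5)), (.v (nat_lit 6)), (.v (nat_lit 7)), (.v (nat_lit 8)), (.v (nat_lit 9)), (.v (nat_lit 10)), (.mul (.v (nat_lit 0)) (.v (nat_lit 1))), (.mul (.mul (.v (nat_lit 0)) (.v (nat_lit 1))) (.v (nat_lit 8))), (.mul (.v (nat_lit 2)) (.mul (.mul (.v (nat_lit 0)) (.v (nat_lit 1))) (.v (nat_lit 8)))), (.mul (.mul (.v (nat_lit 3)) (.v (nat_lit 5))) (.v (nat_lit 9))), (.mul (.v (nat_lit 3)) (.inv (.v (nat_lit 5)))), (.mul (.mul (.mul (.v (nat_lit 3)) (.v (nat_lit 5))) (.v (nat_lit 7))) (.inv (.mul (.v (nat_lit 3)) (.v (nat_lit 5))))), (.mul (.mul (.inv (.mul (.v (nat_lit 3)) (.v (nat_lit 5)))) (.v (nat_lit 7)))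 (.mul (.v (nat_lit 3)) (.v (nat_lit 5))))], M.H⟩
noncomputable def YM_lE : List ℕ := [(nat_lit 0x876543210), (nat_lit 0x687543210), (nat_lit 0x768543210)]
noncomputable def YM_lE_W : List (List ℕ) := [[],
  [(nat_lit 0)],
  [(nat_lit 0), (nat_lit 0)]]
noncomputable def YM_lE_h (c : ℕ) : ℕ := Nat.mod c (nat_lit 7)
theorem YM_lE_E {G : Type*} [Group G] {R : ℕ → G → Prop} {p o t a b w r e c n s z y u v : G} {H : Subgroup G}
    (M : Mdl YN_o YM_cs YN_L R [p, o, t, a, a⁻¹, b, b⁻¹, w, r, e, e⁻¹, c, n, s, z, y, u, v] H) :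
    EnumS R YM_lE (sp [e]) :=
  enumS_sp M.μ.1 (M.reps.tms M.μ.1 [(.v (nat_lit 9))] (cs' := [(nat_lit 0x687543210)]) (by decide +kernel))
    (Ws := YM_lE_W) (by decide +kernel) (by decide +kernel)
theorem YM_lE_c {G : Type*} [Group G] {R : ℕ → G → Prop} {p o t a b w r e c n s z y u v : G} {H : Subgroup G}
    (M : Mdl YN_o YM_cs YN_L R [p, o, t, a, a⁻¹, b, b⁻¹, w, r, e, e⁻¹, c, n, s, z, y, u, v] H) :
    #(sp [e]) = 3 :=
  (YM_lE_E M).card M.μ (h := YM_lE_h) (by decide +kernel)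
noncomputable def YM_lV : List ℕ := [(nat_lit 0x876543210), (nat_lit 0x876540213), (nat_lit 0x876513240), (nat_lit 0x876243510), (nat_lit 0x876510243), (nat_lit 0x876240513), (nat_lit 0x876213540), (nat_lit 0x876210543)]
noncomputable def YM_lV_W : List (List ℕ) := [[],
  [(nat_lit 0)],
  [(nat_lit 1)],
  [(nat_lit 2)],
  [(nat_lit 0), (nat_lit 1)],
  [(nat_lit 0), (nat_lit 2)],
  [(nat_lit 1), (nat_lit 2)],
  [(nat_lit 0), (nat_lit 1), (nat_lit 2)]]
noncomputable def YM_lV_h (c : ℕ) : ℕ := Nat.mod c (nat_lit 11)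
theorem YM_lV_E {G : Type*} [Group G] {R : ℕ → G → Prop} {p o t a b w r e c n s z y u v : G} {H : Subgroup G}
    (M : Mdl YN_o YM_cs YN_L R [p, o, t, a, a⁻¹, b, b⁻¹, w, r, e, e⁻¹, c, n, s, z, y, u, v] H) :
    EnumS R YM_lV (sp [w, u, v]) :=
  enumS_sp M.μ.1 (M.reps.tms M.μ.1 [(.v (nat_lit 7)), (.v (nat_lit 16)), (.v (nat_lit 17))] (cs' := [(nat_lit 0x876540213), (nat_lit 0x876513240), (nat_lit 0x876243510)]) (by decide +kernel))
    (Ws := YM_lV_W) (by decide +kernel) (by decide +kernel)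
theorem YM_lV_c {G : Type*} [Group G] {R : ℕ → G → Prop} {p o t a b w r e c n s z y u v : G} {H : Subgroup G}
    (M : Mdl YN_o YM_cs YN_L R [p, o, t, a, a⁻¹, b, b⁻¹, w, r, e, e⁻¹, c, n, s, z, y, u, v] H) :
    #(sp [w, u, v]) = 8 :=
  (YM_lV_E M).card M.μ (h := YM_lV_h) (by decide +kernel)
noncomputable def YM_lW : List ℕ := [(nat_lit 0x876543210), (nat_lit 0x876540213), (nat_lit 0x876513240), (nat_lit 0x876243510), (nat_lit 0x687543210), (nat_lit 0x876510243), (nat_lit 0x876240513), (nat_lit 0x687540213), (nat_lit 0x876213540), (nat_lit 0x687513240), (nat_lit 0x687243510), (nat_lit 0x768543210), (nat_lit 0x876210543), (nat_lit 0x687510243), (nat_lit 0x687240513), (nat_lit 0x768540213), (nat_lit 0x687213540), (nat_lit 0x768513240), (nat_lit 0x768243510), (nat_lit 0x687210543), (nat_lit 0x768510243), (nat_lit 0x768240513), (nat_lit 0x768213540), (nat_lit 0x768210543)]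
noncomputable def YM_lW_W : List (List ℕ) := [[],
  [(nat_lit 0)],
  [(nat_lit 1)],
  [(nat_lit 2)],
  [(nat_lit 3)],
  [(nat_lit 0), (nat_lit 1)],
  [(nat_lit 0), (nat_lit 2)],
  [(nat_lit 0), (nat_lit 3)],
  [(nat_lit 1), (nat_lit 2)],
  [(nat_lit 1), (nat_lit 3)],
  [(nat_lit 2), (nat_lit 3)],
  [(nat_lit 3), (nat_lit 3)],
  [(nat_lit 0), (nat_lit 1), (nat_lit 2)],
  [(nat_lit 0), (nat_lit 1), (nat_lit 3)],
  [(nat_lit 0), (nat_lit 2), (nat_lit 3)],
  [(nat_lit 0), (nat_lit 3), (nat_lit 3)],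
  [(nat_lit 1), (nat_lit 2), (nat_lit 3)],
  [(nat_lit 1), (nat_lit 3), (nat_lit 3)],
  [(nat_lit 2), (nat_lit 3), (nat_lit 3)],
  [(nat_lit 0), (nat_lit 1), (nat_lit 2), (nat_lit 3)],
  [(nat_lit 0), (nat_lit 1), (nat_lit 3), (nat_lit 3)],
  [(nat_lit 0), (nat_lit 2), (nat_lit 3), (nat_lit 3)],
  [(nat_lit 1), (nat_lit 2), (nat_lit 3), (nat_lit 3)],
  [(nat_lit 0), (nat_lit 1), (nat_lit 2), (nat_lit 3), (nat_lit 3)]]
noncomputable def YM_lW_h (c : ℕ) : ℕ := Nat.mod c (nat_lit 77)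
theorem YM_lW_E {G : Type*} [Group G] {R : ℕ → G → Prop} {p o t a b w r e c n s z y u v : G} {H : Subgroup G}
    (M : Mdl YN_o YM_cs YN_L R [p, o, t, a, a⁻¹, b, b⁻¹, w, r, e, e⁻¹, c, n, s, z, y, u, v] H) :
    EnumS R YM_lW (sp [w, u, v, e]) :=
  enumS_sp M.μ.1 (M.reps.tms M.μ.1 [(.v (nat_lit 7)), (.v (nat_lit 16)), (.v (nat_lit 17)), (.v (nat_lit 9))] (cs' := [(nat_lit 0x876540213), (nat_lit 0x876513240), (nat_lit 0x876243510), (nat_lit 0x687543210)]) (by decide +kernel))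
    (Ws := YM_lW_W) (by decide +kernel) (by decide +kernel)
theorem YM_lW_c {G : Type*} [Group G] {R : ℕ → G → Prop} {p o t a b w r e c n s z y u v : G} {H : Subgroup G}
    (M : Mdl YN_o YM_cs YN_L R [p, o, t, a, a⁻¹, b, b⁻¹, w, r, e, e⁻¹, c, n, s, z, y, u, v] H) :
    #(sp [w, u, v, e]) = 24 :=
  (YM_lW_E M).card M.μ (h := YM_lW_h) (by decide +kernel)
noncomputable def YM_lP : List ℕ := [(nat_lit 0x876543210), (nat_lit 0x786543210), (nat_lit 0x876540213), (nat_lit 0x876513240), (nat_lit 0x876243510), (nat_lit 0x876453120), (nat_lit 0x786540213), (nat_lit 0x786513240), (nat_lit 0x786243510), (nat_lit 0x786453120), (nat_lit 0x876510243), (nat_lit 0x876240513), (nat_lit 0x876450123), (nat_lit 0x876213540), (nat_lit 0x876423150), (nat_lit 0x876153420), (nat_lit 0x786510243), (nat_lit 0x786240513), (nat_lit 0x786450123), (nat_lit 0x786213540), (nat_lit 0x786423150), (nat_lit 0x786153420), (nat_lit 0x876210543), (nat_lit 0x876420153),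 (nat_lit 0x876150423), (nat_lit 0x876123450), (nat_lit 0x786210543), (nat_lit 0x786420153), (nat_lit 0x786150423), (nat_lit 0x786123450), (nat_lit 0x876120453), (nat_lit 0x786120453)]
noncomputable def YM_lP_W : List (List ℕ) := [[],
  [(nat_lit 0)],
  [(nat_lit 1)],
  [(nat_lit 2)],
  [(nat_lit 3)],
  [(nat_lit 4)],
  [(nat_lit 0), (nat_lit 1)],
  [(nat_lit 0), (nat_lit 2)],
  [(nat_lit 0), (nat_lit 3)],
  [(nat_lit 0), (nat_lit 4)],
  [(nat_lit 1), (nat_lit 2)],
  [(nat_lit 1), (nat_lit 3)],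
  [(nat_lit 1), (nat_lit 4)],
  [(nat_lit 2), (nat_lit 3)],
  [(nat_lit 2), (nat_lit 4)],
  [(nat_lit 3), (nat_lit 4)],
  [(nat_lit 0), (nat_lit 1), (nat_lit 2)],
  [(nat_lit 0), (nat_lit 1), (nat_lit 3)],
  [(nat_lit 0), (nat_lit 1), (nat_lit 4)],
  [(nat_lit 0), (nat_lit 2), (nat_lit 3)],
  [(nat_lit 0), (nat_lit 2), (nat_lit 4)],
  [(nat_lit 0), (nat_lit 3), (nat_lit 4)],
  [(nat_lit 1), (nat_lit 2), (nat_lit 3)],
  [(nat_lit 1), (nat_lit 2), (nat_lit 4)],
  [(nat_lit 1), (nat_lit 3), (nat_lit 4)],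
  [(nat_lit 2), (nat_lit 3), (nat_lit 4)],
  [(nat_lit 0), (nat_lit 1), (nat_lit 2), (nat_lit 3)],
  [(nat_lit 0), (nat_lit 1), (nat_lit 2), (nat_lit 4)],
  [(nat_lit 0), (nat_lit 1), (nat_lit 3), (nat_lit 4)],
  [(nat_lit 0), (nat_lit 2), (nat_lit 3), (nat_lit 4)],
  [(nat_lit 1), (nat_lit 2), (nat_lit 3), (nat_lit 4)],
  [(nat_lit 0), (nat_lit 1), (nat_lit 2), (nat_lit 3), (nat_lit 4)]]
noncomputable def YM_lP_h (c : ℕ) : ℕ := Nat.mod c (nat_lit 43)
theorem YM_lP_E {G : Type*} [Group G] {R : ℕ → G → Prop} {p o t a b w r e c n s z y u v : G} {H : Subgroup G}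
    (M : Mdl YN_o YM_cs YN_L R [p, o, t, a, a⁻¹, b, b⁻¹, w, r, e, e⁻¹, c, n, s, z, y, u, v] H) :
    EnumS R YM_lP (sp [r, w, u, v, c]) :=
  enumS_sp M.μ.1 (M.reps.tms M.μ.1 [(.v (nat_lit 8)), (.v (nat_lit 7)), (.v (nat_lit 16)), (.v (nat_lit 17)), (.v (nat_lit 11))] (cs' := [(nat_lit 0x786543210), (nat_lit 0x876540213), (nat_lit 0x876513240), (nat_lit 0x876243510), (nat_lit 0x876453120)]) (by decide +kernel))
    (Ws := YM_lP_W) (by decide +kernel) (by decide +kernel)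
theorem YM_lP_c {G : Type*} [Group G] {R : ℕ → G → Prop} {p o t a b w r e c n s z y u v : G} {H : Subgroup G}
    (M : Mdl YN_o YM_cs YN_L R [p, o, t, a, a⁻¹, b, b⁻¹, w, r, e, e⁻¹, c, n, s, z, y, u, v] H) :
    #(sp [r, w, u, v, c]) = 32 :=
  (YM_lP_E M).card M.μ (h := YM_lP_h) (by decide +kernel)
noncomputable def YM_lA : List ℕ := [(nat_lit 0x876543210), (nat_lit 0x786543210), (nat_lit 0x876540213), (nat_lit 0x876543120), (nat_lit 0x876513240), (nat_lit 0x876453210), (nat_lit 0x786540213), (nat_lit 0x786543120), (nat_lit 0x786513240), (nat_lit 0x786453210), (nat_lit 0x876540123), (nat_lit 0x876510243), (nat_lit 0x876450213), (nat_lit 0x876513420), (nat_lit 0x876453120), (nat_lit 0x876523140), (nat_lit 0x876413250), (nat_lit 0x876153240), (nat_lit 0x786540123), (nat_lit 0x786510243), (nat_lit 0x786450213), (nat_lit 0x786513420), (nat_lit 0x786453120), (nat_lit 0x786523140), (nat_lit 0x786413250), (nat_lit 0x786153240), (nat_lit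 0x876510423), (nat_lit 0x876450123), (nat_lit 0x876520143), (nat_lit 0x876410253), (nat_lit 0x876150243), (nat_lit 0x876523410), (nat_lit 0x876413520), (nat_lit 0x876153420), (nat_lit 0x876423150), (nat_lit 0x876143250), (nat_lit 0x876253140), (nat_lit 0x786510423), (nat_lit 0x786450123), (nat_lit 0x786520143), (nat_lit 0x786410253), (nat_lit 0x786150243), (nat_lit 0x786523410), (nat_lit 0x786413520), (nat_lit 0x786153420), (nat_lit 0x786423150), (nat_lit 0x786143250), (nat_lit 0x786253140), (nat_lit 0x876520413), (nat_lit 0x876410523), (nat_lit 0x876150423), (nat_lit 0x876420153), (nat_lit 0x876140253), (nat_lit 0x876250143), (nat_lit 0x876423510), (nat_lit 0x876143520), (nat_lit 0x876253410), (nat_lit 0x876123450), (nat_lit 0x876243150), (nat_lit 0x786520413), (nat_lit 0x786410523), (nat_lit 0x786150423), (nat_lit 0x786420153), (nat_lit 0x786140253), (nat_lit 0x786250143), (nat_lit 0x786423510), (nat_lit 0x786143520), (nat_lit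 0x786253410), (nat_lit 0x786123450), (nat_lit 0x786243150), (nat_lit 0x876420513), (nat_lit 0x876140523), (nat_lit 0x876250413), (nat_lit 0x876120453), (nat_lit 0x876240153), (nat_lit 0x876123540), (nat_lit 0x876243510), (nat_lit 0x876213450), (nat_lit 0x786420513), (nat_lit 0x786140523), (nat_lit 0x786250413), (nat_lit 0x786120453), (nat_lit 0x786240153), (nat_lit 0x786123540), (nat_lit 0x786243510), (nat_lit 0x786213450), (nat_lit 0x876120543), (nat_lit 0x876240513), (nat_lit 0x876210453), (nat_lit 0x876213540), (nat_lit 0x786120543), (nat_lit 0x786240513), (nat_lit 0x786210453), (nat_lit 0x786213540), (nat_lit 0x876210543), (nat_lit 0x786210543)]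
noncomputable def YM_lA_W : List (List ℕ) := [[],
  [(nat_lit 0)],
  [(nat_lit 1)],
  [(nat_lit 2)],
  [(nat_lit 3)],
  [(nat_lit 4)],
  [(nat_lit 0), (nat_lit 1)],
  [(nat_lit 0), (nat_lit 2)],
  [(nat_lit 0), (nat_lit 3)],
  [(nat_lit 0), (nat_lit 4)],
  [(nat_lit 1), (nat_lit 2)],
  [(nat_lit 1), (nat_lit 3)],
  [(nat_lit 1), (nat_lit 4)],
  [(nat_lit 2), (nat_lit 3)],
  [(nat_lit 2), (nat_lit 4)],
  [(nat_lit 3), (nat_lit 2)],
  [(nat_lit 3), (nat_lit 4)],
  [(nat_lit 4), (nat_lit 3)],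
  [(nat_lit 0), (nat_lit 1), (nat_lit 2)],
  [(nat_lit 0), (nat_lit 1), (nat_lit 3)],
  [(nat_lit 0), (nat_lit 1), (nat_lit 4)],
  [(nat_lit 0), (nat_lit 2), (nat_lit 3)],
  [(nat_lit 0), (nat_lit 2), (nat_lit 4)],
  [(nat_lit 0), (nat_lit 3), (nat_lit 2)],
  [(nat_lit 0), (nat_lit 3), (nat_lit 4)],
  [(nat_lit 0), (nat_lit 4), (nat_lit 3)],
  [(nat_lit 1), (nat_lit 2), (nat_lit 3)],
  [(nat_lit 1), (nat_lit 2), (nat_lit 4)],
  [(nat_lit 1), (nat_lit 3), (nat_lit 2)],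
  [(nat_lit 1), (nat_lit 3), (nat_lit 4)],
  [(nat_lit 1), (nat_lit 4), (nat_lit 3)],
  [(nat_lit 2), (nat_lit 3), (nat_lit 2)],
  [(nat_lit 2), (nat_lit 3), (nat_lit 4)],
  [(nat_lit 2), (nat_lit 4), (nat_lit 3)],
  [(nat_lit 3), (nat_lit 2), (nat_lit 4)],
  [(nat_lit 3), (nat_lit 4), (nat_lit 3)],
  [(nat_lit 4), (nat_lit 3), (nat_lit 2)],
  [(nat_lit 0), (nat_lit 1), (nat_lit 2), (nat_lit 3)],
  [(nat_lit 0), (nat_lit 1), (nat_lit 2), (nat_lit 4)],
  [(nat_lit 0), (nat_lit 1), (nat_lit 3), (nat_lit 2)],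
  [(nat_lit 0), (nat_lit 1), (nat_lit 3), (nat_lit 4)],
  [(nat_lit 0), (nat_lit 1), (nat_lit 4), (nat_lit 3)],
  [(nat_lit 0), (nat_lit 2), (nat_lit 3), (nat_lit 2)],
  [(nat_lit 0), (nat_lit 2), (nat_lit 3), (nat_lit 4)],
  [(nat_lit 0), (nat_lit 2), (nat_lit 4), (nat_lit 3)],
  [(nat_lit 0), (nat_lit 3), (nat_lit 2), (nat_lit 4)],
  [(nat_lit 0), (nat_lit 3), (nat_lit 4), (nat_lit 3)],
  [(nat_lit 0), (nat_lit 4), (nat_lit 3), (nat_lit 2)],
  [(nat_lit 1), (nat_lit 2), (nat_lit 3), (nat_lit 2)],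
  [(nat_lit 1), (nat_lit 2), (nat_lit 3), (nat_lit 4)],
  [(nat_lit 1), (nat_lit 2), (nat_lit 4), (nat_lit 3)],
  [(nat_lit 1), (nat_lit 3), (nat_lit 2), (nat_lit 4)],
  [(nat_lit 1), (nat_lit 3), (nat_lit 4), (nat_lit 3)],
  [(nat_lit 1), (nat_lit 4), (nat_lit 3), (nat_lit 2)],
  [(nat_lit 2), (nat_lit 3), (nat_lit 2), (nat_lit 4)],
  [(nat_lit 2), (nat_lit 3), (nat_lit 4), (nat_lit 3)],
  [(nat_lit 2), (nat_lit 4), (nat_lit 3), (nat_lit 2)],
  [(nat_lit 3), (nat_lit 2), (nat_lit 4), (nat_lit 3)],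
  [(nat_lit 3), (nat_lit 4), (nat_lit 3), (nat_lit 2)],
  [(nat_lit 0), (nat_lit 1), (nat_lit 2), (nat_lit 3), (nat_lit 2)],
  [(nat_lit 0), (nat_lit 1), (nat_lit 2), (nat_lit 3), (nat_lit 4)],
  [(nat_lit 0), (nat_lit 1), (nat_lit 2), (nat_lit 4), (nat_lit 3)],
  [(nat_lit 0), (nat_lit 1), (nat_lit 3), (nat_lit 2), (nat_lit 4)],
  [(nat_lit 0), (nat_lit 1), (nat_lit 3), (nat_lit 4), (nat_lit 3)],
  [(nat_lit 0), (nat_lit 1), (nat_lit 4), (nat_lit 3), (nat_lit 2)],
  [(nat_lit 0), (nat_lit 2), (nat_lit 3), (nat_lit 2), (nat_lit 4)],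
  [(nat_lit 0), (nat_lit 2), (nat_lit 3), (nat_lit 4), (nat_lit 3)],
  [(nat_lit 0), (nat_lit 2), (nat_lit 4), (nat_lit 3), (nat_lit 2)],
  [(nat_lit 0), (nat_lit 3), (nat_lit 2), (nat_lit 4), (nat_lit 3)],
  [(nat_lit 0), (nat_lit 3), (nat_lit 4), (nat_lit 3), (nat_lit 2)],
  [(nat_lit 1), (nat_lit 2), (nat_lit 3), (nat_lit 2), (nat_lit 4)],
  [(nat_lit 1), (nat_lit 2), (nat_lit 3), (nat_lit 4), (nat_lit 3)],
  [(nat_lit 1), (nat_lit 2), (nat_lit 4), (nat_lit 3), (nat_lit 2)],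
  [(nat_lit 1), (nat_lit 3), (nat_lit 2), (nat_lit 4), (nat_lit 3)],
  [(nat_lit 1), (nat_lit 3), (nat_lit 4), (nat_lit 3), (nat_lit 2)],
  [(nat_lit 2), (nat_lit 3), (nat_lit 2), (nat_lit 4), (nat_lit 3)],
  [(nat_lit 2), (nat_lit 3), (nat_lit 4), (nat_lit 3), (nat_lit 2)],
  [(nat_lit 3), (nat_lit 2), (nat_lit 4), (nat_lit 3), (nat_lit 2)],
  [(nat_lit 0), (nat_lit 1), (nat_lit 2), (nat_lit 3), (nat_lit 2), (nat_lit 4)],
  [(nat_lit 0), (nat_lit 1), (nat_lit 2), (nat_lit 3), (nat_lit 4), (nat_lit 3)],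
  [(nat_lit 0), (nat_lit 1), (nat_lit 2), (nat_lit 4), (nat_lit 3), (nat_lit 2)],
  [(nat_lit 0), (nat_lit 1), (nat_lit 3), (nat_lit 2), (nat_lit 4), (nat_lit 3)],
  [(nat_lit 0), (nat_lit 1), (nat_lit 3), (nat_lit 4), (nat_lit 3), (nat_lit 2)],
  [(nat_lit 0), (nat_lit 2), (nat_lit 3), (nat_lit 2), (nat_lit 4), (nat_lit 3)],
  [(nat_lit 0), (nat_lit 2), (nat_lit 3), (nat_lit 4), (nat_lit 3), (nat_lit 2)],
  [(nat_lit 0), (nat_lit 3), (nat_lit 2), (nat_lit 4), (nat_lit 3), (nat_lit 2)],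
  [(nat_lit 1), (nat_lit 2), (nat_lit 3), (nat_lit 2), (nat_lit 4), (nat_lit 3)],
  [(nat_lit 1), (nat_lit 2), (nat_lit 3), (nat_lit 4), (nat_lit 3), (nat_lit 2)],
  [(nat_lit 1), (nat_lit 3), (nat_lit 2), (nat_lit 4), (nat_lit 3), (nat_lit 2)],
  [(nat_lit 2), (nat_lit 3), (nat_lit 2), (nat_lit 4), (nat_lit 3), (nat_lit 2)],
  [(nat_lit 0), (nat_lit 1), (nat_lit 2), (nat_lit 3), (nat_lit 2), (nat_lit 4), (nat_lit 3)],
  [(nat_lit 0), (nat_lit 1), (nat_lit 2), (nat_lit 3), (nat_lit 4), (nat_lit 3), (nat_lit 2)],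
  [(nat_lit 0), (nat_lit 1), (nat_lit 3), (nat_lit 2), (nat_lit 4), (nat_lit 3), (nat_lit 2)],
  [(nat_lit 0), (nat_lit 2), (nat_lit 3), (nat_lit 2), (nat_lit 4), (nat_lit 3), (nat_lit 2)],
  [(nat_lit 1), (nat_lit 2), (nat_lit 3), (nat_lit 2), (nat_lit 4), (nat_lit 3), (nat_lit 2)],
  [(nat_lit 0), (nat_lit 1), (nat_lit 2), (nat_lit 3), (nat_lit 2), (nat_lit 4), (nat_lit 3), (nat_lit 2)]]
noncomputable def YM_lA_h (c : ℕ) : ℕ := Nat.mod c (nat_lit 419)
theorem YM_lA_E {G : Type*} [Group G] {R : ℕ → G → Prop} {p o t a b w r e c n s z y u v : G} {H : Subgroup G}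
    (M : Mdl YN_o YM_cs YN_L R [p, o, t, a, a⁻¹, b, b⁻¹, w, r, e, e⁻¹, c, n, s, z, y, u, v] H) :
    EnumS R YM_lA (sp [r, w, p, u, o]) :=
  enumS_sp M.μ.1 (M.reps.tms M.μ.1 [(.v (nat_lit 8)), (.v (nat_lit 7)), (.v (nat_lit 0)), (.v (nat_lit 16)), (.v (nat_lit 1))] (cs' := [(nat_lit 0x786543210), (nat_lit 0x876540213), (nat_lit 0x876543120), (nat_lit 0x876513240), (nat_lit 0x876453210)]) (by decide +kernel))
    (Ws := YM_lA_W) (by decide +kernel) (by decide +kernel)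
theorem YM_lA_c {G : Type*} [Group G] {R : ℕ → G → Prop} {p o t a b w r e c n s z y u v : G} {H : Subgroup G}
    (M : Mdl YN_o YM_cs YN_L R [p, o, t, a, a⁻¹, b, b⁻¹, w, r, e, e⁻¹, c, n, s, z, y, u, v] H) :
    #(sp [r, w, p, u, o]) = 96 :=
  (YM_lA_E M).card M.μ (h := YM_lA_h) (by decide +kernel)
noncomputable def YM_lB : List ℕ := [(nat_lit 0x876543210), (nat_lit 0x786543210), (nat_lit 0x876540123), (nat_lit 0x876510243), (nat_lit 0x876450213), (nat_lit 0x786540123), (nat_lit 0x786510243), (nat_lit 0x786450213), (nat_lit 0x876513420), (nat_lit 0x876453120), (nat_lit 0x876523140), (nat_lit 0x876413250), (nat_lit 0x876153240), (nat_lit 0x786513420), (nat_lit 0x786453120), (nat_lit 0x786523140), (nat_lit 0x786413250), (nat_lit 0x786153240), (nat_lit 0x876520413), (nat_lit 0x876410523), (nat_lit 0x876150423), (nat_lit 0x876420153), (nat_lit 0x876140253), (nat_lit 0x876250143), (nat_lit 0x786520413), (nat_lit 0x786410523), (nat_lit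 0x786150423), (nat_lit 0x786420153), (nat_lit 0x786140253), (nat_lit 0x786250143), (nat_lit 0x876423510), (nat_lit 0x876143520), (nat_lit 0x876253410), (nat_lit 0x876123450), (nat_lit 0x876243150), (nat_lit 0x786423510), (nat_lit 0x786143520), (nat_lit 0x786253410), (nat_lit 0x786123450), (nat_lit 0x786243150), (nat_lit 0x876120543), (nat_lit 0x876240513), (nat_lit 0x876210453), (nat_lit 0x786120543), (nat_lit 0x786240513), (nat_lit 0x786210453), (nat_lit 0x876213540), (nat_lit 0x786213540)]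
noncomputable def YM_lB_W : List (List ℕ) := [[],
  [(nat_lit 0)],
  [(nat_lit 1)],
  [(nat_lit 2)],
  [(nat_lit 3)],
  [(nat_lit 0), (nat_lit 1)],
  [(nat_lit 0), (nat_lit 2)],
  [(nat_lit 0), (nat_lit 3)],
  [(nat_lit 1), (nat_lit 2)],
  [(nat_lit 1), (nat_lit 3)],
  [(nat_lit 2), (nat_lit 1)],
  [(nat_lit 2), (nat_lit 3)],
  [(nat_lit 3), (nat_lit 2)],
  [(nat_lit 0), (nat_lit 1), (nat_lit 2)],
  [(nat_lit 0), (nat_lit 1), (nat_lit 3)],
  [(nat_lit 0), (nat_lit 2), (nat_lit 1)],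
  [(nat_lit 0), (nat_lit 2), (nat_lit 3)],
  [(nat_lit 0), (nat_lit 3), (nat_lit 2)],
  [(nat_lit 1), (nat_lit 2), (nat_lit 1)],
  [(nat_lit 1), (nat_lit 2), (nat_lit 3)],
  [(nat_lit 1), (nat_lit 3), (nat_lit 2)],
  [(nat_lit 2), (nat_lit 1), (nat_lit 3)],
  [(nat_lit 2), (nat_lit 3), (nat_lit 2)],
  [(nat_lit 3), (nat_lit 2), (nat_lit 1)],
  [(nat_lit 0), (nat_lit 1), (nat_lit 2), (nat_lit 1)],
  [(nat_lit 0), (nat_lit 1), (nat_lit 2), (nat_lit 3)],
  [(nat_lit 0), (nat_lit 1), (nat_lit 3), (nat_lit 2)],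
  [(nat_lit 0), (nat_lit 2), (nat_lit 1), (nat_lit 3)],
  [(nat_lit 0), (nat_lit 2), (nat_lit 3), (nat_lit 2)],
  [(nat_lit 0), (nat_lit 3), (nat_lit 2), (nat_lit 1)],
  [(nat_lit 1), (nat_lit 2), (nat_lit 1), (nat_lit 3)],
  [(nat_lit 1), (nat_lit 2), (nat_lit 3), (nat_lit 2)],
  [(nat_lit 1), (nat_lit 3), (nat_lit 2), (nat_lit 1)],
  [(nat_lit 2), (nat_lit 1), (nat_lit 3), (nat_lit 2)],
  [(nat_lit 2), (nat_lit 3), (nat_lit 2), (nat_lit 1)],
  [(nat_lit 0), (nat_lit 1), (nat_lit 2), (nat_lit 1), (nat_lit 3)],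
  [(nat_lit 0), (nat_lit 1), (nat_lit 2), (nat_lit 3), (nat_lit 2)],
  [(nat_lit 0), (nat_lit 1), (nat_lit 3), (nat_lit 2), (nat_lit 1)],
  [(nat_lit 0), (nat_lit 2), (nat_lit 1), (nat_lit 3), (nat_lit 2)],
  [(nat_lit 0), (nat_lit 2), (nat_lit 3), (nat_lit 2), (nat_lit 1)],
  [(nat_lit 1), (nat_lit 2), (nat_lit 1), (nat_lit 3), (nat_lit 2)],
  [(nat_lit 1), (nat_lit 2), (nat_lit 3), (nat_lit 2), (nat_lit 1)],
  [(nat_lit 2), (nat_lit 1), (nat_lit 3), (nat_lit 2), (nat_lit 1)],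
  [(nat_lit 0), (nat_lit 1), (nat_lit 2), (nat_lit 1), (nat_lit 3), (nat_lit 2)],
  [(nat_lit 0), (nat_lit 1), (nat_lit 2), (nat_lit 3), (nat_lit 2), (nat_lit 1)],
  [(nat_lit 0), (nat_lit 2), (nat_lit 1), (nat_lit 3), (nat_lit 2), (nat_lit 1)],
  [(nat_lit 1), (nat_lit 2), (nat_lit 1), (nat_lit 3), (nat_lit 2), (nat_lit 1)],
  [(nat_lit 0), (nat_lit 1), (nat_lit 2), (nat_lit 1), (nat_lit 3), (nat_lit 2), (nat_lit 1)]]
noncomputable def YM_lB_h (c : ℕ) : ℕ := Nat.mod c (nat_lit 647)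
theorem YM_lB_E {G : Type*} [Group G] {R : ℕ → G → Prop} {p o t a b w r e c n s z y u v : G} {H : Subgroup G}
    (M : Mdl YN_o YM_cs YN_L R [p, o, t, a, a⁻¹, b, b⁻¹, w, r, e, e⁻¹, c, n, s, z, y, u, v] H) :
    EnumS R YM_lB (sp [r, w * p, w * u, w * o]) :=
  enumS_sp M.μ.1 (M.reps.tms M.μ.1 [(.v (nat_lit 8)), (.mul (.v (nat_lit 7)) (.v (nat_lit 0))), (.mul (.v (nat_lit 7)) (.v (nat_lit 16))), (.mul (.v (nat_lit 7)) (.v (nat_lit 1)))] (cs' := [(nat_lit 0x786543210), (nat_lit 0x876540123), (nat_lit 0x876510243), (nat_lit 0x876450213)]) (by decide +kernel))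
    (Ws := YM_lB_W) (by decide +kernel) (by decide +kernel)
theorem YM_lB_c {G : Type*} [Group G] {R : ℕ → G → Prop} {p o t a b w r e c n s z y u v : G} {H : Subgroup G}
    (M : Mdl YN_o YM_cs YN_L R [p, o, t, a, a⁻¹, b, b⁻¹, w, r, e, e⁻¹, c, n, s, z, y, u, v] H) :
    #(sp [r, w * p, w * u, w * o]) = 48 :=
  (YM_lB_E M).card M.μ (h := YM_lB_h) (by decide +kernel)
noncomputable def YM_e_F : Fm := (.and (.qf (.eq (.pw (.mul (.mul (.v (nat_lit 16)) (.v (nat_lit 3))) (.v (nat_lit 0))) (nat_lit 3)) .one)) (.and (.qf (.eq (.pw (.mul (.mul (.v (nat_lit 2)) (.v (nat_lit 0))) (.mul (.mul (.v (nat_lit 16)) (.v (nat_lit 3))) (.v (nat_lit 0)))) (nat_lit 3)) .one)) (.and (.qf (.eq (.v (nat_lit 2)) (.mul (.mul (.v (nat_lit 7)) (.v (nat_lit 16))) (.v (nat_lit 17))))) (.and (.qf (.not (.eq (.v (nat_lit 7)) (.v (nat_lit 16))))) (.and (.qf (.mem (.v (nat_lit 2)) YM_lA)) (.and (.qf (.not (.mem (.v (nat_lit 2)) YM_lB))) (.and (.exF YN_L (fun _ =>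 (nat_lit 38)) (.qf (.eq (.mul (.mul (.v (nat_lit 0)) (.v (nat_lit 8))) (.inv (.v (nat_lit 0)))) (.v (nat_lit 1))))) (.and (.exF YN_L (fun _ => (nat_lit 1230)) (.qf (.eq (.mul (.mul (.v (nat_lit 0)) (.v (nat_lit 17))) (.inv (.v (nat_lit 0)))) (.v (nat_lit 1))))) (.exF YN_L (fun _ => (nat_lit 1152)) (.qf (.eq (.mul (.mul (.v (nat_lit 0)) (.v (nat_lit 18))) (.inv (.v (nat_lit 0)))) (.v (nat_lit 1)))))))))))))
theorem YM_e_chk : Fm.chk YN_o YM_e_F YM_cs = true := by decide +kernel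
theorem YM_e {G : Type*} [Group G] {R : ℕ → G → Prop} {p o t a b w r e c n s z y u v : G} {H : Subgroup G}
    (M : Mdl YN_o YM_cs YN_L R [p, o, t, a, a⁻¹, b, b⁻¹, w, r, e, e⁻¹, c, n, s, z, y, u, v] H) :
    (u * a * p) ^ 3 = 1 ∧ (t * p * (u * a * p)) ^ 3 = 1 ∧ t = w * u * v ∧ w ≠ u ∧ t ∈ sp [r, w, p, u, o] ∧ t ∉ sp [r, w * p, w * u, w * o] ∧ (∃ m ∈ H, m * w * m⁻¹ = p) ∧ (∃ m ∈ H, m * u * m⁻¹ = p) ∧ (∃ m ∈ H, m * v * m⁻¹ = p) :=
  have h : (u * a * p) ^ 3 = 1 ∧ (t * p * (u * a * p)) ^ 3 = 1 ∧ t = w * u * v ∧ w ≠ u ∧ InS R YM_lA (t) ∧ ¬ InS R YM_lB (t) ∧ (Good YN_o R YN_L → prods YN_o YN_L YN_o.one ≠ [] → ∃ m, InL YN_o R YN_L m ∧ m * w * m⁻¹ = p) ∧ (Good YN_o R YN_L → prods YN_o YN_L YN_o.one ≠ [] → ∃ m, InL YN_o R YN_L m ∧ m * u * m⁻¹ = p) ∧ (Good YN_o R YN_L → prods YN_o YN_L YN_o.one ≠ [] → ∃ m, InL YN_o R YN_L m ∧ m * v * m⁻¹ = p) :=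
    Fm.sound M.μ YM_e_F YM_e_chk M.reps
  (And.imp (fun h0 => h0) (fun h0 => (And.imp (fun h1 => h1) (fun h1 => (And.imp (fun h2 => h2) (fun h2 => (And.imp (fun h3 => h3) (fun h3 => (And.imp (fun h4 => ((YM_lA_E M).iff.1 h4)) (fun h4 => (And.imp (fun h5 => ((not_congr (YM_lB_E M).iff).1 h5)) (fun h5 => (And.imp (fun h6 => (Exists.imp (fun m h7 => ⟨M.H.iff.1 h7.1, h7.2⟩) (h6 M.H.good M.H.ne))) (fun h6 => (And.imp (fun h7 => (Exists.imp (fun m h8 => ⟨M.H.iff.1 h8.1, h8.2⟩) (h7 M.H.good M.H.ne))) (fun h7 => (Exists.imp (fun m h8 => ⟨M.H.iff.1 h8.1, h8.2⟩) (h7 M.H.good M.H.ne))) h6)) h5)) h4)) h3)) h2)) h1)) h0)) h)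
noncomputable def YM_c_F : Fm := (.all YN_L (.qf (.and (.or (.not (.eq (.mul (.v (nat_lit 0)) (.v (nat_lit 10))) (.mul (.v (nat_lit 10)) (.v (nat_lit 0))))) (.or (.not (.eq (.mul (.v (nat_lit 0)) (.v (nat_lit 12))) (.mul (.v (nat_lit 12)) (.v (nat_lit 0))))) (.mem (.pw (.v (nat_lit 0)) (nat_lit 4)) YM_lE))) (.or (.not (.eq (.mul (.v (nat_lit 0)) (.v (nat_lit 3))) (.mul (.v (nat_lit 3)) (.v (nat_lit 0))))) (.or (.not (.mem (.mul (.mul (.v (nat_lit 0)) (.v (nat_lit 9))) (.inv (.v (nat_lit 0)))) YM_lP)) (.or (.not (.mem (.mul (.mul (.v (nat_lit 0)) (.v (nat_lit 12))) (.inv (.v (nat_lit 0)))) YM_lP)) (.mem (.v (nat_lit 0)) YM_lP)))))))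
theorem YM_c_chk : Fm.chk YN_o YM_c_F YM_cs = true := by decide +kernel
theorem YM_c {G : Type*} [Group G] {R : ℕ → G → Prop} {p o t a b w r e c n s z y u v : G} {H : Subgroup G}
    (M : Mdl YN_o YM_cs YN_L R [p, o, t, a, a⁻¹, b, b⁻¹, w, r, e, e⁻¹, c, n, s, z, y, u, v] H) :
    ∀ k ∈ H, (k * e ≠ e * k ∨ k * c ≠ c * k ∨ k ^ 4 ∈ sp [e]) ∧ (k * t ≠ t * k ∨ k * r * k⁻¹ ∉ sp [r, w, u, v, c] ∨ k * c * k⁻¹ ∉ sp [r, w, u, v, c] ∨ k ∈ sp [r, w, u, v, c]) :=
  have h : ∀ k, InL YN_o R YN_L k → (k * e ≠ e * k ∨ k * c ≠ c * k ∨ InS R YM_lE (k ^ 4)) ∧ (k * t ≠ t * k ∨ ¬ InS R YM_lP (k * r * k⁻¹) ∨ ¬ InS R YM_lP (k * c * k⁻¹) ∨ InS R YM_lP (k)) :=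
    Fm.sound M.μ YM_c_F YM_c_chk M.reps
  (fun k h0 => ((and_congr (or_congr Iff.rfl (or_congr Iff.rfl (YM_lE_E M).iff)) (or_congr Iff.rfl (or_congr (not_congr (YM_lP_E M).iff) (or_congr (not_congr (YM_lP_E M).iff) (YM_lP_E M).iff)))).1 (h k (M.H.iff.2 h0))))
noncomputable def YM_cV_F : Fm := (.all YN_L (.imp (.eq (.mul (.v (nat_lit 0)) (.v (nat_lit 8))) (.mul (.v (nat_lit 8)) (.v (nat_lit 0)))) (.imp (.eq (.mul (.v (nat_lit 0)) (.v (nat_lit 17))) (.mul (.v (nat_lit 17)) (.v (nat_lit 0)))) (.imp (.eq (.mul (.v (nat_lit 0)) (.v (nat_lit 18))) (.mul (.v (nat_lit 18)) (.v (nat_lit 0)))) (.qf (.and (.eq (.pw (.v (nat_lit 0)) (nat_lit 6)) .one) (.and (.or (.not (.eq (.mul (.v (nat_lit 0)) (.v (nat_lit 10))) (.mul (.v (nat_lit 10)) (.v (nat_lit 0))))) (.mem (.v (nat_lit 0)) YM_lW)) (.or (.not (.eq (.pw (.v (nat_lit 0)) (nat_lit 3)) .one)) (.or (.eq (.v (nat_lit 0)) .one) (.or (.eq (.v (nat_lit 0)) (.v (nat_lit 10))) (.eq (.v (nat_lit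 0)) (.inv (.v (nat_lit 10))))))))))))))
theorem YM_cV_chk : Fm.chk YN_o YM_cV_F YM_cs = true := by decide +kernel
theorem YM_cV {G : Type*} [Group G] {R : ℕ → G → Prop} {p o t a b w r e c n s z y u v : G} {H : Subgroup G}
    (M : Mdl YN_o YM_cs YN_L R [p, o, t, a, a⁻¹, b, b⁻¹, w, r, e, e⁻¹, c, n, s, z, y, u, v] H) :
    ∀ k ∈ H, k * w = w * k → k * u = u * k → k * v = v * k → k ^ 6 = 1 ∧ (k * e ≠ e * k ∨ k ∈ sp [w, u, v, e]) ∧ (k ^ 3 ≠ 1 ∨ k = 1 ∨ k = e ∨ k = e⁻¹) :=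
  have h : ∀ k, InL YN_o R YN_L k → k * w = w * k → k * u = u * k → k * v = v * k → k ^ 6 = 1 ∧ (k * e ≠ e * k ∨ InS R YM_lW (k)) ∧ (k ^ 3 ≠ 1 ∨ k = 1 ∨ k = e ∨ k = e⁻¹) :=
    Fm.sound M.μ YM_cV_F YM_cV_chk M.reps
  (fun k h0 => (fun h1 => (fun h2 => (fun h3 => ((and_congr Iff.rfl (and_congr (or_congr Iff.rfl (YM_lW_E M).iff) Iff.rfl)).1 ((((h k (M.H.iff.2 h0)) h1) h2) h3))))))
noncomputable def YM_V_F : Fm := (.allS YM_lV (.qf (.and (.eq (.mul (.v (nat_lit 0)) (.v (nat_lit 0))) .one) (.and (.eq (.mul (.v (nat_lit 0)) (.v (nat_lit 8))) (.mul (.v (nat_lit 8)) (.v (nat_lit 0)))) (.and (.eq (.mul (.v (nat_lit 0)) (.v (nat_lit 17))) (.mul (.v (nat_lit 17)) (.v (nat_lit 0)))) (.and (.eq (.mul (.v (nat_lit 0)) (.v (nat_lit 18))) (.mul (.v (nat_lit 18)) (.v (nat_lit 0)))) (.and (.eq (.mul (.v (nat_lit 0)) (.v (nat_lit 10))) (.mul (.v (nat_lit 10)) (.v (nat_lit 0)))) (.mem (.mul (.mul (.mul (.v (nat_lit 4)) (.v (nat_lit 6))) (.v (nat_lit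 0))) (.inv (.mul (.v (nat_lit 4)) (.v (nat_lit 6))))) YM_lV))))))))
theorem YM_V_chk : Fm.chk YN_o YM_V_F YM_cs = true := by decide +kernel
theorem YM_V {G : Type*} [Group G] {R : ℕ → G → Prop} {p o t a b w r e c n s z y u v : G} {H : Subgroup G}
    (M : Mdl YN_o YM_cs YN_L R [p, o, t, a, a⁻¹, b, b⁻¹, w, r, e, e⁻¹, c, n, s, z, y, u, v] H) :
    ∀ k ∈ sp [w, u, v], k * k = 1 ∧ k * w = w * k ∧ k * u = u * k ∧ k * v = v * k ∧ k * e = e * k ∧ a * b * k * (a * b)⁻¹ ∈ sp [w, u, v] :=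
  have h : ∀ k, InS R YM_lV k → k * k = 1 ∧ k * w = w * k ∧ k * u = u * k ∧ k * v = v * k ∧ k * e = e * k ∧ InS R YM_lV (a * b * k * (a * b)⁻¹) :=
    Fm.sound M.μ YM_V_F YM_V_chk M.reps
  (fun k h0 => ((and_congr Iff.rfl (and_congr Iff.rfl (and_congr Iff.rfl (and_congr Iff.rfl (and_congr Iff.rfl (YM_lV_E M).iff))))).1 (h k ((YM_lV_E M).iff.2 h0))))
noncomputable def YM_P_t0 : ST := (.node (nat_lit 32) (.node (nat_lit 17) (.node (nat_lit 9) (.node (nat_lit 5) (.leaf (nat_lit 1148)) (.leaf (nat_lit 1080))) (.node (nat_lit 12) (.leaf (nat_lit 300)) (.leaf (nat_lit 0)))) (.node (nat_lit 23) (.node (nat_lit 20) (.leaf (nat_lit 1244)) (.leaf (nat_lit 1230))) (.node (nat_lit 29) (.leaf (nat_lit 210)) (.node (nat_lit 31) (.leaf (nat_lit 38)) (.leaf (nat_lit 1244)))))) (.node (nat_lit 47) (.node (nat_lit 43) (.node (nat_lit 38) (.leaf (nat_lit 1380)) (.leaf (nat_lit 300))) (.node (nat_lit 46) (.leaf (nat_lit 1080)) (.leaf (nat_lit 1380))))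 (.node (nat_lit 50) (.node (nat_lit 49) (.leaf (nat_lit 1148)) (.leaf (nat_lit 0))) (.node (nat_lit 52) (.leaf (nat_lit 1152)) (.node (nat_lit 56) (.leaf (nat_lit 300)) (.leaf (nat_lit 0)))))))
noncomputable def YM_P_F : Fm := (.allS YM_lP (.and (.qf (.eq (.pw (.v (nat_lit 0)) (nat_lit 4)) .one)) (.and (.qf (.eq (.mul (.v (nat_lit 0)) (.v (nat_lit 3))) (.mul (.v (nat_lit 3)) (.v (nat_lit 0))))) (.and (.qf (.mem (.v (nat_lit 0)) YM_lA)) (.or (.qf (.not (.eq (.mul (.v (nat_lit 0)) (.v (nat_lit 0))) .one))) (.or (.qf (.eq (.v (nat_lit 0)) .one)) (.or (.qf (.or (.eq (.v (nat_lit 0)) (.v (nat_lit 9))) (.or (.eq (.v (nat_lit 0)) (.v (nat_lit 8))) (.or (.eq (.v (nat_lit 0)) (.v (nat_lit 17))) (.eq (.v (nat_lit 0)) (.v (nat_lit 18))))))) (.exF YN_L (fun cs => YM_P_t0.find (Nat.mod (nth (nat_lit 0) cs (nat_lit 0)) (nat_lit 58))) (.qf (.or (.eq (.mul (.mul (.v (nat_lit 0)) (.v (nat_lit 1))) (.inv (.v (nat_lit 0)))) (.v (nat_lit 13))) (.or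 (.eq (.mul (.mul (.v (nat_lit 0)) (.v (nat_lit 1))) (.inv (.v (nat_lit 0)))) (.mul (.v (nat_lit 2)) (.v (nat_lit 10)))) (.or (.eq (.mul (.mul (.v (nat_lit 0)) (.v (nat_lit 1))) (.inv (.v (nat_lit 0)))) (.v (nat_lit 4))) (.or (.eq (.mul (.mul (.v (nat_lit 0)) (.v (nat_lit 1))) (.inv (.v (nat_lit 0)))) (.v (nat_lit 14))) (.eq (.mul (.mul (.v (nat_lit 0)) (.v (nat_lit 1))) (.inv (.v (nat_lit 0)))) (.v (nat_lit 15))))))))))))))))
theorem YM_P_chk : Fm.chk YN_o YM_P_F YM_cs = true := by decide +kernel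
theorem YM_P {G : Type*} [Group G] {R : ℕ → G → Prop} {p o t a b w r e c n s z y u v : G} {H : Subgroup G}
    (M : Mdl YN_o YM_cs YN_L R [p, o, t, a, a⁻¹, b, b⁻¹, w, r, e, e⁻¹, c, n, s, z, y, u, v] H) :
    ∀ i ∈ sp [r, w, u, v, c], i ^ 4 = 1 ∧ i * t = t * i ∧ i ∈ sp [r, w, p, u, o] ∧ (i * i ≠ 1 ∨ i = 1 ∨ (i = r ∨ i = w ∨ i = u ∨ i = v) ∨ (∃ m ∈ H, m * i * m⁻¹ = c ∨ m * i * m⁻¹ = p * r ∨ m * i * m⁻¹ = t ∨ m * i * m⁻¹ = n ∨ m * i * m⁻¹ = s)) :=
  have h : ∀ i, InS R YM_lP i → i ^ 4 = 1 ∧ i * t = t * i ∧ InS R YM_lA (i) ∧ (i * i ≠ 1 ∨ i = 1 ∨ (i = r ∨ i = w ∨ i = u ∨ i = v) ∨ (Good YN_o R YN_L → prods YN_o YN_L YN_o.one ≠ [] → ∃ m, InL YN_o R YN_L m ∧ (m * i * m⁻¹ = c ∨ m * i * m⁻¹ = p * r ∨ m * i * m⁻¹ = t ∨ m * i * m⁻¹ = n ∨ m * i * m⁻¹ = s))) :=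
    Fm.sound M.μ YM_P_F YM_P_chk M.reps
  (fun i h0 => (And.imp (fun h1 => h1) (fun h1 => (And.imp (fun h2 => h2) (fun h2 => (And.imp (fun h3 => ((YM_lA_E M).iff.1 h3)) (fun h3 => (Or.imp (fun h4 => h4) (fun h4 => (Or.imp (fun h5 => h5) (fun h5 => (Or.imp (fun h6 => h6) (fun h6 => (Exists.imp (fun m h7 => ⟨M.H.iff.1 h7.1, h7.2⟩) (h6 M.H.good M.H.ne))) h5)) h4)) h3)) h2)) h1)) (h i ((YM_lP_E M).iff.2 h0))))
noncomputable def YM_Q_F : Fm := (.allS YM_lP (.imp (.or (.eq (.v (nat_lit 0)) (.v (nat_lit 9))) (.or (.eq (.v (nat_lit 0)) (.v (nat_lit 8))) (.or (.eq (.v (nat_lit 0)) (.v (nat_lit 17))) (.eq (.v (nat_lit 0)) (.v (nat_lit 18)))))) (.allS YM_lP (.imp (.or (.eq (.v (nat_lit 0)) (.v (nat_lit 10))) (.or (.eq (.v (nat_lit 0)) (.v (nat_lit 9))) (.or (.eq (.v (nat_lit 0)) (.v (nat_lit 18))) (.eq (.v (nat_lit 0)) (.v (nat_lit 19)))))) (.imp (.not (.eq (.v (nat_lit 1)) (.v (nat_lit 0)))) (.imp (.or (.eq (.mul (.inv (.mul (.v (nat_lit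 1)) (.v (nat_lit 0)))) (.v (nat_lit 4))) (.v (nat_lit 10))) (.or (.eq (.mul (.inv (.mul (.v (nat_lit 1)) (.v (nat_lit 0)))) (.v (nat_lit 4))) (.v (nat_lit 9))) (.or (.eq (.mul (.inv (.mul (.v (nat_lit 1)) (.v (nat_lit 0)))) (.v (nat_lit 4))) (.v (nat_lit 18))) (.eq (.mul (.inv (.mul (.v (nat_lit 1)) (.v (nat_lit 0)))) (.v (nat_lit 4))) (.v (nat_lit 19)))))) (.qf (.and (.mem (.v (nat_lit 1)) YM_lV) (.and (.mem (.v (nat_lit 0)) YM_lV) (.mem (.mul (.inv (.mul (.v (nat_lit 1)) (.v (nat_lit 0)))) (.v (nat_lit 4))) YM_lV))))))))))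
theorem YM_Q_chk : Fm.chk YN_o YM_Q_F YM_cs = true := by decide +kernel
theorem YM_Q {G : Type*} [Group G] {R : ℕ → G → Prop} {p o t a b w r e c n s z y u v : G} {H : Subgroup G}
    (M : Mdl YN_o YM_cs YN_L R [p, o, t, a, a⁻¹, b, b⁻¹, w, r, e, e⁻¹, c, n, s, z, y, u, v] H) :
    ∀ i ∈ sp [r, w, u, v, c], i = r ∨ i = w ∨ i = u ∨ i = v → (∀ j ∈ sp [r, w, u, v, c], j = r ∨ j = w ∨ j = u ∨ j = v → i ≠ j → (i * j)⁻¹ * t = r ∨ (i * j)⁻¹ * t = w ∨ (i * j)⁻¹ * t = u ∨ (i * j)⁻¹ * t = v → i ∈ sp [w, u, v] ∧ j ∈ sp [w, u, v] ∧ (i * j)⁻¹ * t ∈ sp [w, u, v]) :=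
  have h : ∀ i, InS R YM_lP i → i = r ∨ i = w ∨ i = u ∨ i = v → (∀ j, InS R YM_lP j → j = r ∨ j = w ∨ j = u ∨ j = v → i ≠ j → (i * j)⁻¹ * t = r ∨ (i * j)⁻¹ * t = w ∨ (i * j)⁻¹ * t = u ∨ (i * j)⁻¹ * t = v → InS R YM_lV (i) ∧ InS R YM_lV (j) ∧ InS R YM_lV ((i * j)⁻¹ * t)) :=
    Fm.sound M.μ YM_Q_F YM_Q_chk M.reps
  (fun i h0 => (fun h1 => (fun j h2 => (fun h3 => (fun h4 => (fun h5 => ((and_congr (YM_lV_E M).iff (and_congr (YM_lV_E M).iff (YM_lV_E M).iff)).1 ((((((h i ((YM_lP_E M).iff.2 h0)) h1) j ((YM_lP_E M).iff.2 h2)) h3) h4) h5))))))))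
noncomputable def YM_A_t0 : ST := (.node (nat_lit 10) (.node (nat_lit 9) (.leaf (nat_lit 0)) (.leaf (nat_lit 13))) (.node (nat_lit 14) (.leaf (nat_lit 0)) (.node (nat_lit 15) (.leaf (nat_lit 3)) (.leaf (nat_lit 0)))))
noncomputable def YM_A_t1 : ST := (.node (nat_lit 67) (.node (nat_lit 47) (.node (nat_lit 27) (.node (nat_lit 24) (.leaf (nat_lit 150)) (.leaf (nat_lit 72))) (.node (nat_lit 39) (.leaf (nat_lit 0)) (.leaf (nat_lit 38)))) (.node (nat_lit 54) (.node (nat_lit 48) (.leaf (nat_lit 1230)) (.leaf (nat_lit 210))) (.node (nat_lit 64) (.leaf (nat_lit 1152)) (.leaf (nat_lit 0))))) (.node (nat_lit 97) (.node (nat_lit 86) (.node (nat_lit 82) (.leaf (nat_lit 12)) (.leaf (nat_lit 38))) (.node (nat_lit 90) (.leaf (nat_lit 150)) (.leaf (nat_lit 1230)))) (.node (nat_lit 102) (.node (nat_lit 98) (.leaf (nat_lit 1152)) (.leaf (nat_lit 1080))) (.node (nat_lit 105) (.leaf (nat_lit 72)) (.node (nat_lit 110) (.leaf (nat_lit 0)) (.leaf (nat_lit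 12)))))))
noncomputable def YM_A_F : Fm := (.allS YM_lA (.imp (.eq (.mul (.v (nat_lit 0)) (.v (nat_lit 0))) .one) (.or (.qf (.mem (.v (nat_lit 0)) YM_lB)) (.or (.exG YM_lA (fun cs => YM_A_t0.find (Nat.mod (nth (nat_lit 0) cs (nat_lit 0)) (nat_lit 29))) (.qf (.eq (.mul (.mul (.v (nat_lit 0)) (.v (nat_lit 4))) (.inv (.v (nat_lit 0)))) (.v (nat_lit 1))))) (.exF YN_L (fun cs => YM_A_t1.find (Nat.mod (nth (nat_lit 0) cs (nat_lit 0)) (nat_lit 121))) (.qf (.or (.eq (.mul (.mul (.v (nat_lit 0)) (.v (nat_lit 1))) (.inv (.v (nat_lit 0)))) (.v (nat_lit 2))) (.or (.eq (.mul (.mul (.v (nat_lit 0)) (.v (nat_lit 1))) (.inv (.v (nat_lit 0)))) (.mul (.v (nat_lit 2)) (.v (nat_lit 10)))) (.eq (.mul (.mul (.v (nat_lit 0)) (.v (nat_lit 1))) (.inv (.v (nat_lit 0)))) (.v (nat_lit 15)))))))))))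
theorem YM_A_chk : Fm.chk YN_o YM_A_F YM_cs = true := by decide +kernel
theorem YM_A {G : Type*} [Group G] {R : ℕ → G → Prop} {p o t a b w r e c n s z y u v : G} {H : Subgroup G}
    (M : Mdl YN_o YM_cs YN_L R [p, o, t, a, a⁻¹, b, b⁻¹, w, r, e, e⁻¹, c, n, s, z, y, u, v] H) :
    ∀ i ∈ sp [r, w, p, u, o], i * i = 1 → i ∈ sp [r, w * p, w * u, w * o] ∨ (∃ m ∈ sp [r, w, p, u, o], m * t * m⁻¹ = i) ∨ (∃ m ∈ H, m * i * m⁻¹ = p ∨ m * i * m⁻¹ = p * r ∨ m * i * m⁻¹ = s) :=
  have h : ∀ i, InS R YM_lA i → i * i = 1 → InS R YM_lB (i) ∨ (GoodS R YM_lA → YM_lA ≠ [] → ∃ m, InS R YM_lA m ∧ m * t * m⁻¹ = i) ∨ (Good YN_o R YN_L → prods YN_o YN_L YN_o.one ≠ [] → ∃ m, InL YN_o R YN_L m ∧ (m * i * m⁻¹ = p ∨ m * i * m⁻¹ = p * r ∨ m * i * m⁻¹ = s)) :=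
    Fm.sound M.μ YM_A_F YM_A_chk M.reps
  (fun i h0 => (fun h1 => (Or.imp (fun h2 => ((YM_lB_E M).iff.1 h2)) (fun h2 => (Or.imp (fun h3 => (Exists.imp (fun m h4 => ⟨(YM_lA_E M).iff.1 h4.1, h4.2⟩) (h3 (YM_lA_E M).good (YM_lA_E M).ne))) (fun h3 => (Exists.imp (fun m h4 => ⟨M.H.iff.1 h4.1, h4.2⟩) (h3 M.H.good M.H.ne))) h2)) ((h i ((YM_lA_E M).iff.2 h0)) h1))))
noncomputable def YM_B_F : Fm := (.allS YM_lB (.qf (.mem (.v (nat_lit 0)) YM_lA)))
theorem YM_B_chk : Fm.chk YN_o YM_B_F YM_cs = true := by decide +kernel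
theorem YM_B {G : Type*} [Group G] {R : ℕ → G → Prop} {p o t a b w r e c n s z y u v : G} {H : Subgroup G}
    (M : Mdl YN_o YM_cs YN_L R [p, o, t, a, a⁻¹, b, b⁻¹, w, r, e, e⁻¹, c, n, s, z, y, u, v] H) :
    ∀ i ∈ sp [r, w * p, w * u, w * o], i ∈ sp [r, w, p, u, o] :=
  have h : ∀ i, InS R YM_lB i → InS R YM_lA (i) :=
    Fm.sound M.μ YM_B_F YM_B_chk M.reps
  (fun i h0 => ((YM_lA_E M).iff.1 (h i ((YM_lB_E M).iff.2 h0))))

end H2.NB
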