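import Cfsg.Agent.H2.NB4g

/-! Generated: the wreath product of two symmetric groups of degree three. -/

set_option maxRecDepth 100000
set_option maxHeartbeats 4000000
set_option linter.unusedVariables false

open Subgroup
open scoped commutatorElement
namespace H2.NB
open H0 H0.PM H16 H19 H10.X H2.L3 H2.N9

noncomputable def PX_ab_F : Fm := (.qf (.and (.eq (.v (nat_lit 1)) (.pw (.mul (.v (nat_lit 10)) (.mul (.v (nat_lit 1)) (.v (nat_lit 3)))) (nat_lit 2))) (.eq (.v (nat_lit 3)) (.pw (.mul (.mul (.v (nat_lit 1)) (.v (nat_lit 3))) (.inv (.v (nat_lit 10)))) (nat_lit 2)))))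
theorem PX_ab_chk : Fm.chk PB_o PX_ab_F PX_cs = true := by decide +kernel
theorem PX_ab {G : Type*} [Group G] {R : ℕ → G → Prop} {t a b e x z y : G} {H : Subgroup G}
    (M : Mdl PB_o PX_cs PB_L R [t, a, a⁻¹, b, b⁻¹, e, e⁻¹, x, x⁻¹, z, y] H) :
    a = (y * (a * b)) ^ 2 ∧ b = (a * b * y⁻¹) ^ 2 :=
  Fm.sound M.μ PX_ab_F PX_ab_chk M.reps
noncomputable def PH_cs : List ℕ := [(nat_lit 0x876210543), (nat_lit 0x876453120), (nat_lit 0x786453120), (nat_lit 0x876543021), (nat_lit 0x876543102), (nat_lit 0x876354210), (nat_lit 0x876435210), (nat_lit 0x687543210), (nat_lit 0x768543210), (nat_lit 0x210876543), (nat_lit 0x543210876), (nat_lit 0x687354021), (nat_lit 0x876435021), (nat_lit 0x786543210), (nat_lit 0x876543120), (nat_lit 0x876453210), (nat_lit 0x786120453)]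
theorem PH_ext {G : Type*} [Group G] {R : ℕ → G → Prop} {t c n a b e x z y : G} {H : Subgroup G}
    (M : Mdl PF_o PG_cs PF_L R [t, c, n, a, a⁻¹, b, b⁻¹, e, e⁻¹, x, x⁻¹, z, y] H) :
    Mdl PF_o PH_cs PF_L R [t, c, n, a, a⁻¹, b, b⁻¹, e, e⁻¹, x, x⁻¹, z, y, c * n, x * (c * n) * x⁻¹, x⁻¹ * (c * n) * x, t * n] H :=
  ⟨M.μ, M.reps.tms M.μ.1 [(.v (nat_lit 0)), (.v (nat_lit 1)), (.v (nat_lit 2)), (.v (nat_lit 3)), (.v (nat_lit 4)), (.v (nat_lit 5)), (.v (nat_lit 6)), (.v (nat_lit 7)), (.v (nat_lit 8)), (.v (nat_lit 9)), (.v (nat_lit 10)), (.v (nat_lit 11)), (.v (nat_lit 12)), (.mul (.v (nat_lit 1)) (.v (nat_lit 2))), (.mul (.mul (.v (nat_lit 9)) (.mul (.v (nat_lit 1)) (.v (nat_lit 2)))) (.inv (.v (nat_lit 9)))), (.mul (.mul (.inv (.v (nat_lit 9))) (.mul (.v (nat_lit 1)) (.v (nat_lit 2)))) (.v (nat_lit 9))), (.mul (.v (nat_lit 0)) (.v (nat_lit 2)))] (cs'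 := PH_cs) (by decide +kernel),
    tms_mem M.le [(.v (nat_lit 0)), (.v (nat_lit 1)), (.v (nat_lit 2)), (.v (nat_lit 3)), (.v (nat_lit 4)), (.v (nat_lit 5)), (.v (nat_lit 6)), (.v (nat_lit 7)), (.v (nat_lit 8)), (.v (nat_lit 9)), (.v (nat_lit 10)), (.v (nat_lit 11)), (.v (nat_lit 12)), (.mul (.v (nat_lit 1)) (.v (nat_lit 2))), (.mul (.mul (.v (nat_lit 9)) (.mul (.v (nat_lit 1)) (.v (nat_lit 2)))) (.inv (.v (nat_lit 9)))), (.mul (.mul (.inv (.v (nat_lit 9))) (.mul (.v (nat_lit 1)) (.v (nat_lit 2)))) (.v (nat_lit 9))), (.mul (.v (nat_lit 0)) (.v (nat_lit 2)))], M.H⟩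
noncomputable def PH_lJ : List ℕ := [(nat_lit 0x876543210), (nat_lit 0x876543021), (nat_lit 0x876354210), (nat_lit 0x687543210), (nat_lit 0x876543102), (nat_lit 0x876354021), (nat_lit 0x687543021), (nat_lit 0x876435210), (nat_lit 0x687354210), (nat_lit 0x768543210), (nat_lit 0x876354102), (nat_lit 0x687543102), (nat_lit 0x876435021), (nat_lit 0x687354021), (nat_lit 0x768543021), (nat_lit 0x687435210), (nat_lit 0x768354210), (nat_lit 0x876435102), (nat_lit 0x687354102), (nat_lit 0x768543102), (nat_lit 0x687435021), (nat_lit 0x768354021), (nat_lit 0x768435210), (nat_lit 0x687435102), (nat_lit 0x768354102), (nat_lit 0x768435021), (nat_lit 0x768435102)]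
noncomputable def PH_lJ_W : List (List ℕ) := [[],
  [(nat_lit 0)],
  [(nat_lit 1)],
  [(nat_lit 2)],
  [(nat_lit 0), (nat_lit 0)],
  [(nat_lit 0), (nat_lit 1)],
  [(nat_lit 0), (nat_lit 2)],
  [(nat_lit 1), (nat_lit 1)],
  [(nat_lit 1), (nat_lit 2)],
  [(nat_lit 2), (nat_lit 2)],
  [(nat_lit 0), (nat_lit 0), (nat_lit 1)],
  [(nat_lit 0), (nat_lit 0), (nat_lit 2)],
  [(nat_lit 0), (nat_lit 1), (nat_lit 1)],
  [(nat_lit 0), (nat_lit 1), (nat_lit 2)],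
  [(nat_lit 0), (nat_lit 2), (nat_lit 2)],
  [(nat_lit 1), (nat_lit 1), (nat_lit 2)],
  [(nat_lit 1), (nat_lit 2), (nat_lit 2)],
  [(nat_lit 0), (nat_lit 0), (nat_lit 1), (nat_lit 1)],
  [(nat_lit 0), (nat_lit 0), (nat_lit 1), (nat_lit 2)],
  [(nat_lit 0), (nat_lit 0), (nat_lit 2), (nat_lit 2)],
  [(nat_lit 0), (nat_lit 1), (nat_lit 1), (nat_lit 2)],
  [(nat_lit 0), (nat_lit 1), (nat_lit 2), (nat_lit 2)],
  [(nat_lit 1), (nat_lit 1), (nat_lit 2), (nat_lit 2)],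
  [(nat_lit 0), (nat_lit 0), (nat_lit 1), (nat_lit 1), (nat_lit 2)],
  [(nat_lit 0), (nat_lit 0), (nat_lit 1), (nat_lit 2), (nat_lit 2)],
  [(nat_lit 0), (nat_lit 1), (nat_lit 1), (nat_lit 2), (nat_lit 2)],
  [(nat_lit 0), (nat_lit 0), (nat_lit 1), (nat_lit 1), (nat_lit 2), (nat_lit 2)]]
noncomputable def PH_lJ_h (c : ℕ) : ℕ := Nat.mod c (nat_lit 98)
theorem PH_lJ_E {G : Type*} [Group G] {R : ℕ → G → Prop} {t c n a b e x z y r p o s : G} {H : Subgroup G}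
    (M : Mdl PF_o PH_cs PF_L R [t, c, n, a, a⁻¹, b, b⁻¹, e, e⁻¹, x, x⁻¹, z, y, r, p, o, s] H) :
    EnumS R PH_lJ (sp [a, b, e]) :=
  enumS_sp M.μ.1 (M.reps.tms M.μ.1 [(.v (nat_lit 3)), (.v (nat_lit 5)), (.v (nat_lit 7))] (cs' := [(nat_lit 0x876543021), (nat_lit 0x876354210), (nat_lit 0x687543210)]) (by decide +kernel))
    (Ws := PH_lJ_W) (by decide +kernel) (by decide +kernel)
theorem PH_lJ_c {G : Type*} [Group G] {R : ℕ → G → Prop} {t c n a b e x z y r p o s : G} {H : Subgroup G}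
    (M : Mdl PF_o PH_cs PF_L R [t, c, n, a, a⁻¹, b, b⁻¹, e, e⁻¹, x, x⁻¹, z, y, r, p, o, s] H) :
    #(sp [a, b, e]) = 27 :=
  (PH_lJ_E M).card M.μ (h := PH_lJ_h) (by decide +kernel)
noncomputable def PH_lU : List ℕ := [(nat_lit 0x876543210), (nat_lit 0x876543021), (nat_lit 0x876354210), (nat_lit 0x876543102), (nat_lit 0x876354021), (nat_lit 0x876435210), (nat_lit 0x876354102), (nat_lit 0x876435021), (nat_lit 0x876435102)]
noncomputable def PH_lU_W : List (List ℕ) := [[],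
  [(nat_lit 0)],
  [(nat_lit 1)],
  [(nat_lit 0), (nat_lit 0)],
  [(nat_lit 0), (nat_lit 1)],
  [(nat_lit 1), (nat_lit 1)],
  [(nat_lit 0), (nat_lit 0), (nat_lit 1)],
  [(nat_lit 0), (nat_lit 1), (nat_lit 1)],
  [(nat_lit 0), (nat_lit 0), (nat_lit 1), (nat_lit 1)]]
noncomputable def PH_lU_h (c : ℕ) : ℕ := Nat.mod c (nat_lit 19)
theorem PH_lU_E {G : Type*} [Group G] {R : ℕ → G → Prop} {t c n a b e x z y r p o s : G} {H : Subgroup G}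
    (M : Mdl PF_o PH_cs PF_L R [t, c, n, a, a⁻¹, b, b⁻¹, e, e⁻¹, x, x⁻¹, z, y, r, p, o, s] H) :
    EnumS R PH_lU (sp [a, b]) :=
  enumS_sp M.μ.1 (M.reps.tms M.μ.1 [(.v (nat_lit 3)), (.v (nat_lit 5))] (cs' := [(nat_lit 0x876543021), (nat_lit 0x876354210)]) (by decide +kernel))
    (Ws := PH_lU_W) (by decide +kernel) (by decide +kernel)
theorem PH_lU_c {G : Type*} [Group G] {R : ℕ → G → Prop} {t c n a b e x z y r p o s : G} {H : Subgroup G}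
    (M : Mdl PF_o PH_cs PF_L R [t, c, n, a, a⁻¹, b, b⁻¹, e, e⁻¹, x, x⁻¹, z, y, r, p, o, s] H) :
    #(sp [a, b]) = 9 :=
  (PH_lU_E M).card M.μ (h := PH_lU_h) (by decide +kernel)
noncomputable def PH_lF : List ℕ := [(nat_lit 0x876543210), (nat_lit 0x876354021), (nat_lit 0x687543210), (nat_lit 0x876435102), (nat_lit 0x687354021), (nat_lit 0x768543210), (nat_lit 0x687435102), (nat_lit 0x768354021), (nat_lit 0x768435102)]
noncomputable def PH_lF_W : List (List ℕ) := [[],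
  [(nat_lit 0)],
  [(nat_lit 1)],
  [(nat_lit 0), (nat_lit 0)],
  [(nat_lit 0), (nat_lit 1)],
  [(nat_lit 1), (nat_lit 1)],
  [(nat_lit 0), (nat_lit 0), (nat_lit 1)],
  [(nat_lit 0), (nat_lit 1), (nat_lit 1)],
  [(nat_lit 0), (nat_lit 0), (nat_lit 1), (nat_lit 1)]]
noncomputable def PH_lF_h (c : ℕ) : ℕ := Nat.mod c (nat_lit 13)
theorem PH_lF_E {G : Type*} [Group G] {R : ℕ → G → Prop} {t c n a b e x z y r p o s : G} {H : Subgroup G}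
    (M : Mdl PF_o PH_cs PF_L R [t, c, n, a, a⁻¹, b, b⁻¹, e, e⁻¹, x, x⁻¹, z, y, r, p, o, s] H) :
    EnumS R PH_lF (sp [a * b, e]) :=
  enumS_sp M.μ.1 (M.reps.tms M.μ.1 [(.mul (.v (nat_lit 3)) (.v (nat_lit 5))), (.v (nat_lit 7))] (cs' := [(nat_lit 0x876354021), (nat_lit 0x687543210)]) (by decide +kernel))
    (Ws := PH_lF_W) (by decide +kernel) (by decide +kernel)
theorem PH_lF_c {G : Type*} [Group G] {R : ℕ → G → Prop} {t c n a b e x z y r p o s : G} {H : Subgroup G}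
    (M : Mdl PF_o PH_cs PF_L R [t, c, n, a, a⁻¹, b, b⁻¹, e, e⁻¹, x, x⁻¹, z, y, r, p, o, s] H) :
    #(sp [a * b, e]) = 9 :=
  (PH_lF_E M).card M.μ (h := PH_lF_h) (by decide +kernel)
noncomputable def PH_lL : List ℕ := [(nat_lit 0x876543210), (nat_lit 0x876435021), (nat_lit 0x687543210), (nat_lit 0x876354102), (nat_lit 0x687435021), (nat_lit 0x768543210), (nat_lit 0x687354102), (nat_lit 0x768435021), (nat_lit 0x768354102)]
noncomputable def PH_lL_W : List (List ℕ) := [[],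
  [(nat_lit 0)],
  [(nat_lit 1)],
  [(nat_lit 0), (nat_lit 0)],
  [(nat_lit 0), (nat_lit 1)],
  [(nat_lit 1), (nat_lit 1)],
  [(nat_lit 0), (nat_lit 0), (nat_lit 1)],
  [(nat_lit 0), (nat_lit 1), (nat_lit 1)],
  [(nat_lit 0), (nat_lit 0), (nat_lit 1), (nat_lit 1)]]
noncomputable def PH_lL_h (c : ℕ) : ℕ := Nat.mod c (nat_lit 31)
theorem PH_lL_E {G : Type*} [Group G] {R : ℕ → G → Prop} {t c n a b e x z y r p o s : G} {H : Subgroup G}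
    (M : Mdl PF_o PH_cs PF_L R [t, c, n, a, a⁻¹, b, b⁻¹, e, e⁻¹, x, x⁻¹, z, y, r, p, o, s] H) :
    EnumS R PH_lL (sp [y, e]) :=
  enumS_sp M.μ.1 (M.reps.tms M.μ.1 [(.v (nat_lit 12)), (.v (nat_lit 7))] (cs' := [(nat_lit 0x876435021), (nat_lit 0x687543210)]) (by decide +kernel))
    (Ws := PH_lL_W) (by decide +kernel) (by decide +kernel)
theorem PH_lL_c {G : Type*} [Group G] {R : ℕ → G → Prop} {t c n a b e x z y r p o s : G} {H : Subgroup G}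
    (M : Mdl PF_o PH_cs PF_L R [t, c, n, a, a⁻¹, b, b⁻¹, e, e⁻¹, x, x⁻¹, z, y, r, p, o, s] H) :
    #(sp [y, e]) = 9 :=
  (PH_lL_E M).card M.μ (h := PH_lL_h) (by decide +kernel)
noncomputable def PH_lE : List ℕ := [(nat_lit 0x876543210), (nat_lit 0x687543210), (nat_lit 0x768543210)]
noncomputable def PH_lE_W : List (List ℕ) := [[],
  [(nat_lit 0)],
  [(nat_lit 0), (nat_lit 0)]]
noncomputable def PH_lE_h (c : ℕ) : ℕ := Nat.mod c (nat_lit 7)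
theorem PH_lE_E {G : Type*} [Group G] {R : ℕ → G → Prop} {t c n a b e x z y r p o s : G} {H : Subgroup G}
    (M : Mdl PF_o PH_cs PF_L R [t, c, n, a, a⁻¹, b, b⁻¹, e, e⁻¹, x, x⁻¹, z, y, r, p, o, s] H) :
    EnumS R PH_lE (sp [e]) :=
  enumS_sp M.μ.1 (M.reps.tms M.μ.1 [(.v (nat_lit 7))] (cs' := [(nat_lit 0x687543210)]) (by decide +kernel))
    (Ws := PH_lE_W) (by decide +kernel) (by decide +kernel)
theorem PH_lE_c {G : Type*} [Group G] {R : ℕ → G → Prop} {t c n a b e x z y r p o s : G} {H : Subgroup G}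
    (M : Mdl PF_o PH_cs PF_L R [t, c, n, a, a⁻¹, b, b⁻¹, e, e⁻¹, x, x⁻¹, z, y, r, p, o, s] H) :
    #(sp [e]) = 3 :=
  (PH_lE_E M).card M.μ (h := PH_lE_h) (by decide +kernel)
noncomputable def PH_lZ : List ℕ := [(nat_lit 0x876543210), (nat_lit 0x687354021), (nat_lit 0x768435102)]
noncomputable def PH_lZ_W : List (List ℕ) := [[],
  [(nat_lit 0)],
  [(nat_lit 0), (nat_lit 0)]]
noncomputable def PH_lZ_h (c : ℕ) : ℕ := Nat.mod c (nat_lit 4)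
theorem PH_lZ_E {G : Type*} [Group G] {R : ℕ → G → Prop} {t c n a b e x z y r p o s : G} {H : Subgroup G}
    (M : Mdl PF_o PH_cs PF_L R [t, c, n, a, a⁻¹, b, b⁻¹, e, e⁻¹, x, x⁻¹, z, y, r, p, o, s] H) :
    EnumS R PH_lZ (sp [z]) :=
  enumS_sp M.μ.1 (M.reps.tms M.μ.1 [(.v (nat_lit 11))] (cs' := [(nat_lit 0x687354021)]) (by decide +kernel))
    (Ws := PH_lZ_W) (by decide +kernel) (by decide +kernel)
theorem PH_lZ_c {G : Type*} [Group G] {R : ℕ → G → Prop} {t c n a b e x z y r p o s : G} {H : Subgroup G}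
    (M : Mdl PF_o PH_cs PF_L R [t, c, n, a, a⁻¹, b, b⁻¹, e, e⁻¹, x, x⁻¹, z, y, r, p, o, s] H) :
    #(sp [z]) = 3 :=
  (PH_lZ_E M).card M.μ (h := PH_lZ_h) (by decide +kernel)
noncomputable def PH_lY : List ℕ := [(nat_lit 0x876543210), (nat_lit 0x876435021), (nat_lit 0x876354102)]
noncomputable def PH_lY_W : List (List ℕ) := [[],
  [(nat_lit 0)],
  [(nat_lit 0), (nat_lit 0)]]
noncomputable def PH_lY_h (c : ℕ) : ℕ := Nat.mod c (nat_lit 4)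
theorem PH_lY_E {G : Type*} [Group G] {R : ℕ → G → Prop} {t c n a b e x z y r p o s : G} {H : Subgroup G}
    (M : Mdl PF_o PH_cs PF_L R [t, c, n, a, a⁻¹, b, b⁻¹, e, e⁻¹, x, x⁻¹, z, y, r, p, o, s] H) :
    EnumS R PH_lY (sp [y]) :=
  enumS_sp M.μ.1 (M.reps.tms M.μ.1 [(.v (nat_lit 12))] (cs' := [(nat_lit 0x876435021)]) (by decide +kernel))
    (Ws := PH_lY_W) (by decide +kernel) (by decide +kernel)
theorem PH_lY_c {G : Type*} [Group G] {R : ℕ → G → Prop} {t c n a b e x z y r p o s : G} {H : Subgroup G}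
    (M : Mdl PF_o PH_cs PF_L R [t, c, n, a, a⁻¹, b, b⁻¹, e, e⁻¹, x, x⁻¹, z, y, r, p, o, s] H) :
    #(sp [y]) = 3 :=
  (PH_lY_E M).card M.μ (h := PH_lY_h) (by decide +kernel)
noncomputable def PH_lB : List ℕ := [(nat_lit 0x876543210), (nat_lit 0x876543021), (nat_lit 0x876354210), (nat_lit 0x876543120), (nat_lit 0x876453210), (nat_lit 0x876210543), (nat_lit 0x876543102), (nat_lit 0x876354021), (nat_lit 0x876543012), (nat_lit 0x876453021), (nat_lit 0x876210354), (nat_lit 0x876435210), (nat_lit 0x876354120), (nat_lit 0x876345210), (nat_lit 0x876021543), (nat_lit 0x876543201), (nat_lit 0x876453120), (nat_lit 0x876210453), (nat_lit 0x876534210), (nat_lit 0x876120543), (nat_lit 0x876354102), (nat_lit 0x876453102), (nat_lit 0x876210435), (nat_lit 0x876435021), (nat_lit 0x876354012), (nat_lit 0x876345021), (nat_lit 0x876021354), (nat_lit 0x876453012),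 (nat_lit 0x876210345), (nat_lit 0x876534021), (nat_lit 0x876120354), (nat_lit 0x876435120), (nat_lit 0x876102543), (nat_lit 0x876354201), (nat_lit 0x876345120), (nat_lit 0x876021453), (nat_lit 0x876012543), (nat_lit 0x876453201), (nat_lit 0x876210534), (nat_lit 0x876534120), (nat_lit 0x876120453), (nat_lit 0x876201543), (nat_lit 0x876435102), (nat_lit 0x876345102), (nat_lit 0x876021435), (nat_lit 0x876534102), (nat_lit 0x876120435), (nat_lit 0x876435012), (nat_lit 0x876102354), (nat_lit 0x876345012), (nat_lit 0x876021345), (nat_lit 0x876012354), (nat_lit 0x876534012), (nat_lit 0x876120345), (nat_lit 0x876201354), (nat_lit 0x876435201), (nat_lit 0x876102453), (nat_lit 0x876345201), (nat_lit 0x876021534), (nat_lit 0x876012453), (nat_lit 0x876534201), (nat_lit 0x876120534), (nat_lit 0x876201453), (nat_lit 0x876102435), (nat_lit 0x876012435), (nat_lit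 0x876201435), (nat_lit 0x876102345), (nat_lit 0x876012345), (nat_lit 0x876201345), (nat_lit 0x876102534), (nat_lit 0x876012534), (nat_lit 0x876201534)]
noncomputable def PH_lB_W : List (List ℕ) := [[],
  [(nat_lit 0)],
  [(nat_lit 1)],
  [(nat_lit 2)],
  [(nat_lit 3)],
  [(nat_lit 4)],
  [(nat_lit 0), (nat_lit 0)],
  [(nat_lit 0), (nat_lit 1)],
  [(nat_lit 0), (nat_lit 2)],
  [(nat_lit 0), (nat_lit 3)],
  [(nat_lit 0), (nat_lit 4)],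
  [(nat_lit 1), (nat_lit 1)],
  [(nat_lit 1), (nat_lit 2)],
  [(nat_lit 1), (nat_lit 3)],
  [(nat_lit 1), (nat_lit 4)],
  [(nat_lit 2), (nat_lit 0)],
  [(nat_lit 2), (nat_lit 3)],
  [(nat_lit 2), (nat_lit 4)],
  [(nat_lit 3), (nat_lit 1)],
  [(nat_lit 3), (nat_lit 4)],
  [(nat_lit 0), (nat_lit 0), (nat_lit 1)],
  [(nat_lit 0), (nat_lit 0), (nat_lit 3)],
  [(nat_lit 0), (nat_lit 0), (nat_lit 4)],
  [(nat_lit 0), (nat_lit 1), (nat_lit 1)],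
  [(nat_lit 0), (nat_lit 1), (nat_lit 2)],
  [(nat_lit 0), (nat_lit 1), (nat_lit 3)],
  [(nat_lit 0), (nat_lit 1), (nat_lit 4)],
  [(nat_lit 0), (nat_lit 2), (nat_lit 3)],
  [(nat_lit 0), (nat_lit 2), (nat_lit 4)],
  [(nat_lit 0), (nat_lit 3), (nat_lit 1)],
  [(nat_lit 0), (nat_lit 3), (nat_lit 4)],
  [(nat_lit 1), (nat_lit 1), (nat_lit 2)],
  [(nat_lit 1), (nat_lit 1), (nat_lit 4)],
  [(nat_lit 1), (nat_lit 2), (nat_lit 0)],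
  [(nat_lit 1), (nat_lit 2), (nat_lit 3)],
  [(nat_lit 1), (nat_lit 2), (nat_lit 4)],
  [(nat_lit 1), (nat_lit 3), (nat_lit 4)],
  [(nat_lit 2), (nat_lit 0), (nat_lit 3)],
  [(nat_lit 2), (nat_lit 0), (nat_lit 4)],
  [(nat_lit 2), (nat_lit 3), (nat_lit 1)],
  [(nat_lit 2), (nat_lit 3), (nat_lit 4)],
  [(nat_lit 3), (nat_lit 1), (nat_lit 4)],
  [(nat_lit 0), (nat_lit 0), (nat_lit 1), (nat_lit 1)],
  [(nat_lit 0), (nat_lit 0), (nat_lit 1), (nat_lit 3)],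
  [(nat_lit 0), (nat_lit 0), (nat_lit 1), (nat_lit 4)],
  [(nat_lit 0), (nat_lit 0), (nat_lit 3), (nat_lit 1)],
  [(nat_lit 0), (nat_lit 0), (nat_lit 3), (nat_lit 4)],
  [(nat_lit 0), (nat_lit 1), (nat_lit 1), (nat_lit 2)],
  [(nat_lit 0), (nat_lit 1), (nat_lit 1), (nat_lit 4)],
  [(nat_lit 0), (nat_lit 1), (nat_lit 2), (nat_lit 3)],
  [(nat_lit 0), (nat_lit 1), (nat_lit 2), (nat_lit 4)],
  [(nat_lit 0), (nat_lit 1), (nat_lit 3), (nat_lit 4)],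
  [(nat_lit 0), (nat_lit 2), (nat_lit 3), (nat_lit 1)],
  [(nat_lit 0), (nat_lit 2), (nat_lit 3), (nat_lit 4)],
  [(nat_lit 0), (nat_lit 3), (nat_lit 1), (nat_lit 4)],
  [(nat_lit 1), (nat_lit 1), (nat_lit 2), (nat_lit 0)],
  [(nat_lit 1), (nat_lit 1), (nat_lit 2), (nat_lit 4)],
  [(nat_lit 1), (nat_lit 2), (nat_lit 0), (nat_lit 3)],
  [(nat_lit 1), (nat_lit 2), (nat_lit 0), (nat_lit 4)],
  [(nat_lit 1), (nat_lit 2), (nat_lit 3), (nat_lit 4)],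
  [(nat_lit 2), (nat_lit 0), (nat_lit 3), (nat_lit 1)],
  [(nat_lit 2), (nat_lit 0), (nat_lit 3), (nat_lit 4)],
  [(nat_lit 2), (nat_lit 3), (nat_lit 1), (nat_lit 4)],
  [(nat_lit 0), (nat_lit 0), (nat_lit 1), (nat_lit 1), (nat_lit 4)],
  [(nat_lit 0), (nat_lit 0), (nat_lit 1), (nat_lit 3), (nat_lit 4)],
  [(nat_lit 0), (nat_lit 0), (nat_lit 3), (nat_lit 1), (nat_lit 4)],
  [(nat_lit 0), (nat_lit 1), (nat_lit 1), (nat_lit 2), (nat_lit 4)],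
  [(nat_lit 0), (nat_lit 1), (nat_lit 2), (nat_lit 3), (nat_lit 4)],
  [(nat_lit 0), (nat_lit 2), (nat_lit 3), (nat_lit 1), (nat_lit 4)],
  [(nat_lit 1), (nat_lit 1), (nat_lit 2), (nat_lit 0), (nat_lit 4)],
  [(nat_lit 1), (nat_lit 2), (nat_lit 0), (nat_lit 3), (nat_lit 4)],
  [(nat_lit 2), (nat_lit 0), (nat_lit 3), (nat_lit 1), (nat_lit 4)]]
noncomputable def PH_lB_h (c : ℕ) : ℕ := Nat.mod c (nat_lit 262)
theorem PH_lB_E {G : Type*} [Group G] {R : ℕ → G → Prop} {t c n a b e x z y r p o s : G} {H : Subgroup G}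
    (M : Mdl PF_o PH_cs PF_L R [t, c, n, a, a⁻¹, b, b⁻¹, e, e⁻¹, x, x⁻¹, z, y, r, p, o, s] H) :
    EnumS R PH_lB (sp [a, b, p, o, t]) :=
  enumS_sp M.μ.1 (M.reps.tms M.μ.1 [(.v (nat_lit 3)), (.v (nat_lit 5)), (.v (nat_lit 14)), (.v (nat_lit 15)), (.v (nat_lit 0))] (cs' := [(nat_lit 0x876543021), (nat_lit 0x876354210), (nat_lit 0x876543120), (nat_lit 0x876453210), (nat_lit 0x876210543)]) (by decide +kernel))
    (Ws := PH_lB_W) (by decide +kernel) (by decide +kernel)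
theorem PH_lB_c {G : Type*} [Group G] {R : ℕ → G → Prop} {t c n a b e x z y r p o s : G} {H : Subgroup G}
    (M : Mdl PF_o PH_cs PF_L R [t, c, n, a, a⁻¹, b, b⁻¹, e, e⁻¹, x, x⁻¹, z, y, r, p, o, s] H) :
    #(sp [a, b, p, o, t]) = 72 :=
  (PH_lB_E M).card M.μ (h := PH_lB_h) (by decide +kernel)
noncomputable def PH_lCT : List ℕ := [(nat_lit 0x876543210), (nat_lit 0x876354021), (nat_lit 0x687543210), (nat_lit 0x876210543), (nat_lit 0x876453120), (nat_lit 0x786543210), (nat_lit 0x876435102), (nat_lit 0x687354021), (nat_lit 0x876021354), (nat_lit 0x876345012), (nat_lit 0x786354021), (nat_lit 0x768543210), (nat_lit 0x687210543), (nat_lit 0x687453120), (nat_lit 0x678543210), (nat_lit 0x876120453), (nat_lit 0x786210543), (nat_lit 0x876534201), (nat_lit 0x786453120), (nat_lit 0x867543210), (nat_lit 0x687435102), (nat_lit 0x876102435), (nat_lit 0x786435102),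 (nat_lit 0x768354021), (nat_lit 0x687021354), (nat_lit 0x687345012), (nat_lit 0x678354021), (nat_lit 0x876012345), (nat_lit 0x786021354), (nat_lit 0x786345012), (nat_lit 0x867354021), (nat_lit 0x768210543), (nat_lit 0x768453120), (nat_lit 0x687120453), (nat_lit 0x678210543), (nat_lit 0x687534201), (nat_lit 0x678453120), (nat_lit 0x876201534), (nat_lit 0x786120453), (nat_lit 0x867210543), (nat_lit 0x786534201), (nat_lit 0x867453120), (nat_lit 0x768435102), (nat_lit 0x687102435), (nat_lit 0x678435102), (nat_lit 0x786102435), (nat_lit 0x867435102), (nat_lit 0x768021354), (nat_lit 0x768345012), (nat_lit 0x687012345), (nat_lit 0x678021354), (nat_lit 0x678345012), (nat_lit 0x786012345), (nat_lit 0x867021354), (nat_lit 0x867345012), (nat_lit 0x768120453), (nat_lit 0x768534201), (nat_lit 0x687201534), (nat_lit 0x678120453), (nat_lit 0x678534201), (nat_lit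 0x786201534), (nat_lit 0x867120453), (nat_lit 0x867534201), (nat_lit 0x768102435), (nat_lit 0x678102435), (nat_lit 0x867102435), (nat_lit 0x768012345), (nat_lit 0x678012345), (nat_lit 0x867012345), (nat_lit 0x768201534), (nat_lit 0x678201534), (nat_lit 0x867201534)]
noncomputable def PH_lCT_W : List (List ℕ) := [[],
  [(nat_lit 0)],
  [(nat_lit 1)],
  [(nat_lit 2)],
  [(nat_lit 3)],
  [(nat_lit 4)],
  [(nat_lit 0), (nat_lit 0)],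
  [(nat_lit 0), (nat_lit 1)],
  [(nat_lit 0), (nat_lit 2)],
  [(nat_lit 0), (nat_lit 3)],
  [(nat_lit 0), (nat_lit 4)],
  [(nat_lit 1), (nat_lit 1)],
  [(nat_lit 1), (nat_lit 2)],
  [(nat_lit 1), (nat_lit 3)],
  [(nat_lit 1), (nat_lit 4)],
  [(nat_lit 2), (nat_lit 3)],
  [(nat_lit 2), (nat_lit 4)],
  [(nat_lit 3), (nat_lit 0)],
  [(nat_lit 3), (nat_lit 4)],
  [(nat_lit 4), (nat_lit 1)],
  [(nat_lit 0), (nat_lit 0), (nat_lit 1)],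
  [(nat_lit 0), (nat_lit 0), (nat_lit 2)],
  [(nat_lit 0), (nat_lit 0), (nat_lit 4)],
  [(nat_lit 0), (nat_lit 1), (nat_lit 1)],
  [(nat_lit 0), (nat_lit 1), (nat_lit 2)],
  [(nat_lit 0), (nat_lit 1), (nat_lit 3)],
  [(nat_lit 0), (nat_lit 1), (nat_lit 4)],
  [(nat_lit 0), (nat_lit 2), (nat_lit 3)],
  [(nat_lit 0), (nat_lit 2), (nat_lit 4)],
  [(nat_lit 0), (nat_lit 3), (nat_lit 4)],
  [(nat_lit 0), (nat_lit 4), (nat_lit 1)],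
  [(nat_lit 1), (nat_lit 1), (nat_lit 2)],
  [(nat_lit 1), (nat_lit 1), (nat_lit 3)],
  [(nat_lit 1), (nat_lit 2), (nat_lit 3)],
  [(nat_lit 1), (nat_lit 2), (nat_lit 4)],
  [(nat_lit 1), (nat_lit 3), (nat_lit 0)],
  [(nat_lit 1), (nat_lit 3), (nat_lit 4)],
  [(nat_lit 2), (nat_lit 3), (nat_lit 0)],
  [(nat_lit 2), (nat_lit 3), (nat_lit 4)],
  [(nat_lit 2), (nat_lit 4), (nat_lit 1)],
  [(nat_lit 3), (nat_lit 0), (nat_lit 4)],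
  [(nat_lit 3), (nat_lit 4), (nat_lit 1)],
  [(nat_lit 0), (nat_lit 0), (nat_lit 1), (nat_lit 1)],
  [(nat_lit 0), (nat_lit 0), (nat_lit 1), (nat_lit 2)],
  [(nat_lit 0), (nat_lit 0), (nat_lit 1), (nat_lit 4)],
  [(nat_lit 0), (nat_lit 0), (nat_lit 2), (nat_lit 4)],
  [(nat_lit 0), (nat_lit 0), (nat_lit 4), (nat_lit 1)],
  [(nat_lit 0), (nat_lit 1), (nat_lit 1), (nat_lit 2)],
  [(nat_lit 0), (nat_lit 1), (nat_lit 1), (nat_lit 3)],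
  [(nat_lit 0), (nat_lit 1), (nat_lit 2), (nat_lit 3)],
  [(nat_lit 0), (nat_lit 1), (nat_lit 2), (nat_lit 4)],
  [(nat_lit 0), (nat_lit 1), (nat_lit 3), (nat_lit 4)],
  [(nat_lit 0), (nat_lit 2), (nat_lit 3), (nat_lit 4)],
  [(nat_lit 0), (nat_lit 2), (nat_lit 4), (nat_lit 1)],
  [(nat_lit 0), (nat_lit 3), (nat_lit 4), (nat_lit 1)],
  [(nat_lit 1), (nat_lit 1), (nat_lit 2), (nat_lit 3)],
  [(nat_lit 1), (nat_lit 1), (nat_lit 3), (nat_lit 0)],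
  [(nat_lit 1), (nat_lit 2), (nat_lit 3), (nat_lit 0)],
  [(nat_lit 1), (nat_lit 2), (nat_lit 3), (nat_lit 4)],
  [(nat_lit 1), (nat_lit 3), (nat_lit 0), (nat_lit 4)],
  [(nat_lit 2), (nat_lit 3), (nat_lit 0), (nat_lit 4)],
  [(nat_lit 2), (nat_lit 3), (nat_lit 4), (nat_lit 1)],
  [(nat_lit 3), (nat_lit 0), (nat_lit 4), (nat_lit 1)],
  [(nat_lit 0), (nat_lit 0), (nat_lit 1), (nat_lit 1), (nat_lit 2)],
  [(nat_lit 0), (nat_lit 0), (nat_lit 1), (nat_lit 2), (nat_lit 4)],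
  [(nat_lit 0), (nat_lit 0), (nat_lit 2), (nat_lit 4), (nat_lit 1)],
  [(nat_lit 0), (nat_lit 1), (nat_lit 1), (nat_lit 2), (nat_lit 3)],
  [(nat_lit 0), (nat_lit 1), (nat_lit 2), (nat_lit 3), (nat_lit 4)],
  [(nat_lit 0), (nat_lit 2), (nat_lit 3), (nat_lit 4), (nat_lit 1)],
  [(nat_lit 1), (nat_lit 1), (nat_lit 2), (nat_lit 3), (nat_lit 0)],
  [(nat_lit 1), (nat_lit 2), (nat_lit 3), (nat_lit 0), (nat_lit 4)],
  [(nat_lit 2), (nat_lit 3), (nat_lit 0), (nat_lit 4), (nat_lit 1)]]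
noncomputable def PH_lCT_h (c : ℕ) : ℕ := Nat.mod c (nat_lit 571)
theorem PH_lCT_E {G : Type*} [Group G] {R : ℕ → G → Prop} {t c n a b e x z y r p o s : G} {H : Subgroup G}
    (M : Mdl PF_o PH_cs PF_L R [t, c, n, a, a⁻¹, b, b⁻¹, e, e⁻¹, x, x⁻¹, z, y, r, p, o, s] H) :
    EnumS R PH_lCT (sp [a * b, e, t, c, r]) :=
  enumS_sp M.μ.1 (M.reps.tms M.μ.1 [(.mul (.v (nat_lit 3)) (.v (nat_lit 5))), (.v (nat_lit 7)), (.v (nat_lit 0)), (.v (nat_lit 1)), (.v (nat_lit 13))] (cs' := [(nat_lit 0x876354021), (nat_lit 0x687543210), (nat_lit 0x876210543), (nat_lit 0x876453120), (nat_lit 0x786543210)]) (by decide +kernel))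
    (Ws := PH_lCT_W) (by decide +kernel) (by decide +kernel)
theorem PH_lCT_c {G : Type*} [Group G] {R : ℕ → G → Prop} {t c n a b e x z y r p o s : G} {H : Subgroup G}
    (M : Mdl PF_o PH_cs PF_L R [t, c, n, a, a⁻¹, b, b⁻¹, e, e⁻¹, x, x⁻¹, z, y, r, p, o, s] H) :
    #(sp [a * b, e, t, c, r]) = 72 :=
  (PH_lCT_E M).card M.μ (h := PH_lCT_h) (by decide +kernel)
noncomputable def PH_lV : List ℕ := [(nat_lit 0x876543210), (nat_lit 0x876210543), (nat_lit 0x876453120), (nat_lit 0x786543210), (nat_lit 0x876120453), (nat_lit 0x786210543), (nat_lit 0x786453120), (nat_lit 0x786120453)]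
noncomputable def PH_lV_W : List (List ℕ) := [[],
  [(nat_lit 0)],
  [(nat_lit 1)],
  [(nat_lit 2)],
  [(nat_lit 0), (nat_lit 1)],
  [(nat_lit 0), (nat_lit 2)],
  [(nat_lit 1), (nat_lit 2)],
  [(nat_lit 0), (nat_lit 1), (nat_lit 2)]]
noncomputable def PH_lV_h (c : ℕ) : ℕ := Nat.mod c (nat_lit 14)
theorem PH_lV_E {G : Type*} [Group G] {R : ℕ → G → Prop} {t c n a b e x z y r p o s : G} {H : Subgroup G}
    (M : Mdl PF_o PH_cs PF_L R [t, c, n, a, a⁻¹, b, b⁻¹, e, e⁻¹, x, x⁻¹, z, y, r, p, o, s] H) :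
    EnumS R PH_lV (sp [t, c, r]) :=
  enumS_sp M.μ.1 (M.reps.tms M.μ.1 [(.v (nat_lit 0)), (.v (nat_lit 1)), (.v (nat_lit 13))] (cs' := [(nat_lit 0x876210543), (nat_lit 0x876453120), (nat_lit 0x786543210)]) (by decide +kernel))
    (Ws := PH_lV_W) (by decide +kernel) (by decide +kernel)
theorem PH_lV_c {G : Type*} [Group G] {R : ℕ → G → Prop} {t c n a b e x z y r p o s : G} {H : Subgroup G}
    (M : Mdl PF_o PH_cs PF_L R [t, c, n, a, a⁻¹, b, b⁻¹, e, e⁻¹, x, x⁻¹, z, y, r, p, o, s] H) :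
    #(sp [t, c, r]) = 8 :=
  (PH_lV_E M).card M.μ (h := PH_lV_h) (by decide +kernel)
noncomputable def PH_lT : List ℕ := [(nat_lit 0x876543210), (nat_lit 0x876210543), (nat_lit 0x876543120), (nat_lit 0x876453210), (nat_lit 0x786543210), (nat_lit 0x876120543), (nat_lit 0x876210453), (nat_lit 0x786210543), (nat_lit 0x876453120), (nat_lit 0x786543120), (nat_lit 0x786453210), (nat_lit 0x876120453), (nat_lit 0x786120543), (nat_lit 0x786210453), (nat_lit 0x786453120), (nat_lit 0x786120453)]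
noncomputable def PH_lT_W : List (List ℕ) := [[],
  [(nat_lit 0)],
  [(nat_lit 1)],
  [(nat_lit 2)],
  [(nat_lit 3)],
  [(nat_lit 0), (nat_lit 1)],
  [(nat_lit 0), (nat_lit 2)],
  [(nat_lit 0), (nat_lit 3)],
  [(nat_lit 1), (nat_lit 2)],
  [(nat_lit 1), (nat_lit 3)],
  [(nat_lit 2), (nat_lit 3)],
  [(nat_lit 0), (nat_lit 1), (nat_lit 2)],
  [(nat_lit 0), (nat_lit 1), (nat_lit 3)],
  [(nat_lit 0), (nat_lit 2), (nat_lit 3)],
  [(nat_lit 1), (nat_lit 2), (nat_lit 3)],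
  [(nat_lit 0), (nat_lit 1), (nat_lit 2), (nat_lit 3)]]
noncomputable def PH_lT_h (c : ℕ) : ℕ := Nat.mod c (nat_lit 47)
theorem PH_lT_E {G : Type*} [Group G] {R : ℕ → G → Prop} {t c n a b e x z y r p o s : G} {H : Subgroup G}
    (M : Mdl PF_o PH_cs PF_L R [t, c, n, a, a⁻¹, b, b⁻¹, e, e⁻¹, x, x⁻¹, z, y, r, p, o, s] H) :
    EnumS R PH_lT (sp [t, p, o, r]) :=
  enumS_sp M.μ.1 (M.reps.tms M.μ.1 [(.v (nat_lit 0)), (.v (nat_lit 14)), (.v (nat_lit 15)), (.v (nat_lit 13))] (cs' := [(nat_lit 0x876210543), (nat_lit 0x876543120), (nat_lit 0x876453210), (nat_lit 0x786543210)]) (by decide +kernel))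
    (Ws := PH_lT_W) (by decide +kernel) (by decide +kernel)
theorem PH_lT_c {G : Type*} [Group G] {R : ℕ → G → Prop} {t c n a b e x z y r p o s : G} {H : Subgroup G}
    (M : Mdl PF_o PH_cs PF_L R [t, c, n, a, a⁻¹, b, b⁻¹, e, e⁻¹, x, x⁻¹, z, y, r, p, o, s] H) :
    #(sp [t, p, o, r]) = 16 :=
  (PH_lT_E M).card M.μ (h := PH_lT_h) (by decide +kernel)
noncomputable def PH_lX : List ℕ := [(nat_lit 0x876543210), (nat_lit 0x876210453), (nat_lit 0x786543120), (nat_lit 0x876453120), (nat_lit 0x786120453), (nat_lit 0x786210543), (nat_lit 0x876120543), (nat_lit 0x786453210)]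
noncomputable def PH_lX_W : List (List ℕ) := [[],
  [(nat_lit 0)],
  [(nat_lit 1)],
  [(nat_lit 0), (nat_lit 0)],
  [(nat_lit 0), (nat_lit 1)],
  [(nat_lit 1), (nat_lit 0)],
  [(nat_lit 0), (nat_lit 0), (nat_lit 0)],
  [(nat_lit 0), (nat_lit 0), (nat_lit 1)]]
noncomputable def PH_lX_h (c : ℕ) : ℕ := Nat.mod c (nat_lit 11)
theorem PH_lX_E {G : Type*} [Group G] {R : ℕ → G → Prop} {t c n a b e x z y r p o s : G} {H : Subgroup G}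
    (M : Mdl PF_o PH_cs PF_L R [t, c, n, a, a⁻¹, b, b⁻¹, e, e⁻¹, x, x⁻¹, z, y, r, p, o, s] H) :
    EnumS R PH_lX (sp [t * p, p * r]) :=
  enumS_sp M.μ.1 (M.reps.tms M.μ.1 [(.mul (.v (nat_lit 0)) (.v (nat_lit 14))), (.mul (.v (nat_lit 14)) (.v (nat_lit 13)))] (cs' := [(nat_lit 0x876210453), (nat_lit 0x786543120)]) (by decide +kernel))
    (Ws := PH_lX_W) (by decide +kernel) (by decide +kernel)
theorem PH_lX_c {G : Type*} [Group G] {R : ℕ → G → Prop} {t c n a b e x z y r p o s : G} {H : Subgroup G}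
    (M : Mdl PF_o PH_cs PF_L R [t, c, n, a, a⁻¹, b, b⁻¹, e, e⁻¹, x, x⁻¹, z, y, r, p, o, s] H) :
    #(sp [t * p, p * r]) = 8 :=
  (PH_lX_E M).card M.μ (h := PH_lX_h) (by decide +kernel)
noncomputable def PH_rc_f_F : Fm := (.qf (.and (.eq (.mul (.v (nat_lit 1)) (.v (nat_lit 1))) .one) (.and (.eq (.mul (.v (nat_lit 0)) (.v (nat_lit 1))) (.mul (.v (nat_lit 1)) (.v (nat_lit 0)))) (.and (.eq (.mul (.v (nat_lit 1)) (.v (nat_lit 7))) (.mul (.v (nat_lit 7)) (.v (nat_lit 1)))) (.and (.eq (.mul (.mul (.v (nat_lit 1)) (.v (nat_lit 3))) (.inv (.v (nat_lit 1)))) (.inv (.v (nat_lit 3)))) (.and (.eq (.mul (.mul (.v (nat_lit 1)) (.v (nat_lit 5))) (.inv (.v (nat_lit 1)))) (.inv (.v (nat_lit 5)))) (.eq (.pw (.mul (.v (nat_lit 1)) (.v (nat_lit 9))) (nat_lit 3)) .one)))))))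
theorem PH_rc_f_chk : Fm.chk PF_o PH_rc_f_F PH_cs = true := by decide +kernel
theorem PH_rc_f {G : Type*} [Group G] {R : ℕ → G → Prop} {t c n a b e x z y r p o s : G} {H : Subgroup G}
    (M : Mdl PF_o PH_cs PF_L R [t, c, n, a, a⁻¹, b, b⁻¹, e, e⁻¹, x, x⁻¹, z, y, r, p, o, s] H) :
    c * c = 1 ∧ t * c = c * t ∧ c * e = e * c ∧ c * a * c⁻¹ = a⁻¹ ∧ c * b * c⁻¹ = b⁻¹ ∧ (c * x) ^ 3 = 1 :=
  Fm.sound M.μ PH_rc_f_F PH_rc_f_chk M.reps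
theorem PH_rc {G : Type*} [Group G] {R : ℕ → G → Prop} {t c n a b e x z y r p o s : G} {H : Subgroup G}
    (M : Mdl PF_o PH_cs PF_L R [t, c, n, a, a⁻¹, b, b⁻¹, e, e⁻¹, x, x⁻¹, z, y, r, p, o, s] H) :
    C1 a b e x t c :=
  have h := PH_rc_f M
  ⟨h.1, h.2.1, h.2.2.1, h.2.2.2.1, h.2.2.2.2.1, h.2.2.2.2.2, trivial⟩
noncomputable def PH_rn_f_F : Fm := (.qf (.and (.eq (.mul (.v (nat_lit 2)) (.v (nat_lit 2))) .one) (.and (.eq (.mul (.mul (.v (nat_lit 2)) (.v (nat_lit 3))) (.inv (.v (nat_lit 2)))) (.inv (.v (nat_lit 3)))) (.and (.eq (.mul (.mul (.v (nat_lit 2)) (.v (nat_lit 5))) (.inv (.v (nat_lit 2)))) (.inv (.v (nat_lit 5)))) (.and (.eq (.mul (.mul (.v (nat_lit 2)) (.v (nat_lit 7))) (.inv (.v (nat_lit 2)))) (.inv (.v (nat_lit 7)))) (.and (.eq (.mul (.v (nat_lit 2)) (.v (nat_lit 0))) (.mul (.v (nat_lit 0)) (.v (nat_lit 2)))) (.eq (.mul (.v (nat_lit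 2)) (.v (nat_lit 9))) (.mul (.v (nat_lit 9)) (.v (nat_lit 2))))))))))
theorem PH_rn_f_chk : Fm.chk PF_o PH_rn_f_F PH_cs = true := by decide +kernel
theorem PH_rn_f {G : Type*} [Group G] {R : ℕ → G → Prop} {t c n a b e x z y r p o s : G} {H : Subgroup G}
    (M : Mdl PF_o PH_cs PF_L R [t, c, n, a, a⁻¹, b, b⁻¹, e, e⁻¹, x, x⁻¹, z, y, r, p, o, s] H) :
    n * n = 1 ∧ n * a * n⁻¹ = a⁻¹ ∧ n * b * n⁻¹ = b⁻¹ ∧ n * e * n⁻¹ = e⁻¹ ∧ n * t = t * n ∧ n * x = x * n :=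
  Fm.sound M.μ PH_rn_f_F PH_rn_f_chk M.reps
theorem PH_rn {G : Type*} [Group G] {R : ℕ → G → Prop} {t c n a b e x z y r p o s : G} {H : Subgroup G}
    (M : Mdl PF_o PH_cs PF_L R [t, c, n, a, a⁻¹, b, b⁻¹, e, e⁻¹, x, x⁻¹, z, y, r, p, o, s] H) :
    Nn a b e x t n :=
  have h := PH_rn_f M
  ⟨h.1, h.2.1, h.2.2.1, h.2.2.2.1, h.2.2.2.2.1, h.2.2.2.2.2, trivial⟩
noncomputable def PH_hh_f_F : Fm := (.qf (.and (.eq (.pw (.v (nat_lit 3)) (nat_lit 3)) .one) (.and (.eq (.pw (.v (nat_lit 5)) (nat_lit 3)) .one) (.and (.eq (.pw (.v (nat_lit 7)) (nat_lit 3)) .one) (.and (.eq (.mul (.v (nat_lit 3)) (.v (nat_lit 5))) (.mul (.v (nat_lit 5)) (.v (nat_lit 3)))) (.and (.eq (.mul (.v (nat_lit 3)) (.v (nat_lit 7))) (.mul (.v (nat_lit 7)) (.v (nat_lit 3)))) (.and (.eq (.mul (.v (nat_lit 5)) (.v (nat_lit 7))) (.mul (.v (nat_lit 7)) (.v (nat_lit 5)))) (.and (.eq (.pw (.v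 (nat_lit 9)) (nat_lit 3)) .one) (.and (.eq (.mul (.mul (.v (nat_lit 9)) (.v (nat_lit 7))) (.inv (.v (nat_lit 9)))) (.v (nat_lit 3))) (.and (.eq (.mul (.mul (.v (nat_lit 9)) (.v (nat_lit 3))) (.inv (.v (nat_lit 9)))) (.v (nat_lit 5))) (.and (.eq (.mul (.mul (.v (nat_lit 9)) (.v (nat_lit 5))) (.inv (.v (nat_lit 9)))) (.v (nat_lit 7))) (.and (.eq (.mul (.v (nat_lit 16)) (.v (nat_lit 16))) .one) (.and (.eq (.mul (.mul (.v (nat_lit 16)) (.v (nat_lit 9))) (.inv (.v (nat_lit 16)))) (.inv (.v (nat_lit 9)))) (.and (.eq (.mul (.mul (.v (nat_lit 16)) (.v (nat_lit 7))) (.inv (.v (nat_lit 16)))) (.inv (.v (nat_lit 7)))) (.and (.eq (.mul (.mul (.v (nat_lit 16)) (.v (nat_lit 3))) (.inv (.v (nat_lit 16)))) (.inv (.v (nat_lit 5)))) (.and (.eq (.mul (.v (nat_lit 1)) (.v (nat_lit 1))) .one) (.and (.eq (.mul (.v (nat_lit 16)) (.v (nat_lit 1))) (.mul (.v (nat_lit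 1)) (.v (nat_lit 16)))) (.and (.eq (.mul (.v (nat_lit 1)) (.v (nat_lit 7))) (.mul (.v (nat_lit 7)) (.v (nat_lit 1)))) (.and (.eq (.mul (.mul (.v (nat_lit 1)) (.v (nat_lit 3))) (.inv (.v (nat_lit 1)))) (.inv (.v (nat_lit 3)))) (.and (.eq (.mul (.mul (.v (nat_lit 1)) (.v (nat_lit 5))) (.inv (.v (nat_lit 1)))) (.inv (.v (nat_lit 5)))) (.eq (.pw (.mul (.v (nat_lit 1)) (.v (nat_lit 9))) (nat_lit 3)) .one)))))))))))))))))))))
theorem PH_hh_f_chk : Fm.chk PF_o PH_hh_f_F PH_cs = true := by decide +kernel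
theorem PH_hh_f {G : Type*} [Group G] {R : ℕ → G → Prop} {t c n a b e x z y r p o s : G} {H : Subgroup G}
    (M : Mdl PF_o PH_cs PF_L R [t, c, n, a, a⁻¹, b, b⁻¹, e, e⁻¹, x, x⁻¹, z, y, r, p, o, s] H) :
    a ^ 3 = 1 ∧ b ^ 3 = 1 ∧ e ^ 3 = 1 ∧ a * b = b * a ∧ a * e = e * a ∧ b * e = e * b ∧ x ^ 3 = 1 ∧ x * e * x⁻¹ = a ∧ x * a * x⁻¹ = b ∧ x * b * x⁻¹ = e ∧ s * s = 1 ∧ s * x * s⁻¹ = x⁻¹ ∧ s * e * s⁻¹ = e⁻¹ ∧ s * a * s⁻¹ = b⁻¹ ∧ c * c = 1 ∧ s * c = c * s ∧ c * e = e * c ∧ c * a * c⁻¹ = a⁻¹ ∧ c * b * c⁻¹ = b⁻¹ ∧ (c * x) ^ 3 = 1 :=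
  Fm.sound M.μ PH_hh_f_F PH_hh_f_chk M.reps
theorem PH_hh {G : Type*} [Group G] {R : ℕ → G → Prop} {t c n a b e x z y r p o s : G} {H : Subgroup G}
    (M : Mdl PF_o PH_cs PF_L R [t, c, n, a, a⁻¹, b, b⁻¹, e, e⁻¹, x, x⁻¹, z, y, r, p, o, s] H) :
    HH a b e x s c :=
  have h := PH_hh_f M
  ⟨h.1, h.2.1, h.2.2.1, h.2.2.2.1, h.2.2.2.2.1, h.2.2.2.2.2.1, h.2.2.2.2.2.2.1, h.2.2.2.2.2.2.2.1, h.2.2.2.2.2.2.2.2.1, h.2.2.2.2.2.2.2.2.2.1, h.2.2.2.2.2.2.2.2.2.2.1, h.2.2.2.2.2.2.2.2.2.2.2.1, h.2.2.2.2.2.2.2.2.2.2.2.2.1, h.2.2.2.2.2.2.2.2.2.2.2.2.2.1, h.2.2.2.2.2.2.2.2.2.2.2.2.2.2.1, h.2.2.2.2.2.2.2.2.2.2.2.2.2.2.2.1, h.2.2.2.2.2.2.2.2.2.2.2.2.2.2.2.2.1, h.2.2.2.2.2.2.2.2.2.2.2.2.2.2.2.2.2.1, h.2.2.2.2.2.2.2.2.2.2.2.2.2.2.2.2.2.2.1, h.2.2.2.2.2.2.2.2.2.2.2.2.2.2.2.2.2.2.2, trivial⟩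
noncomputable def PH_df_F : Fm := (.qf (.and (.eq (.v (nat_lit 13)) (.mul (.v (nat_lit 1)) (.v (nat_lit 2)))) (.and (.eq (.v (nat_lit 14)) (.mul (.mul (.v (nat_lit 9)) (.v (nat_lit 13))) (.inv (.v (nat_lit 9))))) (.and (.eq (.v (nat_lit 15)) (.mul (.mul (.inv (.v (nat_lit 9))) (.v (nat_lit 13))) (.v (nat_lit 9)))) (.and (.eq (.v (nat_lit 16)) (.mul (.v (nat_lit 0)) (.v (nat_lit 2)))) (.and (.eq (.v (nat_lit 1)) (.mul (.v (nat_lit 14)) (.v (nat_lit 15)))) (.and (.eq (.mul (.mul (.v (nat_lit 9)) (.mul (.v (nat_lit 14)) (.v (nat_lit 13)))) (.inv (.v (nat_lit 9)))) (.v (nat_lit 1))) (.eq (.v (nat_lit 2)) (.mul (.v (nat_lit 0)) (.v (nat_lit 16)))))))))))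
theorem PH_df_chk : Fm.chk PF_o PH_df_F PH_cs = true := by decide +kernel
theorem PH_df {G : Type*} [Group G] {R : ℕ → G → Prop} {t c n a b e x z y r p o s : G} {H : Subgroup G}
    (M : Mdl PF_o PH_cs PF_L R [t, c, n, a, a⁻¹, b, b⁻¹, e, e⁻¹, x, x⁻¹, z, y, r, p, o, s] H) :
    r = c * n ∧ p = x * r * x⁻¹ ∧ o = x⁻¹ * r * x ∧ s = t * n ∧ c = p * o ∧ x * (p * r) * x⁻¹ = c ∧ n = t * s :=
  Fm.sound M.μ PH_df_F PH_df_chk M.reps
noncomputable def PH_r_F : Fm := (.qf (.and (.eq (.mul (.v (nat_lit 13)) (.v (nat_lit 13))) .one) (.and (.eq (.mul (.v (nat_lit 13)) (.v (nat_lit 3))) (.mul (.v (nat_lit 3)) (.v (nat_lit 13)))) (.and (.eq (.mul (.v (nat_lit 13)) (.v (nat_lit 5))) (.mul (.v (nat_lit 5)) (.v (nat_lit 13)))) (.and (.eq (.mul (.mul (.v (nat_lit 13)) (.v (nat_lit 7))) (.inv (.v (nat_lit 13)))) (.inv (.v (nat_lit 7)))) (.and (.eq (.mul (.v (nat_lit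 13)) (.v (nat_lit 0))) (.mul (.v (nat_lit 0)) (.v (nat_lit 13)))) (.and (.eq (.mul (.v (nat_lit 13)) (.v (nat_lit 14))) (.mul (.v (nat_lit 14)) (.v (nat_lit 13)))) (.and (.eq (.mul (.v (nat_lit 13)) (.v (nat_lit 15))) (.mul (.v (nat_lit 15)) (.v (nat_lit 13)))) (.and (.eq (.mul (.v (nat_lit 13)) (.v (nat_lit 1))) (.mul (.v (nat_lit 1)) (.v (nat_lit 13)))) (.and (.eq (.mul (.v (nat_lit 13)) (.v (nat_lit 12))) (.mul (.v (nat_lit 12)) (.v (nat_lit 13)))) (.not (.eq (.v (nat_lit 13)) .one))))))))))))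
theorem PH_r_chk : Fm.chk PF_o PH_r_F PH_cs = true := by decide +kernel
theorem PH_r {G : Type*} [Group G] {R : ℕ → G → Prop} {t c n a b e x z y r p o s : G} {H : Subgroup G}
    (M : Mdl PF_o PH_cs PF_L R [t, c, n, a, a⁻¹, b, b⁻¹, e, e⁻¹, x, x⁻¹, z, y, r, p, o, s] H) :
    r * r = 1 ∧ r * a = a * r ∧ r * b = b * r ∧ r * e * r⁻¹ = e⁻¹ ∧ r * t = t * r ∧ r * p = p * r ∧ r * o = o * r ∧ r * c = c * r ∧ r * y = y * r ∧ r ≠ 1 :=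
  Fm.sound M.μ PH_r_F PH_r_chk M.reps
noncomputable def PH_p_F : Fm := (.qf (.and (.eq (.mul (.v (nat_lit 14)) (.v (nat_lit 14))) .one) (.and (.eq (.mul (.v (nat_lit 15)) (.v (nat_lit 15))) .one) (.and (.eq (.mul (.v (nat_lit 14)) (.v (nat_lit 15))) (.mul (.v (nat_lit 15)) (.v (nat_lit 14)))) (.and (.eq (.mul (.mul (.v (nat_lit 14)) (.v (nat_lit 3))) (.inv (.v (nat_lit 14)))) (.inv (.v (nat_lit 3)))) (.and (.eq (.mul (.v (nat_lit 14)) (.v (nat_lit 5))) (.mul (.v (nat_lit 5)) (.v (nat_lit 14)))) (.and (.eq (.mul (.v (nat_lit 15)) (.v (nat_lit 3))) (.mul (.v (nat_lit 3)) (.v (nat_lit 15)))) (.and (.eq (.mul (.mul (.v (nat_lit 15)) (.v (nat_lit 5))) (.inv (.v (nat_lit 15)))) (.inv (.v (nat_lit 5)))) (.and (.eq (.mul (.mul (.v (nat_lit 0)) (.v (nat_lit 14))) (.inv (.v (nat_lit 0)))) (.v (nat_lit 15))) (.and (.eq (.mul (.v (nat_lit 14)) (.v (nat_lit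 7))) (.mul (.v (nat_lit 7)) (.v (nat_lit 14)))) (.and (.eq (.mul (.v (nat_lit 15)) (.v (nat_lit 7))) (.mul (.v (nat_lit 7)) (.v (nat_lit 15)))) (.not (.eq (.v (nat_lit 14)) .one)))))))))))))
theorem PH_p_chk : Fm.chk PF_o PH_p_F PH_cs = true := by decide +kernel
theorem PH_p {G : Type*} [Group G] {R : ℕ → G → Prop} {t c n a b e x z y r p o s : G} {H : Subgroup G}
    (M : Mdl PF_o PH_cs PF_L R [t, c, n, a, a⁻¹, b, b⁻¹, e, e⁻¹, x, x⁻¹, z, y, r, p, o, s] H) :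
    p * p = 1 ∧ o * o = 1 ∧ p * o = o * p ∧ p * a * p⁻¹ = a⁻¹ ∧ p * b = b * p ∧ o * a = a * o ∧ o * b * o⁻¹ = b⁻¹ ∧ t * p * t⁻¹ = o ∧ p * e = e * p ∧ o * e = e * o ∧ p ≠ 1 :=
  Fm.sound M.μ PH_p_F PH_p_chk M.reps
noncomputable def PH_s_F : Fm := (.qf (.and (.eq (.mul (.v (nat_lit 16)) (.v (nat_lit 16))) .one) (.and (.eq (.mul (.v (nat_lit 16)) (.v (nat_lit 12))) (.mul (.v (nat_lit 12)) (.v (nat_lit 16)))) (.and (.eq (.mul (.mul (.v (nat_lit 1)) (.mul (.v (nat_lit 3)) (.v (nat_lit 5)))) (.inv (.v (nat_lit 1)))) (.inv (.mul (.v (nat_lit 3)) (.v (nat_lit 5))))) (.and (.not (.eq (.pw (.mul (.v (nat_lit 0)) (.v (nat_lit 14))) (nat_lit 6)) .one)) (.and (.mem (.v (nat_lit 1)) PH_lT) (.and (.not (.mem (.v (nat_lit 7)) PH_lU)) (.and (.not (.eq (.v (nat_lit 1)) .one)) (.and (.not (.eq (.v (nat_lit 16)) .one)) (.mem (.v (nat_lit 12)) PH_lU))))))))))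
theorem PH_s_chk : Fm.chk PF_o PH_s_F PH_cs = true := by decide +kernel
theorem PH_s {G : Type*} [Group G] {R : ℕ → G → Prop} {t c n a b e x z y r p o s : G} {H : Subgroup G}
    (M : Mdl PF_o PH_cs PF_L R [t, c, n, a, a⁻¹, b, b⁻¹, e, e⁻¹, x, x⁻¹, z, y, r, p, o, s] H) :
    s * s = 1 ∧ s * y = y * s ∧ c * (a * b) * c⁻¹ = (a * b)⁻¹ ∧ (t * p) ^ 6 ≠ 1 ∧ c ∈ sp [t, p, o, r] ∧ e ∉ sp [a, b] ∧ c ≠ 1 ∧ s ≠ 1 ∧ y ∈ sp [a, b] :=
  have h : s * s = 1 ∧ s * y = y * s ∧ c * (a * b) * c⁻¹ = (a * b)⁻¹ ∧ (t * p) ^ 6 ≠ 1 ∧ InS R PH_lT (c) ∧ ¬ InS R PH_lU (e) ∧ c ≠ 1 ∧ s ≠ 1 ∧ InS R PH_lU (y) :=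
    Fm.sound M.μ PH_s_F PH_s_chk M.reps
  ((and_congr Iff.rfl (and_congr Iff.rfl (and_congr Iff.rfl (and_congr Iff.rfl (and_congr (PH_lT_E M).iff (and_congr (not_congr (PH_lU_E M).iff) (and_congr Iff.rfl (and_congr Iff.rfl (PH_lU_E M).iff)))))))).1 h)
noncomputable def PH_N_F : Fm := (.all PF_L (.qf (.and (.not (.mem (.mul (.mul (.v (nat_lit 0)) (.v (nat_lit 12))) (.inv (.v (nat_lit 0)))) PH_lU)) (.and (.not (.mem (.mul (.mul (.v (nat_lit 0)) (.mul (.v (nat_lit 4)) (.v (nat_lit 6)))) (.inv (.v (nat_lit 0)))) PH_lZ)) (.eq (.pw (.v (nat_lit 0)) (nat_lit 72)) .one)))))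
theorem PH_N_chk : Fm.chk PF_o PH_N_F PH_cs = true := by decide +kernel
theorem PH_N {G : Type*} [Group G] {R : ℕ → G → Prop} {t c n a b e x z y r p o s : G} {H : Subgroup G}
    (M : Mdl PF_o PH_cs PF_L R [t, c, n, a, a⁻¹, b, b⁻¹, e, e⁻¹, x, x⁻¹, z, y, r, p, o, s] H) :
    ∀ k ∈ H, k * z * k⁻¹ ∉ sp [a, b] ∧ k * (a * b) * k⁻¹ ∉ sp [z] ∧ k ^ 72 = 1 :=
  have h : ∀ k, InL PF_o R PF_L k → ¬ InS R PH_lU (k * z * k⁻¹) ∧ ¬ InS R PH_lZ (k * (a * b) * k⁻¹) ∧ k ^ 72 = 1 :=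
    Fm.sound M.μ PH_N_F PH_N_chk M.reps
  (fun k h0 => ((and_congr (not_congr (PH_lU_E M).iff) (and_congr (not_congr (PH_lZ_E M).iff) Iff.rfl)).1 (h k (M.H.iff.2 h0))))
noncomputable def PH_cl_t0 : ST := (.node (nat_lit 38) (.node (nat_lit 13) (.node (nat_lit 9) (.node (nat_lit 6) (.leaf (nat_lit 837)) (.node (nat_lit 8) (.leaf (nat_lit 486)) (.leaf (nat_lit 4)))) (.node (nat_lit 10) (.leaf (nat_lit 27)) (.node (nat_lit 12) (.leaf (nat_lit 976)) (.leaf (nat_lit 0))))) (.node (nat_lit 23) (.node (nat_lit 17) (.leaf (nat_lit 972)) (.node (nat_lit 21) (.leaf (nat_lit 189)) (.leaf (nat_lit 1134)))) (.node (nat_lit 27) (.node (nat_lit 26) (.leaf (nat_lit 648)) (.leaf (nat_lit 675))) (.node (nat_lit 30) (.leaf (nat_lit 652)) (.leaf (nat_lit 648)))))) (.node (nat_lit 60) (.node (nat_lit 42) (.node (nat_lit 39) (.leaf (nat_lit 0)) (.node (nat_lit 41)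 (.leaf (nat_lit 162)) (.leaf (nat_lit 27)))) (.node (nat_lit 45) (.leaf (nat_lit 4)) (.node (nat_lit 57) (.leaf (nat_lit 0)) (.leaf (nat_lit 810))))) (.node (nat_lit 71) (.node (nat_lit 63) (.leaf (nat_lit 351)) (.node (nat_lit 67) (.leaf (nat_lit 324)) (.leaf (nat_lit 166)))) (.node (nat_lit 78) (.node (nat_lit 72) (.leaf (nat_lit 486)) (.leaf (nat_lit 162))) (.node (nat_lit 81) (.leaf (nat_lit 328)) (.leaf (nat_lit 324)))))))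
noncomputable def PH_cl_F : Fm := (.allS PH_lJ (.or (.qf (.eq (.v (nat_lit 0)) .one)) (.exF PF_L (fun cs => PH_cl_t0.find (Nat.mod (nth (nat_lit 0) cs (nat_lit 0)) (nat_lit 83))) (.qf (.or (.eq (.mul (.mul (.v (nat_lit 0)) (.v (nat_lit 1))) (.inv (.v (nat_lit 0)))) (.v (nat_lit 13))) (.or (.eq (.mul (.mul (.v (nat_lit 0)) (.v (nat_lit 1))) (.inv (.v (nat_lit 0)))) (.v (nat_lit 9))) (.eq (.mul (.mul (.v (nat_lit 0)) (.v (nat_lit 1))) (.inv (.v (nat_lit 0)))) (.mul (.v (nat_lit 5)) (.v (nat_lit 7))))))))))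
theorem PH_cl_chk : Fm.chk PF_o PH_cl_F PH_cs = true := by decide +kernel
theorem PH_cl {G : Type*} [Group G] {R : ℕ → G → Prop} {t c n a b e x z y r p o s : G} {H : Subgroup G}
    (M : Mdl PF_o PH_cs PF_L R [t, c, n, a, a⁻¹, b, b⁻¹, e, e⁻¹, x, x⁻¹, z, y, r, p, o, s] H) :
    ∀ j ∈ sp [a, b, e], j = 1 ∨ (∃ m ∈ H, m * j * m⁻¹ = z ∨ m * j * m⁻¹ = e ∨ m * j * m⁻¹ = a * b) :=
  have h : ∀ j, InS R PH_lJ j → j = 1 ∨ (Good PF_o R PF_L → prods PF_o PF_L PF_o.one ≠ [] → ∃ m, InL PF_o R PF_L m ∧ (m * j * m⁻¹ = z ∨ m * j * m⁻¹ = e ∨ m * j * m⁻¹ = a * b)) :=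
    Fm.sound M.μ PH_cl_F PH_cl_chk M.reps
  (fun j h0 => (Or.imp (fun h1 => h1) (fun h1 => (Exists.imp (fun m h2 => ⟨M.H.iff.1 h2.1, h2.2⟩) (h1 M.H.good M.H.ne))) (h j ((PH_lJ_E M).iff.2 h0))))
noncomputable def PH_J_F : Fm := (.allS PH_lJ (.qf (.and (.mem (.mul (.inv (.v (nat_lit 0))) (.mul (.mul (.v (nat_lit 14)) (.v (nat_lit 0))) (.inv (.v (nat_lit 14))))) PH_lE) (.and (.or (.mem (.v (nat_lit 0)) PH_lL) (.or (.mem (.mul (.v (nat_lit 0)) (.mul (.v (nat_lit 4)) (.v (nat_lit 6)))) PH_lL) (.mem (.mul (.v (nat_lit 0)) (.inv (.mul (.v (nat_lit 4)) (.v (nat_lit 6))))) PH_lL))) (.or (.not (.eq (.mul (.v (nat_lit 0)) (.v (nat_lit 10))) (.mul (.v (nat_lit 10)) (.v (nat_lit 0))))) (.or (.not (.eq (.mul (.v (nat_lit 0)) (.v (nat_lit 2))) (.mul (.v (nat_lit 2)) (.v (nat_lit 0))))) (.eq (.v (nat_lit 0)) .one)))))))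
theorem PH_J_chk : Fm.chk PF_o PH_J_F PH_cs = true := by decide +kernel
theorem PH_J {G : Type*} [Group G] {R : ℕ → G → Prop} {t c n a b e x z y r p o s : G} {H : Subgroup G}
    (M : Mdl PF_o PH_cs PF_L R [t, c, n, a, a⁻¹, b, b⁻¹, e, e⁻¹, x, x⁻¹, z, y, r, p, o, s] H) :
    ∀ j ∈ sp [a, b, e], j⁻¹ * (r * j * r⁻¹) ∈ sp [e] ∧ (j ∈ sp [y, e] ∨ j * (a * b) ∈ sp [y, e] ∨ j * (a * b)⁻¹ ∈ sp [y, e]) ∧ (j * x ≠ x * j ∨ j * c ≠ c * j ∨ j = 1) :=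
  have h : ∀ j, InS R PH_lJ j → InS R PH_lE (j⁻¹ * (r * j * r⁻¹)) ∧ (InS R PH_lL (j) ∨ InS R PH_lL (j * (a * b)) ∨ InS R PH_lL (j * (a * b)⁻¹)) ∧ (j * x ≠ x * j ∨ j * c ≠ c * j ∨ j = 1) :=
    Fm.sound M.μ PH_J_F PH_J_chk M.reps
  (fun j h0 => ((and_congr (PH_lE_E M).iff (and_congr (or_congr (PH_lL_E M).iff (or_congr (PH_lL_E M).iff (PH_lL_E M).iff)) Iff.rfl)).1 (h j ((PH_lJ_E M).iff.2 h0))))
noncomputable def PH_cU_F : Fm := (.all PF_L (.imp (.eq (.mul (.v (nat_lit 0)) (.v (nat_lit 4))) (.mul (.v (nat_lit 4)) (.v (nat_lit 0)))) (.imp (.eq (.mul (.v (nat_lit 0)) (.v (nat_lit 6))) (.mul (.v (nat_lit 6)) (.v (nat_lit 0)))) (.qf (.or (.mem (.v (nat_lit 0)) PH_lJ) (.mem (.mul (.v (nat_lit 14)) (.v (nat_lit 0))) PH_lJ))))))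
theorem PH_cU_chk : Fm.chk PF_o PH_cU_F PH_cs = true := by decide +kernel
theorem PH_cU {G : Type*} [Group G] {R : ℕ → G → Prop} {t c n a b e x z y r p o s : G} {H : Subgroup G}
    (M : Mdl PF_o PH_cs PF_L R [t, c, n, a, a⁻¹, b, b⁻¹, e, e⁻¹, x, x⁻¹, z, y, r, p, o, s] H) :
    ∀ k ∈ H, k * a = a * k → k * b = b * k → k ∈ sp [a, b, e] ∨ r * k ∈ sp [a, b, e] :=
  have h : ∀ k, InL PF_o R PF_L k → k * a = a * k → k * b = b * k → InS R PH_lJ (k) ∨ InS R PH_lJ (r * k) :=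
    Fm.sound M.μ PH_cU_F PH_cU_chk M.reps
  (fun k h0 => (fun h1 => (fun h2 => ((or_congr (PH_lJ_E M).iff (PH_lJ_E M).iff).1 (((h k (M.H.iff.2 h0)) h1) h2)))))
noncomputable def PH_cw_F : Fm := (.all PF_L (.imp (.eq (.mul (.v (nat_lit 0)) (.mul (.v (nat_lit 4)) (.v (nat_lit 6)))) (.mul (.mul (.v (nat_lit 4)) (.v (nat_lit 6))) (.v (nat_lit 0)))) (.and (.qf (.mem (.mul (.v (nat_lit 0)) (.v (nat_lit 0))) PH_lJ)) (.and (.qf (.and (.or (.eq (.mul (.mul (.v (nat_lit 0)) (.v (nat_lit 13))) (.inv (.v (nat_lit 0)))) (.v (nat_lit 13))) (.eq (.mul (.mul (.v (nat_lit 0)) (.v (nat_lit 13))) (.inv (.v (nat_lit 0)))) (.inv (.v (nat_lit 13))))) (.or (.eq (.mul (.mul (.v (nat_lit 0)) (.v (nat_lit 8))) (.inv (.v (nat_lit 0)))) (.v (nat_lit 8))) (.eq (.mul (.mul (.v (nat_lit 0)) (.v (nat_lit 8))) (.inv (.v (nat_lit 0)))) (.inv (.v (nat_lit 8))))))) (.allS PH_lJ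 (.qf (.mem (.mul (.inv (.v (nat_lit 0))) (.mul (.mul (.v (nat_lit 1)) (.v (nat_lit 0))) (.inv (.v (nat_lit 1))))) PH_lL)))))))
theorem PH_cw_chk : Fm.chk PF_o PH_cw_F PH_cs = true := by decide +kernel
theorem PH_cw {G : Type*} [Group G] {R : ℕ → G → Prop} {t c n a b e x z y r p o s : G} {H : Subgroup G}
    (M : Mdl PF_o PH_cs PF_L R [t, c, n, a, a⁻¹, b, b⁻¹, e, e⁻¹, x, x⁻¹, z, y, r, p, o, s] H) :
    ∀ k ∈ H, k * (a * b) = a * b * k → k * k ∈ sp [a, b, e] ∧ ((k * y * k⁻¹ = y ∨ k * y * k⁻¹ = y⁻¹) ∧ (k * e * k⁻¹ = e ∨ k * e * k⁻¹ = e⁻¹)) ∧ (∀ j ∈ sp [a, b, e], j⁻¹ * (k * j * k⁻¹) ∈ sp [y, e]) :=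
  have h : ∀ k, InL PF_o R PF_L k → k * (a * b) = a * b * k → InS R PH_lJ (k * k) ∧ ((k * y * k⁻¹ = y ∨ k * y * k⁻¹ = y⁻¹) ∧ (k * e * k⁻¹ = e ∨ k * e * k⁻¹ = e⁻¹)) ∧ (∀ j, InS R PH_lJ j → InS R PH_lL (j⁻¹ * (k * j * k⁻¹))) :=
    Fm.sound M.μ PH_cw_F PH_cw_chk M.reps
  (fun k h0 => (fun h1 => (And.imp (fun h2 => ((PH_lJ_E M).iff.1 h2)) (fun h2 => (And.imp (fun h3 => h3) (fun h3 => (fun j h4 => ((PH_lL_E M).iff.1 (h3 j ((PH_lJ_E M).iff.2 h4))))) h2)) ((h k (M.H.iff.2 h0)) h1))))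
noncomputable def PH_L_t0 : ST := (.node (nat_lit 19) (.node (nat_lit 13) (.leaf (nat_lit 0)) (.node (nat_lit 15) (.leaf (nat_lit 648)) (.leaf (nat_lit 972)))) (.node (nat_lit 22) (.leaf (nat_lit 324)) (.node (nat_lit 26) (.leaf (nat_lit 1134)) (.leaf (nat_lit 486)))))
noncomputable def PH_L_F : Fm := (.allS PH_lL (.or (.qf (.eq (.v (nat_lit 0)) .one)) (.or (.qf (.eq (.v (nat_lit 0)) (.v (nat_lit 13)))) (.or (.qf (.eq (.v (nat_lit 0)) (.inv (.v (nat_lit 13))))) (.exF PF_L (fun cs => PH_L_t0.find (Nat.mod (nth (nat_lit 0) cs (nat_lit 0)) (nat_lit 31))) (.qf (.or (.eq (.mul (.mul (.v (nat_lit 0)) (.v (nat_lit 1))) (.inv (.v (nat_lit 0)))) (.v (nat_lit 13))) (.eq (.mul (.mul (.v (nat_lit 0)) (.mul (.v (nat_lit 1)) (.mul (.v (nat_lit 5)) (.v (nat_lit 7))))) (.inv (.v (nat_lit 0)))) (.v (nat_lit 13))))))))))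
theorem PH_L_chk : Fm.chk PF_o PH_L_F PH_cs = true := by decide +kernel
theorem PH_L {G : Type*} [Group G] {R : ℕ → G → Prop} {t c n a b e x z y r p o s : G} {H : Subgroup G}
    (M : Mdl PF_o PH_cs PF_L R [t, c, n, a, a⁻¹, b, b⁻¹, e, e⁻¹, x, x⁻¹, z, y, r, p, o, s] H) :
    ∀ l ∈ sp [y, e], l = 1 ∨ l = y ∨ l = y⁻¹ ∨ (∃ m ∈ H, m * l * m⁻¹ = z ∨ m * (l * (a * b)) * m⁻¹ = z) :=
  have h : ∀ l, InS R PH_lL l → l = 1 ∨ l = y ∨ l = y⁻¹ ∨ (Good PF_o R PF_L → prods PF_o PF_L PF_o.one ≠ [] → ∃ m, InL PF_o R PF_L m ∧ (m * l * m⁻¹ = z ∨ m * (l * (a * b)) * m⁻¹ = z)) :=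
    Fm.sound M.μ PH_L_F PH_L_chk M.reps
  (fun l h0 => (Or.imp (fun h1 => h1) (fun h1 => (Or.imp (fun h2 => h2) (fun h2 => (Or.imp (fun h3 => h3) (fun h3 => (Exists.imp (fun m h4 => ⟨M.H.iff.1 h4.1, h4.2⟩) (h3 M.H.good M.H.ne))) h2)) h1)) (h l ((PH_lL_E M).iff.2 h0))))
noncomputable def PH_ce_F : Fm := (.all PF_L (.imp (.eq (.mul (.v (nat_lit 0)) (.v (nat_lit 8))) (.mul (.v (nat_lit 8)) (.v (nat_lit 0)))) (.and (.qf (.mem (.pw (.v (nat_lit 0)) (nat_lit 4)) PH_lJ)) (.and (.qf (.mem (.mul (.mul (.v (nat_lit 0)) (.v (nat_lit 4))) (.inv (.v (nat_lit 0)))) PH_lU)) (.and (.qf (.mem (.mul (.mul (.v (nat_lit 0)) (.v (nat_lit 6))) (.inv (.v (nat_lit 0)))) PH_lU)) (.and (.qf (.or (.and (.or (.eq (.mul (.mul (.v (nat_lit 0)) (.v (nat_lit 4))) (.inv (.v (nat_lit 0)))) (.v (nat_lit 4))) (.eq (.mul (.mul (.v (nat_lit 0)) (.v (nat_lit 4))) (.inv (.v (nat_lit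 0)))) (.inv (.v (nat_lit 4))))) (.or (.eq (.mul (.mul (.v (nat_lit 0)) (.v (nat_lit 6))) (.inv (.v (nat_lit 0)))) (.v (nat_lit 6))) (.eq (.mul (.mul (.v (nat_lit 0)) (.v (nat_lit 6))) (.inv (.v (nat_lit 0)))) (.inv (.v (nat_lit 6)))))) (.and (.or (.eq (.mul (.mul (.mul (.v (nat_lit 1)) (.v (nat_lit 0))) (.v (nat_lit 4))) (.inv (.mul (.v (nat_lit 1)) (.v (nat_lit 0))))) (.v (nat_lit 4))) (.eq (.mul (.mul (.mul (.v (nat_lit 1)) (.v (nat_lit 0))) (.v (nat_lit 4))) (.inv (.mul (.v (nat_lit 1)) (.v (nat_lit 0))))) (.inv (.v (nat_lit 4))))) (.or (.eq (.mul (.mul (.mul (.v (nat_lit 1)) (.v (nat_lit 0))) (.v (nat_lit 6))) (.inv (.mul (.v (nat_lit 1)) (.v (nat_lit 0))))) (.v (nat_lit 6))) (.eq (.mul (.mul (.mul (.v (nat_lit 1)) (.v (nat_lit 0))) (.v (nat_lit 6))) (.inv (.mul (.v (nat_lit 1)) (.v (nat_lit 0))))) (.inv (.v (nat_lit 6)))))))) (.and (.qf (.or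 (.mem (.v (nat_lit 0)) PH_lB) (.or (.mem (.mul (.v (nat_lit 0)) (.v (nat_lit 8))) PH_lB) (.mem (.mul (.v (nat_lit 0)) (.inv (.v (nat_lit 8)))) PH_lB)))) (.and (.qf (.or (.not (.eq (.mul (.v (nat_lit 0)) (.v (nat_lit 2))) (.mul (.v (nat_lit 2)) (.v (nat_lit 0))))) (.mem (.pw (.v (nat_lit 0)) (nat_lit 4)) PH_lE))) (.allS PH_lJ (.qf (.mem (.mul (.inv (.v (nat_lit 0))) (.mul (.mul (.v (nat_lit 1)) (.v (nat_lit 0))) (.inv (.v (nat_lit 1))))) PH_lU)))))))))))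
theorem PH_ce_chk : Fm.chk PF_o PH_ce_F PH_cs = true := by decide +kernel
theorem PH_ce {G : Type*} [Group G] {R : ℕ → G → Prop} {t c n a b e x z y r p o s : G} {H : Subgroup G}
    (M : Mdl PF_o PH_cs PF_L R [t, c, n, a, a⁻¹, b, b⁻¹, e, e⁻¹, x, x⁻¹, z, y, r, p, o, s] H) :
    ∀ k ∈ H, k * e = e * k → k ^ 4 ∈ sp [a, b, e] ∧ k * a * k⁻¹ ∈ sp [a, b] ∧ k * b * k⁻¹ ∈ sp [a, b] ∧ ((k * a * k⁻¹ = a ∨ k * a * k⁻¹ = a⁻¹) ∧ (k * b * k⁻¹ = b ∨ k * b * k⁻¹ = b⁻¹) ∨ (t * k * a * (t * k)⁻¹ = a ∨ t * k * a * (t * k)⁻¹ = a⁻¹) ∧ (t * k * b * (t * k)⁻¹ = b ∨ t * k * b * (t * k)⁻¹ = b⁻¹)) ∧ (k ∈ sp [a, b, p, o, t] ∨ k * e ∈ sp [a, b, p, o, t] ∨ k * e⁻¹ ∈ sp [a, b, p, o, t]) ∧ (k * c ≠ c * k ∨ k ^ 4 ∈ sp [e]) ∧ (∀ j ∈ sp [a, b, e], j⁻¹ * (k * j * k⁻¹) ∈ sp [a, b]) :=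
  have h : ∀ k, InL PF_o R PF_L k → k * e = e * k → InS R PH_lJ (k ^ 4) ∧ InS R PH_lU (k * a * k⁻¹) ∧ InS R PH_lU (k * b * k⁻¹) ∧ ((k * a * k⁻¹ = a ∨ k * a * k⁻¹ = a⁻¹) ∧ (k * b * k⁻¹ = b ∨ k * b * k⁻¹ = b⁻¹) ∨ (t * k * a * (t * k)⁻¹ = a ∨ t * k * a * (t * k)⁻¹ = a⁻¹) ∧ (t * k * b * (t * k)⁻¹ = b ∨ t * k * b * (t * k)⁻¹ = b⁻¹)) ∧ (InS R PH_lB (k) ∨ InS R PH_lB (k * e) ∨ InS R PH_lB (k * e⁻¹)) ∧ (k * c ≠ c * k ∨ InS R PH_lE (k ^ 4)) ∧ (∀ j, InS R PH_lJ j → InS R PH_lU (j⁻¹ * (k * j * k⁻¹))) :=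
    Fm.sound M.μ PH_ce_F PH_ce_chk M.reps
  (fun k h0 => (fun h1 => (And.imp (fun h2 => ((PH_lJ_E M).iff.1 h2)) (fun h2 => (And.imp (fun h3 => ((PH_lU_E M).iff.1 h3)) (fun h3 => (And.imp (fun h4 => ((PH_lU_E M).iff.1 h4)) (fun h4 => (And.imp (fun h5 => h5) (fun h5 => (And.imp (fun h6 => ((or_congr (PH_lB_E M).iff (or_congr (PH_lB_E M).iff (PH_lB_E M).iff)).1 h6)) (fun h6 => (And.imp (fun h7 => ((or_congr Iff.rfl (PH_lE_E M).iff).1 h7)) (fun h7 => (fun j h8 => ((PH_lU_E M).iff.1 (h7 j ((PH_lJ_E M).iff.2 h8))))) h6)) h5)) h4)) h3)) h2)) ((h k (M.H.iff.2 h0)) h1))))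
noncomputable def PH_B_F : Fm := (.allS PH_lB (.qf (.and (.mem (.mul (.mul (.v (nat_lit 0)) (.v (nat_lit 4))) (.inv (.v (nat_lit 0)))) PH_lU) (.mem (.mul (.mul (.v (nat_lit 0)) (.v (nat_lit 6))) (.inv (.v (nat_lit 0)))) PH_lU))))
theorem PH_B_chk : Fm.chk PF_o PH_B_F PH_cs = true := by decide +kernel
theorem PH_B {G : Type*} [Group G] {R : ℕ → G → Prop} {t c n a b e x z y r p o s : G} {H : Subgroup G}
    (M : Mdl PF_o PH_cs PF_L R [t, c, n, a, a⁻¹, b, b⁻¹, e, e⁻¹, x, x⁻¹, z, y, r, p, o, s] H) :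
    ∀ k ∈ sp [a, b, p, o, t], k * a * k⁻¹ ∈ sp [a, b] ∧ k * b * k⁻¹ ∈ sp [a, b] :=
  have h : ∀ k, InS R PH_lB k → InS R PH_lU (k * a * k⁻¹) ∧ InS R PH_lU (k * b * k⁻¹) :=
    Fm.sound M.μ PH_B_F PH_B_chk M.reps
  (fun k h0 => ((and_congr (PH_lU_E M).iff (PH_lU_E M).iff).1 (h k ((PH_lB_E M).iff.2 h0))))
noncomputable def PH_U_t0 : ST := (.node (nat_lit 6) (.node (nat_lit 2) (.node (nat_lit 1) (.leaf (nat_lit 0)) (.leaf (nat_lit 4))) (.node (nat_lit 5) (.leaf (nat_lit 162)) (.leaf (nat_lit 324)))) (.node (nat_lit 11) (.node (nat_lit 8) (.leaf (nat_lit 976)) (.leaf (nat_lit 189))) (.node (nat_lit 16) (.leaf (nat_lit 27)) (.leaf (nat_lit 486)))))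
noncomputable def PH_U_F : Fm := (.allS PH_lU (.and (.qf (.eq (.mul (.v (nat_lit 0)) (.v (nat_lit 14))) (.mul (.v (nat_lit 14)) (.v (nat_lit 0))))) (.or (.qf (.eq (.v (nat_lit 0)) .one)) (.exF PF_L (fun cs => PH_U_t0.find (Nat.mod (nth (nat_lit 0) cs (nat_lit 0)) (nat_lit 19))) (.qf (.or (.eq (.mul (.mul (.v (nat_lit 0)) (.v (nat_lit 1))) (.inv (.v (nat_lit 0)))) (.mul (.v (nat_lit 5)) (.v (nat_lit 7)))) (.and (.eq (.mul (.mul (.v (nat_lit 0)) (.v (nat_lit 1))) (.inv (.v (nat_lit 0)))) (.v (nat_lit 5))) (.eq (.mul (.mul (.v (nat_lit 0)) (.v (nat_lit 9))) (.inv (.v (nat_lit 0)))) (.v (nat_lit 7))))))))))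
theorem PH_U_chk : Fm.chk PF_o PH_U_F PH_cs = true := by decide +kernel
theorem PH_U {G : Type*} [Group G] {R : ℕ → G → Prop} {t c n a b e x z y r p o s : G} {H : Subgroup G}
    (M : Mdl PF_o PH_cs PF_L R [t, c, n, a, a⁻¹, b, b⁻¹, e, e⁻¹, x, x⁻¹, z, y, r, p, o, s] H) :
    ∀ u ∈ sp [a, b], u * r = r * u ∧ (u = 1 ∨ (∃ m ∈ H, m * u * m⁻¹ = a * b ∨ m * u * m⁻¹ = a ∧ m * e * m⁻¹ = b)) :=
  have h : ∀ u, InS R PH_lU u → u * r = r * u ∧ (u = 1 ∨ (Good PF_o R PF_L → prods PF_o PF_L PF_o.one ≠ [] → ∃ m, InL PF_o R PF_L m ∧ (m * u * m⁻¹ = a * b ∨ m * u * m⁻¹ = a ∧ m * e * m⁻¹ = b))) :=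
    Fm.sound M.μ PH_U_F PH_U_chk M.reps
  (fun u h0 => (And.imp (fun h1 => h1) (fun h1 => (Or.imp (fun h2 => h2) (fun h2 => (Exists.imp (fun m h3 => ⟨M.H.iff.1 h3.1, h3.2⟩) (h2 M.H.good M.H.ne))) h1)) (h u ((PH_lU_E M).iff.2 h0))))
noncomputable def PH_ct_F : Fm := (.all PF_L (.imp (.eq (.mul (.v (nat_lit 0)) (.v (nat_lit 1))) (.mul (.v (nat_lit 1)) (.v (nat_lit 0)))) (.qf (.and (.mem (.mul (.v (nat_lit 0)) (.v (nat_lit 0))) PH_lF) (.and (.mem (.v (nat_lit 0)) PH_lCT) (.and (.eq (.pw (.v (nat_lit 0)) (nat_lit 6)) .one) (.and (.and (.or (.eq (.mul (.mul (.v (nat_lit 0)) (.mul (.v (nat_lit 4)) (.v (nat_lit 6)))) (.inv (.v (nat_lit 0)))) (.mul (.v (nat_lit 4)) (.v (nat_lit 6)))) (.eq (.mul (.mul (.v (nat_lit 0)) (.mul (.v (nat_lit 4)) (.v (nat_lit 6)))) (.inv (.v (nat_lit 0)))) (.inv (.mul (.v (nat_lit 4)) (.v (nat_lit 6)))))) (.or (.eq (.mul (.mul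 (.v (nat_lit 0)) (.v (nat_lit 8))) (.inv (.v (nat_lit 0)))) (.v (nat_lit 8))) (.eq (.mul (.mul (.v (nat_lit 0)) (.v (nat_lit 8))) (.inv (.v (nat_lit 0)))) (.inv (.v (nat_lit 8)))))) (.or (.not (.eq (.mul (.v (nat_lit 0)) (.mul (.v (nat_lit 4)) (.v (nat_lit 6)))) (.mul (.mul (.v (nat_lit 4)) (.v (nat_lit 6))) (.v (nat_lit 0))))) (.or (.not (.eq (.mul (.v (nat_lit 0)) (.v (nat_lit 8))) (.mul (.v (nat_lit 8)) (.v (nat_lit 0))))) (.or (.mem (.v (nat_lit 0)) PH_lF) (.mem (.mul (.v (nat_lit 0)) (.v (nat_lit 1))) PH_lF)))))))))))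
theorem PH_ct_chk : Fm.chk PF_o PH_ct_F PH_cs = true := by decide +kernel
theorem PH_ct {G : Type*} [Group G] {R : ℕ → G → Prop} {t c n a b e x z y r p o s : G} {H : Subgroup G}
    (M : Mdl PF_o PH_cs PF_L R [t, c, n, a, a⁻¹, b, b⁻¹, e, e⁻¹, x, x⁻¹, z, y, r, p, o, s] H) :
    ∀ k ∈ H, k * t = t * k → k * k ∈ sp [a * b, e] ∧ k ∈ sp [a * b, e, t, c, r] ∧ k ^ 6 = 1 ∧ ((k * (a * b) * k⁻¹ = a * b ∨ k * (a * b) * k⁻¹ = (a * b)⁻¹) ∧ (k * e * k⁻¹ = e ∨ k * e * k⁻¹ = e⁻¹)) ∧ (k * (a * b) ≠ a * b * k ∨ k * e ≠ e * k ∨ k ∈ sp [a * b, e] ∨ k * t ∈ sp [a * b, e]) :=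
  have h : ∀ k, InL PF_o R PF_L k → k * t = t * k → InS R PH_lF (k * k) ∧ InS R PH_lCT (k) ∧ k ^ 6 = 1 ∧ ((k * (a * b) * k⁻¹ = a * b ∨ k * (a * b) * k⁻¹ = (a * b)⁻¹) ∧ (k * e * k⁻¹ = e ∨ k * e * k⁻¹ = e⁻¹)) ∧ (k * (a * b) ≠ a * b * k ∨ k * e ≠ e * k ∨ InS R PH_lF (k) ∨ InS R PH_lF (k * t)) :=
    Fm.sound M.μ PH_ct_F PH_ct_chk M.reps
  (fun k h0 => (fun h1 => ((and_congr (PH_lF_E M).iff (and_congr (PH_lCT_E M).iff (and_congr Iff.rfl (and_congr Iff.rfl (or_congr Iff.rfl (or_congr Iff.rfl (or_congr (PH_lF_E M).iff (PH_lF_E M).iff))))))).1 ((h k (M.H.iff.2 h0)) h1))))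
noncomputable def PH_CT_F : Fm := (.allS PH_lCT (.qf (.eq (.mul (.v (nat_lit 0)) (.v (nat_lit 1))) (.mul (.v (nat_lit 1)) (.v (nat_lit 0))))))
theorem PH_CT_chk : Fm.chk PF_o PH_CT_F PH_cs = true := by decide +kernel
theorem PH_CT {G : Type*} [Group G] {R : ℕ → G → Prop} {t c n a b e x z y r p o s : G} {H : Subgroup G}
    (M : Mdl PF_o PH_cs PF_L R [t, c, n, a, a⁻¹, b, b⁻¹, e, e⁻¹, x, x⁻¹, z, y, r, p, o, s] H) :
    ∀ k ∈ sp [a * b, e, t, c, r], k * t = t * k :=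
  have h : ∀ k, InS R PH_lCT k → k * t = t * k :=
    Fm.sound M.μ PH_CT_F PH_CT_chk M.reps
  (fun k h0 => (h k ((PH_lCT_E M).iff.2 h0)))
noncomputable def PH_cys_F : Fm := (.all PF_L (.imp (.eq (.mul (.v (nat_lit 0)) (.v (nat_lit 13))) (.mul (.v (nat_lit 13)) (.v (nat_lit 0)))) (.imp (.eq (.mul (.v (nat_lit 0)) (.v (nat_lit 17))) (.mul (.v (nat_lit 17)) (.v (nat_lit 0)))) (.qf (.mem (.mul (.v (nat_lit 0)) (.v (nat_lit 0))) PH_lY)))))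
theorem PH_cys_chk : Fm.chk PF_o PH_cys_F PH_cs = true := by decide +kernel
theorem PH_cys {G : Type*} [Group G] {R : ℕ → G → Prop} {t c n a b e x z y r p o s : G} {H : Subgroup G}
    (M : Mdl PF_o PH_cs PF_L R [t, c, n, a, a⁻¹, b, b⁻¹, e, e⁻¹, x, x⁻¹, z, y, r, p, o, s] H) :
    ∀ k ∈ H, k * y = y * k → k * s = s * k → k * k ∈ sp [y] :=
  have h : ∀ k, InL PF_o R PF_L k → k * y = y * k → k * s = s * k → InS R PH_lY (k * k) :=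
    Fm.sound M.μ PH_cys_F PH_cys_chk M.reps
  (fun k h0 => (fun h1 => (fun h2 => ((PH_lY_E M).iff.1 (((h k (M.H.iff.2 h0)) h1) h2)))))
noncomputable def PH_wy_F : Fm := (.exF PF_L (fun _ => (nat_lit 324)) (.qf (.eq (.mul (.mul (.v (nat_lit 0)) (.v (nat_lit 13))) (.inv (.v (nat_lit 0)))) (.mul (.v (nat_lit 4)) (.v (nat_lit 6))))))
theorem PH_wy_chk : Fm.chk PF_o PH_wy_F PH_cs = true := by decide +kernel
theorem PH_wy {G : Type*} [Group G] {R : ℕ → G → Prop} {t c n a b e x z y r p o s : G} {H : Subgroup G}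
    (M : Mdl PF_o PH_cs PF_L R [t, c, n, a, a⁻¹, b, b⁻¹, e, e⁻¹, x, x⁻¹, z, y, r, p, o, s] H) :
    ∃ m ∈ H, m * y * m⁻¹ = a * b :=
  have h : (Good PF_o R PF_L → prods PF_o PF_L PF_o.one ≠ [] → ∃ m, InL PF_o R PF_L m ∧ m * y * m⁻¹ = a * b) :=
    Fm.sound M.μ PH_wy_F PH_wy_chk M.reps
  (Exists.imp (fun m h0 => ⟨M.H.iff.1 h0.1, h0.2⟩) (h M.H.good M.H.ne))
noncomputable def PH_cr_F : Fm := (.all PF_L (.imp (.eq (.mul (.v (nat_lit 0)) (.v (nat_lit 14))) (.mul (.v (nat_lit 14)) (.v (nat_lit 0)))) (.qf (.mem (.pw (.v (nat_lit 0)) (nat_lit 4)) PH_lU))))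
theorem PH_cr_chk : Fm.chk PF_o PH_cr_F PH_cs = true := by decide +kernel
theorem PH_cr {G : Type*} [Group G] {R : ℕ → G → Prop} {t c n a b e x z y r p o s : G} {H : Subgroup G}
    (M : Mdl PF_o PH_cs PF_L R [t, c, n, a, a⁻¹, b, b⁻¹, e, e⁻¹, x, x⁻¹, z, y, r, p, o, s] H) :
    ∀ k ∈ H, k * r = r * k → k ^ 4 ∈ sp [a, b] :=
  have h : ∀ k, InL PF_o R PF_L k → k * r = r * k → InS R PH_lU (k ^ 4) :=
    Fm.sound M.μ PH_cr_F PH_cr_chk M.reps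
  (fun k h0 => (fun h1 => ((PH_lU_E M).iff.1 ((h k (M.H.iff.2 h0)) h1))))
noncomputable def PH_T_t0 : ST := (.node (nat_lit 20) (.leaf (nat_lit 0)) (.node (nat_lit 21) (.leaf (nat_lit 2)) (.leaf (nat_lit 0))))
noncomputable def PH_T_t1 : ST := (.node (nat_lit 11) (.node (nat_lit 4) (.leaf (nat_lit 0)) (.node (nat_lit 10) (.leaf (nat_lit 4)) (.leaf (nat_lit 324)))) (.node (nat_lit 17) (.node (nat_lit 14) (.leaf (nat_lit 0)) (.leaf (nat_lit 27))) (.node (nat_lit 21) (.leaf (nat_lit 0)) (.leaf (nat_lit 27)))))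
noncomputable def PH_T_F : Fm := (.allS PH_lT (.and (.qf (.eq (.pw (.v (nat_lit 0)) (nat_lit 4)) .one)) (.or (.qf (.not (.eq (.mul (.v (nat_lit 0)) (.v (nat_lit 0))) .one))) (.or (.qf (.eq (.v (nat_lit 0)) .one)) (.or (.exG PH_lT (fun cs => PH_T_t0.find (Nat.mod (nth (nat_lit 0) cs (nat_lit 0)) (nat_lit 23))) (.qf (.eq (.mul (.mul (.v (nat_lit 0)) (.v (nat_lit 1))) (.inv (.v (nat_lit 0)))) (.v (nat_lit 2))))) (.exF PF_L (fun cs => PH_T_t1.find (Nat.mod (nth (nat_lit 0) cs (nat_lit 0)) (nat_lit 23))) (.qf (.or (.eq (.mul (.mul (.v (nat_lit 0)) (.v (nat_lit 1))) (.inv (.v (nat_lit 0)))) (.v (nat_lit 18))) (.eq (.mul (.mul (.mul (.v (nat_lit 0)) (.v (nat_lit 1))) (.inv (.v (nat_lit 0)))) (.mul (.v (nat_lit 2)) (.v (nat_lit 16)))) (.mul (.mul (.v (nat_lit 2)) (.v (nat_lit 16))) (.mul (.mul (.v (nat_lit 0)) (.v (nat_lit 1))) (.inv (.v (nat_lit 0))))))))))))))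
theorem PH_T_chk : Fm.chk PF_o PH_T_F PH_cs = true := by decide +kernel
theorem PH_T {G : Type*} [Group G] {R : ℕ → G → Prop} {t c n a b e x z y r p o s : G} {H : Subgroup G}
    (M : Mdl PF_o PH_cs PF_L R [t, c, n, a, a⁻¹, b, b⁻¹, e, e⁻¹, x, x⁻¹, z, y, r, p, o, s] H) :
    ∀ i ∈ sp [t, p, o, r], i ^ 4 = 1 ∧ (i * i ≠ 1 ∨ i = 1 ∨ (∃ m ∈ sp [t, p, o, r], m * i * m⁻¹ = t) ∨ (∃ m ∈ H, m * i * m⁻¹ = s ∨ m * i * m⁻¹ * (t * p) = t * p * (m * i * m⁻¹))) :=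
  have h : ∀ i, InS R PH_lT i → i ^ 4 = 1 ∧ (i * i ≠ 1 ∨ i = 1 ∨ (GoodS R PH_lT → PH_lT ≠ [] → ∃ m, InS R PH_lT m ∧ m * i * m⁻¹ = t) ∨ (Good PF_o R PF_L → prods PF_o PF_L PF_o.one ≠ [] → ∃ m, InL PF_o R PF_L m ∧ (m * i * m⁻¹ = s ∨ m * i * m⁻¹ * (t * p) = t * p * (m * i * m⁻¹)))) :=
    Fm.sound M.μ PH_T_F PH_T_chk M.reps
  (fun i h0 => (And.imp (fun h1 => h1) (fun h1 => (Or.imp (fun h2 => h2) (fun h2 => (Or.imp (fun h3 => h3) (fun h3 => (Or.imp (fun h4 => (Exists.imp (fun m h5 => ⟨(PH_lT_E M).iff.1 h5.1, h5.2⟩) (h4 (PH_lT_E M).good (PH_lT_E M).ne))) (fun h4 => (Exists.imp (fun m h5 => ⟨M.H.iff.1 h5.1, h5.2⟩) (h4 M.H.good M.H.ne))) h3)) h2)) h1)) (h i ((PH_lT_E M).iff.2 h0))))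
noncomputable def PH_X_t0 : ST := (.node (nat_lit 10) (.node (nat_lit 4) (.leaf (nat_lit 0)) (.leaf (nat_lit 4))) (.node (nat_lit 11) (.leaf (nat_lit 324)) (.node (nat_lit 14) (.leaf (nat_lit 0)) (.leaf (nat_lit 27)))))
noncomputable def PH_X_F : Fm := (.allS PH_lX (.imp (.eq (.mul (.v (nat_lit 0)) (.v (nat_lit 0))) .one) (.or (.qf (.eq (.v (nat_lit 0)) .one)) (.exF PF_L (fun cs => PH_X_t0.find (Nat.mod (nth (nat_lit 0) cs (nat_lit 0)) (nat_lit 23))) (.qf (.or (.eq (.mul (.mul (.v (nat_lit 0)) (.v (nat_lit 1))) (.inv (.v (nat_lit 0)))) (.v (nat_lit 3))) (.eq (.mul (.mul (.v (nat_lit 0)) (.v (nat_lit 1))) (.inv (.v (nat_lit 0)))) (.v (nat_lit 18)))))))))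
theorem PH_X_chk : Fm.chk PF_o PH_X_F PH_cs = true := by decide +kernel
theorem PH_X {G : Type*} [Group G] {R : ℕ → G → Prop} {t c n a b e x z y r p o s : G} {H : Subgroup G}
    (M : Mdl PF_o PH_cs PF_L R [t, c, n, a, a⁻¹, b, b⁻¹, e, e⁻¹, x, x⁻¹, z, y, r, p, o, s] H) :
    ∀ i ∈ sp [t * p, p * r], i * i = 1 → i = 1 ∨ (∃ m ∈ H, m * i * m⁻¹ = c ∨ m * i * m⁻¹ = s) :=
  have h : ∀ i, InS R PH_lX i → i * i = 1 → i = 1 ∨ (Good PF_o R PF_L → prods PF_o PF_L PF_o.one ≠ [] → ∃ m, InL PF_o R PF_L m ∧ (m * i * m⁻¹ = c ∨ m * i * m⁻¹ = s)) :=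
    Fm.sound M.μ PH_X_F PH_X_chk M.reps
  (fun i h0 => (fun h1 => (Or.imp (fun h2 => h2) (fun h2 => (Exists.imp (fun m h3 => ⟨M.H.iff.1 h3.1, h3.2⟩) (h2 M.H.good M.H.ne))) ((h i ((PH_lX_E M).iff.2 h0)) h1))))
noncomputable def PH_F_t0 : ST := (.node (nat_lit 11) (.node (nat_lit 6) (.leaf (nat_lit 0)) (.leaf (nat_lit 648))) (.node (nat_lit 14) (.leaf (nat_lit 162)) (.leaf (nat_lit 810))))
noncomputable def PH_F_F : Fm := (.allS PH_lF (.or (.qf (.mem (.v (nat_lit 0)) PH_lE)) (.exF PF_L (fun cs => PH_F_t0.find (Nat.mod (nth (nat_lit 0) cs (nat_lit 0)) (nat_lit 23))) (.qf (.or (.eq (.mul (.mul (.v (nat_lit 0)) (.v (nat_lit 1))) (.inv (.v (nat_lit 0)))) (.mul (.v (nat_lit 5)) (.v (nat_lit 7)))) (.eq (.mul (.mul (.v (nat_lit 0)) (.v (nat_lit 1))) (.inv (.v (nat_lit 0)))) (.v (nat_lit 13))))))))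
theorem PH_F_chk : Fm.chk PF_o PH_F_F PH_cs = true := by decide +kernel
theorem PH_F {G : Type*} [Group G] {R : ℕ → G → Prop} {t c n a b e x z y r p o s : G} {H : Subgroup G}
    (M : Mdl PF_o PH_cs PF_L R [t, c, n, a, a⁻¹, b, b⁻¹, e, e⁻¹, x, x⁻¹, z, y, r, p, o, s] H) :
    ∀ d ∈ sp [a * b, e], d ∈ sp [e] ∨ (∃ m ∈ H, m * d * m⁻¹ = a * b ∨ m * d * m⁻¹ = z) :=
  have h : ∀ d, InS R PH_lF d → InS R PH_lE (d) ∨ (Good PF_o R PF_L → prods PF_o PF_L PF_o.one ≠ [] → ∃ m, InL PF_o R PF_L m ∧ (m * d * m⁻¹ = a * b ∨ m * d * m⁻¹ = z)) :=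
    Fm.sound M.μ PH_F_F PH_F_chk M.reps
  (fun d h0 => (Or.imp (fun h1 => ((PH_lE_E M).iff.1 h1)) (fun h1 => (Exists.imp (fun m h2 => ⟨M.H.iff.1 h2.1, h2.2⟩) (h1 M.H.good M.H.ne))) (h d ((PH_lF_E M).iff.2 h0))))

end H2.NB
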