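import Cfsg.Agent.H2.NB6g

/-! Generated: the centralizer of a long root element of PSp4(3). -/

set_option maxRecDepth 100000
set_option maxHeartbeats 4000000
set_option linter.unusedVariables false

open Subgroup
open scoped commutatorElement
namespace H2.NB
open H0 H0.PM H16 H19 H10.X H2.L3 H2.N9

noncomputable def PQ_cs : List ℕ := [(nat_lit 0x45d5b5f094374f8664c52e93394c209060), (nat_lit 0x6b2f8dab49a5d045dab19cd8248aa60041), (nat_lit 0x6b2875ab499af0c45a36124f524a758402), (nat_lit 0x66d8bea05aca337ba8a38528119a022d83), (nat_lit 0x5b58be66d84a357b8a11312859a8301d44), (nat_lit 0x4272c55ba2ddf44a2cc5aa263bb2418820), (nat_lit 0x50b7936d0ce13a89aac5a9ee3a26418820), (nat_lit 0x624b65e2848d4f385d6d5482800d3cd1a5), (nat_lit 0x2c7ab3142266a783437c467479409921c6), (nat_lit 0x2672111ba756811a30c316393a977859e0), (nat_lit 0x510d20a51ce1230ceac29b4e3ad567de00), (nat_lit 0x4ea97c2996c50536347209d205ec150d6c), (nat_lit 0x5b4f8e66d825d545ca202cd81ca8c090ea)]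
theorem PQ_ext {G : Type*} [Group G] {R : ℕ → G → Prop} {t a b e x q : G} {H : Subgroup G}
    (M : Mdl P2_o P2_cs P2_L R [t, a, a⁻¹, b, b⁻¹, e, e⁻¹, x, x⁻¹, q, q⁻¹] H) :
    Mdl P2_o PQ_cs P2_L R [t, a, a⁻¹, b, b⁻¹, e, e⁻¹, x, x⁻¹, q, q⁻¹, a * b * e, a * b⁻¹] H :=
  ⟨M.μ, M.reps.tms M.μ.1 [(.v (nat_lit 0)), (.v (nat_lit 1)), (.v (nat_lit 2)), (.v (nat_lit 3)), (.v (nat_lit 4)), (.v (nat_lit 5)), (.v (nat_lit 6)), (.v (nat_lit 7)), (.v (nat_lit 8)), (.v (nat_lit 9)), (.v (nat_lit 10)), (.mul (.mul (.v (nat_lit 1)) (.v (nat_lit 3))) (.v (nat_lit 5))), (.mul (.v (nat_lit 1)) (.inv (.v (nat_lit 3))))] (cs' := PQ_cs) (by decide +kernel),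
    tms_mem M.le [(.v (nat_lit 0)), (.v (nat_lit 1)), (.v (nat_lit 2)), (.v (nat_lit 3)), (.v (nat_lit 4)), (.v (nat_lit 5)), (.v (nat_lit 6)), (.v (nat_lit 7)), (.v (nat_lit 8)), (.v (nat_lit 9)), (.v (nat_lit 10)), (.mul (.mul (.v (nat_lit 1)) (.v (nat_lit 3))) (.v (nat_lit 5))), (.mul (.v (nat_lit 1)) (.inv (.v (nat_lit 3))))], M.H⟩
noncomputable def PQ_r_f_F : Fm := (.qf (.and (.eq (.mul (.v (nat_lit 9)) (.v (nat_lit 9))) (.v (nat_lit 0))) (.and (.eq (.mul (.v (nat_lit 9)) (.mul (.mul (.v (nat_lit 1)) (.v (nat_lit 3))) (.v (nat_lit 5)))) (.mul (.mul (.mul (.v (nat_lit 1)) (.v (nat_lit 3))) (.v (nat_lit 5))) (.v (nat_lit 9)))) (.and (.eq (.pw (.mul (.v (nat_lit 9)) (.inv (.v (nat_lit 5)))) (nat_lit 3)) .one) (.and (.eq (.mul (.mul (.v (nat_lit 9)) (.v (nat_lit 7))) (.inv (.v (nat_lit 9)))) (.inv (.mul (.v (nat_lit 1)) (.inv (.v (nat_lit 3)))))) (.eq (.mul (.mul (.v (nat_lit 9)) (.mul (.v (nat_lit 1)) (.inv (.v (nat_lit 3))))) (.inv (.v (nat_lit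 9)))) (.v (nat_lit 7))))))))
theorem PQ_r_f_chk : Fm.chk P2_o PQ_r_f_F PQ_cs = true := by decide +kernel
theorem PQ_r_f {G : Type*} [Group G] {R : ℕ → G → Prop} {t a b e x q z y : G} {H : Subgroup G}
    (M : Mdl P2_o PQ_cs P2_L R [t, a, a⁻¹, b, b⁻¹, e, e⁻¹, x, x⁻¹, q, q⁻¹, z, y] H) :
    q * q = t ∧ q * (a * b * e) = a * b * e * q ∧ (q * e⁻¹) ^ 3 = 1 ∧ q * x * q⁻¹ = (a * b⁻¹)⁻¹ ∧ q * (a * b⁻¹) * q⁻¹ = x :=
  Fm.sound M.μ PQ_r_f_F PQ_r_f_chk M.reps
theorem PQ_r {G : Type*} [Group G] {R : ℕ → G → Prop} {t a b e x q z y : G} {H : Subgroup G}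
    (M : Mdl P2_o PQ_cs P2_L R [t, a, a⁻¹, b, b⁻¹, e, e⁻¹, x, x⁻¹, q, q⁻¹, z, y] H) :
    Q1 a b e x t q :=
  have h := PQ_r_f M
  ⟨h.1, h.2.1, h.2.2.1, h.2.2.2.1, h.2.2.2.2, trivial⟩
noncomputable def PQ_lJ : List ℕ := [(nat_lit 0x6b38bdab49ca307b9ac5a928398a418820), (nat_lit 0x6b2f8dab49a5d045dab19cd8248aa60041), (nat_lit 0x66d8bea05aca337ba8a38528119a022d83), (nat_lit 0x4272c55ba2ddf44a2cc5aa263bb2418820), (nat_lit 0x6b2875ab499af0c45a36124f524a758402), (nat_lit 0x66cf8ea05aa5d345e87208d8049a150d6c), (nat_lit 0x42697d5ba2c514362cb19dd225f2a60041), (nat_lit 0x5b58be66d84a357b8a11312859a8301d44), (nat_lit 0x4eb2c42996dde54a34a3862613ac022d83), (nat_lit 0x50b7936d0ce13a89aac5a9ee3a26418820), (nat_lit 0x66c876a05a9af3c46845024f0a5a23b06b), (nat_lit 0x4266455ba2bb1493ec3612e95472758402), (nat_lit 0x5b4f8e66d825d545ca202cd81ca8c090ea), (nat_lit 0x4ea97c2996c50536347209d205ec150d6c), (nat_lit 0x50b14b6d0cbcda74aab19d172626a60041), (nat_lit 0x5612c4cb6a5ded4a321132265bb4301d44),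 (nat_lit 0x15b795353b613989a0a385ee122a022d83), (nat_lit 0x5b487666d81af5c44a008e4f6268b12887), (nat_lit 0x4ea6442996bb0593f44502e90c6c23b06b), (nat_lit 0x50ae336d0ca25aba6a36131153e6758402), (nat_lit 0x56097ccb6a450d3632202dd21df4c090ea), (nat_lit 0x15b14d353b3cd974a0720917062a150d6c), (nat_lit 0x369791735d613689a61131ee5a20301d44), (nat_lit 0x560644cb6a3b0d93f2008ee96474b12887), (nat_lit 0x15ae35353b2259ba604503110bea23b06b), (nat_lit 0x369149735d3cd674a6202d171e20c090ea), (nat_lit 0x368e31735d2256ba66008f1163e0b12887)]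
noncomputable def PQ_lJ_W : List (List ℕ) := [[],
  [(nat_lit 0)],
  [(nat_lit 1)],
  [(nat_lit 2)],
  [(nat_lit 0), (nat_lit 0)],
  [(nat_lit 0), (nat_lit 1)],
  [(nat_lit 0), (nat_lit 2)],
  [(nat_lit 1), (nat_lit 1)],
  [(nat_lit 1), (nat_lit 2)],
  [(nat_lit 2), (nat_lit 2)],
  [(nat_lit 0), (nat_lit 0), (nat_lit 1)],
  [(nat_lit 0), (nat_lit 0), (nat_lit 2)],
  [(nat_lit 0), (nat_lit 1), (nat_lit 1)],
  [(nat_lit 0), (nat_lit 1), (nat_lit 2)],
  [(nat_lit 0), (nat_lit 2), (nat_lit 2)],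
  [(nat_lit 1), (nat_lit 1), (nat_lit 2)],
  [(nat_lit 1), (nat_lit 2), (nat_lit 2)],
  [(nat_lit 0), (nat_lit 0), (nat_lit 1), (nat_lit 1)],
  [(nat_lit 0), (nat_lit 0), (nat_lit 1), (nat_lit 2)],
  [(nat_lit 0), (nat_lit 0), (nat_lit 2), (nat_lit 2)],
  [(nat_lit 0), (nat_lit 1), (nat_lit 1), (nat_lit 2)],
  [(nat_lit 0), (nat_lit 1), (nat_lit 2), (nat_lit 2)],
  [(nat_lit 1), (nat_lit 1), (nat_lit 2), (nat_lit 2)],
  [(nat_lit 0), (nat_lit 0), (nat_lit 1), (nat_lit 1), (nat_lit 2)],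
  [(nat_lit 0), (nat_lit 0), (nat_lit 1), (nat_lit 2), (nat_lit 2)],
  [(nat_lit 0), (nat_lit 1), (nat_lit 1), (nat_lit 2), (nat_lit 2)],
  [(nat_lit 0), (nat_lit 0), (nat_lit 1), (nat_lit 1), (nat_lit 2), (nat_lit 2)]]
noncomputable def PQ_lJ_h (c : ℕ) : ℕ := Nat.mod c (nat_lit 152)
theorem PQ_lJ_E {G : Type*} [Group G] {R : ℕ → G → Prop} {t a b e x q z y : G} {H : Subgroup G}
    (M : Mdl P2_o PQ_cs P2_L R [t, a, a⁻¹, b, b⁻¹, e, e⁻¹, x, x⁻¹, q, q⁻¹, z, y] H) :
    EnumS R PQ_lJ (sp [a, b, e]) :=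
  enumS_sp M.μ.1 (M.reps.tms M.μ.1 [(.v (nat_lit 1)), (.v (nat_lit 3)), (.v (nat_lit 5))] (cs' := [(nat_lit 0x6b2f8dab49a5d045dab19cd8248aa60041), (nat_lit 0x66d8bea05aca337ba8a38528119a022d83), (nat_lit 0x4272c55ba2ddf44a2cc5aa263bb2418820)]) (by decide +kernel))
    (Ws := PQ_lJ_W) (by decide +kernel) (by decide +kernel)
theorem PQ_lJ_c {G : Type*} [Group G] {R : ℕ → G → Prop} {t a b e x q z y : G} {H : Subgroup G}
    (M : Mdl P2_o PQ_cs P2_L R [t, a, a⁻¹, b, b⁻¹, e, e⁻¹, x, x⁻¹, q, q⁻¹, z, y] H) :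
    #(sp [a, b, e]) = 27 :=
  (PQ_lJ_E M).card M.μ (h := PQ_lJ_h) (by decide +kernel)
noncomputable def PQ_lS : List ℕ := [(nat_lit 0x6b38bdab49ca307b9ac5a928398a418820), (nat_lit 0x6b2f8dab49a5d045dab19cd8248aa60041), (nat_lit 0x66d8bea05aca337ba8a38528119a022d83), (nat_lit 0x4272c55ba2ddf44a2cc5aa263bb2418820), (nat_lit 0x624b65e2848d4f385d6d5482800d3cd1a5), (nat_lit 0x6b2875ab499af0c45a36124f524a758402), (nat_lit 0x66cf8ea05aa5d345e87208d8049a150d6c), (nat_lit 0x42697d5ba2c514362cb19dd225f2a60041), (nat_lit 0x624755e284902f131dacc00b98cd5b168d), (nat_lit 0x5b58be66d84a357b8a11312859a8301d44), (nat_lit 0x4eb2c42996dde54a34a3862613ac022d83), (nat_lit 0x4aeb661e688d493851583482a01c59ead9), (nat_lit 0x50b7936d0ce13a89aac5a9ee3a26418820), (nat_lit 0x3d235c5d8330e820af6d554080653cd1a5), (nat_lit 0x2c7ab3142266a783437c467479409921c6), (nat_lit 0x66c876a05a9af3c46845024f0a5a23b06b), (nat_lit 0x4266455ba2bb1493ec3612e95472758402), (nat_lit 0x62420de284818f5a9d9b4c67a90d0d34b4),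 (nat_lit 0x5b4f8e66d825d545ca202cd81ca8c090ea), (nat_lit 0x4ea97c2996c50536347209d205ec150d6c), (nat_lit 0x4ae7561e689029131109d00b28dcdae756), (nat_lit 0x50b14b6d0cbcda74aab19d172626a60041), (nat_lit 0x3d243c5d83284802efacc0239b255b168d), (nat_lit 0x2c70ab14224da7a583893cba4e411b990e), (nat_lit 0x5612c4cb6a5ded4a321132265bb4301d44), (nat_lit 0x5f0b6492e78d51384cda5882d01192c2b3), (nat_lit 0x15b795353b613989a0a385ee122a022d83), (nat_lit 0x26235bd12730e620b1583540a06e59ead9), (nat_lit 0xd9ab2ce0566a4834517ba74414264e2f2), (nat_lit 0x20cc1baef92c9850236d54e180933cd1a5), (nat_lit 0x1c99d282b05a029d197c46a57b469921c6), (nat_lit 0x5b487666d81af5c44a008e4f6268b12887), (nat_lit 0x4ea6442996bb0593f44502e90c6c23b06b), (nat_lit 0x4ae20e1e6881895a913a9467691d485b3a), (nat_lit 0x50ae336d0ca25aba6a36131153e6758402), (nat_lit 0x3d20145d83056819ef9b4d84aaa50d34b4), (nat_lit 0x2c746b142216c7d5432ba7308cc0fc38c8), (nat_lit 0x56097ccb6a450d3632202dd21df4c090ea),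 (nat_lit 0x5f075492e79031130d42e80bc8d166ce15), (nat_lit 0x15b14d353b3cd974a0720917062a150d6c), (nat_lit 0x26243bd127284602f109d0232b2edae756), (nat_lit 0xd90aace054da4a584f4a0ba3642e8cb17), (nat_lit 0x20ca23aef91c1808e3acc04c9ad35b168d), (nat_lit 0x1c938282b056822e99893db94d871b990e), (nat_lit 0x369791735d613689a61131ee5a20301d44), (nat_lit 0x45e35a4d7430ee20a4da5940d07192c2b3), (nat_lit 0x317ab0c813e6aa8340e45e74c145233e29), (nat_lit 0x19cc1a309bac92501f5834e1a0a259ead9), (nat_lit 0x1159d1c430da009d1717baa5435864e2f2), (nat_lit 0x816c85871ea6ba9557c460d7d089921c6), (nat_lit 0x560644cb6a3b0d93f2008ee96474b12887), (nat_lit 0x5f020c92e781915a8c56e467b111aa5670), (nat_lit 0x15ae35353b2259ba604503110bea23b06b), (nat_lit 0x262013d127056619f13a95846aaf485b3a), (nat_lit 0xd946ace0516c4d544989b3074c287de58), (nat_lit 0x20c103aef9087861239b4d6aa9d30d34b4), (nat_lit 0x1c85a282b03742cc192ba6d38d46fc38c8), (nat_lit 0x369149735d3cd674a6202d171e20c090ea),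 (nat_lit 0x45e43a4d74284e02e542e823cb3166ce15), (nat_lit 0x3170a8c813cdaaa5808360ba96457725f1), (nat_lit 0x19ca22309b9c1208df09d04c2ae2dae756), (nat_lit 0x115381c430d6802e96f4a1b93598e8cb17), (nat_lit 0x815985871c0ab6e55893e964e891b990e), (nat_lit 0x390c19a51c2c975012da58e1d09f92c2b3), (nat_lit 0x28f9d100c15a019d06e45ea5c357233e29), (nat_lit 0x36c896466a63a94f17ba0d451464e2f2), (nat_lit 0x368e31735d2256ba66008f1163e0b12887), (nat_lit 0x45e0124d74056e19e456e584b2b1aa5670), (nat_lit 0x317468c81396cad540674b30bcc584452f), (nat_lit 0x19c102309b8872611f3a956a69e3485b3a), (nat_lit 0x1145a1c430b740cc16989ad3755887de58), (nat_lit 0x80d285871d32bb4d52ba7558c08fc38c8), (nat_lit 0x390a21a51c1c1708d342e84ccadf66ce15), (nat_lit 0x28f38100c156812e868361b995977725f1), (nat_lit 0x3598964640a36e4ef4a2963694e8cb17), (nat_lit 0x456c806a5ea6ca948e45e0dc50f233e29), (nat_lit 0x390101a51c0877611256e56ab1dfaa5670), (nat_lit 0x28e5a100c13741cc06674ad3bd5784452f), (nat_lit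 0x2d2896465323b4ce989b55741487de58), (nat_lit 0x4559806a5c0ac6e48836296968f7725f1), (nat_lit 0x44d2806a5d32cb4c8674b55bc0f84452f)]
noncomputable def PQ_lS_W : List (List ℕ) := [[],
  [(nat_lit 0)],
  [(nat_lit 1)],
  [(nat_lit 2)],
  [(nat_lit 3)],
  [(nat_lit 0), (nat_lit 0)],
  [(nat_lit 0), (nat_lit 1)],
  [(nat_lit 0), (nat_lit 2)],
  [(nat_lit 0), (nat_lit 3)],
  [(nat_lit 1), (nat_lit 1)],
  [(nat_lit 1), (nat_lit 2)],
  [(nat_lit 1), (nat_lit 3)],
  [(nat_lit 2), (nat_lit 2)],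
  [(nat_lit 2), (nat_lit 3)],
  [(nat_lit 3), (nat_lit 3)],
  [(nat_lit 0), (nat_lit 0), (nat_lit 1)],
  [(nat_lit 0), (nat_lit 0), (nat_lit 2)],
  [(nat_lit 0), (nat_lit 0), (nat_lit 3)],
  [(nat_lit 0), (nat_lit 1), (nat_lit 1)],
  [(nat_lit 0), (nat_lit 1), (nat_lit 2)],
  [(nat_lit 0), (nat_lit 1), (nat_lit 3)],
  [(nat_lit 0), (nat_lit 2), (nat_lit 2)],
  [(nat_lit 0), (nat_lit 2), (nat_lit 3)],
  [(nat_lit 0), (nat_lit 3), (nat_lit 3)],
  [(nat_lit 1), (nat_lit 1), (nat_lit 2)],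
  [(nat_lit 1), (nat_lit 1), (nat_lit 3)],
  [(nat_lit 1), (nat_lit 2), (nat_lit 2)],
  [(nat_lit 1), (nat_lit 2), (nat_lit 3)],
  [(nat_lit 1), (nat_lit 3), (nat_lit 3)],
  [(nat_lit 2), (nat_lit 2), (nat_lit 3)],
  [(nat_lit 2), (nat_lit 3), (nat_lit 3)],
  [(nat_lit 0), (nat_lit 0), (nat_lit 1), (nat_lit 1)],
  [(nat_lit 0), (nat_lit 0), (nat_lit 1), (nat_lit 2)],
  [(nat_lit 0), (nat_lit 0), (nat_lit 1), (nat_lit 3)],
  [(nat_lit 0), (nat_lit 0), (nat_lit 2), (nat_lit 2)],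
  [(nat_lit 0), (nat_lit 0), (nat_lit 2), (nat_lit 3)],
  [(nat_lit 0), (nat_lit 0), (nat_lit 3), (nat_lit 3)],
  [(nat_lit 0), (nat_lit 1), (nat_lit 1), (nat_lit 2)],
  [(nat_lit 0), (nat_lit 1), (nat_lit 1), (nat_lit 3)],
  [(nat_lit 0), (nat_lit 1), (nat_lit 2), (nat_lit 2)],
  [(nat_lit 0), (nat_lit 1), (nat_lit 2), (nat_lit 3)],
  [(nat_lit 0), (nat_lit 1), (nat_lit 3), (nat_lit 3)],
  [(nat_lit 0), (nat_lit 2), (nat_lit 2), (nat_lit 3)],
  [(nat_lit 0), (nat_lit 2), (nat_lit 3), (nat_lit 3)],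
  [(nat_lit 1), (nat_lit 1), (nat_lit 2), (nat_lit 2)],
  [(nat_lit 1), (nat_lit 1), (nat_lit 2), (nat_lit 3)],
  [(nat_lit 1), (nat_lit 1), (nat_lit 3), (nat_lit 3)],
  [(nat_lit 1), (nat_lit 2), (nat_lit 2), (nat_lit 3)],
  [(nat_lit 1), (nat_lit 2), (nat_lit 3), (nat_lit 3)],
  [(nat_lit 2), (nat_lit 2), (nat_lit 3), (nat_lit 3)],
  [(nat_lit 0), (nat_lit 0), (nat_lit 1), (nat_lit 1), (nat_lit 2)],
  [(nat_lit 0), (nat_lit 0), (nat_lit 1), (nat_lit 1), (nat_lit 3)],
  [(nat_lit 0), (nat_lit 0), (nat_lit 1), (nat_lit 2), (nat_lit 2)],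
  [(nat_lit 0), (nat_lit 0), (nat_lit 1), (nat_lit 2), (nat_lit 3)],
  [(nat_lit 0), (nat_lit 0), (nat_lit 1), (nat_lit 3), (nat_lit 3)],
  [(nat_lit 0), (nat_lit 0), (nat_lit 2), (nat_lit 2), (nat_lit 3)],
  [(nat_lit 0), (nat_lit 0), (nat_lit 2), (nat_lit 3), (nat_lit 3)],
  [(nat_lit 0), (nat_lit 1), (nat_lit 1), (nat_lit 2), (nat_lit 2)],
  [(nat_lit 0), (nat_lit 1), (nat_lit 1), (nat_lit 2), (nat_lit 3)],
  [(nat_lit 0), (nat_lit 1), (nat_lit 1), (nat_lit 3), (nat_lit 3)],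
  [(nat_lit 0), (nat_lit 1), (nat_lit 2), (nat_lit 2), (nat_lit 3)],
  [(nat_lit 0), (nat_lit 1), (nat_lit 2), (nat_lit 3), (nat_lit 3)],
  [(nat_lit 0), (nat_lit 2), (nat_lit 2), (nat_lit 3), (nat_lit 3)],
  [(nat_lit 1), (nat_lit 1), (nat_lit 2), (nat_lit 2), (nat_lit 3)],
  [(nat_lit 1), (nat_lit 1), (nat_lit 2), (nat_lit 3), (nat_lit 3)],
  [(nat_lit 1), (nat_lit 2), (nat_lit 2), (nat_lit 3), (nat_lit 3)],
  [(nat_lit 0), (nat_lit 0), (nat_lit 1), (nat_lit 1), (nat_lit 2), (nat_lit 2)],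
  [(nat_lit 0), (nat_lit 0), (nat_lit 1), (nat_lit 1), (nat_lit 2), (nat_lit 3)],
  [(nat_lit 0), (nat_lit 0), (nat_lit 1), (nat_lit 1), (nat_lit 3), (nat_lit 3)],
  [(nat_lit 0), (nat_lit 0), (nat_lit 1), (nat_lit 2), (nat_lit 2), (nat_lit 3)],
  [(nat_lit 0), (nat_lit 0), (nat_lit 1), (nat_lit 2), (nat_lit 3), (nat_lit 3)],
  [(nat_lit 0), (nat_lit 0), (nat_lit 2), (nat_lit 2), (nat_lit 3), (nat_lit 3)],
  [(nat_lit 0), (nat_lit 1), (nat_lit 1), (nat_lit 2), (nat_lit 2), (nat_lit 3)],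
  [(nat_lit 0), (nat_lit 1), (nat_lit 1), (nat_lit 2), (nat_lit 3), (nat_lit 3)],
  [(nat_lit 0), (nat_lit 1), (nat_lit 2), (nat_lit 2), (nat_lit 3), (nat_lit 3)],
  [(nat_lit 1), (nat_lit 1), (nat_lit 2), (nat_lit 2), (nat_lit 3), (nat_lit 3)],
  [(nat_lit 0), (nat_lit 0), (nat_lit 1), (nat_lit 1), (nat_lit 2), (nat_lit 2), (nat_lit 3)],
  [(nat_lit 0), (nat_lit 0), (nat_lit 1), (nat_lit 1), (nat_lit 2), (nat_lit 3), (nat_lit 3)],
  [(nat_lit 0), (nat_lit 0), (nat_lit 1), (nat_lit 2), (nat_lit 2), (nat_lit 3), (nat_lit 3)],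
  [(nat_lit 0), (nat_lit 1), (nat_lit 1), (nat_lit 2), (nat_lit 2), (nat_lit 3), (nat_lit 3)],
  [(nat_lit 0), (nat_lit 0), (nat_lit 1), (nat_lit 1), (nat_lit 2), (nat_lit 2), (nat_lit 3), (nat_lit 3)]]
noncomputable def PQ_lS_h (c : ℕ) : ℕ := Nat.mod c (nat_lit 1060)
theorem PQ_lS_E {G : Type*} [Group G] {R : ℕ → G → Prop} {t a b e x q z y : G} {H : Subgroup G}
    (M : Mdl P2_o PQ_cs P2_L R [t, a, a⁻¹, b, b⁻¹, e, e⁻¹, x, x⁻¹, q, q⁻¹, z, y] H) :
    EnumS R PQ_lS (sp [a, b, e, x]) :=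
  enumS_sp M.μ.1 (M.reps.tms M.μ.1 [(.v (nat_lit 1)), (.v (nat_lit 3)), (.v (nat_lit 5)), (.v (nat_lit 7))] (cs' := [(nat_lit 0x6b2f8dab49a5d045dab19cd8248aa60041), (nat_lit 0x66d8bea05aca337ba8a38528119a022d83), (nat_lit 0x4272c55ba2ddf44a2cc5aa263bb2418820), (nat_lit 0x624b65e2848d4f385d6d5482800d3cd1a5)]) (by decide +kernel))
    (Ws := PQ_lS_W) (by decide +kernel) (by decide +kernel)
theorem PQ_lS_c {G : Type*} [Group G] {R : ℕ → G → Prop} {t a b e x q z y : G} {H : Subgroup G}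
    (M : Mdl P2_o PQ_cs P2_L R [t, a, a⁻¹, b, b⁻¹, e, e⁻¹, x, x⁻¹, q, q⁻¹, z, y] H) :
    #(sp [a, b, e, x]) = 81 :=
  (PQ_lS_E M).card M.μ (h := PQ_lS_h) (by decide +kernel)
noncomputable def PQ_lQ : List ℕ := [(nat_lit 0x6b38bdab49ca307b9ac5a928398a418820), (nat_lit 0x624b65e2848d4f385d6d5482800d3cd1a5), (nat_lit 0x5b4f8e66d825d545ca202cd81ca8c090ea), (nat_lit 0x4ea97c2996c50536347209d205ec150d6c), (nat_lit 0x2c7ab3142266a783437c467479409921c6), (nat_lit 0x3d20145d83056819ef9b4d84aaa50d34b4), (nat_lit 0x26243bd127284602f109d0232b2edae756), (nat_lit 0x5f075492e79031130d42e80bc8d166ce15), (nat_lit 0x66c876a05a9af3c46845024f0a5a23b06b), (nat_lit 0x4266455ba2bb1493ec3612e95472758402), (nat_lit 0x368e31735d2256ba66008f1163e0b12887), (nat_lit 0x36c896466a63a94f17ba0d451464e2f2), (nat_lit 0x115381c430d6802e96f4a1b93598e8cb17), (nat_lit 0x1c85a282b03742cc192ba6d38d46fc38c8), (nat_lit 0x20ca23aef91c1808e3acc04c9ad35b168d), (nat_lit 0x19cc1a309bac92501f5834e1a0a259ead9),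 (nat_lit 0x390101a51c0877611256e56ab1dfaa5670), (nat_lit 0x3170a8c813cdaaa5808360ba96457725f1), (nat_lit 0x45e35a4d7430ee20a4da5940d07192c2b3), (nat_lit 0x4ae20e1e6881895a913a9467691d485b3a), (nat_lit 0x5612c4cb6a5ded4a321132265bb4301d44), (nat_lit 0x15b795353b613989a0a385ee122a022d83), (nat_lit 0x28f9d100c15a019d06e45ea5c357233e29), (nat_lit 0x44d2806a5d32cb4c8674b55bc0f84452f), (nat_lit 0xd946ace0516c4d544989b3074c287de58), (nat_lit 0x815985871c0ab6e55893e964e891b990e), (nat_lit 0x50b14b6d0cbcda74aab19d172626a60041)]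
noncomputable def PQ_lQ_W : List (List ℕ) := [[],
  [(nat_lit 0)],
  [(nat_lit 1)],
  [(nat_lit 2)],
  [(nat_lit 0), (nat_lit 0)],
  [(nat_lit 0), (nat_lit 1)],
  [(nat_lit 0), (nat_lit 2)],
  [(nat_lit 1), (nat_lit 0)],
  [(nat_lit 1), (nat_lit 1)],
  [(nat_lit 1), (nat_lit 2)],
  [(nat_lit 2), (nat_lit 2)],
  [(nat_lit 0), (nat_lit 0), (nat_lit 1)],
  [(nat_lit 0), (nat_lit 0), (nat_lit 2)],
  [(nat_lit 0), (nat_lit 1), (nat_lit 0)],
  [(nat_lit 0), (nat_lit 1), (nat_lit 1)],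
  [(nat_lit 0), (nat_lit 1), (nat_lit 2)],
  [(nat_lit 0), (nat_lit 2), (nat_lit 2)],
  [(nat_lit 1), (nat_lit 0), (nat_lit 0)],
  [(nat_lit 1), (nat_lit 0), (nat_lit 1)],
  [(nat_lit 1), (nat_lit 1), (nat_lit 0)],
  [(nat_lit 1), (nat_lit 1), (nat_lit 2)],
  [(nat_lit 1), (nat_lit 2), (nat_lit 2)],
  [(nat_lit 0), (nat_lit 0), (nat_lit 1), (nat_lit 1)],
  [(nat_lit 0), (nat_lit 0), (nat_lit 2), (nat_lit 2)],
  [(nat_lit 0), (nat_lit 1), (nat_lit 0), (nat_lit 1)],
  [(nat_lit 0), (nat_lit 1), (nat_lit 1), (nat_lit 0)],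
  [(nat_lit 1), (nat_lit 1), (nat_lit 2), (nat_lit 2)]]
noncomputable def PQ_lQ_h (c : ℕ) : ℕ := Nat.mod c (nat_lit 32)
theorem PQ_lQ_E {G : Type*} [Group G] {R : ℕ → G → Prop} {t a b e x q z y : G} {H : Subgroup G}
    (M : Mdl P2_o PQ_cs P2_L R [t, a, a⁻¹, b, b⁻¹, e, e⁻¹, x, x⁻¹, q, q⁻¹, z, y] H) :
    EnumS R PQ_lQ (sp [x, y, z]) :=
  enumS_sp M.μ.1 (M.reps.tms M.μ.1 [(.v (nat_lit 7)), (.v (nat_lit 12)), (.v (nat_lit 11))] (cs' := [(nat_lit 0x624b65e2848d4f385d6d5482800d3cd1a5), (nat_lit 0x5b4f8e66d825d545ca202cd81ca8c090ea), (nat_lit 0x4ea97c2996c50536347209d205ec150d6c)]) (by decide +kernel))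
    (Ws := PQ_lQ_W) (by decide +kernel) (by decide +kernel)
theorem PQ_lQ_c {G : Type*} [Group G] {R : ℕ → G → Prop} {t a b e x q z y : G} {H : Subgroup G}
    (M : Mdl P2_o PQ_cs P2_L R [t, a, a⁻¹, b, b⁻¹, e, e⁻¹, x, x⁻¹, q, q⁻¹, z, y] H) :
    #(sp [x, y, z]) = 27 :=
  (PQ_lQ_E M).card M.μ (h := PQ_lQ_h) (by decide +kernel)
noncomputable def PQ_lZ : List ℕ := [(nat_lit 0x6b38bdab49ca307b9ac5a928398a418820), (nat_lit 0x4ea97c2996c50536347209d205ec150d6c), (nat_lit 0x368e31735d2256ba66008f1163e0b12887)]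
noncomputable def PQ_lZ_W : List (List ℕ) := [[],
  [(nat_lit 0)],
  [(nat_lit 0), (nat_lit 0)]]
noncomputable def PQ_lZ_h (c : ℕ) : ℕ := Nat.mod c (nat_lit 8)
theorem PQ_lZ_E {G : Type*} [Group G] {R : ℕ → G → Prop} {t a b e x q z y : G} {H : Subgroup G}
    (M : Mdl P2_o PQ_cs P2_L R [t, a, a⁻¹, b, b⁻¹, e, e⁻¹, x, x⁻¹, q, q⁻¹, z, y] H) :
    EnumS R PQ_lZ (sp [z]) :=
  enumS_sp M.μ.1 (M.reps.tms M.μ.1 [(.v (nat_lit 11))] (cs' := [(nat_lit 0x4ea97c2996c50536347209d205ec150d6c)]) (by decide +kernel))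
    (Ws := PQ_lZ_W) (by decide +kernel) (by decide +kernel)
theorem PQ_lZ_c {G : Type*} [Group G] {R : ℕ → G → Prop} {t a b e x q z y : G} {H : Subgroup G}
    (M : Mdl P2_o PQ_cs P2_L R [t, a, a⁻¹, b, b⁻¹, e, e⁻¹, x, x⁻¹, q, q⁻¹, z, y] H) :
    #(sp [z]) = 3 :=
  (PQ_lZ_E M).card M.μ (h := PQ_lZ_h) (by decide +kernel)
noncomputable def PQ_lT : List ℕ := [(nat_lit 0x6b38bdab49ca307b9ac5a928398a418820), (nat_lit 0x4ea97c2996c50536347209d205ec150d6c), (nat_lit 0x4272c55ba2ddf44a2cc5aa263bb2418820), (nat_lit 0x2672111ba756811a30c316393a977859e0), (nat_lit 0x368e31735d2256ba66008f1163e0b12887), (nat_lit 0x15b14d353b3cd974a0720917062a150d6c), (nat_lit 0x39b118753c532b54927bd9150088f2c0cc), (nat_lit 0x50b7936d0ce13a89aac5a9ee3a26418820), (nat_lit 0x5d5937095887a8e48c3168a3a277859e0), (nat_lit 0x44b7112d04374119a4c765f33a978a5520), (nat_lit 0x45d5b5f094374f8664c52e93394c209060), (nat_lit 0x5b487666d81af5c44a008e4f6268b12887), (nat_lit 0x634852e6d4e6a4145c07c25460c26b16e7),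 (nat_lit 0x66cf8ea05aa5d345e87208d8049a150d6c), (nat_lit 0x2f148e92e20d5345427bdb22049af2c0cc), (nat_lit 0x22cf1860596a6b55e27c54cd00889cd1cc), (nat_lit 0x231483d2e96a662d6271132d05ae35854c), (nat_lit 0x6962ae0819ca29a29ac314683e5d7859e0), (nat_lit 0x50dbda51588707cc8c7674a398b8a5520), (nat_lit 0x3d0dae25135a09a4eec52f453e5c209060), (nat_lit 0x3f38112b435a011baec44d253a972d3620), (nat_lit 0x5162b5c81ce12f82aac44c6e394d2d3620), (nat_lit 0x510d20a51ce1230ceac29b4e3ad567de00), (nat_lit 0x560644cb6a3b0d93f2008ee96474b12887), (nat_lit 0x113944dd80a84d951607c2a364746b16e7), (nat_lit 0x4a0652cb68cda413d004d2fa60c2eae707), (nat_lit 0x4939299d88cdb7b5100186ba641ea22c47), (nat_lit 0x4c83a242b6c50ec8b47bd9520570f2c0cc), (nat_lit 0x2e5a7c22820d4533427c566205ec9cd1cc), (nat_lit 0x1a5aa2628bc0aecb5e711276057035854c), (nat_lit 0x1aa918699bc0ab561e7935d6008919e90c), (nat_lit 0x648383c2baa5c628a879355805af19e90c), (nat_lit 0x665a08e28aa5ca5b687b5e780105033cac),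 (nat_lit 0x41626c8812ddf1d2acc764663cd18a5520), (nat_lit 0x24d66caef75691d170c52e193cd0209060), (nat_lit 0x4d6c56ef588744948c44e0a3bb32d3620), (nat_lit 0xf386cab451031d384c2992b3cd167de00), (nat_lit 0xe72b5dba5102f8204ccba2b394d54e280), (nat_lit 0x68d620aef9ca23095accba083ad554e280), (nat_lit 0x342acb964d2258a8e607c05165126b16e7), (nat_lit 0x1233315120a856be9604d1a363e0eae707), (nat_lit 0x5e33cb912796d8ae8c0185b06512a22c47), (nat_lit 0x5e8e52f35796c4124c08eb1060c286ce47), (nat_lit 0x542a29964a3b17b0f208e849641e86ce47), (nat_lit 0x56335a912a3b0226b2083da960465b9ac7), (nat_lit 0x1483d442bb3cc898a07c555703649cd1cc), (nat_lit 0x3af0d45e6c53289d927110b5036435854c), (nat_lit 0x2ef04d1e620d5975827934a2062b19e90c), (nat_lit 0x2aa9d4699105689e067b5dc40365033cac), (nat_lit 0x29b183f53105662c867ae10405af47272c), (nat_lit 0x4ef008de66c50a5db47ae0b2010547272c), (nat_lit 0x4544c5443437544ae4c298333bb367de00), (nat_lit 0x3d449344335a1a8aeeccb8253a2754e280),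 (nat_lit 0xcb7ae2d051029a184c9a1eb3e5cd8cb40), (nat_lit 0x41d520b092dde30e6cc9a2863ad4d8cb40), (nat_lit 0x2544bd843756907af0c9a039398ad8cb40), (nat_lit 0x582a9a16481af268ca04d04f66a2eae707), (nat_lit 0x61e59a0d74e6b26c1c0186d466a2a22c47), (nat_lit 0x11e5764d70a855c41608eac3626886ce47), (nat_lit 0xa8e9a3351ac926a54083f0166a25b9ac7), (nat_lit 0xb4829a6d1ac97b4540a2641641f9c3aa7), (nat_lit 0x35e55a8d7d224224260a26d160479c3aa7), (nat_lit 0x20414d06a96a7971227b5d6d062b033cac), (nat_lit 0x18418e86abc0b3411e7ae176049b47272c), (nat_lit 0x2acfa26051056ecdc676c8c40571a4466c), (nat_lit 0x171408d2eb3cca5d6076cb370105a4466c), (nat_lit 0x38417c06ac5325311276c97505eda4466c), (nat_lit 0x486b765428cdb5c050083c9a62685b9ac7), (nat_lit 0x5c6b44d42796cd904c0a249064759c3aa7), (nat_lit 0xa06cb8b61ac98abd40d46e165133921a7), (nat_lit 0x59395a9d881ae2250a0d46af60473921a7), (nat_lit 0x606b315424e6b6b85c0d449463e13921a7)]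
noncomputable def PQ_lT_W : List (List ℕ) := [[],
  [(nat_lit 0)],
  [(nat_lit 1)],
  [(nat_lit 2)],
  [(nat_lit 0), (nat_lit 0)],
  [(nat_lit 0), (nat_lit 1)],
  [(nat_lit 0), (nat_lit 2)],
  [(nat_lit 1), (nat_lit 1)],
  [(nat_lit 1), (nat_lit 2)],
  [(nat_lit 2), (nat_lit 1)],
  [(nat_lit 2), (nat_lit 2)],
  [(nat_lit 0), (nat_lit 0), (nat_lit 1)],
  [(nat_lit 0), (nat_lit 0), (nat_lit 2)],
  [(nat_lit 0), (nat_lit 1), (nat_lit 1)],
  [(nat_lit 0), (nat_lit 1), (nat_lit 2)],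
  [(nat_lit 0), (nat_lit 2), (nat_lit 1)],
  [(nat_lit 0), (nat_lit 2), (nat_lit 2)],
  [(nat_lit 1), (nat_lit 1), (nat_lit 2)],
  [(nat_lit 1), (nat_lit 2), (nat_lit 1)],
  [(nat_lit 1), (nat_lit 2), (nat_lit 2)],
  [(nat_lit 2), (nat_lit 1), (nat_lit 1)],
  [(nat_lit 2), (nat_lit 1), (nat_lit 2)],
  [(nat_lit 2), (nat_lit 2), (nat_lit 2)],
  [(nat_lit 0), (nat_lit 0), (nat_lit 1), (nat_lit 1)],
  [(nat_lit 0), (nat_lit 0), (nat_lit 1), (nat_lit 2)],
  [(nat_lit 0), (nat_lit 0), (nat_lit 2), (nat_lit 1)],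
  [(nat_lit 0), (nat_lit 0), (nat_lit 2), (nat_lit 2)],
  [(nat_lit 0), (nat_lit 1), (nat_lit 1), (nat_lit 2)],
  [(nat_lit 0), (nat_lit 1), (nat_lit 2), (nat_lit 1)],
  [(nat_lit 0), (nat_lit 1), (nat_lit 2), (nat_lit 2)],
  [(nat_lit 0), (nat_lit 2), (nat_lit 1), (nat_lit 1)],
  [(nat_lit 0), (nat_lit 2), (nat_lit 1), (nat_lit 2)],
  [(nat_lit 0), (nat_lit 2), (nat_lit 2), (nat_lit 2)],
  [(nat_lit 1), (nat_lit 1), (nat_lit 2), (nat_lit 1)],
  [(nat_lit 1), (nat_lit 1), (nat_lit 2), (nat_lit 2)],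
  [(nat_lit 1), (nat_lit 2), (nat_lit 1), (nat_lit 1)],
  [(nat_lit 1), (nat_lit 2), (nat_lit 2), (nat_lit 2)],
  [(nat_lit 2), (nat_lit 1), (nat_lit 1), (nat_lit 2)],
  [(nat_lit 2), (nat_lit 1), (nat_lit 2), (nat_lit 2)],
  [(nat_lit 0), (nat_lit 0), (nat_lit 1), (nat_lit 1), (nat_lit 2)],
  [(nat_lit 0), (nat_lit 0), (nat_lit 1), (nat_lit 2), (nat_lit 1)],
  [(nat_lit 0), (nat_lit 0), (nat_lit 1), (nat_lit 2), (nat_lit 2)],
  [(nat_lit 0), (nat_lit 0), (nat_lit 2), (nat_lit 1), (nat_lit 1)],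
  [(nat_lit 0), (nat_lit 0), (nat_lit 2), (nat_lit 1), (nat_lit 2)],
  [(nat_lit 0), (nat_lit 0), (nat_lit 2), (nat_lit 2), (nat_lit 2)],
  [(nat_lit 0), (nat_lit 1), (nat_lit 1), (nat_lit 2), (nat_lit 1)],
  [(nat_lit 0), (nat_lit 1), (nat_lit 1), (nat_lit 2), (nat_lit 2)],
  [(nat_lit 0), (nat_lit 1), (nat_lit 2), (nat_lit 1), (nat_lit 1)],
  [(nat_lit 0), (nat_lit 1), (nat_lit 2), (nat_lit 2), (nat_lit 2)],
  [(nat_lit 0), (nat_lit 2), (nat_lit 1), (nat_lit 1), (nat_lit 2)],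
  [(nat_lit 0), (nat_lit 2), (nat_lit 1), (nat_lit 2), (nat_lit 2)],
  [(nat_lit 1), (nat_lit 1), (nat_lit 2), (nat_lit 2), (nat_lit 2)],
  [(nat_lit 1), (nat_lit 2), (nat_lit 1), (nat_lit 1), (nat_lit 2)],
  [(nat_lit 2), (nat_lit 1), (nat_lit 1), (nat_lit 2), (nat_lit 1)],
  [(nat_lit 2), (nat_lit 1), (nat_lit 1), (nat_lit 2), (nat_lit 2)],
  [(nat_lit 2), (nat_lit 1), (nat_lit 2), (nat_lit 2), (nat_lit 2)],
  [(nat_lit 0), (nat_lit 0), (nat_lit 1), (nat_lit 1), (nat_lit 2), (nat_lit 1)],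
  [(nat_lit 0), (nat_lit 0), (nat_lit 1), (nat_lit 1), (nat_lit 2), (nat_lit 2)],
  [(nat_lit 0), (nat_lit 0), (nat_lit 1), (nat_lit 2), (nat_lit 1), (nat_lit 1)],
  [(nat_lit 0), (nat_lit 0), (nat_lit 1), (nat_lit 2), (nat_lit 2), (nat_lit 2)],
  [(nat_lit 0), (nat_lit 0), (nat_lit 2), (nat_lit 1), (nat_lit 1), (nat_lit 2)],
  [(nat_lit 0), (nat_lit 0), (nat_lit 2), (nat_lit 1), (nat_lit 2), (nat_lit 2)],
  [(nat_lit 0), (nat_lit 1), (nat_lit 1), (nat_lit 2), (nat_lit 2), (nat_lit 2)],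
  [(nat_lit 0), (nat_lit 1), (nat_lit 2), (nat_lit 1), (nat_lit 1), (nat_lit 2)],
  [(nat_lit 0), (nat_lit 2), (nat_lit 1), (nat_lit 1), (nat_lit 2), (nat_lit 1)],
  [(nat_lit 0), (nat_lit 2), (nat_lit 1), (nat_lit 1), (nat_lit 2), (nat_lit 2)],
  [(nat_lit 0), (nat_lit 2), (nat_lit 1), (nat_lit 2), (nat_lit 2), (nat_lit 2)],
  [(nat_lit 0), (nat_lit 0), (nat_lit 1), (nat_lit 1), (nat_lit 2), (nat_lit 2), (nat_lit 2)],
  [(nat_lit 0), (nat_lit 0), (nat_lit 1), (nat_lit 2), (nat_lit 1), (nat_lit 1), (nat_lit 2)],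
  [(nat_lit 0), (nat_lit 0), (nat_lit 2), (nat_lit 1), (nat_lit 1), (nat_lit 2), (nat_lit 1)],
  [(nat_lit 0), (nat_lit 0), (nat_lit 2), (nat_lit 1), (nat_lit 1), (nat_lit 2), (nat_lit 2)],
  [(nat_lit 0), (nat_lit 0), (nat_lit 2), (nat_lit 1), (nat_lit 2), (nat_lit 2), (nat_lit 2)]]
noncomputable def PQ_lT_h (c : ℕ) : ℕ := Nat.mod c (nat_lit 849)
theorem PQ_lT_E {G : Type*} [Group G] {R : ℕ → G → Prop} {t a b e x q z y : G} {H : Subgroup G}
    (M : Mdl P2_o PQ_cs P2_L R [t, a, a⁻¹, b, b⁻¹, e, e⁻¹, x, x⁻¹, q, q⁻¹, z, y] H) :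
    EnumS R PQ_lT (sp [z, e, q]) :=
  enumS_sp M.μ.1 (M.reps.tms M.μ.1 [(.v (nat_lit 11)), (.v (nat_lit 5)), (.v (nat_lit 9))] (cs' := [(nat_lit 0x4ea97c2996c50536347209d205ec150d6c), (nat_lit 0x4272c55ba2ddf44a2cc5aa263bb2418820), (nat_lit 0x2672111ba756811a30c316393a977859e0)]) (by decide +kernel))
    (Ws := PQ_lT_W) (by decide +kernel) (by decide +kernel)
theorem PQ_lT_c {G : Type*} [Group G] {R : ℕ → G → Prop} {t a b e x q z y : G} {H : Subgroup G}
    (M : Mdl P2_o PQ_cs P2_L R [t, a, a⁻¹, b, b⁻¹, e, e⁻¹, x, x⁻¹, q, q⁻¹, z, y] H) :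
    #(sp [z, e, q]) = 72 :=
  (PQ_lT_E M).card M.μ (h := PQ_lT_h) (by decide +kernel)
noncomputable def PQ_lD : List ℕ := [(nat_lit 0x6b38bdab49ca307b9ac5a928398a418820), (nat_lit 0x45d5b5f094374f8664c52e93394c209060), (nat_lit 0x6b2f8dab49a5d045dab19cd8248aa60041), (nat_lit 0x66d8bea05aca337ba8a38528119a022d83), (nat_lit 0x4272c55ba2ddf44a2cc5aa263bb2418820), (nat_lit 0x624b65e2848d4f385d6d5482800d3cd1a5), (nat_lit 0x3af5b45e6c37488652b38e932164012981), (nat_lit 0x45d0d5f094532f9da4a09cb5134cb60083), (nat_lit 0x3d0dae25135a09a4eec52f453e5c209060), (nat_lit 0x2831bb16413b077c876ae909818146cf25), (nat_lit 0x6b2875ab499af0c45a36124f524a758402), (nat_lit 0x66cf8ea05aa5d345e87208d8049a150d6c), (nat_lit 0x42697d5ba2c514362cb19dd225f2a60041), (nat_lit 0x624755e284902f131dacc00b98cd5b168d), (nat_lit 0x5b58be66d84a357b8a11312859a8301d44), (nat_lit 0x4eb2c42996dde54a34a3862613ac022d83), (nat_lit 0x4aeb661e688d493851583482a01c59ead9), (nat_lit 0x50b7936d0ce13a89aac5a9ee3a26418820),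 (nat_lit 0x3d235c5d8330e820af6d554080653cd1a5), (nat_lit 0x55aa65b53a057038f378e044780a872646), (nat_lit 0x2c7ab3142266a783437c467479409921c6), (nat_lit 0x5e35b39127b758864c3232935152101d62), (nat_lit 0x3af0d45e6c53289d927110b5036435854c), (nat_lit 0x230dabd2e95a06a4e2b38f45266e012981), (nat_lit 0x591ba8e05bb027c89a8650999865a56cd), (nat_lit 0x45d3cdf09416cfaea41609b05d0c750c04), (nat_lit 0x3d148625136a692d6ea09f2d159cb60083), (nat_lit 0x282fc3164122474dc756c0d1a381ab1679), (nat_lit 0x24d66caef75691d170c52e193cd0209060), (nat_lit 0x1c4e8ac6a05de442596aeb06848346cf25), (nat_lit 0x66c876a05a9af3c46845024f0a5a23b06b), (nat_lit 0x4266455ba2bb1493ec3612e95472758402), (nat_lit 0x62420de284818f5a9d9b4c67a90d0d34b4), (nat_lit 0x5b4f8e66d825d545ca202cd81ca8c090ea), (nat_lit 0x4ea97c2996c50536347209d205ec150d6c), (nat_lit 0x4ae7561e689029131109d00b28dcdae756), (nat_lit 0x50b14b6d0cbcda74aab19d172626a60041), (nat_lit 0x3d243c5d83284802efacc0239b255b168d),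 (nat_lit 0x55a75db53a08702333173c0a404b8b9932), (nat_lit 0x2c70ab14224da7a583893cba4e411b990e), (nat_lit 0x5612c4cb6a5ded4a321132265bb4301d44), (nat_lit 0x5f0b6492e78d51384cda5882d01192c2b3), (nat_lit 0x15b795353b613989a0a385ee122a022d83), (nat_lit 0x26235bd12730e620b1583540a06e59ead9), (nat_lit 0x36ca65605d057438e787c84448326446ee), (nat_lit 0xd9ab2ce0566a4834517ba74414264e2f2), (nat_lit 0x20cc1baef92c9850236d54e180933cd1a5), (nat_lit 0x428156b352b0f3112d78e16078da872646), (nat_lit 0x1c99d282b05a029d197c46a57b469921c6), (nat_lit 0x5e30d39127d3389d8c4028b50b52c188eb), (nat_lit 0x61edaa0d74da12a4dc3233455662101d62), (nat_lit 0x3151b84433bb0b7c8199d909a988d2c354), (nat_lit 0x3af3cc5e6c16c8ae922581b01d2443b02a), (nat_lit 0x231483d2e96a662d6271132d05ae35854c), (nat_lit 0x58fc28e05a2424dc90a4cd12b879d36b6), (nat_lit 0x1a566a628bd68ed15eb38e1924f0012981), (nat_lit 0x96e89c811dde04255a867069c985a56cd), (nat_lit 0x3d059e251366a96c2e160ad45e9c750c04),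 (nat_lit 0x28299316411ae78e06db51cfd2010ae4b3), (nat_lit 0x24daa4aef740b1cb70a09e761550b60083), (nat_lit 0x1c487ac6a06124345956c24ea5c3ab1679), (nat_lit 0x101770d870c50ac1976ae9f2824546cf25), (nat_lit 0x5b487666d81af5c44a008e4f6268b12887), (nat_lit 0x4ea6442996bb0593f44502e90c6c23b06b), (nat_lit 0x4ae20e1e6881895a913a9467691d485b3a), (nat_lit 0x50ae336d0ca25aba6a36131153e6758402), (nat_lit 0x3d20145d83056819ef9b4d84aaa50d34b4), (nat_lit 0x55a41db53a019052f2eba027c08af8c8c9), (nat_lit 0x2c746b142216c7d5432ba7308cc0fc38c8), (nat_lit 0x56097ccb6a450d3632202dd21df4c090ea), (nat_lit 0x5f075492e79031130d42e80bc8d166ce15), (nat_lit 0x15b14d353b3cd974a0720917062a150d6c), (nat_lit 0x26243bd127284602f109d0232b2edae756), (nat_lit 0x36c75d605d08742326f4240a30732c3a37), (nat_lit 0xd90aace054da4a584f4a0ba3642e8cb17), (nat_lit 0x20ca23aef91c1808e3acc04c9ad35b168d), (nat_lit 0x42823eb352ac9302ad173c61431b8b9932), (nat_lit 0x1c938282b056822e99893db94d871b990e),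 (nat_lit 0x369791735d613689a61131ee5a20301d44), (nat_lit 0x45e35a4d7430ee20a4da5940d07192c2b3), (nat_lit 0x5aaa636998057a38cb24dc448826e33f08), (nat_lit 0x317ab0c813e6aa8340e45e74c145233e29), (nat_lit 0x19cc1a309bac92501f5834e1a0a259ead9), (nat_lit 0x53415426dcb0e5112b87c96048ec6446ee), (nat_lit 0x1159d1c430da009d1717baa5435864e2f2), (nat_lit 0x4cac0e6d06a855583578e0e37928872646), (nat_lit 0x816c85871ea6ba9557c460d7d089921c6), (nat_lit 0x5e33cb912796d8ae8c0185b06512a22c47), (nat_lit 0x61f4820d74ea722d5c402b2d0da2c188eb), (nat_lit 0x314fc04433a24b4dc132d4d16b896cd21a), (nat_lit 0x4936699d88d697d15032321954de101d62), (nat_lit 0x2cee8880c25de3424399db06ac94d2c354), (nat_lit 0x23059bd2e966a66c222582d41eae43b02a), (nat_lit 0x589928e059ae28e094d15cfca073859b5), (nat_lit 0x1a5aa2628bc0aecb5e711276057035854c), (nat_lit 0x96879c811e12034550a4e4e2dd99d36b6), (nat_lit 0x777114264501c18fa865f29a565a56cd), (nat_lit 0x24d92caef74db1b530160aba5c10750c04),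 (nat_lit 0x1c464ac6a04a2473d8db52e8d6030ae4b3), (nat_lit 0x101840d870bcca939756c137a445ab1679), (nat_lit 0x560644cb6a3b0d93f2008ee96474b12887), (nat_lit 0x5f020c92e781915a8c56e467b111aa5670), (nat_lit 0x15ae35353b2259ba604503110bea23b06b), (nat_lit 0x262013d127056619f13a95846aaf485b3a), (nat_lit 0x36c41d605d019452e68c182790b297ddd1), (nat_lit 0xd946ace0516c4d544989b3074c287de58), (nat_lit 0x20c103aef9087861239b4d6aa9d30d34b4), (nat_lit 0x428026b3528d5309eceba182c2daf8c8c9), (nat_lit 0x1c85a282b03742cc192ba6d38d46fc38c8), (nat_lit 0x369149735d3cd674a6202d171e20c090ea), (nat_lit 0x45e43a4d74284e02e542e823cb3166ce15), (nat_lit 0x5aa75b6998087a230a93440a70677921f8), (nat_lit 0x3170a8c813cdaaa5808360ba96457725f1), (nat_lit 0x19ca22309b9c1208df09d04c2ae2dae756), (nat_lit 0x53423c26dcac8502aaf42461332d2c3a37), (nat_lit 0x115381c430d6802e96f4a1b93598e8cb17), (nat_lit 0x4cab166d069c151875173c8c42a98b9932), (nat_lit 0x815985871c0ab6e55893e964e891b990e),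 (nat_lit 0x390c19a51c2c975012da58e1d09f92c2b3), (nat_lit 0x6a01550b69b0f9111b24dd6088eae33f08), (nat_lit 0x28f9d100c15a019d06e45ea5c357233e29), (nat_lit 0x172c0ceb4b284d582187c8e349346446ee), (nat_lit 0x36c896466a63a94f17ba0d451464e2f2), (nat_lit 0x61e59a0d74e6b26c1c0186d466a2a22c47), (nat_lit 0x31499044339aeb8e005cb5cfb20959ea90), (nat_lit 0x493aa19d88c0b7cb50402a760d5ec188eb), (nat_lit 0x2ce87880c26123344332d64e6dd56cd21a), (nat_lit 0xc977002b5450cc18599d9f2aa4ed2c354), (nat_lit 0x1a592a628bcdaeb51e2582ba1c3043b02a), (nat_lit 0x96649c811ca2073d54d16e8ce193859b5), (nat_lit 0x784114263cc1938f0a4d372c579d36b6), (nat_lit 0x101230d870a5caba16db5238d3c50ae4b3), (nat_lit 0x368e31735d2256ba66008f1163e0b12887), (nat_lit 0x45e0124d74056e19e456e584b2b1aa5670), (nat_lit 0x5aa41b6998019a52ca693827b8a714e10f), (nat_lit 0x317468c81396cad540674b30bcc584452f), (nat_lit 0x19c102309b8872611f3a956a69e3485b3a), (nat_lit 0x53402426dc8d4509ea8c198292ec97ddd1), (nat_lit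 0x1145a1c430b740cc16989ad3755887de58), (nat_lit 0x4ca3066d06903560b4eba14bc1e8f8c8c9), (nat_lit 0x80d285871d32bb4d52ba7558c08fc38c8), (nat_lit 0x390a21a51c1c1708d342e84ccadf66ce15), (nat_lit 0x6a023d0b69ac99029a934461732b7921f8), (nat_lit 0x28f38100c156812e868361b995977725f1), (nat_lit 0x172b14eb4b1c0d1860f4248c32b52c3a37), (nat_lit 0x3598964640a36e4ef4a2963694e8cb17), (nat_lit 0x666c095baaa856582924dce38920e33f08), (nat_lit 0x456c806a5ea6ca948e45e0dc50f233e29), (nat_lit 0x4939299d88cdb7b5100186ba641ea22c47), (nat_lit 0x2ce64880c24a2373c25cb6e8b61559ea90), (nat_lit 0xc984002b53ccc938532d5376c4f6cd21a), (nat_lit 0x7231142625c1ba0f4d1638cbd73859b5), (nat_lit 0x390101a51c0877611256e56ab1dfaa5670), (nat_lit 0x6a00250b698d5909da693982baeb14e10f), (nat_lit 0x28e5a100c13741cc06674ad3bd5784452f), (nat_lit 0x172304eb4b102d60a08c194b91f497ddd1), (nat_lit 0x2d2896465323b4ce989b55741487de58), (nat_lit 0x666b115baa9c16186893448c72a17921f8), (nat_lit 0x4559806a5c0ac6e48836296968f7725f1),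 (nat_lit 0xc923002b525ccba045cb638b3cf59ea90), (nat_lit 0x6663015baa903660a869394bb9e114e10f), (nat_lit 0x44d2806a5d32cb4c8674b55bc0f84452f)]
noncomputable def PQ_lD_W : List (List ℕ) := [[],
  [(nat_lit 0)],
  [(nat_lit 1)],
  [(nat_lit 2)],
  [(nat_lit 3)],
  [(nat_lit 4)],
  [(nat_lit 0), (nat_lit 1)],
  [(nat_lit 0), (nat_lit 2)],
  [(nat_lit 0), (nat_lit 3)],
  [(nat_lit 0), (nat_lit 4)],
  [(nat_lit 1), (nat_lit 1)],
  [(nat_lit 1), (nat_lit 2)],
  [(nat_lit 1), (nat_lit 3)],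
  [(nat_lit 1), (nat_lit 4)],
  [(nat_lit 2), (nat_lit 2)],
  [(nat_lit 2), (nat_lit 3)],
  [(nat_lit 2), (nat_lit 4)],
  [(nat_lit 3), (nat_lit 3)],
  [(nat_lit 3), (nat_lit 4)],
  [(nat_lit 4), (nat_lit 0)],
  [(nat_lit 4), (nat_lit 4)],
  [(nat_lit 0), (nat_lit 1), (nat_lit 1)],
  [(nat_lit 0), (nat_lit 1), (nat_lit 2)],
  [(nat_lit 0), (nat_lit 1), (nat_lit 3)],
  [(nat_lit 0), (nat_lit 1), (nat_lit 4)],
  [(nat_lit 0), (nat_lit 2), (nat_lit 2)],
  [(nat_lit 0), (nat_lit 2), (nat_lit 3)],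
  [(nat_lit 0), (nat_lit 2), (nat_lit 4)],
  [(nat_lit 0), (nat_lit 3), (nat_lit 3)],
  [(nat_lit 0), (nat_lit 3), (nat_lit 4)],
  [(nat_lit 1), (nat_lit 1), (nat_lit 2)],
  [(nat_lit 1), (nat_lit 1), (nat_lit 3)],
  [(nat_lit 1), (nat_lit 1), (nat_lit 4)],
  [(nat_lit 1), (nat_lit 2), (nat_lit 2)],
  [(nat_lit 1), (nat_lit 2), (nat_lit 3)],
  [(nat_lit 1), (nat_lit 2), (nat_lit 4)],
  [(nat_lit 1), (nat_lit 3), (nat_lit 3)],
  [(nat_lit 1), (nat_lit 3), (nat_lit 4)],
  [(nat_lit 1), (nat_lit 4), (nat_lit 0)],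
  [(nat_lit 1), (nat_lit 4), (nat_lit 4)],
  [(nat_lit 2), (nat_lit 2), (nat_lit 3)],
  [(nat_lit 2), (nat_lit 2), (nat_lit 4)],
  [(nat_lit 2), (nat_lit 3), (nat_lit 3)],
  [(nat_lit 2), (nat_lit 3), (nat_lit 4)],
  [(nat_lit 2), (nat_lit 4), (nat_lit 0)],
  [(nat_lit 2), (nat_lit 4), (nat_lit 4)],
  [(nat_lit 3), (nat_lit 3), (nat_lit 4)],
  [(nat_lit 3), (nat_lit 4), (nat_lit 0)],
  [(nat_lit 3), (nat_lit 4), (nat_lit 4)],
  [(nat_lit 0), (nat_lit 1), (nat_lit 1), (nat_lit 2)],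
  [(nat_lit 0), (nat_lit 1), (nat_lit 1), (nat_lit 3)],
  [(nat_lit 0), (nat_lit 1), (nat_lit 1), (nat_lit 4)],
  [(nat_lit 0), (nat_lit 1), (nat_lit 2), (nat_lit 2)],
  [(nat_lit 0), (nat_lit 1), (nat_lit 2), (nat_lit 3)],
  [(nat_lit 0), (nat_lit 1), (nat_lit 2), (nat_lit 4)],
  [(nat_lit 0), (nat_lit 1), (nat_lit 3), (nat_lit 3)],
  [(nat_lit 0), (nat_lit 1), (nat_lit 3), (nat_lit 4)],
  [(nat_lit 0), (nat_lit 2), (nat_lit 2), (nat_lit 3)],
  [(nat_lit 0), (nat_lit 2), (nat_lit 2), (nat_lit 4)],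
  [(nat_lit 0), (nat_lit 2), (nat_lit 3), (nat_lit 3)],
  [(nat_lit 0), (nat_lit 2), (nat_lit 3), (nat_lit 4)],
  [(nat_lit 0), (nat_lit 3), (nat_lit 3), (nat_lit 4)],
  [(nat_lit 1), (nat_lit 1), (nat_lit 2), (nat_lit 2)],
  [(nat_lit 1), (nat_lit 1), (nat_lit 2), (nat_lit 3)],
  [(nat_lit 1), (nat_lit 1), (nat_lit 2), (nat_lit 4)],
  [(nat_lit 1), (nat_lit 1), (nat_lit 3), (nat_lit 3)],
  [(nat_lit 1), (nat_lit 1), (nat_lit 3), (nat_lit 4)],
  [(nat_lit 1), (nat_lit 1), (nat_lit 4), (nat_lit 0)],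
  [(nat_lit 1), (nat_lit 1), (nat_lit 4), (nat_lit 4)],
  [(nat_lit 1), (nat_lit 2), (nat_lit 2), (nat_lit 3)],
  [(nat_lit 1), (nat_lit 2), (nat_lit 2), (nat_lit 4)],
  [(nat_lit 1), (nat_lit 2), (nat_lit 3), (nat_lit 3)],
  [(nat_lit 1), (nat_lit 2), (nat_lit 3), (nat_lit 4)],
  [(nat_lit 1), (nat_lit 2), (nat_lit 4), (nat_lit 0)],
  [(nat_lit 1), (nat_lit 2), (nat_lit 4), (nat_lit 4)],
  [(nat_lit 1), (nat_lit 3), (nat_lit 3), (nat_lit 4)],
  [(nat_lit 1), (nat_lit 3), (nat_lit 4), (nat_lit 0)],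
  [(nat_lit 1), (nat_lit 3), (nat_lit 4), (nat_lit 4)],
  [(nat_lit 2), (nat_lit 2), (nat_lit 3), (nat_lit 3)],
  [(nat_lit 2), (nat_lit 2), (nat_lit 3), (nat_lit 4)],
  [(nat_lit 2), (nat_lit 2), (nat_lit 4), (nat_lit 0)],
  [(nat_lit 2), (nat_lit 2), (nat_lit 4), (nat_lit 4)],
  [(nat_lit 2), (nat_lit 3), (nat_lit 3), (nat_lit 4)],
  [(nat_lit 2), (nat_lit 3), (nat_lit 4), (nat_lit 0)],
  [(nat_lit 2), (nat_lit 3), (nat_lit 4), (nat_lit 4)],
  [(nat_lit 3), (nat_lit 3), (nat_lit 4), (nat_lit 0)],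
  [(nat_lit 3), (nat_lit 3), (nat_lit 4), (nat_lit 4)],
  [(nat_lit 0), (nat_lit 1), (nat_lit 1), (nat_lit 2), (nat_lit 2)],
  [(nat_lit 0), (nat_lit 1), (nat_lit 1), (nat_lit 2), (nat_lit 3)],
  [(nat_lit 0), (nat_lit 1), (nat_lit 1), (nat_lit 2), (nat_lit 4)],
  [(nat_lit 0), (nat_lit 1), (nat_lit 1), (nat_lit 3), (nat_lit 3)],
  [(nat_lit 0), (nat_lit 1), (nat_lit 1), (nat_lit 3), (nat_lit 4)],
  [(nat_lit 0), (nat_lit 1), (nat_lit 2), (nat_lit 2), (nat_lit 3)],
  [(nat_lit 0), (nat_lit 1), (nat_lit 2), (nat_lit 2), (nat_lit 4)],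
  [(nat_lit 0), (nat_lit 1), (nat_lit 2), (nat_lit 3), (nat_lit 3)],
  [(nat_lit 0), (nat_lit 1), (nat_lit 2), (nat_lit 3), (nat_lit 4)],
  [(nat_lit 0), (nat_lit 1), (nat_lit 3), (nat_lit 3), (nat_lit 4)],
  [(nat_lit 0), (nat_lit 2), (nat_lit 2), (nat_lit 3), (nat_lit 3)],
  [(nat_lit 0), (nat_lit 2), (nat_lit 2), (nat_lit 3), (nat_lit 4)],
  [(nat_lit 0), (nat_lit 2), (nat_lit 3), (nat_lit 3), (nat_lit 4)],
  [(nat_lit 1), (nat_lit 1), (nat_lit 2), (nat_lit 2), (nat_lit 3)],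
  [(nat_lit 1), (nat_lit 1), (nat_lit 2), (nat_lit 2), (nat_lit 4)],
  [(nat_lit 1), (nat_lit 1), (nat_lit 2), (nat_lit 3), (nat_lit 3)],
  [(nat_lit 1), (nat_lit 1), (nat_lit 2), (nat_lit 3), (nat_lit 4)],
  [(nat_lit 1), (nat_lit 1), (nat_lit 2), (nat_lit 4), (nat_lit 0)],
  [(nat_lit 1), (nat_lit 1), (nat_lit 2), (nat_lit 4), (nat_lit 4)],
  [(nat_lit 1), (nat_lit 1), (nat_lit 3), (nat_lit 3), (nat_lit 4)],
  [(nat_lit 1), (nat_lit 1), (nat_lit 3), (nat_lit 4), (nat_lit 0)],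
  [(nat_lit 1), (nat_lit 1), (nat_lit 3), (nat_lit 4), (nat_lit 4)],
  [(nat_lit 1), (nat_lit 2), (nat_lit 2), (nat_lit 3), (nat_lit 3)],
  [(nat_lit 1), (nat_lit 2), (nat_lit 2), (nat_lit 3), (nat_lit 4)],
  [(nat_lit 1), (nat_lit 2), (nat_lit 2), (nat_lit 4), (nat_lit 0)],
  [(nat_lit 1), (nat_lit 2), (nat_lit 2), (nat_lit 4), (nat_lit 4)],
  [(nat_lit 1), (nat_lit 2), (nat_lit 3), (nat_lit 3), (nat_lit 4)],
  [(nat_lit 1), (nat_lit 2), (nat_lit 3), (nat_lit 4), (nat_lit 0)],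
  [(nat_lit 1), (nat_lit 2), (nat_lit 3), (nat_lit 4), (nat_lit 4)],
  [(nat_lit 1), (nat_lit 3), (nat_lit 3), (nat_lit 4), (nat_lit 0)],
  [(nat_lit 1), (nat_lit 3), (nat_lit 3), (nat_lit 4), (nat_lit 4)],
  [(nat_lit 2), (nat_lit 2), (nat_lit 3), (nat_lit 3), (nat_lit 4)],
  [(nat_lit 2), (nat_lit 2), (nat_lit 3), (nat_lit 4), (nat_lit 0)],
  [(nat_lit 2), (nat_lit 2), (nat_lit 3), (nat_lit 4), (nat_lit 4)],
  [(nat_lit 2), (nat_lit 3), (nat_lit 3), (nat_lit 4), (nat_lit 0)],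
  [(nat_lit 2), (nat_lit 3), (nat_lit 3), (nat_lit 4), (nat_lit 4)],
  [(nat_lit 0), (nat_lit 1), (nat_lit 1), (nat_lit 2), (nat_lit 2), (nat_lit 3)],
  [(nat_lit 0), (nat_lit 1), (nat_lit 1), (nat_lit 2), (nat_lit 2), (nat_lit 4)],
  [(nat_lit 0), (nat_lit 1), (nat_lit 1), (nat_lit 2), (nat_lit 3), (nat_lit 3)],
  [(nat_lit 0), (nat_lit 1), (nat_lit 1), (nat_lit 2), (nat_lit 3), (nat_lit 4)],
  [(nat_lit 0), (nat_lit 1), (nat_lit 1), (nat_lit 3), (nat_lit 3), (nat_lit 4)],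
  [(nat_lit 0), (nat_lit 1), (nat_lit 2), (nat_lit 2), (nat_lit 3), (nat_lit 3)],
  [(nat_lit 0), (nat_lit 1), (nat_lit 2), (nat_lit 2), (nat_lit 3), (nat_lit 4)],
  [(nat_lit 0), (nat_lit 1), (nat_lit 2), (nat_lit 3), (nat_lit 3), (nat_lit 4)],
  [(nat_lit 0), (nat_lit 2), (nat_lit 2), (nat_lit 3), (nat_lit 3), (nat_lit 4)],
  [(nat_lit 1), (nat_lit 1), (nat_lit 2), (nat_lit 2), (nat_lit 3), (nat_lit 3)],
  [(nat_lit 1), (nat_lit 1), (nat_lit 2), (nat_lit 2), (nat_lit 3), (nat_lit 4)],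
  [(nat_lit 1), (nat_lit 1), (nat_lit 2), (nat_lit 2), (nat_lit 4), (nat_lit 0)],
  [(nat_lit 1), (nat_lit 1), (nat_lit 2), (nat_lit 2), (nat_lit 4), (nat_lit 4)],
  [(nat_lit 1), (nat_lit 1), (nat_lit 2), (nat_lit 3), (nat_lit 3), (nat_lit 4)],
  [(nat_lit 1), (nat_lit 1), (nat_lit 2), (nat_lit 3), (nat_lit 4), (nat_lit 0)],
  [(nat_lit 1), (nat_lit 1), (nat_lit 2), (nat_lit 3), (nat_lit 4), (nat_lit 4)],
  [(nat_lit 1), (nat_lit 1), (nat_lit 3), (nat_lit 3), (nat_lit 4), (nat_lit 0)],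
  [(nat_lit 1), (nat_lit 1), (nat_lit 3), (nat_lit 3), (nat_lit 4), (nat_lit 4)],
  [(nat_lit 1), (nat_lit 2), (nat_lit 2), (nat_lit 3), (nat_lit 3), (nat_lit 4)],
  [(nat_lit 1), (nat_lit 2), (nat_lit 2), (nat_lit 3), (nat_lit 4), (nat_lit 0)],
  [(nat_lit 1), (nat_lit 2), (nat_lit 2), (nat_lit 3), (nat_lit 4), (nat_lit 4)],
  [(nat_lit 1), (nat_lit 2), (nat_lit 3), (nat_lit 3), (nat_lit 4), (nat_lit 0)],
  [(nat_lit 1), (nat_lit 2), (nat_lit 3), (nat_lit 3), (nat_lit 4), (nat_lit 4)],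
  [(nat_lit 2), (nat_lit 2), (nat_lit 3), (nat_lit 3), (nat_lit 4), (nat_lit 0)],
  [(nat_lit 2), (nat_lit 2), (nat_lit 3), (nat_lit 3), (nat_lit 4), (nat_lit 4)],
  [(nat_lit 0), (nat_lit 1), (nat_lit 1), (nat_lit 2), (nat_lit 2), (nat_lit 3), (nat_lit 3)],
  [(nat_lit 0), (nat_lit 1), (nat_lit 1), (nat_lit 2), (nat_lit 2), (nat_lit 3), (nat_lit 4)],
  [(nat_lit 0), (nat_lit 1), (nat_lit 1), (nat_lit 2), (nat_lit 3), (nat_lit 3), (nat_lit 4)],
  [(nat_lit 0), (nat_lit 1), (nat_lit 2), (nat_lit 2), (nat_lit 3), (nat_lit 3), (nat_lit 4)],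
  [(nat_lit 1), (nat_lit 1), (nat_lit 2), (nat_lit 2), (nat_lit 3), (nat_lit 3), (nat_lit 4)],
  [(nat_lit 1), (nat_lit 1), (nat_lit 2), (nat_lit 2), (nat_lit 3), (nat_lit 4), (nat_lit 0)],
  [(nat_lit 1), (nat_lit 1), (nat_lit 2), (nat_lit 2), (nat_lit 3), (nat_lit 4), (nat_lit 4)],
  [(nat_lit 1), (nat_lit 1), (nat_lit 2), (nat_lit 3), (nat_lit 3), (nat_lit 4), (nat_lit 0)],
  [(nat_lit 1), (nat_lit 1), (nat_lit 2), (nat_lit 3), (nat_lit 3), (nat_lit 4), (nat_lit 4)],
  [(nat_lit 1), (nat_lit 2), (nat_lit 2), (nat_lit 3), (nat_lit 3), (nat_lit 4), (nat_lit 0)],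
  [(nat_lit 1), (nat_lit 2), (nat_lit 2), (nat_lit 3), (nat_lit 3), (nat_lit 4), (nat_lit 4)],
  [(nat_lit 0), (nat_lit 1), (nat_lit 1), (nat_lit 2), (nat_lit 2), (nat_lit 3), (nat_lit 3), (nat_lit 4)],
  [(nat_lit 1), (nat_lit 1), (nat_lit 2), (nat_lit 2), (nat_lit 3), (nat_lit 3), (nat_lit 4), (nat_lit 0)],
  [(nat_lit 1), (nat_lit 1), (nat_lit 2), (nat_lit 2), (nat_lit 3), (nat_lit 3), (nat_lit 4), (nat_lit 4)]]
noncomputable def PQ_lD_h (c : ℕ) : ℕ := Nat.mod c (nat_lit 4818)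
theorem PQ_lD_E {G : Type*} [Group G] {R : ℕ → G → Prop} {t a b e x q z y : G} {H : Subgroup G}
    (M : Mdl P2_o PQ_cs P2_L R [t, a, a⁻¹, b, b⁻¹, e, e⁻¹, x, x⁻¹, q, q⁻¹, z, y] H) :
    EnumS R PQ_lD (sp [t, a, b, e, x]) :=
  enumS_sp M.μ.1 (M.reps.tms M.μ.1 [(.v (nat_lit 0)), (.v (nat_lit 1)), (.v (nat_lit 3)), (.v (nat_lit 5)), (.v (nat_lit 7))] (cs' := [(nat_lit 0x45d5b5f094374f8664c52e93394c209060), (nat_lit 0x6b2f8dab49a5d045dab19cd8248aa60041), (nat_lit 0x66d8bea05aca337ba8a38528119a022d83), (nat_lit 0x4272c55ba2ddf44a2cc5aa263bb2418820), (nat_lit 0x624b65e2848d4f385d6d5482800d3cd1a5)]) (by decide +kernel))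
    (Ws := PQ_lD_W) (by decide +kernel) (by decide +kernel)
theorem PQ_lD_c {G : Type*} [Group G] {R : ℕ → G → Prop} {t a b e x q z y : G} {H : Subgroup G}
    (M : Mdl P2_o PQ_cs P2_L R [t, a, a⁻¹, b, b⁻¹, e, e⁻¹, x, x⁻¹, q, q⁻¹, z, y] H) :
    #(sp [t, a, b, e, x]) = 162 :=
  (PQ_lD_E M).card M.μ (h := PQ_lD_h) (by decide +kernel)
noncomputable def PQ_lE : List ℕ := [(nat_lit 0x6b38bdab49ca307b9ac5a928398a418820), (nat_lit 0x4272c55ba2ddf44a2cc5aa263bb2418820), (nat_lit 0x50b7936d0ce13a89aac5a9ee3a26418820)]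
noncomputable def PQ_lE_W : List (List ℕ) := [[],
  [(nat_lit 0)],
  [(nat_lit 0), (nat_lit 0)]]
noncomputable def PQ_lE_h (c : ℕ) : ℕ := Nat.mod c (nat_lit 3)
theorem PQ_lE_E {G : Type*} [Group G] {R : ℕ → G → Prop} {t a b e x q z y : G} {H : Subgroup G}
    (M : Mdl P2_o PQ_cs P2_L R [t, a, a⁻¹, b, b⁻¹, e, e⁻¹, x, x⁻¹, q, q⁻¹, z, y] H) :
    EnumS R PQ_lE (sp [e]) :=
  enumS_sp M.μ.1 (M.reps.tms M.μ.1 [(.v (nat_lit 5))] (cs' := [(nat_lit 0x4272c55ba2ddf44a2cc5aa263bb2418820)]) (by decide +kernel))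
    (Ws := PQ_lE_W) (by decide +kernel) (by decide +kernel)
theorem PQ_lE_c {G : Type*} [Group G] {R : ℕ → G → Prop} {t a b e x q z y : G} {H : Subgroup G}
    (M : Mdl P2_o PQ_cs P2_L R [t, a, a⁻¹, b, b⁻¹, e, e⁻¹, x, x⁻¹, q, q⁻¹, z, y] H) :
    #(sp [e]) = 3 :=
  (PQ_lE_E M).card M.μ (h := PQ_lE_h) (by decide +kernel)
noncomputable def PQ_N_F : Fm := (.all P2_L (.qf (.and (.eq (.mul (.v (nat_lit 0)) (.v (nat_lit 12))) (.mul (.v (nat_lit 12)) (.v (nat_lit 0)))) (.and (.eq (.pw (.v (nat_lit 0)) (nat_lit 36)) .one) (.and (.or (.not (.eq (.mul (.v (nat_lit 0)) (.v (nat_lit 1))) (.mul (.v (nat_lit 1)) (.v (nat_lit 0))))) (.mem (.v (nat_lit 0)) PQ_lT)) (.and (.or (.not (.mem (.mul (.mul (.v (nat_lit 0)) (.v (nat_lit 13))) (.inv (.v (nat_lit 0)))) PQ_lJ)) (.mem (.v (nat_lit 0)) PQ_lD)) (.or (.not (.eq (.mul (.mul (.v (nat_lit 0)) (.v (nat_lit 8))) (.inv (.v (nat_lit 0)))) (.v (nat_lit 13)))) (.or (.not (.eq (.mul (.mul (.v (nat_lit 0)) (.v (nat_lit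 13))) (.inv (.v (nat_lit 0)))) (.inv (.v (nat_lit 8))))) (.or (.not (.eq (.mul (.v (nat_lit 0)) (.v (nat_lit 0))) (.v (nat_lit 1)))) (.eq (.v (nat_lit 0)) (.inv (.v (nat_lit 10)))))))))))))
theorem PQ_N_chk : Fm.chk P2_o PQ_N_F PQ_cs = true := by decide +kernel
theorem PQ_N {G : Type*} [Group G] {R : ℕ → G → Prop} {t a b e x q z y : G} {H : Subgroup G}
    (M : Mdl P2_o PQ_cs P2_L R [t, a, a⁻¹, b, b⁻¹, e, e⁻¹, x, x⁻¹, q, q⁻¹, z, y] H) :
    ∀ k ∈ H, k * z = z * k ∧ k ^ 36 = 1 ∧ (k * t ≠ t * k ∨ k ∈ sp [z, e, q]) ∧ (k * y * k⁻¹ ∉ sp [a, b, e] ∨ k ∈ sp [t, a, b, e, x]) ∧ (k * x * k⁻¹ ≠ y ∨ k * y * k⁻¹ ≠ x⁻¹ ∨ k * k ≠ t ∨ k = q⁻¹) :=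
  have h : ∀ k, InL P2_o R P2_L k → k * z = z * k ∧ k ^ 36 = 1 ∧ (k * t ≠ t * k ∨ InS R PQ_lT (k)) ∧ (¬ InS R PQ_lJ (k * y * k⁻¹) ∨ InS R PQ_lD (k)) ∧ (k * x * k⁻¹ ≠ y ∨ k * y * k⁻¹ ≠ x⁻¹ ∨ k * k ≠ t ∨ k = q⁻¹) :=
    Fm.sound M.μ PQ_N_F PQ_N_chk M.reps
  (fun k h0 => ((and_congr Iff.rfl (and_congr Iff.rfl (and_congr (or_congr Iff.rfl (PQ_lT_E M).iff) (and_congr (or_congr (not_congr (PQ_lJ_E M).iff) (PQ_lD_E M).iff) Iff.rfl)))).1 (h k (M.H.iff.2 h0))))
noncomputable def PQ_cF_F : Fm := (.allS PQ_lJ (.or (.qf (.mem (.v (nat_lit 0)) PQ_lZ)) (.all P2_L (.imp (.eq (.mul (.v (nat_lit 0)) (.v (nat_lit 1))) (.mul (.v (nat_lit 1)) (.v (nat_lit 0)))) (.qf (.and (.mem (.mul (.mul (.v (nat_lit 0)) (.v (nat_lit 3))) (.inv (.v (nat_lit 0)))) PQ_lJ) (.and (.mem (.mul (.mul (.v (nat_lit 0)) (.v (nat_lit 5))) (.inv (.v (nat_lit 0)))) PQ_lJ) (.mem (.mul (.mul (.v (nat_lit 0)) (.v (nat_lit 7))) (.inv (.v (nat_lit 0)))) PQ_lJ))))))))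
theorem PQ_cF_chk : Fm.chk P2_o PQ_cF_F PQ_cs = true := by decide +kernel
theorem PQ_cF {G : Type*} [Group G] {R : ℕ → G → Prop} {t a b e x q z y : G} {H : Subgroup G}
    (M : Mdl P2_o PQ_cs P2_L R [t, a, a⁻¹, b, b⁻¹, e, e⁻¹, x, x⁻¹, q, q⁻¹, z, y] H) :
    ∀ j ∈ sp [a, b, e], j ∈ sp [z] ∨ (∀ k ∈ H, k * j = j * k → k * a * k⁻¹ ∈ sp [a, b, e] ∧ k * b * k⁻¹ ∈ sp [a, b, e] ∧ k * e * k⁻¹ ∈ sp [a, b, e]) :=
  have h : ∀ j, InS R PQ_lJ j → InS R PQ_lZ (j) ∨ (∀ k, InL P2_o R P2_L k → k * j = j * k → InS R PQ_lJ (k * a * k⁻¹) ∧ InS R PQ_lJ (k * b * k⁻¹) ∧ InS R PQ_lJ (k * e * k⁻¹)) :=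
    Fm.sound M.μ PQ_cF_F PQ_cF_chk M.reps
  (fun j h0 => (Or.imp (fun h1 => ((PQ_lZ_E M).iff.1 h1)) (fun h1 => (fun k h2 => (fun h3 => ((and_congr (PQ_lJ_E M).iff (and_congr (PQ_lJ_E M).iff (PQ_lJ_E M).iff)).1 ((h1 k (M.H.iff.2 h2)) h3))))) (h j ((PQ_lJ_E M).iff.2 h0))))
noncomputable def PQ_A_F : Fm := (.allS PQ_lS (.all P2_L (.imp (.mem (.mul (.mul (.v (nat_lit 0)) (.v (nat_lit 1))) (.inv (.v (nat_lit 0)))) PQ_lS) (.qf (.mem (.mul (.inv (.v (nat_lit 1))) (.mul (.mul (.v (nat_lit 0)) (.v (nat_lit 1))) (.inv (.v (nat_lit 0))))) PQ_lQ)))))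
theorem PQ_A_chk : Fm.chk P2_o PQ_A_F PQ_cs = true := by decide +kernel
theorem PQ_A {G : Type*} [Group G] {R : ℕ → G → Prop} {t a b e x q z y : G} {H : Subgroup G}
    (M : Mdl P2_o PQ_cs P2_L R [t, a, a⁻¹, b, b⁻¹, e, e⁻¹, x, x⁻¹, q, q⁻¹, z, y] H) :
    ∀ s ∈ sp [a, b, e, x], ∀ g ∈ H, g * s * g⁻¹ ∈ sp [a, b, e, x] → s⁻¹ * (g * s * g⁻¹) ∈ sp [x, y, z] :=
  have h : ∀ s, InS R PQ_lS s → ∀ g, InL P2_o R P2_L g → InS R PQ_lS (g * s * g⁻¹) → InS R PQ_lQ (s⁻¹ * (g * s * g⁻¹)) :=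
    Fm.sound M.μ PQ_A_F PQ_A_chk M.reps
  (fun s h0 => (fun g h1 => (fun h2 => ((PQ_lQ_E M).iff.1 (((h s ((PQ_lS_E M).iff.2 h0)) g (M.H.iff.2 h1)) ((PQ_lS_E M).iff.2 h2))))))
noncomputable def PQ_s9_t0 : ST := (.node (nat_lit 78) (.node (nat_lit 58) (.node (nat_lit 32) (.node (nat_lit 8) (.leaf (nat_lit 0)) (.leaf (nat_lit 270))) (.node (nat_lit 48) (.leaf (nat_lit 0)) (.leaf (nat_lit 54)))) (.node (nat_lit 69) (.node (nat_lit 64) (.leaf (nat_lit 270)) (.leaf (nat_lit 0))) (.node (nat_lit 71) (.leaf (nat_lit 54)) (.leaf (nat_lit 0))))) (.node (nat_lit 137) (.node (nat_lit 111) (.node (nat_lit 103) (.leaf (nat_lit 486)) (.leaf (nat_lit 0))) (.node (nat_lit 128) (.leaf (nat_lit 54)) (.leaf (nat_lit 0)))) (.node (nat_lit 145) (.node (nat_lit 138) (.leaf (nat_lit 486)) (.leaf (nat_lit 0))) (.node (nat_lit 150) (.leaf (nat_lit 270)) (.node (nat_lit 152) (.leaf (nat_lit 54)) (.leaf (nat_lit 486)))))))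
noncomputable def PQ_s9_F : Fm := (.allS PQ_lS (.or (.qf (.eq (.pw (.v (nat_lit 0)) (nat_lit 3)) (.v (nat_lit 12)))) (.or (.qf (.eq (.pw (.v (nat_lit 0)) (nat_lit 3)) (.inv (.v (nat_lit 12))))) (.exF P2_L (fun cs => PQ_s9_t0.find (Nat.mod (nth (nat_lit 0) cs (nat_lit 0)) (nat_lit 160))) (.qf (.mem (.mul (.mul (.v (nat_lit 0)) (.v (nat_lit 1))) (.inv (.v (nat_lit 0)))) PQ_lJ))))))
theorem PQ_s9_chk : Fm.chk P2_o PQ_s9_F PQ_cs = true := by decide +kernel
theorem PQ_s9 {G : Type*} [Group G] {R : ℕ → G → Prop} {t a b e x q z y : G} {H : Subgroup G}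
    (M : Mdl P2_o PQ_cs P2_L R [t, a, a⁻¹, b, b⁻¹, e, e⁻¹, x, x⁻¹, q, q⁻¹, z, y] H) :
    ∀ s ∈ sp [a, b, e, x], s ^ 3 = z ∨ s ^ 3 = z⁻¹ ∨ (∃ m ∈ H, m * s * m⁻¹ ∈ sp [a, b, e]) :=
  have h : ∀ s, InS R PQ_lS s → s ^ 3 = z ∨ s ^ 3 = z⁻¹ ∨ (Good P2_o R P2_L → prods P2_o P2_L P2_o.one ≠ [] → ∃ m, InL P2_o R P2_L m ∧ InS R PQ_lJ (m * s * m⁻¹)) :=
    Fm.sound M.μ PQ_s9_F PQ_s9_chk M.reps
  (fun s h0 => (Or.imp (fun h1 => h1) (fun h1 => (Or.imp (fun h2 => h2) (fun h2 => (Exists.imp (fun m h3 => ⟨M.H.iff.1 h3.1, ((PQ_lJ_E M).iff.1 h3.2)⟩) (h2 M.H.good M.H.ne))) h1)) (h s ((PQ_lS_E M).iff.2 h0))))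
noncomputable def PQ_e_F : Fm := (.qf (.and (.not (.mem (.v (nat_lit 5)) PQ_lQ)) (.and (.eq (.mul (.v (nat_lit 9)) (.v (nat_lit 0))) (.mul (.v (nat_lit 0)) (.v (nat_lit 9)))) (.and (.eq (.mul (.v (nat_lit 9)) (.v (nat_lit 9))) (.v (nat_lit 0))) (.and (.eq (.pw (.mul (.v (nat_lit 9)) (.inv (.v (nat_lit 5)))) (nat_lit 3)) .one) (.and (.eq (.mul (.mul (.v (nat_lit 9)) (.v (nat_lit 7))) (.inv (.v (nat_lit 9)))) (.inv (.v (nat_lit 12)))) (.and (.eq (.mul (.mul (.v (nat_lit 9)) (.v (nat_lit 12))) (.inv (.v (nat_lit 9)))) (.v (nat_lit 7))) (.eq (.mul (.v (nat_lit 9)) (.v (nat_lit 11))) (.mul (.v (nat_lit 11)) (.v (nat_lit 9)))))))))))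
theorem PQ_e_chk : Fm.chk P2_o PQ_e_F PQ_cs = true := by decide +kernel
theorem PQ_e {G : Type*} [Group G] {R : ℕ → G → Prop} {t a b e x q z y : G} {H : Subgroup G}
    (M : Mdl P2_o PQ_cs P2_L R [t, a, a⁻¹, b, b⁻¹, e, e⁻¹, x, x⁻¹, q, q⁻¹, z, y] H) :
    e ∉ sp [x, y, z] ∧ q * t = t * q ∧ q * q = t ∧ (q * e⁻¹) ^ 3 = 1 ∧ q * x * q⁻¹ = y⁻¹ ∧ q * y * q⁻¹ = x ∧ q * z = z * q :=
  have h : ¬ InS R PQ_lQ (e) ∧ q * t = t * q ∧ q * q = t ∧ (q * e⁻¹) ^ 3 = 1 ∧ q * x * q⁻¹ = y⁻¹ ∧ q * y * q⁻¹ = x ∧ q * z = z * q :=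
    Fm.sound M.μ PQ_e_F PQ_e_chk M.reps
  ((and_congr (not_congr (PQ_lQ_E M).iff) Iff.rfl).1 h)
noncomputable def PQ_T_F : Fm := (.allS PQ_lT (.or (.qf (.eq (.mul (.v (nat_lit 0)) (.v (nat_lit 6))) (.mul (.v (nat_lit 6)) (.v (nat_lit 0))))) (.exS PQ_lE (.qf (.or (.eq (.mul (.mul (.v (nat_lit 0)) (.mul (.mul (.mul (.v (nat_lit 1)) (.v (nat_lit 7))) (.inv (.v (nat_lit 1)))) (.inv (.v (nat_lit 7))))) (.inv (.v (nat_lit 0)))) (.v (nat_lit 11))) (.eq (.mul (.mul (.v (nat_lit 0)) (.mul (.mul (.mul (.v (nat_lit 1)) (.v (nat_lit 7))) (.inv (.v (nat_lit 1)))) (.inv (.v (nat_lit 7))))) (.inv (.v (nat_lit 0)))) (.inv (.v (nat_lit 11)))))))))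
theorem PQ_T_chk : Fm.chk P2_o PQ_T_F PQ_cs = true := by decide +kernel
theorem PQ_T {G : Type*} [Group G] {R : ℕ → G → Prop} {t a b e x q z y : G} {H : Subgroup G}
    (M : Mdl P2_o PQ_cs P2_L R [t, a, a⁻¹, b, b⁻¹, e, e⁻¹, x, x⁻¹, q, q⁻¹, z, y] H) :
    ∀ k ∈ sp [z, e, q], k * e = e * k ∨ (∃ f ∈ sp [e], f * ⁅k, e⁆ * f⁻¹ = q ∨ f * ⁅k, e⁆ * f⁻¹ = q⁻¹) :=
  have h : ∀ k, InS R PQ_lT k → k * e = e * k ∨ (GoodS R PQ_lE → ∃ f, InS R PQ_lE f ∧ (f * ⁅k, e⁆ * f⁻¹ = q ∨ f * ⁅k, e⁆ * f⁻¹ = q⁻¹)) :=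
    Fm.sound M.μ PQ_T_F PQ_T_chk M.reps
  (fun k h0 => (Or.imp (fun h1 => h1) (fun h1 => (Exists.imp (fun f h2 => ⟨(PQ_lE_E M).iff.1 h2.1, h2.2⟩) (h1 (PQ_lE_E M).good))) (h k ((PQ_lT_E M).iff.2 h0))))
def Zq {G : Type*} [Group G] (t z e q : G) : Prop :=
  t * t = 1 ∧
  z ^ 3 = 1 ∧
  e ^ 3 = 1 ∧
  z * e = e * z ∧
  t * e = e * t ∧
  q * q = t ∧
  q * z = z * q ∧
  (q * e⁻¹) ^ 3 = 1 ∧ True
noncomputable def PQ_zq_f_F : Fm := (.qf (.and (.eq (.mul (.v (nat_lit 0)) (.v (nat_lit 0))) .one) (.and (.eq (.pw (.v (nat_lit 11)) (nat_lit 3)) .one) (.and (.eq (.pw (.v (nat_lit 5)) (nat_lit 3)) .one) (.and (.eq (.mul (.v (nat_lit 11)) (.v (nat_lit 5))) (.mul (.v (nat_lit 5)) (.v (nat_lit 11)))) (.and (.eq (.mul (.v (nat_lit 0)) (.v (nat_lit 5))) (.mul (.v (nat_lit 5)) (.v (nat_lit 0)))) (.and (.eq (.mul (.v (nat_lit 9)) (.v (nat_lit 9))) (.v (nat_lit 0))) (.and (.eq (.mul (.v (nat_lit 9)) (.v (nat_lit 11))) (.mul (.v (nat_lit 11)) (.v (nat_lit 9)))) (.eq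 (.pw (.mul (.v (nat_lit 9)) (.inv (.v (nat_lit 5)))) (nat_lit 3)) .one)))))))))
theorem PQ_zq_f_chk : Fm.chk P2_o PQ_zq_f_F PQ_cs = true := by decide +kernel
theorem PQ_zq_f {G : Type*} [Group G] {R : ℕ → G → Prop} {t a b e x q z y : G} {H : Subgroup G}
    (M : Mdl P2_o PQ_cs P2_L R [t, a, a⁻¹, b, b⁻¹, e, e⁻¹, x, x⁻¹, q, q⁻¹, z, y] H) :
    t * t = 1 ∧ z ^ 3 = 1 ∧ e ^ 3 = 1 ∧ z * e = e * z ∧ t * e = e * t ∧ q * q = t ∧ q * z = z * q ∧ (q * e⁻¹) ^ 3 = 1 :=
  Fm.sound M.μ PQ_zq_f_F PQ_zq_f_chk M.reps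
theorem PQ_zq {G : Type*} [Group G] {R : ℕ → G → Prop} {t a b e x q z y : G} {H : Subgroup G}
    (M : Mdl P2_o PQ_cs P2_L R [t, a, a⁻¹, b, b⁻¹, e, e⁻¹, x, x⁻¹, q, q⁻¹, z, y] H) :
    Zq t z e q :=
  have h := PQ_zq_f M
  ⟨h.1, h.2.1, h.2.2.1, h.2.2.2.1, h.2.2.2.2.1, h.2.2.2.2.2.1, h.2.2.2.2.2.2.1, h.2.2.2.2.2.2.2, trivial⟩
noncomputable def CZ_Rl : List (List ℕ) := [[0,0],
  [1,1],
  [2,3],
  [3,2],
  [4,5],
  [5,4],
  [6,7],
  [7,6],
  [2,2,2],
  [4,4,4],
  [5,3,4,2],
  [5,0,4,0],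
  [0,6,6],
  [3,7,2,6],
  [5,6,5,6,5,6],
  [2,1,2,1],
  [4,1,4,1],
  [6,1,6,1]]
theorem CZ_r {G : Type*} [Group G] {t n z e q : G}
    (h : Zq t z e q)
    (nn : n * n = 1)
    (nz : n * z * n⁻¹ = z⁻¹)
    (ne : n * e * n⁻¹ = e⁻¹)
    (nq : n * q * n⁻¹ = q⁻¹) :
    Rels (nthG [t, n, z, z⁻¹, e, e⁻¹, q, q⁻¹]) CZ_Rl :=
  rels_of_eqs ((InvI.cons h.1 (InvI.cons nn InvI.nil)) : InvI [t, n, z, e, q] [(nat_lit 0), (nat_lit 1)])
    (AllEq.append (show AllEq [t, n, z, e, q] [((.mul (.v (nat_lit 0)) (.v (nat_lit 0))), .one), ((.pw (.v (nat_lit 2)) (nat_lit 3)), .one), ((.pw (.v (nat_lit 3)) (nat_lit 3)), .one), ((.mul (.v (nat_lit 2)) (.v (nat_lit 3))), (.mul (.v (nat_lit 3)) (.v (nat_lit 2)))), ((.mul (.v (nat_lit 0)) (.v (nat_lit 3))), (.mul (.v (nat_lit 3)) (.v (nat_lit 0)))), ((.mul (.v (nat_lit 4)) (.v (nat_lit 4))), (.v (nat_lit 0))), ((.mul (.v (nat_lit 4)) (.v (nat_lit 2))), (.mul (.v (nat_lit 2)) (.v (nat_lit 4)))), ((.pw (.mul (.v (nat_lit 4))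 (.inv (.v (nat_lit 3)))) (nat_lit 3)), .one)] from h)
    (AllEq.append (show AllEq [t, n, z, e, q] [((.mul (.v (nat_lit 1)) (.v (nat_lit 1))), .one)] from ⟨nn, trivial⟩)
    (AllEq.append (show AllEq [t, n, z, e, q] [((.mul (.mul (.v (nat_lit 1)) (.v (nat_lit 2))) (.inv (.v (nat_lit 1)))), (.inv (.v (nat_lit 2))))] from ⟨nz, trivial⟩)
    (AllEq.append (show AllEq [t, n, z, e, q] [((.mul (.mul (.v (nat_lit 1)) (.v (nat_lit 3))) (.inv (.v (nat_lit 1)))), (.inv (.v (nat_lit 3))))] from ⟨ne, trivial⟩)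
    (show AllEq [t, n, z, e, q] [((.mul (.mul (.v (nat_lit 1)) (.v (nat_lit 4))) (.inv (.v (nat_lit 1)))), (.inv (.v (nat_lit 4))))] from ⟨nq, trivial⟩)))))
    [(.v (nat_lit 0)), (.v (nat_lit 1)), (.v (nat_lit 2)), (.inv (.v (nat_lit 2))), (.v (nat_lit 3)), (.inv (.v (nat_lit 3))), (.v (nat_lit 4)), (.inv (.v (nat_lit 4)))] (by decide +kernel)
noncomputable abbrev CZ_o : Ops := pops (nat_lit 11) (nat_lit 4) (nat_lit 15) (nat_lit 0xa9876543210)
noncomputable def CZ_cs : List ℕ := [(nat_lit 0xa9834267501), (nat_lit 0x9a816240573), (nat_lit 0x8a976543210), (nat_lit 0x98a76543210), (nat_lit 0xa9840516273), (nat_lit 0xa9813570246), (nat_lit 0xa9805421673), (nat_lit 0xa9812650437)]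
noncomputable def CZ_L : List (List ℕ) := [[(nat_lit 0xa9876543210), (nat_lit 0xa9834267501), (nat_lit 0x9a816240573), (nat_lit 0xa9813570246), (nat_lit 0xa9812650437), (nat_lit 0xa9807231564), (nat_lit 0xa9871403625), (nat_lit 0xa9830617452)],
  [(nat_lit 0xa9876543210), (nat_lit 0x9a843276510), (nat_lit 0x9a832457610), (nat_lit 0xa9857632410), (nat_lit 0xa9865724310), (nat_lit 0x9a824365710)],
  [(nat_lit 0xa9876543210), (nat_lit 0x8a976543210), (nat_lit 0x98a76543210)]]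
noncomputable def CZ_WW : List (List (List ℕ)) := [[[],
  [(nat_lit 0)],
  [(nat_lit 1)],
  [(nat_lit 5)],
  [(nat_lit 7)],
  [(nat_lit 0), (nat_lit 5)],
  [(nat_lit 5), (nat_lit 6)],
  [(nat_lit 5), (nat_lit 7)]],
  [[],
  [(nat_lit 1), (nat_lit 5)],
  [(nat_lit 1), (nat_lit 7)],
  [(nat_lit 4), (nat_lit 7)],
  [(nat_lit 6), (nat_lit 5)],
  [(nat_lit 1), (nat_lit 5), (nat_lit 6), (nat_lit 5)]],
  [[],
  [(nat_lit 2)],
  [(nat_lit 3)]]]
noncomputable def CZ_b8_S0 : List ℕ := [nat_lit 0xb000007008010, nat_lit 0x1300000f008012, nat_lit 0x17000006000001008014, nat_lit 0x1f00001b00000600c016, nat_lit 0x2300000e008018, nat_lit 0x2700000200001100801a, nat_lit 0x3300002f00002b00000600001101001c, nat_lit 0x2b00001c008018, nat_lit 0x3b00003700000700c01e, nat_lit 0x3f00000f000021008020, nat_lit 0x47000043000021008022, nat_lit 0x4300000d008018, nat_lit 0x43000011000018, nat_lit 0x4f00004b008012, nat_lit 0xa00000b000035004014, nat_lit 0x600000800003500a014,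 nat_lit 0x5000003d000013004014, nat_lit 0x5700005300003600c016, nat_lit 0x5b000046008018, nat_lit 0x1200000800004900801a, nat_lit 0x2700000b00004900601a, nat_lit 0x5c00004d00002300601a, nat_lit 0x2000005500005700a014, nat_lit 0x6700006300005f00003600004901001c, nat_lit 0x1a00004e00005d00c014, nat_lit 0x6800006100003300601a, nat_lit 0x3000006500006300c014, nat_lit 0x6900001e00005a00c01a, nat_lit 0x6b00000b00003800801e, nat_lit 0x3b000071008010, nat_lit 0x6f00004b000038008020, nat_lit 0x2600003b000079004014, nat_lit 0x77000073000038008022, nat_lit 0x2a00003b00008100601a, nat_lit 0x7800008500004700e01e, nat_lit 0x5600002d00008900201a, nat_lit 0x8d00005c00a018, nat_lit 0x7b000009004012, nat_lit 0x14000018000095004014, nat_lit 0x5000003900009500a014, nat_lit 0x8300007f00000a00c016, nat_lit 0x270000a1006018, nat_lit 0xa500001600002300801a, nat_lit 0xa500005200005b00601a, nat_lit 0x580000ad00008300a014, nat_lit 0xb1000059004010, nat_lit 0x8f00008b00008700000a00002801001c,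 nat_lit 0x5e0000510000b900c014, nat_lit 0x1a0000150000b9002014, nat_lit 0x900000c100003300801a, nat_lit 0x660000c5008010, nat_lit 0x300000c500008b002014, nat_lit 0xcd00006a006010, nat_lit 0xcd00001e0000b500a01a, nat_lit 0x9300007b00006c008020, nat_lit 0x7a0000710000d9004014, nat_lit 0x260000760000d900a014, nat_lit 0x9b00009700006c008022, nat_lit 0x2a0000760000e500801a, nat_lit 0x820000710000e500601a, nat_lit 0x9c0000ed00007700e01e, nat_lit 0x890000f100a010, nat_lit 0xae00008e0000f100201a, nat_lit 0xf90000a500a018]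
noncomputable def CZ_b8_S1 : List ℕ := [nat_lit 0x9f00000e00001000c016, nat_lit 0x1b000013000101000016, nat_lit 0xa3000102008018, nat_lit 0xa700009900010900801a, nat_lit 0xaf0000ab00004300001000010901001c, nat_lit 0xb3000013000040008020, nat_lit 0x25000115008012, nat_lit 0xbb0000b7000040008022, nat_lit 0xb7000101008018, nat_lit 0xb7000109000018, nat_lit 0xbf00001b008018, nat_lit 0x2b000129000018, nat_lit 0xc300001700012900801a, nat_lit 0xb60000c000013100a01a, nat_lit 0x1350000d5000018, nat_lit 0xcb0000c70000b700001400012901001c, nat_lit 0xcf00003d0000b400801e, nat_lit 0x3c00011a000141008014, nat_lit 0x7d000115000141006014, nat_lit 0xd300002b0000b4008022, nat_lit 0xd7000096000080008016, nat_lit 0x83000151008012, nat_lit 0x1050000b5000151004014, nat_lit 0x1590000a400010d00a01a, nat_lit 0xdb0000390000c400801a, nat_lit 0x131000161008010, nat_lit 0xb200013600016100a01a, nat_lit 0x16900006d000018, nat_lit 0xe70000e30000df0000960000c401001c, nat_lit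 0x13e000131000171002014, nat_lit 0xe80001750000cb00801a, nat_lit 0xc80001790000e3002014, nat_lit 0x17d00012200015a00a01a, nat_lit 0x15d000181000018, nat_lit 0xeb0000b300001800c01e, nat_lit 0xcf00003900018900e01e, nat_lit 0x6b000009000189000020, nat_lit 0x9300009600018900e020, nat_lit 0xef000087000189008022, nat_lit 0x14e0000ec00019900801a, nat_lit 0xf70000f30000a300010500001d01001c, nat_lit 0x2f0001a100a012, nat_lit 0x13e00012d0001a100c016, nat_lit 0x1a90000cb004018, nat_lit 0xf80001a9006018, nat_lit 0xcc0001b100a018, nat_lit 0xf3000111006012, nat_lit 0xff0000fb00005900c01e, nat_lit 0xd300001e0001bd00e022, nat_lit 0x1c100014e00a018, nat_lit 0x10300001f0001bd008020, nat_lit 0x11a0001c50001c9004016, nat_lit 0x1cd000029004018, nat_lit 0x1070000bf0001bd008022, nat_lit 0x1c20001d5000018, nat_lit 0x1c50001d5004018, nat_lit 0x10f00010b0000bf00002000002d01001c, nat_lit 0xab0001e100a012, nat_lit 0x1a0000310001e100c016, nat_lit 0x1e9000033004018, nat_lit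 0x1100001e9006018, nat_lit 0x340001f100a018, nat_lit 0x1f50001a60001a9000016, nat_lit 0x11300005600010400801e]
noncomputable def CZ_b8_S2 : List ℕ := [nat_lit 0x1000001c90001fd006014, nat_lit 0x850001d10001fd00401a, nat_lit 0x20500008200a018, nat_lit 0x14500020900020100c016, nat_lit 0x11700009f000104008020, nat_lit 0x1c9000211008012, nat_lit 0x260001ce000211004016, nat_lit 0x21900011d004018, nat_lit 0x11b000023000104008022, nat_lit 0x1d1000221000018, nat_lit 0x1ce000221004018, nat_lit 0x11f00001a008012, nat_lit 0xab00003200022d004016, nat_lit 0x2310000b0002018, nat_lit 0x12300022e000015008014, nat_lit 0xba000239008012, nat_lit 0x12700022e0000230000a000012100801c, nat_lit 0xc700024100a012, nat_lit 0x11200012500024100c016, nat_lit 0x2490000af004018, nat_lit 0x12b00004d00011c00801e, nat_lit 0x1fe00022100025100401a, nat_lit 0x3c00022a00025100a01a, nat_lit 0x259000081000018, nat_lit 0x12f00001a00011c008020, nat_lit 0x13300023a000052008014, nat_lit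 0x5e000265008012, nat_lit 0x22e00004e00026500a014, nat_lit 0x13700023a0000fd008016, nat_lit 0xab0000f6000271004014, nat_lit 0x13b00023a0000a600015600018100801c, nat_lit 0xe300027900a012, nat_lit 0x24200017e000279002014, nat_lit 0x28100024e00027600a01a, nat_lit 0x13f00011b00001500c01e, nat_lit 0x12b00005100028900e01e, nat_lit 0x6b000028000289000022, nat_lit 0x2910000e5000018, nat_lit 0x1430000ba000289008020, nat_lit 0x26200014000029900a014, nat_lit 0x1470000690000d400801e, nat_lit 0x19d0002a1008010, nat_lit 0x14200014d0002a100401a, nat_lit 0x1000001c10002a100a01a, nat_lit 0x14b0001a20000d4008020, nat_lit 0x14f0001a50000c5008014, nat_lit 0x8c0002b5008012, nat_lit 0x2b900013900017100c016, nat_lit 0xe80002bd006018, nat_lit 0x1530000c60001ed00801a, nat_lit 0xf50001e10002c5008014, nat_lit 0x2750001e60002c5006014, nat_lit 0x2cd00013700023d004016, nat_lit 0x15b00015700006600c01e, nat_lit 0xd30000300002d5000020, nat_lit 0x14b0001a50002d500e020, nat_lit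 0x12f0000330002d5000022, nat_lit 0x15c0002d90002a1006014, nat_lit 0x15f00006100013000801e, nat_lit 0x29d0002e9008010, nat_lit 0x2520002610002e9006014, nat_lit 0x15c0002e10002e900401a, nat_lit 0x16300011f000130008020, nat_lit 0x2610002f9008012]
noncomputable def CZ_b8_S3 : List ℕ := [nat_lit 0x1670001f2000130008022, nat_lit 0x2e1000301000018, nat_lit 0x3050002d90001da000016, nat_lit 0x16b00007a000209008016, nat_lit 0x20200030d008012, nat_lit 0x2120001fd00030d004014, nat_lit 0x17700017300016f00007a00008101001c, nat_lit 0x16f00016c008018, nat_lit 0x18300017f00017b00002600002901001c, nat_lit 0x31a00008500032100c014, nat_lit 0x2fd00022500032100c016, nat_lit 0xab000048000321002020, nat_lit 0x18400032d0000b000a022, nat_lit 0x11100033100017f00a020, nat_lit 0x163000236000331000022, nat_lit 0x3350000a3000118008022, nat_lit 0x21d00033d000018, nat_lit 0x31e00031500033d00801a, nat_lit 0x17f000345000174004014, nat_lit 0x18700007d00011d00801a, nat_lit 0x31500021e00034d00a01a,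 nat_lit 0x35100031d000018, nat_lit 0x18f00018b0001dd00011600011d01001c, nat_lit 0xc70000bc000359002020, nat_lit 0x35d0001ad00014c008022, nat_lit 0x19000035d0000cc00a022, nat_lit 0x1670001fa000365000020, nat_lit 0x3690003050002dd00c016, nat_lit 0x1930001e2000048008020, nat_lit 0x322000371008012, nat_lit 0x262000225000371004016, nat_lit 0x30a0001d60001c90001d200037100201c, nat_lit 0x37d000305006018, nat_lit 0x197000372000086008014, nat_lit 0x31a000385008012, nat_lit 0x2f100025e000385004016, nat_lit 0x38d0002f5002018, nat_lit 0x19b00004600004c00c016, nat_lit 0x5300004f000395000016, nat_lit 0x399000059000106004014, nat_lit 0x3990000b200015100a014, nat_lit 0x3990000fc00031200a020, nat_lit 0x19f000396008018, nat_lit 0x10a0000410003a900801a, nat_lit 0xa700009d0003a900601a, nat_lit 0x16f00006f0003a900c022, nat_lit 0x1a70001a300007300004c0003a901001c, nat_lit 0x1120003ae0003b900c014, nat_lit 0x1730003b60003b9002020, nat_lit 0x1a80003c100017800a022, nat_lit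 0x32e0003250003c500001e, nat_lit 0x3c9000276004010, nat_lit 0x3bd00023500026e00c01a, nat_lit 0x3d10001a7000018, nat_lit 0x1ab000070000188004022, nat_lit 0xbc00034d0003d900001e, nat_lit 0x3a60003520003d900e022, nat_lit 0x3e10001a000a018, nat_lit 0x3e10003a200018100801a, nat_lit 0x1b30001af0001ab0000500000dc01001c, nat_lit 0x13e0001660003ed00c014, nat_lit 0x1720001610003ed002014, nat_lit 0x1b40003f50000e700801a, nat_lit 0x1790003f9008010]
noncomputable def CZ_b8_S4 : List ℕ := [nat_lit 0x1bb0001b700019f00039900006d01001c, nat_lit 0x6300040100a012, nat_lit 0x1a200006a00040100c014, nat_lit 0x2b90000d2000401002014, nat_lit 0x3ee00016e00040100c016, nat_lit 0x4110001b3004018, nat_lit 0x1bc000411006018, nat_lit 0x1b400041900a018, nat_lit 0x1b20003f200041900e01a, nat_lit 0x4210001ba0003be000014, nat_lit 0x1bf0000b10000fc00801e, nat_lit 0xff000429008010, nat_lit 0x2a60002ad00042900401a, nat_lit 0x43100019a00a018, nat_lit 0x1c30001690000fc008022, nat_lit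 0x2ad000439000018, nat_lit 0x20e000439004018, nat_lit 0x1d60000ff00043900601a, nat_lit 0x1cb0001c700016900005800008e01001c, nat_lit 0x1a300044900a012, nat_lit 0x1e200008900044900c014, nat_lit 0x2c90000f2000449002014, nat_lit 0x5e00009100044900c016, nat_lit 0x386000077000449002020, nat_lit 0x45d000392000157008022, nat_lit 0x4610001cb000018, nat_lit 0x465000068002018, nat_lit 0x465000406000411000016, nat_lit 0x1fa0003f200046d00c014, nat_lit 0x1cf0000ae00011400801e, nat_lit 0x1fd000475008010, nat_lit 0x42a000202000475006014, nat_lit 0xed00020600047500401a, nat_lit 0x28d00025500047500a01a, nat_lit 0x485000291000018, nat_lit 0x1d300026600005b00019c0003e200801c, nat_lit 0x1af00048d00a012, nat_lit 0x2420003de00048d00c014, nat_lit 0x27a0003e900048d002014, nat_lit 0x3ba0003e500048d00c016, nat_lit 0x49d0001a7004018, nat_lit 0x1d7000402000148008020, nat_lit 0x2e60004a5008012, nat_lit 0x2b20002a10004a5004014, nat_lit 0x1db0000c900015800801e, nat_lit 0x15b0004b1008010,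 nat_lit 0x2a60002e50004b1008014, nat_lit 0x2ee0002f50004b100a01a, nat_lit 0x1df000269000160008020, nat_lit 0x2f20004c1008012, nat_lit 0x2fa0002e90004c1004014, nat_lit 0x38a00038d0004c1004016, nat_lit 0x4cd000177004018, nat_lit 0x1e300046a000160008022, nat_lit 0x2f60004d5000018, nat_lit 0x38d0004d5004018, nat_lit 0x3020002e90004d500601a, nat_lit 0x4e100030a000446006014, nat_lit 0x1e70000da000489008016, nat_lit 0x47e0004e9008012, nat_lit 0x30e0004750004e9004014, nat_lit 0x21200047a0004e900a014, nat_lit 0x1550001d00004e900c020, nat_lit 0x1f30001ef0001eb0000da0000e501001c]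
noncomputable def CZ_b8_S5 : List ℕ := [nat_lit 0x3220000ea0004fd00c014, nat_lit 0x31a0000ee0004fd002014, nat_lit 0x27200009c0004fd002020, nat_lit 0x1f400050500017700801a, nat_lit 0x34a00050d008010, nat_lit 0x17400050d0001ef002014, nat_lit 0x515000346006010, nat_lit 0x51500031e0004f200a01a, nat_lit 0x5150003b60003b100a01e, nat_lit 0x1f70000dd00018800801a, nat_lit 0x34d000525008010, nat_lit 0x4f100035200052500a01a, nat_lit 0x3e90003da00052500c01e, nat_lit 0x52d00051d000018, nat_lit 0x1ff0001fb00044100014900018801001c, nat_lit 0x35a00034d000539002014, nat_lit 0x1af0003da000539002020, nat_lit 0x5410004150001d8008022, nat_lit 0x2000005410001b400a022, nat_lit 0x3660003f200054900e01e, nat_lit 0x1e300046e000549000020, nat_lit 0x5510004d90004aa00c016, nat_lit 0x2030003860000ee008014, nat_lit 0x4fe000559008012, nat_lit 0x3720000ea00055900a014, nat_lit 0x29a000296000559004016, nat_lit 0x2c900009c00055900c020, nat_lit 0x5690001530001dc006022, nat_lit 0x20700027200009700007c0000a801001c,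 nat_lit 0x3ba0003b100057100c014, nat_lit 0x11200010d000571002014, nat_lit 0x27a00018500057100c016, nat_lit 0x1ef000522000571002020, nat_lit 0x57d00013b004018, nat_lit 0x20b00015d0001520000d50002ba00c01c, nat_lit 0x2c2000589000018, nat_lit 0x2bd000589004018, nat_lit 0x1bc00040d00058900801a, nat_lit 0xf800015000058900601a, nat_lit 0x5990001ba00057a006014, nat_lit 0x20f0001350001c0008022, nat_lit 0x4320005a1000018, nat_lit 0x4350005a1004018, nat_lit 0x1d600042e0005a100801a, nat_lit 0x43a0004290005a100601a, nat_lit 0x2130001350000840000fa0002ca00c01c, nat_lit 0x1540005b5000018, nat_lit 0x2d10005b5004018, nat_lit 0x1cc0004550005b500801a, nat_lit 0x1100002c50005b500601a, nat_lit 0x5c50001fa000176006014, nat_lit 0x2170002b90000f0008020, nat_lit 0x4b90005cd008012, nat_lit 0x4a60002a50005cd004014, nat_lit 0x2b200019e0005cd00a014, nat_lit 0x21b00023d000144008020, nat_lit 0x2990005dd008012, nat_lit 0x4c20002ed0005dd004014, nat_lit 0x2fa00029e0005dd00a014,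 nat_lit 0x55e0005650005dd004016, nat_lit 0x5ed0001f3004018, nat_lit 0x21f0005bd000144008022, nat_lit 0x4bd0005f5000018, nat_lit 0x5650005f5004018]
noncomputable def CZ_b8_S6 : List ℕ := [nat_lit 0x30200029e0005f500801a, nat_lit 0x4d60002ed0005f500601a, nat_lit 0x6050004e60005b2006014, nat_lit 0x2270002230005a90001950001f801001c, nat_lit 0x35a00052a00060d00c014, nat_lit 0x53a00052500060d002014, nat_lit 0xe300053200060d002020, nat_lit 0x6190002c2000218008022, nat_lit 0x2280006190000e800a022, nat_lit 0x36600017600062100001e, nat_lit 0x54a0003f500062100e01e, nat_lit 0x21f0005ca000621000020, nat_lit 0x62d0005f90005d200c016, nat_lit 0x22b0001ba000331008020, nat_lit 0x180000635008012, nat_lit 0x3690003020002f900033a00063500201c, nat_lit 0x63d00036e006018, nat_lit 0x63d00019000a018, nat_lit 0x22f0002420000bc008020, nat_lit 0x35a000649008012, nat_lit 0x17f000341000649004016, nat_lit 0x2fd00022200021100021e00064900201c, nat_lit 0x65500032a006018, nat_lit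 0x23300064a00034d008014, nat_lit 0x53a00065d008012, nat_lit 0x17300035500065d004016, nat_lit 0x48e0003da00065d00c020, nat_lit 0x4c500025500030d00035200065d00201c, nat_lit 0x66d0004cd006018, nat_lit 0x23700027a000532008020, nat_lit 0x60e000675008012, nat_lit 0x65e000525000675004014, nat_lit 0x64a00052a00067500a014, nat_lit 0x1ef000535000675004016, nat_lit 0x5e10004860004e900052e00067500201c, nat_lit 0x6890005ed006018, nat_lit 0x23b000591000621008022, nat_lit 0x227000691000018, nat_lit 0x631000691004018, nat_lit 0x63d00062600069100801a, nat_lit 0x5f10005de0005f500062e00069100001c, nat_lit 0x6a10001ef006012, nat_lit 0x23f00042100022c00801e, nat_lit 0x69d0006a9008010, nat_lit 0x34600063a0006a9008014, nat_lit 0x3490006350006a9006014, nat_lit 0x54d00063e0006a900401a, nat_lit 0x4ad0006410006a900a01a, nat_lit 0x6bd000545000018]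
noncomputable def CZ_b8_S : List (List ℕ) := [CZ_b8_S0, CZ_b8_S1, CZ_b8_S2, CZ_b8_S3, CZ_b8_S4, CZ_b8_S5, CZ_b8_S6]
noncomputable def CZ_b8_defs : List ℕ := [(nat_lit 0x20003e001000140060003c00500028001000210020002c00600038005000370060001e007000130000001e0010000a00100013006000310050002d00700005006000060010002d00600003001000040060002a005000100070001e006000270040000700100025006000020010001e0060002200500021006000050040001f00000005004000020010001c00600001001000120010000200600018005000170060001300600015004000140000001300400012004000010010001000600000001000030020000d001000010060000b0050000a0060000400700002006000070040000600000004003000040040000300400000002000010020000000000000),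
  (nat_lit 0x60007e00500070007000240060007b0050007a0060002400000024001000710010004c001000220010006e0060004c001000200060007100500036001000360010001f0060006d005000670060006b0050006a00600012006000680050001c0060006600400015003000640010004300600062005000410070001b0060005f0050005e0060000f0060005c0050005b0060001b0000001b0010004200100047001000190020005500100018007000220030003d0010003d0010001700100023002000460060004800000048003000480010000c0010001600600047003000470040000c001000080010002700100015006000420050002f0010002f00100007),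
  (nat_lit 0x10006d001000820010004e0030008b001000490010003c00600088005000830010008400100048001000530050003000100030005000290060004d00300065)]
noncomputable def CZ_b8_recs : List ℕ := [(nat_lit 0x900025070002500020030002500010030001c0002503000260001d020002600011060001a0002602000240000f03000240001b040001a00024060001f0002103000170002103000210000a020002200018020000b0002203000230000c02000230001905000090002302000060001f020001f00014030001500020020000700020070002000009000000200020020001e00012030001e0000304000050001e00000160001c070001c0001503000100001c030001d00011060000d0001d030001b0000f040000d0001b020001a0000e020000d0001a06000140001702000170000a030000b0001802000190000c050001600019020001400006030000700015030001600009020001600008060000100016000000100015030000300012020001300004030001300005040000100013000000800010060000700010060000e00011040000e0000f01000000000e06000060000a05000080000c020000800009060000000008000000000007040000200005040000000004020000000002),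
  (nat_lit 0x2000400004405000320004200000420000b070000c00042060000b0004300000430000c05000430002a05000100004306000410002c000004100034060003f0004106000110004000000400000e040003f00040000002c0003f070003f0003401000060003f050002b0003c000003c0003107000320003c06000310003d000003d00032050003d0000b050000a0003d020003b00034060003a0003b050003a00024040003a0001a030003a0003301000050003a00000370002906000350003703000370002d02000310003803000390003205000300003900000170003606000360001402000360002f020003000036060002900035030003500027040003500020040001f00035060002c0003405000330001b04000330000d020002c00033050002f0003200000210003006000300001f020002f00030000002f0000a06000040002f00000280002d06000270002d060000f0002e040002c0000e040000f0002c05000280002b020002800029060000300028050002700006000000300027),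
  (nat_lit 0x40005800046040004b0005807000570005505000570004a020005700050020004b0005705000510005506000560004b050005600052040005600034010000b0005600000230005405000540004d04000540002502000430005407000530003800000390005304000530002104000220005304000340005206000510003e07000510003302000510003b02000340005102000500004b040004f0005000000260004f060004f0001a030004f0004a01000090004f060004d0004e030004e00049050004e0003805000370004e030004d0002a04000250004d020004c00047040004c0001904000160004c04000460004b000001d0004a060004a0000d070004a0004402000460004a060002a0004900000490002b050004900031050002d00049040004800023040000900048070002b0004700000470002a04000080004706000460000e000004600011060004000046060002e0004500000450000f04000450003f040004000045000003e00033000000d0004407000440001d05000440003e),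
  (nat_lit 0x20006b0003102000380006b030006c00039020006c0003205000360006c02000370006a00000670006a070006a00066020006a0002d01000610006a00000680004c060004c00069020004d0006802000680002a010005d0006801000690005c02000690002b05000670006901000670005b030006700029020006700028060001200067010005a0006602000350006603000270006605000660001400000120006607000550006500000650005704000650005d040001d0006507000560006407000640005900000640004b040006400060040001100064000005200062040006200059010003200062060005200063010006300031050002e00063000005b0006106000610005a020002e00061030005c0005f020005e0005b000005e0002e06000450005e060005f00058010005e00028010002b0005f01000600002a00000600005802000600005d050001100060060005a0005b050001d0005d030005a00045040005a0003e04000440005a050004100059000005900056060004b00059),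
  (nat_lit 0x5000260007c01000790003502000790004503000790005a04000790006f040007300079050007000078030007800059060007800065000007800055060005700078060005c0007700000770005d03000770005804000770004a04000570007706000760005004000760003b02000760005602000550007603000750005204000750005504000510007506000680007400000740006903000740004e02000740004905000740006b050006a00074000001a0007306000730004f07000730002605000730006f020007300040020004400073020007100042050006c00071070001900071000007100018060001800072010007200065000007200019030007200054020007200043050007200068050001c00072030007000041060007000033000007000051060003e00070000003a0006f070006f0003b020006f0003f020003e0006f05000690006d020006d0003c000006d0006b070006c0006d060006b0006e000006e0006c030006e00053020006e0003d050006e0001805000170006e),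
  (nat_lit 0x60008700080000008700076060005000087060007b0008600000860007c02000860005803000860007704000860004f040005000086020008500052030008500075040008500076040003b0008505000390008403000840004202000840007106000840002300000840002206000540008403000830007002000830004106000830003a00000830003b060006f0008305000810008203000820003c02000820006d06000820003900000820003806000530008206000480008101000810007b00000810004e03000810002b02000810006905000290008107000760008001000800005400000800005002000800006404000800007c04000260008000000750007e040007e00078030007e00062010006c0007e06000750007f010007f0006b030007f0006305000610007f000007a0007d010007d00037060007d00079020007d0002e02000610007d01000290007a06000790007a030005e0007a030007a0005b020007b0005f020005c0007b010007c0004d030007c0005d020007c00060),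
  (nat_lit 0x7f0008f060008f00075070008f0007e050008f0005c040008f0005b020008f0008e020008a0008f050007a0008e050008e0007b020008e0008a060008e00085000008e0008906000880008e070007c0008d070008d00086000008d0007b020008d0008b030008d0008c040008d00089040007d0008d070005d0008c070008c00077010008c00074000008c0005c040008c0007f04000610008c07000600008b070008b00058000008b0005f040008b00063040002e0008b00000630008a07000520008a070008a00062040008a0005e040005f0008a00000850008804000880008703000880007e02000880006201000390008806000850008901000890003803000890007f020008900063050007d00089050008300087030008700078020008700059)]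
noncomputable def CZ_b8_L0 : List ℕ := [nat_lit 0xe00000700002200000e00000700000100000200000200000f000003000006000004000043000010000012000008, nat_lit 0x4600001500003700000d00000b00000200000800000000004b00001200003600001300007300001c00004a000016, nat_lit 0xa200002000006b00001a00000100000000000c00000100007b00001e00000a000005000097000025000027000009, nat_lit 0x10200002700003f00000f00004200001200009900001e0000130000040000100000000000b700002d00010a000028, nat_lit 0x1b0000060000b300002c00003d00001300001700000500000500000000001400000300002b00000a00012a00002f, nat_lit 0x7f00001f00018a00003a00001800000400003900001300000900000200009600001e0000870000210000c3000030, nat_lit 0x1c0000040001be00003f0000590000140000b600001f00001f0000070001050000270000bf00002f00001e00000a, nat_lit 0xd0000000001030000400000560000150000aa00002000009f00002700002000000600002300000800002e000010, nat_lit 0x3200001000011b00004600004d00001600001600000900001a00000c00022e000047000011000000000024000007,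 nat_lit 0xfe00002500028a00004f0000150000080000510000160000ba00002300023a0000480000280000020000a5000020, nat_lit 0x12d00002f0000d30000340000690000170000cd0000210001a200003d00002f00000b00001d00000600002c000004, nat_lit 0x1f50000420002d60000560000660000180000c600002200003000000a0001a500003d00003300000c0001ee000043, nat_lit 0x1e900004300012f00004b0000610000190000c100002300011f0000470000190000080001f200004200003400000b, nat_lit 0x20a00004400003800000100003b00000e00007200001a00014500003300007a00001b00025900004a00008200001d, nat_lit 0x1cd00004000002100000000007500001a00003c00000d00011900002c00002600000f00022900004600002a000011, nat_lit 0x2190000450000400000030000e100002400007d00001b00002500000e00011600002c00017b00005e00011e00002e, nat_lit 0x3100000800004700001100008a00001c0000f50000250001e20000430000ab00002a00002d000007000044000000, nat_lit 0x2250000460000480000100000e900002600008500001d00032200006000037200006400002900000e0001d2000040, nat_lit 0x39600006600006f00001b00009d00001e00004100000300004f00001300004c0000010001ab00006a0003aa000067,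 nat_lit 0x530000140000cf00003300003a00000500003e00000400003500000100005000001200005f0000170000db000036, nat_lit 0x540000130000fb00003e0000b100001f00005a00000600005700001500039900006600016900003600006e000017, nat_lit 0x450000010001130000440000ae00002000005500000700019b00006600005800001400005b00001600008d00001c, nat_lit 0x9200001c00012b00004a00005200000900004e00000800005e00001900026600004c00004900000100005c000015, nat_lit 0x16e0000360001470000510000d200002100006a00000a00040200006e00006300001800006d000014000060000013, nat_lit 0x4650000710001570000550000c900002200006500000b00006400001700040500006e000067000019000462000072, nat_lit 0x45900007200015f0000570000bd00002300006200000c00026900004c00005d00001600046a000071000068000018, nat_lit 0x48a00007300006c00000200007100000d00007600000e00019100003a0000da00002400029100004f0000e6000026, nat_lit 0x16b00005a00007000001200007e00000f0000dd00002400007900000d00014900003300016f00005b000187000061, nat_lit 0x9100001600007700001d0000f200002500008900001000044a0000720001a300006800008e000015000074000001,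 nat_lit 0x25e00004a00007800001c0000860000110000ed00002600031a00005d00038600006500008100000d000205000044, nat_lit 0xd700003500009300002400009a00000300009e00001200009500000500007c0000020000df0000370000a7000029, nat_lit 0x800000050001bf00006f0000b50000060000b20000140000830000200001520000350001350000300000d6000021, nat_lit 0xa10000020001cf0000730000a90000070000ad00001500015500003500008400001f0000a60000090000f9000025, nat_lit 0x13a0000300000ef00003b0000ce00000a0000d10000170002b900005300008b0000220000d500001f000088000005, nat_lit 0x5b90000840001db0000760000c500000b0000ca00001800008c0000210002b600005300008f000023000153000054, nat_lit 0x2d20000540001430000500000c200000c0000be00001900023d0000480000b90000090005bd000084000090000022, nat_lit 0x1e700007900009400001e0000de00001b0000e200000f0000d900001a00019500003a0001eb00007a0001f700007d, nat_lit 0xfd00000900009b0000260000f60000100000f100001c0002c900005400027200004d0000fa000020000098000002, nat_lit 0x29600004f00009c0000250000ee00001d0000ea0000110004fe00007c00055a0000800000e500001a000481000073,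 nat_lit 0x10100000300011700004500039e0000660001590000350001060000060000a00000070000a300002800012200002d, nat_lit 0x12600002d00033500005e0003ad00006700010e00002900011200002b0000f300003c0001090000030000a4000027, nat_lit 0x18500003700052200007a00010d0000280003b100006700057200008100020b0000820000a800001e00015e000035, nat_lit 0x23100004700032d0000600003c900006800027500004d0000ac0000100001e50000430000af00002b00024e000049, nat_lit 0x24900004900033200005f0003bd0000690005790000810001ba00003c0001110000280002360000470000b000002a, nat_lit 0x1c600003f0000b40000040000eb00003a00014200003300011500000f00011a00000e0001dd00004100014e000034, nat_lit 0x1250000280000bb00002e0003dd00006a00017d0000370002420000490000c70000310001210000270000b8000003, nat_lit 0x34100005e0000bc00002d00052900007d00034e00006100035a00006300064a00008b00011d00000f00021e000045, nat_lit 0x12e00000a00010700004100016500003600013200003000013e00003200010b0000420001290000040000c0000006, nat_lit 0x13900002100020f00008300013100002f0001620000360001720000390002130000840000c400000500013600001f,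 nat_lit 0x1b500003c00035d0000630003fd00006b00017a0000380000c800002d0002450000490000cb0000320001ae00003d, nat_lit 0x1a900003d0003660000620003f100006c0001750000390001fa00004200013d00002f0001b200003c0000cc000031, nat_lit 0x20d00003e0000d000001300014100002c00018d00003a00014a00001b00014600000d0004410000700002a9000051, nat_lit 0x1d90000410000d400000a00019d00003b0002a20000510002d90000560002b200005200014d00002c0001c100003f, nat_lit 0xd800001e0004f900007900015a0000270003a200006600015100001f00015600002000015d000029000182000037, nat_lit 0x16d0000170001c300007000016100003000016600002f0003ee00006c0001c70000710000dc00001300016a000014, nat_lit 0x18600002900053100007d00017e00002d0003ea00006a00027a00004e0000e30000380001810000350000e000001e, nat_lit 0x58d0000820006190000890001790000310003fa00006b0000e400003700027d00004e0000e70000390002c1000053, nat_lit 0x2be0000530006220000880001760000320003f500006c0005ca0000840001710000300005910000820000e8000038, nat_lit 0x43600006f00018900000500018e0000330000ec00002c00019600002400019200001a0005a900008300019a00003b,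 nat_lit 0x5a50000830000f00000210002a500005100019e0000340004b90000760005ce00008500019900003a00043100006f, nat_lit 0x1b600003100022b00008a00042100006d0005990000820000f40000280001b900002b0000f700003d0001b1000032, nat_lit 0x1aa00003200014b00005200040900006e00014f0000530001a600000b0001a100000a0001ad0000310000f800003c, nat_lit 0x20e0000330000fc0000140000ff00003f00042a00006f00031100005a0002010000440002ad00005100043a000070, nat_lit 0x1c500002c0001bd00000600042d00006f00010000003e0002150000450001ca0000400001c20000340001d6000041]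
noncomputable def CZ_b8_L1 : List ℕ := [nat_lit 0x1ce00000e0001040000070004790000730001fe0000440001c900003f0002120000450001d1000011000222000046, nat_lit 0x1da00003400010800002f0005ad00008300044500007000030a00005900018b0000620001d500003f0001de00002c, nat_lit 0x1f600000b0001670000590004710000710005c500008400010c00002f0001f900003200010f0000430001f100000c, nat_lit 0x1ea00000c0001930000640004510000720002c60000540001e600002a0001e10000100001ed00000b000110000042, nat_lit 0x20900000d0001140000150001fd00004000047600007300020200003e00030e00005a00020600001d00025500004a, nat_lit 0x21a00000f0001180000270004f500007900031500005a00021100004000021600003f00021d00002e00033e00005e, nat_lit 0x22600001100011c00000800013f00004f00025200004a0002fd00005800026200004b00022100004000022a00000e, nat_lit 0x23200002a00016300005800026d00004c00012300004800022d00000800012000000c00012700004900023500002b, nat_lit 0x13700004d00021b00008600012400004700013300004c00023900000900023e00002300013b00004e000586000081,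 nat_lit 0x24a00002b00022f00008b00049500007400028100004e00024600003100024100002d00024d00002a000128000047, nat_lit 0x25d00001d00012c00001600025100004600028d00004f0004c50000770002f100005700025600004400025a00000d, nat_lit 0x37900006400013000000c00029d0000500002ea0000570002610000460002fa0000580002e1000056000302000059, nat_lit 0x3d50000680001df00007700013400004800026e00004700026500001600026a0000190001d30000740003d2000069, nat_lit 0x13800004800050900007c00027600002a0003ce0000680002710000250002cd00005400020700008100028600004e, nat_lit 0x57d00008100023700008d00028200004900049900007400027e00003800027900003700028500004d00013c000048, nat_lit 0x29500002600028900000900028e00004a0001400000460005e100008600029a00005000048500007300029200001a, nat_lit 0x5650000800001440000230002ed00005700029e00004b00029900004f0005de0000860004bd0000760005f6000087, nat_lit 0x43d0000700001480000170002a10000340002a600003b0002e60000550004a60000750002aa0000330002ae00003e, nat_lit 0x36e00006200014c00003d0005d90000850004ad0000750002b10000340002dd00005600064200008a000362000063,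 nat_lit 0x2bd00003900021700008500015000003d00040d00006e0002b50000220002ba0000210002c200003800058a000082, nat_lit 0x2d10000230005690000800002c50000430004550000720002ce00004d0002ca0000250001540000220005b6000084, nat_lit 0x4d900007800015800001800015b0000560004b20000760004a90000750002e50000510003920000650002f5000057, nat_lit 0x3050000590002d500000b0004b500007600015c0000550002de0000520002da0000340003820000640002e200004b, nat_lit 0x38d0000650001600000190002e900004b0002ee0000500002f200004a0004c20000770002f60000550004d6000078, nat_lit 0x3290000600001640000470005e90000860004c90000770002f900004b0002fe00004600033900005f00065500008b, nat_lit 0x3060000560001680000420006010000870004e100007800036900006200030900004100030100004b00037d000064, nat_lit 0x16c00001b0003a60000660003160000450004f100007900030d00004400031200003e00035100006100031e00005b, nat_lit 0x3560000610003b500006700034500005e00051500007a0006b100008f00017300005c00031d00005a00017000001b, nat_lit 0x66500008c0003c100006900034a00005f00050e00007b00017400005b0006b500008f00017700005d0004d2000077,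 nat_lit 0x4cd0000770003c600006800032500006000050500007c00038900006500031900001d00067200008c00017800005c, nat_lit 0x34200002e00033600002800051a00007a00034600005b00063900008a00017f00005f00033d00004500017c00000f, nat_lit 0x65100008b00033100002b00051100007b00034900005c00018000005e00063600008a00018300006000033a000058, nat_lit 0x32a00005800032e00002a00050100007c00032600005d00037500006400032100001100065a00008b00018400005f, nat_lit 0x35500005b0003da00006a00034d00002e00052600007d00053a00007f00065e00008c00018800001b00035200005a, nat_lit 0x36d00005200036500003200062500008800054d00007e00018c00004100036a00005900018f00006300063d00008a, nat_lit 0x64600008a00035e00003100061100008900053d00007f00064d00008b00035900002e000361000052000190000062, nat_lit 0x37a00004b00019400004300056100008000019700006500037100001100037600006000037e000059000381000056, nat_lit 0x38e00005700045d00007200019800006400020300008000038500001d00038a00005d0004dd000078000391000055, nat_lit 0x3950000120003a500005a0003a100003500039d00002700039a00001400019c00001500019f0000670003e100006a,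 nat_lit 0x3e600006a0003b600005b0003b20000290003ae0000280003ba0000690001b700006d0003a90000120001a0000066, nat_lit 0x3d600004c0003c500005d0003cd00004d0003ca00002a0001a400001c00044d0000720001a70000690004a2000074, nat_lit 0x49d0000740003c200005c0005750000810003be00002b00042600006d0003b90000670003d100004c0001a8000068, nat_lit 0x3e50000670003d90000610003e90000370003de00002d00048e0000740001af00006b0003e20000660001ac000012, nat_lit 0x41d00006d00054100007f0003f90000380003fe0000310001b000006a0004910000740001b300006c00041600006e, nat_lit 0x41100006e00054a00007e0003f60000390003f200003200046e0000710003ed00003600041a00006d0001b400006b, nat_lit 0x41e00006b00023f00008f00059500008200042200003c0001b80000670004250000690001bb00006e00041900006c, nat_lit 0x41200006c0001d700007500040e00005300040a00003d00040600001800040100001700041500006b0001bc00006d, nat_lit 0x43500003a0001c000001f00042900003e00042e00003f0004ed00007900047d00007300043200003b0005a2000083, nat_lit 0x43e0000510001c40000360004460000410005b10000830004e60000780001fb00007e00043900003e000442000033,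 nat_lit 0x4660000180001e30000780005c10000840004720000420001c800003600046d00006c0001cb000072000469000019, nat_lit 0x45a00001900045e00006500045600005400045200004300044e00006800044900001c0004610000180001cc000071, nat_lit 0x48900001a0001d000002000047500004400047a00004000047e00006f0004ea00007900048200002600048600004f, nat_lit 0x49e00006900066900008c00049a00004e00049600004900049200006b00048d00006a0004a10000680001d400004c, nat_lit 0x55600007e0001d800006e0004ae0000520005d50000850004a50000510004aa0000550006bd00008f00054600007f, nat_lit 0x5f90000870001dc0000220004b10000550004b60000560005d10000850004ba00003b00056e0000800004be000050, nat_lit 0x4ce00005d0001e000004c0004ca0000580005e50000860004c10000570004c600004a0004d100005c00066d00008c, nat_lit 0x4da0000550001e40000710004e200005900060500008700055100007e0004e50000700004d50000570004de000065, nat_lit 0x1e80000240004fa0000350004f200005a0004f60000450004e90000730004ee00006f00052d00007d00051e00007a, nat_lit 0x53600007d00052100002900051600005b00051900005e0006a600008e0001ef00007b00051d0000790001ec000024,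 nat_lit 0x68500008d00058100008100050d00005c00051200005f0001f000007a0006a100008e0001f300007c0005f2000086, nat_lit 0x5ed00008600050a00004d00050600005d00050200006000055d0000800004fd00002600068e00008d0001f400007b, nat_lit 0x53500007a00053200003700052500006100052a00002e00060e00008900067600008d0001f800002400052e000079, nat_lit 0x55500007500054900006c00054e0000620006290000880001fc0000700005520000780001ff00007f0006b900008f, nat_lit 0x6c200008f00054200006b00053e00006300061500008900066100008c00053900006100054500007500020000007e]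
noncomputable def CZ_b8_L2 : List ℕ := [nat_lit 0x56600005000056a00005400020400006500056200006400055900002600055e00007c0005fd00008700056d000076, nat_lit 0x57e00004e00058200007b00057a00002b00057600006900059e00008200057100002900058500004800020800004d, nat_lit 0x58e00003800023b00008e00059a00003c00059600006d00020c00002900059d000081000589000053000592000039, nat_lit 0x5a600003b0002100000300005b20000700005ae00004100060a0000870002230000880005a100006f0005aa00003a, nat_lit 0x5ba00002200021f0000870005c60000420005c20000710002140000300005c90000390005b50000540005be000023, nat_lit 0x6320000880002180000530005d60000750005da0000520005cd00003b0005d200007600069900008e00061e000089, nat_lit 0x5ee00007c00021c0000480005e60000770005ea0000580005dd0000500005e200004f0005f100007b00068900008d, nat_lit 0x5fa00007600022000008400060600007800060200005900062d0000880006090000830005f50000500005fe000080, nat_lit 0x63100008500062100003900062a00007e00062600006200022400008300062e00008700022700008900069200008e,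 nat_lit 0x69500008e00061a00003800061600007f00061200006300067900008d00060d00007d00061d000085000228000088, nat_lit 0x64500006300022c00003c00069d00008e0006aa00008f00063500005f00063a00005e00063e000062000641000052, nat_lit 0x65200005f00023000004900068100008d00023300008c00064900002e00064e000063000656000058000659000060, nat_lit 0x66600005c00066a00007400023400008b00067d00008d00065d00006100066200007f00066e00007700067100005d, nat_lit 0x68600007b00023800004e00067e00008c00068200008b00067500007d00067a00008900068a00008600068d00007c, nat_lit 0x69600008900023c0000820006ad00008f00069e00008a0006a200007b0006a500007a00069100008800069a000085, nat_lit 0x6c100007f00024000006d0006a900008a0006ae00008e0006b600005c0006b200005b0006ba00007e0006be000075]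
noncomputable def CZ_b8_L : List (List ℕ) := [CZ_b8_L0, CZ_b8_L1, CZ_b8_L2]
noncomputable def CZ_b8_V : List ℕ := [(nat_lit 0x3f0000003e0000003d0000003c0000003b0000003a000000390000003800000037000000360000003500000034000000330000003200000031000000300000002f0000002e0000002d0000002c0000002b0000002a000000290000002800000027000000260000002500000024000000230000002200000021000000200000001f0000001e0000001d0000001c0000001b0000001a000000190000001800000017000000160000001500000014000000130000001200000011000000100000000f0000000e0000000d0000000c0000000b0000000a00000009000000080000000700000006000000050000000400000003000000020000000100000000),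
  (nat_lit 0x7f0000007e0000007d0000007c0000007b0000007a000000790000007800000077000000760000007500000074000000730000007200000071000000700000006f0000006e0000006d0000006c0000006b0000006a000000690000006800000067000000660000006500000064000000630000006200000061000000600000005f0000005e0000005d0000005c0000005b0000005a000000590000005800000057000000560000005500000054000000530000005200000051000000500000004f0000004e0000004d0000004c0000004b0000004a00000049000000480000004700000046000000450000004400000043000000420000004100000040),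
  (nat_lit 0x8f0000008e0000008d0000008c0000008b0000008a00000089000000880000008700000086000000850000008400000083000000820000008100000080)]
noncomputable def CZ_b8_D : H26.Dag := ⟨[0,1,3,2,5,4,7,6], [[0,0],
  [1,1],
  [2,3],
  [3,2],
  [4,5],
  [5,4],
  [6,7],
  [7,6],
  [2,2,2],
  [4,4,4],
  [5,3,4,2],
  [5,0,4,0],
  [0,6,6],
  [3,7,2,6],
  [5,6,5,6,5,6],
  [2,1,2,1],
  [4,1,4,1],
  [6,1,6,1]], [], CZ_b8_defs, CZ_b8_recs⟩
theorem CZ_b8_c : CZ_b8_D.checkTab CZ_b8_S 144 8 CZ_b8_V CZ_b8_L = true := by decide +kernel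
theorem CZ_b8 : Bound CZ_Rl 8 144 :=
  bound_dag (Bound.zero CZ_Rl) (K := 8) (J := [0,1,2,3,4,5,6,7,8,9,10,11,12,13,14,15,16,17]) (by decide +kernel) CZ_b8_c (by decide +kernel)
theorem CZ_P : PModel (nat_lit 11) (nat_lit 4) (nat_lit 15) (nat_lit 0xa9876543210) CZ_cs CZ_Rl CZ_L 144 :=
  ⟨PkOK.of (by decide +kernel), by decide +kernel, by decide +kernel, CZ_b8, ⟨CZ_WW, by decide +kernel⟩,
    ⟨fun c => Nat.mod c (nat_lit 2188), by decide +kernel⟩⟩
noncomputable def CZ_soc_t0 : ST := (.node (nat_lit 927) (.node (nat_lit 544) (.node (nat_lit 343) (.node (nat_lit 147) (.node (nat_lit 20) (.node (nat_lit 15) (.leaf (nat_lit 0)) (.leaf (nat_lit 40))) (.node (nat_lit 39) (.leaf (nat_lit 8)) (.node (nat_lit 137) (.leaf (nat_lit 0)) (.leaf (nat_lit 8))))) (.node (nat_lit 288) (.node (nat_lit 171) (.leaf (nat_lit 0)) (.node (nat_lit 283) (.leaf (nat_lit 8)) (.leaf (nat_lit 40)))) (.node (nat_lit 315) (.leaf (nat_lit 0)) (.node (nat_lit 322) (.leaf (nat_lit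 8)) (.leaf (nat_lit 0)))))) (.node (nat_lit 382) (.node (nat_lit 363) (.node (nat_lit 348) (.leaf (nat_lit 40)) (.node (nat_lit 356) (.leaf (nat_lit 18)) (.leaf (nat_lit 8)))) (.node (nat_lit 367) (.leaf (nat_lit 18)) (.node (nat_lit 377) (.leaf (nat_lit 0)) (.leaf (nat_lit 40))))) (.node (nat_lit 430) (.node (nat_lit 396) (.leaf (nat_lit 18)) (.node (nat_lit 397) (.leaf (nat_lit 0)) (.leaf (nat_lit 18)))) (.node (nat_lit 478) (.leaf (nat_lit 0)) (.node (nat_lit 483) (.leaf (nat_lit 8)) (.leaf (nat_lit 0))))))) (.node (nat_lit 718) (.node (nat_lit 650) (.node (nat_lit 622) (.node (nat_lit 562) (.leaf (nat_lit 40)) (.node (nat_lit 611) (.leaf (nat_lit 8)) (.leaf (nat_lit 40)))) (.node (nat_lit 643) (.leaf (nat_lit 0)) (.node (nat_lit 645) (.leaf (nat_lit 18)) (.leaf (nat_lit 40))))) (.node (nat_lit 677) (.node (nat_lit 651) (.leaf (nat_lit 0)) (.node (nat_lit 654) (.leaf (nat_lit 40)) (.leaf (nat_lit 0)))) (.node (nat_lit 684) (.leaf (nat_lit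 18)) (.node (nat_lit 688) (.leaf (nat_lit 8)) (.leaf (nat_lit 0)))))) (.node (nat_lit 872) (.node (nat_lit 758) (.node (nat_lit 727) (.leaf (nat_lit 8)) (.node (nat_lit 728) (.leaf (nat_lit 0)) (.leaf (nat_lit 16)))) (.node (nat_lit 785) (.leaf (nat_lit 0)) (.node (nat_lit 811) (.leaf (nat_lit 8)) (.leaf (nat_lit 0))))) (.node (nat_lit 906) (.node (nat_lit 890) (.leaf (nat_lit 40)) (.node (nat_lit 893) (.leaf (nat_lit 8)) (.leaf (nat_lit 0)))) (.node (nat_lit 907) (.leaf (nat_lit 40)) (.node (nat_lit 924) (.leaf (nat_lit 16)) (.leaf (nat_lit 8)))))))) (.node (nat_lit 1291) (.node (nat_lit 1194) (.node (nat_lit 1055) (.node (nat_lit 984) (.node (nat_lit 962) (.leaf (nat_lit 0)) (.node (nat_lit 971) (.leaf (nat_lit 8)) (.leaf (nat_lit 40)))) (.node (nat_lit 1013) (.leaf (nat_lit 0)) (.node (nat_lit 1014) (.leaf (nat_lit 40)) (.leaf (nat_lit 0))))) (.node (nat_lit 1155) (.node (nat_lit 1056) (.leaf (nat_lit 8)) (.node (nat_lit 1131) (.leaf (nat_lit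 16)) (.leaf (nat_lit 40)))) (.node (nat_lit 1190) (.leaf (nat_lit 0)) (.node (nat_lit 1192) (.leaf (nat_lit 27)) (.leaf (nat_lit 8)))))) (.node (nat_lit 1255) (.node (nat_lit 1235) (.node (nat_lit 1210) (.leaf (nat_lit 0)) (.node (nat_lit 1228) (.leaf (nat_lit 8)) (.leaf (nat_lit 0)))) (.node (nat_lit 1241) (.leaf (nat_lit 16)) (.node (nat_lit 1251) (.leaf (nat_lit 0)) (.leaf (nat_lit 16))))) (.node (nat_lit 1285) (.node (nat_lit 1269) (.leaf (nat_lit 0)) (.node (nat_lit 1275) (.leaf (nat_lit 16)) (.leaf (nat_lit 0)))) (.node (nat_lit 1286) (.leaf (nat_lit 16)) (.node (nat_lit 1290) (.leaf (nat_lit 0)) (.leaf (nat_lit 8))))))) (.node (nat_lit 1556) (.node (nat_lit 1376) (.node (nat_lit 1333) (.node (nat_lit 1299) (.leaf (nat_lit 0)) (.node (nat_lit 1320) (.leaf (nat_lit 40)) (.leaf (nat_lit 8)))) (.node (nat_lit 1346) (.leaf (nat_lit 40)) (.node (nat_lit 1352) (.leaf (nat_lit 0)) (.leaf (nat_lit 8))))) (.node (nat_lit 1493) (.node (nat_lit 1459)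 (.leaf (nat_lit 0)) (.node (nat_lit 1469) (.leaf (nat_lit 40)) (.leaf (nat_lit 0)))) (.node (nat_lit 1503) (.leaf (nat_lit 40)) (.node (nat_lit 1520) (.leaf (nat_lit 0)) (.leaf (nat_lit 8)))))) (.node (nat_lit 1680) (.node (nat_lit 1598) (.node (nat_lit 1572) (.leaf (nat_lit 0)) (.node (nat_lit 1586) (.leaf (nat_lit 8)) (.leaf (nat_lit 0)))) (.node (nat_lit 1603) (.leaf (nat_lit 16)) (.node (nat_lit 1632) (.leaf (nat_lit 0)) (.leaf (nat_lit 16))))) (.node (nat_lit 1772) (.node (nat_lit 1721) (.leaf (nat_lit 18)) (.node (nat_lit 1767) (.leaf (nat_lit 0)) (.leaf (nat_lit 27)))) (.node (nat_lit 1823) (.leaf (nat_lit 0)) (.node (nat_lit 1831) (.leaf (nat_lit 8)) (.leaf (nat_lit 0)))))))))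
noncomputable def CZ_soc_t1 : ST := (.node (nat_lit 522) (.node (nat_lit 249) (.node (nat_lit 109) (.node (nat_lit 57) (.node (nat_lit 21) (.node (nat_lit 13) (.leaf (nat_lit 24)) (.leaf (nat_lit 8))) (.node (nat_lit 26) (.leaf (nat_lit 48)) (.node (nat_lit 37) (.leaf (nat_lit 24)) (.leaf (nat_lit 16))))) (.node (nat_lit 80) (.node (nat_lit 70) (.leaf (nat_lit 48)) (.node (nat_lit 77) (.leaf (nat_lit 24)) (.leaf (nat_lit 8)))) (.node (nat_lit 89) (.leaf (nat_lit 24)) (.node (nat_lit 101) (.leaf (nat_lit 48)) (.leaf (nat_lit 8)))))) (.node (nat_lit 185) (.node (nat_lit 134) (.node (nat_lit 127) (.leaf (nat_lit 10)) (.node (nat_lit 128) (.leaf (nat_lit 48)) (.leaf (nat_lit 10)))) (.node (nat_lit 144) (.leaf (nat_lit 48)) (.node (nat_lit 162) (.leaf (nat_lit 24)) (.leaf (nat_lit 48))))) (.node (nat_lit 226) (.node (nat_lit 196) (.leaf (nat_lit 10)) (.node (nat_lit 215) (.leaf (nat_lit 48)) (.leaf (nat_lit 24)))) (.node (nat_lit 227) (.leaf (nat_lit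 48)) (.node (nat_lit 236) (.leaf (nat_lit 24)) (.leaf (nat_lit 48))))))) (.node (nat_lit 369) (.node (nat_lit 309) (.node (nat_lit 279) (.node (nat_lit 261) (.leaf (nat_lit 10)) (.node (nat_lit 274) (.leaf (nat_lit 48)) (.leaf (nat_lit 16)))) (.node (nat_lit 289) (.leaf (nat_lit 24)) (.node (nat_lit 302) (.leaf (nat_lit 48)) (.leaf (nat_lit 24))))) (.node (nat_lit 333) (.node (nat_lit 322) (.leaf (nat_lit 0)) (.node (nat_lit 324) (.leaf (nat_lit 24)) (.leaf (nat_lit 0)))) (.node (nat_lit 340) (.leaf (nat_lit 8)) (.node (nat_lit 353) (.leaf (nat_lit 10)) (.leaf (nat_lit 48)))))) (.node (nat_lit 448) (.node (nat_lit 404) (.node (nat_lit 388) (.leaf (nat_lit 24)) (.node (nat_lit 391) (.leaf (nat_lit 0)) (.leaf (nat_lit 48)))) (.node (nat_lit 407) (.leaf (nat_lit 10)) (.node (nat_lit 433) (.leaf (nat_lit 48)) (.leaf (nat_lit 24))))) (.node (nat_lit 481) (.node (nat_lit 472) (.leaf (nat_lit 48)) (.node (nat_lit 473) (.leaf (nat_lit 8)) (.leaf (nat_lit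 48)))) (.node (nat_lit 492) (.leaf (nat_lit 10)) (.node (nat_lit 511) (.leaf (nat_lit 48)) (.leaf (nat_lit 24)))))))) (.node (nat_lit 725) (.node (nat_lit 639) (.node (nat_lit 607) (.node (nat_lit 553) (.node (nat_lit 536) (.leaf (nat_lit 48)) (.node (nat_lit 537) (.leaf (nat_lit 8)) (.leaf (nat_lit 48)))) (.node (nat_lit 570) (.leaf (nat_lit 24)) (.node (nat_lit 599) (.leaf (nat_lit 8)) (.leaf (nat_lit 48))))) (.node (nat_lit 623) (.node (nat_lit 616) (.leaf (nat_lit 24)) (.node (nat_lit 617) (.leaf (nat_lit 48)) (.leaf (nat_lit 24)))) (.node (nat_lit 630) (.leaf (nat_lit 48)) (.node (nat_lit 636) (.leaf (nat_lit 8)) (.leaf (nat_lit 10)))))) (.node (nat_lit 680) (.node (nat_lit 662) (.node (nat_lit 647) (.leaf (nat_lit 48)) (.node (nat_lit 657) (.leaf (nat_lit 24)) (.leaf (nat_lit 48)))) (.node (nat_lit 664) (.leaf (nat_lit 24)) (.node (nat_lit 665) (.leaf (nat_lit 48)) (.leaf (nat_lit 24))))) (.node (nat_lit 694) (.node (nat_lit 686) (.leaf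 (nat_lit 48)) (.node (nat_lit 687) (.leaf (nat_lit 24)) (.leaf (nat_lit 48)))) (.node (nat_lit 703) (.leaf (nat_lit 8)) (.node (nat_lit 711) (.leaf (nat_lit 48)) (.leaf (nat_lit 24))))))) (.node (nat_lit 831) (.node (nat_lit 768) (.node (nat_lit 745) (.node (nat_lit 726) (.leaf (nat_lit 48)) (.node (nat_lit 728) (.leaf (nat_lit 24)) (.leaf (nat_lit 48)))) (.node (nat_lit 754) (.leaf (nat_lit 10)) (.node (nat_lit 764) (.leaf (nat_lit 48)) (.leaf (nat_lit 10))))) (.node (nat_lit 809) (.node (nat_lit 770) (.leaf (nat_lit 8)) (.node (nat_lit 796) (.leaf (nat_lit 48)) (.leaf (nat_lit 24)))) (.node (nat_lit 818) (.leaf (nat_lit 10)) (.node (nat_lit 828) (.leaf (nat_lit 48)) (.leaf (nat_lit 10)))))) (.node (nat_lit 903) (.node (nat_lit 863) (.node (nat_lit 849) (.leaf (nat_lit 48)) (.node (nat_lit 862) (.leaf (nat_lit 24)) (.leaf (nat_lit 48)))) (.node (nat_lit 867) (.leaf (nat_lit 24)) (.node (nat_lit 872) (.leaf (nat_lit 8)) (.leaf (nat_lit 48)))))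 (.node (nat_lit 926) (.node (nat_lit 912) (.leaf (nat_lit 24)) (.node (nat_lit 918) (.leaf (nat_lit 48)) (.leaf (nat_lit 24)))) (.node (nat_lit 927) (.leaf (nat_lit 8)) (.node (nat_lit 931) (.leaf (nat_lit 24)) (.leaf (nat_lit 8)))))))))
noncomputable def CZ_soc_F : Fm := (.all CZ_L (.or (.qf (.eq (.v (nat_lit 0)) .one)) (.exF CZ_L (fun cs => CZ_soc_t1.find (Nat.mod (nth (nat_lit 0) cs (nat_lit 0)) (nat_lit 932))) (.exF CZ_L (fun cs => CZ_soc_t0.find (Nat.mod (Nat.add (nth (nat_lit 0) cs (nat_lit 0)) (Nat.mul (nat_lit 7919) (nth (nat_lit 0) cs (nat_lit 1)))) (nat_lit 2014))) (.qf (.or (.eq (.mul (.mul (.v (nat_lit 0)) (.v (nat_lit 2))) (.inv (.v (nat_lit 0)))) (.v (nat_lit 5))) (.or (.eq (.mul (.mul (.v (nat_lit 0)) (.v (nat_lit 2))) (.inv (.v (nat_lit 0)))) (.v (nat_lit 3))) (.or (.eq (.mul (.mul (.v (nat_lit 0)) (.mul (.mul (.mul (.v (nat_lit 2)) (.v (nat_lit 1))) (.inv (.v (nat_lit 2)))) (.inv (.v (nat_lit 1))))) (.inv (.v (nat_lit 0))))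 (.v (nat_lit 5))) (.or (.eq (.mul (.mul (.v (nat_lit 0)) (.mul (.mul (.mul (.v (nat_lit 2)) (.v (nat_lit 1))) (.inv (.v (nat_lit 2)))) (.inv (.v (nat_lit 1))))) (.inv (.v (nat_lit 0)))) (.v (nat_lit 3))) (.or (.eq (.mul (.mul (.mul (.mul (.mul (.mul (.v (nat_lit 2)) (.v (nat_lit 1))) (.inv (.v (nat_lit 2)))) (.inv (.v (nat_lit 1)))) (.v (nat_lit 0))) (.inv (.mul (.mul (.mul (.v (nat_lit 2)) (.v (nat_lit 1))) (.inv (.v (nat_lit 2)))) (.inv (.v (nat_lit 1)))))) (.inv (.v (nat_lit 0)))) (.v (nat_lit 5))) (.eq (.mul (.mul (.mul (.mul (.mul (.mul (.v (nat_lit 2)) (.v (nat_lit 1))) (.inv (.v (nat_lit 2)))) (.inv (.v (nat_lit 1)))) (.v (nat_lit 0))) (.inv (.mul (.mul (.mul (.v (nat_lit 2)) (.v (nat_lit 1))) (.inv (.v (nat_lit 2)))) (.inv (.v (nat_lit 1)))))) (.inv (.v (nat_lit 0)))) (.v (nat_lit 3)))))))))))))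
theorem CZ_soc_chk : Fm.chk CZ_o CZ_soc_F CZ_cs = true := by decide +kernel
theorem CZ_soc {G : Type*} [Group G] {R : ℕ → G → Prop} {t n z z_i e e_i q q_i : G} {H : Subgroup G}
    (M : Mdl CZ_o CZ_cs CZ_L R [t, n, z, z_i, e, e_i, q, q_i] H) :
    ∀ y_ ∈ H, y_ = 1 ∨ (∃ q_ ∈ H, ∃ k_ ∈ H, k_ * y_ * k_⁻¹ = z ∨ k_ * y_ * k_⁻¹ = t ∨ k_ * ⁅y_, q_⁆ * k_⁻¹ = z ∨ k_ * ⁅y_, q_⁆ * k_⁻¹ = t ∨ ⁅⁅y_, q_⁆, k_⁆ = z ∨ ⁅⁅y_, q_⁆, k_⁆ = t) :=
  have h : ∀ y_, InL CZ_o R CZ_L y_ → y_ = 1 ∨ (Good CZ_o R CZ_L → prods CZ_o CZ_L CZ_o.one ≠ [] → ∃ q_, InL CZ_o R CZ_L q_ ∧ (Good CZ_o R CZ_L → prods CZ_o CZ_L CZ_o.one ≠ [] → ∃ k_, InL CZ_o R CZ_L k_ ∧ (k_ * y_ * k_⁻¹ = z ∨ k_ * y_ * k_⁻¹ = t ∨ k_ * ⁅y_, q_⁆ * k_⁻¹ = z ∨ k_ * ⁅y_, q_⁆ * k_⁻¹ = t ∨ ⁅⁅y_, q_⁆, k_⁆ = z ∨ ⁅⁅y_, q_⁆, k_⁆ = t))) :=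
    Fm.sound M.μ CZ_soc_F CZ_soc_chk M.reps
  (fun y_ h0 => (Or.imp (fun h1 => h1) (fun h1 => (Exists.imp (fun q_ h2 => ⟨M.H.iff.1 h2.1, (Exists.imp (fun k_ h3 => ⟨M.H.iff.1 h3.1, h3.2⟩) (h2.2 M.H.good M.H.ne))⟩) (h1 M.H.good M.H.ne))) (h y_ (M.H.iff.2 h0))))
theorem CZ_mdl {G : Type*} [Group G] {t n z e q : G}
    (h : Zq t z e q)
    (nn : n * n = 1)
    (nz : n * z * n⁻¹ = z⁻¹)
    (ne : n * e * n⁻¹ = e⁻¹)
    (nq : n * q * n⁻¹ = q⁻¹)
    (n1 : z ≠ 1) (n2 : t ≠ 1) :
    ∃ R, Mdl CZ_o CZ_cs CZ_L R [t, n, z, z⁻¹, e, e⁻¹, q, q⁻¹] (sp [t, n, z, z⁻¹, e, e⁻¹, q, q⁻¹]) ∧ #(sp [t, n, z, z⁻¹, e, e⁻¹, q, q⁻¹]) = 144 :=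
  mdl_of CZ_P rfl (CZ_r h nn nz ne nq) (.v (nat_lit 2)) (.v (nat_lit 0)) n1 n2
    fun _ ms _ M hl => match ms, M, (hl : ms.length = 8) with
      | [_, _, _, _, _, _, _, _], M, _ => CZ_soc M
noncomputable def CZ_i_t0 : ST := (.node (nat_lit 121) (.node (nat_lit 51) (.node (nat_lit 31) (.node (nat_lit 10) (.node (nat_lit 9) (.leaf (nat_lit 22)) (.leaf (nat_lit 123))) (.node (nat_lit 17) (.leaf (nat_lit 88)) (.leaf (nat_lit 3)))) (.node (nat_lit 33) (.node (nat_lit 32) (.leaf (nat_lit 0)) (.leaf (nat_lit 70))) (.node (nat_lit 45) (.leaf (nat_lit 115)) (.node (nat_lit 49) (.leaf (nat_lit 32)) (.leaf (nat_lit 51)))))) (.node (nat_lit 77) (.node (nat_lit 62) (.node (nat_lit 56) (.leaf (nat_lit 16)) (.leaf (nat_lit 102))) (.node (nat_lit 63) (.leaf (nat_lit 120)) (.leaf (nat_lit 48)))) (.node (nat_lit 97) (.node (nat_lit 83) (.leaf (nat_lit 80)) (.leaf (nat_lit 64))) (.node (nat_lit 100) (.leaf (nat_lit 27)) (.node (nat_lit 104) (.leaf (nat_lit 104))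 (.leaf (nat_lit 126))))))) (.node (nat_lit 182) (.node (nat_lit 150) (.node (nat_lit 138) (.node (nat_lit 129) (.leaf (nat_lit 19)) (.leaf (nat_lit 75))) (.node (nat_lit 144) (.leaf (nat_lit 136)) (.leaf (nat_lit 6)))) (.node (nat_lit 160) (.node (nat_lit 153) (.leaf (nat_lit 24)) (.leaf (nat_lit 67))) (.node (nat_lit 176) (.leaf (nat_lit 118)) (.node (nat_lit 177) (.leaf (nat_lit 54)) (.leaf (nat_lit 99)))))) (.node (nat_lit 205) (.node (nat_lit 191) (.node (nat_lit 188) (.leaf (nat_lit 72)) (.leaf (nat_lit 8))) (.node (nat_lit 192) (.leaf (nat_lit 96)) (.leaf (nat_lit 30)))) (.node (nat_lit 220) (.node (nat_lit 211) (.leaf (nat_lit 128)) (.leaf (nat_lit 112))) (.node (nat_lit 224) (.leaf (nat_lit 56)) (.node (nat_lit 226) (.leaf (nat_lit 78)) (.leaf (nat_lit 40))))))))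
noncomputable def CZ_i_F : Fm := (.all CZ_L (.imp (.eq (.mul (.v (nat_lit 0)) (.v (nat_lit 0))) .one) (.or (.qf (.eq (.v (nat_lit 0)) .one)) (.or (.qf (.eq (.v (nat_lit 0)) (.v (nat_lit 1)))) (.exF CZ_L (fun cs => CZ_i_t0.find (Nat.mod (nth (nat_lit 0) cs (nat_lit 0)) (nat_lit 248))) (.qf (.eq (.mul (.mul (.v (nat_lit 0)) (.v (nat_lit 1))) (.inv (.v (nat_lit 0)))) (.mul (.v (nat_lit 2)) (.v (nat_lit 3))))))))))
theorem CZ_i_chk : Fm.chk CZ_o CZ_i_F CZ_cs = true := by decide +kernel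
theorem CZ_i {G : Type*} [Group G] {R : ℕ → G → Prop} {t n z e q : G} {H : Subgroup G}
    (M : Mdl CZ_o CZ_cs CZ_L R [t, n, z, z⁻¹, e, e⁻¹, q, q⁻¹] H) :
    ∀ i ∈ H, i * i = 1 → i = 1 ∨ i = t ∨ (∃ m ∈ H, m * i * m⁻¹ = t * n) :=
  have h : ∀ i, InL CZ_o R CZ_L i → i * i = 1 → i = 1 ∨ i = t ∨ (Good CZ_o R CZ_L → prods CZ_o CZ_L CZ_o.one ≠ [] → ∃ m, InL CZ_o R CZ_L m ∧ m * i * m⁻¹ = t * n) :=
    Fm.sound M.μ CZ_i_F CZ_i_chk M.reps
  (fun i h0 => (fun h1 => (Or.imp (fun h2 => h2) (fun h2 => (Or.imp (fun h3 => h3) (fun h3 => (Exists.imp (fun m h4 => ⟨M.H.iff.1 h4.1, h4.2⟩) (h3 M.H.good M.H.ne))) h2)) ((h i (M.H.iff.2 h0)) h1))))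

end H2.NB
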