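import Cfsg.Agent.H2.NC4a
import Cfsg.Agent.H16.L.S62
import Cfsg.Agent.H1.Am1

/-! Generated: a Sylow subgroup of the symplectic group of degree six over two elements. -/

set_option maxRecDepth 100000
set_option maxHeartbeats 4000000
set_option linter.unusedVariables false

open Subgroup
open scoped commutatorElement
namespace H2.NB
open H0 H0.PM H16 H19 H10.X H2.L3 H2.N9

structure Mdx {G : Type*} [Group G] (o : Ops) (cs : List ℕ) (R : ℕ → G → Prop) (xs : List G) (H : Subgroup G) : Prop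
    extends Md0 o cs R xs where
  le : ∀ y ∈ xs, y ∈ H

structure WitS {G : Type*} [Group G] (R : ℕ → G → Prop) (l : List ℕ) (A : Subgroup G) : Prop where
  good : GoodS R l
  ne : l ≠ []
  iff : ∀ {x}, (InS R l x → x ∈ A) ∧ True

theorem WitS.of {G : Type*} [Group G] {o : Ops} {cs : List ℕ} {R : ℕ → G → Prop} {xs : List G} {H : Subgroup G}
    (M : Mdx o cs R xs H) {K c : ℕ} {l : List ℕ} {Ws : List (List ℕ)} (h : wordsChk o cs K (c :: l) Ws = 0) :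
    WitS R (c :: l) H :=
  have k := wordsChk_sound M.μ.1 M.reps h
  ⟨fun c hc => (k c hc).imp fun _ h => h.2, List.cons_ne_nil _ _, ⟨fun ⟨c, hc, hx⟩ =>
    have ⟨_, hy, hy'⟩ := k c hc
    M.μ.1.fn hy' hx ▸ gen_nthG_le M.le hy, trivial⟩⟩

theorem mdl_le {G : Type*} [Group G] {o : Ops} {cs : List ℕ} {L : List (List ℕ)} {R : ℕ → G → Prop} {xs : List G}
    {H X : Subgroup G} (M : Mdl o cs L R xs H) {K : ℕ} {WW : List (List (List ℕ))} (h : enumW o cs K L WW = true)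
    (le : ∀ y ∈ xs, y ∈ X) : H ≤ X := fun _ hx =>
  have ⟨c, hc, h1⟩ := M.H.iff.2 hx
  have ⟨_, hy, h2⟩ := enumW_sound M.μ.1 M.reps h c hc
  M.μ.1.fn h2 h1 ▸ gen_nthG_le le hy

theorem PH_WW : enumW PF_o PH_cs 11 PF_L PF_WW = true := by decide +kernel
theorem YM_WW : enumW YN_o YM_cs 11 YN_L YN_WW = true := by decide +kernel
noncomputable def SP_WS : List (List ℕ) := [[1,0,4,3,1,0,3,1,4],
  [0,1,4,3,1,0,2,1,3,1,2,3,4],
  [0,2,4,5,2,4,5,2,4,5,4,5],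
  [1,0,4,3,1,0,3,4],
  [0,4,3,1,0,3,1,4],
  [1,2,4,5,2,1,0,3,1,4,3,1,0,5,4],
  [0,1,0,4,3,1,0,5,2,4,5,2,1,3,4],
  [0],
  [3,1,0,4,3,1,0,3,1,4,3],
  [3,1,0,2,4,3,5,4,5,2,1,0,3,1,4,3],
  [3,1,0,4,3,1,0,2,5,4,3,5,2,1,4,3],
  [1,4,3,1,5,4,3,1,2,1,0,4,5,4,3],
  [0,3,1,4,5,2,1,4,3,1,4,3,1,5,4],
  [1,2,4,3,1,0,3,1,2,3,1,4,5,2,4,5],
  [5,2,1,4,5,2,4,3,1,0,3,1,2,3,1,4]]
noncomputable def SP_US : List (List ℕ) := [[7],
  [0,3],
  [13,0,1,13],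
  [2,3,7,11,7,6],
  [10,13,1,14,9],
  [0,5,10,13,5,7,5,8,13,5]]
theorem SP_a : allL (ltAll 6) SP_WS = true := by decide +kernel
theorem SP_b : allL (fixL (wdsP H16.S62.P SP_WS) 15 H16.S62.B) SP_Rl = true := by decide +kernel
theorem SP_c : allZ (fun k => ltAll 15 (nth [] SP_US k) + eqL H16.S62.P 6 H16.S62.B (H1.Am.fl SP_WS (nth [] SP_US k)) [k]) 0 6 = true := by
  decide +kernel
theorem SP_mdl {G : Type*} [Group G] {p o t a b w r e x q : G}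
    (h : S6r a b p o t w)
    (k : NE6 a p t w e r)
    (g : B1 a b e x t)
    (d2 : p = x * r * x⁻¹)
    (d3 : o = x⁻¹ * r * x)
    (l : Q1 a b e x t q)
    (qw : q * w = w * q)
    (n1 : p ≠ 1) : Nonempty (sp [p, o, t, a, a⁻¹, b, b⁻¹, w, r, e, e⁻¹, x, x⁻¹, q, q⁻¹] ≃* gen H16.S62.g 6) ∧ ∃ R, Md0 SP_o SP_cs R [p, o, t, a, a⁻¹, b, b⁻¹, w, r, e, e⁻¹, x, x⁻¹, q, q⁻¹] := by
  have hR := SP_r h k g d2 d3 l qw
  obtain ⟨φ⟩ : Nonempty (sp [p, o, t, a, a⁻¹, b, b⁻¹, w, r, e, e⁻¹, x, x⁻¹, q, q⁻¹] ≃* gen H16.S62.g 6) :=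
    H1.Am.link SP_b15 (H1.Am.model H16.S62.act H16.S62.Blt H16.S62.isBase SP_a SP_b SP_c) H16.S62.card H16.S62.simple hR
      (Nat.succ_pos _) n1
  have := H16.S62.simple
  have := φ.isSimpleGroup
  exact ⟨⟨φ⟩, md0_of_simple (d := (nat_lit 28)) (w := (nat_lit 5)) (m := (nat_lit 31)) (e := (nat_lit 0xdeb38bdab49ca307b9ac5a928398a418820)) (cs := SP_cs)
    (PkOK.of (by decide +kernel)) (by decide +kernel) (by decide +kernel) SP_b15 rfl hR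
    ((Nat.card_congr φ.toEquiv).trans H16.S62.card) (k := 0) (by decide) (by decide +kernel)⟩
noncomputable def SQ_cs : List ℕ := [(nat_lit 0xdeb38642b29d2367b8d75a927434a410c20), (nat_lit 0x7eab8bdb3474a30dccec5a9266a08518820), (nat_lit 0xb468b9ee59bd74f831aec254831c6229020), (nat_lit 0xdeb38646b29ae167b8caa5d24415a710460), (nat_lit 0xdeb38542ab9d2d17b8b793127234c808c40), (nat_lit 0xd3eb9bdb1474a30da4ec5aa621a081698a0), (nat_lit 0x7ef15bdb344ca30d4c6c5a9c6688253a080), (nat_lit 0xdc72bbdab49cb507b90cc254d31ca418801), (nat_lit 0xae1fabcb709d974cb9ac8a928398a418820), (nat_lit 0xae269849d77b174cedb654748398a418820), (nat_lit 0x725faa3370cd9579d5b28af08398a418820), (nat_lit 0xa5ecc29e468a06d82de410555cef589b920), (nat_lit 0x314e4d651b1d66f68a1872432b52ec8ad40), (nat_lit 0x66271cb877a156226db6d1cc84aab093c20), (nat_lit 0x72efaa30b3c8f04159bb898e85264fac020), (nat_lit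 0x7eab86433275236dcd175a92d31c8510c20), (nat_lit 0xa2ed17661b63f1595d13d254d3984321420), (nat_lit 0xdea989dab9bca2f8380c5a921398a21910d), (nat_lit 0xb6b38bee549d6307b02e5a92039864289a8), (nat_lit 0xa988984ac27ecf3b8da556168d45d466420)]
theorem SQ_ext {G : Type*} [Group G] {R : ℕ → G → Prop} {p o t a b w r e x q : G}
    (M : Md0 SP_o SP_cs R [p, o, t, a, a⁻¹, b, b⁻¹, w, r, e, e⁻¹, x, x⁻¹, q, q⁻¹]) :
    Md0 SP_o SQ_cs R [p, o, t, a, a⁻¹, b, b⁻¹, w, r, e, e⁻¹, x, x⁻¹, q, q⁻¹, p * o, t * (p * o * r), a * b * w * (a * b)⁻¹, (a * b)⁻¹ * w * (a * b), e * q * e⁻¹] :=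
  ⟨M.μ, M.reps.tms M.μ.1 [(.v (nat_lit 0)), (.v (nat_lit 1)), (.v (nat_lit 2)), (.v (nat_lit 3)), (.v (nat_lit 4)), (.v (nat_lit 5)), (.v (nat_lit 6)), (.v (nat_lit 7)), (.v (nat_lit 8)), (.v (nat_lit 9)), (.v (nat_lit 10)), (.v (nat_lit 11)), (.v (nat_lit 12)), (.v (nat_lit 13)), (.v (nat_lit 14)), (.mul (.v (nat_lit 0)) (.v (nat_lit 1))), (.mul (.v (nat_lit 2)) (.mul (.mul (.v (nat_lit 0)) (.v (nat_lit 1))) (.v (nat_lit 8)))), (.mul (.mul (.mul (.v (nat_lit 3)) (.v (nat_lit 5))) (.v (nat_lit 7))) (.inv (.mul (.v (nat_lit 3)) (.v (nat_lit 5))))), (.mul (.mul (.inv (.mul (.v (nat_lit 3)) (.v (nat_lit 5)))) (.v (nat_lit 7))) (.mul (.v (nat_lit 3)) (.v (nat_lit 5)))), (.mul (.mul (.v (nat_lit 9)) (.v (nat_lit 13))) (.inv (.v (nat_lit 9))))] (cs' := SQ_cs) (by decide +kernel)⟩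
noncomputable def SQ_lT : List ℕ := [(nat_lit 0xdeb38bdab49ca307b9ac5a928398a418820), (nat_lit 0x66271cb877a156226db6d1cc84aab093c20), (nat_lit 0xa988984ac27ecf3b8da556168d45d466420), (nat_lit 0x7eab86433275236dcd175a92d31c8510c20), (nat_lit 0xae1fabcb709d974cb9ac8a928398a418820), (nat_lit 0xdea989dab9bca2f8380c5a921398a21910d), (nat_lit 0xb468b9ee59bd74f831aec254831c6229020), (nat_lit 0x2a5e720d9013959a55b236a285e2d3ddc20), (nat_lit 0xbe1d1acc4c911632bd10d18ed4ab36a6c20), (nat_lit 0x66a6b7b87781622255b2c1cc84ab74b6420), (nat_lit 0x662f1a3873c956416c16d1cc14aaaf9410d), (nat_lit 0x1aa06115cf23134cc9b53c748c2f77b4c20), (nat_lit 0xc9ca9b5203dbcce609045616dd4672bd420), (nat_lit 0xd9889a5a42cd4f3b8da556a28c2dd063c20), (nat_lit 0xa98497cac486cf798c0556161d45d96510d), (nat_lit 0x26071b0a65ddd6e65119d1ccd526157c820), (nat_lit 0xb9ac92cc9b188f2abd105616d8ea8ecb020), (nat_lit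 0xce37a651f674172acd178a92d31c8510c20), (nat_lit 0x86ab863e9276636ddc335a92031c4520d0d), (nat_lit 0x1c498c9582a3b579edb659cc84aab093c20), (nat_lit 0xb26e686eb37c94220da53e168d45d466420), (nat_lit 0xae21a9cb6fbd979a380c8a921398a21910d), (nat_lit 0x7ea58743356523bb4c175a92131c83115a8), (nat_lit 0x72efaa30b3c8f04159bb898e85264fac020), (nat_lit 0x91c4a7d764858d7995a34af088e99975020), (nat_lit 0x8464b73e956675bb5d13c254d3984321420), (nat_lit 0x92e119d6cfbef19a31aed254831c6229020), (nat_lit 0xb472bbee549d7507b00ec254131c642890d), (nat_lit 0x2276628af61cd55965143ea2d5e20e7b020), (nat_lit 0x2a72720d941394f86db6361688ea53adc20), (nat_lit 0x2a60710d8f23954cd41236a215e2d7dcd0d), (nat_lit 0xcc76b1d1f62c352a9102c292d31e6ebb020), (nat_lit 0x82467b3f25dd14c75d133474d5e09215420), (nat_lit 0xbe9cbdcc4cb12232e514c18ed4a9f285420), (nat_lit 0x9e1d1adc8c909632c02fd18e04aa96ced0d),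 (nat_lit 0xb629a26e591556f80da58a54831d9774c20), (nat_lit 0x299eab8d909b8f9a59bb4ea285e2a291020), (nat_lit 0x66aeb838737962415412c1cc14ab79b510d), (nat_lit 0xbe19194c4ea91651bc10d18e14ab3ba59a8), (nat_lit 0x12ac71927b2dd32ad1193474dc2dec83820), (nat_lit 0x1aa86115d9231307d9bb3af08d46b794c20), (nat_lit 0x1a9e6215d013139a48153c741c2f73b5d0d), (nat_lit 0x9a6a675c526115bb3d103c74dc2e85c8c20), (nat_lit 0x269cb90a6cade232e514c254d31dfb85820), (nat_lit 0x79ca994283ae4ce6090456a2dc2e76bec20), (nat_lit 0xa1ca9b65e3dc0ce6102256160d46f29d50d), (nat_lit 0x62a06bb8af98d34cc9b53e1688eb62b1020), (nat_lit 0xac68b14b7925b4f831aec18e84a8732dc20), (nat_lit 0xd9849cda44a54f798c0556a21c2dcf6410d), (nat_lit 0xc9c69dd205b3ccc7080456161d4675bc9a8), (nat_lit 0xa2587965eeac1432890436a2dc2e76bec20), (nat_lit 0x2e05180dc47b173bc9b5d18e8526d9dd020), (nat_lit 0x2686b90a65ade2e6410fc1ccd5269bcd820),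 (nat_lit 0x16071b12e5dcd6e66434d1cc0525f58490d), (nat_lit 0xca9c6ad20c93d25191023c74d5e2fb9d820), (nat_lit 0x61e09238af10cd4cedb6561688ea53adc20), (nat_lit 0xb9a492cc95188f6de51456a2d5e20e7b020), (nat_lit 0x99ac92dc5b190f2ac02f561608eb2ea310d), (nat_lit 0x9c598b5c8ed8b451d11959ccd526157c820), (nat_lit 0x226a628af21cd5bb3d103e16d8ea8ecb020), (nat_lit 0xa637a6661673d72adc338a92031c4520d0d), (nat_lit 0xb6b38bee549d6307b02e5a92039864289a8), (nat_lit 0x61e89238b910cd07d5b256a285e2d3ddc20), (nat_lit 0x144b8a92e394f4c73d10598ed4ab36a6c20), (nat_lit 0x1ac9a7958283b179d5b289cc84ab74b6420), (nat_lit 0x1c458a1584cbb53bec1659cc14aaaf9410d), (nat_lit 0x71b2a13074214ef849b54c748c2f77b4c20), (nat_lit 0x82587b3f2edd143289043616dd4672bd420), (nat_lit 0x926e6a5773cd94220da53ea28c2dd063c20), (nat_lit 0xb26667eeb78494410c053e161d45d96510d), (nat_lit 0xce2da751fb6417594c178a92131c83115a8),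 (nat_lit 0x260b1d8a63b5d6c75019d1cc1526127d5a8), (nat_lit 0xb9b691cc96288f593c10561618ea8ccb9a8), (nat_lit 0x86a5873e956663bb5db35a92831c4321401), (nat_lit 0x9ad9a95c8ea8b051c10f89ccd5269bcd820), (nat_lit 0x746f8830b378f44149b5598e8526d9dd020), (nat_lit 0x72e7acb0b7a0f022581b898e152650abd0d), (nat_lit 0xa186ade5e5b40ec711024af0d8eaf59c820), (nat_lit 0xb1c4aceea4a48d7995a34c7485e18f74020), (nat_lit 0x91c8a857627d8d3b94034af018e9947650d), (nat_lit 0x12cbad92e3b4f0c76514898ed4a9f285420), (nat_lit 0x99f6a1dc56290d59410f4af0dd472ca3820), (nat_lit 0xa2ed17661b63f1595d13d254d3984321420), (nat_lit 0x7c64b743356535bb4c37c2540398831150d), (nat_lit 0x2e84ba0dc4cb233bd9bbc18e85264fac020), (nat_lit 0xdaa677da5785524115a332f088e99975020), (nat_lit 0x92df1bd6d09ef14cb00ed254131c642890d), (nat_lit 0x846ab63e9276756ddc13c25413984520da8), (nat_lit 0x8198aabf2e950e32cd174e16dd445b25820),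 (nat_lit 0xa2eb17661263f16d9102d18ed52663b9420), (nat_lit 0x12766292761dd55950393ea205e1ee8310d), (nat_lit 0xa9a6984ad77ece4131ae547485e0b41e420), (nat_lit 0x72c9aa30a2c8f179d5b28a54839b6fb4020), (nat_lit 0x2a68710d99239507ec16361618ea57acd0d), (nat_lit 0x226c618afb2cd52ae4143ea215e20c7b9a8), (nat_lit 0x21eaa60af274cdbb51194e16d8e9e381420), (nat_lit 0xac5eb14b7025b54c95a3c2928399d365c20), (nat_lit 0x7aeb11c3322d316d9102d292d31e6ebb020), (nat_lit 0xa476b1e6162bf52a8824c292031eee9b10d), (nat_lit 0x11a497127565cf6de51452f0dd460578c20), (nat_lit 0xb244686ea47c9579b1ae3c7485e0b41e420), (nat_lit 0xa2467965e5ac14c75d1332f0d8e89616c20), (nat_lit 0x7a467b4285de54c74c37347405e0522550d), (nat_lit 0x8186aabf25950ec711024c74d5e2fb9d820), (nat_lit 0x9e9cbddc8cb0a232d039c18e04aa127d50d), (nat_lit 0x76271cb0b7a0d622583bd1cc04aa50abda8), (nat_lit 0x92446a5764cd9579b1ae3af088e8b01bc20),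 (nat_lit 0x8625a2be951e57bb09048a54d39aec9b820), (nat_lit 0x96a18256cf16e39a0da55a54831d9774c20), (nat_lit 0xb633a16e542557078c058a54131d9375d0d), (nat_lit 0xaa887ccac2a6d33bb9ac36168d446f2c020), (nat_lit 0x21f6a60af674cd59410f4ea2d5e323a1420), (nat_lit 0x29b2ab8d949b8ef849b54e1688eb62b1020), (nat_lit 0x29a0a98d8fbb8f4cd81b4ea215e2a49090d), (nat_lit 0xbe98bb4c4ed92251e414c18e14a9f5849a8), (nat_lit 0xcc6cb2d1fb1c35591002c292131e6cbb9a8), (nat_lit 0x824a7dbf23b514e65c13347415e095149a8), (nat_lit 0x9e19195c8ea89651c1afd18e84aa9bcd801), (nat_lit 0x79dc99428cae4c51dd1352f0d8e89616c20), (nat_lit 0xce25a651f57417bb090489ccd4aae598c20), (nat_lit 0x12a47192752dd36dc10f32f0dd472ca3820), (nat_lit 0x22ac718afb2cd32ae43434740c2e0c7b90d), (nat_lit 0x91eea7d773858c2239ac4ea28c2c792d020), (nat_lit 0x66051cb864a1573bc9b5d292831ed0dbc20), (nat_lit 0x1ab26215d41312f8581b3af01d46b395d0d),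 (nat_lit 0x12b67292761dd359501934741c2dee831a8), (nat_lit 0x7aed11c33b2d31595d13d1ccd4a84e23020), (nat_lit 0x727279b074b954f86db634748c2e44a8820), (nat_lit 0x9a76675c5661155965143af0dd460578c20), (nat_lit 0xba6a674c926095bb402f3c740c2f25a0d0d), (nat_lit 0x8637a2be961e572acd17898ed5248c13820), (nat_lit 0x2ea6ba0dd7cb222255b2c254839b6fb4020), (nat_lit 0x261d1b0a6cddd632bd10d254d31f35a4820), (nat_lit 0x169cb912ecace232d039c254031e1b7d90d), (nat_lit 0x81ca993f23ad0ce6102256a20c2ef69ed0d), (nat_lit 0x91889857627d8f3b942356160d4594765a8), (nat_lit 0x2e27180dd77b16226db6d254839ab995020), (nat_lit 0xbaac764c9b70932ad1193616d8e9e381420), (nat_lit 0x62a86bb8b998d307d9bb3ea285e2a291020), (nat_lit 0x629e69b8b0b8d39a48153e1618eb64b090d), (nat_lit 0x1aefa7959383b04159bb8a92831e54ae420), (nat_lit 0xcc64b1d1f52c35bb5d13c1ccd4a84e23020), (nat_lit 0xdae1115aaf24b19a31aed18e84a8732dc20),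 (nat_lit 0xac72b24b7415b507b00ec18e14a8772cd0d), (nat_lit 0x79c69ac285964cc7080456a21c2e7bbd9a8), (nat_lit 0x9a64665c5571156dbc103c741c2e83c95a8), (nat_lit 0x2698ba8a6e95e251e414c254131df686da8), (nat_lit 0xa1c69de5e5b40cc711a256168d46f59c801), (nat_lit 0xca5879520eabd432902236a20c2ef69ed0d), (nat_lit 0x2e09178dc2831779c815d18e1526d4de50d), (nat_lit 0xa198ade5eeb40e32cd174ea2dc2c5524820), (nat_lit 0x1686b912e5ace2e63c30c1cc05273ba590d), (nat_lit 0x1e051815847b973bd432d18e052779b51a8), (nat_lit 0xaaa67ccad7a6d24115a3347485e18f74020), (nat_lit 0x7a9c6dc28cb6525191023af0d8eaf59c820), (nat_lit 0xa29c6ae5ec94125188243c7405e27bbd90d), (nat_lit 0x61de9138b020cd9a6c16561618ea57acd0d), (nat_lit 0xca8a6ad20393d2e64d173e16dd445b25820), (nat_lit 0x8476b73e9666752a9102c18ed52663b9420), (nat_lit 0x99a492dc55190f6dd03956a205e1ee8310d), (nat_lit 0x71e092306f114d4cd83b561608eab395da8),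 (nat_lit 0xbc598b4c4ed93451e43459cc0525f58490d), (nat_lit 0x126a6292721dd5bb402f3e1608eb2ea310d), (nat_lit 0x961fabd6d09ed74cb02e8a92039864289a8), (nat_lit 0xb6a989ee59bd62f8310e5a92d3986229001), (nat_lit 0x61f29138b420ccf8541256a215e2d7dcd0d), (nat_lit 0xc9dc9b520cdbcc51dd135474d5e09215420), (nat_lit 0x244b8a8a6395f4c7402f598e04aa96ced0d), (nat_lit 0x1ac5a815847bb13bd41289cc14ab79b510d), (nat_lit 0x14478912e5acf4e63c10598e14ab3ba59a8), (nat_lit 0x99eaa1dc52290dbb51194c74dc2dec83820), (nat_lit 0x719ea13070214f9a59bb4af08d46b794c20), (nat_lit 0x71a8a23079114f07c8154c741c2f73b5d0d), (nat_lit 0x11ac97127b65cf2abd105474dc2e85c8c20), (nat_lit 0x9acba95c83a8b0c765148a54d31dfb85820), (nat_lit 0x7a587b428ede5432902236160d46f29d50d), (nat_lit 0x92666cd777a594410c053ea21c2dcf6410d), (nat_lit 0x825c7dbf2cb51451880436161d4675bc9a8), (nat_lit 0x9c5d8ddc8cb0b432d01959cc1526127d5a8),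 (nat_lit 0x2264618af52cd56dbc103e1618ea8ccb9a8), (nat_lit 0xa62da7661b63d7595db38a92831c4321401), (nat_lit 0xa25c7ae5ec941451880436a21c2e7bbd9a8), (nat_lit 0x268aba8a6395e2c7400fc1cc152696ceda8), (nat_lit 0x160b1d92e3b4d6c765b4d1cc8525f285401), (nat_lit 0xca9869520eabd23290023c7415e2f69eda8), (nat_lit 0xb9aa91cc92288fbb641456a215e20c7b9a8), (nat_lit 0x99b691dc56290f5941af561688eb2ca3801), (nat_lit 0xa6ad82e61b1be35909045a54d39aec9b820), (nat_lit 0x7a8a6dc283b652e64d173ea2dc2c5524820), (nat_lit 0xbad9a94c4ea93051bc3089cc05273ba590d), (nat_lit 0xdaf3115ab424b10795a3d2928399d365c20), (nat_lit 0x19e09995cfbb0d4cedb654748c2e44a8820), (nat_lit 0x746787b0b780f4224815598e1526d4de50d), (nat_lit 0x9addaadc8c90b032c00f89cc152696ceda8), (nat_lit 0xbaa4764c9570936dc10f36a2d5e323a1420), (nat_lit 0x14598a92ee94f451d1195a92d39a167ec20), (nat_lit 0xc986add205b3cec708244af008ea75bc90d),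 (nat_lit 0x725e79b070b9559a55b232f08d46c4d8820), (nat_lit 0x96b38256d416e307b9ac59cc8524b71cc20), (nat_lit 0xb1c8aa6ea2cc8d3b94034c7415e19073d0d), (nat_lit 0xa18aab65e3dc0ee610024af018eaf29d5a8), (nat_lit 0x22cbad8a63b5f0c75039898e04aa127d50d), (nat_lit 0xb9f6a1cc96288d593c304af00d468ccb90d), (nat_lit 0xcaed1751fb6431594c37d2540398831150d), (nat_lit 0xdc68b9dab9bcb4f8382cc254031ca2191a8), (nat_lit 0x2e88bc8dc2a32379d81bc18e152650abd0d), (nat_lit 0xdaae785a537d5222140332f018e9947650d), (nat_lit 0xa2f716661673f12adc13d25413984520da8), (nat_lit 0x12c7ab12e5dcf0e66414898e14a9f5849a8), (nat_lit 0x99eca2dc5b190d2ac00f4af01d472ea31a8), (nat_lit 0x7c6ab6433275356dcdb7c25483988510c01), (nat_lit 0x9c4b8b5c83d8b4c73d105a54d31f35a4820), (nat_lit 0xb1eeaceeb3a48c2239ac4e168d446f2c020), (nat_lit 0x7998aac28e964e32dc334e160d449b1590d), (nat_lit 0xbe86bdcc45b122e6410fc292d39a92cd420),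 (nat_lit 0x92f319d6d4bef10795a3d1cc8525c261020), (nat_lit 0xcaeb1751f264316d8824d18e0526e39950d), (nat_lit 0x1a5e7215d013159a483536a205e373b5da8), (nat_lit 0xb45eb9ee50bd754c95a3c1cc8525c261020), (nat_lit 0xd9a69a5a57cd4e4131ae52f088e8b01bc20), (nat_lit 0xa9ae97cad386ce22300e547415e0b91d10d), (nat_lit 0xdea18bdaaf9ca39a0da5598e84a98470820), (nat_lit 0x74498830a278f579edb65a54839ab995020), (nat_lit 0x72c5acb0a4a0f13bd4128a54139b70b3d0d), (nat_lit 0x819ca93f2cad0e51cc174e161d445626da8), (nat_lit 0xa2e516661573f1bb1002d18e152665b8da8), (nat_lit 0x126c61927b2dd52ad1b93ea285e1ec83801), (nat_lit 0x11eaa6127275cdbb64344e1608ea037950d), (nat_lit 0xac60b24b6f15b59a1403c2921399d764d0d), (nat_lit 0x82eb11be922e716d8824d292031eee9b10d), (nat_lit 0x945eb156d026f54c8c25c29203999375da8), (nat_lit 0x19e89995d9bb0d07d5b252f08d46c4d8820), (nat_lit 0x21a4970af564cf6dd03952f00d45e580d0d),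 (nat_lit 0xb24867eea284953bb00e3c7415e0b91d10d), (nat_lit 0x12d9ad92eeb4f051c10f8a92d39a92cd420), (nat_lit 0xca46795205abd4c74c3732f008e85626d0d), (nat_lit 0xda44685a447d5579b82c3c7405e0742e5a8), (nat_lit 0x7986aac285964ec708244c7405e27bbd90d), (nat_lit 0x76a6b7b0b780e2224835c1cc04aad4de5a8), (nat_lit 0x762f1a30b3c8d641591bd1ccd4aa4fac001), (nat_lit 0x92486cd762a5953bb00e3af018e8af1c10d), (nat_lit 0x7e25a2c3351d17bb10228a54039a6cbb90d), (nat_lit 0x969f8156d026e34c8c055a54131d9375d0d), (nat_lit 0x862ba1be922e576d88048a54139aee9b1a8), (nat_lit 0xda8877da4285533bb9ac36a28c2c792d020), (nat_lit 0xaa847a4ac4ced379b80c36161d44702bd0d), (nat_lit 0xa6ab82e6121be36dcd17598ed5248c13820), (nat_lit 0x11f6a6127675cd593c304ea205e283c950d), (nat_lit 0x29a8a98d99bb8f07c8154e1618eb64b090d), (nat_lit 0x21eca70afb64cd2ac00f4ea215e325a0da8), (nat_lit 0x818aa93f23ad0ee610024c7415e2f69eda8),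 (nat_lit 0x9e98bb5c8ed8a251d1b9c18e84aa157c801), (nat_lit 0x21e4a70af564cd6dd0194e1618e9e580da8), (nat_lit 0x7ae512c3351d31bb1002d292131e6cbb9a8), (nat_lit 0xa46cb2e61b1bf55909a4c292831eec9b801), (nat_lit 0x11aa96127275cfbb641452f01d4603795a8), (nat_lit 0xa24a7ae5e39414e65c1332f018e89b159a8), (nat_lit 0x7a4a7dc283b654e64db7347485e05524801), (nat_lit 0x81dc993f2cad0c51cc3752f008e85626d0d), (nat_lit 0xae29abcb799d96f80da5898e84a98470820), (nat_lit 0x7ead86433b752359090459ccd4aae598c20), (nat_lit 0xa625a6661573d7bb102289cc04aa65b8d0d), (nat_lit 0x22a4718af52cd36dbc3032f00d468ccb90d), (nat_lit 0x2aa0610d8f23934cd4323c740c2ed7dcda8), (nat_lit 0x91e6a857777d8c41380c4ea21c2c742e50d), (nat_lit 0xbe071acc459116e65119d292d39a167ec20), (nat_lit 0x6684b7b86481633bd9bbc292831e54ae420), (nat_lit 0x66091a3862c95779c815d292131ecfdc10d), (nat_lit 0x12aa7292721dd3bb400f32f01d472ea31a8),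 (nat_lit 0x79d89ac28e964c32dc1352f018e89b159a8), (nat_lit 0xce2ba751f264176d880489cc14aae3995a8), (nat_lit 0x22b6728af61cd35965b434748c2e0e7b001), (nat_lit 0x82ed11be9b2e71594c37d1cc04a88e1310d), (nat_lit 0x72687bb079995507ec1634741c2e42a910d), (nat_lit 0xba76674c9660955950393af00d45e580d0d), (nat_lit 0x627279b8b4b8d4f8583b34740c2ea4909a8), (nat_lit 0xb61fa26e5015574cb9ac89cc8524b71cc20), (nat_lit 0x7e37a2c3361d172adc33898e05244c2390d), (nat_lit 0x2eaebc8dd3a322415412c254139b70b3d0d), (nat_lit 0x161d1b12ecdcd632c02fd254031e95cc90d), (nat_lit 0x1ea6ba1597cba2224835c254039acfdc1a8), (nat_lit 0xb1889a6ea2cc8f3b942356a20c2d9073da8), (nat_lit 0x918497d764858f7995035616dd459975001), (nat_lit 0x2e2f178dd38316416c16d254139ab49650d), (nat_lit 0x9aac765c5b71132ae434361608ea037950d), (nat_lit 0x62b269b8b4b8d2f8581b3ea215e2a49090d), (nat_lit 0xbab6774c966093595019361618e9e580da8),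 (nat_lit 0x1c6f8c9593a3b44149b55a92831ed0dbc20), (nat_lit 0x1ae7a815977bb022581b8a92131e59ad10d), (nat_lit 0xa464b1e6152bf5bb4c37c1cc04a88e1310d), (nat_lit 0xdadf125ab014b14cb00ed18e14a8772cd0d), (nat_lit 0xcc6ab2d1f21c356ddc13c1cc14a84c239a8), (nat_lit 0x81c69abf25950cc711a256a28c2efb9d801), (nat_lit 0x7af712c3361d312adc13d1cc14a84c239a8), (nat_lit 0x9a6c665c5b71152ae4143af01d4603795a8), (nat_lit 0xba64664c9570956dc1af3c748c2f23a1401), (nat_lit 0x862da1be9b2e57594c17898e15248e131a8), (nat_lit 0x26191d8a6eb5d651bc10d254131f32a55a8), (nat_lit 0x1698ba92ee94e251d1b9c254831e167ec01), (nat_lit 0xaa6e6a4ad3ced42214233ea20c2d9073da8), (nat_lit 0xc998add20eb3ce32dc334ea20c2c951490d), (nat_lit 0x1e84ba1584cba33bec36c18e0526af941a8), (nat_lit 0x1e09179582839779d512d18ed52774b6401), (nat_lit 0xaaae7a4ad3ced2221403347415e19073d0d), (nat_lit 0x829c6dbf2cb5125188243af008ea75bc90d),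 (nat_lit 0x92a67cd777a592410c25347405e1cf641a8), (nat_lit 0xa28a6ae5e39412e65c333e160d449b1590d), (nat_lit 0x7c76b7433665352a8824c18e0526e39950d), (nat_lit 0x71e8923079114d07c83556a205e373b5da8), (nat_lit 0x71de913070214d9a591b5616d8eab794c01), (nat_lit 0x646f8838737974415432598e052779b51a8), (nat_lit 0x1a727215d41314f8583b361608eab395da8), (nat_lit 0x2c498c8dc2a33579d83b59cc04aa50abda8), (nat_lit 0xda6e685a537d542214233e160d4594765a8), (nat_lit 0x9621a9d6cfbed79a310e8a92d3986229001), (nat_lit 0xa1dc9b65ecdc0c51cc37547405e0522550d), (nat_lit 0xc9d89dd20eb3cc32dc13547415e095149a8), (nat_lit 0x2447890a65adf4e641af598e84aa9bcd801), (nat_lit 0xb9eaa1cc92288dbb64344c740c2e0c7b90d), (nat_lit 0x71a0a2306f114f4cd81b4af01d46b395d0d), (nat_lit 0x99e4a2dc55190d6dd0194c741c2dee831a8), (nat_lit 0x21ac970afb64cf2ac02f54740c2f25a0d0d), (nat_lit 0xbacba94c43a930c750398a54031e1b7d90d),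 (nat_lit 0x11b696127675cf593c1054741c2e83c95a8), (nat_lit 0x9ac7aadc8590b0e664148a54131df686da8), (nat_lit 0x7a5c7dc28cb6545191a236168d46f59c801), (nat_lit 0xbc5d8dcc4cb13432e5b459cc8525f285401), (nat_lit 0x12646192752dd56dc1af3e1688eb2ca3801), (nat_lit 0xca5c7ad20c93d45191a236a28c2efb9d801), (nat_lit 0xa19cab65ecdc0e51cc174ea21c2c52255a8), (nat_lit 0x168aba92e394e2c73db0c1cc852736a6c01), (nat_lit 0x7a986b428ede523290023af018eaf29d5a8), (nat_lit 0xa2986965eeac123289a43c7485e276bec01), (nat_lit 0xca86695205abd2c74c173e161d445626da8), (nat_lit 0x846cb63e9b7675591002c18e152665b8da8), (nat_lit 0x99aa91dc52290fbb51b956a285e1ec83801), (nat_lit 0xcead82d1fb1c235910225a54039a6cbb90d), (nat_lit 0x828a6dbf23b512e65c333ea20c2c951490d), (nat_lit 0x62efaa3873c970416c36898e0526af941a8), (nat_lit 0xdae9125ab914b0f81403d2921399d764d0d), (nat_lit 0x19de9b95d09b0d9a6c1654741c2e42a910d),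 (nat_lit 0xa6b781e6162be32a88045a54139aee9b1a8), (nat_lit 0x7a866b4285de52c74c173ea21c2c52255a8), (nat_lit 0xbaddaacc4c913032bdb089cc852736a6c01), (nat_lit 0x9aa4765c5571136dbc3036a205e283c950d), (nat_lit 0x24598a8a6e95f451e4345a920399f686d0d), (nat_lit 0xa9c4a7cac486cd798c254af008e9d9651a8), (nat_lit 0x72607bb06f99554cd41232f01d46c2d910d), (nat_lit 0x96a98156d926e2f8380c59cc1524b31dd0d), (nat_lit 0xbaaa774c926093bb400f36a215e325a0da8), (nat_lit 0x145d8912ecacf432d0195a92139a1b7d9a8), (nat_lit 0xc98aab5203dbcee609a44af088ea72bd401), (nat_lit 0x2ac9a78dc2833179c83589cc04aad4de5a8), (nat_lit 0x619ea138b020cf9a6c364af00d4657acda8), (nat_lit 0xaae119cb6fbdb19a382cd254031ca2191a8), (nat_lit 0xdc72bbdab49cb507b90cc254d31ca418801), (nat_lit 0xcaf71651f674312acdb7d25483988510c01), (nat_lit 0x22c7ab0a65ddf0e651b9898e84aa157c801), (nat_lit 0xb9eca2cc9b188d2abdb04af08d468ecb001),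 (nat_lit 0xbc4b8b4c43d934c7402f5a54031e95cc90d), (nat_lit 0xb1e6aa6eb7cc8c41380c4e161d44702bd0d), (nat_lit 0xd9eeacda53a54c22302e4e160d44af1c1a8), (nat_lit 0x9e86bddc85b0a2e63c30c292039b32a550d), (nat_lit 0x92e91bd6d99ef0f81403d1cc1525c46090d), (nat_lit 0xaaf319cb74bdb1078c25d1cc052582711a8), (nat_lit 0x1a607115cf23154cc91536a2d5e377b4c01), (nat_lit 0xb460bbee4f9d759a1403c1cc1525c46090d), (nat_lit 0xd9ae9cda53a54e22300e52f018e8af1c10d), (nat_lit 0xde9f89dab0bca34c8c05598e14a9827110d), (nat_lit 0x744587b0a480f53bec165a54139ab49650d), (nat_lit 0x9c478ddc85b0b4e63c105a54131f32a55a8), (nat_lit 0x799ca9428cae4e51ddb34e168d449616c01), (nat_lit 0xbe8abb4c43d922c7400fc292139a95cc9a8), (nat_lit 0xcae51651f57431bb09a4d18e8526e598c01), (nat_lit 0x19b2ab95d49b0ef854324e1608eac2d91a8), (nat_lit 0xb2f3116e542571078c25d29203999375da8), (nat_lit 0x9460b256cf16f59a0d05c292d3999774c01),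 (nat_lit 0x19f29b95d49b0cf8541252f01d46c2d910d), (nat_lit 0x29e8998d99bb8d07c83552f00d4764b09a8), (nat_lit 0x22d9ad8a6eb5f051bc308a92039b32a550d), (nat_lit 0xaa446a4ac4ced579b82c3af008e8702bda8), (nat_lit 0xda4867da4285553bb90c3c74d5e0792d001), (nat_lit 0xd9c4acda44a54d798c254c7405e1cf641a8), (nat_lit 0xde29a25ab91496f814238a54031dd764da8), (nat_lit 0x199eab95d09b0f9a6c364ea205e242a91a8), (nat_lit 0x76aeb830b378e2414915c1ccd4aad9dd001), (nat_lit 0x7e2ba1c3322d176d91a28a54839a6ebb001), (nat_lit 0xda84785a447d5379b80c36a21c2c742e50d), (nat_lit 0xceab82d1f21c236ddc33598e05244c2390d), (nat_lit 0xa6a581e6152be3bb4c17598e15248e131a8), (nat_lit 0x11eca7127b65cd2abdb04ea285e285c8c01), (nat_lit 0x798aa94283ae4ee609a44c7485e276bec01), (nat_lit 0x11e4a7127565cd6de5b44e1688ea0578c01), (nat_lit 0x82e512be951e71bb09a4d292831eec9b801), (nat_lit 0x21aa960af274cfbb51b952f08d45e381401),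 (nat_lit 0x12ddab12ecdcf032c00f8a92139a95cc9a8), (nat_lit 0xca4a7ad20393d4e64db732f088e85b25801), (nat_lit 0xb1a69a6eb7cc8e41382c52f008e8702bda8), (nat_lit 0xae33a9cb74bd97078c05898e14a9827110d), (nat_lit 0x86ad863e9b766359102259cc04aa65b8d0d), (nat_lit 0x9629abd6d99ed6f81423898e04a9c4609a8), (nat_lit 0x2aa8610d99239307ec363af00d4657acda8), (nat_lit 0x2a9e620d9013939a55123c74dc2ed3ddc01), (nat_lit 0x9e071adc859096e66434d2920399f686d0d), (nat_lit 0x6688b83862796379d81bc292131e59ad10d), (nat_lit 0xbe0b194c43a916c75019d292139a1b7d9a8), (nat_lit 0x22aa728af21cd3bb3db032f08d468ecb001), (nat_lit 0x81d89abf2e950c32cdb752f088e85b25801), (nat_lit 0x7eb787433665232a880459cc14aae3995a8), (nat_lit 0xa62ba7661263d76d91a289cc84aa63b9401), (nat_lit 0xb2e1116e4f25719a382cd18e04a8b31dda8), (nat_lit 0x625e79b8b0b8d59a483532f00d4764b09a8), (nat_lit 0x62687bb8b998d507d91b3474dc2ea291001),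 (nat_lit 0xb621a16e4f25579a380c89cc1524b31dd0d), (nat_lit 0xde1fa25ab014974cb02e89cc0524772cda8), (nat_lit 0x1e271815977b9622583bd254039a59ad1a8), (nat_lit 0x1eaebc9593a3a2414915c254d39ad0dbc01), (nat_lit 0x72a06bb06f99534cd4323e1608eac2d91a8), (nat_lit 0x9468b156d926f4f8382cc18e04a8b31dda8), (nat_lit 0xb1849ceea4a48f79950356a2dc2d8f74001), (nat_lit 0x9ab6775c5661135965b4361688ea0578c01), (nat_lit 0x1c678a1597cbb42248155a92131ecfdc10d), (nat_lit 0xa46ab2e6121bf56dcdb7c1cc84a88c13801), (nat_lit 0x82f712be961e712acdb7d1cc84a88c13801), (nat_lit 0xba6c664c9b70952ad1b93af08d45e381401), (nat_lit 0x7e2da1c33b2d17595db3898e85244e23001), (nat_lit 0x16191d92eeb4d651c1afd254831e92cd401), (nat_lit 0xaa666ccad7a6d44115033ea2dc2d8f74001), (nat_lit 0xa9eea7cad386cc22302e4ea20c2cb91d1a8), (nat_lit 0x61b2a138b420cef854324c740c2ed7dcda8), (nat_lit 0x1e88bc9582a3a379ed16c18ed526b093c01),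 (nat_lit 0xb2a677eeb78492410c2532f008e9d9651a8), (nat_lit 0x92ae7a5773cd92220d053474d5e1d063c01), (nat_lit 0x92887cd762a5933bb02e36160d44af1c1a8), (nat_lit 0xdc5eb9dab0bcb54c8c25c1cc052582711a8), (nat_lit 0x71f2913074214cf8491556a2d5e377b4c01), (nat_lit 0x29e0998d8fbb8d4cd83b54740c2ea4909a8), (nat_lit 0x646787b8778174225512598ed52774b6401), (nat_lit 0x91a69857777d8e41382c547405e0742e5a8), (nat_lit 0x62c9aa3862c97179c8358a54039acfdc1a8), (nat_lit 0x1a687115d9231507d91b3616d8eab794c01), (nat_lit 0x2c458a0dc4cb353bd91b59ccd4aa4fac001), (nat_lit 0xda6667da5785544115033e16dd459975001), (nat_lit 0xa1d89de5eeb40c32cdb7547485e05524801), (nat_lit 0xb9e4a2cc95188d6de5b44c748c2e0e7b001), (nat_lit 0x21b6960af674cf5941af54748c2f23a1401), (nat_lit 0xbac7aacc459130e651b98a54831e167ec01), (nat_lit 0xc99cab520cdbce51ddb34ea28c2c9215401), (nat_lit 0x82986b3f2edd123289a43af088ea72bd401),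 (nat_lit 0xa2866965e5ac12c75db33e168d449616c01), (nat_lit 0x7c6cb6433b75355909a4c18e8526e598c01), (nat_lit 0xaea1824b6f15a39a14235a54031dd764da8), (nat_lit 0xb28877eea284933bb02e36a20c2cb91d1a8), (nat_lit 0x62e7acb877a170226d16898ed526b093c01), (nat_lit 0xceb781d1f62c232a91a25a54839a6ebb001), (nat_lit 0x82866b3f25dd12c75db33ea28c2c9215401), (nat_lit 0x72a86bb079995307ec363ea205e242a91a8), (nat_lit 0x2c6f8c8dd3a3344154325a92031f70b3da8), (nat_lit 0xa9c8a84ac27ecd3b8d054af0d8e9d466401), (nat_lit 0x9aaa775c526113bb3db036a285e285c8c01), (nat_lit 0x245d890a6cadf432e5b45a928399fb85801), (nat_lit 0x2ac5a80dc47b313bc91589ccd4aad9dd001), (nat_lit 0x61a0a238af10cf4ced164af0dd4653adc01), (nat_lit 0xaadf1bcb709db14cb90cd254d31ca418801), (nat_lit 0x6449883862797579d83b5a54039a59ad1a8), (nat_lit 0xd9e6aa5a57cd4c41310e4e16dd44b01bc01), (nat_lit 0x7684b7b0a480e33bec36c292031eb4965a8),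 (nat_lit 0xaae91bcb799db0f80d05d1ccd5258470801), (nat_lit 0xbc478dcc45b134e641af5a54831e92cd401), (nat_lit 0x9e8abb5c83d8a2c73db0c292839b35a4801), (nat_lit 0x19a8a995d9bb0f07d5124e16d8eac4d8801), (nat_lit 0xb2e9126e591570f80d05d292d3999774c01), (nat_lit 0x29f29b8d949b8cf8491552f0dd4762b1001), (nat_lit 0x2aefa78dd38330416c368a92031eb4965a8), (nat_lit 0xaa486ccac2a6d53bb90c3af0d8e86f2c001), (nat_lit 0xaeb3824b7415a307b02e59cc0524772cda8), (nat_lit 0xd9c8aa5a42cd4d3b8d054c74d5e1d063c01), (nat_lit 0xde33a15ab424970795038a54d31dd365c01), (nat_lit 0x19a0a995cfbb0f4ced164ea2d5e244a8801), (nat_lit 0xcea581d1f52c23bb5db3598e85244e23001), (nat_lit 0x22ddab0a6cddf032bdb08a92839b35a4801), (nat_lit 0xb1ae9ceeb3a48e22390c52f0d8e86f2c001), (nat_lit 0xb6a18bee4f9d639a1423598e04a9c4609a8), (nat_lit 0x9633a9d6d4bed7079503898ed4a9c261001), (nat_lit 0x76051cb0a4a0d73bd432d292031f70b3da8),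 (nat_lit 0x2ab2620d941392f86d163af0dd4653adc01), (nat_lit 0x9e0b195c83a896c765b4d2928399fb85801), (nat_lit 0x86b7873e9666632a91a259cc84aa63b9401), (nat_lit 0xb2df126e5015714cb90cd18ed4a8b71cc01), (nat_lit 0x62607bb8af98d54cc91532f0dd4762b1001), (nat_lit 0xde21a15aaf24979a310e89ccd524732dc01), (nat_lit 0x1e2f179593839641591bd254d39a54ae401), (nat_lit 0x729e69b070b9539a55123e16d8eac4d8801), (nat_lit 0x9472b256d416f507b90cc18ed4a8b71cc01), (nat_lit 0xa9e6a84ad77ecc41310e4ea2dc2cb41e401), (nat_lit 0x61a8a238b910cf07d5124c74dc2ed3ddc01), (nat_lit 0xb2ae786eb37c92220d0532f0d8e9d466401), (nat_lit 0x92847a5764cd9379b10e3616dd44b01bc01), (nat_lit 0xdc60bbdaaf9cb59a0d05c1ccd5258470801), (nat_lit 0x29de9b8d909b8d9a591b5474dc2ea291001), (nat_lit 0x91ae97d773858e22390c5474d5e0792d001), (nat_lit 0x62c5acb864a1713bc9158a54d39ad0dbc01), (nat_lit 0xae9f814b7025a34c95035a54d31dd365c01),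 (nat_lit 0xb284786ea47c9379b10e36a2dc2cb41e401), (nat_lit 0x72b269b074b952f86d163ea2d5e244a8801), (nat_lit 0x2c678a0dd7cb342255125a92d31f6fb4001), (nat_lit 0x644587b86481753bd91b5a54d39a54ae401), (nat_lit 0x7688b830a278e379ed16c292d31eb995001), (nat_lit 0x2ae7a80dd77b30226d168a92d31eb995001), (nat_lit 0xaea9814b7925a2f8310e59ccd524732dc01), (nat_lit 0xb69f89ee50bd634c9503598ed4a9c261001), (nat_lit 0x76091a30a2c8d779d512d292d31f6fb4001)]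
noncomputable def SQ_lT_W : List (List ℕ) := [[],
  [(nat_lit 0)],
  [(nat_lit 1)],
  [(nat_lit 2)],
  [(nat_lit 3)],
  [(nat_lit 4)],
  [(nat_lit 0), (nat_lit 0)],
  [(nat_lit 0), (nat_lit 1)],
  [(nat_lit 0), (nat_lit 2)],
  [(nat_lit 0), (nat_lit 3)],
  [(nat_lit 0), (nat_lit 4)],
  [(nat_lit 1), (nat_lit 0)],
  [(nat_lit 1), (nat_lit 2)],
  [(nat_lit 1), (nat_lit 3)],
  [(nat_lit 1), (nat_lit 4)],
  [(nat_lit 2), (nat_lit 0)],
  [(nat_lit 2), (nat_lit 1)],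
  [(nat_lit 2), (nat_lit 3)],
  [(nat_lit 2), (nat_lit 4)],
  [(nat_lit 3), (nat_lit 0)],
  [(nat_lit 3), (nat_lit 1)],
  [(nat_lit 3), (nat_lit 4)],
  [(nat_lit 4), (nat_lit 2)],
  [(nat_lit 0), (nat_lit 0), (nat_lit 0)],
  [(nat_lit 0), (nat_lit 0), (nat_lit 1)],
  [(nat_lit 0), (nat_lit 0), (nat_lit 2)],
  [(nat_lit 0), (nat_lit 0), (nat_lit 3)],
  [(nat_lit 0), (nat_lit 0), (nat_lit 4)],
  [(nat_lit 0), (nat_lit 1), (nat_lit 2)],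
  [(nat_lit 0), (nat_lit 1), (nat_lit 3)],
  [(nat_lit 0), (nat_lit 1), (nat_lit 4)],
  [(nat_lit 0), (nat_lit 2), (nat_lit 0)],
  [(nat_lit 0), (nat_lit 2), (nat_lit 1)],
  [(nat_lit 0), (nat_lit 2), (nat_lit 3)],
  [(nat_lit 0), (nat_lit 2), (nat_lit 4)],
  [(nat_lit 0), (nat_lit 3), (nat_lit 0)],
  [(nat_lit 0), (nat_lit 3), (nat_lit 1)],
  [(nat_lit 0), (nat_lit 3), (nat_lit 4)],
  [(nat_lit 0), (nat_lit 4), (nat_lit 2)],
  [(nat_lit 1), (nat_lit 0), (nat_lit 2)],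
  [(nat_lit 1), (nat_lit 0), (nat_lit 3)],
  [(nat_lit 1), (nat_lit 0), (nat_lit 4)],
  [(nat_lit 1), (nat_lit 2), (nat_lit 0)],
  [(nat_lit 1), (nat_lit 2), (nat_lit 1)],
  [(nat_lit 1), (nat_lit 2), (nat_lit 3)],
  [(nat_lit 1), (nat_lit 2), (nat_lit 4)],
  [(nat_lit 1), (nat_lit 3), (nat_lit 0)],
  [(nat_lit 1), (nat_lit 3), (nat_lit 1)],
  [(nat_lit 1), (nat_lit 3), (nat_lit 4)],
  [(nat_lit 1), (nat_lit 4), (nat_lit 2)],
  [(nat_lit 2), (nat_lit 0), (nat_lit 1)],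
  [(nat_lit 2), (nat_lit 0), (nat_lit 2)],
  [(nat_lit 2), (nat_lit 0), (nat_lit 3)],
  [(nat_lit 2), (nat_lit 0), (nat_lit 4)],
  [(nat_lit 2), (nat_lit 1), (nat_lit 0)],
  [(nat_lit 2), (nat_lit 1), (nat_lit 2)],
  [(nat_lit 2), (nat_lit 1), (nat_lit 3)],
  [(nat_lit 2), (nat_lit 1), (nat_lit 4)],
  [(nat_lit 2), (nat_lit 3), (nat_lit 0)],
  [(nat_lit 2), (nat_lit 3), (nat_lit 1)],
  [(nat_lit 2), (nat_lit 3), (nat_lit 4)],
  [(nat_lit 2), (nat_lit 4), (nat_lit 2)],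
  [(nat_lit 3), (nat_lit 0), (nat_lit 1)],
  [(nat_lit 3), (nat_lit 0), (nat_lit 2)],
  [(nat_lit 3), (nat_lit 0), (nat_lit 3)],
  [(nat_lit 3), (nat_lit 0), (nat_lit 4)],
  [(nat_lit 3), (nat_lit 1), (nat_lit 0)],
  [(nat_lit 3), (nat_lit 1), (nat_lit 2)],
  [(nat_lit 3), (nat_lit 1), (nat_lit 3)],
  [(nat_lit 3), (nat_lit 1), (nat_lit 4)],
  [(nat_lit 3), (nat_lit 4), (nat_lit 2)],
  [(nat_lit 4), (nat_lit 2), (nat_lit 0)],
  [(nat_lit 4), (nat_lit 2), (nat_lit 1)],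
  [(nat_lit 4), (nat_lit 2), (nat_lit 4)],
  [(nat_lit 0), (nat_lit 0), (nat_lit 0), (nat_lit 2)],
  [(nat_lit 0), (nat_lit 0), (nat_lit 0), (nat_lit 3)],
  [(nat_lit 0), (nat_lit 0), (nat_lit 0), (nat_lit 4)],
  [(nat_lit 0), (nat_lit 0), (nat_lit 1), (nat_lit 2)],
  [(nat_lit 0), (nat_lit 0), (nat_lit 1), (nat_lit 3)],
  [(nat_lit 0), (nat_lit 0), (nat_lit 1), (nat_lit 4)],
  [(nat_lit 0), (nat_lit 0), (nat_lit 2), (nat_lit 0)],
  [(nat_lit 0), (nat_lit 0), (nat_lit 2), (nat_lit 1)],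
  [(nat_lit 0), (nat_lit 0), (nat_lit 2), (nat_lit 3)],
  [(nat_lit 0), (nat_lit 0), (nat_lit 2), (nat_lit 4)],
  [(nat_lit 0), (nat_lit 0), (nat_lit 3), (nat_lit 0)],
  [(nat_lit 0), (nat_lit 0), (nat_lit 3), (nat_lit 1)],
  [(nat_lit 0), (nat_lit 0), (nat_lit 3), (nat_lit 4)],
  [(nat_lit 0), (nat_lit 0), (nat_lit 4), (nat_lit 2)],
  [(nat_lit 0), (nat_lit 1), (nat_lit 2), (nat_lit 0)],
  [(nat_lit 0), (nat_lit 1), (nat_lit 2), (nat_lit 1)],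
  [(nat_lit 0), (nat_lit 1), (nat_lit 2), (nat_lit 4)],
  [(nat_lit 0), (nat_lit 1), (nat_lit 3), (nat_lit 0)],
  [(nat_lit 0), (nat_lit 1), (nat_lit 3), (nat_lit 1)],
  [(nat_lit 0), (nat_lit 1), (nat_lit 3), (nat_lit 4)],
  [(nat_lit 0), (nat_lit 1), (nat_lit 4), (nat_lit 2)],
  [(nat_lit 0), (nat_lit 2), (nat_lit 0), (nat_lit 1)],
  [(nat_lit 0), (nat_lit 2), (nat_lit 0), (nat_lit 2)],
  [(nat_lit 0), (nat_lit 2), (nat_lit 0), (nat_lit 3)],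
  [(nat_lit 0), (nat_lit 2), (nat_lit 0), (nat_lit 4)],
  [(nat_lit 0), (nat_lit 2), (nat_lit 1), (nat_lit 0)],
  [(nat_lit 0), (nat_lit 2), (nat_lit 1), (nat_lit 2)],
  [(nat_lit 0), (nat_lit 2), (nat_lit 1), (nat_lit 3)],
  [(nat_lit 0), (nat_lit 2), (nat_lit 1), (nat_lit 4)],
  [(nat_lit 0), (nat_lit 2), (nat_lit 3), (nat_lit 1)],
  [(nat_lit 0), (nat_lit 2), (nat_lit 3), (nat_lit 4)],
  [(nat_lit 0), (nat_lit 2), (nat_lit 4), (nat_lit 2)],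
  [(nat_lit 0), (nat_lit 3), (nat_lit 0), (nat_lit 1)],
  [(nat_lit 0), (nat_lit 3), (nat_lit 0), (nat_lit 2)],
  [(nat_lit 0), (nat_lit 3), (nat_lit 0), (nat_lit 3)],
  [(nat_lit 0), (nat_lit 3), (nat_lit 0), (nat_lit 4)],
  [(nat_lit 0), (nat_lit 3), (nat_lit 1), (nat_lit 0)],
  [(nat_lit 0), (nat_lit 3), (nat_lit 1), (nat_lit 2)],
  [(nat_lit 0), (nat_lit 3), (nat_lit 1), (nat_lit 3)],
  [(nat_lit 0), (nat_lit 3), (nat_lit 1), (nat_lit 4)],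
  [(nat_lit 0), (nat_lit 3), (nat_lit 4), (nat_lit 2)],
  [(nat_lit 0), (nat_lit 4), (nat_lit 2), (nat_lit 0)],
  [(nat_lit 0), (nat_lit 4), (nat_lit 2), (nat_lit 1)],
  [(nat_lit 0), (nat_lit 4), (nat_lit 2), (nat_lit 4)],
  [(nat_lit 1), (nat_lit 0), (nat_lit 2), (nat_lit 0)],
  [(nat_lit 1), (nat_lit 0), (nat_lit 2), (nat_lit 1)],
  [(nat_lit 1), (nat_lit 0), (nat_lit 2), (nat_lit 3)],
  [(nat_lit 1), (nat_lit 0), (nat_lit 2), (nat_lit 4)],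
  [(nat_lit 1), (nat_lit 0), (nat_lit 3), (nat_lit 0)],
  [(nat_lit 1), (nat_lit 0), (nat_lit 3), (nat_lit 1)],
  [(nat_lit 1), (nat_lit 0), (nat_lit 3), (nat_lit 4)],
  [(nat_lit 1), (nat_lit 0), (nat_lit 4), (nat_lit 2)],
  [(nat_lit 1), (nat_lit 2), (nat_lit 0), (nat_lit 1)],
  [(nat_lit 1), (nat_lit 2), (nat_lit 0), (nat_lit 2)],
  [(nat_lit 1), (nat_lit 2), (nat_lit 0), (nat_lit 3)],
  [(nat_lit 1), (nat_lit 2), (nat_lit 0), (nat_lit 4)],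
  [(nat_lit 1), (nat_lit 2), (nat_lit 1), (nat_lit 0)],
  [(nat_lit 1), (nat_lit 2), (nat_lit 1), (nat_lit 2)],
  [(nat_lit 1), (nat_lit 2), (nat_lit 1), (nat_lit 3)],
  [(nat_lit 1), (nat_lit 2), (nat_lit 1), (nat_lit 4)],
  [(nat_lit 1), (nat_lit 2), (nat_lit 3), (nat_lit 4)],
  [(nat_lit 1), (nat_lit 2), (nat_lit 4), (nat_lit 2)],
  [(nat_lit 1), (nat_lit 3), (nat_lit 0), (nat_lit 1)],
  [(nat_lit 1), (nat_lit 3), (nat_lit 0), (nat_lit 2)],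
  [(nat_lit 1), (nat_lit 3), (nat_lit 0), (nat_lit 3)],
  [(nat_lit 1), (nat_lit 3), (nat_lit 0), (nat_lit 4)],
  [(nat_lit 1), (nat_lit 3), (nat_lit 1), (nat_lit 0)],
  [(nat_lit 1), (nat_lit 3), (nat_lit 1), (nat_lit 2)],
  [(nat_lit 1), (nat_lit 3), (nat_lit 1), (nat_lit 3)],
  [(nat_lit 1), (nat_lit 3), (nat_lit 1), (nat_lit 4)],
  [(nat_lit 1), (nat_lit 3), (nat_lit 4), (nat_lit 2)],
  [(nat_lit 1), (nat_lit 4), (nat_lit 2), (nat_lit 0)],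
  [(nat_lit 1), (nat_lit 4), (nat_lit 2), (nat_lit 1)],
  [(nat_lit 1), (nat_lit 4), (nat_lit 2), (nat_lit 4)],
  [(nat_lit 2), (nat_lit 0), (nat_lit 1), (nat_lit 4)],
  [(nat_lit 2), (nat_lit 0), (nat_lit 2), (nat_lit 4)],
  [(nat_lit 2), (nat_lit 0), (nat_lit 3), (nat_lit 1)],
  [(nat_lit 2), (nat_lit 0), (nat_lit 3), (nat_lit 4)],
  [(nat_lit 2), (nat_lit 0), (nat_lit 4), (nat_lit 2)],
  [(nat_lit 2), (nat_lit 1), (nat_lit 0), (nat_lit 2)],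
  [(nat_lit 2), (nat_lit 1), (nat_lit 0), (nat_lit 3)],
  [(nat_lit 2), (nat_lit 1), (nat_lit 0), (nat_lit 4)],
  [(nat_lit 2), (nat_lit 1), (nat_lit 2), (nat_lit 4)],
  [(nat_lit 2), (nat_lit 1), (nat_lit 3), (nat_lit 0)],
  [(nat_lit 2), (nat_lit 1), (nat_lit 3), (nat_lit 1)],
  [(nat_lit 2), (nat_lit 1), (nat_lit 3), (nat_lit 4)],
  [(nat_lit 2), (nat_lit 1), (nat_lit 4), (nat_lit 2)],
  [(nat_lit 2), (nat_lit 3), (nat_lit 0), (nat_lit 4)],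
  [(nat_lit 2), (nat_lit 3), (nat_lit 1), (nat_lit 4)],
  [(nat_lit 2), (nat_lit 3), (nat_lit 4), (nat_lit 2)],
  [(nat_lit 2), (nat_lit 4), (nat_lit 2), (nat_lit 4)],
  [(nat_lit 3), (nat_lit 0), (nat_lit 1), (nat_lit 4)],
  [(nat_lit 3), (nat_lit 0), (nat_lit 2), (nat_lit 1)],
  [(nat_lit 3), (nat_lit 0), (nat_lit 2), (nat_lit 4)],
  [(nat_lit 3), (nat_lit 0), (nat_lit 3), (nat_lit 4)],
  [(nat_lit 3), (nat_lit 0), (nat_lit 4), (nat_lit 2)],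
  [(nat_lit 3), (nat_lit 1), (nat_lit 0), (nat_lit 2)],
  [(nat_lit 3), (nat_lit 1), (nat_lit 0), (nat_lit 3)],
  [(nat_lit 3), (nat_lit 1), (nat_lit 0), (nat_lit 4)],
  [(nat_lit 3), (nat_lit 1), (nat_lit 2), (nat_lit 0)],
  [(nat_lit 3), (nat_lit 1), (nat_lit 2), (nat_lit 1)],
  [(nat_lit 3), (nat_lit 1), (nat_lit 2), (nat_lit 4)],
  [(nat_lit 3), (nat_lit 1), (nat_lit 3), (nat_lit 4)],
  [(nat_lit 3), (nat_lit 1), (nat_lit 4), (nat_lit 2)],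
  [(nat_lit 3), (nat_lit 4), (nat_lit 2), (nat_lit 0)],
  [(nat_lit 3), (nat_lit 4), (nat_lit 2), (nat_lit 1)],
  [(nat_lit 3), (nat_lit 4), (nat_lit 2), (nat_lit 4)],
  [(nat_lit 4), (nat_lit 2), (nat_lit 0), (nat_lit 1)],
  [(nat_lit 4), (nat_lit 2), (nat_lit 0), (nat_lit 3)],
  [(nat_lit 4), (nat_lit 2), (nat_lit 0), (nat_lit 4)],
  [(nat_lit 4), (nat_lit 2), (nat_lit 1), (nat_lit 0)],
  [(nat_lit 4), (nat_lit 2), (nat_lit 1), (nat_lit 3)],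
  [(nat_lit 4), (nat_lit 2), (nat_lit 1), (nat_lit 4)],
  [(nat_lit 0), (nat_lit 0), (nat_lit 0), (nat_lit 2), (nat_lit 0)],
  [(nat_lit 0), (nat_lit 0), (nat_lit 0), (nat_lit 2), (nat_lit 1)],
  [(nat_lit 0), (nat_lit 0), (nat_lit 0), (nat_lit 2), (nat_lit 4)],
  [(nat_lit 0), (nat_lit 0), (nat_lit 0), (nat_lit 3), (nat_lit 0)],
  [(nat_lit 0), (nat_lit 0), (nat_lit 0), (nat_lit 3), (nat_lit 1)],
  [(nat_lit 0), (nat_lit 0), (nat_lit 0), (nat_lit 3), (nat_lit 4)],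
  [(nat_lit 0), (nat_lit 0), (nat_lit 0), (nat_lit 4), (nat_lit 2)],
  [(nat_lit 0), (nat_lit 0), (nat_lit 1), (nat_lit 2), (nat_lit 0)],
  [(nat_lit 0), (nat_lit 0), (nat_lit 1), (nat_lit 2), (nat_lit 1)],
  [(nat_lit 0), (nat_lit 0), (nat_lit 1), (nat_lit 2), (nat_lit 4)],
  [(nat_lit 0), (nat_lit 0), (nat_lit 1), (nat_lit 3), (nat_lit 0)],
  [(nat_lit 0), (nat_lit 0), (nat_lit 1), (nat_lit 3), (nat_lit 1)],
  [(nat_lit 0), (nat_lit 0), (nat_lit 1), (nat_lit 3), (nat_lit 4)],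
  [(nat_lit 0), (nat_lit 0), (nat_lit 1), (nat_lit 4), (nat_lit 2)],
  [(nat_lit 0), (nat_lit 0), (nat_lit 2), (nat_lit 0), (nat_lit 4)],
  [(nat_lit 0), (nat_lit 0), (nat_lit 2), (nat_lit 1), (nat_lit 4)],
  [(nat_lit 0), (nat_lit 0), (nat_lit 2), (nat_lit 3), (nat_lit 4)],
  [(nat_lit 0), (nat_lit 0), (nat_lit 2), (nat_lit 4), (nat_lit 2)],
  [(nat_lit 0), (nat_lit 0), (nat_lit 3), (nat_lit 0), (nat_lit 4)],
  [(nat_lit 0), (nat_lit 0), (nat_lit 3), (nat_lit 1), (nat_lit 4)],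
  [(nat_lit 0), (nat_lit 0), (nat_lit 3), (nat_lit 4), (nat_lit 2)],
  [(nat_lit 0), (nat_lit 0), (nat_lit 4), (nat_lit 2), (nat_lit 0)],
  [(nat_lit 0), (nat_lit 0), (nat_lit 4), (nat_lit 2), (nat_lit 1)],
  [(nat_lit 0), (nat_lit 0), (nat_lit 4), (nat_lit 2), (nat_lit 4)],
  [(nat_lit 0), (nat_lit 1), (nat_lit 2), (nat_lit 0), (nat_lit 1)],
  [(nat_lit 0), (nat_lit 1), (nat_lit 2), (nat_lit 0), (nat_lit 2)],
  [(nat_lit 0), (nat_lit 1), (nat_lit 2), (nat_lit 0), (nat_lit 4)],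
  [(nat_lit 0), (nat_lit 1), (nat_lit 2), (nat_lit 1), (nat_lit 0)],
  [(nat_lit 0), (nat_lit 1), (nat_lit 2), (nat_lit 1), (nat_lit 2)],
  [(nat_lit 0), (nat_lit 1), (nat_lit 2), (nat_lit 1), (nat_lit 4)],
  [(nat_lit 0), (nat_lit 1), (nat_lit 2), (nat_lit 4), (nat_lit 2)],
  [(nat_lit 0), (nat_lit 1), (nat_lit 3), (nat_lit 0), (nat_lit 1)],
  [(nat_lit 0), (nat_lit 1), (nat_lit 3), (nat_lit 0), (nat_lit 3)],
  [(nat_lit 0), (nat_lit 1), (nat_lit 3), (nat_lit 0), (nat_lit 4)],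
  [(nat_lit 0), (nat_lit 1), (nat_lit 3), (nat_lit 1), (nat_lit 0)],
  [(nat_lit 0), (nat_lit 1), (nat_lit 3), (nat_lit 1), (nat_lit 3)],
  [(nat_lit 0), (nat_lit 1), (nat_lit 3), (nat_lit 1), (nat_lit 4)],
  [(nat_lit 0), (nat_lit 1), (nat_lit 4), (nat_lit 2), (nat_lit 0)],
  [(nat_lit 0), (nat_lit 1), (nat_lit 4), (nat_lit 2), (nat_lit 1)],
  [(nat_lit 0), (nat_lit 1), (nat_lit 4), (nat_lit 2), (nat_lit 4)],
  [(nat_lit 0), (nat_lit 2), (nat_lit 0), (nat_lit 1), (nat_lit 4)],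
  [(nat_lit 0), (nat_lit 2), (nat_lit 0), (nat_lit 2), (nat_lit 4)],
  [(nat_lit 0), (nat_lit 2), (nat_lit 0), (nat_lit 3), (nat_lit 4)],
  [(nat_lit 0), (nat_lit 2), (nat_lit 0), (nat_lit 4), (nat_lit 2)],
  [(nat_lit 0), (nat_lit 2), (nat_lit 1), (nat_lit 0), (nat_lit 2)],
  [(nat_lit 0), (nat_lit 2), (nat_lit 1), (nat_lit 0), (nat_lit 4)],
  [(nat_lit 0), (nat_lit 2), (nat_lit 1), (nat_lit 2), (nat_lit 4)],
  [(nat_lit 0), (nat_lit 2), (nat_lit 1), (nat_lit 3), (nat_lit 1)],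
  [(nat_lit 0), (nat_lit 2), (nat_lit 1), (nat_lit 3), (nat_lit 4)],
  [(nat_lit 0), (nat_lit 2), (nat_lit 1), (nat_lit 4), (nat_lit 2)],
  [(nat_lit 0), (nat_lit 2), (nat_lit 3), (nat_lit 1), (nat_lit 4)],
  [(nat_lit 0), (nat_lit 2), (nat_lit 3), (nat_lit 4), (nat_lit 2)],
  [(nat_lit 0), (nat_lit 2), (nat_lit 4), (nat_lit 2), (nat_lit 4)],
  [(nat_lit 0), (nat_lit 3), (nat_lit 0), (nat_lit 1), (nat_lit 4)],
  [(nat_lit 0), (nat_lit 3), (nat_lit 0), (nat_lit 2), (nat_lit 4)],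
  [(nat_lit 0), (nat_lit 3), (nat_lit 0), (nat_lit 3), (nat_lit 4)],
  [(nat_lit 0), (nat_lit 3), (nat_lit 0), (nat_lit 4), (nat_lit 2)],
  [(nat_lit 0), (nat_lit 3), (nat_lit 1), (nat_lit 0), (nat_lit 3)],
  [(nat_lit 0), (nat_lit 3), (nat_lit 1), (nat_lit 0), (nat_lit 4)],
  [(nat_lit 0), (nat_lit 3), (nat_lit 1), (nat_lit 2), (nat_lit 1)],
  [(nat_lit 0), (nat_lit 3), (nat_lit 1), (nat_lit 2), (nat_lit 4)],
  [(nat_lit 0), (nat_lit 3), (nat_lit 1), (nat_lit 3), (nat_lit 4)],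
  [(nat_lit 0), (nat_lit 3), (nat_lit 1), (nat_lit 4), (nat_lit 2)],
  [(nat_lit 0), (nat_lit 3), (nat_lit 4), (nat_lit 2), (nat_lit 1)],
  [(nat_lit 0), (nat_lit 3), (nat_lit 4), (nat_lit 2), (nat_lit 4)],
  [(nat_lit 0), (nat_lit 4), (nat_lit 2), (nat_lit 0), (nat_lit 1)],
  [(nat_lit 0), (nat_lit 4), (nat_lit 2), (nat_lit 0), (nat_lit 3)],
  [(nat_lit 0), (nat_lit 4), (nat_lit 2), (nat_lit 0), (nat_lit 4)],
  [(nat_lit 0), (nat_lit 4), (nat_lit 2), (nat_lit 1), (nat_lit 0)],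
  [(nat_lit 0), (nat_lit 4), (nat_lit 2), (nat_lit 1), (nat_lit 3)],
  [(nat_lit 0), (nat_lit 4), (nat_lit 2), (nat_lit 1), (nat_lit 4)],
  [(nat_lit 1), (nat_lit 0), (nat_lit 2), (nat_lit 0), (nat_lit 4)],
  [(nat_lit 1), (nat_lit 0), (nat_lit 2), (nat_lit 1), (nat_lit 2)],
  [(nat_lit 1), (nat_lit 0), (nat_lit 2), (nat_lit 1), (nat_lit 3)],
  [(nat_lit 1), (nat_lit 0), (nat_lit 2), (nat_lit 1), (nat_lit 4)],
  [(nat_lit 1), (nat_lit 0), (nat_lit 2), (nat_lit 3), (nat_lit 4)],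
  [(nat_lit 1), (nat_lit 0), (nat_lit 2), (nat_lit 4), (nat_lit 2)],
  [(nat_lit 1), (nat_lit 0), (nat_lit 3), (nat_lit 0), (nat_lit 4)],
  [(nat_lit 1), (nat_lit 0), (nat_lit 3), (nat_lit 1), (nat_lit 2)],
  [(nat_lit 1), (nat_lit 0), (nat_lit 3), (nat_lit 1), (nat_lit 3)],
  [(nat_lit 1), (nat_lit 0), (nat_lit 3), (nat_lit 1), (nat_lit 4)],
  [(nat_lit 1), (nat_lit 0), (nat_lit 3), (nat_lit 4), (nat_lit 2)],
  [(nat_lit 1), (nat_lit 0), (nat_lit 4), (nat_lit 2), (nat_lit 0)],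
  [(nat_lit 1), (nat_lit 0), (nat_lit 4), (nat_lit 2), (nat_lit 1)],
  [(nat_lit 1), (nat_lit 0), (nat_lit 4), (nat_lit 2), (nat_lit 4)],
  [(nat_lit 1), (nat_lit 2), (nat_lit 0), (nat_lit 1), (nat_lit 4)],
  [(nat_lit 1), (nat_lit 2), (nat_lit 0), (nat_lit 2), (nat_lit 4)],
  [(nat_lit 1), (nat_lit 2), (nat_lit 0), (nat_lit 3), (nat_lit 4)],
  [(nat_lit 1), (nat_lit 2), (nat_lit 0), (nat_lit 4), (nat_lit 2)],
  [(nat_lit 1), (nat_lit 2), (nat_lit 1), (nat_lit 0), (nat_lit 2)],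
  [(nat_lit 1), (nat_lit 2), (nat_lit 1), (nat_lit 0), (nat_lit 4)],
  [(nat_lit 1), (nat_lit 2), (nat_lit 1), (nat_lit 2), (nat_lit 4)],
  [(nat_lit 1), (nat_lit 2), (nat_lit 1), (nat_lit 3), (nat_lit 4)],
  [(nat_lit 1), (nat_lit 2), (nat_lit 1), (nat_lit 4), (nat_lit 2)],
  [(nat_lit 1), (nat_lit 2), (nat_lit 3), (nat_lit 4), (nat_lit 2)],
  [(nat_lit 1), (nat_lit 2), (nat_lit 4), (nat_lit 2), (nat_lit 4)],
  [(nat_lit 1), (nat_lit 3), (nat_lit 0), (nat_lit 1), (nat_lit 4)],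
  [(nat_lit 1), (nat_lit 3), (nat_lit 0), (nat_lit 2), (nat_lit 4)],
  [(nat_lit 1), (nat_lit 3), (nat_lit 0), (nat_lit 3), (nat_lit 4)],
  [(nat_lit 1), (nat_lit 3), (nat_lit 0), (nat_lit 4), (nat_lit 2)],
  [(nat_lit 1), (nat_lit 3), (nat_lit 1), (nat_lit 0), (nat_lit 3)],
  [(nat_lit 1), (nat_lit 3), (nat_lit 1), (nat_lit 0), (nat_lit 4)],
  [(nat_lit 1), (nat_lit 3), (nat_lit 1), (nat_lit 2), (nat_lit 4)],
  [(nat_lit 1), (nat_lit 3), (nat_lit 1), (nat_lit 3), (nat_lit 4)],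
  [(nat_lit 1), (nat_lit 3), (nat_lit 1), (nat_lit 4), (nat_lit 2)],
  [(nat_lit 1), (nat_lit 3), (nat_lit 4), (nat_lit 2), (nat_lit 4)],
  [(nat_lit 1), (nat_lit 4), (nat_lit 2), (nat_lit 0), (nat_lit 1)],
  [(nat_lit 1), (nat_lit 4), (nat_lit 2), (nat_lit 0), (nat_lit 3)],
  [(nat_lit 1), (nat_lit 4), (nat_lit 2), (nat_lit 0), (nat_lit 4)],
  [(nat_lit 1), (nat_lit 4), (nat_lit 2), (nat_lit 1), (nat_lit 0)],
  [(nat_lit 1), (nat_lit 4), (nat_lit 2), (nat_lit 1), (nat_lit 3)],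
  [(nat_lit 1), (nat_lit 4), (nat_lit 2), (nat_lit 1), (nat_lit 4)],
  [(nat_lit 2), (nat_lit 0), (nat_lit 1), (nat_lit 4), (nat_lit 2)],
  [(nat_lit 2), (nat_lit 0), (nat_lit 3), (nat_lit 1), (nat_lit 4)],
  [(nat_lit 2), (nat_lit 0), (nat_lit 3), (nat_lit 4), (nat_lit 2)],
  [(nat_lit 2), (nat_lit 0), (nat_lit 4), (nat_lit 2), (nat_lit 4)],
  [(nat_lit 2), (nat_lit 1), (nat_lit 0), (nat_lit 2), (nat_lit 4)],
  [(nat_lit 2), (nat_lit 1), (nat_lit 0), (nat_lit 3), (nat_lit 4)],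
  [(nat_lit 2), (nat_lit 1), (nat_lit 0), (nat_lit 4), (nat_lit 2)],
  [(nat_lit 2), (nat_lit 1), (nat_lit 3), (nat_lit 0), (nat_lit 4)],
  [(nat_lit 2), (nat_lit 1), (nat_lit 3), (nat_lit 1), (nat_lit 4)],
  [(nat_lit 2), (nat_lit 1), (nat_lit 3), (nat_lit 4), (nat_lit 2)],
  [(nat_lit 2), (nat_lit 1), (nat_lit 4), (nat_lit 2), (nat_lit 4)],
  [(nat_lit 2), (nat_lit 3), (nat_lit 0), (nat_lit 4), (nat_lit 2)],
  [(nat_lit 2), (nat_lit 3), (nat_lit 1), (nat_lit 4), (nat_lit 2)],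
  [(nat_lit 2), (nat_lit 3), (nat_lit 4), (nat_lit 2), (nat_lit 0)],
  [(nat_lit 2), (nat_lit 3), (nat_lit 4), (nat_lit 2), (nat_lit 1)],
  [(nat_lit 2), (nat_lit 3), (nat_lit 4), (nat_lit 2), (nat_lit 4)],
  [(nat_lit 3), (nat_lit 0), (nat_lit 2), (nat_lit 1), (nat_lit 4)],
  [(nat_lit 3), (nat_lit 0), (nat_lit 4), (nat_lit 2), (nat_lit 1)],
  [(nat_lit 3), (nat_lit 0), (nat_lit 4), (nat_lit 2), (nat_lit 4)],
  [(nat_lit 3), (nat_lit 1), (nat_lit 0), (nat_lit 2), (nat_lit 4)],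
  [(nat_lit 3), (nat_lit 1), (nat_lit 0), (nat_lit 3), (nat_lit 4)],
  [(nat_lit 3), (nat_lit 1), (nat_lit 0), (nat_lit 4), (nat_lit 2)],
  [(nat_lit 3), (nat_lit 1), (nat_lit 2), (nat_lit 0), (nat_lit 4)],
  [(nat_lit 3), (nat_lit 1), (nat_lit 2), (nat_lit 1), (nat_lit 4)],
  [(nat_lit 3), (nat_lit 1), (nat_lit 4), (nat_lit 2), (nat_lit 0)],
  [(nat_lit 3), (nat_lit 1), (nat_lit 4), (nat_lit 2), (nat_lit 1)],
  [(nat_lit 3), (nat_lit 1), (nat_lit 4), (nat_lit 2), (nat_lit 4)],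
  [(nat_lit 3), (nat_lit 4), (nat_lit 2), (nat_lit 0), (nat_lit 4)],
  [(nat_lit 3), (nat_lit 4), (nat_lit 2), (nat_lit 1), (nat_lit 4)],
  [(nat_lit 4), (nat_lit 2), (nat_lit 0), (nat_lit 1), (nat_lit 4)],
  [(nat_lit 4), (nat_lit 2), (nat_lit 0), (nat_lit 3), (nat_lit 1)],
  [(nat_lit 4), (nat_lit 2), (nat_lit 0), (nat_lit 3), (nat_lit 4)],
  [(nat_lit 4), (nat_lit 2), (nat_lit 1), (nat_lit 0), (nat_lit 3)],
  [(nat_lit 4), (nat_lit 2), (nat_lit 1), (nat_lit 0), (nat_lit 4)],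
  [(nat_lit 4), (nat_lit 2), (nat_lit 1), (nat_lit 3), (nat_lit 0)],
  [(nat_lit 4), (nat_lit 2), (nat_lit 1), (nat_lit 3), (nat_lit 1)],
  [(nat_lit 4), (nat_lit 2), (nat_lit 1), (nat_lit 3), (nat_lit 4)],
  [(nat_lit 0), (nat_lit 0), (nat_lit 0), (nat_lit 2), (nat_lit 0), (nat_lit 4)],
  [(nat_lit 0), (nat_lit 0), (nat_lit 0), (nat_lit 2), (nat_lit 1), (nat_lit 4)],
  [(nat_lit 0), (nat_lit 0), (nat_lit 0), (nat_lit 2), (nat_lit 4), (nat_lit 2)],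
  [(nat_lit 0), (nat_lit 0), (nat_lit 0), (nat_lit 3), (nat_lit 0), (nat_lit 4)],
  [(nat_lit 0), (nat_lit 0), (nat_lit 0), (nat_lit 3), (nat_lit 1), (nat_lit 4)],
  [(nat_lit 0), (nat_lit 0), (nat_lit 0), (nat_lit 4), (nat_lit 2), (nat_lit 0)],
  [(nat_lit 0), (nat_lit 0), (nat_lit 0), (nat_lit 4), (nat_lit 2), (nat_lit 1)],
  [(nat_lit 0), (nat_lit 0), (nat_lit 0), (nat_lit 4), (nat_lit 2), (nat_lit 4)],
  [(nat_lit 0), (nat_lit 0), (nat_lit 1), (nat_lit 2), (nat_lit 0), (nat_lit 4)],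
  [(nat_lit 0), (nat_lit 0), (nat_lit 1), (nat_lit 2), (nat_lit 1), (nat_lit 4)],
  [(nat_lit 0), (nat_lit 0), (nat_lit 1), (nat_lit 2), (nat_lit 4), (nat_lit 2)],
  [(nat_lit 0), (nat_lit 0), (nat_lit 1), (nat_lit 3), (nat_lit 0), (nat_lit 4)],
  [(nat_lit 0), (nat_lit 0), (nat_lit 1), (nat_lit 3), (nat_lit 1), (nat_lit 4)],
  [(nat_lit 0), (nat_lit 0), (nat_lit 1), (nat_lit 4), (nat_lit 2), (nat_lit 0)],
  [(nat_lit 0), (nat_lit 0), (nat_lit 1), (nat_lit 4), (nat_lit 2), (nat_lit 1)],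
  [(nat_lit 0), (nat_lit 0), (nat_lit 1), (nat_lit 4), (nat_lit 2), (nat_lit 4)],
  [(nat_lit 0), (nat_lit 0), (nat_lit 2), (nat_lit 0), (nat_lit 4), (nat_lit 2)],
  [(nat_lit 0), (nat_lit 0), (nat_lit 2), (nat_lit 1), (nat_lit 4), (nat_lit 2)],
  [(nat_lit 0), (nat_lit 0), (nat_lit 2), (nat_lit 3), (nat_lit 4), (nat_lit 2)],
  [(nat_lit 0), (nat_lit 0), (nat_lit 2), (nat_lit 4), (nat_lit 2), (nat_lit 4)],
  [(nat_lit 0), (nat_lit 0), (nat_lit 3), (nat_lit 4), (nat_lit 2), (nat_lit 4)],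
  [(nat_lit 0), (nat_lit 0), (nat_lit 4), (nat_lit 2), (nat_lit 0), (nat_lit 4)],
  [(nat_lit 0), (nat_lit 0), (nat_lit 4), (nat_lit 2), (nat_lit 1), (nat_lit 4)],
  [(nat_lit 0), (nat_lit 1), (nat_lit 2), (nat_lit 0), (nat_lit 1), (nat_lit 4)],
  [(nat_lit 0), (nat_lit 1), (nat_lit 2), (nat_lit 0), (nat_lit 2), (nat_lit 4)],
  [(nat_lit 0), (nat_lit 1), (nat_lit 2), (nat_lit 0), (nat_lit 4), (nat_lit 2)],
  [(nat_lit 0), (nat_lit 1), (nat_lit 2), (nat_lit 1), (nat_lit 0), (nat_lit 4)],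
  [(nat_lit 0), (nat_lit 1), (nat_lit 2), (nat_lit 1), (nat_lit 2), (nat_lit 4)],
  [(nat_lit 0), (nat_lit 1), (nat_lit 2), (nat_lit 1), (nat_lit 4), (nat_lit 2)],
  [(nat_lit 0), (nat_lit 1), (nat_lit 2), (nat_lit 4), (nat_lit 2), (nat_lit 4)],
  [(nat_lit 0), (nat_lit 1), (nat_lit 3), (nat_lit 0), (nat_lit 1), (nat_lit 4)],
  [(nat_lit 0), (nat_lit 1), (nat_lit 3), (nat_lit 0), (nat_lit 3), (nat_lit 4)],
  [(nat_lit 0), (nat_lit 1), (nat_lit 3), (nat_lit 1), (nat_lit 0), (nat_lit 4)],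
  [(nat_lit 0), (nat_lit 1), (nat_lit 3), (nat_lit 1), (nat_lit 3), (nat_lit 4)],
  [(nat_lit 0), (nat_lit 1), (nat_lit 4), (nat_lit 2), (nat_lit 0), (nat_lit 1)],
  [(nat_lit 0), (nat_lit 1), (nat_lit 4), (nat_lit 2), (nat_lit 0), (nat_lit 4)],
  [(nat_lit 0), (nat_lit 1), (nat_lit 4), (nat_lit 2), (nat_lit 1), (nat_lit 0)],
  [(nat_lit 0), (nat_lit 1), (nat_lit 4), (nat_lit 2), (nat_lit 1), (nat_lit 4)],
  [(nat_lit 0), (nat_lit 2), (nat_lit 0), (nat_lit 1), (nat_lit 4), (nat_lit 2)],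
  [(nat_lit 0), (nat_lit 2), (nat_lit 0), (nat_lit 3), (nat_lit 4), (nat_lit 2)],
  [(nat_lit 0), (nat_lit 2), (nat_lit 0), (nat_lit 4), (nat_lit 2), (nat_lit 4)],
  [(nat_lit 0), (nat_lit 2), (nat_lit 1), (nat_lit 0), (nat_lit 2), (nat_lit 4)],
  [(nat_lit 0), (nat_lit 2), (nat_lit 1), (nat_lit 0), (nat_lit 4), (nat_lit 2)],
  [(nat_lit 0), (nat_lit 2), (nat_lit 1), (nat_lit 3), (nat_lit 1), (nat_lit 4)],
  [(nat_lit 0), (nat_lit 2), (nat_lit 1), (nat_lit 3), (nat_lit 4), (nat_lit 2)],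
  [(nat_lit 0), (nat_lit 2), (nat_lit 1), (nat_lit 4), (nat_lit 2), (nat_lit 4)],
  [(nat_lit 0), (nat_lit 2), (nat_lit 3), (nat_lit 1), (nat_lit 4), (nat_lit 2)],
  [(nat_lit 0), (nat_lit 2), (nat_lit 3), (nat_lit 4), (nat_lit 2), (nat_lit 0)],
  [(nat_lit 0), (nat_lit 2), (nat_lit 3), (nat_lit 4), (nat_lit 2), (nat_lit 1)],
  [(nat_lit 0), (nat_lit 2), (nat_lit 3), (nat_lit 4), (nat_lit 2), (nat_lit 4)],
  [(nat_lit 0), (nat_lit 3), (nat_lit 0), (nat_lit 4), (nat_lit 2), (nat_lit 4)],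
  [(nat_lit 0), (nat_lit 3), (nat_lit 1), (nat_lit 0), (nat_lit 3), (nat_lit 4)],
  [(nat_lit 0), (nat_lit 3), (nat_lit 1), (nat_lit 2), (nat_lit 1), (nat_lit 4)],
  [(nat_lit 0), (nat_lit 3), (nat_lit 1), (nat_lit 4), (nat_lit 2), (nat_lit 1)],
  [(nat_lit 0), (nat_lit 3), (nat_lit 1), (nat_lit 4), (nat_lit 2), (nat_lit 4)],
  [(nat_lit 0), (nat_lit 3), (nat_lit 4), (nat_lit 2), (nat_lit 1), (nat_lit 4)],
  [(nat_lit 0), (nat_lit 4), (nat_lit 2), (nat_lit 0), (nat_lit 1), (nat_lit 4)],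
  [(nat_lit 0), (nat_lit 4), (nat_lit 2), (nat_lit 0), (nat_lit 3), (nat_lit 4)],
  [(nat_lit 0), (nat_lit 4), (nat_lit 2), (nat_lit 1), (nat_lit 0), (nat_lit 4)],
  [(nat_lit 0), (nat_lit 4), (nat_lit 2), (nat_lit 1), (nat_lit 3), (nat_lit 1)],
  [(nat_lit 0), (nat_lit 4), (nat_lit 2), (nat_lit 1), (nat_lit 3), (nat_lit 4)],
  [(nat_lit 1), (nat_lit 0), (nat_lit 2), (nat_lit 0), (nat_lit 4), (nat_lit 2)],
  [(nat_lit 1), (nat_lit 0), (nat_lit 2), (nat_lit 1), (nat_lit 2), (nat_lit 4)],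
  [(nat_lit 1), (nat_lit 0), (nat_lit 2), (nat_lit 1), (nat_lit 3), (nat_lit 4)],
  [(nat_lit 1), (nat_lit 0), (nat_lit 2), (nat_lit 1), (nat_lit 4), (nat_lit 2)],
  [(nat_lit 1), (nat_lit 0), (nat_lit 2), (nat_lit 3), (nat_lit 4), (nat_lit 2)],
  [(nat_lit 1), (nat_lit 0), (nat_lit 2), (nat_lit 4), (nat_lit 2), (nat_lit 4)],
  [(nat_lit 1), (nat_lit 0), (nat_lit 3), (nat_lit 1), (nat_lit 2), (nat_lit 4)],
  [(nat_lit 1), (nat_lit 0), (nat_lit 3), (nat_lit 1), (nat_lit 3), (nat_lit 4)],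
  [(nat_lit 1), (nat_lit 0), (nat_lit 3), (nat_lit 1), (nat_lit 4), (nat_lit 2)],
  [(nat_lit 1), (nat_lit 0), (nat_lit 3), (nat_lit 4), (nat_lit 2), (nat_lit 4)],
  [(nat_lit 1), (nat_lit 0), (nat_lit 4), (nat_lit 2), (nat_lit 0), (nat_lit 4)],
  [(nat_lit 1), (nat_lit 0), (nat_lit 4), (nat_lit 2), (nat_lit 1), (nat_lit 3)],
  [(nat_lit 1), (nat_lit 0), (nat_lit 4), (nat_lit 2), (nat_lit 1), (nat_lit 4)],
  [(nat_lit 1), (nat_lit 2), (nat_lit 0), (nat_lit 1), (nat_lit 4), (nat_lit 2)],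
  [(nat_lit 1), (nat_lit 2), (nat_lit 0), (nat_lit 3), (nat_lit 4), (nat_lit 2)],
  [(nat_lit 1), (nat_lit 2), (nat_lit 0), (nat_lit 4), (nat_lit 2), (nat_lit 4)],
  [(nat_lit 1), (nat_lit 2), (nat_lit 1), (nat_lit 0), (nat_lit 2), (nat_lit 4)],
  [(nat_lit 1), (nat_lit 2), (nat_lit 1), (nat_lit 0), (nat_lit 4), (nat_lit 2)],
  [(nat_lit 1), (nat_lit 2), (nat_lit 1), (nat_lit 3), (nat_lit 4), (nat_lit 2)],
  [(nat_lit 1), (nat_lit 2), (nat_lit 1), (nat_lit 4), (nat_lit 2), (nat_lit 4)],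
  [(nat_lit 1), (nat_lit 2), (nat_lit 3), (nat_lit 4), (nat_lit 2), (nat_lit 0)],
  [(nat_lit 1), (nat_lit 2), (nat_lit 3), (nat_lit 4), (nat_lit 2), (nat_lit 1)],
  [(nat_lit 1), (nat_lit 2), (nat_lit 3), (nat_lit 4), (nat_lit 2), (nat_lit 4)],
  [(nat_lit 1), (nat_lit 3), (nat_lit 0), (nat_lit 4), (nat_lit 2), (nat_lit 4)],
  [(nat_lit 1), (nat_lit 3), (nat_lit 1), (nat_lit 0), (nat_lit 3), (nat_lit 4)],
  [(nat_lit 1), (nat_lit 3), (nat_lit 1), (nat_lit 4), (nat_lit 2), (nat_lit 4)],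
  [(nat_lit 1), (nat_lit 4), (nat_lit 2), (nat_lit 0), (nat_lit 1), (nat_lit 4)],
  [(nat_lit 1), (nat_lit 4), (nat_lit 2), (nat_lit 0), (nat_lit 3), (nat_lit 4)],
  [(nat_lit 1), (nat_lit 4), (nat_lit 2), (nat_lit 1), (nat_lit 0), (nat_lit 4)],
  [(nat_lit 1), (nat_lit 4), (nat_lit 2), (nat_lit 1), (nat_lit 3), (nat_lit 4)],
  [(nat_lit 2), (nat_lit 0), (nat_lit 1), (nat_lit 4), (nat_lit 2), (nat_lit 4)],
  [(nat_lit 2), (nat_lit 0), (nat_lit 3), (nat_lit 1), (nat_lit 4), (nat_lit 2)],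
  [(nat_lit 2), (nat_lit 0), (nat_lit 3), (nat_lit 4), (nat_lit 2), (nat_lit 1)],
  [(nat_lit 2), (nat_lit 0), (nat_lit 3), (nat_lit 4), (nat_lit 2), (nat_lit 4)],
  [(nat_lit 2), (nat_lit 1), (nat_lit 0), (nat_lit 3), (nat_lit 4), (nat_lit 2)],
  [(nat_lit 2), (nat_lit 1), (nat_lit 0), (nat_lit 4), (nat_lit 2), (nat_lit 4)],
  [(nat_lit 2), (nat_lit 1), (nat_lit 3), (nat_lit 0), (nat_lit 4), (nat_lit 2)],
  [(nat_lit 2), (nat_lit 1), (nat_lit 3), (nat_lit 1), (nat_lit 4), (nat_lit 2)],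
  [(nat_lit 2), (nat_lit 1), (nat_lit 3), (nat_lit 4), (nat_lit 2), (nat_lit 4)],
  [(nat_lit 2), (nat_lit 3), (nat_lit 0), (nat_lit 4), (nat_lit 2), (nat_lit 1)],
  [(nat_lit 2), (nat_lit 3), (nat_lit 0), (nat_lit 4), (nat_lit 2), (nat_lit 4)],
  [(nat_lit 2), (nat_lit 3), (nat_lit 1), (nat_lit 4), (nat_lit 2), (nat_lit 0)],
  [(nat_lit 2), (nat_lit 3), (nat_lit 1), (nat_lit 4), (nat_lit 2), (nat_lit 1)],
  [(nat_lit 2), (nat_lit 3), (nat_lit 1), (nat_lit 4), (nat_lit 2), (nat_lit 4)],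
  [(nat_lit 2), (nat_lit 3), (nat_lit 4), (nat_lit 2), (nat_lit 0), (nat_lit 4)],
  [(nat_lit 2), (nat_lit 3), (nat_lit 4), (nat_lit 2), (nat_lit 1), (nat_lit 4)],
  [(nat_lit 3), (nat_lit 0), (nat_lit 4), (nat_lit 2), (nat_lit 1), (nat_lit 4)],
  [(nat_lit 3), (nat_lit 1), (nat_lit 0), (nat_lit 4), (nat_lit 2), (nat_lit 4)],
  [(nat_lit 3), (nat_lit 1), (nat_lit 4), (nat_lit 2), (nat_lit 0), (nat_lit 4)],
  [(nat_lit 3), (nat_lit 1), (nat_lit 4), (nat_lit 2), (nat_lit 1), (nat_lit 4)],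
  [(nat_lit 4), (nat_lit 2), (nat_lit 0), (nat_lit 3), (nat_lit 1), (nat_lit 4)],
  [(nat_lit 4), (nat_lit 2), (nat_lit 1), (nat_lit 0), (nat_lit 3), (nat_lit 4)],
  [(nat_lit 4), (nat_lit 2), (nat_lit 1), (nat_lit 3), (nat_lit 0), (nat_lit 4)],
  [(nat_lit 4), (nat_lit 2), (nat_lit 1), (nat_lit 3), (nat_lit 1), (nat_lit 4)],
  [(nat_lit 0), (nat_lit 0), (nat_lit 0), (nat_lit 2), (nat_lit 0), (nat_lit 4), (nat_lit 2)],
  [(nat_lit 0), (nat_lit 0), (nat_lit 0), (nat_lit 2), (nat_lit 1), (nat_lit 4), (nat_lit 2)],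
  [(nat_lit 0), (nat_lit 0), (nat_lit 0), (nat_lit 2), (nat_lit 4), (nat_lit 2), (nat_lit 4)],
  [(nat_lit 0), (nat_lit 0), (nat_lit 0), (nat_lit 4), (nat_lit 2), (nat_lit 0), (nat_lit 4)],
  [(nat_lit 0), (nat_lit 0), (nat_lit 0), (nat_lit 4), (nat_lit 2), (nat_lit 1), (nat_lit 4)],
  [(nat_lit 0), (nat_lit 0), (nat_lit 1), (nat_lit 2), (nat_lit 0), (nat_lit 4), (nat_lit 2)],
  [(nat_lit 0), (nat_lit 0), (nat_lit 1), (nat_lit 2), (nat_lit 1), (nat_lit 4), (nat_lit 2)],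
  [(nat_lit 0), (nat_lit 0), (nat_lit 1), (nat_lit 2), (nat_lit 4), (nat_lit 2), (nat_lit 4)],
  [(nat_lit 0), (nat_lit 0), (nat_lit 1), (nat_lit 4), (nat_lit 2), (nat_lit 0), (nat_lit 4)],
  [(nat_lit 0), (nat_lit 0), (nat_lit 1), (nat_lit 4), (nat_lit 2), (nat_lit 1), (nat_lit 4)],
  [(nat_lit 0), (nat_lit 0), (nat_lit 2), (nat_lit 0), (nat_lit 4), (nat_lit 2), (nat_lit 4)],
  [(nat_lit 0), (nat_lit 0), (nat_lit 2), (nat_lit 1), (nat_lit 4), (nat_lit 2), (nat_lit 4)],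
  [(nat_lit 0), (nat_lit 0), (nat_lit 2), (nat_lit 3), (nat_lit 4), (nat_lit 2), (nat_lit 4)],
  [(nat_lit 0), (nat_lit 1), (nat_lit 2), (nat_lit 0), (nat_lit 1), (nat_lit 4), (nat_lit 2)],
  [(nat_lit 0), (nat_lit 1), (nat_lit 2), (nat_lit 0), (nat_lit 4), (nat_lit 2), (nat_lit 4)],
  [(nat_lit 0), (nat_lit 1), (nat_lit 2), (nat_lit 1), (nat_lit 0), (nat_lit 4), (nat_lit 2)],
  [(nat_lit 0), (nat_lit 1), (nat_lit 2), (nat_lit 1), (nat_lit 4), (nat_lit 2), (nat_lit 4)],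
  [(nat_lit 0), (nat_lit 1), (nat_lit 4), (nat_lit 2), (nat_lit 0), (nat_lit 1), (nat_lit 4)],
  [(nat_lit 0), (nat_lit 1), (nat_lit 4), (nat_lit 2), (nat_lit 1), (nat_lit 0), (nat_lit 4)],
  [(nat_lit 0), (nat_lit 2), (nat_lit 0), (nat_lit 1), (nat_lit 4), (nat_lit 2), (nat_lit 4)],
  [(nat_lit 0), (nat_lit 2), (nat_lit 0), (nat_lit 3), (nat_lit 4), (nat_lit 2), (nat_lit 4)],
  [(nat_lit 0), (nat_lit 2), (nat_lit 1), (nat_lit 0), (nat_lit 4), (nat_lit 2), (nat_lit 4)],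
  [(nat_lit 0), (nat_lit 2), (nat_lit 1), (nat_lit 3), (nat_lit 1), (nat_lit 4), (nat_lit 2)],
  [(nat_lit 0), (nat_lit 2), (nat_lit 1), (nat_lit 3), (nat_lit 4), (nat_lit 2), (nat_lit 4)],
  [(nat_lit 0), (nat_lit 2), (nat_lit 3), (nat_lit 1), (nat_lit 4), (nat_lit 2), (nat_lit 1)],
  [(nat_lit 0), (nat_lit 2), (nat_lit 3), (nat_lit 1), (nat_lit 4), (nat_lit 2), (nat_lit 4)],
  [(nat_lit 0), (nat_lit 2), (nat_lit 3), (nat_lit 4), (nat_lit 2), (nat_lit 0), (nat_lit 4)],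
  [(nat_lit 0), (nat_lit 2), (nat_lit 3), (nat_lit 4), (nat_lit 2), (nat_lit 1), (nat_lit 4)],
  [(nat_lit 0), (nat_lit 3), (nat_lit 1), (nat_lit 4), (nat_lit 2), (nat_lit 1), (nat_lit 4)],
  [(nat_lit 0), (nat_lit 4), (nat_lit 2), (nat_lit 1), (nat_lit 3), (nat_lit 1), (nat_lit 4)],
  [(nat_lit 1), (nat_lit 0), (nat_lit 2), (nat_lit 0), (nat_lit 4), (nat_lit 2), (nat_lit 4)],
  [(nat_lit 1), (nat_lit 0), (nat_lit 2), (nat_lit 1), (nat_lit 3), (nat_lit 4), (nat_lit 2)],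
  [(nat_lit 1), (nat_lit 0), (nat_lit 2), (nat_lit 1), (nat_lit 4), (nat_lit 2), (nat_lit 4)],
  [(nat_lit 1), (nat_lit 0), (nat_lit 2), (nat_lit 3), (nat_lit 4), (nat_lit 2), (nat_lit 1)],
  [(nat_lit 1), (nat_lit 0), (nat_lit 2), (nat_lit 3), (nat_lit 4), (nat_lit 2), (nat_lit 4)],
  [(nat_lit 1), (nat_lit 0), (nat_lit 3), (nat_lit 1), (nat_lit 4), (nat_lit 2), (nat_lit 4)],
  [(nat_lit 1), (nat_lit 0), (nat_lit 4), (nat_lit 2), (nat_lit 1), (nat_lit 3), (nat_lit 4)],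
  [(nat_lit 1), (nat_lit 2), (nat_lit 0), (nat_lit 1), (nat_lit 4), (nat_lit 2), (nat_lit 4)],
  [(nat_lit 1), (nat_lit 2), (nat_lit 0), (nat_lit 3), (nat_lit 4), (nat_lit 2), (nat_lit 4)],
  [(nat_lit 1), (nat_lit 2), (nat_lit 1), (nat_lit 0), (nat_lit 4), (nat_lit 2), (nat_lit 4)],
  [(nat_lit 1), (nat_lit 2), (nat_lit 1), (nat_lit 3), (nat_lit 4), (nat_lit 2), (nat_lit 4)],
  [(nat_lit 1), (nat_lit 2), (nat_lit 3), (nat_lit 4), (nat_lit 2), (nat_lit 0), (nat_lit 4)],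
  [(nat_lit 1), (nat_lit 2), (nat_lit 3), (nat_lit 4), (nat_lit 2), (nat_lit 1), (nat_lit 4)],
  [(nat_lit 2), (nat_lit 0), (nat_lit 3), (nat_lit 1), (nat_lit 4), (nat_lit 2), (nat_lit 4)],
  [(nat_lit 2), (nat_lit 0), (nat_lit 3), (nat_lit 4), (nat_lit 2), (nat_lit 1), (nat_lit 4)],
  [(nat_lit 2), (nat_lit 1), (nat_lit 0), (nat_lit 3), (nat_lit 4), (nat_lit 2), (nat_lit 4)],
  [(nat_lit 2), (nat_lit 1), (nat_lit 3), (nat_lit 0), (nat_lit 4), (nat_lit 2), (nat_lit 4)],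
  [(nat_lit 2), (nat_lit 1), (nat_lit 3), (nat_lit 1), (nat_lit 4), (nat_lit 2), (nat_lit 4)],
  [(nat_lit 2), (nat_lit 3), (nat_lit 0), (nat_lit 4), (nat_lit 2), (nat_lit 1), (nat_lit 4)],
  [(nat_lit 2), (nat_lit 3), (nat_lit 1), (nat_lit 4), (nat_lit 2), (nat_lit 0), (nat_lit 4)],
  [(nat_lit 2), (nat_lit 3), (nat_lit 1), (nat_lit 4), (nat_lit 2), (nat_lit 1), (nat_lit 4)],
  [(nat_lit 0), (nat_lit 0), (nat_lit 0), (nat_lit 2), (nat_lit 0), (nat_lit 4), (nat_lit 2), (nat_lit 4)],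
  [(nat_lit 0), (nat_lit 0), (nat_lit 0), (nat_lit 2), (nat_lit 1), (nat_lit 4), (nat_lit 2), (nat_lit 4)],
  [(nat_lit 0), (nat_lit 0), (nat_lit 1), (nat_lit 2), (nat_lit 0), (nat_lit 4), (nat_lit 2), (nat_lit 4)],
  [(nat_lit 0), (nat_lit 0), (nat_lit 1), (nat_lit 2), (nat_lit 1), (nat_lit 4), (nat_lit 2), (nat_lit 4)],
  [(nat_lit 0), (nat_lit 1), (nat_lit 2), (nat_lit 0), (nat_lit 1), (nat_lit 4), (nat_lit 2), (nat_lit 4)],
  [(nat_lit 0), (nat_lit 1), (nat_lit 2), (nat_lit 1), (nat_lit 0), (nat_lit 4), (nat_lit 2), (nat_lit 4)],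
  [(nat_lit 0), (nat_lit 2), (nat_lit 1), (nat_lit 3), (nat_lit 1), (nat_lit 4), (nat_lit 2), (nat_lit 4)],
  [(nat_lit 0), (nat_lit 2), (nat_lit 3), (nat_lit 1), (nat_lit 4), (nat_lit 2), (nat_lit 1), (nat_lit 4)],
  [(nat_lit 1), (nat_lit 0), (nat_lit 2), (nat_lit 1), (nat_lit 3), (nat_lit 4), (nat_lit 2), (nat_lit 4)],
  [(nat_lit 1), (nat_lit 0), (nat_lit 2), (nat_lit 3), (nat_lit 4), (nat_lit 2), (nat_lit 1), (nat_lit 4)]]
noncomputable def SQ_lT_h (c : ℕ) : ℕ := Nat.mod c (nat_lit 25386)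
theorem SQ_lT_E {G : Type*} [Group G] {R : ℕ → G → Prop} {p o t a b w r e x q c s u v f : G} {H : Subgroup G}
    (M : Mdx SP_o SQ_cs R [p, o, t, a, a⁻¹, b, b⁻¹, w, r, e, e⁻¹, x, x⁻¹, q, q⁻¹, c, s, u, v, f] H) :
    EnumS R SQ_lT (sp [q, f, c, r, u]) :=
  enumS_sp M.μ.1 (M.reps.tms M.μ.1 [(.v (nat_lit 13)), (.v (nat_lit 19)), (.v (nat_lit 15)), (.v (nat_lit 8)), (.v (nat_lit 17))] (cs' := [(nat_lit 0x66271cb877a156226db6d1cc84aab093c20), (nat_lit 0xa988984ac27ecf3b8da556168d45d466420), (nat_lit 0x7eab86433275236dcd175a92d31c8510c20), (nat_lit 0xae1fabcb709d974cb9ac8a928398a418820), (nat_lit 0xdea989dab9bca2f8380c5a921398a21910d)]) (by decide +kernel))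
    (Ws := SQ_lT_W) (by decide +kernel) (by decide +kernel)
theorem SQ_lT_c {G : Type*} [Group G] {R : ℕ → G → Prop} {p o t a b w r e x q c s u v f : G} {H : Subgroup G}
    (M : Mdx SP_o SQ_cs R [p, o, t, a, a⁻¹, b, b⁻¹, w, r, e, e⁻¹, x, x⁻¹, q, q⁻¹, c, s, u, v, f] H) :
    #(sp [q, f, c, r, u]) = 512 :=
  (SQ_lT_E M).card M.μ (h := SQ_lT_h) (by decide +kernel)
noncomputable def SQ_lX : List ℕ := [(nat_lit 0xdeb38bdab49ca307b9ac5a928398a418820), (nat_lit 0x66271cb877a156226db6d1cc84aab093c20), (nat_lit 0xa988984ac27ecf3b8da556168d45d466420), (nat_lit 0x7eab86433275236dcd175a92d31c8510c20), (nat_lit 0xdea989dab9bca2f8380c5a921398a21910d), (nat_lit 0xdc72bbdab49cb507b90cc254d31ca418801), (nat_lit 0xb468b9ee59bd74f831aec254831c6229020), (nat_lit 0x2a5e720d9013959a55b236a285e2d3ddc20), (nat_lit 0xbe1d1acc4c911632bd10d18ed4ab36a6c20), (nat_lit 0x662f1a3873c956416c16d1cc14aaaf9410d),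 (nat_lit 0x62e7acb877a170226d16898ed526b093c01), (nat_lit 0x1aa06115cf23134cc9b53c748c2f77b4c20), (nat_lit 0xc9ca9b5203dbcce609045616dd4672bd420), (nat_lit 0xa98497cac486cf798c0556161d45d96510d), (nat_lit 0xa9c8a84ac27ecd3b8d054af0d8e9d466401), (nat_lit 0x26071b0a65ddd6e65119d1ccd526157c820), (nat_lit 0xb9ac92cc9b188f2abd105616d8ea8ecb020), (nat_lit 0x86ab863e9276636ddc335a92031c4520d0d), (nat_lit 0x7c6ab6433275356dcdb7c25483988510c01), (nat_lit 0x7ea58743356523bb4c175a92131c83115a8), (nat_lit 0xdc68b9dab9bcb4f8382cc254031ca2191a8), (nat_lit 0x72efaa30b3c8f04159bb898e85264fac020), (nat_lit 0x91c4a7d764858d7995a34af088e99975020), (nat_lit 0x8464b73e956675bb5d13c254d3984321420), (nat_lit 0xb472bbee549d7507b00ec254131c642890d), (nat_lit 0xb6a989ee59bd62f8310e5a92d3986229001), (nat_lit 0x2276628af61cd55965143ea2d5e20e7b020), (nat_lit 0x2a60710d8f23954cd41236a215e2d7dcd0d),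 (nat_lit 0x2a9e620d9013939a55123c74dc2ed3ddc01), (nat_lit 0xcc76b1d1f62c352a9102c292d31e6ebb020), (nat_lit 0x82467b3f25dd14c75d133474d5e09215420), (nat_lit 0x9e1d1adc8c909632c02fd18e04aa96ced0d), (nat_lit 0xbaddaacc4c913032bdb089cc852736a6c01), (nat_lit 0xbe19194c4ea91651bc10d18e14ab3ba59a8), (nat_lit 0x62efaa3873c970416c36898e0526af941a8), (nat_lit 0x12ac71927b2dd32ad1193474dc2dec83820), (nat_lit 0x1a9e6215d013139a48153c741c2f73b5d0d), (nat_lit 0x1a607115cf23154cc91536a2d5e377b4c01), (nat_lit 0x9a6a675c526115bb3d103c74dc2e85c8c20), (nat_lit 0x269cb90a6cade232e514c254d31dfb85820), (nat_lit 0xa1ca9b65e3dc0ce6102256160d46f29d50d), (nat_lit 0xc98aab5203dbcee609a44af088ea72bd401), (nat_lit 0xc9c69dd205b3ccc7080456161d4675bc9a8), (nat_lit 0xa9c4a7cac486cd798c254af008e9d9651a8), (nat_lit 0xa2587965eeac1432890436a2dc2e76bec20), (nat_lit 0x2e05180dc47b173bc9b5d18e8526d9dd020),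 (nat_lit 0x16071b12e5dcd6e66434d1cc0525f58490d), (nat_lit 0x22c7ab0a65ddf0e651b9898e84aa157c801), (nat_lit 0xca9c6ad20c93d25191023c74d5e2fb9d820), (nat_lit 0x61e09238af10cd4cedb6561688ea53adc20), (nat_lit 0x99ac92dc5b190f2ac02f561608eb2ea310d), (nat_lit 0xb9eca2cc9b188d2abdb04af08d468ecb001), (nat_lit 0xb6b38bee549d6307b02e5a92039864289a8), (nat_lit 0x846ab63e9276756ddc13c25413984520da8), (nat_lit 0x260b1d8a63b5d6c75019d1cc1526127d5a8), (nat_lit 0xb9b691cc96288f593c10561618ea8ccb9a8), (nat_lit 0x86a5873e956663bb5db35a92831c4321401), (nat_lit 0x7c64b743356535bb4c37c2540398831150d), (nat_lit 0x9ad9a95c8ea8b051c10f89ccd5269bcd820), (nat_lit 0x72e7acb0b7a0f022581b898e152650abd0d), (nat_lit 0x762f1a30b3c8d641591bd1ccd4aa4fac001), (nat_lit 0xa186ade5e5b40ec711024af0d8eaf59c820), (nat_lit 0x91c8a857627d8d3b94034af018e9947650d), (nat_lit 0x918497d764858f7995035616dd459975001),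 (nat_lit 0x12cbad92e3b4f0c76514898ed4a9f285420), (nat_lit 0x99f6a1dc56290d59410f4af0dd472ca3820), (nat_lit 0x8198aabf2e950e32cd174e16dd445b25820), (nat_lit 0xa2eb17661263f16d9102d18ed52663b9420), (nat_lit 0x12766292761dd55950393ea205e1ee8310d), (nat_lit 0x22b6728af61cd35965b434748c2e0e7b001), (nat_lit 0x226c618afb2cd52ae4143ea215e20c7b9a8), (nat_lit 0x2aa0610d8f23934cd4323c740c2ed7dcda8), (nat_lit 0x21eaa60af274cdbb51194e16d8e9e381420), (nat_lit 0xac5eb14b7025b54c95a3c2928399d365c20), (nat_lit 0xa476b1e6162bf52a8824c292031eee9b10d), (nat_lit 0xceb781d1f62c232a91a25a54839a6ebb001), (nat_lit 0x11a497127565cf6de51452f0dd460578c20), (nat_lit 0xb244686ea47c9579b1ae3c7485e0b41e420), (nat_lit 0x7a467b4285de54c74c37347405e0522550d), (nat_lit 0x82866b3f25dd12c75db33ea28c2c9215401), (nat_lit 0x76271cb0b7a0d622583bd1cc04aa50abda8), (nat_lit 0x9addaadc8c90b032c00f89cc152696ceda8),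 (nat_lit 0xcc6cb2d1fb1c35591002c292131e6cbb9a8), (nat_lit 0x824a7dbf23b514e65c13347415e095149a8), (nat_lit 0x9e19195c8ea89651c1afd18e84aa9bcd801), (nat_lit 0xbad9a94c4ea93051bc3089cc05273ba590d), (nat_lit 0x79dc99428cae4c51dd1352f0d8e89616c20), (nat_lit 0xce25a651f57417bb090489ccd4aae598c20), (nat_lit 0x22ac718afb2cd32ae43434740c2e0c7b90d), (nat_lit 0x126c61927b2dd52ad1b93ea285e1ec83801), (nat_lit 0x12b67292761dd359501934741c2dee831a8), (nat_lit 0x1a5e7215d013159a483536a205e373b5da8), (nat_lit 0x7aed11c33b2d31595d13d1ccd4a84e23020), (nat_lit 0x727279b074b954f86db634748c2e44a8820), (nat_lit 0xba6a674c926095bb402f3c740c2f25a0d0d), (nat_lit 0x9aaa775c526113bb3db036a285e285c8c01), (nat_lit 0x8637a2be961e572acd17898ed5248c13820), (nat_lit 0x2ea6ba0dd7cb222255b2c254839b6fb4020), (nat_lit 0x169cb912ecace232d039c254031e1b7d90d), (nat_lit 0x245d890a6cadf432e5b45a928399fb85801),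 (nat_lit 0x91889857627d8f3b942356160d4594765a8), (nat_lit 0xa18aab65e3dc0ee610024af018eaf29d5a8), (nat_lit 0x9a64665c5571156dbc103c741c2e83c95a8), (nat_lit 0x2698ba8a6e95e251e414c254131df686da8), (nat_lit 0xa1c69de5e5b40cc711a256168d46f59c801), (nat_lit 0xc986add205b3cec708244af008ea75bc90d), (nat_lit 0x926e6a5773cd94220da53ea28c2dd063c20), (nat_lit 0xca5879520eabd432902236a20c2ef69ed0d), (nat_lit 0xa2986965eeac123289a43c7485e276bec01), (nat_lit 0x2e09178dc2831779c815d18e1526d4de50d), (nat_lit 0x2ac5a80dc47b313bc91589ccd4aad9dd001), (nat_lit 0x1e051815847b973bd432d18e052779b51a8), (nat_lit 0x12c7ab12e5dcf0e66414898e14a9f5849a8), (nat_lit 0xaaa67ccad7a6d24115a3347485e18f74020), (nat_lit 0xa29c6ae5ec94125188243c7405e27bbd90d), (nat_lit 0xca5c7ad20c93d45191a236a28c2efb9d801), (nat_lit 0x61de9138b020cd9a6c16561618ea57acd0d), (nat_lit 0x61a0a238af10cf4ced164af0dd4653adc01),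 (nat_lit 0x71e092306f114d4cd83b561608eab395da8), (nat_lit 0x99eca2dc5b190d2ac00f4af01d472ea31a8), (nat_lit 0xa25c7ae5ec941451880436a21c2e7bbd9a8), (nat_lit 0x160b1d92e3b4d6c765b4d1cc8525f285401), (nat_lit 0x22cbad8a63b5f0c75039898e04aa127d50d), (nat_lit 0xca9869520eabd23290023c7415e2f69eda8), (nat_lit 0x99b691dc56290f5941af561688eb2ca3801), (nat_lit 0xb9f6a1cc96288d593c304af00d468ccb90d), (nat_lit 0xa6ad82e61b1be35909045a54d39aec9b820), (nat_lit 0x7a8a6dc283b652e64d173ea2dc2c5524820), (nat_lit 0xbaa4764c9570936dc10f36a2d5e323a1420), (nat_lit 0x14598a92ee94f451d1195a92d39a167ec20), (nat_lit 0x1ac9a7958283b179d5b289cc84ab74b6420), (nat_lit 0x719ea13070214f9a59bb4af08d46b794c20), (nat_lit 0x9c4b8b5c83d8b4c73d105a54d31f35a4820), (nat_lit 0xb1eeaceeb3a48c2239ac4e168d446f2c020), (nat_lit 0x7998aac28e964e32dc334e160d449b1590d), (nat_lit 0x81d89abf2e950c32cdb752f088e85b25801),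 (nat_lit 0xbe86bdcc45b122e6410fc292d39a92cd420), (nat_lit 0x92f319d6d4bef10795a3d1cc8525c261020), (nat_lit 0xcaeb1751f264316d8824d18e0526e39950d), (nat_lit 0xa62ba7661263d76d91a289cc84aa63b9401), (nat_lit 0x819ca93f2cad0e51cc174e161d445626da8), (nat_lit 0xa2e516661573f1bb1002d18e152665b8da8), (nat_lit 0x29b2ab8d949b8ef849b54e1688eb62b1020), (nat_lit 0x11eaa6127275cdbb64344e1608ea037950d), (nat_lit 0x21aa960af274cfbb51b952f08d45e381401), (nat_lit 0xac60b24b6f15b59a1403c2921399d764d0d), (nat_lit 0xae9f814b7025a34c95035a54d31dd365c01), (nat_lit 0x945eb156d026f54c8c25c29203999375da8), (nat_lit 0xa6b781e6162be32a88045a54139aee9b1a8), (nat_lit 0x19e89995d9bb0d07d5b252f08d46c4d8820), (nat_lit 0x21a4970af564cf6dd03952f00d45e580d0d), (nat_lit 0x11e4a7127565cd6de5b44e1688ea0578c01), (nat_lit 0xb24867eea284953bb00e3c7415e0b91d10d), (nat_lit 0xb284786ea47c9379b10e36a2dc2cb41e401),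 (nat_lit 0xda44685a447d5579b82c3c7405e0742e5a8), (nat_lit 0x7a866b4285de52c74c173ea21c2c52255a8), (nat_lit 0x21e4a70af564cd6dd0194e1618e9e580da8), (nat_lit 0xa46cb2e61b1bf55909a4c292831eec9b801), (nat_lit 0xcead82d1fb1c235910225a54039a6cbb90d), (nat_lit 0x11aa96127275cfbb641452f01d4603795a8), (nat_lit 0x7a4a7dc283b654e64db7347485e05524801), (nat_lit 0x828a6dbf23b512e65c333ea20c2c951490d), (nat_lit 0xd9a69a5a57cd4e4131ae52f088e8b01bc20), (nat_lit 0x81dc993f2cad0c51cc3752f008e85626d0d), (nat_lit 0x799ca9428cae4e51ddb34e168d449616c01), (nat_lit 0xae29abcb799d96f80da5898e84a98470820), (nat_lit 0xa625a6661573d7bb102289cc04aa65b8d0d), (nat_lit 0xcae51651f57431bb09a4d18e8526e598c01), (nat_lit 0x79d89ac28e964c32dc1352f018e89b159a8), (nat_lit 0xce2ba751f264176d880489cc14aae3995a8), (nat_lit 0xdae1115aaf24b19a31aed18e84a8732dc20), (nat_lit 0x82ed11be9b2e71594c37d1cc04a88e1310d),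 (nat_lit 0x7e2da1c33b2d17595db3898e85244e23001), (nat_lit 0x72687bb079995507ec1634741c2e42a910d), (nat_lit 0x72b269b074b952f86d163ea2d5e244a8801), (nat_lit 0x627279b8b4b8d4f8583b34740c2ea4909a8), (nat_lit 0xbaaa774c926093bb400f36a215e325a0da8), (nat_lit 0xb61fa26e5015574cb9ac89cc8524b71cc20), (nat_lit 0x7e37a2c3361d172adc33898e05244c2390d), (nat_lit 0x82f712be961e712acdb7d1cc84a88c13801), (nat_lit 0x2eaebc8dd3a322415412c254139b70b3d0d), (nat_lit 0x2c678a0dd7cb342255125a92d31f6fb4001), (nat_lit 0x1ea6ba1597cba2224835c254039acfdc1a8), (nat_lit 0x145d8912ecacf432d0195a92139a1b7d9a8), (nat_lit 0x7af712c3361d312adc13d1cc14a84c239a8), (nat_lit 0xba64664c9570956dc1af3c748c2f23a1401), (nat_lit 0x9aa4765c5571136dbc3036a205e283c950d), (nat_lit 0x862da1be9b2e57594c17898e15248e131a8), (nat_lit 0x1698ba92ee94e251d1b9c254831e167ec01), (nat_lit 0x24598a8a6e95f451e4345a920399f686d0d),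 (nat_lit 0x92666cd777a594410c053ea21c2dcf6410d), (nat_lit 0x92ae7a5773cd92220d053474d5e1d063c01), (nat_lit 0xaa6e6a4ad3ced42214233ea20c2d9073da8), (nat_lit 0x2ac9a78dc2833179c83589cc04aad4de5a8), (nat_lit 0x1e09179582839779d512d18ed52774b6401), (nat_lit 0x1ac5a815847bb13bd41289cc14ab79b510d), (nat_lit 0xaaae7a4ad3ced2221403347415e19073d0d), (nat_lit 0xaa666ccad7a6d44115033ea2dc2d8f74001), (nat_lit 0x92a67cd777a592410c25347405e1cf641a8), (nat_lit 0x619ea138b020cf9a6c364af00d4657acda8), (nat_lit 0x71de913070214d9a591b5616d8eab794c01), (nat_lit 0x71a0a2306f114f4cd81b4af01d46b395d0d), (nat_lit 0x96a18256cf16e39a0da55a54831d9774c20), (nat_lit 0xda8877da4285533bb9ac36a28c2c792d020), (nat_lit 0x62a86bb8b998d307d9bb3ea285e2a291020), (nat_lit 0x1c6f8c9593a3b44149b55a92831ed0dbc20), (nat_lit 0x74498830a278f579edb65a54839ab995020), (nat_lit 0xbc4b8b4c43d934c7402f5a54031e95cc90d),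 (nat_lit 0x9e8abb5c83d8a2c73db0c292839b35a4801), (nat_lit 0xb1e6aa6eb7cc8c41380c4e161d44702bd0d), (nat_lit 0xb1ae9ceeb3a48e22390c52f0d8e86f2c001), (nat_lit 0xd9eeacda53a54c22302e4e160d44af1c1a8), (nat_lit 0x6684b7b86481633bd9bbc292831e54ae420), (nat_lit 0x9e86bddc85b0a2e63c30c292039b32a550d), (nat_lit 0xbc478dcc45b134e641af5a54831e92cd401), (nat_lit 0x92e91bd6d99ef0f81403d1cc1525c46090d), (nat_lit 0x9633a9d6d4bed7079503898ed4a9c261001), (nat_lit 0xaaf319cb74bdb1078c25d1cc052582711a8), (nat_lit 0x9c478ddc85b0b4e63c105a54131f32a55a8), (nat_lit 0xbe8abb4c43d922c7400fc292139a95cc9a8), (nat_lit 0x29a8a98d99bb8f07c8154e1618eb64b090d), (nat_lit 0x29f29b8d949b8cf8491552f0dd4762b1001), (nat_lit 0x19b2ab95d49b0ef854324e1608eac2d91a8), (nat_lit 0xaea1824b6f15a39a14235a54031dd764da8), (nat_lit 0x9460b256cf16f59a0d05c292d3999774c01), (nat_lit 0x969f8156d026e34c8c055a54131d9375d0d),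 (nat_lit 0x19f29b95d49b0cf8541252f01d46c2d910d), (nat_lit 0x19a8a995d9bb0f07d5124e16d8eac4d8801), (nat_lit 0x29e8998d99bb8d07c83552f00d4764b09a8), (nat_lit 0xb28877eea284933bb02e36a20c2cb91d1a8), (nat_lit 0xda4867da4285553bb90c3c74d5e0792d001), (nat_lit 0xda84785a447d5379b80c36a21c2c742e50d), (nat_lit 0xd9ae9cda53a54e22300e52f018e8af1c10d), (nat_lit 0xd9e6aa5a57cd4c41310e4e16dd44b01bc01), (nat_lit 0xb1a69a6eb7cc8e41382c52f008e8702bda8), (nat_lit 0xae33a9cb74bd97078c05898e14a9827110d), (nat_lit 0xaae91bcb799db0f80d05d1ccd5258470801), (nat_lit 0x9629abd6d99ed6f81423898e04a9c4609a8), (nat_lit 0xdadf125ab014b14cb00ed18e14a8772cd0d), (nat_lit 0xde21a15aaf24979a310e89ccd524732dc01), (nat_lit 0xb2e1116e4f25719a382cd18e04a8b31dda8), (nat_lit 0x72a86bb079995307ec363ea205e242a91a8), (nat_lit 0x62687bb8b998d507d91b3474dc2ea291001), (nat_lit 0x62b269b8b4b8d2f8581b3ea215e2a49090d),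 (nat_lit 0xb621a16e4f25579a380c89cc1524b31dd0d), (nat_lit 0xb2df126e5015714cb90cd18ed4a8b71cc01), (nat_lit 0xde1fa25ab014974cb02e89cc0524772cda8), (nat_lit 0x2c6f8c8dd3a3344154325a92031f70b3da8), (nat_lit 0x1eaebc9593a3a2414915c254d39ad0dbc01), (nat_lit 0x1c678a1597cbb42248155a92131ecfdc10d), (nat_lit 0x744587b0a480f53bec165a54139ab49650d), (nat_lit 0x7688b830a278e379ed16c292d31eb995001), (nat_lit 0x6449883862797579d83b5a54039a59ad1a8), (nat_lit 0x6688b83862796379d81bc292131e59ad10d), (nat_lit 0x644587b86481753bd91b5a54d39a54ae401), (nat_lit 0x7684b7b0a480e33bec36c292031eb4965a8)]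
noncomputable def SQ_lX_W : List (List ℕ) := [[],
  [(nat_lit 0)],
  [(nat_lit 1)],
  [(nat_lit 2)],
  [(nat_lit 3)],
  [(nat_lit 4)],
  [(nat_lit 0), (nat_lit 0)],
  [(nat_lit 0), (nat_lit 1)],
  [(nat_lit 0), (nat_lit 2)],
  [(nat_lit 0), (nat_lit 3)],
  [(nat_lit 0), (nat_lit 4)],
  [(nat_lit 1), (nat_lit 0)],
  [(nat_lit 1), (nat_lit 2)],
  [(nat_lit 1), (nat_lit 3)],
  [(nat_lit 1), (nat_lit 4)],
  [(nat_lit 2), (nat_lit 0)],
  [(nat_lit 2), (nat_lit 1)],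
  [(nat_lit 2), (nat_lit 3)],
  [(nat_lit 2), (nat_lit 4)],
  [(nat_lit 3), (nat_lit 2)],
  [(nat_lit 3), (nat_lit 4)],
  [(nat_lit 0), (nat_lit 0), (nat_lit 0)],
  [(nat_lit 0), (nat_lit 0), (nat_lit 1)],
  [(nat_lit 0), (nat_lit 0), (nat_lit 2)],
  [(nat_lit 0), (nat_lit 0), (nat_lit 3)],
  [(nat_lit 0), (nat_lit 0), (nat_lit 4)],
  [(nat_lit 0), (nat_lit 1), (nat_lit 2)],
  [(nat_lit 0), (nat_lit 1), (nat_lit 3)],
  [(nat_lit 0), (nat_lit 1), (nat_lit 4)],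
  [(nat_lit 0), (nat_lit 2), (nat_lit 0)],
  [(nat_lit 0), (nat_lit 2), (nat_lit 1)],
  [(nat_lit 0), (nat_lit 2), (nat_lit 3)],
  [(nat_lit 0), (nat_lit 2), (nat_lit 4)],
  [(nat_lit 0), (nat_lit 3), (nat_lit 2)],
  [(nat_lit 0), (nat_lit 3), (nat_lit 4)],
  [(nat_lit 1), (nat_lit 0), (nat_lit 2)],
  [(nat_lit 1), (nat_lit 0), (nat_lit 3)],
  [(nat_lit 1), (nat_lit 0), (nat_lit 4)],
  [(nat_lit 1), (nat_lit 2), (nat_lit 0)],
  [(nat_lit 1), (nat_lit 2), (nat_lit 1)],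
  [(nat_lit 1), (nat_lit 2), (nat_lit 3)],
  [(nat_lit 1), (nat_lit 2), (nat_lit 4)],
  [(nat_lit 1), (nat_lit 3), (nat_lit 2)],
  [(nat_lit 1), (nat_lit 3), (nat_lit 4)],
  [(nat_lit 2), (nat_lit 0), (nat_lit 1)],
  [(nat_lit 2), (nat_lit 0), (nat_lit 2)],
  [(nat_lit 2), (nat_lit 0), (nat_lit 3)],
  [(nat_lit 2), (nat_lit 0), (nat_lit 4)],
  [(nat_lit 2), (nat_lit 1), (nat_lit 0)],
  [(nat_lit 2), (nat_lit 1), (nat_lit 2)],
  [(nat_lit 2), (nat_lit 1), (nat_lit 3)],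
  [(nat_lit 2), (nat_lit 1), (nat_lit 4)],
  [(nat_lit 2), (nat_lit 3), (nat_lit 2)],
  [(nat_lit 2), (nat_lit 3), (nat_lit 4)],
  [(nat_lit 3), (nat_lit 2), (nat_lit 0)],
  [(nat_lit 3), (nat_lit 2), (nat_lit 1)],
  [(nat_lit 3), (nat_lit 2), (nat_lit 3)],
  [(nat_lit 3), (nat_lit 2), (nat_lit 4)],
  [(nat_lit 0), (nat_lit 0), (nat_lit 0), (nat_lit 2)],
  [(nat_lit 0), (nat_lit 0), (nat_lit 0), (nat_lit 3)],
  [(nat_lit 0), (nat_lit 0), (nat_lit 0), (nat_lit 4)],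
  [(nat_lit 0), (nat_lit 0), (nat_lit 1), (nat_lit 2)],
  [(nat_lit 0), (nat_lit 0), (nat_lit 1), (nat_lit 3)],
  [(nat_lit 0), (nat_lit 0), (nat_lit 1), (nat_lit 4)],
  [(nat_lit 0), (nat_lit 0), (nat_lit 2), (nat_lit 0)],
  [(nat_lit 0), (nat_lit 0), (nat_lit 2), (nat_lit 1)],
  [(nat_lit 0), (nat_lit 1), (nat_lit 2), (nat_lit 0)],
  [(nat_lit 0), (nat_lit 1), (nat_lit 2), (nat_lit 1)],
  [(nat_lit 0), (nat_lit 1), (nat_lit 2), (nat_lit 3)],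
  [(nat_lit 0), (nat_lit 1), (nat_lit 2), (nat_lit 4)],
  [(nat_lit 0), (nat_lit 1), (nat_lit 3), (nat_lit 2)],
  [(nat_lit 0), (nat_lit 1), (nat_lit 3), (nat_lit 4)],
  [(nat_lit 0), (nat_lit 2), (nat_lit 0), (nat_lit 1)],
  [(nat_lit 0), (nat_lit 2), (nat_lit 0), (nat_lit 2)],
  [(nat_lit 0), (nat_lit 2), (nat_lit 0), (nat_lit 3)],
  [(nat_lit 0), (nat_lit 2), (nat_lit 0), (nat_lit 4)],
  [(nat_lit 0), (nat_lit 2), (nat_lit 1), (nat_lit 0)],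
  [(nat_lit 0), (nat_lit 2), (nat_lit 1), (nat_lit 2)],
  [(nat_lit 0), (nat_lit 2), (nat_lit 1), (nat_lit 3)],
  [(nat_lit 0), (nat_lit 2), (nat_lit 1), (nat_lit 4)],
  [(nat_lit 0), (nat_lit 2), (nat_lit 3), (nat_lit 2)],
  [(nat_lit 0), (nat_lit 2), (nat_lit 3), (nat_lit 4)],
  [(nat_lit 0), (nat_lit 3), (nat_lit 2), (nat_lit 0)],
  [(nat_lit 0), (nat_lit 3), (nat_lit 2), (nat_lit 1)],
  [(nat_lit 0), (nat_lit 3), (nat_lit 2), (nat_lit 3)],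
  [(nat_lit 0), (nat_lit 3), (nat_lit 2), (nat_lit 4)],
  [(nat_lit 1), (nat_lit 0), (nat_lit 2), (nat_lit 0)],
  [(nat_lit 1), (nat_lit 0), (nat_lit 2), (nat_lit 1)],
  [(nat_lit 1), (nat_lit 0), (nat_lit 2), (nat_lit 3)],
  [(nat_lit 1), (nat_lit 0), (nat_lit 2), (nat_lit 4)],
  [(nat_lit 1), (nat_lit 0), (nat_lit 3), (nat_lit 2)],
  [(nat_lit 1), (nat_lit 0), (nat_lit 3), (nat_lit 4)],
  [(nat_lit 1), (nat_lit 2), (nat_lit 0), (nat_lit 1)],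
  [(nat_lit 1), (nat_lit 2), (nat_lit 0), (nat_lit 2)],
  [(nat_lit 1), (nat_lit 2), (nat_lit 0), (nat_lit 3)],
  [(nat_lit 1), (nat_lit 2), (nat_lit 0), (nat_lit 4)],
  [(nat_lit 1), (nat_lit 2), (nat_lit 1), (nat_lit 0)],
  [(nat_lit 1), (nat_lit 2), (nat_lit 1), (nat_lit 2)],
  [(nat_lit 1), (nat_lit 2), (nat_lit 1), (nat_lit 3)],
  [(nat_lit 1), (nat_lit 2), (nat_lit 1), (nat_lit 4)],
  [(nat_lit 1), (nat_lit 2), (nat_lit 3), (nat_lit 2)],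
  [(nat_lit 1), (nat_lit 2), (nat_lit 3), (nat_lit 4)],
  [(nat_lit 1), (nat_lit 3), (nat_lit 2), (nat_lit 0)],
  [(nat_lit 1), (nat_lit 3), (nat_lit 2), (nat_lit 1)],
  [(nat_lit 1), (nat_lit 3), (nat_lit 2), (nat_lit 3)],
  [(nat_lit 1), (nat_lit 3), (nat_lit 2), (nat_lit 4)],
  [(nat_lit 2), (nat_lit 0), (nat_lit 1), (nat_lit 2)],
  [(nat_lit 2), (nat_lit 0), (nat_lit 1), (nat_lit 3)],
  [(nat_lit 2), (nat_lit 0), (nat_lit 1), (nat_lit 4)],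
  [(nat_lit 2), (nat_lit 0), (nat_lit 2), (nat_lit 3)],
  [(nat_lit 2), (nat_lit 0), (nat_lit 2), (nat_lit 4)],
  [(nat_lit 2), (nat_lit 0), (nat_lit 3), (nat_lit 2)],
  [(nat_lit 2), (nat_lit 0), (nat_lit 3), (nat_lit 4)],
  [(nat_lit 2), (nat_lit 1), (nat_lit 0), (nat_lit 2)],
  [(nat_lit 2), (nat_lit 1), (nat_lit 0), (nat_lit 3)],
  [(nat_lit 2), (nat_lit 1), (nat_lit 0), (nat_lit 4)],
  [(nat_lit 2), (nat_lit 1), (nat_lit 2), (nat_lit 3)],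
  [(nat_lit 2), (nat_lit 1), (nat_lit 2), (nat_lit 4)],
  [(nat_lit 2), (nat_lit 1), (nat_lit 3), (nat_lit 2)],
  [(nat_lit 2), (nat_lit 1), (nat_lit 3), (nat_lit 4)],
  [(nat_lit 3), (nat_lit 2), (nat_lit 0), (nat_lit 1)],
  [(nat_lit 3), (nat_lit 2), (nat_lit 0), (nat_lit 3)],
  [(nat_lit 3), (nat_lit 2), (nat_lit 0), (nat_lit 4)],
  [(nat_lit 3), (nat_lit 2), (nat_lit 1), (nat_lit 0)],
  [(nat_lit 3), (nat_lit 2), (nat_lit 1), (nat_lit 3)],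
  [(nat_lit 3), (nat_lit 2), (nat_lit 1), (nat_lit 4)],
  [(nat_lit 0), (nat_lit 0), (nat_lit 0), (nat_lit 2), (nat_lit 0)],
  [(nat_lit 0), (nat_lit 0), (nat_lit 0), (nat_lit 2), (nat_lit 1)],
  [(nat_lit 0), (nat_lit 0), (nat_lit 1), (nat_lit 2), (nat_lit 0)],
  [(nat_lit 0), (nat_lit 0), (nat_lit 1), (nat_lit 2), (nat_lit 1)],
  [(nat_lit 0), (nat_lit 0), (nat_lit 2), (nat_lit 0), (nat_lit 2)],
  [(nat_lit 0), (nat_lit 0), (nat_lit 2), (nat_lit 1), (nat_lit 2)],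
  [(nat_lit 0), (nat_lit 1), (nat_lit 2), (nat_lit 0), (nat_lit 1)],
  [(nat_lit 0), (nat_lit 1), (nat_lit 2), (nat_lit 0), (nat_lit 2)],
  [(nat_lit 0), (nat_lit 1), (nat_lit 2), (nat_lit 0), (nat_lit 3)],
  [(nat_lit 0), (nat_lit 1), (nat_lit 2), (nat_lit 0), (nat_lit 4)],
  [(nat_lit 0), (nat_lit 1), (nat_lit 2), (nat_lit 1), (nat_lit 0)],
  [(nat_lit 0), (nat_lit 1), (nat_lit 2), (nat_lit 1), (nat_lit 2)],
  [(nat_lit 0), (nat_lit 1), (nat_lit 2), (nat_lit 1), (nat_lit 3)],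
  [(nat_lit 0), (nat_lit 1), (nat_lit 2), (nat_lit 1), (nat_lit 4)],
  [(nat_lit 0), (nat_lit 1), (nat_lit 3), (nat_lit 2), (nat_lit 0)],
  [(nat_lit 0), (nat_lit 1), (nat_lit 3), (nat_lit 2), (nat_lit 1)],
  [(nat_lit 0), (nat_lit 2), (nat_lit 0), (nat_lit 1), (nat_lit 2)],
  [(nat_lit 0), (nat_lit 2), (nat_lit 0), (nat_lit 1), (nat_lit 3)],
  [(nat_lit 0), (nat_lit 2), (nat_lit 0), (nat_lit 1), (nat_lit 4)],
  [(nat_lit 0), (nat_lit 2), (nat_lit 0), (nat_lit 2), (nat_lit 3)],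
  [(nat_lit 0), (nat_lit 2), (nat_lit 0), (nat_lit 2), (nat_lit 4)],
  [(nat_lit 0), (nat_lit 2), (nat_lit 0), (nat_lit 3), (nat_lit 2)],
  [(nat_lit 0), (nat_lit 2), (nat_lit 0), (nat_lit 3), (nat_lit 4)],
  [(nat_lit 0), (nat_lit 2), (nat_lit 1), (nat_lit 0), (nat_lit 2)],
  [(nat_lit 0), (nat_lit 2), (nat_lit 1), (nat_lit 0), (nat_lit 3)],
  [(nat_lit 0), (nat_lit 2), (nat_lit 1), (nat_lit 0), (nat_lit 4)],
  [(nat_lit 0), (nat_lit 2), (nat_lit 1), (nat_lit 2), (nat_lit 3)],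
  [(nat_lit 0), (nat_lit 2), (nat_lit 1), (nat_lit 2), (nat_lit 4)],
  [(nat_lit 0), (nat_lit 2), (nat_lit 1), (nat_lit 3), (nat_lit 2)],
  [(nat_lit 0), (nat_lit 2), (nat_lit 1), (nat_lit 3), (nat_lit 4)],
  [(nat_lit 0), (nat_lit 3), (nat_lit 2), (nat_lit 0), (nat_lit 1)],
  [(nat_lit 0), (nat_lit 3), (nat_lit 2), (nat_lit 0), (nat_lit 3)],
  [(nat_lit 0), (nat_lit 3), (nat_lit 2), (nat_lit 0), (nat_lit 4)],
  [(nat_lit 0), (nat_lit 3), (nat_lit 2), (nat_lit 1), (nat_lit 0)],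
  [(nat_lit 0), (nat_lit 3), (nat_lit 2), (nat_lit 1), (nat_lit 3)],
  [(nat_lit 0), (nat_lit 3), (nat_lit 2), (nat_lit 1), (nat_lit 4)],
  [(nat_lit 1), (nat_lit 0), (nat_lit 2), (nat_lit 0), (nat_lit 2)],
  [(nat_lit 1), (nat_lit 0), (nat_lit 2), (nat_lit 0), (nat_lit 3)],
  [(nat_lit 1), (nat_lit 0), (nat_lit 2), (nat_lit 0), (nat_lit 4)],
  [(nat_lit 1), (nat_lit 0), (nat_lit 2), (nat_lit 1), (nat_lit 2)],
  [(nat_lit 1), (nat_lit 0), (nat_lit 2), (nat_lit 1), (nat_lit 3)],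
  [(nat_lit 1), (nat_lit 0), (nat_lit 2), (nat_lit 1), (nat_lit 4)],
  [(nat_lit 1), (nat_lit 0), (nat_lit 3), (nat_lit 2), (nat_lit 0)],
  [(nat_lit 1), (nat_lit 0), (nat_lit 3), (nat_lit 2), (nat_lit 1)],
  [(nat_lit 1), (nat_lit 2), (nat_lit 0), (nat_lit 1), (nat_lit 2)],
  [(nat_lit 1), (nat_lit 2), (nat_lit 0), (nat_lit 1), (nat_lit 3)],
  [(nat_lit 1), (nat_lit 2), (nat_lit 0), (nat_lit 1), (nat_lit 4)],
  [(nat_lit 1), (nat_lit 2), (nat_lit 0), (nat_lit 2), (nat_lit 3)],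
  [(nat_lit 1), (nat_lit 2), (nat_lit 0), (nat_lit 2), (nat_lit 4)],
  [(nat_lit 1), (nat_lit 2), (nat_lit 0), (nat_lit 3), (nat_lit 2)],
  [(nat_lit 1), (nat_lit 2), (nat_lit 0), (nat_lit 3), (nat_lit 4)],
  [(nat_lit 1), (nat_lit 2), (nat_lit 1), (nat_lit 0), (nat_lit 2)],
  [(nat_lit 1), (nat_lit 2), (nat_lit 1), (nat_lit 0), (nat_lit 3)],
  [(nat_lit 1), (nat_lit 2), (nat_lit 1), (nat_lit 0), (nat_lit 4)],
  [(nat_lit 1), (nat_lit 2), (nat_lit 1), (nat_lit 2), (nat_lit 3)],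
  [(nat_lit 1), (nat_lit 2), (nat_lit 1), (nat_lit 2), (nat_lit 4)],
  [(nat_lit 1), (nat_lit 2), (nat_lit 1), (nat_lit 3), (nat_lit 2)],
  [(nat_lit 1), (nat_lit 2), (nat_lit 1), (nat_lit 3), (nat_lit 4)],
  [(nat_lit 1), (nat_lit 3), (nat_lit 2), (nat_lit 0), (nat_lit 1)],
  [(nat_lit 1), (nat_lit 3), (nat_lit 2), (nat_lit 0), (nat_lit 3)],
  [(nat_lit 1), (nat_lit 3), (nat_lit 2), (nat_lit 0), (nat_lit 4)],
  [(nat_lit 1), (nat_lit 3), (nat_lit 2), (nat_lit 1), (nat_lit 0)],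
  [(nat_lit 1), (nat_lit 3), (nat_lit 2), (nat_lit 1), (nat_lit 3)],
  [(nat_lit 1), (nat_lit 3), (nat_lit 2), (nat_lit 1), (nat_lit 4)],
  [(nat_lit 2), (nat_lit 0), (nat_lit 1), (nat_lit 2), (nat_lit 3)],
  [(nat_lit 2), (nat_lit 0), (nat_lit 1), (nat_lit 2), (nat_lit 4)],
  [(nat_lit 2), (nat_lit 0), (nat_lit 1), (nat_lit 3), (nat_lit 2)],
  [(nat_lit 2), (nat_lit 0), (nat_lit 2), (nat_lit 3), (nat_lit 4)],
  [(nat_lit 2), (nat_lit 0), (nat_lit 3), (nat_lit 2), (nat_lit 3)],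
  [(nat_lit 2), (nat_lit 0), (nat_lit 3), (nat_lit 2), (nat_lit 4)],
  [(nat_lit 2), (nat_lit 1), (nat_lit 0), (nat_lit 2), (nat_lit 3)],
  [(nat_lit 2), (nat_lit 1), (nat_lit 0), (nat_lit 2), (nat_lit 4)],
  [(nat_lit 2), (nat_lit 1), (nat_lit 0), (nat_lit 3), (nat_lit 2)],
  [(nat_lit 2), (nat_lit 1), (nat_lit 2), (nat_lit 3), (nat_lit 4)],
  [(nat_lit 2), (nat_lit 1), (nat_lit 3), (nat_lit 2), (nat_lit 3)],
  [(nat_lit 2), (nat_lit 1), (nat_lit 3), (nat_lit 2), (nat_lit 4)],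
  [(nat_lit 0), (nat_lit 0), (nat_lit 0), (nat_lit 2), (nat_lit 0), (nat_lit 2)],
  [(nat_lit 0), (nat_lit 0), (nat_lit 0), (nat_lit 2), (nat_lit 1), (nat_lit 2)],
  [(nat_lit 0), (nat_lit 0), (nat_lit 1), (nat_lit 2), (nat_lit 0), (nat_lit 2)],
  [(nat_lit 0), (nat_lit 0), (nat_lit 1), (nat_lit 2), (nat_lit 1), (nat_lit 2)],
  [(nat_lit 0), (nat_lit 1), (nat_lit 2), (nat_lit 0), (nat_lit 1), (nat_lit 2)],
  [(nat_lit 0), (nat_lit 1), (nat_lit 2), (nat_lit 0), (nat_lit 1), (nat_lit 3)],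
  [(nat_lit 0), (nat_lit 1), (nat_lit 2), (nat_lit 0), (nat_lit 1), (nat_lit 4)],
  [(nat_lit 0), (nat_lit 1), (nat_lit 2), (nat_lit 0), (nat_lit 2), (nat_lit 3)],
  [(nat_lit 0), (nat_lit 1), (nat_lit 2), (nat_lit 0), (nat_lit 2), (nat_lit 4)],
  [(nat_lit 0), (nat_lit 1), (nat_lit 2), (nat_lit 0), (nat_lit 3), (nat_lit 2)],
  [(nat_lit 0), (nat_lit 1), (nat_lit 2), (nat_lit 1), (nat_lit 0), (nat_lit 2)],
  [(nat_lit 0), (nat_lit 1), (nat_lit 2), (nat_lit 1), (nat_lit 0), (nat_lit 3)],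
  [(nat_lit 0), (nat_lit 1), (nat_lit 2), (nat_lit 1), (nat_lit 0), (nat_lit 4)],
  [(nat_lit 0), (nat_lit 1), (nat_lit 2), (nat_lit 1), (nat_lit 2), (nat_lit 3)],
  [(nat_lit 0), (nat_lit 1), (nat_lit 2), (nat_lit 1), (nat_lit 2), (nat_lit 4)],
  [(nat_lit 0), (nat_lit 1), (nat_lit 2), (nat_lit 1), (nat_lit 3), (nat_lit 2)],
  [(nat_lit 0), (nat_lit 1), (nat_lit 3), (nat_lit 2), (nat_lit 0), (nat_lit 1)],
  [(nat_lit 0), (nat_lit 1), (nat_lit 3), (nat_lit 2), (nat_lit 1), (nat_lit 0)],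
  [(nat_lit 0), (nat_lit 2), (nat_lit 0), (nat_lit 1), (nat_lit 2), (nat_lit 3)],
  [(nat_lit 0), (nat_lit 2), (nat_lit 0), (nat_lit 1), (nat_lit 2), (nat_lit 4)],
  [(nat_lit 0), (nat_lit 2), (nat_lit 0), (nat_lit 1), (nat_lit 3), (nat_lit 2)],
  [(nat_lit 0), (nat_lit 2), (nat_lit 0), (nat_lit 2), (nat_lit 3), (nat_lit 4)],
  [(nat_lit 0), (nat_lit 2), (nat_lit 0), (nat_lit 3), (nat_lit 2), (nat_lit 3)],
  [(nat_lit 0), (nat_lit 2), (nat_lit 0), (nat_lit 3), (nat_lit 2), (nat_lit 4)],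
  [(nat_lit 0), (nat_lit 2), (nat_lit 1), (nat_lit 0), (nat_lit 2), (nat_lit 3)],
  [(nat_lit 0), (nat_lit 2), (nat_lit 1), (nat_lit 0), (nat_lit 2), (nat_lit 4)],
  [(nat_lit 0), (nat_lit 2), (nat_lit 1), (nat_lit 0), (nat_lit 3), (nat_lit 2)],
  [(nat_lit 0), (nat_lit 2), (nat_lit 1), (nat_lit 2), (nat_lit 3), (nat_lit 4)],
  [(nat_lit 0), (nat_lit 2), (nat_lit 1), (nat_lit 3), (nat_lit 2), (nat_lit 3)],
  [(nat_lit 0), (nat_lit 2), (nat_lit 1), (nat_lit 3), (nat_lit 2), (nat_lit 4)],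
  [(nat_lit 1), (nat_lit 0), (nat_lit 2), (nat_lit 0), (nat_lit 2), (nat_lit 3)],
  [(nat_lit 1), (nat_lit 0), (nat_lit 2), (nat_lit 0), (nat_lit 2), (nat_lit 4)],
  [(nat_lit 1), (nat_lit 0), (nat_lit 2), (nat_lit 0), (nat_lit 3), (nat_lit 2)],
  [(nat_lit 1), (nat_lit 0), (nat_lit 2), (nat_lit 1), (nat_lit 2), (nat_lit 3)],
  [(nat_lit 1), (nat_lit 0), (nat_lit 2), (nat_lit 1), (nat_lit 2), (nat_lit 4)],
  [(nat_lit 1), (nat_lit 0), (nat_lit 2), (nat_lit 1), (nat_lit 3), (nat_lit 2)],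
  [(nat_lit 1), (nat_lit 2), (nat_lit 0), (nat_lit 1), (nat_lit 2), (nat_lit 3)],
  [(nat_lit 1), (nat_lit 2), (nat_lit 0), (nat_lit 1), (nat_lit 2), (nat_lit 4)],
  [(nat_lit 1), (nat_lit 2), (nat_lit 0), (nat_lit 1), (nat_lit 3), (nat_lit 2)],
  [(nat_lit 1), (nat_lit 2), (nat_lit 0), (nat_lit 2), (nat_lit 3), (nat_lit 4)],
  [(nat_lit 1), (nat_lit 2), (nat_lit 0), (nat_lit 3), (nat_lit 2), (nat_lit 3)],
  [(nat_lit 1), (nat_lit 2), (nat_lit 0), (nat_lit 3), (nat_lit 2), (nat_lit 4)],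
  [(nat_lit 1), (nat_lit 2), (nat_lit 1), (nat_lit 0), (nat_lit 2), (nat_lit 3)],
  [(nat_lit 1), (nat_lit 2), (nat_lit 1), (nat_lit 0), (nat_lit 2), (nat_lit 4)],
  [(nat_lit 1), (nat_lit 2), (nat_lit 1), (nat_lit 0), (nat_lit 3), (nat_lit 2)],
  [(nat_lit 1), (nat_lit 2), (nat_lit 1), (nat_lit 2), (nat_lit 3), (nat_lit 4)],
  [(nat_lit 1), (nat_lit 2), (nat_lit 1), (nat_lit 3), (nat_lit 2), (nat_lit 3)],
  [(nat_lit 1), (nat_lit 2), (nat_lit 1), (nat_lit 3), (nat_lit 2), (nat_lit 4)],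
  [(nat_lit 0), (nat_lit 1), (nat_lit 2), (nat_lit 0), (nat_lit 1), (nat_lit 2), (nat_lit 3)],
  [(nat_lit 0), (nat_lit 1), (nat_lit 2), (nat_lit 0), (nat_lit 1), (nat_lit 2), (nat_lit 4)],
  [(nat_lit 0), (nat_lit 1), (nat_lit 2), (nat_lit 0), (nat_lit 1), (nat_lit 3), (nat_lit 2)],
  [(nat_lit 0), (nat_lit 1), (nat_lit 2), (nat_lit 1), (nat_lit 0), (nat_lit 2), (nat_lit 3)],
  [(nat_lit 0), (nat_lit 1), (nat_lit 2), (nat_lit 1), (nat_lit 0), (nat_lit 2), (nat_lit 4)],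
  [(nat_lit 0), (nat_lit 1), (nat_lit 2), (nat_lit 1), (nat_lit 0), (nat_lit 3), (nat_lit 2)]]
noncomputable def SQ_lX_h (c : ℕ) : ℕ := Nat.mod c (nat_lit 13047)
theorem SQ_lX_E {G : Type*} [Group G] {R : ℕ → G → Prop} {p o t a b w r e x q c s u v f : G} {H : Subgroup G}
    (M : Mdx SP_o SQ_cs R [p, o, t, a, a⁻¹, b, b⁻¹, w, r, e, e⁻¹, x, x⁻¹, q, q⁻¹, c, s, u, v, f] H) :
    EnumS R SQ_lX (sp [q, f, c, u, w]) :=
  enumS_sp M.μ.1 (M.reps.tms M.μ.1 [(.v (nat_lit 13)), (.v (nat_lit 19)), (.v (nat_lit 15)), (.v (nat_lit 17)), (.v (nat_lit 7))] (cs' := [(nat_lit 0x66271cb877a156226db6d1cc84aab093c20), (nat_lit 0xa988984ac27ecf3b8da556168d45d466420), (nat_lit 0x7eab86433275236dcd175a92d31c8510c20), (nat_lit 0xdea989dab9bca2f8380c5a921398a21910d), (nat_lit 0xdc72bbdab49cb507b90cc254d31ca418801)]) (by decide +kernel))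
    (Ws := SQ_lX_W) (by decide +kernel) (by decide +kernel)
theorem SQ_lX_c {G : Type*} [Group G] {R : ℕ → G → Prop} {p o t a b w r e x q c s u v f : G} {H : Subgroup G}
    (M : Mdx SP_o SQ_cs R [p, o, t, a, a⁻¹, b, b⁻¹, w, r, e, e⁻¹, x, x⁻¹, q, q⁻¹, c, s, u, v, f] H) :
    #(sp [q, f, c, u, w]) = 256 :=
  (SQ_lX_E M).card M.μ (h := SQ_lX_h) (by decide +kernel)
noncomputable def SQ_lW : List ℕ := [(nat_lit 0xdeb38bdab49ca307b9ac5a928398a418820), (nat_lit 0x72d9a95cb3c8b041c0db8b5075268fad820), (nat_lit 0xa206a7d764b41ac994c24af078eaf974820), (nat_lit 0x8476b14a9965b4fa912ec18ea6a2632dc20), (nat_lit 0x72efaa4cac9130313dbb8802852736ac0e6), (nat_lit 0x2a5e820af61b959954d46ea275e213db020), (nat_lit 0x56ef922422982ac1a34d7c298958ce3962b), (nat_lit 0x1ec396b2e040aa954f047c29ab49c629e2b), (nat_lit 0x11e88adc70db0d694f046a54b005cf2e63a), (nat_lit 0x43cbbbb4ce11f3320560ad2119594c48f1a),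 (nat_lit 0x7b0e50e6860406a4d75b75c4b99248b3711), (nat_lit 0xb6b38bee549d6307b02e5a92039864289a8), (nat_lit 0x24cce03ca70ef2d40950ad2eb64ad11eb09), (nat_lit 0x22efab3265c8f0e151bb898e80060fac92a), (nat_lit 0x9218775a832c1a2bbe393293a00764acd78), (nat_lit 0x16c3935d8038ea954f047da5a851cd2a22b), (nat_lit 0xdeb3864ab02da34790d7580274366e10d2a), (nat_lit 0x558f705232ab7711f06cc29a959a444d71), (nat_lit 0xc9cad63eae1ecd324a364003a4aa8285d78), (nat_lit 0xa892c36dea3e6e1053501b8ab99248b3711), (nat_lit 0x4bcb26290e1b722b8301b6ebaa40c43cd71), (nat_lit 0x62efaa3873c970416c36898e0526af941a8), (nat_lit 0x22366a4cb5839b978b173802b5247664a3a), (nat_lit 0xa9c4a7cac486cd798c254af008e9d9651a8), (nat_lit 0x2a60710d8f23954cd41236a215e2d7dcd0d), (nat_lit 0x50b2cb242f902f5d9e2619278715146c34b), (nat_lit 0x2cd0e1bc8716f2d3059aae13252e3604297), (nat_lit 0xdeb38642b29d2367b8d75a927434a410c20),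 (nat_lit 0xb6f155424b4d1f1d30f7ccdcd2904018506), (nat_lit 0x91c4a7d764858d7995a34af088e99975020), (nat_lit 0x61e89238b910cd07d5b256a285e2d3ddc20), (nat_lit 0x2a5e720d9013959a55b236a285e2d3ddc20), (nat_lit 0xdaa677da5785524115a332f088e99975020), (nat_lit 0x1135333af1395985e5361ee8d856417810a), (nat_lit 0x6baf0aa3037ac99d9d2691661a5a22d3140), (nat_lit 0x72d9ad90a2ccf171c1328b50a39a8fb5420), (nat_lit 0xc8cc48da47d3e61039226560ddd0abbe10a), (nat_lit 0xcd96e8ec58d32863dc2324ca9942ad7a140), (nat_lit 0x15305332ab3becd40c379c24923b7acc540), (nat_lit 0x2e06764e571416fad1363350a8e89976c20), (nat_lit 0x4441a929a6ca7070d27b595c4b8a0fad86c), (nat_lit 0x6cc8ec18f50a1f928e02de9378aa8b902cc), (nat_lit 0xd5ab29c71972e0fda50aa5d8710c24015a6), (nat_lit 0x3d84e1996cbe29bce93124ca1849b543d40), (nat_lit 0xd1076645b7121d579927a4a01997195ed40), (nat_lit 0x7199ad9242cc0efacd258b50ac2e97b0c20),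 (nat_lit 0xdcd03bd6892c18d5633a2181209e2e589f6), (nat_lit 0x54e83d3510c2595d965721819385d112df6), (nat_lit 0x6491338b2d36e11d542f291c9a586bbe140), (nat_lit 0xd01412e22dbacc84c1f4390769b36ea8b32), (nat_lit 0xdeb38bd2b62c232791ac5802839a6e1892a), (nat_lit 0x2eb2764edb15223bb9243616a4364f85420), (nat_lit 0x885ae42f2953cc465a92b945501f03d4e1b), (nat_lit 0xb1c4b1d1ccb90dbc9533c474a4364f85420), (nat_lit 0xad382180d61e2850aa5d5a5b7e6e374e90), (nat_lit 0x205fab3372cd0172d5b08af0839a6e1892a), (nat_lit 0x831c1deb0a8d262694c83cb20b3d35bac83), (nat_lit 0x51b0e24c726a03ab640bbee07a562c7a4a2), (nat_lit 0x4d44546a233a892a3ef3cac16c076d71a0c), (nat_lit 0x706c93949044d52a447806f377d74d59982), (nat_lit 0x58a77de343a45cc21d062db2993c150c1aa), (nat_lit 0x4e831221471b70605f255d20fdd44c74ed2), (nat_lit 0xdeb38052b2341767a26a8dc44715a74846c), (nat_lit 0x56ef705222ab6c1a30dcda5aa40c43cd71),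 (nat_lit 0xc44fa7a56dda828333320406e15a84b9675), (nat_lit 0x1ef13a8a81249cb01a0d7aa37d25053e6cc), (nat_lit 0x1d52f6b2ea40b610174ecda588508699d71), (nat_lit 0x392a5b19bb9226fc87407306bb893055238), (nat_lit 0x3976219814986f58610b73e49b6624d31aa), (nat_lit 0x22d9a85e65c8b0e1c8db8b507006cfad12a), (nat_lit 0xc89a48c288d3e6103923bd6c6dc8ab660ea), (nat_lit 0x43ef23a92e0372228e93b2e30c688660775), (nat_lit 0x58e6cde342945d7220ed2c329a3c150d8ca), (nat_lit 0x417631341298595b60eb73e8986624d5cca), (nat_lit 0xdeb38542b66d17279ca08b06e24cc80a457), (nat_lit 0x939466db484e2f31c68b080f5117247b21b), (nat_lit 0x342fb88022c1ea57586fa25b35225acac8c), (nat_lit 0x50700b213a934d15b28439455bba791bf70), (nat_lit 0x265b504ca80b9e638d6cdda51a42ea12758), (nat_lit 0x2b5c7d649b4d4cf986d840870a480a5c6ec), (nat_lit 0x53b46ca0787cef6936090945b01d8b246b4), (nat_lit 0xb32d919cfb5c8b88aa54a15098c1a3e29b),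 (nat_lit 0x499f7d3499c30315aa08700fb114769cab4), (nat_lit 0xc11d306a373ad822cb761a5b45232179ab0), (nat_lit 0xae0a1940977b176cedb40474839a6e1892a), (nat_lit 0xa366e1c34c261413adf115cb24a2a0d9b36), (nat_lit 0x3ae387a0ca9b409d52f20d496c947b13990), (nat_lit 0xa34dde00972cea8e6c534a9010eb323eec), (nat_lit 0xa0489c4ad38c145722e706f23abdba32d82), (nat_lit 0xb4cec749e0be4660e37a229146a622596b0), (nat_lit 0xb9353cb8587959159a811b53b520163cab0), (nat_lit 0xcdecd18f9c0072b5e8e2291b4b4512aeb0), (nat_lit 0x75136d9480cce4a0c59881d176996fd5462), (nat_lit 0xd096c293388245766fb81d0c335ebae862), (nat_lit 0xd230d79e2a218095cc740d64563ae2cc376), (nat_lit 0x996a9d303bc1eeb891e3409d2534d4042d9), (nat_lit 0x928c32db411611773eb99a5b06122758374), (nat_lit 0x49f469a14b234188e4560ee05a56437b1d7), (nat_lit 0x885a0de349a2cea4388534b23b3ef51426c)]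
noncomputable def SQ_lW_W : List (List ℕ) := [[],
  [(nat_lit 14), (nat_lit 0)],
  [(nat_lit 10), (nat_lit 14), (nat_lit 9), (nat_lit 0)],
  [(nat_lit 14), (nat_lit 0), (nat_lit 14), (nat_lit 0)],
  [(nat_lit 11), (nat_lit 7), (nat_lit 12), (nat_lit 14)],
  [(nat_lit 9), (nat_lit 14), (nat_lit 10), (nat_lit 0)],
  [(nat_lit 1), (nat_lit 14), (nat_lit 4), (nat_lit 7), (nat_lit 12), (nat_lit 10), (nat_lit 0)],
  [(nat_lit 0), (nat_lit 14), (nat_lit 4), (nat_lit 7), (nat_lit 12), (nat_lit 10), (nat_lit 0)],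
  [(nat_lit 14), (nat_lit 6), (nat_lit 7), (nat_lit 12), (nat_lit 9), (nat_lit 7), (nat_lit 3)],
  [(nat_lit 3), (nat_lit 7), (nat_lit 12), (nat_lit 9), (nat_lit 7), (nat_lit 3)],
  [(nat_lit 12), (nat_lit 9), (nat_lit 7), (nat_lit 4), (nat_lit 14), (nat_lit 7), (nat_lit 4)],
  [(nat_lit 5), (nat_lit 3), (nat_lit 7), (nat_lit 6), (nat_lit 4)],
  [(nat_lit 4), (nat_lit 7), (nat_lit 12), (nat_lit 7), (nat_lit 4), (nat_lit 0)],
  [(nat_lit 14), (nat_lit 11), (nat_lit 7), (nat_lit 12)],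
  [(nat_lit 14), (nat_lit 5), (nat_lit 7), (nat_lit 12), (nat_lit 10), (nat_lit 7), (nat_lit 4)],
  [(nat_lit 0), (nat_lit 14), (nat_lit 4), (nat_lit 7), (nat_lit 12), (nat_lit 10)],
  [(nat_lit 11), (nat_lit 7), (nat_lit 12), (nat_lit 0)],
  [(nat_lit 1), (nat_lit 14), (nat_lit 3), (nat_lit 7), (nat_lit 12), (nat_lit 9)],
  [(nat_lit 5), (nat_lit 7), (nat_lit 12), (nat_lit 10), (nat_lit 7), (nat_lit 4)],
  [(nat_lit 1), (nat_lit 14), (nat_lit 12), (nat_lit 3), (nat_lit 7), (nat_lit 12), (nat_lit 9)],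
  [(nat_lit 12), (nat_lit 4), (nat_lit 7), (nat_lit 4), (nat_lit 14), (nat_lit 7), (nat_lit 4), (nat_lit 0)],
  [(nat_lit 12), (nat_lit 14), (nat_lit 4), (nat_lit 7), (nat_lit 6), (nat_lit 4)],
  [(nat_lit 6), (nat_lit 7), (nat_lit 12), (nat_lit 9), (nat_lit 7), (nat_lit 3)],
  [(nat_lit 6), (nat_lit 14), (nat_lit 12), (nat_lit 7), (nat_lit 6), (nat_lit 4)],
  [(nat_lit 6), (nat_lit 4), (nat_lit 7), (nat_lit 12), (nat_lit 14), (nat_lit 4)],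
  [(nat_lit 0), (nat_lit 14), (nat_lit 12), (nat_lit 4), (nat_lit 7), (nat_lit 12), (nat_lit 10)],
  [(nat_lit 4), (nat_lit 7), (nat_lit 12), (nat_lit 3)],
  [(nat_lit 0)],
  [(nat_lit 5), (nat_lit 7), (nat_lit 5), (nat_lit 4)],
  [(nat_lit 10), (nat_lit 14), (nat_lit 9)],
  [(nat_lit 10), (nat_lit 8), (nat_lit 14), (nat_lit 10)],
  [(nat_lit 9), (nat_lit 14), (nat_lit 10)],
  [(nat_lit 9), (nat_lit 8), (nat_lit 14), (nat_lit 9)],
  [(nat_lit 3), (nat_lit 14), (nat_lit 7), (nat_lit 12)],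
  [(nat_lit 9), (nat_lit 14), (nat_lit 1), (nat_lit 14), (nat_lit 12)],
  [(nat_lit 0), (nat_lit 14), (nat_lit 0)],
  [(nat_lit 14), (nat_lit 3), (nat_lit 14), (nat_lit 7), (nat_lit 12)],
  [(nat_lit 10), (nat_lit 0), (nat_lit 14), (nat_lit 12)],
  [(nat_lit 14), (nat_lit 9), (nat_lit 0), (nat_lit 14), (nat_lit 12)],
  [(nat_lit 14), (nat_lit 10), (nat_lit 0), (nat_lit 14)],
  [(nat_lit 14), (nat_lit 11), (nat_lit 6), (nat_lit 7), (nat_lit 12), (nat_lit 4)],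
  [(nat_lit 3), (nat_lit 7), (nat_lit 12), (nat_lit 4)],
  [(nat_lit 4), (nat_lit 7), (nat_lit 5), (nat_lit 4)],
  [(nat_lit 10), (nat_lit 1), (nat_lit 14), (nat_lit 12)],
  [(nat_lit 14), (nat_lit 10), (nat_lit 1), (nat_lit 14), (nat_lit 12)],
  [(nat_lit 14), (nat_lit 9), (nat_lit 0), (nat_lit 14)],
  [(nat_lit 12), (nat_lit 8), (nat_lit 14), (nat_lit 7), (nat_lit 4), (nat_lit 14), (nat_lit 0)],
  [(nat_lit 12), (nat_lit 0), (nat_lit 14), (nat_lit 7), (nat_lit 4), (nat_lit 14), (nat_lit 0)],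
  [(nat_lit 10), (nat_lit 14), (nat_lit 0), (nat_lit 14), (nat_lit 12)],
  [(nat_lit 3), (nat_lit 7), (nat_lit 11), (nat_lit 10), (nat_lit 4), (nat_lit 7), (nat_lit 4)],
  [(nat_lit 11), (nat_lit 7), (nat_lit 12)],
  [(nat_lit 9), (nat_lit 0), (nat_lit 14)],
  [(nat_lit 14), (nat_lit 11), (nat_lit 8), (nat_lit 7), (nat_lit 3), (nat_lit 14), (nat_lit 10)],
  [(nat_lit 10), (nat_lit 0), (nat_lit 14)],
  [(nat_lit 5), (nat_lit 7), (nat_lit 11), (nat_lit 9), (nat_lit 3), (nat_lit 7), (nat_lit 3)],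
  [(nat_lit 11), (nat_lit 4), (nat_lit 7), (nat_lit 12)],
  [(nat_lit 8), (nat_lit 6), (nat_lit 14), (nat_lit 12), (nat_lit 7), (nat_lit 3)],
  [(nat_lit 8), (nat_lit 3), (nat_lit 14), (nat_lit 12), (nat_lit 7), (nat_lit 4)],
  [(nat_lit 12), (nat_lit 14), (nat_lit 7), (nat_lit 12), (nat_lit 4)],
  [(nat_lit 1), (nat_lit 14), (nat_lit 11), (nat_lit 4), (nat_lit 7), (nat_lit 4)],
  [(nat_lit 6), (nat_lit 14), (nat_lit 7), (nat_lit 12)],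
  [(nat_lit 6), (nat_lit 7), (nat_lit 11), (nat_lit 10), (nat_lit 4), (nat_lit 7), (nat_lit 4)],
  [(nat_lit 11), (nat_lit 6), (nat_lit 7), (nat_lit 12), (nat_lit 4)],
  [(nat_lit 1), (nat_lit 14), (nat_lit 3), (nat_lit 7), (nat_lit 12), (nat_lit 9), (nat_lit 0)],
  [(nat_lit 11), (nat_lit 10), (nat_lit 3), (nat_lit 7), (nat_lit 3), (nat_lit 14)],
  [(nat_lit 14), (nat_lit 3), (nat_lit 7), (nat_lit 12), (nat_lit 4)],
  [(nat_lit 0), (nat_lit 14), (nat_lit 3), (nat_lit 7), (nat_lit 12), (nat_lit 9), (nat_lit 0)],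
  [(nat_lit 6), (nat_lit 3), (nat_lit 7), (nat_lit 12), (nat_lit 10), (nat_lit 7), (nat_lit 4)],
  [(nat_lit 14), (nat_lit 6), (nat_lit 14), (nat_lit 7), (nat_lit 12)],
  [(nat_lit 14), (nat_lit 11), (nat_lit 7), (nat_lit 12), (nat_lit 0)],
  [(nat_lit 14), (nat_lit 3), (nat_lit 14), (nat_lit 7), (nat_lit 12), (nat_lit 0)],
  [(nat_lit 12), (nat_lit 3), (nat_lit 7), (nat_lit 3), (nat_lit 14), (nat_lit 7), (nat_lit 4), (nat_lit 0)],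
  [(nat_lit 6), (nat_lit 14), (nat_lit 7), (nat_lit 12), (nat_lit 0)],
  [(nat_lit 14), (nat_lit 6), (nat_lit 14), (nat_lit 7), (nat_lit 12), (nat_lit 0)],
  [(nat_lit 11), (nat_lit 5), (nat_lit 7), (nat_lit 12), (nat_lit 3)],
  [(nat_lit 11), (nat_lit 8), (nat_lit 7), (nat_lit 3), (nat_lit 14), (nat_lit 10)],
  [(nat_lit 11), (nat_lit 14), (nat_lit 11), (nat_lit 7), (nat_lit 12), (nat_lit 4)],
  [(nat_lit 4), (nat_lit 7), (nat_lit 11), (nat_lit 9), (nat_lit 3), (nat_lit 7), (nat_lit 3)],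
  [(nat_lit 4), (nat_lit 7), (nat_lit 12), (nat_lit 10), (nat_lit 7), (nat_lit 4)],
  [(nat_lit 6), (nat_lit 7), (nat_lit 12), (nat_lit 4)],
  [(nat_lit 14), (nat_lit 11), (nat_lit 8), (nat_lit 7), (nat_lit 4), (nat_lit 14), (nat_lit 9)],
  [(nat_lit 6), (nat_lit 14), (nat_lit 8), (nat_lit 7), (nat_lit 3), (nat_lit 14), (nat_lit 10)],
  [(nat_lit 11), (nat_lit 8), (nat_lit 7), (nat_lit 4), (nat_lit 14), (nat_lit 9)],
  [(nat_lit 14), (nat_lit 0), (nat_lit 14), (nat_lit 4), (nat_lit 7), (nat_lit 4), (nat_lit 14)],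
  [(nat_lit 11), (nat_lit 3), (nat_lit 7), (nat_lit 12)],
  [(nat_lit 5), (nat_lit 14), (nat_lit 7), (nat_lit 5), (nat_lit 0), (nat_lit 14), (nat_lit 10)],
  [(nat_lit 11), (nat_lit 9), (nat_lit 4), (nat_lit 7), (nat_lit 4), (nat_lit 14)],
  [(nat_lit 14), (nat_lit 6), (nat_lit 7), (nat_lit 12), (nat_lit 4)],
  [(nat_lit 0), (nat_lit 14), (nat_lit 11), (nat_lit 4), (nat_lit 7), (nat_lit 4)],
  [(nat_lit 0), (nat_lit 14), (nat_lit 4), (nat_lit 7), (nat_lit 4), (nat_lit 14)],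
  [(nat_lit 14), (nat_lit 1), (nat_lit 14), (nat_lit 4), (nat_lit 7), (nat_lit 4), (nat_lit 14)],
  [(nat_lit 1), (nat_lit 14), (nat_lit 4), (nat_lit 7), (nat_lit 4), (nat_lit 14)],
  [(nat_lit 0), (nat_lit 14), (nat_lit 4), (nat_lit 7), (nat_lit 4)],
  [(nat_lit 1), (nat_lit 14), (nat_lit 4), (nat_lit 7), (nat_lit 4)],
  [(nat_lit 11), (nat_lit 4), (nat_lit 7), (nat_lit 4), (nat_lit 14), (nat_lit 0)],
  [(nat_lit 4), (nat_lit 14), (nat_lit 7), (nat_lit 6), (nat_lit 0), (nat_lit 14), (nat_lit 9)],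
  [(nat_lit 3), (nat_lit 14), (nat_lit 8), (nat_lit 7), (nat_lit 4), (nat_lit 14), (nat_lit 9)],
  [(nat_lit 3), (nat_lit 14), (nat_lit 5), (nat_lit 7), (nat_lit 12), (nat_lit 3)],
  [(nat_lit 6), (nat_lit 14), (nat_lit 6), (nat_lit 7), (nat_lit 12), (nat_lit 4)]]
theorem SQ_lW_E {G : Type*} [Group G] {R : ℕ → G → Prop} {p o t a b w r e x q c s u v f : G} {H : Subgroup G}
    (M : Mdx SP_o SQ_cs R [p, o, t, a, a⁻¹, b, b⁻¹, w, r, e, e⁻¹, x, x⁻¹, q, q⁻¹, c, s, u, v, f] H) :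
    WitS R SQ_lW H :=
  WitS.of M (K := 15) (Ws := SQ_lW_W) (by decide +kernel)
noncomputable def SQ_T_F : Fm := (.allS SQ_lT (.qf (.and (.eq (.mul (.v (nat_lit 0)) (.v (nat_lit 3))) (.mul (.v (nat_lit 3)) (.v (nat_lit 0)))) (.and (.eq (.mul (.v (nat_lit 0)) (.v (nat_lit 8))) (.mul (.v (nat_lit 8)) (.v (nat_lit 0)))) (.or (.not (.eq (.mul (.v (nat_lit 0)) (.v (nat_lit 14))) (.mul (.v (nat_lit 14)) (.v (nat_lit 0))))) (.or (.not (.eq (.mul (.v (nat_lit 0)) (.v (nat_lit 20))) (.mul (.v (nat_lit 20)) (.v (nat_lit 0))))) (.or (.not (.eq (.mul (.v (nat_lit 0)) (.v (nat_lit 16))) (.mul (.v (nat_lit 16)) (.v (nat_lit 0))))) (.or (.not (.eq (.mul (.v (nat_lit 0)) (.v (nat_lit 9))) (.mul (.v (nat_lit 9)) (.v (nat_lit 0))))) (.or (.not (.eq (.mul (.v (nat_lit 0)) (.v (nat_lit 18))) (.mul (.v (nat_lit 18)) (.v (nat_lit 0))))) (.or (.eq (.v (nat_lit 0)) .one) (.or (.eq (.v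 (nat_lit 0)) (.v (nat_lit 8))) (.or (.eq (.v (nat_lit 0)) (.v (nat_lit 3))) (.eq (.v (nat_lit 0)) (.mul (.v (nat_lit 8)) (.v (nat_lit 3))))))))))))))))
theorem SQ_T_chk : Fm.chk SP_o SQ_T_F SQ_cs = true := by decide +kernel
theorem SQ_T {G : Type*} [Group G] {R : ℕ → G → Prop} {p o t a b w r e x q c s u v f : G} {H : Subgroup G}
    (M : Mdx SP_o SQ_cs R [p, o, t, a, a⁻¹, b, b⁻¹, w, r, e, e⁻¹, x, x⁻¹, q, q⁻¹, c, s, u, v, f] H) :
    ∀ i ∈ sp [q, f, c, r, u], i * t = t * i ∧ i * w = w * i ∧ (i * q ≠ q * i ∨ i * f ≠ f * i ∨ i * c ≠ c * i ∨ i * r ≠ r * i ∨ i * u ≠ u * i ∨ i = 1 ∨ i = w ∨ i = t ∨ i = w * t) :=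
  have h : ∀ i, InS R SQ_lT i → i * t = t * i ∧ i * w = w * i ∧ (i * q ≠ q * i ∨ i * f ≠ f * i ∨ i * c ≠ c * i ∨ i * r ≠ r * i ∨ i * u ≠ u * i ∨ i = 1 ∨ i = w ∨ i = t ∨ i = w * t) :=
    Fm.sound M.μ SQ_T_F SQ_T_chk M.reps
  (fun i h0 => (h i ((SQ_lT_E M).iff.2 h0)))
noncomputable def SQ_i_t0 : ST := (.node (nat_lit 33) (.node (nat_lit 9) (.leaf (nat_lit 0)) (.node (nat_lit 10) (.leaf (nat_lit 2)) (.leaf (nat_lit 0)))) (.node (nat_lit 51) (.node (nat_lit 34) (.leaf (nat_lit 7)) (.leaf (nat_lit 0))) (.node (nat_lit 52) (.leaf (nat_lit 1)) (.leaf (nat_lit 0)))))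
noncomputable def SQ_i_t1 : ST := (.node (nat_lit 2434) (.node (nat_lit 1203) (.node (nat_lit 665) (.node (nat_lit 290) (.node (nat_lit 143) (.node (nat_lit 68) (.node (nat_lit 57) (.leaf (nat_lit 39)) (.leaf (nat_lit 4))) (.node (nat_lit 141) (.leaf (nat_lit 25)) (.leaf (nat_lit 17)))) (.node (nat_lit 194) (.node (nat_lit 187) (.leaf (nat_lit 15)) (.leaf (nat_lit 6))) (.node (nat_lit 277) (.leaf (nat_lit 61)) (.leaf (nat_lit 95))))) (.node (nat_lit 400) (.node (nat_lit 308) (.node (nat_lit 293) (.leaf (nat_lit 3)) (.leaf (nat_lit 84))) (.node (nat_lit 326) (.leaf (nat_lit 78)) (.leaf (nat_lit 2)))) (.node (nat_lit 457) (.node (nat_lit 452) (.leaf (nat_lit 6)) (.leaf (nat_lit 1))) (.node (nat_lit 513) (.leaf (nat_lit 19)) (.node (nat_lit 568) (.leaf (nat_lit 23)) (.leaf (nat_lit 10))))))) (.node (nat_lit 990) (.node (nat_lit 902) (.node (nat_lit 830) (.node (nat_lit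 775) (.leaf (nat_lit 62)) (.leaf (nat_lit 11))) (.node (nat_lit 836) (.leaf (nat_lit 60)) (.leaf (nat_lit 73)))) (.node (nat_lit 926) (.node (nat_lit 905) (.leaf (nat_lit 2)) (.leaf (nat_lit 59))) (.node (nat_lit 963) (.leaf (nat_lit 9)) (.leaf (nat_lit 24))))) (.node (nat_lit 1007) (.node (nat_lit 997) (.node (nat_lit 993) (.leaf (nat_lit 0)) (.leaf (nat_lit 21))) (.node (nat_lit 1002) (.leaf (nat_lit 50)) (.leaf (nat_lit 51)))) (.node (nat_lit 1058) (.node (nat_lit 1040) (.leaf (nat_lit 4)) (.leaf (nat_lit 30))) (.node (nat_lit 1119) (.leaf (nat_lit 42)) (.node (nat_lit 1155) (.leaf (nat_lit 83)) (.leaf (nat_lit 18)))))))) (.node (nat_lit 2007) (.node (nat_lit 1607) (.node (nat_lit 1380) (.node (nat_lit 1343) (.node (nat_lit 1285) (.leaf (nat_lit 91)) (.leaf (nat_lit 23))) (.node (nat_lit 1352) (.leaf (nat_lit 26)) (.leaf (nat_lit 29)))) (.node (nat_lit 1418)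 (.node (nat_lit 1397) (.leaf (nat_lit 1)) (.leaf (nat_lit 87))) (.node (nat_lit 1502) (.leaf (nat_lit 22)) (.leaf (nat_lit 12))))) (.node (nat_lit 1758) (.node (nat_lit 1680) (.node (nat_lit 1649) (.leaf (nat_lit 63)) (.leaf (nat_lit 46))) (.node (nat_lit 1723) (.leaf (nat_lit 17)) (.leaf (nat_lit 92)))) (.node (nat_lit 1793) (.node (nat_lit 1790) (.leaf (nat_lit 15)) (.leaf (nat_lit 86))) (.node (nat_lit 1979) (.leaf (nat_lit 81)) (.node (nat_lit 1985) (.leaf (nat_lit 36)) (.leaf (nat_lit 9))))))) (.node (nat_lit 2162) (.node (nat_lit 2083) (.node (nat_lit 2032) (.node (nat_lit 2029) (.leaf (nat_lit 89)) (.leaf (nat_lit 8))) (.node (nat_lit 2072) (.leaf (nat_lit 88)) (.leaf (nat_lit 35)))) (.node (nat_lit 2134) (.node (nat_lit 2132) (.leaf (nat_lit 96)) (.leaf (nat_lit 20))) (.node (nat_lit 2161) (.leaf (nat_lit 7)) (.leaf (nat_lit 10))))) (.node (nat_lit 2281)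 (.node (nat_lit 2255) (.node (nat_lit 2166) (.leaf (nat_lit 66)) (.leaf (nat_lit 41))) (.node (nat_lit 2261) (.leaf (nat_lit 58)) (.leaf (nat_lit 54)))) (.node (nat_lit 2371) (.node (nat_lit 2302) (.leaf (nat_lit 57)) (.leaf (nat_lit 32))) (.node (nat_lit 2400) (.leaf (nat_lit 16)) (.node (nat_lit 2403) (.leaf (nat_lit 53)) (.leaf (nat_lit 55))))))))) (.node (nat_lit 3423) (.node (nat_lit 2805) (.node (nat_lit 2550) (.node (nat_lit 2520) (.node (nat_lit 2484) (.node (nat_lit 2475) (.leaf (nat_lit 27)) (.leaf (nat_lit 21))) (.node (nat_lit 2498) (.leaf (nat_lit 80)) (.leaf (nat_lit 34)))) (.node (nat_lit 2523) (.node (nat_lit 2521) (.leaf (nat_lit 45)) (.leaf (nat_lit 40))) (.node (nat_lit 2541) (.leaf (nat_lit 52)) (.leaf (nat_lit 67))))) (.node (nat_lit 2646) (.node (nat_lit 2608) (.node (nat_lit 2587) (.leaf (nat_lit 3)) (.leaf (nat_lit 24))) (.node (nat_lit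 2641) (.leaf (nat_lit 5)) (.leaf (nat_lit 90)))) (.node (nat_lit 2696) (.node (nat_lit 2652) (.leaf (nat_lit 37)) (.leaf (nat_lit 9))) (.node (nat_lit 2749) (.leaf (nat_lit 2)) (.node (nat_lit 2775) (.leaf (nat_lit 56)) (.leaf (nat_lit 93))))))) (.node (nat_lit 2928) (.node (nat_lit 2910) (.node (nat_lit 2834) (.node (nat_lit 2817) (.leaf (nat_lit 70)) (.leaf (nat_lit 19))) (.node (nat_lit 2861) (.leaf (nat_lit 71)) (.leaf (nat_lit 64)))) (.node (nat_lit 2925) (.node (nat_lit 2914) (.leaf (nat_lit 72)) (.leaf (nat_lit 5))) (.node (nat_lit 2926) (.leaf (nat_lit 49)) (.leaf (nat_lit 3))))) (.node (nat_lit 3139) (.node (nat_lit 3016) (.node (nat_lit 2961) (.leaf (nat_lit 68)) (.leaf (nat_lit 28))) (.node (nat_lit 3041) (.leaf (nat_lit 77)) (.leaf (nat_lit 7)))) (.node (nat_lit 3237) (.node (nat_lit 3184) (.leaf (nat_lit 13)) (.leaf (nat_lit 48))) (.node (nat_lit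 3240) (.leaf (nat_lit 13)) (.node (nat_lit 3241) (.leaf (nat_lit 1)) (.leaf (nat_lit 98)))))))) (.node (nat_lit 3950) (.node (nat_lit 3630) (.node (nat_lit 3521) (.node (nat_lit 3436) (.node (nat_lit 3434) (.leaf (nat_lit 20)) (.leaf (nat_lit 8))) (.node (nat_lit 3458) (.leaf (nat_lit 7)) (.leaf (nat_lit 82)))) (.node (nat_lit 3543) (.node (nat_lit 3538) (.leaf (nat_lit 94)) (.leaf (nat_lit 31))) (.node (nat_lit 3591) (.leaf (nat_lit 16)) (.leaf (nat_lit 33))))) (.node (nat_lit 3795) (.node (nat_lit 3698) (.node (nat_lit 3685) (.leaf (nat_lit 0)) (.leaf (nat_lit 18))) (.node (nat_lit 3784) (.leaf (nat_lit 65)) (.leaf (nat_lit 38)))) (.node (nat_lit 3840) (.node (nat_lit 3822) (.leaf (nat_lit 14)) (.leaf (nat_lit 44))) (.node (nat_lit 3886) (.leaf (nat_lit 0)) (.node (nat_lit 3939) (.leaf (nat_lit 76)) (.leaf (nat_lit 69))))))) (.node (nat_lit 4193) (.node (nat_lit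 4028) (.node (nat_lit 4004) (.node (nat_lit 3976) (.leaf (nat_lit 47)) (.leaf (nat_lit 5))) (.node (nat_lit 4011) (.leaf (nat_lit 4)) (.leaf (nat_lit 22)))) (.node (nat_lit 4129) (.node (nat_lit 4072) (.leaf (nat_lit 74)) (.leaf (nat_lit 43))) (.node (nat_lit 4187) (.leaf (nat_lit 85)) (.leaf (nat_lit 79))))) (.node (nat_lit 4237) (.node (nat_lit 4207) (.node (nat_lit 4195) (.leaf (nat_lit 97)) (.leaf (nat_lit 14))) (.node (nat_lit 4219) (.leaf (nat_lit 11)) (.leaf (nat_lit 10)))) (.node (nat_lit 4267) (.node (nat_lit 4256) (.leaf (nat_lit 12)) (.leaf (nat_lit 8))) (.node (nat_lit 4289) (.leaf (nat_lit 75)) (.node (nat_lit 4304) (.leaf (nat_lit 25)) (.leaf (nat_lit 6))))))))))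
noncomputable def SQ_i_F : Fm := (.allS SQ_lT (.imp (.eq (.mul (.v (nat_lit 0)) (.v (nat_lit 0))) .one) (.or (.qf (.eq (.v (nat_lit 0)) .one)) (.or (.qf (.or (.eq (.v (nat_lit 0)) (.v (nat_lit 8))) (.or (.eq (.v (nat_lit 0)) (.v (nat_lit 18))) (.eq (.v (nat_lit 0)) (.v (nat_lit 19)))))) (.or (.and (.qf (.not (.mem (.v (nat_lit 0)) SQ_lX))) (.exG SQ_lT (fun cs => SQ_i_t0.find (Nat.mod (nth (nat_lit 0) cs (nat_lit 0)) (nat_lit 67))) (.qf (.eq (.mul (.mul (.v (nat_lit 0)) (.v (nat_lit 1))) (.inv (.v (nat_lit 0)))) (.v (nat_lit 10)))))) (.exG SQ_lW (fun cs => SQ_i_t1.find (Nat.mod (nth (nat_lit 0) cs (nat_lit 0)) (nat_lit 4330))) (.qf (.or (.eq (.mul (.mul (.v (nat_lit 0)) (.v (nat_lit 1))) (.inv (.v (nat_lit 0)))) (.v (nat_lit 4))) (.or (.eq (.mul (.mul (.v (nat_lit 0)) (.v (nat_lit 1))) (.inv (.v (nat_lit 0)))) (.v (nat_lit 17))) (.eq (.mul (.mul (.v (nat_lit 0))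 (.v (nat_lit 1))) (.inv (.v (nat_lit 0)))) (.v (nat_lit 18))))))))))))
theorem SQ_i_chk : Fm.chk SP_o SQ_i_F SQ_cs = true := by decide +kernel
theorem SQ_i {G : Type*} [Group G] {R : ℕ → G → Prop} {p o t a b w r e x q c s u v f : G} {H : Subgroup G}
    (M : Mdx SP_o SQ_cs R [p, o, t, a, a⁻¹, b, b⁻¹, w, r, e, e⁻¹, x, x⁻¹, q, q⁻¹, c, s, u, v, f] H) :
    ∀ i ∈ sp [q, f, c, r, u], i * i = 1 → i = 1 ∨ (i = w ∨ i = u ∨ i = v) ∨ i ∉ sp [q, f, c, u, w] ∧ (∃ m ∈ sp [q, f, c, r, u], m * i * m⁻¹ = r) ∨ (∃ m ∈ H, m * i * m⁻¹ = t ∨ m * i * m⁻¹ = c ∨ m * i * m⁻¹ = s) :=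
  have h : ∀ i, InS R SQ_lT i → i * i = 1 → i = 1 ∨ (i = w ∨ i = u ∨ i = v) ∨ ¬ InS R SQ_lX (i) ∧ (GoodS R SQ_lT → SQ_lT ≠ [] → ∃ m, InS R SQ_lT m ∧ m * i * m⁻¹ = r) ∨ (GoodS R SQ_lW → SQ_lW ≠ [] → ∃ m, InS R SQ_lW m ∧ (m * i * m⁻¹ = t ∨ m * i * m⁻¹ = c ∨ m * i * m⁻¹ = s)) :=
    Fm.sound M.μ SQ_i_F SQ_i_chk M.reps
  (fun i h0 => (fun h1 => (Or.imp (fun h2 => h2) (fun h2 => (Or.imp (fun h3 => h3) (fun h3 => (Or.imp (fun h4 => (And.imp (fun h5 => ((not_congr (SQ_lX_E M).iff).1 h5)) (fun h5 => (Exists.imp (fun m h6 => ⟨(SQ_lT_E M).iff.1 h6.1, h6.2⟩) (h5 (SQ_lT_E M).good (SQ_lT_E M).ne))) h4)) (fun h4 => (Exists.imp (fun m h5 => ⟨(SQ_lW_E M).iff.1 h5.1, h5.2⟩) (h4 (SQ_lW_E M).good (SQ_lW_E M).ne))) h3)) h2)) ((h i ((SQ_lT_E M).iff.2 h0)) h1))))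
noncomputable def SQ_e_F : Fm := (.qf (.and (.mem (.v (nat_lit 7)) SQ_lT) (.and (.mem (.v (nat_lit 2)) SQ_lT) (.and (.not (.mem (.v (nat_lit 8)) SQ_lX)) (.and (.not (.eq (.mul (.mul (.v (nat_lit 11)) (.v (nat_lit 2))) (.inv (.v (nat_lit 11)))) (.v (nat_lit 2)))) (.and (.eq (.mul (.pw (.mul (.v (nat_lit 2)) (.v (nat_lit 0))) (nat_lit 2)) (.pw (.mul (.v (nat_lit 2)) (.v (nat_lit 0))) (nat_lit 2))) .one) (.not (.eq (.pw (.mul (.v (nat_lit 2)) (.v (nat_lit 0))) (nat_lit 2)) .one))))))))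
theorem SQ_e_chk : Fm.chk SP_o SQ_e_F SQ_cs = true := by decide +kernel
theorem SQ_e {G : Type*} [Group G] {R : ℕ → G → Prop} {p o t a b w r e x q c s u v f : G} {H : Subgroup G}
    (M : Mdx SP_o SQ_cs R [p, o, t, a, a⁻¹, b, b⁻¹, w, r, e, e⁻¹, x, x⁻¹, q, q⁻¹, c, s, u, v, f] H) :
    w ∈ sp [q, f, c, r, u] ∧ t ∈ sp [q, f, c, r, u] ∧ r ∉ sp [q, f, c, u, w] ∧ x * t * x⁻¹ ≠ t ∧ (t * p) ^ 2 * (t * p) ^ 2 = 1 ∧ (t * p) ^ 2 ≠ 1 :=
  have h : InS R SQ_lT (w) ∧ InS R SQ_lT (t) ∧ ¬ InS R SQ_lX (r) ∧ x * t * x⁻¹ ≠ t ∧ (t * p) ^ 2 * (t * p) ^ 2 = 1 ∧ (t * p) ^ 2 ≠ 1 :=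
    Fm.sound M.μ SQ_e_F SQ_e_chk M.reps
  ((and_congr (SQ_lT_E M).iff (and_congr (SQ_lT_E M).iff (and_congr (not_congr (SQ_lX_E M).iff) Iff.rfl))).1 h)
noncomputable def YM_s6_f_F : Fm := (.qf (.and (.eq (.pw (.v (nat_lit 3)) (nat_lit 3)) .one) (.and (.eq (.pw (.v (nat_lit 5)) (nat_lit 3)) .one) (.and (.eq (.mul (.v (nat_lit 0)) (.v (nat_lit 0))) .one) (.and (.eq (.mul (.v (nat_lit 1)) (.v (nat_lit 1))) .one) (.and (.eq (.mul (.v (nat_lit 2)) (.v (nat_lit 2))) .one) (.and (.eq (.mul (.v (nat_lit 7)) (.v (nat_lit 7))) .one) (.and (.eq (.mul (.mul (.v (nat_lit 0)) (.v (nat_lit 3))) (.inv (.v (nat_lit 0)))) (.inv (.v (nat_lit 3)))) (.and (.eq (.mul (.mul (.v (nat_lit 2)) (.v (nat_lit 3))) (.inv (.v (nat_lit 2)))) (.v (nat_lit 5))) (.and (.eq (.mul (.mul (.v (nat_lit 2)) (.v (nat_lit 0))) (.inv (.v (nat_lit 2)))) (.v (nat_lit 1))) (.and (.eq (.mul (.v (nat_lit 3))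 (.v (nat_lit 5))) (.mul (.v (nat_lit 5)) (.v (nat_lit 3)))) (.and (.eq (.mul (.v (nat_lit 0)) (.v (nat_lit 1))) (.mul (.v (nat_lit 1)) (.v (nat_lit 0)))) (.and (.eq (.mul (.v (nat_lit 0)) (.v (nat_lit 5))) (.mul (.v (nat_lit 5)) (.v (nat_lit 0)))) (.and (.eq (.mul (.v (nat_lit 1)) (.v (nat_lit 3))) (.mul (.v (nat_lit 3)) (.v (nat_lit 1)))) (.and (.eq (.pw (.mul (.mul (.v (nat_lit 3)) (.v (nat_lit 0))) (.v (nat_lit 7))) (nat_lit 3)) .one) (.and (.eq (.mul (.v (nat_lit 0)) (.v (nat_lit 7))) (.mul (.v (nat_lit 7)) (.v (nat_lit 0)))) (.and (.eq (.mul (.v (nat_lit 7)) (.v (nat_lit 1))) (.mul (.v (nat_lit 1)) (.v (nat_lit 7)))) (.and (.eq (.pw (.mul (.v (nat_lit 7)) (.mul (.v (nat_lit 5)) (.v (nat_lit 1)))) (nat_lit 3)) .one) (.eq (.v (nat_lit 2)) (.mul (.mul (.mul (.mul (.mul (.mul (.mul (.mul (.mul (.mul (.mul (.mul (.mul (.mul (.v (nat_lit 0)) (.mul (.v (nat_lit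 3)) (.v (nat_lit 0)))) (.v (nat_lit 7))) (.mul (.v (nat_lit 5)) (.v (nat_lit 1)))) (.v (nat_lit 1))) (.v (nat_lit 0))) (.mul (.v (nat_lit 3)) (.v (nat_lit 0)))) (.v (nat_lit 7))) (.mul (.v (nat_lit 5)) (.v (nat_lit 1)))) (.v (nat_lit 0))) (.mul (.v (nat_lit 3)) (.v (nat_lit 0)))) (.v (nat_lit 7))) (.v (nat_lit 0))) (.mul (.v (nat_lit 3)) (.v (nat_lit 0)))) (.v (nat_lit 0))))))))))))))))))))))
theorem YM_s6_f_chk : Fm.chk YN_o YM_s6_f_F YM_cs = true := by decide +kernel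
theorem YM_s6_f {G : Type*} [Group G] {R : ℕ → G → Prop} {p o t a b w r e c n s z y u v : G} {H : Subgroup G}
    (M : Mdl YN_o YM_cs YN_L R [p, o, t, a, a⁻¹, b, b⁻¹, w, r, e, e⁻¹, c, n, s, z, y, u, v] H) :
    a ^ 3 = 1 ∧ b ^ 3 = 1 ∧ p * p = 1 ∧ o * o = 1 ∧ t * t = 1 ∧ w * w = 1 ∧ p * a * p⁻¹ = a⁻¹ ∧ t * a * t⁻¹ = b ∧ t * p * t⁻¹ = o ∧ a * b = b * a ∧ p * o = o * p ∧ p * b = b * p ∧ o * a = a * o ∧ (a * p * w) ^ 3 = 1 ∧ p * w = w * p ∧ w * o = o * w ∧ (w * (b * o)) ^ 3 = 1 ∧ t = p * (a * p) * w * (b * o) * o * p * (a * p) * w * (b * o) * p * (a * p) * w * p * (a * p) * p :=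
  Fm.sound M.μ YM_s6_f_F YM_s6_f_chk M.reps
theorem YM_s6 {G : Type*} [Group G] {R : ℕ → G → Prop} {p o t a b w r e c n s z y u v : G} {H : Subgroup G}
    (M : Mdl YN_o YM_cs YN_L R [p, o, t, a, a⁻¹, b, b⁻¹, w, r, e, e⁻¹, c, n, s, z, y, u, v] H) :
    S6r a b p o t w :=
  have h := YM_s6_f M
  ⟨h.1, h.2.1, h.2.2.1, h.2.2.2.1, h.2.2.2.2.1, h.2.2.2.2.2.1, h.2.2.2.2.2.2.1, h.2.2.2.2.2.2.2.1, h.2.2.2.2.2.2.2.2.1, h.2.2.2.2.2.2.2.2.2.1, h.2.2.2.2.2.2.2.2.2.2.1, h.2.2.2.2.2.2.2.2.2.2.2.1, h.2.2.2.2.2.2.2.2.2.2.2.2.1, h.2.2.2.2.2.2.2.2.2.2.2.2.2.1, h.2.2.2.2.2.2.2.2.2.2.2.2.2.2.1, h.2.2.2.2.2.2.2.2.2.2.2.2.2.2.2.1, h.2.2.2.2.2.2.2.2.2.2.2.2.2.2.2.2.1, h.2.2.2.2.2.2.2.2.2.2.2.2.2.2.2.2.2, trivial⟩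
noncomputable def YM_ne_f_F : Fm := (.qf (.and (.eq (.pw (.v (nat_lit 9)) (nat_lit 3)) .one) (.and (.eq (.mul (.v (nat_lit 8)) (.v (nat_lit 8))) .one) (.and (.eq (.mul (.mul (.v (nat_lit 8)) (.v (nat_lit 9))) (.inv (.v (nat_lit 8)))) (.inv (.v (nat_lit 9)))) (.and (.eq (.mul (.v (nat_lit 9)) (.v (nat_lit 3))) (.mul (.v (nat_lit 3)) (.v (nat_lit 9)))) (.and (.eq (.mul (.v (nat_lit 9)) (.v (nat_lit 0))) (.mul (.v (nat_lit 0)) (.v (nat_lit 9)))) (.and (.eq (.mul (.v (nat_lit 9)) (.v (nat_lit 2))) (.mul (.v (nat_lit 2)) (.v (nat_lit 9)))) (.and (.eq (.mul (.v (nat_lit 9)) (.v (nat_lit 7))) (.mul (.v (nat_lit 7)) (.v (nat_lit 9)))) (.and (.eq (.mul (.v (nat_lit 8)) (.v (nat_lit 3))) (.mul (.v (nat_lit 3)) (.v (nat_lit 8)))) (.and (.eq (.mul (.v (nat_lit 8)) (.v (nat_lit 0))) (.mul (.v (nat_lit 0)) (.v (nat_lit 8)))) (.and (.eq (.mul (.v (nat_lit 8)) (.v (nat_lit 2)))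 (.mul (.v (nat_lit 2)) (.v (nat_lit 8)))) (.eq (.mul (.v (nat_lit 8)) (.v (nat_lit 7))) (.mul (.v (nat_lit 7)) (.v (nat_lit 8)))))))))))))))
theorem YM_ne_f_chk : Fm.chk YN_o YM_ne_f_F YM_cs = true := by decide +kernel
theorem YM_ne_f {G : Type*} [Group G] {R : ℕ → G → Prop} {p o t a b w r e c n s z y u v : G} {H : Subgroup G}
    (M : Mdl YN_o YM_cs YN_L R [p, o, t, a, a⁻¹, b, b⁻¹, w, r, e, e⁻¹, c, n, s, z, y, u, v] H) :
    e ^ 3 = 1 ∧ r * r = 1 ∧ r * e * r⁻¹ = e⁻¹ ∧ e * a = a * e ∧ e * p = p * e ∧ e * t = t * e ∧ e * w = w * e ∧ r * a = a * r ∧ r * p = p * r ∧ r * t = t * r ∧ r * w = w * r :=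
  Fm.sound M.μ YM_ne_f_F YM_ne_f_chk M.reps
theorem YM_ne {G : Type*} [Group G] {R : ℕ → G → Prop} {p o t a b w r e c n s z y u v : G} {H : Subgroup G}
    (M : Mdl YN_o YM_cs YN_L R [p, o, t, a, a⁻¹, b, b⁻¹, w, r, e, e⁻¹, c, n, s, z, y, u, v] H) :
    NE6 a p t w e r :=
  have h := YM_ne_f M
  ⟨h.1, h.2.1, h.2.2.1, h.2.2.2.1, h.2.2.2.2.1, h.2.2.2.2.2.1, h.2.2.2.2.2.2.1, h.2.2.2.2.2.2.2.1, h.2.2.2.2.2.2.2.2.1, h.2.2.2.2.2.2.2.2.2.1, h.2.2.2.2.2.2.2.2.2.2, trivial⟩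
noncomputable def YM_df_F : Fm := (.and (.qf (.eq (.v (nat_lit 11)) (.mul (.v (nat_lit 0)) (.v (nat_lit 1))))) (.and (.qf (.eq (.v (nat_lit 13)) (.mul (.v (nat_lit 2)) (.mul (.mul (.v (nat_lit 0)) (.v (nat_lit 1))) (.v (nat_lit 8)))))) (.and (.qf (.eq (.v (nat_lit 16)) (.mul (.mul (.mul (.v (nat_lit 3)) (.v (nat_lit 5))) (.v (nat_lit 7))) (.inv (.mul (.v (nat_lit 3)) (.v (nat_lit 5))))))) (.and (.qf (.eq (.v (nat_lit 17)) (.mul (.mul (.inv (.mul (.v (nat_lit 3)) (.v (nat_lit 5)))) (.v (nat_lit 7))) (.mul (.v (nat_lit 3)) (.v (nat_lit 5)))))) (.and (.qf (.eq (.mul (.mul (.v (nat_lit 11)) (.v (nat_lit 7))) (.inv (.v (nat_lit 11)))) (.v (nat_lit 7)))) (.and (.qf (.eq (.mul (.mul (.v (nat_lit 11)) (.v (nat_lit 16))) (.inv (.v (nat_lit 11)))) (.v (nat_lit 17)))) (.and (.qf (.eq (.mul (.mul (.v (nat_lit 11)) (.v (nat_lit 17))) (.inv (.v (nat_lit 11)))) (.v (nat_lit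 16)))) (.and (.exF YN_L (fun _ => (nat_lit 300)) (.qf (.eq (.mul (.mul (.v (nat_lit 0)) (.mul (.v (nat_lit 8)) (.v (nat_lit 3)))) (.inv (.v (nat_lit 0)))) (.v (nat_lit 12))))) (.and (.exF YN_L (fun _ => (nat_lit 1148)) (.qf (.eq (.mul (.mul (.v (nat_lit 0)) (.mul (.v (nat_lit 17)) (.v (nat_lit 3)))) (.inv (.v (nat_lit 0)))) (.v (nat_lit 12))))) (.exF YN_L (fun _ => (nat_lit 1244)) (.qf (.eq (.mul (.mul (.v (nat_lit 0)) (.mul (.v (nat_lit 18)) (.v (nat_lit 3)))) (.inv (.v (nat_lit 0)))) (.v (nat_lit 12))))))))))))))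
theorem YM_df_chk : Fm.chk YN_o YM_df_F YM_cs = true := by decide +kernel
theorem YM_df {G : Type*} [Group G] {R : ℕ → G → Prop} {p o t a b w r e c n s z y u v : G} {H : Subgroup G}
    (M : Mdl YN_o YM_cs YN_L R [p, o, t, a, a⁻¹, b, b⁻¹, w, r, e, e⁻¹, c, n, s, z, y, u, v] H) :
    c = p * o ∧ s = t * (p * o * r) ∧ u = a * b * w * (a * b)⁻¹ ∧ v = (a * b)⁻¹ * w * (a * b) ∧ c * w * c⁻¹ = w ∧ c * u * c⁻¹ = v ∧ c * v * c⁻¹ = u ∧ (∃ m ∈ H, m * (w * t) * m⁻¹ = c) ∧ (∃ m ∈ H, m * (u * t) * m⁻¹ = c) ∧ (∃ m ∈ H, m * (v * t) * m⁻¹ = c) :=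
  have h : c = p * o ∧ s = t * (p * o * r) ∧ u = a * b * w * (a * b)⁻¹ ∧ v = (a * b)⁻¹ * w * (a * b) ∧ c * w * c⁻¹ = w ∧ c * u * c⁻¹ = v ∧ c * v * c⁻¹ = u ∧ (Good YN_o R YN_L → prods YN_o YN_L YN_o.one ≠ [] → ∃ m, InL YN_o R YN_L m ∧ m * (w * t) * m⁻¹ = c) ∧ (Good YN_o R YN_L → prods YN_o YN_L YN_o.one ≠ [] → ∃ m, InL YN_o R YN_L m ∧ m * (u * t) * m⁻¹ = c) ∧ (Good YN_o R YN_L → prods YN_o YN_L YN_o.one ≠ [] → ∃ m, InL YN_o R YN_L m ∧ m * (v * t) * m⁻¹ = c) :=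
    Fm.sound M.μ YM_df_F YM_df_chk M.reps
  (And.imp (fun h0 => h0) (fun h0 => (And.imp (fun h1 => h1) (fun h1 => (And.imp (fun h2 => h2) (fun h2 => (And.imp (fun h3 => h3) (fun h3 => (And.imp (fun h4 => h4) (fun h4 => (And.imp (fun h5 => h5) (fun h5 => (And.imp (fun h6 => h6) (fun h6 => (And.imp (fun h7 => (Exists.imp (fun m h8 => ⟨M.H.iff.1 h8.1, h8.2⟩) (h7 M.H.good M.H.ne))) (fun h7 => (And.imp (fun h8 => (Exists.imp (fun m h9 => ⟨M.H.iff.1 h9.1, h9.2⟩) (h8 M.H.good M.H.ne))) (fun h8 => (Exists.imp (fun m h9 => ⟨M.H.iff.1 h9.1, h9.2⟩) (h8 M.H.good M.H.ne))) h7)) h6)) h5)) h4)) h3)) h2)) h1)) h0)) h)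
noncomputable def YM_ct_F : Fm := (.all YN_L (.imp (.eq (.mul (.v (nat_lit 0)) (.v (nat_lit 3))) (.mul (.v (nat_lit 3)) (.v (nat_lit 0)))) (.qf (.eq (.pw (.v (nat_lit 0)) (nat_lit 12)) .one))))
theorem YM_ct_chk : Fm.chk YN_o YM_ct_F YM_cs = true := by decide +kernel
theorem YM_ct {G : Type*} [Group G] {R : ℕ → G → Prop} {p o t a b w r e c n s z y u v : G} {H : Subgroup G}
    (M : Mdl YN_o YM_cs YN_L R [p, o, t, a, a⁻¹, b, b⁻¹, w, r, e, e⁻¹, c, n, s, z, y, u, v] H) :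
    ∀ k ∈ H, k * t = t * k → k ^ 12 = 1 :=
  have h : ∀ k, InL YN_o R YN_L k → k * t = t * k → k ^ 12 = 1 :=
    Fm.sound M.μ YM_ct_F YM_ct_chk M.reps
  (fun k h0 => (h k (M.H.iff.2 h0)))
noncomputable def PH_ey_F : Fm := (.all PF_L (.qf (.not (.mem (.mul (.mul (.v (nat_lit 0)) (.v (nat_lit 8))) (.inv (.v (nat_lit 0)))) PH_lY))))
theorem PH_ey_chk : Fm.chk PF_o PH_ey_F PH_cs = true := by decide +kernel
theorem PH_ey {G : Type*} [Group G] {R : ℕ → G → Prop} {t c n a b e x z y r p o s : G} {H : Subgroup G}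
    (M : Mdl PF_o PH_cs PF_L R [t, c, n, a, a⁻¹, b, b⁻¹, e, e⁻¹, x, x⁻¹, z, y, r, p, o, s] H) :
    ∀ k ∈ H, k * e * k⁻¹ ∉ sp [y] :=
  have h : ∀ k, InL PF_o R PF_L k → ¬ InS R PH_lY (k * e * k⁻¹) :=
    Fm.sound M.μ PH_ey_F PH_ey_chk M.reps
  (fun k h0 => ((not_congr (PH_lY_E M).iff).1 (h k (M.H.iff.2 h0))))

end H2.NB
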