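import Cfsg.Agent.H24.ND0

/-! S4780: vanishing of nonlinear characters off `Wd N`. -/

set_option autoImplicit false
set_option linter.unusedVariables false
set_option linter.unusedSectionVars false

open Subgroup MulAction H19 H20 H6 Cfsg H3.PT H3.GR H3.ND
open scoped commutatorElement

namespace H2.ND

universe u
variable {G : Type u} [Group G] [Finite G]

theorem onto {A : Type u} [AddCommGroup A] [Finite A] [DistribMulAction G A] (S : AddSubgroup A)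
    {c : G} (h1 : ∀ b ∈ S, c • b ∈ S) (h2 : ∀ b ∈ S, c • b = b → b = 0) {y : A} (hy : y ∈ S) :
    ∃ z ∈ S, c • z - z = y := by
  have : Function.Injective fun z : S => (⟨c • z.1 - z.1, sub_mem (h1 _ z.2) z.2⟩ : S) := by
    intro a b e
    have e1 : c • a.1 - a.1 = c • b.1 - b.1 := congrArg Subtype.val e
    refine Subtype.ext (sub_eq_zero.1 (h2 _ (sub_mem a.2 b.2) ?_))
    rw [smul_sub, sub_eq_sub_iff_sub_eq_sub, e1]
  obtain ⟨z, hz⟩ := Finite.injective_iff_surjective.1 this ⟨y, hy⟩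
  exact ⟨z.1, z.2, congrArg Subtype.val hz⟩

theorem abs {A X : Type u} [AddCommGroup A] [Finite A] [DistribMulAction G A] (B : AddSubgroup A)
    (hB : ∀ (g : G), ∀ b ∈ B, g • b ∈ B) (s : G → X → X) (t : A → X → X)
    (s1 : ∀ a b y, s (a * b) y = s a (s b y)) (s0 : ∀ y, s 1 y = y)
    (t1 : ∀ a b y, t (a + b) y = t a (t b y)) {x : X} (t0 : t 0 x = x)
    (hc : ∀ g a y, s g (t a y) = t (g • a) (s g y)) {N : Subgroup G} [N.Normal] {g : G}
    (hg : N ⊔ zpowers g = ⊤) (hN : ∀ n ∈ N, ∀ a, s n (t a x) = t a x)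
    (fp : ∀ c, c ∉ N → ∀ b ∈ B, c • b = b → b = 0)
    (st : ∀ a ∈ B, ∃ c, c ∉ N ∧ s c (t a x) = t a x) : ∀ a ∈ B, t a x = x := by
  have t0' : ∀ g, t 0 (s g x) = s g x := fun g => by
    rw [← smul_zero g, ← hc, t0]
  have mv : ∀ {g a b}, t a (s g x) = t b x → s g x = t (-a + b) x := fun {g a b} e => by
    rw [t1, ← e, ← t1, neg_add_cancel, t0']
  let T : Subgroup G :=
    { carrier := {g | ∃ b ∈ B, s g x = t b x}
      one_mem' := ⟨0, zero_mem _, by rw [s0, t0]⟩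
      mul_mem' := by
        rintro a b ⟨a', h1, h2⟩ ⟨b', h3, h4⟩
        exact ⟨a • b' + a', add_mem (hB _ _ h3) h1, by rw [s1, h4, hc, h2, t1]⟩
      inv_mem' := by
        rintro a ⟨a', h1, h2⟩
        refine ⟨-(a⁻¹ • a') + 0, add_mem (neg_mem (hB _ _ h1)) (zero_mem _), mv ?_⟩
        rw [← hc, ← h2, ← s1, inv_mul_cancel, s0, t0] }
  have mT : ∀ {c a}, a ∈ B → s c (t a x) = t a x → c ∈ T := fun {c a} ha e =>
    ⟨-(c • a) + a, add_mem (neg_mem (hB _ _ ha)) ha, mv (by rw [← hc, e])⟩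
  have NT : N ≤ T := fun n hn => mT (zero_mem _) (hN n hn 0)
  obtain ⟨d, hd⟩ := (Subgroup.isCyclic_iff_exists_zpowers_eq_top (T ⊓ zpowers g)).1
    (Subgroup.isCyclic_of_le inf_le_right)
  have dec : ∀ c ∈ T, ∃ n ∈ N, ∃ y ∈ zpowers d, n * y = c := fun c h => by
    obtain ⟨n, hn, y, hy, rfl⟩ := (mem_sup_of_norm (nr (K := N))).1 (hg.ge (mem_top c))
    exact ⟨n, hn, y, hd.ge ⟨(mul_mem_cancel_left (NT hn)).1 h, hy⟩, rfl⟩
  have dN : d ∉ N := fun e => by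
    obtain ⟨c, h1, h2⟩ := st 0 (zero_mem _)
    obtain ⟨n, hn, y, hy, rfl⟩ := dec c (mT (zero_mem _) h2)
    exact h1 (mul_mem hn (zpowers_le.2 e hy))
  obtain ⟨b1, hb1, e1⟩ : d ∈ T := (hd.le (mem_zpowers d)).1
  obtain ⟨b0, hb0, e0⟩ := onto B (hB d) (fp d dN) (neg_mem hb1)
  have f0 : s d (t b0 x) = t b0 x := by
    rw [hc, e1, ← t1, ← sub_neg_eq_add, ← e0, sub_sub_cancel]
  have f1 : ∀ c ∈ T, s c (t b0 x) = t b0 x := fun c h => by
    obtain ⟨n, hn, y, hy, rfl⟩ := dec c h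
    obtain ⟨k, rfl⟩ := (mem_powers_iff_mem_zpowers.2 hy)
    have : ∀ k : ℕ, s (d ^ k) (t b0 x) = t b0 x := fun k => by
      induction k with
      | zero => rw [pow_zero, s0]
      | succ k ih => rw [pow_succ, s1, f0, ih]
    simp only
    rw [s1, this, hN n hn]
  have f2 : ∀ a ∈ B, t a (t b0 x) = t b0 x := fun a ha => by
    obtain ⟨c, h1, h2⟩ := st (a + b0) (add_mem ha hb0)
    have h3 := f1 c (mT (add_mem ha hb0) h2)
    let S : AddSubgroup A :=
      { carrier := {b | b ∈ B ∧ t b (t b0 x) = t b0 x}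
        zero_mem' := ⟨zero_mem _, by rw [← t1, zero_add]⟩
        add_mem' := fun {a b} h h' => ⟨add_mem h.1 h'.1, by rw [t1, h'.2, h.2]⟩
        neg_mem' := fun {a} h => ⟨neg_mem h.1, by
          have := congrArg (t (-a)) h.2
          rw [← t1, neg_add_cancel, ← t1, zero_add] at this
          exact this.symm⟩ }
    have h4 : c • a - a ∈ S := ⟨sub_mem (hB _ _ ha) ha, by
      rw [t1, hc, h3] at h2
      rw [sub_eq_neg_add, t1, h2, ← t1, neg_add_cancel, ← t1, zero_add]⟩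
    obtain ⟨z, hz, e⟩ := onto S (c := c) (fun b h => ⟨hB _ _ h.1, by rw [← h3, ← hc, h.2]⟩)
      (fun b h => fp c h1 b h.1) h4
    have : a - z = 0 := fp c h1 _ (sub_mem ha hz.1) (by
      rw [smul_sub, sub_eq_sub_iff_sub_eq_sub, e])
    rw [sub_eq_zero.1 this]; exact hz.2
  have f3 : t b0 x = x := by
    have := f2 _ (neg_mem hb0)
    rw [← t1, neg_add_cancel, t0] at this
    exact this.symm
  intro a ha
  have := f2 a ha
  rwa [f3] at this

variable {N K : Subgroup G} {p : ℕ}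

theorem WdN [hN : N.Normal] : (Wd N).Normal := ⟨fun n hn g => mem_W.2
  ⟨hN.conj_mem n (mem_W.1 hn).1 g, fun x => by
    have := (inferInstance : (⁅N, N⁆ : Subgroup G).Normal).conj_mem _ ((mem_W.1 hn).2 (g⁻¹ * x * g)) g
    convert this using 1
    group⟩⟩

theorem van [N.Normal] (h : H24.ND.Nd N K p) (fw : ∀ x, x ∉ N → Fpf N (Wd N) x)
    (st : ∀ ψ ∈ Irr N, deg ψ ≠ 1 → ¬ H20.inertia ⊤ ψ ≤ N) :
    ∀ ψ ∈ Irr N, deg ψ ≠ 1 → ∀ n, ψ n ≠ 0 → n ∈ Wd N := by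
  intro ψ hψ h1 n h2
  have hW : Wd N ≤ N := fun n hn => (mem_W.1 hn).1
  have := WdN (N := N)
  obtain ⟨g, hg⟩ := h.cyc
  have a : n ∈ N := by_contra fun e => h2 (irr_zero hψ e)
  have k := abs (G := G) (Du.Kr hW) (fun g b hb => Du.Kr_inv hW g b hb) (fun g φ => cfj g⁻¹ φ)
    (fun w φ => w.fn * φ) (fun a b y => by rw [mul_inv_rev, cfj_mul]) (fun y => by simp)
    (fun a b y => by rw [Du.fn_add, mul_assoc]) (x := ψ) (by
      have := neg_mul' (0 : Du N) hψ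
      have e : (0 : Du N).fn = (0 : Du N).fn * (0 : Du N).fn := by rw [← Du.fn_add, add_zero]
      rwa [neg_zero, ← mul_assoc, ← e] at this)
    (fun g a y => by rw [cfj_mul_fun, Du.fn_smul]) hg
    (fun n hn a => (irr_cinv (irr_mul_lin hψ a.lin)).cfj_eq (inv_mem hn))
    (fun c hc b hb e => Du.eq_zero (by
      rw [(fw c hc).eq_triv (nr (mem_top c)) (nr (mem_top c)) (normalIn_top.of_le hW le_top) b.lin hb
        fun y _ => congrFun ((Du.stab b).le e).2 y, cker_triv]))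
    (fun a ha => by
      obtain ⟨c, c1, c2⟩ := SetLike.not_le_iff_exists.1 (st _ (irr_mul_lin hψ a.lin) (by
        rwa [deg_congr (ψ := ψ) (by rw [Pi.mul_apply, a.lin.one, one_mul])]))
      exact ⟨c, c2, ((H20.inertia ⊤ _).inv_mem c1).2⟩)
  refine Du.sep le_W hW a fun w hw => (w.lin.mem_cker a).2 ?_
  have := congrFun (k w hw) n
  rwa [Pi.mul_apply, mul_left_eq_self₀, or_iff_left h2] at this

theorem cj [N.Normal] (hv : ∀ ψ ∈ Irr N, deg ψ ≠ 1 → ∀ n, ψ n ≠ 0 → n ∈ Wd N) :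
    ∀ n ∈ N, n ∉ Wd N → ∀ y ∈ ⁅N, N⁆, ∃ g ∈ N, g * n * g⁻¹ = y * n := fun n hn h1 y hy =>
  conj_of_irr_eq hn (mul_mem (der_le N hy) hn) fun ψ hψ => by
    by_cases e : deg ψ = 1
    · rw [cker_mul ((der_le_cker hψ).2 e hy)]
    · rw [not_ne_iff.1 (mt (hv ψ hψ e _) h1), not_ne_iff.1 (mt (hv ψ hψ e _) fun e' =>
        h1 ((mul_mem_cancel_left (le_W hy)).1 e'))]

end H2.ND
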