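import Cfsg.Agent.H2.ND1

/-! S4780: the fields `st` and `cw` of the Camina property. -/

set_option autoImplicit false
set_option linter.unusedVariables false
set_option linter.unusedSectionVars false

open Subgroup MulAction H19 H20 H6 Cfsg H3.PT H3.GR H3.ND
open scoped commutatorElement

namespace H2.ND

universe u
variable {G : Type u} [Group G] [Finite G] {N K : Subgroup G} {p : ℕ}

theorem st [N.Normal] (h : H24.ND.Nd N K p) :
    ∀ ψ ∈ Irr N, deg ψ ≠ 1 → ¬ H20.inertia ⊤ ψ ≤ N := fun ψ hψ h1 e => by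
  obtain ⟨χ, a, -, b⟩ := h.df
  have c := deg_Ind (L := ⊤) (irr_chr hψ) le_top
  have d := h.nd χ a _ ((Ind_irr_iff normalIn_top hψ).2 e)
    (fun e => h.ne (top_le_iff.1 (relIndex_eq_one.1 (b ▸ e)))) (by rw [b, c]; exact dvd_mul_right _ _)
  rw [b, c] at d
  exact h1 ((Nat.mul_eq_left (relIndex_ne_zero' _ _)).1 d.symm)

theorem modEq_cent {B K : Subgroup G} (hB : IsPGroup p B) [Fact p.Prime]
    (hn : B ≤ N(K)) : #K ≡ #(K ⊓ C(B)) [MOD p] := by
  let _ : MulAction B K := MulAction.compHom K (K.normalizerMonoidHom.comp (inclusion hn))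
  have h1 := hB.card_modEq_card_fixedPoints K
  have : MulAction.fixedPoints B K = (C(B).subgroupOf K : Set K) := by
    ext x
    exact ⟨fun hx => mem_cent.2 fun b hb =>
      mul_inv_eq_iff_eq_mul.1 (congrArg Subtype.val (hx ⟨b, hb⟩)), fun hx b =>
      Subtype.ext (mul_inv_eq_iff_eq_mul.2 (mem_cent.1 hx b b.2))⟩
  rwa [this, SetLike.coe_sort_coe, card_subgroupOf, inf_comm] at h1

theorem cop {W : Subgroup G} [N.Normal] [W.Normal] (fw : ∀ x, x ∉ N → Fpf N W x) :
    (N.relIndex ⊤).Coprime (W.relIndex N) := by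
  refine Nat.coprime_of_dvd fun r hr h1 h2 => ?_
  have := Fact.mk hr
  obtain ⟨R⟩ : Nonempty (Sylow r G) := inferInstance
  obtain ⟨x, x1, x2⟩ := SetLike.not_le_iff_exists.1 (fun e : (R : Subgroup G) ≤ N =>
    (syl_sylow_top R).not_dvd_relIndex hr e h1)
  have : (N.map (QuotientGroup.mk' W)).Normal := Normal.map ‹_› _ (QuotientGroup.mk'_surjective W)
  have a := modEq_cent (K := N.map (QuotientGroup.mk' W)) (R.isPGroup'.map (QuotientGroup.mk' W)) nr
  have b : N.map (QuotientGroup.mk' W) ⊓ C((R : Subgroup G).map (QuotientGroup.mk' W)) = ⊥ := by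
    rw [eq_bot_iff]
    rintro _ ⟨⟨n, hn, rfl⟩, e⟩
    have e1 := mem_cent.1 e _ (mem_map_of_mem _ x1)
    refine mem_bot.2 ((QuotientGroup.eq_one_iff n).2 (fw x x2 n hn
      ((QuotientGroup.eq_one_iff _).1 ?_)))
    change QuotientGroup.mk' W _ = 1
    rw [map_mul, map_mul, map_mul, map_inv, map_inv, e1]
    group
  rw [b, card_map_q, Subgroup.card_bot] at a
  exact hr.ne_one (Nat.dvd_one.1 ((a.dvd_iff dvd_rfl).1 h2))

theorem cw [N.Normal] (fw : ∀ x, x ∉ N → Fpf N (Wd N) x) :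
    (N.relIndex ⊤).Coprime ((Wd N).relIndex N) :=
  have := WdN (N := N)
  cop fw

theorem ca [N.Normal] (h : H24.ND.Nd N K p) (fw : ∀ x, x ∉ N → Fpf N (Wd N) x) :
    H24.ND.Ca N K p :=
  ⟨h, fw, cw fw, st h, van h fw (st h), cj (van h fw (st h))⟩

end H2.ND
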