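import Cfsg.Agent.H2.O80

/-! Generated: relations for the three-local structure. -/

set_option maxRecDepth 100000
set_option maxHeartbeats 4000000
set_option linter.unusedVariables false

open Subgroup
open scoped commutatorElement
namespace H2.O8
open H0 H0.PM H16 H19 H10.X H2.L3 H2.N9 H2.NB

def F1 {G : Type*} [Group G] (a b e x t f : G) : Prop :=
  f ^ 3 = 1 ∧
  f * a = a * f ∧
  f * b = b * f ∧
  f * e = e * f ∧
  f * x = x * f ∧
  f * t = t * f ∧ True
theorem F1.map {G G' : Type*} [Group G] [Group G'] {a b e x t f : G} (h : F1 a b e x t f) (φ : G →* G') :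
    F1 (φ a) (φ b) (φ e) (φ x) (φ t) (φ f) :=
  ⟨by simpa only [map_mul, map_pow, map_inv, map_one, map_commutatorElement] using congrArg φ h.1,
   by simpa only [map_mul, map_pow, map_inv, map_one, map_commutatorElement] using congrArg φ h.2.1,
   by simpa only [map_mul, map_pow, map_inv, map_one, map_commutatorElement] using congrArg φ h.2.2.1,
   by simpa only [map_mul, map_pow, map_inv, map_one, map_commutatorElement] using congrArg φ h.2.2.2.1,
   by simpa only [map_mul, map_pow, map_inv, map_one, map_commutatorElement] using congrArg φ h.2.2.2.2.1,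
   by simpa only [map_mul, map_pow, map_inv, map_one, map_commutatorElement] using congrArg φ h.2.2.2.2.2.1, trivial⟩
def V1 {G : Type*} [Group G] (a b e x t f v : G) : Prop :=
  v ^ 3 = 1 ∧
  v * x = x * v ∧
  v * t = t * v ∧
  v * a * v⁻¹ = a * f * (a * b * e) ∧
  v * b * v⁻¹ = b * f * (a * b * e) ∧
  v * e * v⁻¹ = e * f * (a * b * e) ∧
  v * f * v⁻¹ = f * (a * b * e)⁻¹ ∧ True
theorem V1.map {G G' : Type*} [Group G] [Group G'] {a b e x t f v : G} (h : V1 a b e x t f v) (φ : G →* G') :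
    V1 (φ a) (φ b) (φ e) (φ x) (φ t) (φ f) (φ v) :=
  ⟨by simpa only [map_mul, map_pow, map_inv, map_one, map_commutatorElement] using congrArg φ h.1,
   by simpa only [map_mul, map_pow, map_inv, map_one, map_commutatorElement] using congrArg φ h.2.1,
   by simpa only [map_mul, map_pow, map_inv, map_one, map_commutatorElement] using congrArg φ h.2.2.1,
   by simpa only [map_mul, map_pow, map_inv, map_one, map_commutatorElement] using congrArg φ h.2.2.2.1,
   by simpa only [map_mul, map_pow, map_inv, map_one, map_commutatorElement] using congrArg φ h.2.2.2.2.1,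
   by simpa only [map_mul, map_pow, map_inv, map_one, map_commutatorElement] using congrArg φ h.2.2.2.2.2.1,
   by simpa only [map_mul, map_pow, map_inv, map_one, map_commutatorElement] using congrArg φ h.2.2.2.2.2.2.1, trivial⟩
def U0 {G : Type*} [Group G] (a b e x t u : G) : Prop :=
  u * u = 1 ∧
  u * a = a * u ∧
  u * b = b * u ∧
  u * e = e * u ∧
  u * x = x * u ∧
  u * t = t * u ∧ True
theorem U0.map {G G' : Type*} [Group G] [Group G'] {a b e x t u : G} (h : U0 a b e x t u) (φ : G →* G') :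
    U0 (φ a) (φ b) (φ e) (φ x) (φ t) (φ u) :=
  ⟨by simpa only [map_mul, map_pow, map_inv, map_one, map_commutatorElement] using congrArg φ h.1,
   by simpa only [map_mul, map_pow, map_inv, map_one, map_commutatorElement] using congrArg φ h.2.1,
   by simpa only [map_mul, map_pow, map_inv, map_one, map_commutatorElement] using congrArg φ h.2.2.1,
   by simpa only [map_mul, map_pow, map_inv, map_one, map_commutatorElement] using congrArg φ h.2.2.2.1,
   by simpa only [map_mul, map_pow, map_inv, map_one, map_commutatorElement] using congrArg φ h.2.2.2.2.1,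
   by simpa only [map_mul, map_pow, map_inv, map_one, map_commutatorElement] using congrArg φ h.2.2.2.2.2.1, trivial⟩
def U1 {G : Type*} [Group G] (f v u : G) : Prop :=
  u * f * u⁻¹ = f⁻¹ ∧
  u * v * u⁻¹ = v⁻¹ ∧ True
theorem U1.map {G G' : Type*} [Group G] [Group G'] {f v u : G} (h : U1 f v u) (φ : G →* G') :
    U1 (φ f) (φ v) (φ u) :=
  ⟨by simpa only [map_mul, map_pow, map_inv, map_one, map_commutatorElement] using congrArg φ h.1,
   by simpa only [map_mul, map_pow, map_inv, map_one, map_commutatorElement] using congrArg φ h.2.1, trivial⟩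
def Q2 {G : Type*} [Group G] (f v u q : G) : Prop :=
  q * f = f * q ∧
  q * v = v * q ∧
  q * u = u * q ∧ True
theorem Q2.map {G G' : Type*} [Group G] [Group G'] {f v u q : G} (h : Q2 f v u q) (φ : G →* G') :
    Q2 (φ f) (φ v) (φ u) (φ q) :=
  ⟨by simpa only [map_mul, map_pow, map_inv, map_one, map_commutatorElement] using congrArg φ h.1,
   by simpa only [map_mul, map_pow, map_inv, map_one, map_commutatorElement] using congrArg φ h.2.1,
   by simpa only [map_mul, map_pow, map_inv, map_one, map_commutatorElement] using congrArg φ h.2.2.1, trivial⟩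
def W1 {G : Type*} [Group G] (f v u c n : G) : Prop :=
  c * f = f * c ∧
  n * f * n⁻¹ = f⁻¹ ∧
  n * v = v * n ∧
  n * c = c * n ∧
  (c * v) ^ 3 = n ∧
  c * (v * c * v⁻¹) = v * c * v⁻¹ * c ∧
  u * c = c * u ∧
  u * n = n * u ∧ True
theorem W1.map {G G' : Type*} [Group G] [Group G'] {f v u c n : G} (h : W1 f v u c n) (φ : G →* G') :
    W1 (φ f) (φ v) (φ u) (φ c) (φ n) :=
  ⟨by simpa only [map_mul, map_pow, map_inv, map_one, map_commutatorElement] using congrArg φ h.1,
   by simpa only [map_mul, map_pow, map_inv, map_one, map_commutatorElement] using congrArg φ h.2.1,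
   by simpa only [map_mul, map_pow, map_inv, map_one, map_commutatorElement] using congrArg φ h.2.2.1,
   by simpa only [map_mul, map_pow, map_inv, map_one, map_commutatorElement] using congrArg φ h.2.2.2.1,
   by simpa only [map_mul, map_pow, map_inv, map_one, map_commutatorElement] using congrArg φ h.2.2.2.2.1,
   by simpa only [map_mul, map_pow, map_inv, map_one, map_commutatorElement] using congrArg φ h.2.2.2.2.2.1,
   by simpa only [map_mul, map_pow, map_inv, map_one, map_commutatorElement] using congrArg φ h.2.2.2.2.2.2.1,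
   by simpa only [map_mul, map_pow, map_inv, map_one, map_commutatorElement] using congrArg φ h.2.2.2.2.2.2.2.1, trivial⟩
def KR {G : Type*} [Group G] (w e f v s u : G) : Prop :=
  w ^ 3 = 1 ∧
  e ^ 3 = 1 ∧
  f ^ 3 = 1 ∧
  w * e = e * w ∧
  w * f = f * w ∧
  e * f = f * e ∧
  v ^ 3 = 1 ∧
  v * w * v⁻¹ = (e * f)⁻¹ ∧
  v * e * v⁻¹ = e * f * (w * e) ∧
  v * f * v⁻¹ = f * (w * e)⁻¹ ∧
  s * s = 1 ∧
  s * w * s⁻¹ = w⁻¹ ∧
  s * e = e * s ∧
  s * f = f * s ∧
  s * (v * s * v⁻¹) = v * s * v⁻¹ * s ∧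
  u * u = 1 ∧
  u * w = w * u ∧
  u * e = e * u ∧
  u * s = s * u ∧ True
theorem KR.map {G G' : Type*} [Group G] [Group G'] {w e f v s u : G} (h : KR w e f v s u) (φ : G →* G') :
    KR (φ w) (φ e) (φ f) (φ v) (φ s) (φ u) :=
  ⟨by simpa only [map_mul, map_pow, map_inv, map_one, map_commutatorElement] using congrArg φ h.1,
   by simpa only [map_mul, map_pow, map_inv, map_one, map_commutatorElement] using congrArg φ h.2.1,
   by simpa only [map_mul, map_pow, map_inv, map_one, map_commutatorElement] using congrArg φ h.2.2.1,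
   by simpa only [map_mul, map_pow, map_inv, map_one, map_commutatorElement] using congrArg φ h.2.2.2.1,
   by simpa only [map_mul, map_pow, map_inv, map_one, map_commutatorElement] using congrArg φ h.2.2.2.2.1,
   by simpa only [map_mul, map_pow, map_inv, map_one, map_commutatorElement] using congrArg φ h.2.2.2.2.2.1,
   by simpa only [map_mul, map_pow, map_inv, map_one, map_commutatorElement] using congrArg φ h.2.2.2.2.2.2.1,
   by simpa only [map_mul, map_pow, map_inv, map_one, map_commutatorElement] using congrArg φ h.2.2.2.2.2.2.2.1,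
   by simpa only [map_mul, map_pow, map_inv, map_one, map_commutatorElement] using congrArg φ h.2.2.2.2.2.2.2.2.1,
   by simpa only [map_mul, map_pow, map_inv, map_one, map_commutatorElement] using congrArg φ h.2.2.2.2.2.2.2.2.2.1,
   by simpa only [map_mul, map_pow, map_inv, map_one, map_commutatorElement] using congrArg φ h.2.2.2.2.2.2.2.2.2.2.1,
   by simpa only [map_mul, map_pow, map_inv, map_one, map_commutatorElement] using congrArg φ h.2.2.2.2.2.2.2.2.2.2.2.1,
   by simpa only [map_mul, map_pow, map_inv, map_one, map_commutatorElement] using congrArg φ h.2.2.2.2.2.2.2.2.2.2.2.2.1,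
   by simpa only [map_mul, map_pow, map_inv, map_one, map_commutatorElement] using congrArg φ h.2.2.2.2.2.2.2.2.2.2.2.2.2.1,
   by simpa only [map_mul, map_pow, map_inv, map_one, map_commutatorElement] using congrArg φ h.2.2.2.2.2.2.2.2.2.2.2.2.2.2.1,
   by simpa only [map_mul, map_pow, map_inv, map_one, map_commutatorElement] using congrArg φ h.2.2.2.2.2.2.2.2.2.2.2.2.2.2.2.1,
   by simpa only [map_mul, map_pow, map_inv, map_one, map_commutatorElement] using congrArg φ h.2.2.2.2.2.2.2.2.2.2.2.2.2.2.2.2.1,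
   by simpa only [map_mul, map_pow, map_inv, map_one, map_commutatorElement] using congrArg φ h.2.2.2.2.2.2.2.2.2.2.2.2.2.2.2.2.2.1,
   by simpa only [map_mul, map_pow, map_inv, map_one, map_commutatorElement] using congrArg φ h.2.2.2.2.2.2.2.2.2.2.2.2.2.2.2.2.2.2.1, trivial⟩
def MR {G : Type*} [Group G] (w e f v s u q : G) : Prop :=
  q * q = 1 ∧
  q * (w * e) = w * e * q ∧
  q * f = f * q ∧
  q * v = v * q ∧
  q * u = u * q ∧
  (q * e⁻¹) ^ 3 = 1 ∧
  (s * v) ^ 3 * q = q * (s * v) ^ 3 ∧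
  q * (s * q * s⁻¹) = s * q * s⁻¹ * q ∧ True
theorem MR.map {G G' : Type*} [Group G] [Group G'] {w e f v s u q : G} (h : MR w e f v s u q) (φ : G →* G') :
    MR (φ w) (φ e) (φ f) (φ v) (φ s) (φ u) (φ q) :=
  ⟨by simpa only [map_mul, map_pow, map_inv, map_one, map_commutatorElement] using congrArg φ h.1,
   by simpa only [map_mul, map_pow, map_inv, map_one, map_commutatorElement] using congrArg φ h.2.1,
   by simpa only [map_mul, map_pow, map_inv, map_one, map_commutatorElement] using congrArg φ h.2.2.1,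
   by simpa only [map_mul, map_pow, map_inv, map_one, map_commutatorElement] using congrArg φ h.2.2.2.1,
   by simpa only [map_mul, map_pow, map_inv, map_one, map_commutatorElement] using congrArg φ h.2.2.2.2.1,
   by simpa only [map_mul, map_pow, map_inv, map_one, map_commutatorElement] using congrArg φ h.2.2.2.2.2.1,
   by simpa only [map_mul, map_pow, map_inv, map_one, map_commutatorElement] using congrArg φ h.2.2.2.2.2.2.1,
   by simpa only [map_mul, map_pow, map_inv, map_one, map_commutatorElement] using congrArg φ h.2.2.2.2.2.2.2.1, trivial⟩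
def P0 {G : Type*} [Group G] (e x v t p r w : G) : Prop :=
  e ^ 3 = 1 ∧
  x ^ 3 = 1 ∧
  v ^ 3 = 1 ∧
  p ^ 3 = 1 ∧
  r ^ 3 = 1 ∧
  w ^ 3 = 1 ∧
  t * t = 1 ∧
  t * x * t⁻¹ = x⁻¹ ∧
  t * e = e * t ∧
  t * v = v * t ∧
  x * v = v * x ∧
  ⁅e, x⁆ = p ∧
  ⁅e, v⁆ = r ∧
  ⁅x, p⁆ = w ∧
  ⁅v, r⁆ = w⁻¹ ∧
  e * p = p * e ∧
  e * r = r * e ∧
  x * r = r * x ∧
  v * p = p * v ∧
  p * r = r * p ∧
  e * w = w * e ∧
  x * w = w * x ∧
  v * w = w * v ∧
  p * w = w * p ∧
  r * w = w * r ∧ True
noncomputable def p00_Rl : List (List ℕ) := [[0,0],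
  [1,2],
  [2,1],
  [3,4],
  [4,3],
  [5,6],
  [6,5],
  [7,8],
  [8,7],
  [9,10],
  [10,9],
  [11,12],
  [12,11],
  [13,14],
  [14,13],
  [15,16],
  [16,15],
  [17,18],
  [18,17],
  [7,7,7],
  [9,9,9],
  [11,11,11],
  [3,3,3],
  [5,5,5],
  [1,1,1],
  [9,0,9,0],
  [8,0,7,0],
  [12,0,11,0],
  [12,10,11,9],
  [4,10,8,9,7],
  [6,12,8,11,7],
  [2,4,10,3,9],
  [1,6,12,5,11],
  [4,8,3,7],
  [6,8,5,7],
  [6,10,5,9],
  [4,12,3,11],
  [6,4,5,3],
  [2,8,1,7],
  [2,10,1,9],
  [2,12,1,11],
  [2,4,1,3],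
  [2,6,1,5],
  [10,8,9,13],
  [10,14,9,15],
  [5,2,17]]
theorem p00_r {G : Type*} [Group G] {t w p r e x v a b f : G}
    (h : P0 e x v t p r w)
    (ha : a = x * e * x⁻¹)
    (hb : b = x * a * x⁻¹)
    (hf : f = r⁻¹ * w) :
    Rels (nthG [t, w, w⁻¹, p, p⁻¹, r, r⁻¹, e, e⁻¹, x, x⁻¹, v, v⁻¹, a, a⁻¹, b, b⁻¹, f, f⁻¹]) p00_Rl :=
  rels_of_eqs ((InvI.cons h.2.2.2.2.2.2.1 InvI.nil) : InvI [t, w, p, r, e, x, v, a, b, f] [(nat_lit 0)])
    (AllEq.append (show AllEq [t, w, p, r, e, x, v, a, b, f] [((.pw (.v (nat_lit 4)) (nat_lit 3)), .one), ((.pw (.v (nat_lit 5)) (nat_lit 3)), .one), ((.pw (.v (nat_lit 6)) (nat_lit 3)), .one), ((.pw (.v (nat_lit 2)) (nat_lit 3)), .one), ((.pw (.v (nat_lit 3)) (nat_lit 3)), .one), ((.pw (.v (nat_lit 1)) (nat_lit 3)), .one), ((.mul (.v (nat_lit 0)) (.v (nat_lit 0))), .one), ((.mul (.mul (.v (nat_lit 0)) (.v (nat_lit 5))) (.inv (.v (nat_lit 0)))), (.inv (.v (nat_lit 5)))), ((.mul (.v (nat_lit 0)) (.v (nat_lit 4))), (.mul (.v (nat_lit 4)) (.v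 (nat_lit 0)))), ((.mul (.v (nat_lit 0)) (.v (nat_lit 6))), (.mul (.v (nat_lit 6)) (.v (nat_lit 0)))), ((.mul (.v (nat_lit 5)) (.v (nat_lit 6))), (.mul (.v (nat_lit 6)) (.v (nat_lit 5)))), ((.mul (.mul (.mul (.v (nat_lit 4)) (.v (nat_lit 5))) (.inv (.v (nat_lit 4)))) (.inv (.v (nat_lit 5)))), (.v (nat_lit 2))), ((.mul (.mul (.mul (.v (nat_lit 4)) (.v (nat_lit 6))) (.inv (.v (nat_lit 4)))) (.inv (.v (nat_lit 6)))), (.v (nat_lit 3))), ((.mul (.mul (.mul (.v (nat_lit 5)) (.v (nat_lit 2))) (.inv (.v (nat_lit 5)))) (.inv (.v (nat_lit 2)))), (.v (nat_lit 1))), ((.mul (.mul (.mul (.v (nat_lit 6)) (.v (nat_lit 3))) (.inv (.v (nat_lit 6)))) (.inv (.v (nat_lit 3)))), (.inv (.v (nat_lit 1)))), ((.mul (.v (nat_lit 4)) (.v (nat_lit 2))), (.mul (.v (nat_lit 2)) (.v (nat_lit 4)))), ((.mul (.v (nat_lit 4)) (.v (nat_lit 3))), (.mul (.v (nat_lit 3)) (.v (nat_lit 4)))), ((.mul (.v (nat_lit 5)) (.v (nat_lit 3))), (.mul (.v (nat_lit 3)) (.v (nat_lit 5)))), ((.mul (.v (nat_lit 6)) (.v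 (nat_lit 2))), (.mul (.v (nat_lit 2)) (.v (nat_lit 6)))), ((.mul (.v (nat_lit 2)) (.v (nat_lit 3))), (.mul (.v (nat_lit 3)) (.v (nat_lit 2)))), ((.mul (.v (nat_lit 4)) (.v (nat_lit 1))), (.mul (.v (nat_lit 1)) (.v (nat_lit 4)))), ((.mul (.v (nat_lit 5)) (.v (nat_lit 1))), (.mul (.v (nat_lit 1)) (.v (nat_lit 5)))), ((.mul (.v (nat_lit 6)) (.v (nat_lit 1))), (.mul (.v (nat_lit 1)) (.v (nat_lit 6)))), ((.mul (.v (nat_lit 2)) (.v (nat_lit 1))), (.mul (.v (nat_lit 1)) (.v (nat_lit 2)))), ((.mul (.v (nat_lit 3)) (.v (nat_lit 1))), (.mul (.v (nat_lit 1)) (.v (nat_lit 3))))] from h)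
    (AllEq.append (show AllEq [t, w, p, r, e, x, v, a, b, f] [((.v (nat_lit 7)), (.mul (.mul (.v (nat_lit 5)) (.v (nat_lit 4))) (.inv (.v (nat_lit 5)))))] from ⟨ha, trivial⟩)
    (AllEq.append (show AllEq [t, w, p, r, e, x, v, a, b, f] [((.v (nat_lit 8)), (.mul (.mul (.v (nat_lit 5)) (.v (nat_lit 7))) (.inv (.v (nat_lit 5)))))] from ⟨hb, trivial⟩)
    (show AllEq [t, w, p, r, e, x, v, a, b, f] [((.v (nat_lit 9)), (.mul (.inv (.v (nat_lit 3))) (.v (nat_lit 1))))] from ⟨hf, trivial⟩))))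
    [(.v (nat_lit 0)), (.v (nat_lit 1)), (.inv (.v (nat_lit 1))), (.v (nat_lit 2)), (.inv (.v (nat_lit 2))), (.v (nat_lit 3)), (.inv (.v (nat_lit 3))), (.v (nat_lit 4)), (.inv (.v (nat_lit 4))), (.v (nat_lit 5)), (.inv (.v (nat_lit 5))), (.v (nat_lit 6)), (.inv (.v (nat_lit 6))), (.v (nat_lit 7)), (.inv (.v (nat_lit 7))), (.v (nat_lit 8)), (.inv (.v (nat_lit 8))), (.v (nat_lit 9)), (.inv (.v (nat_lit 9)))] (by decide +kernel)
noncomputable def p00_0_S0 : List ℕ := [nat_lit 0x1300000700000c00e028, nat_lit 0x17000014006026, nat_lit 0x17000007000010008028, nat_lit 0x9000006000002002028]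
noncomputable def p00_0_S : List (List ℕ) := [p00_0_S0]
noncomputable def p00_0_defs : List ℕ := [(nat_lit 0x8000010070000100e0000000d0000000a0000000000000)]
noncomputable def p00_0_recs : List ℕ := [(nat_lit 0xe0000200003090000300005080000400005090000200004)]
noncomputable def p00_0_T : List (List ℕ × ℕ) := [([13,13,13], (nat_lit 0x1000000e00000b))]
noncomputable def p00_0_D : H26.Dag := ⟨[0,2,1,4,3,6,5,8,7,10,9,12,11,14,13,16,15,18,17], [[0,0],
  [1,2],
  [2,1],
  [3,4],
  [4,3],
  [5,6],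
  [6,5],
  [7,8],
  [8,7],
  [9,10],
  [10,9],
  [11,12],
  [12,11],
  [13,14],
  [14,13],
  [15,16],
  [16,15],
  [17,18],
  [18,17],
  [7,7,7],
  [10,8,9,13]], [], p00_0_defs, p00_0_recs⟩
theorem p00_0_c : p00_0_D.check p00_0_S p00_0_T = true := by decide +kernel
theorem p00_0 {G : Type*} [Group G] {g : ℕ → G} (hR : Rels g p00_Rl) {H : Subgroup G}
    (hH : ∀ k ∈ [], g k ∈ H) : evA g [13,13,13] ∈ H :=
  mem_dag (K := 19) (J := [0,1,2,3,4,5,6,7,8,9,10,11,12,13,14,15,16,17,18,19,43]) (D := p00_0_D) (by decide +kernel) p00_0_c (by decide +kernel) hR hH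
noncomputable def p00_1_S0 : List ℕ := [nat_lit 0xb000008006028, nat_lit 0x1b000018006026, nat_lit 0x1f00000200001800002a, nat_lit 0x1f00000b00001000e02c, nat_lit 0x2300000200001c00602a, nat_lit 0x2300000b00001400802c, nat_lit 0xa00000500001100c02a, nat_lit 0x1500001900000e00202c]
noncomputable def p00_1_S : List (List ℕ) := [p00_1_S0]
noncomputable def p00_1_defs : List ℕ := [(nat_lit 0xe0000200d0000200800001007000010100000000f0000000a000000090000000000000)]
noncomputable def p00_1_recs : List ℕ := [(nat_lit 0x1000003000040d00008000070900004000080a00006000080900003000070a00005000070800005000060a0000100002)]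
noncomputable def p00_1_T : List (List ℕ × ℕ) := [([15,15,15], (nat_lit 0x1400001e00000f))]
noncomputable def p00_1_D : H26.Dag := ⟨[0,2,1,4,3,6,5,8,7,10,9,12,11,14,13,16,15,18,17], [[0,0],
  [1,2],
  [2,1],
  [3,4],
  [4,3],
  [5,6],
  [6,5],
  [7,8],
  [8,7],
  [9,10],
  [10,9],
  [11,12],
  [12,11],
  [13,14],
  [14,13],
  [15,16],
  [16,15],
  [17,18],
  [18,17],
  [7,7,7],
  [9,9,9],
  [10,8,9,13],
  [10,14,9,15]], [], p00_1_defs, p00_1_recs⟩
theorem p00_1_c : p00_1_D.check p00_1_S p00_1_T = true := by decide +kernel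
theorem p00_1 {G : Type*} [Group G] {g : ℕ → G} (hR : Rels g p00_Rl) {H : Subgroup G}
    (hH : ∀ k ∈ [], g k ∈ H) : evA g [15,15,15] ∈ H :=
  mem_dag (K := 19) (J := [0,1,2,3,4,5,6,7,8,9,10,11,12,13,14,15,16,17,18,19,20,43,44]) (D := p00_1_D) (by decide +kernel) p00_1_c (by decide +kernel) hR hH
noncomputable def p00_2_S0 : List ℕ := [nat_lit 0xb000008006026]
noncomputable def p00_2_S : List (List ℕ) := [p00_2_S0]
noncomputable def p00_2_defs : List ℕ := [(nat_lit 0x8000000070000000000000)]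
noncomputable def p00_2_recs : List ℕ := [(nat_lit 0x80000100002)]
noncomputable def p00_2_T : List (List ℕ × ℕ) := [([7,7,7], (nat_lit 0xc000002000007))]
noncomputable def p00_2_D : H26.Dag := ⟨[0,2,1,4,3,6,5,8,7,10,9,12,11,14,13,16,15,18,17], [[0,0],
  [1,2],
  [2,1],
  [3,4],
  [4,3],
  [5,6],
  [6,5],
  [7,8],
  [8,7],
  [9,10],
  [10,9],
  [11,12],
  [12,11],
  [13,14],
  [14,13],
  [15,16],
  [16,15],
  [17,18],
  [18,17],
  [7,7,7]], [], p00_2_defs, p00_2_recs⟩
theorem p00_2_c : p00_2_D.check p00_2_S p00_2_T = true := by decide +kernel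
theorem p00_2 {G : Type*} [Group G] {g : ℕ → G} (hR : Rels g p00_Rl) {H : Subgroup G}
    (hH : ∀ k ∈ [], g k ∈ H) : evA g [7,7,7] ∈ H :=
  mem_dag (K := 19) (J := [0,1,2,3,4,5,6,7,8,9,10,11,12,13,14,15,16,17,18,19]) (D := p00_2_D) (by decide +kernel) p00_2_c (by decide +kernel) hR hH
noncomputable def p00_3_S0 : List ℕ := [nat_lit 0x13000010006028, nat_lit 0x1f00000700000c000034, nat_lit 0x2300002000602a, nat_lit 0x2b000028006026, nat_lit 0x2f000007000010000032, nat_lit 0x3300001100002f00002400802e, nat_lit 0x3b00000f000018006038, nat_lit 0x3f00001300000c00000501002e, nat_lit 0x43000013000018008036, nat_lit 0x1a000021008028, nat_lit 0x47000002000038006036, nat_lit 0x4700001300001c008038, nat_lit 0x2d00002a004028, nat_lit 0x1500003300003800003100802c, nat_lit 0x3500002300002c008030, nat_lit 0x2e00003500000a00001d00a02c, nat_lit 0x4300004000003d008030, nat_lit 0x57000054006028, nat_lit 0x5700000d00003900002d00a02c, nat_lit 0x5800004a00002e00005000c036, nat_lit 0x4e00004f00001a,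 nat_lit 0x2600004200004900004600802c, nat_lit 0x4600005500002600c036, nat_lit 0x4b000021000059000057006038, nat_lit 0x5d00004b00001e]
noncomputable def p00_3_S : List (List ℕ) := [p00_3_S0]
noncomputable def p00_3_defs : List ℕ := [(nat_lit 0xa000090090000900e000060100000500e00004008000040030000401000003008000030040000300900001008000010070000100400001003000010100000000e0000000a0000000900000003000000010000000000000)]
noncomputable def p00_3_recs : List ℕ := [(nat_lit 0xf0000500009ff00009000120d000100001508000140000e0d0000600009ff00013000090700011000150a0001400015030001100010070000f00011030000a00006080000600008090000d000060900006000110a0000d0001109000100000e09000050001009000070000f0a000050000e0a000080000c02000030000b08000090000a0400007000080200002000070a0000300004)]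
noncomputable def p00_3_T : List (List ℕ × ℕ) := [([16,14,15,13], (nat_lit 0x1800006100005200001b))]
noncomputable def p00_3_D : H26.Dag := ⟨[0,2,1,4,3,6,5,8,7,10,9,12,11,14,13,16,15,18,17], [[0,0],
  [1,2],
  [2,1],
  [3,4],
  [4,3],
  [5,6],
  [6,5],
  [7,8],
  [8,7],
  [9,10],
  [10,9],
  [11,12],
  [12,11],
  [13,14],
  [14,13],
  [15,16],
  [16,15],
  [17,18],
  [18,17],
  [7,7,7],
  [9,9,9],
  [3,3,3],
  [4,10,8,9,7],
  [2,4,10,3,9],
  [4,8,3,7],
  [2,10,1,9],
  [2,4,1,3],
  [10,8,9,13],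
  [10,14,9,15]], [], p00_3_defs, p00_3_recs⟩
theorem p00_3_c : p00_3_D.check p00_3_S p00_3_T = true := by decide +kernel
theorem p00_3 {G : Type*} [Group G] {g : ℕ → G} (hR : Rels g p00_Rl) {H : Subgroup G}
    (hH : ∀ k ∈ [], g k ∈ H) : evA g [16,14,15,13] ∈ H :=
  mem_dag (K := 19) (J := [0,1,2,3,4,5,6,7,8,9,10,11,12,13,14,15,16,17,18,19,20,22,29,31,33,39,41,43,44]) (D := p00_3_D) (by decide +kernel) p00_3_c (by decide +kernel) hR hH
noncomputable def p00_4_S0 : List ℕ := [nat_lit 0xb000007008026, nat_lit 0x1300000f008028, nat_lit 0x1b00001700802a, nat_lit 0x2300001f00000a00000100c02c, nat_lit 0x2b00002700000600c030, nat_lit 0x2b00002700000600001801002c, nat_lit 0x200001800001500802e, nat_lit 0x3300002f00802a, nat_lit 0xa00000800001d00a02e, nat_lit 0x3400002100001b00402e, nat_lit 0x1600002500a026, nat_lit 0x3b00003700000e00c030, nat_lit 0x3b00003700000e00001a00002a01002c, nat_lit 0x3100002e00001a]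
noncomputable def p00_4_S : List (List ℕ) := [p00_4_S0]
noncomputable def p00_4_defs : List ℕ := [(nat_lit 0x90000d008000080030000b0030000100900009008000040080000700a0000600300005003000000090000300900000007000010070000000000000)]
noncomputable def p00_4_recs : List ℕ := [(nat_lit 0xd000020000bff0000b0000e0d000020000e080000b0000a08000050000b070000c0000603000010000c030000a0000207000050000a0d000000000a090000200008030000000006090000000004070000000002)]
noncomputable def p00_4_T : List (List ℕ × ℕ) := [([8,14,7,13], (nat_lit 0x1100002a000036000002))]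
noncomputable def p00_4_D : H26.Dag := ⟨[0,2,1,4,3,6,5,8,7,10,9,12,11,14,13,16,15,18,17], [[0,0],
  [1,2],
  [2,1],
  [3,4],
  [4,3],
  [5,6],
  [6,5],
  [7,8],
  [8,7],
  [9,10],
  [10,9],
  [11,12],
  [12,11],
  [13,14],
  [14,13],
  [15,16],
  [16,15],
  [17,18],
  [18,17],
  [7,7,7],
  [9,9,9],
  [3,3,3],
  [4,10,8,9,7],
  [4,8,3,7],
  [10,8,9,13]], [], p00_4_defs, p00_4_recs⟩
theorem p00_4_c : p00_4_D.check p00_4_S p00_4_T = true := by decide +kernel
theorem p00_4 {G : Type*} [Group G] {g : ℕ → G} (hR : Rels g p00_Rl) {H : Subgroup G}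
    (hH : ∀ k ∈ [], g k ∈ H) : evA g [8,14,7,13] ∈ H :=
  mem_dag (K := 19) (J := [0,1,2,3,4,5,6,7,8,9,10,11,12,13,14,15,16,17,18,19,20,22,29,33,43]) (D := p00_4_D) (by decide +kernel) p00_4_c (by decide +kernel) hR hH
noncomputable def p00_5_S0 : List ℕ := [nat_lit 0xb00000800602c, nat_lit 0x1300001000602a, nat_lit 0x23000020006028, nat_lit 0x33000007000010000038, nat_lit 0x37000007000014006038, nat_lit 0x3b000007000018000034, nat_lit 0x3f000007000020000036, nat_lit 0x43000007000024006036, nat_lit 0x4b000002000034000038, nat_lit 0x4b00000b00001000e038, nat_lit 0x4f00000200003c000034, nat_lit 0x4f00000b00001800e034, nat_lit 0x5300000f000018000032, nat_lit 0x5b000006000054000032, nat_lit 0x5b00001300001800e032, nat_lit 0x5f00005c006026, nat_lit 0x6b000068006028, nat_lit 0x7300001f00001c00006800202e, nat_lit 0x7300001f000010000058012030, nat_lit 0x2600005800004900a036, nat_lit 0x7700007400602a, nat_lit 0x7700001900003f000038008030, nat_lit 0x7b00001f00001800006400002e,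 nat_lit 0x7700007c00005a00a032, nat_lit 0x8300001f00002800003c, nat_lit 0x8700002300001000000d010030, nat_lit 0x8b00002300002800e03a, nat_lit 0x6900008b00002300001800003901202e, nat_lit 0x6e00003a000006, nat_lit 0x6e000036000008, nat_lit 0x6e00003d00000e, nat_lit 0x6e00005b000010, nat_lit 0x62000069008028, nat_lit 0x8f00000a00007c00003a, nat_lit 0x8f00002300002c00e03c, nat_lit 0x8b00000a00007c00008500002e, nat_lit 0x9300000a00008000603a, nat_lit 0x9300002300003000803c, nat_lit 0x95000092004028, nat_lit 0x5500007700008000009900802e, nat_lit 0x9d000012000060006034, nat_lit 0x9700007a0000a100c034, nat_lit 0x9700007e000011002034, nat_lit 0x9700007200001500c038, nat_lit 0x9b00006900008e00008a004030, nat_lit 0x7500009c0000b2006038, nat_lit 0xb5000053000025004034, nat_lit 0xb500003200002d004038, nat_lit 0x9f0000ba000022004034, nat_lit 0x9f0000be00002a004038, nat_lit 0xa3000065004028, nat_lit 0xa300002100004e00e036, nat_lit 0xa70000c50000c200006500802e, nat_lit 0xa7000016000071000069006030,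 nat_lit 0x820000d50000d20000c900802e, nat_lit 0xab00003f00004800003c, nat_lit 0xaf00001e00008c000034, nat_lit 0xaf00004300004800e03a, nat_lit 0xe50000af00004300003c0000ad01202e, nat_lit 0xea0000a600000e, nat_lit 0xea0000aa000010, nat_lit 0x5d0000560000f10000dd00002e, nat_lit 0xf500005d000052004032, nat_lit 0x450000f900a026]
noncomputable def p00_5_S1 : List ℕ := [nat_lit 0xda0000ce0000f900e034, nat_lit 0x1010000820000e100c036, nat_lit 0x1050000fd00004100c03a, nat_lit 0x6f00006c0001090000e600603c, nat_lit 0x10d00006f00001e]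
noncomputable def p00_5_S : List (List ℕ) := [p00_5_S0, p00_5_S1]
noncomputable def p00_5_defs : List ℕ := [(nat_lit 0x70001000f0000f00a0000e0090000c0020000a002000090010000900e0000800d00008007000080030000800f00007008000070070000700400007003000070100000600a00006009000060090000500800004007000040090000300700003007000020030000200d0000100a00001009000010070000100400001003000010100000000f0000000d0000000a000000090000000800000007000000040000000300000002000000010000000000000)]
noncomputable def p00_5_recs : List ℕ := [(nat_lit 0x80002a00019080001c0002a040002a00018080000d00011070000b00011ff000250001109000110002b02000220002b0a000110002a080002800020040002200029080002100029010001c00028090002100028040000e00027080000c0002704000130000a08000120000a020000a00014040000a00026030000e00025080000d00025070000b0002502000170000b080000b0000d090001f0000b090000b000240a0001f00024040002300022090000a000230a0001e00023090002200020080000400009070001700009040001400009030000500009ff0001600009090000900022090000c000210a000090002007000180001d04000180001e0a0000d0001d040001c0001d090001c0001201000150001c08000190001c0a000190001a080001600017030000500016040001400016040000500014010000500013020000e00013010000300012020000c0001202000080001002000070000f02000050000e02000040000d02000030000c0a0000700008040000300004020000100002),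
  (nat_lit 0xf0000600011ff000110001b0d0001a0002b090002b0002a010002a00020)]
noncomputable def p00_5_T : List (List ℕ × ℕ) := [([8,16,7,15], (nat_lit 0x300000ed00011200001b))]
noncomputable def p00_5_D : H26.Dag := ⟨[0,2,1,4,3,6,5,8,7,10,9,12,11,14,13,16,15,18,17], [[0,0],
  [1,2],
  [2,1],
  [3,4],
  [4,3],
  [5,6],
  [6,5],
  [7,8],
  [8,7],
  [9,10],
  [10,9],
  [11,12],
  [12,11],
  [13,14],
  [14,13],
  [15,16],
  [16,15],
  [17,18],
  [18,17],
  [7,7,7],
  [9,9,9],
  [3,3,3],
  [1,1,1],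
  [4,10,8,9,7],
  [2,4,10,3,9],
  [4,8,3,7],
  [2,8,1,7],
  [2,10,1,9],
  [2,4,1,3],
  [10,8,9,13],
  [10,14,9,15]], [], p00_5_defs, p00_5_recs⟩
theorem p00_5_c : p00_5_D.check p00_5_S p00_5_T = true := by decide +kernel
theorem p00_5 {G : Type*} [Group G] {g : ℕ → G} (hR : Rels g p00_Rl) {H : Subgroup G}
    (hH : ∀ k ∈ [], g k ∈ H) : evA g [8,16,7,15] ∈ H :=
  mem_dag (K := 19) (J := [0,1,2,3,4,5,6,7,8,9,10,11,12,13,14,15,16,17,18,19,20,22,24,29,31,33,38,39,41,43,44]) (D := p00_5_D) (by decide +kernel) p00_5_c (by decide +kernel) hR hH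
noncomputable def p00_6_S0 : List ℕ := [nat_lit 0xb000008006026]
noncomputable def p00_6_S : List (List ℕ) := [p00_6_S0]
noncomputable def p00_6_defs : List ℕ := [(nat_lit 0xa000000090000000000000)]
noncomputable def p00_6_recs : List ℕ := [(nat_lit 0xa0000100002)]
noncomputable def p00_6_T : List (List ℕ × ℕ) := [([9,9,9], (nat_lit 0xc000002000007))]
noncomputable def p00_6_D : H26.Dag := ⟨[0,2,1,4,3,6,5,8,7,10,9,12,11,14,13,16,15,18,17], [[0,0],
  [1,2],
  [2,1],
  [3,4],
  [4,3],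
  [5,6],
  [6,5],
  [7,8],
  [8,7],
  [9,10],
  [10,9],
  [11,12],
  [12,11],
  [13,14],
  [14,13],
  [15,16],
  [16,15],
  [17,18],
  [18,17],
  [9,9,9]], [], p00_6_defs, p00_6_recs⟩
theorem p00_6_c : p00_6_D.check p00_6_S p00_6_T = true := by decide +kernel
theorem p00_6 {G : Type*} [Group G] {g : ℕ → G} (hR : Rels g p00_Rl) {H : Subgroup G}
    (hH : ∀ k ∈ [], g k ∈ H) : evA g [9,9,9] ∈ H :=
  mem_dag (K := 19) (J := [0,1,2,3,4,5,6,7,8,9,10,11,12,13,14,15,16,17,18,20]) (D := p00_6_D) (by decide +kernel) p00_6_c (by decide +kernel) hR hH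
noncomputable def p00_7_S0 : List ℕ := [nat_lit 0xf00000700000c008026]
noncomputable def p00_7_S : List (List ℕ) := [p00_7_S0]
noncomputable def p00_7_defs : List ℕ := [(nat_lit 0x80000100e0000000a0000000000000)]
noncomputable def p00_7_recs : List ℕ := [(nat_lit 0x90000200003)]
noncomputable def p00_7_T : List (List ℕ × ℕ) := [([14,10,7,9], (nat_lit 0x800001000000200000b))]
noncomputable def p00_7_D : H26.Dag := ⟨[0,2,1,4,3,6,5,8,7,10,9,12,11,14,13,16,15,18,17], [[0,0],
  [1,2],
  [2,1],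
  [3,4],
  [4,3],
  [5,6],
  [6,5],
  [7,8],
  [8,7],
  [9,10],
  [10,9],
  [11,12],
  [12,11],
  [13,14],
  [14,13],
  [15,16],
  [16,15],
  [17,18],
  [18,17],
  [10,8,9,13]], [], p00_7_defs, p00_7_recs⟩
theorem p00_7_c : p00_7_D.check p00_7_S p00_7_T = true := by decide +kernel
theorem p00_7 {G : Type*} [Group G] {g : ℕ → G} (hR : Rels g p00_Rl) {H : Subgroup G}
    (hH : ∀ k ∈ [], g k ∈ H) : evA g [14,10,7,9] ∈ H :=
  mem_dag (K := 19) (J := [0,1,2,3,4,5,6,7,8,9,10,11,12,13,14,15,16,17,18,43]) (D := p00_7_D) (by decide +kernel) p00_7_c (by decide +kernel) hR hH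
noncomputable def p00_8_S0 : List ℕ := [nat_lit 0xf00000700000c008026]
noncomputable def p00_8_S : List (List ℕ) := [p00_8_S0]
noncomputable def p00_8_defs : List ℕ := [(nat_lit 0xe000010100000000a0000000000000)]
noncomputable def p00_8_recs : List ℕ := [(nat_lit 0x90000200003)]
noncomputable def p00_8_T : List (List ℕ × ℕ) := [([16,10,13,9], (nat_lit 0x800001000000200000b))]
noncomputable def p00_8_D : H26.Dag := ⟨[0,2,1,4,3,6,5,8,7,10,9,12,11,14,13,16,15,18,17], [[0,0],
  [1,2],
  [2,1],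
  [3,4],
  [4,3],
  [5,6],
  [6,5],
  [7,8],
  [8,7],
  [9,10],
  [10,9],
  [11,12],
  [12,11],
  [13,14],
  [14,13],
  [15,16],
  [16,15],
  [17,18],
  [18,17],
  [10,14,9,15]], [], p00_8_defs, p00_8_recs⟩
theorem p00_8_c : p00_8_D.check p00_8_S p00_8_T = true := by decide +kernel
theorem p00_8 {G : Type*} [Group G] {g : ℕ → G} (hR : Rels g p00_Rl) {H : Subgroup G}
    (hH : ∀ k ∈ [], g k ∈ H) : evA g [16,10,13,9] ∈ H :=
  mem_dag (K := 19) (J := [0,1,2,3,4,5,6,7,8,9,10,11,12,13,14,15,16,17,18,44]) (D := p00_8_D) (by decide +kernel) p00_8_c (by decide +kernel) hR hH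
noncomputable def p00_9_S0 : List ℕ := [nat_lit 0xf00000c006026, nat_lit 0x1300000700000c00c028, nat_lit 0x17000014006026, nat_lit 0x200000500000900202a]
noncomputable def p00_9_S : List (List ℕ) := [p00_9_S0]
noncomputable def p00_9_defs : List ℕ := [(nat_lit 0xa000010090000100a00000009000000080000000000000)]
noncomputable def p00_9_recs : List ℕ := [(nat_lit 0x1000005000030a00004000050d00002000040a0000200003)]
noncomputable def p00_9_T : List (List ℕ × ℕ) := [([8,10,15,9], (nat_lit 0x1000000e000017000007))]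
noncomputable def p00_9_D : H26.Dag := ⟨[0,2,1,4,3,6,5,8,7,10,9,12,11,14,13,16,15,18,17], [[0,0],
  [1,2],
  [2,1],
  [3,4],
  [4,3],
  [5,6],
  [6,5],
  [7,8],
  [8,7],
  [9,10],
  [10,9],
  [11,12],
  [12,11],
  [13,14],
  [14,13],
  [15,16],
  [16,15],
  [17,18],
  [18,17],
  [9,9,9],
  [10,8,9,13],
  [10,14,9,15]], [], p00_9_defs, p00_9_recs⟩
theorem p00_9_c : p00_9_D.check p00_9_S p00_9_T = true := by decide +kernel
theorem p00_9 {G : Type*} [Group G] {g : ℕ → G} (hR : Rels g p00_Rl) {H : Subgroup G}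
    (hH : ∀ k ∈ [], g k ∈ H) : evA g [8,10,15,9] ∈ H :=
  mem_dag (K := 19) (J := [0,1,2,3,4,5,6,7,8,9,10,11,12,13,14,15,16,17,18,20,43,44]) (D := p00_9_D) (by decide +kernel) p00_9_c (by decide +kernel) hR hH
noncomputable def p00_10_S : List (List ℕ) := []
noncomputable def p00_10_defs : List ℕ := [(nat_lit 0x0)]
noncomputable def p00_10_recs : List ℕ := []
noncomputable def p00_10_T : List (List ℕ × ℕ) := [([], (nat_lit 0x0))]
noncomputable def p00_10_D : H26.Dag := ⟨[0,2,1,4,3,6,5,8,7,10,9,12,11,14,13,16,15,18,17], [[0,0],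
  [1,2],
  [2,1],
  [3,4],
  [4,3],
  [5,6],
  [6,5],
  [7,8],
  [8,7],
  [9,10],
  [10,9],
  [11,12],
  [12,11],
  [13,14],
  [14,13],
  [15,16],
  [16,15],
  [17,18],
  [18,17]], [], p00_10_defs, p00_10_recs⟩
theorem p00_10_c : p00_10_D.check p00_10_S p00_10_T = true := by decide +kernel
theorem p00_10 {G : Type*} [Group G] {g : ℕ → G} (hR : Rels g p00_Rl) {H : Subgroup G}
    (hH : ∀ k ∈ [], g k ∈ H) : evA g [] ∈ H :=
  mem_dag (K := 19) (J := [0,1,2,3,4,5,6,7,8,9,10,11,12,13,14,15,16,17,18]) (D := p00_10_D) (by decide +kernel) p00_10_c (by decide +kernel) hR hH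
noncomputable def p00_11_S0 : List ℕ := [nat_lit 0xf00000700000c00a026]
noncomputable def p00_11_S : List (List ℕ) := [p00_11_S0]
noncomputable def p00_11_defs : List ℕ := [(nat_lit 0xa00001009000000000000000000000)]
noncomputable def p00_11_recs : List ℕ := [(nat_lit 0x200003)]
noncomputable def p00_11_T : List (List ℕ × ℕ) := [([9,0,9,0], (nat_lit 0x800001000000200000b))]
noncomputable def p00_11_D : H26.Dag := ⟨[0,2,1,4,3,6,5,8,7,10,9,12,11,14,13,16,15,18,17], [[0,0],
  [1,2],
  [2,1],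
  [3,4],
  [4,3],
  [5,6],
  [6,5],
  [7,8],
  [8,7],
  [9,10],
  [10,9],
  [11,12],
  [12,11],
  [13,14],
  [14,13],
  [15,16],
  [16,15],
  [17,18],
  [18,17],
  [9,0,9,0]], [], p00_11_defs, p00_11_recs⟩
theorem p00_11_c : p00_11_D.check p00_11_S p00_11_T = true := by decide +kernel
theorem p00_11 {G : Type*} [Group G] {g : ℕ → G} (hR : Rels g p00_Rl) {H : Subgroup G}
    (hH : ∀ k ∈ [], g k ∈ H) : evA g [9,0,9,0] ∈ H :=
  mem_dag (K := 19) (J := [0,1,2,3,4,5,6,7,8,9,10,11,12,13,14,15,16,17,18,25]) (D := p00_11_D) (by decide +kernel) p00_11_c (by decide +kernel) hR hH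
noncomputable def p00_12_S0 : List ℕ := [nat_lit 0xf00000700000c004026]
noncomputable def p00_12_S : List (List ℕ) := [p00_12_S0]
noncomputable def p00_12_defs : List ℕ := [(nat_lit 0x800001008000000000000000000000)]
noncomputable def p00_12_recs : List ℕ := [(nat_lit 0x200003)]
noncomputable def p00_12_T : List (List ℕ × ℕ) := [([8,0,7,0], (nat_lit 0x800001000000200000b))]
noncomputable def p00_12_D : H26.Dag := ⟨[0,2,1,4,3,6,5,8,7,10,9,12,11,14,13,16,15,18,17], [[0,0],
  [1,2],
  [2,1],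
  [3,4],
  [4,3],
  [5,6],
  [6,5],
  [7,8],
  [8,7],
  [9,10],
  [10,9],
  [11,12],
  [12,11],
  [13,14],
  [14,13],
  [15,16],
  [16,15],
  [17,18],
  [18,17],
  [8,0,7,0]], [], p00_12_defs, p00_12_recs⟩
theorem p00_12_c : p00_12_D.check p00_12_S p00_12_T = true := by decide +kernel
theorem p00_12 {G : Type*} [Group G] {g : ℕ → G} (hR : Rels g p00_Rl) {H : Subgroup G}
    (hH : ∀ k ∈ [], g k ∈ H) : evA g [8,0,7,0] ∈ H :=
  mem_dag (K := 19) (J := [0,1,2,3,4,5,6,7,8,9,10,11,12,13,14,15,16,17,18,26]) (D := p00_12_D) (by decide +kernel) p00_12_c (by decide +kernel) hR hH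
noncomputable def p00_13_S0 : List ℕ := [nat_lit 0xb000007008028, nat_lit 0x1300000f00000700c02a, nat_lit 0x1b00001700000200c030, nat_lit 0x2300001f008026, nat_lit 0x1700000b00000d00602e, nat_lit 0x1100001c006028, nat_lit 0x2700000e00001000802c, nat_lit 0x2b00001a00001400c02e, nat_lit 0x2b00002700001600402a]
noncomputable def p00_13_S : List (List ℕ) := [p00_13_S0]
noncomputable def p00_13_defs : List ℕ := [(nat_lit 0x9000090000000800700007007000010090000500e000020090000300000001009000010090000000000000)]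
noncomputable def p00_13_recs : List ℕ := [(nat_lit 0x60000a0d000040000a0700003000090a00006000080a00008000050700001000080f0000000006000000000004090000000002)]
noncomputable def p00_13_T : List (List ℕ × ℕ) := [([16,0,13,0], (nat_lit 0x500001d00002200000a))]
noncomputable def p00_13_D : H26.Dag := ⟨[0,2,1,4,3,6,5,8,7,10,9,12,11,14,13,16,15,18,17], [[0,0],
  [1,2],
  [2,1],
  [3,4],
  [4,3],
  [5,6],
  [6,5],
  [7,8],
  [8,7],
  [9,10],
  [10,9],
  [11,12],
  [12,11],
  [13,14],
  [14,13],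
  [15,16],
  [16,15],
  [17,18],
  [18,17],
  [7,7,7],
  [9,9,9],
  [9,0,9,0],
  [8,0,7,0],
  [10,8,9,13],
  [10,14,9,15]], [], p00_13_defs, p00_13_recs⟩
theorem p00_13_c : p00_13_D.check p00_13_S p00_13_T = true := by decide +kernel
theorem p00_13 {G : Type*} [Group G] {g : ℕ → G} (hR : Rels g p00_Rl) {H : Subgroup G}
    (hH : ∀ k ∈ [], g k ∈ H) : evA g [16,0,13,0] ∈ H :=
  mem_dag (K := 19) (J := [0,1,2,3,4,5,6,7,8,9,10,11,12,13,14,15,16,17,18,19,20,25,26,43,44]) (D := p00_13_D) (by decide +kernel) p00_13_c (by decide +kernel) hR hH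
noncomputable def p00_14_S0 : List ℕ := [nat_lit 0xb000008006028, nat_lit 0x1300000800002c, nat_lit 0x1700001000602c, nat_lit 0xb00001000000900a02a, nat_lit 0x1b00000100002c, nat_lit 0xd000011008026, nat_lit 0x600000100001100802a, nat_lit 0x1600001900202c]
noncomputable def p00_14_S : List (List ℕ) := [p00_14_S0]
noncomputable def p00_14_defs : List ℕ := [(nat_lit 0x1100001012000000110000000500000002000000010000000000000)]
noncomputable def p00_14_recs : List ℕ := [(nat_lit 0x120000400005010000600004050000600005050000200006050000500002010000300005050000100004020000100002)]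
noncomputable def p00_14_T : List (List ℕ × ℕ) := [([17,17,17], (nat_lit 0x1800001e000013))]
noncomputable def p00_14_D : H26.Dag := ⟨[0,2,1,4,3,6,5,8,7,10,9,12,11,14,13,16,15,18,17], [[0,0],
  [1,2],
  [2,1],
  [3,4],
  [4,3],
  [5,6],
  [6,5],
  [7,8],
  [8,7],
  [9,10],
  [10,9],
  [11,12],
  [12,11],
  [13,14],
  [14,13],
  [15,16],
  [16,15],
  [17,18],
  [18,17],
  [5,5,5],
  [1,1,1],
  [2,6,1,5],
  [5,2,17]], [], p00_14_defs, p00_14_recs⟩
theorem p00_14_c : p00_14_D.check p00_14_S p00_14_T = true := by decide +kernel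
theorem p00_14 {G : Type*} [Group G] {g : ℕ → G} (hR : Rels g p00_Rl) {H : Subgroup G}
    (hH : ∀ k ∈ [], g k ∈ H) : evA g [17,17,17] ∈ H :=
  mem_dag (K := 19) (J := [0,1,2,3,4,5,6,7,8,9,10,11,12,13,14,15,16,17,18,23,24,42,45]) (D := p00_14_D) (by decide +kernel) p00_14_c (by decide +kernel) hR hH
noncomputable def p00_15_S0 : List ℕ := [nat_lit 0xb000007008026, nat_lit 0x1300000f008028, nat_lit 0x1700000600000100802e, nat_lit 0x1f00001b00000200c036, nat_lit 0x2300000f008038, nat_lit 0x27000009004028, nat_lit 0x1400001800001500402e, nat_lit 0x2b00001900002400a034, nat_lit 0x2f00002700001c00602c, nat_lit 0x1f00002100003400e02e, nat_lit 0x3700002f00002c00a032, nat_lit 0x3b000025008038, nat_lit 0x3b000033000038004034, nat_lit 0x1d000029000031002036]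
noncomputable def p00_15_S : List (List ℕ) := [p00_15_S0]
noncomputable def p00_15_defs : List ℕ := [(nat_lit 0x20000c0020000b0090000b00800009002000090050000200200003009000060080000200a000040050000300500000009000010090000000000000)]
noncomputable def p00_15_recs : List ℕ := [(nat_lit 0xe0000e000080a0000d0000e11000070000e070000a0000d050000c0000706000060000b09000080000a0a00009000030500005000091100000000080d0000000007050000200005050000000004090000000002)]
noncomputable def p00_15_T : List (List ℕ × ℕ) := [([14,18,13,17], (nat_lit 0x1100003600002e00000e))]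
noncomputable def p00_15_D : H26.Dag := ⟨[0,2,1,4,3,6,5,8,7,10,9,12,11,14,13,16,15,18,17], [[0,0],
  [1,2],
  [2,1],
  [3,4],
  [4,3],
  [5,6],
  [6,5],
  [7,8],
  [8,7],
  [9,10],
  [10,9],
  [11,12],
  [12,11],
  [13,14],
  [14,13],
  [15,16],
  [16,15],
  [17,18],
  [18,17],
  [9,9,9],
  [5,5,5],
  [4,10,8,9,7],
  [6,8,5,7],
  [6,10,5,9],
  [6,4,5,3],
  [2,8,1,7],
  [2,10,1,9],
  [10,8,9,13],
  [5,2,17]], [], p00_15_defs, p00_15_recs⟩
theorem p00_15_c : p00_15_D.check p00_15_S p00_15_T = true := by decide +kernel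
theorem p00_15 {G : Type*} [Group G] {g : ℕ → G} (hR : Rels g p00_Rl) {H : Subgroup G}
    (hH : ∀ k ∈ [], g k ∈ H) : evA g [14,18,13,17] ∈ H :=
  mem_dag (K := 19) (J := [0,1,2,3,4,5,6,7,8,9,10,11,12,13,14,15,16,17,18,20,23,29,34,35,37,38,39,43,45]) (D := p00_15_D) (by decide +kernel) p00_15_c (by decide +kernel) hR hH
noncomputable def p00_16_S0 : List ℕ := [nat_lit 0x13000010006026, nat_lit 0x1b00000c00603c, nat_lit 0x2300000700000c000036, nat_lit 0x27000007000010000034, nat_lit 0x2b00000b00001000002e, nat_lit 0x2f00002c006026, nat_lit 0x2f00000b00001400602e, nat_lit 0x3700000d00002700002000802a, nat_lit 0x3f00001100603c, nat_lit 0x4300000200003c006038, nat_lit 0x4300001300001800803a, nat_lit 0x29000026004026, nat_lit 0x1d00003700003c00002d008028, nat_lit 0x4700001900603c, nat_lit 0x6000030000035004034, nat_lit 0x2200001500003500a034, nat_lit 0x4f00004c00603c, nat_lit 0x5700003200004c00202c, nat_lit 0x5700001f00002400c030, nat_lit 0x5b00000a00002c000034, nat_lit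 0x5f00004d00005b00004900802a, nat_lit 0x6300001200003c00602c, nat_lit 0x63000060000052000046006028, nat_lit 0x67000016000064006038, nat_lit 0x6700002f00003400803a, nat_lit 0x6100005e00005a004026, nat_lit 0x66000041000004, nat_lit 0x6600004b00000c, nat_lit 0x2a00006d00006100802e, nat_lit 0x6b00005500603c, nat_lit 0x22000064000075004032, nat_lit 0x6f00007200603c, nat_lit 0x6900006100007d004034, nat_lit 0x7600005d00007d00a034, nat_lit 0x8500007900003e00c038, nat_lit 0x5300003a00008900008100603a, nat_lit 0x8d00005300001e]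
noncomputable def p00_16_S : List (List ℕ) := [p00_16_S0]
noncomputable def p00_16_defs : List ℕ := [(nat_lit 0x12000100120000e00e0000b0080000a0040000a00900008005000070100000601200005005000050120000400e000040120000300800003004000030100000200a0000200900002009000010050000100400001012000000100000000a0000000900000005000000010000000000000)]
noncomputable def p00_16_recs : List ℕ := [(nat_lit 0xf0000600013ff00013000140d000110001b090001b0001a0a0001b0001301000190001b080001a0000f01000180001a05000190001006000050000c02000130000cff000120000c090000c000190a00018000190a0001200018060000e000180a0001500017020000a0001603000080001508000120001501000120001309000110000f0a0001100006010000b00011080000500007090000e000050900005000100a0000e00010010000a0000f0a000070000d06000040000b0a0000a0000b06000030000a0200003000090200002000080100002000060a0000300004)]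
noncomputable def p00_16_T : List (List ℕ × ℕ) := [([16,18,15,17], (nat_lit 0x1c00009100004f000017))]
noncomputable def p00_16_D : H26.Dag := ⟨[0,2,1,4,3,6,5,8,7,10,9,12,11,14,13,16,15,18,17], [[0,0],
  [1,2],
  [2,1],
  [3,4],
  [4,3],
  [5,6],
  [6,5],
  [7,8],
  [8,7],
  [9,10],
  [10,9],
  [11,12],
  [12,11],
  [13,14],
  [14,13],
  [15,16],
  [16,15],
  [17,18],
  [18,17],
  [9,9,9],
  [4,10,8,9,7],
  [2,4,10,3,9],
  [6,8,5,7],
  [6,10,5,9],
  [6,4,5,3],
  [2,8,1,7],
  [2,10,1,9],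
  [2,6,1,5],
  [10,8,9,13],
  [10,14,9,15],
  [5,2,17]], [], p00_16_defs, p00_16_recs⟩
theorem p00_16_c : p00_16_D.check p00_16_S p00_16_T = true := by decide +kernel
theorem p00_16 {G : Type*} [Group G] {g : ℕ → G} (hR : Rels g p00_Rl) {H : Subgroup G}
    (hH : ∀ k ∈ [], g k ∈ H) : evA g [16,18,15,17] ∈ H :=
  mem_dag (K := 19) (J := [0,1,2,3,4,5,6,7,8,9,10,11,12,13,14,15,16,17,18,20,29,31,34,35,37,38,39,42,43,44,45]) (D := p00_16_D) (by decide +kernel) p00_16_c (by decide +kernel) hR hH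
noncomputable def p00_17_S0 : List ℕ := [nat_lit 0xf00000800602a, nat_lit 0x1300000700000c006026, nat_lit 0x1700000500602a, nat_lit 0x2000014000009004028]
noncomputable def p00_17_S : List (List ℕ) := [p00_17_S0]
noncomputable def p00_17_defs : List ℕ := [(nat_lit 0x12000020080000101200000008000000050000000000000)]
noncomputable def p00_17_recs : List ℕ := [(nat_lit 0x80000500003010000400005060000200004010000100003)]
noncomputable def p00_17_T : List (List ℕ × ℕ) := [([8,18,7,17], (nat_lit 0x1000000e00001700000b))]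
noncomputable def p00_17_D : H26.Dag := ⟨[0,2,1,4,3,6,5,8,7,10,9,12,11,14,13,16,15,18,17], [[0,0],
  [1,2],
  [2,1],
  [3,4],
  [4,3],
  [5,6],
  [6,5],
  [7,8],
  [8,7],
  [9,10],
  [10,9],
  [11,12],
  [12,11],
  [13,14],
  [14,13],
  [15,16],
  [16,15],
  [17,18],
  [18,17],
  [6,8,5,7],
  [2,8,1,7],
  [5,2,17]], [], p00_17_defs, p00_17_recs⟩
theorem p00_17_c : p00_17_D.check p00_17_S p00_17_T = true := by decide +kernel
theorem p00_17 {G : Type*} [Group G] {g : ℕ → G} (hR : Rels g p00_Rl) {H : Subgroup G}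
    (hH : ∀ k ∈ [], g k ∈ H) : evA g [8,18,7,17] ∈ H :=
  mem_dag (K := 19) (J := [0,1,2,3,4,5,6,7,8,9,10,11,12,13,14,15,16,17,18,34,38,45]) (D := p00_17_D) (by decide +kernel) p00_17_c (by decide +kernel) hR hH
noncomputable def p00_18_S0 : List ℕ := [nat_lit 0xf00000800602a, nat_lit 0x1300000700000c006026, nat_lit 0x1700000500602a, nat_lit 0x2000014000009004028]
noncomputable def p00_18_S : List (List ℕ) := [p00_18_S0]
noncomputable def p00_18_defs : List ℕ := [(nat_lit 0x120000200a000010120000000a000000050000000000000)]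
noncomputable def p00_18_recs : List ℕ := [(nat_lit 0xa0000500003010000400005060000200004010000100003)]
noncomputable def p00_18_T : List (List ℕ × ℕ) := [([10,18,9,17], (nat_lit 0x1000000e00001700000b))]
noncomputable def p00_18_D : H26.Dag := ⟨[0,2,1,4,3,6,5,8,7,10,9,12,11,14,13,16,15,18,17], [[0,0],
  [1,2],
  [2,1],
  [3,4],
  [4,3],
  [5,6],
  [6,5],
  [7,8],
  [8,7],
  [9,10],
  [10,9],
  [11,12],
  [12,11],
  [13,14],
  [14,13],
  [15,16],
  [16,15],
  [17,18],
  [18,17],
  [6,10,5,9],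
  [2,10,1,9],
  [5,2,17]], [], p00_18_defs, p00_18_recs⟩
theorem p00_18_c : p00_18_D.check p00_18_S p00_18_T = true := by decide +kernel
theorem p00_18 {G : Type*} [Group G] {g : ℕ → G} (hR : Rels g p00_Rl) {H : Subgroup G}
    (hH : ∀ k ∈ [], g k ∈ H) : evA g [10,18,9,17] ∈ H :=
  mem_dag (K := 19) (J := [0,1,2,3,4,5,6,7,8,9,10,11,12,13,14,15,16,17,18,35,39,45]) (D := p00_18_D) (by decide +kernel) p00_18_c (by decide +kernel) hR hH
noncomputable def p00_19_S0 : List ℕ := [nat_lit 0xb000007008026, nat_lit 0x1300000f008028, nat_lit 0x1b00001700802a, nat_lit 0x2300001f00802c, nat_lit 0x2f00002b00002700c02e, nat_lit 0x33000002000011008030, nat_lit 0x37000006000011008032, nat_lit 0x3f00003b00000a00000100c036, nat_lit 0x4300000a00000100803a, nat_lit 0x4700000e00000100803e, nat_lit 0x4b00000e000005008042, nat_lit 0x4f00000e000009008044, nat_lit 0x53000017008046, nat_lit 0x5b00005700802a, nat_lit 0x5f000036000007000005008036, nat_lit 0x6300002100402a, nat_lit 0x1c00004400003d00403a,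 nat_lit 0x6700001e000034008032, nat_lit 0x6b00002600001d008042, nat_lit 0x6f000026000021008044, nat_lit 0x2e00004400004d00403e, nat_lit 0x7300004100005400a03e, nat_lit 0x7b000077008026, nat_lit 0x8300007f00802a, nat_lit 0x8b00008700802c, nat_lit 0xe00001000006100a042, nat_lit 0x5e000061000065000050008038, nat_lit 0x5100006900005e00005900c036, nat_lit 0x9700009300008f00c02e, nat_lit 0x37000013000071000032, nat_lit 0x9b00005a000071008030, nat_lit 0x9f00008700000f000009008038, nat_lit 0x3b00007d00a028, nat_lit 0x6a00002e00007d00e042, nat_lit 0xa300003a008026, nat_lit 0x41000017000005000089006036, nat_lit 0xab00008a000038008030, nat_lit 0xaf0000a700001300005d008038, nat_lit 0x6900009500a028, nat_lit 0x82000085000095000042, nat_lit 0x9d00004000004900403e, nat_lit 0xb300002a00008900803e, nat_lit 0x7300008e0000a5004042, nat_lit 0xbf0000bb0000b700c02e, nat_lit 0xc30000410000ad008030, nat_lit 0xc300008e0000ac000032, nat_lit 0x190000910000b50000b2012036, nat_lit 0xcf0000cb0000c700c02e,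 nat_lit 0xd30000430000bd008030, nat_lit 0xd700003b0000bd008032, nat_lit 0xd7000040000068000030, nat_lit 0x150000450000c90000c6000036, nat_lit 0xc20000cd00001500803a, nat_lit 0xe30000df0000db00c02e, nat_lit 0xe70000470000d5008030, nat_lit 0xeb00004b0000d5008032, nat_lit 0xf30000ef00802c, nat_lit 0xf70000e200001500803e, nat_lit 0xfb0000e2000019008042, nat_lit 0xff0000e20000ce008044, nat_lit 0x1030000b9008046, nat_lit 0x10b0000e60000d1008044, nat_lit 0xee0000c10000f500403e, nat_lit 0x10f0000b200010400a03e]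
noncomputable def p00_19_S1 : List ℕ := [nat_lit 0x1130000e900402c, nat_lit 0xf40000fc000101004042, nat_lit 0x11b00011700011300007600c038, nat_lit 0x1170001050000f400010000a038, nat_lit 0x10d00011c004028, nat_lit 0x1070000f700010000010d00a036, nat_lit 0x7a0001090001110000fa006036, nat_lit 0x11900009b00006d004032, nat_lit 0x5200011d0000f900c030, nat_lit 0x10e00012100009a004032, nat_lit 0xa1000125000115004030, nat_lit 0x10800012900006b0000e800c032, nat_lit 0xd900012d0000f7000010, nat_lit 0xde0001320000fc000016, nat_lit 0x1360000ea000002, nat_lit 0x11f00013a00009100803e, nat_lit 0x10f0000b600013d004042, nat_lit 0x11f0000eb0000b4004030, nat_lit 0xaa00014500014100c032, nat_lit 0xfd00014900005600c030]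
noncomputable def p00_19_S : List (List ℕ) := [p00_19_S0, p00_19_S1]
noncomputable def p00_19_defs : List ℕ := [(nat_lit 0x60003c00c0003c0080003c0010003b0010000b00000012000000110090003700000036009000080000000e00000010009000320000003100900006000000180090002e0000002d009000050080001200600029000000280010000400700017006000210000001e00900024000000230090000300100021001000030050001f005000030070001d00700003002000180060001100c000110000000f0050000200c000160050001500500001002000050060000800c0000800800008008000060080000e00c0000600000004000000020090000a00000009009000000010000700100000005000050050000000b0000300b00000007000010070000000000000),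
  (nat_lit 0x80003a00c00045006000440010000d002000300060003d00c0003d0020002f)]
noncomputable def p00_19_recs : List ℕ := [(nat_lit 0x7000400004308000420003f010003400042110000b0004001000330003f010000d0003e010000c0003d010000b0003c0b000380003a070003800039000000800038050000c0003406000330000b0800019000350b0003300035070003300034000000600033050002f0000b0c0002a00030070002f0003000000050002f0c0002c0001c01000280002c080001a0002b020002b0000e0c0002b000130c000200002b070000d0002a0c00028000180700004000280100027000200c000270000e0c00006000270700025000260c000250000d0000003000250b0001e0001b0c00013000200b000220000801000030002205000030002007000030001e07000140001c080001b0001301000100001b010000f0001a0b0000c000190800018000050500010000180800004000170500001000161100000000140100006000130100004000120100002000110500002000100b000020000f0b0000b0000d070000b0000c00000000000b0100000000080500000000060b0000000004070000000002),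
  (nat_lit 0x140004000000430001c000002c000470c0004700043010002a00047010000d0003aff0003e0003aff0003c00038ff000390003d00000410001a000002b00045000003f00013000001b000420c00042000260700045000410b000460003f0b0003f000450500025000460c000440003b010003e00044)]
noncomputable def p00_19_T : List (List ℕ × ℕ) := [([0,18,0,17], (nat_lit 0x3100014d0000f2000012))]
noncomputable def p00_19_D : H26.Dag := ⟨[0,2,1,4,3,6,5,8,7,10,9,12,11,14,13,16,15,18,17], [[0,0],
  [1,2],
  [2,1],
  [3,4],
  [4,3],
  [5,6],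
  [6,5],
  [7,8],
  [8,7],
  [9,10],
  [10,9],
  [11,12],
  [12,11],
  [13,14],
  [14,13],
  [15,16],
  [16,15],
  [17,18],
  [18,17],
  [7,7,7],
  [11,11,11],
  [5,5,5],
  [1,1,1],
  [9,0,9,0],
  [8,0,7,0],
  [12,0,11,0],
  [12,10,11,9],
  [6,12,8,11,7],
  [1,6,12,5,11],
  [6,8,5,7],
  [6,10,5,9],
  [2,8,1,7],
  [2,10,1,9],
  [2,12,1,11],
  [2,6,1,5],
  [5,2,17]], [], p00_19_defs, p00_19_recs⟩
theorem p00_19_c : p00_19_D.check p00_19_S p00_19_T = true := by decide +kernel
theorem p00_19 {G : Type*} [Group G] {g : ℕ → G} (hR : Rels g p00_Rl) {H : Subgroup G}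
    (hH : ∀ k ∈ [], g k ∈ H) : evA g [0,18,0,17] ∈ H :=
  mem_dag (K := 19) (J := [0,1,2,3,4,5,6,7,8,9,10,11,12,13,14,15,16,17,18,19,21,23,24,25,26,27,28,30,32,34,35,38,39,40,42,45]) (D := p00_19_D) (by decide +kernel) p00_19_c (by decide +kernel) hR hH
noncomputable def p00_20_S0 : List ℕ := [nat_lit 0xb000008006026]
noncomputable def p00_20_S : List (List ℕ) := [p00_20_S0]
noncomputable def p00_20_defs : List ℕ := [(nat_lit 0xc0000000b0000000000000)]
noncomputable def p00_20_recs : List ℕ := [(nat_lit 0xc0000100002)]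
noncomputable def p00_20_T : List (List ℕ × ℕ) := [([11,11,11], (nat_lit 0xc000002000007))]
noncomputable def p00_20_D : H26.Dag := ⟨[0,2,1,4,3,6,5,8,7,10,9,12,11,14,13,16,15,18,17], [[0,0],
  [1,2],
  [2,1],
  [3,4],
  [4,3],
  [5,6],
  [6,5],
  [7,8],
  [8,7],
  [9,10],
  [10,9],
  [11,12],
  [12,11],
  [13,14],
  [14,13],
  [15,16],
  [16,15],
  [17,18],
  [18,17],
  [11,11,11]], [], p00_20_defs, p00_20_recs⟩
theorem p00_20_c : p00_20_D.check p00_20_S p00_20_T = true := by decide +kernel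
theorem p00_20 {G : Type*} [Group G] {g : ℕ → G} (hR : Rels g p00_Rl) {H : Subgroup G}
    (hH : ∀ k ∈ [], g k ∈ H) : evA g [11,11,11] ∈ H :=
  mem_dag (K := 19) (J := [0,1,2,3,4,5,6,7,8,9,10,11,12,13,14,15,16,17,18,21]) (D := p00_20_D) (by decide +kernel) p00_20_c (by decide +kernel) hR hH
noncomputable def p00_21_S0 : List ℕ := [nat_lit 0xf00000700000c00a026]
noncomputable def p00_21_S : List (List ℕ) := [p00_21_S0]
noncomputable def p00_21_defs : List ℕ := [(nat_lit 0xc0000100c0000000a0000000000000)]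
noncomputable def p00_21_recs : List ℕ := [(nat_lit 0x90000200003)]
noncomputable def p00_21_T : List (List ℕ × ℕ) := [([10,12,9,11], (nat_lit 0xc00000100000f000007))]
noncomputable def p00_21_D : H26.Dag := ⟨[0,2,1,4,3,6,5,8,7,10,9,12,11,14,13,16,15,18,17], [[0,0],
  [1,2],
  [2,1],
  [3,4],
  [4,3],
  [5,6],
  [6,5],
  [7,8],
  [8,7],
  [9,10],
  [10,9],
  [11,12],
  [12,11],
  [13,14],
  [14,13],
  [15,16],
  [16,15],
  [17,18],
  [18,17],
  [12,10,11,9]], [], p00_21_defs, p00_21_recs⟩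
theorem p00_21_c : p00_21_D.check p00_21_S p00_21_T = true := by decide +kernel
theorem p00_21 {G : Type*} [Group G] {g : ℕ → G} (hR : Rels g p00_Rl) {H : Subgroup G}
    (hH : ∀ k ∈ [], g k ∈ H) : evA g [10,12,9,11] ∈ H :=
  mem_dag (K := 19) (J := [0,1,2,3,4,5,6,7,8,9,10,11,12,13,14,15,16,17,18,28]) (D := p00_21_D) (by decide +kernel) p00_21_c (by decide +kernel) hR hH
noncomputable def p00_22_S0 : List ℕ := [nat_lit 0xf00000700000c004026]
noncomputable def p00_22_S : List (List ℕ) := [p00_22_S0]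
noncomputable def p00_22_defs : List ℕ := [(nat_lit 0xc0000100c000000000000000000000)]
noncomputable def p00_22_recs : List ℕ := [(nat_lit 0x200003)]
noncomputable def p00_22_T : List (List ℕ × ℕ) := [([0,12,0,11], (nat_lit 0xc00000100000f000007))]
noncomputable def p00_22_D : H26.Dag := ⟨[0,2,1,4,3,6,5,8,7,10,9,12,11,14,13,16,15,18,17], [[0,0],
  [1,2],
  [2,1],
  [3,4],
  [4,3],
  [5,6],
  [6,5],
  [7,8],
  [8,7],
  [9,10],
  [10,9],
  [11,12],
  [12,11],
  [13,14],
  [14,13],
  [15,16],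
  [16,15],
  [17,18],
  [18,17],
  [12,0,11,0]], [], p00_22_defs, p00_22_recs⟩
theorem p00_22_c : p00_22_D.check p00_22_S p00_22_T = true := by decide +kernel
theorem p00_22 {G : Type*} [Group G] {g : ℕ → G} (hR : Rels g p00_Rl) {H : Subgroup G}
    (hH : ∀ k ∈ [], g k ∈ H) : evA g [0,12,0,11] ∈ H :=
  mem_dag (K := 19) (J := [0,1,2,3,4,5,6,7,8,9,10,11,12,13,14,15,16,17,18,27]) (D := p00_22_D) (by decide +kernel) p00_22_c (by decide +kernel) hR hH
noncomputable def p00_23_S0 : List ℕ := [nat_lit 0xb00000800602c, nat_lit 0x1300001000602a, nat_lit 0x23000020006028, nat_lit 0x37000007000010000044, nat_lit 0x3b00000700001c000040, nat_lit 0x3f000002000038000044, nat_lit 0x3f00000b00001000e044, nat_lit 0x4300000200003c000040, nat_lit 0x4300000b00001c00e040, nat_lit 0x4700000f00001800203e, nat_lit 0x4b00000f00001c000036, nat_lit 0x5700000f00002800603c, nat_lit 0x5b00000600004c000036, nat_lit 0x5b00001300001c00e036, nat_lit 0x5f00001700001c000038, nat_lit 0x6700001700002400603a,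 nat_lit 0x7300001f000010000054012034, nat_lit 0x1a00005400004100a042, nat_lit 0x7b00001f00002c00004a, nat_lit 0x7f00002300001000000d010034, nat_lit 0x8300002300002c00e048, nat_lit 0x5100008300002300001c000035012030, nat_lit 0x56000036000006, nat_lit 0x56000032000008, nat_lit 0x4a000051008028, nat_lit 0x87000023000030008048, nat_lit 0x65000087000023000010000050010030, nat_lit 0x6a00004f00000e, nat_lit 0x8b00002300002800a02e, nat_lit 0x8f00000a000078000048, nat_lit 0x8f00002300003400e04a, nat_lit 0x8300000a000078000075000030, nat_lit 0x9700005100007e00007a004034, nat_lit 0x5d000098000082006044, nat_lit 0x8500004b000019004040, nat_lit 0x8500002a000021004044, nat_lit 0x9b00005a00003900c03e, nat_lit 0x9f00009c00604c, nat_lit 0xa300006e00004800c038, nat_lit 0xa70000a400604c, nat_lit 0xab00008a000016004040, nat_lit 0xab00008e00001e004044, nat_lit 0xaf00004d004028, nat_lit 0xaf00001500004600e042, nat_lit 0xb30000a50000a200004d008030, nat_lit 0xb3000012000059000051006034,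 nat_lit 0x620000b50000b20000a9008030, nat_lit 0xb700004700005400003a, nat_lit 0xbb0000b8006028, nat_lit 0xc30000bd00604c, nat_lit 0x420000bd0000c500a046, nat_lit 0xc700005700004800009900c032, nat_lit 0xcb00006300006c00004a, nat_lit 0xcf00003e000084000038, nat_lit 0xcf00006700006c00e048, nat_lit 0xd90000cf000067000060000091012030, nat_lit 0xde000095000004, nat_lit 0xde00009b00000c, nat_lit 0x4a0000e50000d100e03a, nat_lit 0xe90000620000d500c03a, nat_lit 0xd30000d0006026, nat_lit 0xd300003e000088006038, nat_lit 0xd3000067000070008048, nat_lit 0xf90000d3000067000025000099010030]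
noncomputable def p00_23_S1 : List ℕ := [nat_lit 0xfe00009d000004, nat_lit 0xfe00009a00000e, nat_lit 0xfe0000cd000018, nat_lit 0xd70000ca00604c, nat_lit 0xc500010d00802c, nat_lit 0xae0000ca00010d00a046, nat_lit 0x1150000b90000ea00c038, nat_lit 0xdb0000ea00604c, nat_lit 0x11200011a00011d00a040, nat_lit 0xdf0000d500604c, nat_lit 0xe10000d9000125004042, nat_lit 0x11e0000ee00012500a042, nat_lit 0x12d0001210000c1002048, nat_lit 0xbf0000bc00013100012900004a, nat_lit 0x1350000bf000020, nat_lit 0xe30000f500604c, nat_lit 0x1260000f100013d00a040, nat_lit 0x1010000f900013d004042, nat_lit 0x12a00014200014500c048, nat_lit 0xe7000072000094008048, nat_lit 0x14d0000e700007200002d0000c8010030, nat_lit 0x152000109000016]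
noncomputable def p00_23_S : List (List ℕ) := [p00_23_S0, p00_23_S1]
noncomputable def p00_23_defs : List ℕ := [(nat_lit 0x80002201200021012000200120001e0120001c008000190070001900f00018008000150120001400f0001100a000110090001100a0000e0090000d0020000c0120000b0050000b0120000a0050000a0020000a00e0000900d0000800c0000800800008007000080030000800f00007007000070030000700e0000500d0000500a0000500900005007000050070000400c00003009000030080000300700003005000030070000200300002007000010030000100f0000000e0000000d0000000c0000000a000000090000000700000005000000040000000300000002000000010000000000000)]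
noncomputable def p00_23_recs : List ℕ := [(nat_lit 0xff000280001b090001b0003406000210003408000330003409000330003205000320001e060000a0001a02000270001aff000260001a090001a000330600020000330a0001a000320b000280003105000300001c010002d000300a0002d0002e06000140002d080002b0001e04000200002c080001f0002c010001c0002b090001f0002b040000e0002a080000d0002a01000280002907000110002801000260002703000170002604000100000c080000f0000c020000c00012040000c00025040002300020090000c000230a0001d0002309000090002207000030000bff000130000b090000b0002109000200001e04000120000a03000060000aff000160000a090000a00020090000d0001f0a0000a0001e090001c0000f01000140001c060000800019060000600017030000600016040001200016040000900015040000600012040000500011010000600010020000e0001001000030000f020000d0000f02000060000e02000030000d0a0000700008040000300004020000100002),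
  (nat_lit 0xb0001b00024ff00031000240900024000390d00029000270a0003800029070003800037010003400038100001100027ff000270002f0e0002e000370900037000360a000370002701000330003707000360002d01000320003607000320003505000350002b01000350002d0100030000350c000310001b07000110001b02000290001b)]
noncomputable def p00_23_T : List (List ℕ × ℕ) := [([14,18,14,16,8,12,13,11], (nat_lit 0x2800009400015600010600013900014a0000a700002f))]
noncomputable def p00_23_D : H26.Dag := ⟨[0,2,1,4,3,6,5,8,7,10,9,12,11,14,13,16,15,18,17], [[0,0],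
  [1,2],
  [2,1],
  [3,4],
  [4,3],
  [5,6],
  [6,5],
  [7,8],
  [8,7],
  [9,10],
  [10,9],
  [11,12],
  [12,11],
  [13,14],
  [14,13],
  [15,16],
  [16,15],
  [17,18],
  [18,17],
  [7,7,7],
  [9,9,9],
  [3,3,3],
  [1,1,1],
  [12,10,11,9],
  [4,10,8,9,7],
  [6,12,8,11,7],
  [2,4,10,3,9],
  [4,8,3,7],
  [6,8,5,7],
  [6,10,5,9],
  [4,12,3,11],
  [6,4,5,3],
  [2,8,1,7],
  [2,10,1,9],
  [2,4,1,3],
  [2,6,1,5],
  [10,8,9,13],
  [10,14,9,15],
  [5,2,17]], [], p00_23_defs, p00_23_recs⟩
theorem p00_23_c : p00_23_D.check p00_23_S p00_23_T = true := by decide +kernel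
theorem p00_23 {G : Type*} [Group G] {g : ℕ → G} (hR : Rels g p00_Rl) {H : Subgroup G}
    (hH : ∀ k ∈ [], g k ∈ H) : evA g [14,18,14,16,8,12,13,11] ∈ H :=
  mem_dag (K := 19) (J := [0,1,2,3,4,5,6,7,8,9,10,11,12,13,14,15,16,17,18,19,20,22,24,28,29,30,31,33,34,35,36,37,38,39,41,42,43,44,45]) (D := p00_23_D) (by decide +kernel) p00_23_c (by decide +kernel) hR hH
noncomputable def p00_24_S0 : List ℕ := [nat_lit 0xb00000800602a, nat_lit 0x1b000018006026, nat_lit 0x23000020006028, nat_lit 0x2f00001400604a, nat_lit 0xb00001400000d00a044, nat_lit 0x33000007000010006042, nat_lit 0x37000007000014000044, nat_lit 0x3700000100001200e044, nat_lit 0x3b000007000020000040, nat_lit 0x3f000007000024006040, nat_lit 0x4300000b000010008042, nat_lit 0x43000002000034006042, nat_lit 0x4700000b00002000e040, nat_lit 0x4b000048006028, nat_lit 0x5300000f00001400c03c, nat_lit 0x5700000f00001c008034, nat_lit 0x5b00000f00002000003100e032, nat_lit 0x5f00000f00000800004000c032, nat_lit 0x6300005400604a,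 nat_lit 0x2a00005400004900a044, nat_lit 0x67000013000018000036, nat_lit 0x6b000013000020000038, nat_lit 0x6f00006c006028, nat_lit 0x7f00002100003b000034008032, nat_lit 0x8300001f00001800007800002e, nat_lit 0x7f00008400006200a034, nat_lit 0x8f00005500604a, nat_lit 0xe00006c00006900a040, nat_lit 0x93000025000045008042, nat_lit 0x9700000a00008c00402c, nat_lit 0x9700002300002800a02c, nat_lit 0x9b00000a000088006046, nat_lit 0x9b00002300002c008048, nat_lit 0x8100007e004028, nat_lit 0x5d00007f00008800008500802e, nat_lit 0x8900001600005800603e, nat_lit 0xa70000a400604a, nat_lit 0xab00008a0000a4002036, nat_lit 0xab00003300003800c03c, nat_lit 0xab00002d00004e00e044, nat_lit 0xb300001a00006c000040, nat_lit 0xb300001e00006e00e040, nat_lit 0xb700004100005b00005800602e, nat_lit 0xbb0000360000b8006046, nat_lit 0xbb00004b000050008048, nat_lit 0xb10000ae0000aa004028, nat_lit 0xb600008d000002, nat_lit 0xb600003e000006, nat_lit 0x820000b90000b1006040, nat_lit 0x7b0000050000bd0000b100a02e,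 nat_lit 0xbf00005300005c000038, nat_lit 0xbf00003a00006c00006900e032, nat_lit 0xc30000c0006028, nat_lit 0xc3000053000060006038, nat_lit 0xc70000c900604a, nat_lit 0xa60000cd0000d9004042, nat_lit 0xcb0000d500604a, nat_lit 0x4a0000c40000e1004040, nat_lit 0xda0000d10000e100a040, nat_lit 0x720000d50000e100a044, nat_lit 0xcf000052000078000038, nat_lit 0xd30000d0006028, nat_lit 0xd300005200007c006038, nat_lit 0xdf00005600008000603c]
noncomputable def p00_24_S1 : List ℕ := [nat_lit 0xdf0000a10000de008042, nat_lit 0xdf0000a10000b3000099008032, nat_lit 0xf20000650000fd002036, nat_lit 0xe30000e000010600009600602e, nat_lit 0xe700005a0000e4006046, nat_lit 0xe700006f000074008048, nat_lit 0x11500011200010e004028, nat_lit 0x11a000091000004, nat_lit 0x11a0000a300000c, nat_lit 0x11a00009500000e, nat_lit 0x82000121000115008038, nat_lit 0xeb0001260000ab0000b000a030, nat_lit 0xef00005e0000b000402c, nat_lit 0xef00007f00008c00803a, nat_lit 0xf300013500013200012d00602e, nat_lit 0xf70000ee00604a,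 nat_lit 0x9e0000e600013d004040, nat_lit 0x1020000ea00013d00a040, nat_lit 0x1450001090000f500c046, nat_lit 0xdb0000d4000149000141006048, nat_lit 0x14d0000db00001e, nat_lit 0xfb0000760000f4006046, nat_lit 0xfb00007a0000a0008048, nat_lit 0x15900015600013a004028, nat_lit 0x15e0000eb000016, nat_lit 0xff00012a00604a, nat_lit 0x11d000115000165004040, nat_lit 0xc100012a00016500a044, nat_lit 0x16d0000c50000f9002036, nat_lit 0xd70000d4000171000169000046, nat_lit 0x1750000d700001c]
noncomputable def p00_24_S : List (List ℕ) := [p00_24_S0, p00_24_S1]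
noncomputable def p00_24_defs : List ℕ := [(nat_lit 0x120002600e00025012000240080002200c0001f00c0001c00e0001b0080001a0040001a0100001900d0001900a0001900900019012000170120001600a000140090001400e00012008000110090000d00c0000c0050000c0120000a0050000a0100000900e0000800c00008004000080120000700c0000700800007007000070040000700a00005009000050100000400a0000400900004007000040120000300a000030090000300800003005000030100000200a00002009000020040000200a00001009000010050000100400001012000000100000000c0000000a000000090000000800000007000000050000000400000002000000010000000000000)]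
noncomputable def p00_24_recs : List ℕ := [(nat_lit 0x60001f00037060001e000340a0003300034060001d000330500032000240900032000310a000320001801000300003204000310002c010002f000310600017000300a0002f0003003000230002f06000160002f070002e0001e020002e00026030000600013010000a00013ff000150001309000130002e0a0002d0002e0a000150002d01000230002c020001a0002c01000180002a030000d0002a08000280002a01000280002902000150000a080000a0000c09000210000a090000a000260a00021000260900009000250a000220002501000170002409000230000b010001a00023070001d0001f040001d000200a0000c0001f0a0001a0001b06000070001a060000500019050001800010010001400018030000f000170300011000160300006000150300004000140a0001100012010000700011020000c0001001000030001002000080000f02000070000e010000b0000d02000040000d02000030000c050000b0000201000040000b0a0000700008080000500006020000100002),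
  (nat_lit 0xe0001900029ff000290003508000340003f050003f0002e0a0003f0002901000390003f0b0001c00027ff0003a0002709000270003e0a0003c0003e0f000190002aff0002a000360d000340003d090003d000370a0003d0002a01000320003d0a0003a0003c03000220003b0a0002b0003b070002b0003a050003900026070002a0001c060000a0001c02000290001cff000280001c090001c000390a00038000390a00028000380800037000330a0002a00037010003100037)]
noncomputable def p00_24_T : List (List ℕ × ℕ) := [([16,18,14,16,8,12,15,11], (nat_lit 0x280000a00001620001260001520001790000a700002b))]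
noncomputable def p00_24_D : H26.Dag := ⟨[0,2,1,4,3,6,5,8,7,10,9,12,11,14,13,16,15,18,17], [[0,0],
  [1,2],
  [2,1],
  [3,4],
  [4,3],
  [5,6],
  [6,5],
  [7,8],
  [8,7],
  [9,10],
  [10,9],
  [11,12],
  [12,11],
  [13,14],
  [14,13],
  [15,16],
  [16,15],
  [17,18],
  [18,17],
  [7,7,7],
  [9,9,9],
  [1,1,1],
  [12,10,11,9],
  [4,10,8,9,7],
  [6,12,8,11,7],
  [2,4,10,3,9],
  [4,8,3,7],
  [6,8,5,7],
  [6,10,5,9],
  [4,12,3,11],
  [6,4,5,3],
  [2,8,1,7],
  [2,10,1,9],
  [2,4,1,3],
  [2,6,1,5],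
  [10,8,9,13],
  [10,14,9,15],
  [5,2,17]], [], p00_24_defs, p00_24_recs⟩
theorem p00_24_c : p00_24_D.check p00_24_S p00_24_T = true := by decide +kernel
theorem p00_24 {G : Type*} [Group G] {g : ℕ → G} (hR : Rels g p00_Rl) {H : Subgroup G}
    (hH : ∀ k ∈ [], g k ∈ H) : evA g [16,18,14,16,8,12,15,11] ∈ H :=
  mem_dag (K := 19) (J := [0,1,2,3,4,5,6,7,8,9,10,11,12,13,14,15,16,17,18,19,20,24,28,29,30,31,33,34,35,36,37,38,39,41,42,43,44,45]) (D := p00_24_D) (by decide +kernel) p00_24_c (by decide +kernel) hR hH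
noncomputable def p00_25_S0 : List ℕ := [nat_lit 0x1f00000700001000003c, nat_lit 0x23000007000018000038, nat_lit 0x2f00000f000014006032, nat_lit 0x37000034006028, nat_lit 0x43000009006042, nat_lit 0x4700001700000c00002c01202e, nat_lit 0x600004800001600c03a, nat_lit 0x4b00001b00001000003000c02c, nat_lit 0x4f00001f000024000034, nat_lit 0x4f000002000034000038, nat_lit 0x5300002700002c000034, nat_lit 0x2200001a00002900c036, nat_lit 0x57000029006042, nat_lit 0x2500002e00003100a03a, nat_lit 0x5b00002f00003400003601002a, nat_lit 0x5f00005c006028, nat_lit 0x5f00000a000040006034, nat_lit 0x67000064006026, nat_lit 0x67000036000039008030, nat_lit 0x6b00000e00006400003e, nat_lit 0x6b00003700003c00e040, nat_lit 0x6f00000e00006800603e, nat_lit 0x77000041006042, nat_lit 0x12000060000059004038, nat_lit 0x5600004a00003d00005900e02e, nat_lit 0x6100005600004600004d00202a, nat_lit 0x7300005100006500005d00003e, nat_lit 0x6900007300001c]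
noncomputable def p00_25_S : List (List ℕ) := [p00_25_S0]
noncomputable def p00_25_defs : List ℕ := [(nat_lit 0x120000f00d0000e00e0000d00d0000d0080000c0070000c00a0000b0090000b0120000a009000090090000700800006003000050120000400a0000400f0000300a0000300900003008000030090000200500002009000010050000100c00000009000000080000000500000003000000010000000000000)]
noncomputable def p00_25_recs : List ℕ := [(nat_lit 0xe0000e00010ff000100001c080001a0001d030001d0001b0a0001d0001001000170001d0a000190001b090000e0001a0a000180001a030001600019080001800019060000f000170a000160001707000150001603000150000c010001400015030001400013060000a00014020000c000130600008000130b0000b00012030000a00008010000a00011010000b000100a0000c0000d06000040000b020000500008020000300007)]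
noncomputable def p00_25_T : List (List ℕ × ℕ) := [([8,18,14,16,8,12,7,11], (nat_lit 0x1c00004c00001e00002f00003c00006d000043000013))]
noncomputable def p00_25_D : H26.Dag := ⟨[0,2,1,4,3,6,5,8,7,10,9,12,11,14,13,16,15,18,17], [[0,0],
  [1,2],
  [2,1],
  [3,4],
  [4,3],
  [5,6],
  [6,5],
  [7,8],
  [8,7],
  [9,10],
  [10,9],
  [11,12],
  [12,11],
  [13,14],
  [14,13],
  [15,16],
  [16,15],
  [17,18],
  [18,17],
  [7,7,7],
  [9,9,9],
  [4,10,8,9,7],
  [6,12,8,11,7],
  [2,4,10,3,9],
  [4,8,3,7],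
  [6,8,5,7],
  [6,10,5,9],
  [6,4,5,3],
  [2,10,1,9],
  [2,4,1,3],
  [2,6,1,5],
  [10,8,9,13],
  [10,14,9,15],
  [5,2,17]], [], p00_25_defs, p00_25_recs⟩
theorem p00_25_c : p00_25_D.check p00_25_S p00_25_T = true := by decide +kernel
theorem p00_25 {G : Type*} [Group G] {g : ℕ → G} (hR : Rels g p00_Rl) {H : Subgroup G}
    (hH : ∀ k ∈ [], g k ∈ H) : evA g [8,18,14,16,8,12,7,11] ∈ H :=
  mem_dag (K := 19) (J := [0,1,2,3,4,5,6,7,8,9,10,11,12,13,14,15,16,17,18,19,20,29,30,31,33,34,35,37,39,41,42,43,44,45]) (D := p00_25_D) (by decide +kernel) p00_25_c (by decide +kernel) hR hH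
noncomputable def p00_26_S0 : List ℕ := [nat_lit 0xb00000800602c, nat_lit 0x1300001000602a, nat_lit 0x23000020006028, nat_lit 0x3700001800604a, nat_lit 0xb00001800000d00a044, nat_lit 0x3b000007000010000042, nat_lit 0x3f000007000018000044, nat_lit 0x3f00000100001200e044, nat_lit 0x4b00000f00001800203a, nat_lit 0x53000050006026, nat_lit 0x5700001300001800c03a, nat_lit 0x5700000600004c00203a, nat_lit 0x5b000006000050000034, nat_lit 0x5b00001300001c00e034, nat_lit 0x6700001700001c000036, nat_lit 0x6b000017000020000038, nat_lit 0x6f00006c006028, nat_lit 0x8300003900604a, nat_lit 0xe00006800004500a03c, nat_lit 0x8b00001f00001c00007c00002e, nat_lit 0x8700008c00004e00a034, nat_lit 0x9300003d00604a, nat_lit 0xe00006c00005500a03e, nat_lit 0x9700002300002c00e046, nat_lit 0x5d00009700002300001c00003501202e, nat_lit 0x62000032000008, nat_lit 0x9b000023000030008046, nat_lit 0x6900009b00002300001000005401002e, nat_lit 0x6e00005300000e, nat_lit 0x6e000026000010, nat_lit 0x9f00000a00008c000046,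 nat_lit 0x9f00002300003400e048, nat_lit 0x7d00007a004028, nat_lit 0x9700000a00008c00007900002e, nat_lit 0xa300002700001800000d010032, nat_lit 0xa70000a400604a, nat_lit 0x1e00008900008d004040, nat_lit 0xab00005d00008600007e004030, nat_lit 0x650000ac000096006042, nat_lit 0xaf00007200001500c03c, nat_lit 0xb30000b000602c, nat_lit 0xb300007600009a00403c, nat_lit 0xb700007200004c00c036, nat_lit 0xbb0000a50000a200a03c, nat_lit 0xc30000c000604a, nat_lit 0xbb0000c00000b100a044, nat_lit 0xc700003b00004000203a, nat_lit 0xcb00001e00005a00e03e, nat_lit 0xcf00001a00007000603e, nat_lit 0xd7000043000048008046, nat_lit 0xc50000d700004300003c00009d01002e, nat_lit 0xca00009e00000e, nat_lit 0xca0000ad000010, nat_lit 0xdb0000ce0000c800c036, nat_lit 0xdb0000d20000b6002036, nat_lit 0xe3000057000060000038, nat_lit 0xe300002a00006c00005500e030, nat_lit 0xe70000e4006028, nat_lit 0xe7000057000064006038, nat_lit 0xe700002a0000190000d000c030, nat_lit 0xeb0000dd00604a, nat_lit 0xbe0000e10000f1004042,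 nat_lit 0xdf00002d0000e40000f100e030, nat_lit 0xef0000e900604a]
noncomputable def p00_26_S1 : List ℕ := [nat_lit 0xf20000e50000fd00a03e, nat_lit 0xc10000ed0000fd004042, nat_lit 0xf300003a00007c000038, nat_lit 0xf70000f4006028, nat_lit 0xf700003a000080006038, nat_lit 0xfb00003e00008800603a, nat_lit 0x10a000051000115002036, nat_lit 0xff0000fc000119000034, nat_lit 0xff00003e00008c000036, nat_lit 0xbf00008200012100c038, nat_lit 0x103000100006026, nat_lit 0x10300003e000090006036, nat_lit 0x10700006b000074006048, nat_lit 0x10b00006f000074008046, nat_lit 0x13500010b00006f0000210000a901002e, nat_lit 0x13a0000aa00000e, nat_lit 0xf90000df00013d00013100202e, nat_lit 0x14100010200010500010c00c02e, nat_lit 0x10f000042000100000046, nat_lit 0x10f00006f00007800e048, nat_lit 0x14d00014a000125004028, nat_lit 0x1520000b1000004, nat_lit 0x152000126000012, nat_lit 0x11300010900604a, nat_lit 0x11700011100604a, nat_lit 0x460000f800016100403e, nat_lit 0x15e00010d00016100a03e, nat_lit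 0x11f00012100604a, nat_lit 0x15500015a00016d00a03e, nat_lit 0x15e00011d00016d00a042, nat_lit 0x12300012d00604a, nat_lit 0x5600010400017900403c, nat_lit 0x16e00012900017900a03c, nat_lit 0x1270000f6000142006034, nat_lit 0x1270000be00017e00803c, nat_lit 0x12b0000cb0000d4006048, nat_lit 0x12f0000c200010c00603c, nat_lit 0x12f0000cf0000d4008046, nat_lit 0x19500012f0000cf0000b90000d501002e, nat_lit 0x19a0000da000010, nat_lit 0x18100017100019d00018d00002e, nat_lit 0x1a1000181000175004034, nat_lit 0x1a1000189000186006042, nat_lit 0x1920001450001a900203e, nat_lit 0x1690001a50001ad00c046, nat_lit 0x1950001b100016500011c002048, nat_lit 0x1b600011b000020]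
noncomputable def p00_26_S : List (List ℕ) := [p00_26_S0, p00_26_S1]
noncomputable def p00_26_defs : List ℕ := [(nat_lit 0x70001a0040001a00a0001900900019012000180120001700a000150090001500900012005000110080001000e0000f00a0000f0090000f0050000e0120000c0050000c0020000c0050000b0020000b0010000b0020000a012000090050000900d000080080000800700008012000070080000700700007004000070120000600a000060090000600f0000500e0000500a00005009000050070000500a0000400900004007000040050000400800003007000030050000300e0000100a0000100500001003000010120000000f0000000e0000000d0000000c0000000a000000090000000700000005000000040000000300000002000000010000000000000),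
  (nat_lit 0x8000330100003200800032012000230120002200f000200120001f0120001e00d0001b0080001b0100001a0080001a)]
noncomputable def p00_26_recs : List ℕ := [(nat_lit 0x1000390003b030003a00037040003a0003201000380003a0300033000390600018000390a0003800039030002400038060001700038080003000036070003100036080002e00011070000e00011ff0002b00011090001100035020001b00033010002400032040000f0003105000300002e010002f00030070002b0002e07000120002d080000c0002c020002b0002c070000e0002b020000c00013040000c0002a0c000290000f0100028000290b0000d0002804000270002509000220000c090000c000270a000220002708000130000b07000030000bff000140000b090000b0002604000130000aff000160000a090000a0002509000240000d010001a00024070001e00021040001e0002207000200000d0100019000200a0001a0001b06000070001a060000600019030000600016040001300016040001200015030000500015080001300014040000500012010000d0000f02000050000f02000030000e050000d0000201000050000d0a0000700008040000300004020000100002),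
  (nat_lit 0x100002000034ff00046000340d0004b000450a0004a0004b02000410004a08000440004a040004a00048080003000034ff000360003409000340004b02000420004b0a000340004a010004800049040004100049070004800047080004800024010004000048030004700044090004700030010003f000470900045000440a0004500020010003d00045010003c00044090003f0001d02000300001dff0002f0001d090001d000430a0003f0004309000420004108000410003a07000120001cff0002d0001c090001c000420a0001c00041060002300040080003f00040090003f0002f06000220003f040003c0003f080003e0003c06000210003e060001f0003d0a0003c0003d060001e0003c040003b0001b090003b0003a)]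
noncomputable def p00_26_T : List (List ℕ × ℕ) := [([18,7,15,13,12,17,11], (nat_lit 0x280000a80000910000d40001ba000049000037))]
noncomputable def p00_26_D : H26.Dag := ⟨[0,2,1,4,3,6,5,8,7,10,9,12,11,14,13,16,15,18,17], [[0,0],
  [1,2],
  [2,1],
  [3,4],
  [4,3],
  [5,6],
  [6,5],
  [7,8],
  [8,7],
  [9,10],
  [10,9],
  [11,12],
  [12,11],
  [13,14],
  [14,13],
  [15,16],
  [16,15],
  [17,18],
  [18,17],
  [7,7,7],
  [9,9,9],
  [3,3,3],
  [1,1,1],
  [4,10,8,9,7],
  [2,4,10,3,9],
  [1,6,12,5,11],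
  [4,8,3,7],
  [6,8,5,7],
  [6,10,5,9],
  [6,4,5,3],
  [2,8,1,7],
  [2,10,1,9],
  [2,12,1,11],
  [2,4,1,3],
  [2,6,1,5],
  [10,8,9,13],
  [10,14,9,15],
  [5,2,17]], [], p00_26_defs, p00_26_recs⟩
theorem p00_26_c : p00_26_D.check p00_26_S p00_26_T = true := by decide +kernel
theorem p00_26 {G : Type*} [Group G] {g : ℕ → G} (hR : Rels g p00_Rl) {H : Subgroup G}
    (hH : ∀ k ∈ [], g k ∈ H) : evA g [18,7,15,13,12,17,11] ∈ H :=
  mem_dag (K := 19) (J := [0,1,2,3,4,5,6,7,8,9,10,11,12,13,14,15,16,17,18,19,20,22,24,29,31,32,33,34,35,37,38,39,40,41,42,43,44,45]) (D := p00_26_D) (by decide +kernel) p00_26_c (by decide +kernel) hR hH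
noncomputable def p00_27_S0 : List ℕ := [nat_lit 0x13000010006028, nat_lit 0x1f00000700000c000034, nat_lit 0x2300002000602a, nat_lit 0x2b000028006026, nat_lit 0x2f000007000010000032, nat_lit 0x3300001100002f00002400802e, nat_lit 0x3b00000f000018006038, nat_lit 0x3f00001300000c00000501002e, nat_lit 0x43000013000018008036, nat_lit 0x1a000021008028, nat_lit 0x47000002000038006036, nat_lit 0x4700001300001c008038, nat_lit 0x2d00002a004028, nat_lit 0x1500003300003800003100802c, nat_lit 0x3500002300002c008030, nat_lit 0x2e00003500000a00001d00a02c, nat_lit 0x4300004000003d008030, nat_lit 0x53000050006028, nat_lit 0x5300000d00003900002d00a02c, nat_lit 0x2600004200004900004600802c, nat_lit 0x4600004d00002600c036, nat_lit 0x4b000021000051000053006038, nat_lit 0x5500004b00001e]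
noncomputable def p00_27_S : List (List ℕ) := [p00_27_S0]
noncomputable def p00_27_defs : List ℕ := [(nat_lit 0xa00009009000090100000500e00004008000040030000401000003008000030040000300900001008000010070000100400001003000010100000000e0000000a0000000900000003000000010000000000000)]
noncomputable def p00_27_recs : List ℕ := [(nat_lit 0xf0000500009ff00009000120d000100001408000130000e0700011000140a0001300014030001100010070000f00011030000a00006080000600008090000d000060900006000110a0000d0001109000100000e09000050001009000070000f0a000050000e0a000080000c02000030000b08000090000a0400007000080200002000070a0000300004)]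
noncomputable def p00_27_T : List (List ℕ × ℕ) := [([1,7,15,13], (nat_lit 0x18000059000027000007))]
noncomputable def p00_27_D : H26.Dag := ⟨[0,2,1,4,3,6,5,8,7,10,9,12,11,14,13,16,15,18,17], [[0,0],
  [1,2],
  [2,1],
  [3,4],
  [4,3],
  [5,6],
  [6,5],
  [7,8],
  [8,7],
  [9,10],
  [10,9],
  [11,12],
  [12,11],
  [13,14],
  [14,13],
  [15,16],
  [16,15],
  [17,18],
  [18,17],
  [7,7,7],
  [9,9,9],
  [3,3,3],
  [4,10,8,9,7],
  [2,4,10,3,9],
  [4,8,3,7],
  [2,10,1,9],
  [2,4,1,3],
  [10,8,9,13],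
  [10,14,9,15]], [], p00_27_defs, p00_27_recs⟩
theorem p00_27_c : p00_27_D.check p00_27_S p00_27_T = true := by decide +kernel
theorem p00_27 {G : Type*} [Group G] {g : ℕ → G} (hR : Rels g p00_Rl) {H : Subgroup G}
    (hH : ∀ k ∈ [], g k ∈ H) : evA g [1,7,15,13] ∈ H :=
  mem_dag (K := 19) (J := [0,1,2,3,4,5,6,7,8,9,10,11,12,13,14,15,16,17,18,19,20,22,29,31,33,39,41,43,44]) (D := p00_27_D) (by decide +kernel) p00_27_c (by decide +kernel) hR hH
noncomputable def p00_28_S0 : List ℕ := [nat_lit 0xb000007008026, nat_lit 0x1300000f008028, nat_lit 0x1b00001700000600000100c02c, nat_lit 0x2300001f00000200c02e, nat_lit 0x27000023004026, nat_lit 0x2b00000a00002000001100802a, nat_lit 0x1100001500002b00c02e, nat_lit 0x1c000019000024002030]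
noncomputable def p00_28_S : List (List ℕ) := [p00_28_S0]
noncomputable def p00_28_defs : List ℕ := [(nat_lit 0xa0000600900008009000070080000200a00005004000040010000300100000009000010090000000000000)]
noncomputable def p00_28_recs : List ℕ := [(nat_lit 0x1000008000050d000060000708000090000a0900007000090d0000000008030000200006010000000004090000000002)]
noncomputable def p00_28_T : List (List ℕ × ℕ) := [([2,4,16,13], (nat_lit 0xd00001d000017000006))]
noncomputable def p00_28_D : H26.Dag := ⟨[0,2,1,4,3,6,5,8,7,10,9,12,11,14,13,16,15,18,17], [[0,0],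
  [1,2],
  [2,1],
  [3,4],
  [4,3],
  [5,6],
  [6,5],
  [7,8],
  [8,7],
  [9,10],
  [10,9],
  [11,12],
  [12,11],
  [13,14],
  [14,13],
  [15,16],
  [16,15],
  [17,18],
  [18,17],
  [9,9,9],
  [1,1,1],
  [4,10,8,9,7],
  [2,4,10,3,9],
  [10,8,9,13],
  [10,14,9,15]], [], p00_28_defs, p00_28_recs⟩
theorem p00_28_c : p00_28_D.check p00_28_S p00_28_T = true := by decide +kernel
theorem p00_28 {G : Type*} [Group G] {g : ℕ → G} (hR : Rels g p00_Rl) {H : Subgroup G}
    (hH : ∀ k ∈ [], g k ∈ H) : evA g [2,4,16,13] ∈ H :=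
  mem_dag (K := 19) (J := [0,1,2,3,4,5,6,7,8,9,10,11,12,13,14,15,16,17,18,20,24,29,31,43,44]) (D := p00_28_D) (by decide +kernel) p00_28_c (by decide +kernel) hR hH
noncomputable def p00_29_S0 : List ℕ := [nat_lit 0xb00000800602c, nat_lit 0x17000014006028, nat_lit 0x23000007000010000038, nat_lit 0x2700002400602a, nat_lit 0x2f00002c006026, nat_lit 0x33000007000014000036, nat_lit 0x37000034006028, nat_lit 0x37000007000018006036, nat_lit 0x3b000002000028006038, nat_lit 0x3f000002000034000036, nat_lit 0x43000015000033000028008030, nat_lit 0x4b00001300001c00603c, nat_lit 0x4f000017000010000009010030, nat_lit 0x5300001700000c00003c00a030, nat_lit 0x5700001700001c00803a, nat_lit 0x2e000039008028, nat_lit 0x5b00000600004800603a, nat_lit 0x5b00001700002000803c, nat_lit 0x45000042004028, nat_lit 0x2900004300004800004900802e, nat_lit 0x4d000027000030008032, nat_lit 0x4600004d00000e00003100a02e, nat_lit 0x57000050000055008032, nat_lit 0x6700004d00002100c034, nat_lit 0x6f00006c006028,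 nat_lit 0x6f00001100005100004500a02e, nat_lit 0x3e00005a00006500006200802e, nat_lit 0x6200006900003e00c03a, nat_lit 0x6300003900006d00006f00603c, nat_lit 0x7100006300001e, nat_lit 0x7300002500003f00003c008030, nat_lit 0x7300001900001e00005400a030, nat_lit 0x3e00005700005400007d00a02e, nat_lit 0x3d00008200007e00c03a, nat_lit 0x3500008500003a00006000203c, nat_lit 0x8a00005f000020, nat_lit 0x7700007400007a00005d00602e, nat_lit 0x7a00005d00009100203a, nat_lit 0x7b00001a00007800603a, nat_lit 0x7d00009600009900203c]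
noncomputable def p00_29_S : List (List ℕ) := [p00_29_S0]
noncomputable def p00_29_defs : List ℕ := [(nat_lit 0xe0000d0080000c0040000c00a0000a0090000a001000070100000600f0000600e00005008000050040000500300005010000040080000400400004009000020040000200a0000100900001008000010070000100400001003000010100000000e0000000a000000090000000300000002000000010000000000000)]
noncomputable def p00_29_recs : List ℕ := [(nat_lit 0x100001e000140a0001d0001e0e0001d0001c0a000190001d10000060000eff000170000e0d0001400015070001c0001209000140001c0a0000e0001c0f000060000aff0000a000180d000150001b080001a0001207000160001b0a0001a0001b070000e00019030001600015070001300016030000b000070800007000090900011000070900007000160a0001100016090001500012090000600015090000e000140900008000130a00006000120a0000900010020000c0000f02000090000e02000050000d0a0000c0000d02000040000c080000a0000b0400008000090200003000080a0000400005020000100002)]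
noncomputable def p00_29_T : List (List ℕ × ℕ) := [([14,16,8,10,14,15,9,16,13], (nat_lit 0x1c00008d00003500009e00007b00003700002c00007600001b))]
noncomputable def p00_29_D : H26.Dag := ⟨[0,2,1,4,3,6,5,8,7,10,9,12,11,14,13,16,15,18,17], [[0,0],
  [1,2],
  [2,1],
  [3,4],
  [4,3],
  [5,6],
  [6,5],
  [7,8],
  [8,7],
  [9,10],
  [10,9],
  [11,12],
  [12,11],
  [13,14],
  [14,13],
  [15,16],
  [16,15],
  [17,18],
  [18,17],
  [7,7,7],
  [9,9,9],
  [3,3,3],
  [1,1,1],
  [4,10,8,9,7],
  [2,4,10,3,9],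
  [4,8,3,7],
  [2,8,1,7],
  [2,10,1,9],
  [2,4,1,3],
  [10,8,9,13],
  [10,14,9,15]], [], p00_29_defs, p00_29_recs⟩
theorem p00_29_c : p00_29_D.check p00_29_S p00_29_T = true := by decide +kernel
theorem p00_29 {G : Type*} [Group G] {g : ℕ → G} (hR : Rels g p00_Rl) {H : Subgroup G}
    (hH : ∀ k ∈ [], g k ∈ H) : evA g [14,16,8,10,14,15,9,16,13] ∈ H :=
  mem_dag (K := 19) (J := [0,1,2,3,4,5,6,7,8,9,10,11,12,13,14,15,16,17,18,19,20,22,24,29,31,33,38,39,41,43,44]) (D := p00_29_D) (by decide +kernel) p00_29_c (by decide +kernel) hR hH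
noncomputable def p00_30_S0 : List ℕ := [nat_lit 0xb00000800602c, nat_lit 0x1b000018006028, nat_lit 0x27000007000010000038, nat_lit 0x2b00002800602a, nat_lit 0x33000030006026, nat_lit 0x37000007000018000036, nat_lit 0x3b000038006028, nat_lit 0x43000002000028000038, nat_lit 0x4300000b00001000e038, nat_lit 0x4700004400602a, nat_lit 0x4700000200002c006038, nat_lit 0x4b000002000038000036, nat_lit 0x5300001300001800c03a, nat_lit 0x57000054006028, nat_lit 0x600003100003500203c, nat_lit 0x5b00001700001400005400202e, nat_lit 0x5b000017000010000050012030, nat_lit 0x2200005000004100a036, nat_lit 0x5f00001500003700002c008030, nat_lit 0x6700001700002000603c, nat_lit 0x6b00001b000010000009010030, nat_lit 0x6f00001b00002000803a, nat_lit 0x4e000055008028, nat_lit 0x7300000600006400603a, nat_lit 0x7300001b00002400803c, nat_lit 0x6100005e004028, nat_lit 0x4900005f00006400006500802e, nat_lit 0x6900002b000034008032, nat_lit 0x6200006900000e00005100a02e, nat_lit 0x6f00006c000071008032,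 nat_lit 0x7b00006900002900c034, nat_lit 0x83000080006028, nat_lit 0x8300001100006d00006100a02e, nat_lit 0x5a00007600008100007e00802e, nat_lit 0x7e00008500005a00c03a, nat_lit 0x7700005500008900008300603c, nat_lit 0x8d00007700001e, nat_lit 0x8700002d00004b000048008030, nat_lit 0x8b00008800009600007900602e, nat_lit 0x8f00003b00002800001d010030, nat_lit 0x4500009d008028, nat_lit 0xa100003e00003500203a, nat_lit 0x9300001a00008c00603a, nat_lit 0x9300003b00004000803c, nat_lit 0xad0000aa00009a004028, nat_lit 0xb200007a00000e, nat_lit 0x9e0000250000b50000ad00802e, nat_lit 0x9d0000ba0000ae00203a]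
noncomputable def p00_30_S : List (List ℕ) := [p00_30_S0]
noncomputable def p00_30_defs : List ℕ := [(nat_lit 0xe0000e0030000e0080000d0040000d00a0000b0090000b001000080100000700e0000600800006003000060100000500800005004000050030000500a0000400900004009000030090000200400002003000020100000100a0000100900001008000010070000100400001003000010100000000e0000000a00000009000000080000000300000002000000010000000000000)]
noncomputable def p00_30_recs : List ℕ := [(nat_lit 0xe0000f0001008000240002307000110000fff0001e0000f090000f000240a00022000240e00015000230900023000160900010000230a0001e000220a00011000210f000070000bff0000b0001d0d0001b00020080001f00019070001c000200a0001f0002007000110001e030001c0001b070001a0001c030000c0000808000080000a09000180000809000080001c0a000180001c090001b0001909000070001b09000090001a0a00007000190a0000a000170900016000100100013000160800014000161000015000060a00014000150d0000500014020000d00012020000a000110400010000110100003000100200009000100a0000d0000e02000050000d080000b0000c04000090000a0200003000090a0000500006020000100002)]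
noncomputable def p00_30_T : List (List ℕ × ℕ) := [([14,16,8,16,13,10,14,15,9], (nat_lit 0x1c00003a0000a500009e0000be00003f00003000009200001f))]
noncomputable def p00_30_D : H26.Dag := ⟨[0,2,1,4,3,6,5,8,7,10,9,12,11,14,13,16,15,18,17], [[0,0],
  [1,2],
  [2,1],
  [3,4],
  [4,3],
  [5,6],
  [6,5],
  [7,8],
  [8,7],
  [9,10],
  [10,9],
  [11,12],
  [12,11],
  [13,14],
  [14,13],
  [15,16],
  [16,15],
  [17,18],
  [18,17],
  [7,7,7],
  [9,9,9],
  [3,3,3],
  [1,1,1],
  [4,10,8,9,7],
  [2,4,10,3,9],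
  [4,8,3,7],
  [2,8,1,7],
  [2,10,1,9],
  [2,4,1,3],
  [10,8,9,13],
  [10,14,9,15]], [], p00_30_defs, p00_30_recs⟩
theorem p00_30_c : p00_30_D.check p00_30_S p00_30_T = true := by decide +kernel
theorem p00_30 {G : Type*} [Group G] {g : ℕ → G} (hR : Rels g p00_Rl) {H : Subgroup G}
    (hH : ∀ k ∈ [], g k ∈ H) : evA g [14,16,8,16,13,10,14,15,9] ∈ H :=
  mem_dag (K := 19) (J := [0,1,2,3,4,5,6,7,8,9,10,11,12,13,14,15,16,17,18,19,20,22,24,29,31,33,38,39,41,43,44]) (D := p00_30_D) (by decide +kernel) p00_30_c (by decide +kernel) hR hH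
noncomputable def p00_31_S0 : List ℕ := [nat_lit 0xf00000c00602a, nat_lit 0x17000014006028, nat_lit 0x2b000028006026, nat_lit 0x4700000700002400402e, nat_lit 0x5300000b000014000044, nat_lit 0x57000054006028, nat_lit 0x5b00000b000028000042, nat_lit 0x5f000002000054000044, nat_lit 0x5f00000f00001400e044, nat_lit 0x6b00000600006400003a, nat_lit 0x6b00001700002000e03a, nat_lit 0x6f00001b00002800e03e, nat_lit 0x73000070006026, nat_lit 0x7f00002700002400007c002034, nat_lit 0x7f000027000014000068012038, nat_lit 0x2200006800003900a042, nat_lit 0x8300001900005b000058008038, nat_lit 0x9300002b000014000011010038, nat_lit 0x9700002b00003400e046, nat_lit 0x4900009700002b000020000029012034, nat_lit 0x4e000026000008, nat_lit 0x9b00000a000090004032, nat_lit 0x9b00002b00003000a032, nat_lit 0x9f00000a000088000046, nat_lit 0x9f00002b00003800e048, nat_lit 0x6100005e004026, nat_lit 0x9700000a00008800005d000034, nat_lit 0xa300000a00008c006046, nat_lit 0xa300002b00003c008048, nat_lit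 0x7100006e004026, nat_lit 0x4100008300008c000075008034, nat_lit 0x7200007900001600004500a034, nat_lit 0x4500007d000072002046, nat_lit 0xab00004900006a000062004038, nat_lit 0x510000ac000086006044, nat_lit 0x89000063000021004040, nat_lit 0xbf00003f00004400e03a, nat_lit 0xcb00000e00007c00a02c, nat_lit 0xcb0000470000400000c400a034, nat_lit 0x9900009600003500c02e, nat_lit 0x3e00009d0000c30000b800a02c, nat_lit 0xa20000b7000000, nat_lit 0xbf0000a500008d0000b000c02e, nat_lit 0xa9000092000006, nat_lit 0xa90000bf000010, nat_lit 0xcf00004b00005000e046, nat_lit 0xb50000cf00004b0000440000ad012034, nat_lit 0xba0000b2000010, nat_lit 0xd30000be0000bc00403c, nat_lit 0xd700001d00004a, nat_lit 0xb300008e0000c500403c, nat_lit 0xdb0000a60000c8004030, nat_lit 0xdf00002e00008800e03c, nat_lit 0xb30000660000d100a03e, nat_lit 0xe30000320000e0000046, nat_lit 0xe300007300007800e048, nat_lit 0xdd0000da0000d5004026, nat_lit 0xe20000b300000a, nat_lit 0xe20000ca000010, nat_lit 0xe20000d6000012,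 nat_lit 0xeb0000e600008e0000dc008036, nat_lit 0xef00008f0000880000d100e036, nat_lit 0xeb0000ee0000f500a032, nat_lit 0xf30000560000f0000046]
noncomputable def p00_31_S1 : List ℕ := [nat_lit 0xf300005a0000a800e048, nat_lit 0x1010000fe0000f9004026, nat_lit 0x1060000f2000010, nat_lit 0x1060000eb000016, nat_lit 0xf700010a0000ce00002e, nat_lit 0xf700010e0000e8008030, nat_lit 0x1150001120000c70000bd0000d4012036, nat_lit 0x1190000e7000000, nat_lit 0xe900011d0000c200402e]
noncomputable def p00_31_S : List (List ℕ) := [p00_31_S0, p00_31_S1]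
noncomputable def p00_31_defs : List ℕ := [(nat_lit 0x2900d000260070002300c0001d0000001d00d0001c0070001b00c0001701100014006000130070001200a0001100c0000f00a0000f0070000f0060000f0000000f0060000d0000000d0020000c00f0000b00e0000a00d0000a00c0000a0070000a0030000a00c00009008000090070000900400009003000090090000800f0000600a00006009000060070000500900004007000040030000300900002004000020030000200d0000100a000010080000100700001004000010100000000f0000000d0000000c0000000a0000000900000008000000070000000600000004000000030000000200000001000000000000000000000)]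
noncomputable def p00_31_recs : List ℕ := [(nat_lit 0xa0003b0003c090003b0003a0b000370003b08000360003a09000370001d08000350001d050000d0001dff0002c0001d090001d000380a000370003809000370002c05000210003700000310003608000350002c050001700035080002e00034080000f00013ff0002b00013090001300033080000f0002b03000100002bff0002b0002f000000f00017ff0002d00017000001f00030070003000032000001e0003203000100002f08000170000d020000d00018040000d0002a0e0000e00014070002400028080000e0001509000220000e090000e000280a000220002804000270002509000210000d090000d000270a0002100027090000b000260a000230002604000180000cff0001a0000c090000c000250900014000240a0001500020090001f0001701000190001f080001e0001f0a0001b0001c05000090001b03000070001a04000180001a0100004000170200014000170200009000160400014000150200004000140000008000110a000090000a040000400005020000200003),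
  (nat_lit 0x2e00035000001d00034ff00034000390b000390003d08000310003d0b0001d00029080003600029ff0003a0002909000290003c)]
noncomputable def p00_31_T : List (List ℕ × ℕ) := [([16,13,17,0,5,3,0], (nat_lit 0x80000400000bc0001210000d700008200003b))]
noncomputable def p00_31_D : H26.Dag := ⟨[0,2,1,4,3,6,5,8,7,10,9,12,11,14,13,16,15,18,17], [[0,0],
  [1,2],
  [2,1],
  [3,4],
  [4,3],
  [5,6],
  [6,5],
  [7,8],
  [8,7],
  [9,10],
  [10,9],
  [11,12],
  [12,11],
  [13,14],
  [14,13],
  [15,16],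
  [16,15],
  [17,18],
  [18,17],
  [9,9,9],
  [3,3,3],
  [1,1,1],
  [9,0,9,0],
  [8,0,7,0],
  [12,0,11,0],
  [12,10,11,9],
  [4,10,8,9,7],
  [6,12,8,11,7],
  [2,4,10,3,9],
  [4,8,3,7],
  [6,8,5,7],
  [6,10,5,9],
  [2,8,1,7],
  [2,10,1,9],
  [2,4,1,3],
  [10,8,9,13],
  [10,14,9,15],
  [5,2,17]], [], p00_31_defs, p00_31_recs⟩
theorem p00_31_c : p00_31_D.check p00_31_S p00_31_T = true := by decide +kernel
theorem p00_31 {G : Type*} [Group G] {g : ℕ → G} (hR : Rels g p00_Rl) {H : Subgroup G}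
    (hH : ∀ k ∈ [], g k ∈ H) : evA g [16,13,17,0,5,3,0] ∈ H :=
  mem_dag (K := 19) (J := [0,1,2,3,4,5,6,7,8,9,10,11,12,13,14,15,16,17,18,20,22,24,25,26,27,28,29,30,31,33,34,35,38,39,41,43,44,45]) (D := p00_31_D) (by decide +kernel) p00_31_c (by decide +kernel) hR hH
noncomputable def p00_32_S0 : List ℕ := [nat_lit 0xb000008006026, nat_lit 0x1b000001000032, nat_lit 0xf00000c000005006030, nat_lit 0x1f00000200001800602e, nat_lit 0x2300000f00001400802a, nat_lit 0x2b00000d000032, nat_lit 0x600002000001500402c, nat_lit 0x2f00001200002800802c, nat_lit 0x2f00002300000a00001a00a028]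
noncomputable def p00_32_S : List (List ℕ) := [p00_32_S0]
noncomputable def p00_32_defs : List ℕ := [(nat_lit 0x400008011000050040000400a0000300400002011000010040000100a0000000600000002000000010000000000000)]
noncomputable def p00_32_recs : List ℕ := [(nat_lit 0x90000a0000b05000090000b040000a0000605000070000a050000400008020000500007020000600003050000200006020000100002)]
noncomputable def p00_32_T : List (List ℕ × ℕ) := [([2,4,6,10,5,3,9], (nat_lit 0x1400002800001d00002200001600001f00000b))]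
noncomputable def p00_32_D : H26.Dag := ⟨[0,2,1,4,3,6,5,8,7,10,9,12,11,14,13,16,15,18,17], [[0,0],
  [1,2],
  [2,1],
  [3,4],
  [4,3],
  [5,6],
  [6,5],
  [7,8],
  [8,7],
  [9,10],
  [10,9],
  [11,12],
  [12,11],
  [13,14],
  [14,13],
  [15,16],
  [16,15],
  [17,18],
  [18,17],
  [1,1,1],
  [2,4,10,3,9],
  [6,10,5,9],
  [6,4,5,3],
  [2,4,1,3],
  [2,6,1,5],
  [5,2,17]], [], p00_32_defs, p00_32_recs⟩
theorem p00_32_c : p00_32_D.check p00_32_S p00_32_T = true := by decide +kernel
theorem p00_32 {G : Type*} [Group G] {g : ℕ → G} (hR : Rels g p00_Rl) {H : Subgroup G}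
    (hH : ∀ k ∈ [], g k ∈ H) : evA g [2,4,6,10,5,3,9] ∈ H :=
  mem_dag (K := 19) (J := [0,1,2,3,4,5,6,7,8,9,10,11,12,13,14,15,16,17,18,24,31,35,37,41,42,45]) (D := p00_32_D) (by decide +kernel) p00_32_c (by decide +kernel) hR hH
noncomputable def p00_33_S0 : List ℕ := [nat_lit 0x1700000700001000602c, nat_lit 0x1b00000700001400002a, nat_lit 0x1f00000b00001400e02a, nat_lit 0x2300000f00001400000900e026, nat_lit 0x2700000100002e, nat_lit 0x2b00000900000d00602c, nat_lit 0x2b00000500001b000018008026, nat_lit 0x2f00001500002e, nat_lit 0x1200001900001d00a028]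
noncomputable def p00_33_S : List (List ℕ) := [p00_33_S0]
noncomputable def p00_33_defs : List ℕ := [(nat_lit 0x11000080040000401100003009000030090000200900001004000010090000000400000002000000010000000000000)]
noncomputable def p00_33_recs : List ℕ := [(nat_lit 0x90000b00009050000a0000b0a000050000a02000080000a050000500009030000700008010000400007020000400006020000300005)]
noncomputable def p00_33_T : List (List ℕ × ℕ) := [([1,4,6,9,5,3,10], (nat_lit 0x1400002c00001d000021000012000017000007))]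
noncomputable def p00_33_D : H26.Dag := ⟨[0,2,1,4,3,6,5,8,7,10,9,12,11,14,13,16,15,18,17], [[0,0],
  [1,2],
  [2,1],
  [3,4],
  [4,3],
  [5,6],
  [6,5],
  [7,8],
  [8,7],
  [9,10],
  [10,9],
  [11,12],
  [12,11],
  [13,14],
  [14,13],
  [15,16],
  [16,15],
  [17,18],
  [18,17],
  [2,4,10,3,9],
  [6,10,5,9],
  [2,10,1,9],
  [2,4,1,3],
  [5,2,17]], [], p00_33_defs, p00_33_recs⟩
theorem p00_33_c : p00_33_D.check p00_33_S p00_33_T = true := by decide +kernel
theorem p00_33 {G : Type*} [Group G] {g : ℕ → G} (hR : Rels g p00_Rl) {H : Subgroup G}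
    (hH : ∀ k ∈ [], g k ∈ H) : evA g [1,4,6,9,5,3,10] ∈ H :=
  mem_dag (K := 19) (J := [0,1,2,3,4,5,6,7,8,9,10,11,12,13,14,15,16,17,18,31,35,39,41,45]) (D := p00_33_D) (by decide +kernel) p00_33_c (by decide +kernel) hR hH
theorem p00 {G : Type*} [Group G] {t w p r e x v a b f : G}
    (h : P0 e x v t p r w)
    (ha : a = x * e * x⁻¹)
    (hb : b = x * a * x⁻¹)
    (hf : f = r⁻¹ * w) :
    a ^ 3 = 1 ∧ b ^ 3 = 1 ∧ e ^ 3 = 1 ∧ a * b = b * a ∧ a * e = e * a ∧ b * e = e * b ∧ x ^ 3 = 1 ∧ x * e * x⁻¹ = a ∧ x * a * x⁻¹ = b ∧ x * b * x⁻¹ = e ∧ t * t = 1 ∧ t * x * t⁻¹ = x⁻¹ ∧ t * e = e * t ∧ t * a * t⁻¹ = b ∧ f ^ 3 = 1 ∧ f * a = a * f ∧ f * b = b * f ∧ f * e = e * f ∧ f * x = x * f ∧ f * t = t * f ∧ v ^ 3 = 1 ∧ v * x = x * v ∧ v * t = t * v ∧ v * a * v⁻¹ = a * f * (a * b * e) ∧ v * b * v⁻¹ = b * f * (a * b * e) ∧ v * e * v⁻¹ = e * f * (a * b * e) ∧ v * f * v⁻¹ = f * (a * b * e)⁻¹ ∧ a * b * e = w⁻¹ ∧ a * b⁻¹ = w * p ∧ ⁅a * b⁻¹, x⁆ = a * b * e ∧ ⁅x, (a * b⁻¹)⁻¹⁆ = a * b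 * e ∧ t * (p * r) * t⁻¹ = (f * (a * b⁻¹))⁻¹ ∧ x * (p * r) * x⁻¹ = w * (p * r) ∧ x⁻¹ * (p * r) * x⁻¹⁻¹ = w⁻¹ * (p * r) :=
  ⟨mul_inv_eq_one.1 ((evA_eq_tm ((InvI.cons h.2.2.2.2.2.2.1 InvI.nil) : InvI [t, w, p, r, e, x, v, a, b, f] [(nat_lit 0)]) [(.v (nat_lit 0)), (.v (nat_lit 1)), (.inv (.v (nat_lit 1))), (.v (nat_lit 2)), (.inv (.v (nat_lit 2))), (.v (nat_lit 3)), (.inv (.v (nat_lit 3))), (.v (nat_lit 4)), (.inv (.v (nat_lit 4))), (.v (nat_lit 5)), (.inv (.v (nat_lit 5))), (.v (nat_lit 6)), (.inv (.v (nat_lit 6))), (.v (nat_lit 7)), (.inv (.v (nat_lit 7))), (.v (nat_lit 8)), (.inv (.v (nat_lit 8))), (.v (nat_lit 9)), (.inv (.v (nat_lit 9)))] [13,13,13] (.mul (.pw (.v (nat_lit 7)) (nat_lit 3)) (.inv .one)) (by decide +kernel)).symm.trans (Subgroup.mem_bot.1 (p00_0 (p00_r h ha hb hf) (H := ⊥) (List.forall_mem_nil _)))),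
   mul_inv_eq_one.1 ((evA_eq_tm ((InvI.cons h.2.2.2.2.2.2.1 InvI.nil) : InvI [t, w, p, r, e, x, v, a, b, f] [(nat_lit 0)]) [(.v (nat_lit 0)), (.v (nat_lit 1)), (.inv (.v (nat_lit 1))), (.v (nat_lit 2)), (.inv (.v (nat_lit 2))), (.v (nat_lit 3)), (.inv (.v (nat_lit 3))), (.v (nat_lit 4)), (.inv (.v (nat_lit 4))), (.v (nat_lit 5)), (.inv (.v (nat_lit 5))), (.v (nat_lit 6)), (.inv (.v (nat_lit 6))), (.v (nat_lit 7)), (.inv (.v (nat_lit 7))), (.v (nat_lit 8)), (.inv (.v (nat_lit 8))), (.v (nat_lit 9)), (.inv (.v (nat_lit 9)))] [15,15,15] (.mul (.pw (.v (nat_lit 8)) (nat_lit 3)) (.inv .one)) (by decide +kernel)).symm.trans (Subgroup.mem_bot.1 (p00_1 (p00_r h ha hb hf) (H := ⊥) (List.forall_mem_nil _)))),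
   mul_inv_eq_one.1 ((evA_eq_tm ((InvI.cons h.2.2.2.2.2.2.1 InvI.nil) : InvI [t, w, p, r, e, x, v, a, b, f] [(nat_lit 0)]) [(.v (nat_lit 0)), (.v (nat_lit 1)), (.inv (.v (nat_lit 1))), (.v (nat_lit 2)), (.inv (.v (nat_lit 2))), (.v (nat_lit 3)), (.inv (.v (nat_lit 3))), (.v (nat_lit 4)), (.inv (.v (nat_lit 4))), (.v (nat_lit 5)), (.inv (.v (nat_lit 5))), (.v (nat_lit 6)), (.inv (.v (nat_lit 6))), (.v (nat_lit 7)), (.inv (.v (nat_lit 7))), (.v (nat_lit 8)), (.inv (.v (nat_lit 8))), (.v (nat_lit 9)), (.inv (.v (nat_lit 9)))] [7,7,7] (.mul (.pw (.v (nat_lit 4)) (nat_lit 3)) (.inv .one)) (by decide +kernel)).symm.trans (Subgroup.mem_bot.1 (p00_2 (p00_r h ha hb hf) (H := ⊥) (List.forall_mem_nil _)))),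
   mul_inv_eq_one.1 ((evA_eq_tm ((InvI.cons h.2.2.2.2.2.2.1 InvI.nil) : InvI [t, w, p, r, e, x, v, a, b, f] [(nat_lit 0)]) [(.v (nat_lit 0)), (.v (nat_lit 1)), (.inv (.v (nat_lit 1))), (.v (nat_lit 2)), (.inv (.v (nat_lit 2))), (.v (nat_lit 3)), (.inv (.v (nat_lit 3))), (.v (nat_lit 4)), (.inv (.v (nat_lit 4))), (.v (nat_lit 5)), (.inv (.v (nat_lit 5))), (.v (nat_lit 6)), (.inv (.v (nat_lit 6))), (.v (nat_lit 7)), (.inv (.v (nat_lit 7))), (.v (nat_lit 8)), (.inv (.v (nat_lit 8))), (.v (nat_lit 9)), (.inv (.v (nat_lit 9)))] [16,14,15,13] (.mul (.mul (.v (nat_lit 7)) (.v (nat_lit 8))) (.inv (.mul (.v (nat_lit 8)) (.v (nat_lit 7))))) (by decide +kernel)).symm.trans (Subgroup.mem_bot.1 (p00_3 (p00_r h ha hb hf) (H := ⊥) (List.forall_mem_nil _)))),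
   mul_inv_eq_one.1 ((evA_eq_tm ((InvI.cons h.2.2.2.2.2.2.1 InvI.nil) : InvI [t, w, p, r, e, x, v, a, b, f] [(nat_lit 0)]) [(.v (nat_lit 0)), (.v (nat_lit 1)), (.inv (.v (nat_lit 1))), (.v (nat_lit 2)), (.inv (.v (nat_lit 2))), (.v (nat_lit 3)), (.inv (.v (nat_lit 3))), (.v (nat_lit 4)), (.inv (.v (nat_lit 4))), (.v (nat_lit 5)), (.inv (.v (nat_lit 5))), (.v (nat_lit 6)), (.inv (.v (nat_lit 6))), (.v (nat_lit 7)), (.inv (.v (nat_lit 7))), (.v (nat_lit 8)), (.inv (.v (nat_lit 8))), (.v (nat_lit 9)), (.inv (.v (nat_lit 9)))] [8,14,7,13] (.mul (.mul (.v (nat_lit 7)) (.v (nat_lit 4))) (.inv (.mul (.v (nat_lit 4)) (.v (nat_lit 7))))) (by decide +kernel)).symm.trans (Subgroup.mem_bot.1 (p00_4 (p00_r h ha hb hf) (H := ⊥) (List.forall_mem_nil _)))),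
   mul_inv_eq_one.1 ((evA_eq_tm ((InvI.cons h.2.2.2.2.2.2.1 InvI.nil) : InvI [t, w, p, r, e, x, v, a, b, f] [(nat_lit 0)]) [(.v (nat_lit 0)), (.v (nat_lit 1)), (.inv (.v (nat_lit 1))), (.v (nat_lit 2)), (.inv (.v (nat_lit 2))), (.v (nat_lit 3)), (.inv (.v (nat_lit 3))), (.v (nat_lit 4)), (.inv (.v (nat_lit 4))), (.v (nat_lit 5)), (.inv (.v (nat_lit 5))), (.v (nat_lit 6)), (.inv (.v (nat_lit 6))), (.v (nat_lit 7)), (.inv (.v (nat_lit 7))), (.v (nat_lit 8)), (.inv (.v (nat_lit 8))), (.v (nat_lit 9)), (.inv (.v (nat_lit 9)))] [8,16,7,15] (.mul (.mul (.v (nat_lit 8)) (.v (nat_lit 4))) (.inv (.mul (.v (nat_lit 4)) (.v (nat_lit 8))))) (by decide +kernel)).symm.trans (Subgroup.mem_bot.1 (p00_5 (p00_r h ha hb hf) (H := ⊥) (List.forall_mem_nil _)))),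
   mul_inv_eq_one.1 ((evA_eq_tm ((InvI.cons h.2.2.2.2.2.2.1 InvI.nil) : InvI [t, w, p, r, e, x, v, a, b, f] [(nat_lit 0)]) [(.v (nat_lit 0)), (.v (nat_lit 1)), (.inv (.v (nat_lit 1))), (.v (nat_lit 2)), (.inv (.v (nat_lit 2))), (.v (nat_lit 3)), (.inv (.v (nat_lit 3))), (.v (nat_lit 4)), (.inv (.v (nat_lit 4))), (.v (nat_lit 5)), (.inv (.v (nat_lit 5))), (.v (nat_lit 6)), (.inv (.v (nat_lit 6))), (.v (nat_lit 7)), (.inv (.v (nat_lit 7))), (.v (nat_lit 8)), (.inv (.v (nat_lit 8))), (.v (nat_lit 9)), (.inv (.v (nat_lit 9)))] [9,9,9] (.mul (.pw (.v (nat_lit 5)) (nat_lit 3)) (.inv .one)) (by decide +kernel)).symm.trans (Subgroup.mem_bot.1 (p00_6 (p00_r h ha hb hf) (H := ⊥) (List.forall_mem_nil _)))),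
   mul_inv_eq_one.1 ((evA_eq_tm ((InvI.cons h.2.2.2.2.2.2.1 InvI.nil) : InvI [t, w, p, r, e, x, v, a, b, f] [(nat_lit 0)]) [(.v (nat_lit 0)), (.v (nat_lit 1)), (.inv (.v (nat_lit 1))), (.v (nat_lit 2)), (.inv (.v (nat_lit 2))), (.v (nat_lit 3)), (.inv (.v (nat_lit 3))), (.v (nat_lit 4)), (.inv (.v (nat_lit 4))), (.v (nat_lit 5)), (.inv (.v (nat_lit 5))), (.v (nat_lit 6)), (.inv (.v (nat_lit 6))), (.v (nat_lit 7)), (.inv (.v (nat_lit 7))), (.v (nat_lit 8)), (.inv (.v (nat_lit 8))), (.v (nat_lit 9)), (.inv (.v (nat_lit 9)))] [14,10,7,9] (.mul (.mul (.mul (.v (nat_lit 5)) (.v (nat_lit 4))) (.inv (.v (nat_lit 5)))) (.inv (.v (nat_lit 7)))) (by decide +kernel)).symm.trans (Subgroup.mem_bot.1 (p00_7 (p00_r h ha hb hf) (H := ⊥) (List.forall_mem_nil _)))),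
   mul_inv_eq_one.1 ((evA_eq_tm ((InvI.cons h.2.2.2.2.2.2.1 InvI.nil) : InvI [t, w, p, r, e, x, v, a, b, f] [(nat_lit 0)]) [(.v (nat_lit 0)), (.v (nat_lit 1)), (.inv (.v (nat_lit 1))), (.v (nat_lit 2)), (.inv (.v (nat_lit 2))), (.v (nat_lit 3)), (.inv (.v (nat_lit 3))), (.v (nat_lit 4)), (.inv (.v (nat_lit 4))), (.v (nat_lit 5)), (.inv (.v (nat_lit 5))), (.v (nat_lit 6)), (.inv (.v (nat_lit 6))), (.v (nat_lit 7)), (.inv (.v (nat_lit 7))), (.v (nat_lit 8)), (.inv (.v (nat_lit 8))), (.v (nat_lit 9)), (.inv (.v (nat_lit 9)))] [16,10,13,9] (.mul (.mul (.mul (.v (nat_lit 5)) (.v (nat_lit 7))) (.inv (.v (nat_lit 5)))) (.inv (.v (nat_lit 8)))) (by decide +kernel)).symm.trans (Subgroup.mem_bot.1 (p00_8 (p00_r h ha hb hf) (H := ⊥) (List.forall_mem_nil _)))),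
   mul_inv_eq_one.1 ((evA_eq_tm ((InvI.cons h.2.2.2.2.2.2.1 InvI.nil) : InvI [t, w, p, r, e, x, v, a, b, f] [(nat_lit 0)]) [(.v (nat_lit 0)), (.v (nat_lit 1)), (.inv (.v (nat_lit 1))), (.v (nat_lit 2)), (.inv (.v (nat_lit 2))), (.v (nat_lit 3)), (.inv (.v (nat_lit 3))), (.v (nat_lit 4)), (.inv (.v (nat_lit 4))), (.v (nat_lit 5)), (.inv (.v (nat_lit 5))), (.v (nat_lit 6)), (.inv (.v (nat_lit 6))), (.v (nat_lit 7)), (.inv (.v (nat_lit 7))), (.v (nat_lit 8)), (.inv (.v (nat_lit 8))), (.v (nat_lit 9)), (.inv (.v (nat_lit 9)))] [8,10,15,9] (.mul (.mul (.mul (.v (nat_lit 5)) (.v (nat_lit 8))) (.inv (.v (nat_lit 5)))) (.inv (.v (nat_lit 4)))) (by decide +kernel)).symm.trans (Subgroup.mem_bot.1 (p00_9 (p00_r h ha hb hf) (H := ⊥) (List.forall_mem_nil _)))),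
   mul_inv_eq_one.1 ((evA_eq_tm ((InvI.cons h.2.2.2.2.2.2.1 InvI.nil) : InvI [t, w, p, r, e, x, v, a, b, f] [(nat_lit 0)]) [(.v (nat_lit 0)), (.v (nat_lit 1)), (.inv (.v (nat_lit 1))), (.v (nat_lit 2)), (.inv (.v (nat_lit 2))), (.v (nat_lit 3)), (.inv (.v (nat_lit 3))), (.v (nat_lit 4)), (.inv (.v (nat_lit 4))), (.v (nat_lit 5)), (.inv (.v (nat_lit 5))), (.v (nat_lit 6)), (.inv (.v (nat_lit 6))), (.v (nat_lit 7)), (.inv (.v (nat_lit 7))), (.v (nat_lit 8)), (.inv (.v (nat_lit 8))), (.v (nat_lit 9)), (.inv (.v (nat_lit 9)))] [] (.mul (.mul (.v (nat_lit 0)) (.v (nat_lit 0))) (.inv .one)) (by decide +kernel)).symm.trans (Subgroup.mem_bot.1 (p00_10 (p00_r h ha hb hf) (H := ⊥) (List.forall_mem_nil _)))),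
   mul_inv_eq_one.1 ((evA_eq_tm ((InvI.cons h.2.2.2.2.2.2.1 InvI.nil) : InvI [t, w, p, r, e, x, v, a, b, f] [(nat_lit 0)]) [(.v (nat_lit 0)), (.v (nat_lit 1)), (.inv (.v (nat_lit 1))), (.v (nat_lit 2)), (.inv (.v (nat_lit 2))), (.v (nat_lit 3)), (.inv (.v (nat_lit 3))), (.v (nat_lit 4)), (.inv (.v (nat_lit 4))), (.v (nat_lit 5)), (.inv (.v (nat_lit 5))), (.v (nat_lit 6)), (.inv (.v (nat_lit 6))), (.v (nat_lit 7)), (.inv (.v (nat_lit 7))), (.v (nat_lit 8)), (.inv (.v (nat_lit 8))), (.v (nat_lit 9)), (.inv (.v (nat_lit 9)))] [9,0,9,0] (.mul (.mul (.mul (.v (nat_lit 0)) (.v (nat_lit 5))) (.inv (.v (nat_lit 0)))) (.inv (.inv (.v (nat_lit 5))))) (by decide +kernel)).symm.trans (Subgroup.mem_bot.1 (p00_11 (p00_r h ha hb hf) (H := ⊥) (List.forall_mem_nil _)))),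
   mul_inv_eq_one.1 ((evA_eq_tm ((InvI.cons h.2.2.2.2.2.2.1 InvI.nil) : InvI [t, w, p, r, e, x, v, a, b, f] [(nat_lit 0)]) [(.v (nat_lit 0)), (.v (nat_lit 1)), (.inv (.v (nat_lit 1))), (.v (nat_lit 2)), (.inv (.v (nat_lit 2))), (.v (nat_lit 3)), (.inv (.v (nat_lit 3))), (.v (nat_lit 4)), (.inv (.v (nat_lit 4))), (.v (nat_lit 5)), (.inv (.v (nat_lit 5))), (.v (nat_lit 6)), (.inv (.v (nat_lit 6))), (.v (nat_lit 7)), (.inv (.v (nat_lit 7))), (.v (nat_lit 8)), (.inv (.v (nat_lit 8))), (.v (nat_lit 9)), (.inv (.v (nat_lit 9)))] [8,0,7,0] (.mul (.mul (.v (nat_lit 0)) (.v (nat_lit 4))) (.inv (.mul (.v (nat_lit 4)) (.v (nat_lit 0))))) (by decide +kernel)).symm.trans (Subgroup.mem_bot.1 (p00_12 (p00_r h ha hb hf) (H := ⊥) (List.forall_mem_nil _)))),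
   mul_inv_eq_one.1 ((evA_eq_tm ((InvI.cons h.2.2.2.2.2.2.1 InvI.nil) : InvI [t, w, p, r, e, x, v, a, b, f] [(nat_lit 0)]) [(.v (nat_lit 0)), (.v (nat_lit 1)), (.inv (.v (nat_lit 1))), (.v (nat_lit 2)), (.inv (.v (nat_lit 2))), (.v (nat_lit 3)), (.inv (.v (nat_lit 3))), (.v (nat_lit 4)), (.inv (.v (nat_lit 4))), (.v (nat_lit 5)), (.inv (.v (nat_lit 5))), (.v (nat_lit 6)), (.inv (.v (nat_lit 6))), (.v (nat_lit 7)), (.inv (.v (nat_lit 7))), (.v (nat_lit 8)), (.inv (.v (nat_lit 8))), (.v (nat_lit 9)), (.inv (.v (nat_lit 9)))] [16,0,13,0] (.mul (.mul (.mul (.v (nat_lit 0)) (.v (nat_lit 7))) (.inv (.v (nat_lit 0)))) (.inv (.v (nat_lit 8)))) (by decide +kernel)).symm.trans (Subgroup.mem_bot.1 (p00_13 (p00_r h ha hb hf) (H := ⊥) (List.forall_mem_nil _)))),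
   mul_inv_eq_one.1 ((evA_eq_tm ((InvI.cons h.2.2.2.2.2.2.1 InvI.nil) : InvI [t, w, p, r, e, x, v, a, b, f] [(nat_lit 0)]) [(.v (nat_lit 0)), (.v (nat_lit 1)), (.inv (.v (nat_lit 1))), (.v (nat_lit 2)), (.inv (.v (nat_lit 2))), (.v (nat_lit 3)), (.inv (.v (nat_lit 3))), (.v (nat_lit 4)), (.inv (.v (nat_lit 4))), (.v (nat_lit 5)), (.inv (.v (nat_lit 5))), (.v (nat_lit 6)), (.inv (.v (nat_lit 6))), (.v (nat_lit 7)), (.inv (.v (nat_lit 7))), (.v (nat_lit 8)), (.inv (.v (nat_lit 8))), (.v (nat_lit 9)), (.inv (.v (nat_lit 9)))] [17,17,17] (.mul (.pw (.v (nat_lit 9)) (nat_lit 3)) (.inv .one)) (by decide +kernel)).symm.trans (Subgroup.mem_bot.1 (p00_14 (p00_r h ha hb hf) (H := ⊥) (List.forall_mem_nil _)))),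
   mul_inv_eq_one.1 ((evA_eq_tm ((InvI.cons h.2.2.2.2.2.2.1 InvI.nil) : InvI [t, w, p, r, e, x, v, a, b, f] [(nat_lit 0)]) [(.v (nat_lit 0)), (.v (nat_lit 1)), (.inv (.v (nat_lit 1))), (.v (nat_lit 2)), (.inv (.v (nat_lit 2))), (.v (nat_lit 3)), (.inv (.v (nat_lit 3))), (.v (nat_lit 4)), (.inv (.v (nat_lit 4))), (.v (nat_lit 5)), (.inv (.v (nat_lit 5))), (.v (nat_lit 6)), (.inv (.v (nat_lit 6))), (.v (nat_lit 7)), (.inv (.v (nat_lit 7))), (.v (nat_lit 8)), (.inv (.v (nat_lit 8))), (.v (nat_lit 9)), (.inv (.v (nat_lit 9)))] [14,18,13,17] (.mul (.mul (.v (nat_lit 9)) (.v (nat_lit 7))) (.inv (.mul (.v (nat_lit 7)) (.v (nat_lit 9))))) (by decide +kernel)).symm.trans (Subgroup.mem_bot.1 (p00_15 (p00_r h ha hb hf) (H := ⊥) (List.forall_mem_nil _)))),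
   mul_inv_eq_one.1 ((evA_eq_tm ((InvI.cons h.2.2.2.2.2.2.1 InvI.nil) : InvI [t, w, p, r, e, x, v, a, b, f] [(nat_lit 0)]) [(.v (nat_lit 0)), (.v (nat_lit 1)), (.inv (.v (nat_lit 1))), (.v (nat_lit 2)), (.inv (.v (nat_lit 2))), (.v (nat_lit 3)), (.inv (.v (nat_lit 3))), (.v (nat_lit 4)), (.inv (.v (nat_lit 4))), (.v (nat_lit 5)), (.inv (.v (nat_lit 5))), (.v (nat_lit 6)), (.inv (.v (nat_lit 6))), (.v (nat_lit 7)), (.inv (.v (nat_lit 7))), (.v (nat_lit 8)), (.inv (.v (nat_lit 8))), (.v (nat_lit 9)), (.inv (.v (nat_lit 9)))] [16,18,15,17] (.mul (.mul (.v (nat_lit 9)) (.v (nat_lit 8))) (.inv (.mul (.v (nat_lit 8)) (.v (nat_lit 9))))) (by decide +kernel)).symm.trans (Subgroup.mem_bot.1 (p00_16 (p00_r h ha hb hf) (H := ⊥) (List.forall_mem_nil _)))),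
   mul_inv_eq_one.1 ((evA_eq_tm ((InvI.cons h.2.2.2.2.2.2.1 InvI.nil) : InvI [t, w, p, r, e, x, v, a, b, f] [(nat_lit 0)]) [(.v (nat_lit 0)), (.v (nat_lit 1)), (.inv (.v (nat_lit 1))), (.v (nat_lit 2)), (.inv (.v (nat_lit 2))), (.v (nat_lit 3)), (.inv (.v (nat_lit 3))), (.v (nat_lit 4)), (.inv (.v (nat_lit 4))), (.v (nat_lit 5)), (.inv (.v (nat_lit 5))), (.v (nat_lit 6)), (.inv (.v (nat_lit 6))), (.v (nat_lit 7)), (.inv (.v (nat_lit 7))), (.v (nat_lit 8)), (.inv (.v (nat_lit 8))), (.v (nat_lit 9)), (.inv (.v (nat_lit 9)))] [8,18,7,17] (.mul (.mul (.v (nat_lit 9)) (.v (nat_lit 4))) (.inv (.mul (.v (nat_lit 4)) (.v (nat_lit 9))))) (by decide +kernel)).symm.trans (Subgroup.mem_bot.1 (p00_17 (p00_r h ha hb hf) (H := ⊥) (List.forall_mem_nil _)))),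
   mul_inv_eq_one.1 ((evA_eq_tm ((InvI.cons h.2.2.2.2.2.2.1 InvI.nil) : InvI [t, w, p, r, e, x, v, a, b, f] [(nat_lit 0)]) [(.v (nat_lit 0)), (.v (nat_lit 1)), (.inv (.v (nat_lit 1))), (.v (nat_lit 2)), (.inv (.v (nat_lit 2))), (.v (nat_lit 3)), (.inv (.v (nat_lit 3))), (.v (nat_lit 4)), (.inv (.v (nat_lit 4))), (.v (nat_lit 5)), (.inv (.v (nat_lit 5))), (.v (nat_lit 6)), (.inv (.v (nat_lit 6))), (.v (nat_lit 7)), (.inv (.v (nat_lit 7))), (.v (nat_lit 8)), (.inv (.v (nat_lit 8))), (.v (nat_lit 9)), (.inv (.v (nat_lit 9)))] [10,18,9,17] (.mul (.mul (.v (nat_lit 9)) (.v (nat_lit 5))) (.inv (.mul (.v (nat_lit 5)) (.v (nat_lit 9))))) (by decide +kernel)).symm.trans (Subgroup.mem_bot.1 (p00_18 (p00_r h ha hb hf) (H := ⊥) (List.forall_mem_nil _)))),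
   mul_inv_eq_one.1 ((evA_eq_tm ((InvI.cons h.2.2.2.2.2.2.1 InvI.nil) : InvI [t, w, p, r, e, x, v, a, b, f] [(nat_lit 0)]) [(.v (nat_lit 0)), (.v (nat_lit 1)), (.inv (.v (nat_lit 1))), (.v (nat_lit 2)), (.inv (.v (nat_lit 2))), (.v (nat_lit 3)), (.inv (.v (nat_lit 3))), (.v (nat_lit 4)), (.inv (.v (nat_lit 4))), (.v (nat_lit 5)), (.inv (.v (nat_lit 5))), (.v (nat_lit 6)), (.inv (.v (nat_lit 6))), (.v (nat_lit 7)), (.inv (.v (nat_lit 7))), (.v (nat_lit 8)), (.inv (.v (nat_lit 8))), (.v (nat_lit 9)), (.inv (.v (nat_lit 9)))] [0,18,0,17] (.mul (.mul (.v (nat_lit 9)) (.v (nat_lit 0))) (.inv (.mul (.v (nat_lit 0)) (.v (nat_lit 9))))) (by decide +kernel)).symm.trans (Subgroup.mem_bot.1 (p00_19 (p00_r h ha hb hf) (H := ⊥) (List.forall_mem_nil _)))),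
   mul_inv_eq_one.1 ((evA_eq_tm ((InvI.cons h.2.2.2.2.2.2.1 InvI.nil) : InvI [t, w, p, r, e, x, v, a, b, f] [(nat_lit 0)]) [(.v (nat_lit 0)), (.v (nat_lit 1)), (.inv (.v (nat_lit 1))), (.v (nat_lit 2)), (.inv (.v (nat_lit 2))), (.v (nat_lit 3)), (.inv (.v (nat_lit 3))), (.v (nat_lit 4)), (.inv (.v (nat_lit 4))), (.v (nat_lit 5)), (.inv (.v (nat_lit 5))), (.v (nat_lit 6)), (.inv (.v (nat_lit 6))), (.v (nat_lit 7)), (.inv (.v (nat_lit 7))), (.v (nat_lit 8)), (.inv (.v (nat_lit 8))), (.v (nat_lit 9)), (.inv (.v (nat_lit 9)))] [11,11,11] (.mul (.pw (.v (nat_lit 6)) (nat_lit 3)) (.inv .one)) (by decide +kernel)).symm.trans (Subgroup.mem_bot.1 (p00_20 (p00_r h ha hb hf) (H := ⊥) (List.forall_mem_nil _)))),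
   mul_inv_eq_one.1 ((evA_eq_tm ((InvI.cons h.2.2.2.2.2.2.1 InvI.nil) : InvI [t, w, p, r, e, x, v, a, b, f] [(nat_lit 0)]) [(.v (nat_lit 0)), (.v (nat_lit 1)), (.inv (.v (nat_lit 1))), (.v (nat_lit 2)), (.inv (.v (nat_lit 2))), (.v (nat_lit 3)), (.inv (.v (nat_lit 3))), (.v (nat_lit 4)), (.inv (.v (nat_lit 4))), (.v (nat_lit 5)), (.inv (.v (nat_lit 5))), (.v (nat_lit 6)), (.inv (.v (nat_lit 6))), (.v (nat_lit 7)), (.inv (.v (nat_lit 7))), (.v (nat_lit 8)), (.inv (.v (nat_lit 8))), (.v (nat_lit 9)), (.inv (.v (nat_lit 9)))] [10,12,9,11] (.mul (.mul (.v (nat_lit 6)) (.v (nat_lit 5))) (.inv (.mul (.v (nat_lit 5)) (.v (nat_lit 6))))) (by decide +kernel)).symm.trans (Subgroup.mem_bot.1 (p00_21 (p00_r h ha hb hf) (H := ⊥) (List.forall_mem_nil _)))),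
   mul_inv_eq_one.1 ((evA_eq_tm ((InvI.cons h.2.2.2.2.2.2.1 InvI.nil) : InvI [t, w, p, r, e, x, v, a, b, f] [(nat_lit 0)]) [(.v (nat_lit 0)), (.v (nat_lit 1)), (.inv (.v (nat_lit 1))), (.v (nat_lit 2)), (.inv (.v (nat_lit 2))), (.v (nat_lit 3)), (.inv (.v (nat_lit 3))), (.v (nat_lit 4)), (.inv (.v (nat_lit 4))), (.v (nat_lit 5)), (.inv (.v (nat_lit 5))), (.v (nat_lit 6)), (.inv (.v (nat_lit 6))), (.v (nat_lit 7)), (.inv (.v (nat_lit 7))), (.v (nat_lit 8)), (.inv (.v (nat_lit 8))), (.v (nat_lit 9)), (.inv (.v (nat_lit 9)))] [0,12,0,11] (.mul (.mul (.v (nat_lit 6)) (.v (nat_lit 0))) (.inv (.mul (.v (nat_lit 0)) (.v (nat_lit 6))))) (by decide +kernel)).symm.trans (Subgroup.mem_bot.1 (p00_22 (p00_r h ha hb hf) (H := ⊥) (List.forall_mem_nil _)))),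
   mul_inv_eq_one.1 ((evA_eq_tm ((InvI.cons h.2.2.2.2.2.2.1 InvI.nil) : InvI [t, w, p, r, e, x, v, a, b, f] [(nat_lit 0)]) [(.v (nat_lit 0)), (.v (nat_lit 1)), (.inv (.v (nat_lit 1))), (.v (nat_lit 2)), (.inv (.v (nat_lit 2))), (.v (nat_lit 3)), (.inv (.v (nat_lit 3))), (.v (nat_lit 4)), (.inv (.v (nat_lit 4))), (.v (nat_lit 5)), (.inv (.v (nat_lit 5))), (.v (nat_lit 6)), (.inv (.v (nat_lit 6))), (.v (nat_lit 7)), (.inv (.v (nat_lit 7))), (.v (nat_lit 8)), (.inv (.v (nat_lit 8))), (.v (nat_lit 9)), (.inv (.v (nat_lit 9)))] [14,18,14,16,8,12,13,11] (.mul (.mul (.mul (.v (nat_lit 6)) (.v (nat_lit 7))) (.inv (.v (nat_lit 6)))) (.inv (.mul (.mul (.v (nat_lit 7)) (.v (nat_lit 9))) (.mul (.mul (.v (nat_lit 7)) (.v (nat_lit 8))) (.v (nat_lit 4)))))) (by decide +kernel)).symm.trans (Subgroup.mem_bot.1 (p00_23 (p00_r h ha hb hf) (H := ⊥) (List.forall_mem_nil _)))),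
   mul_inv_eq_one.1 ((evA_eq_tm ((InvI.cons h.2.2.2.2.2.2.1 InvI.nil) : InvI [t, w, p, r, e, x, v, a, b, f] [(nat_lit 0)]) [(.v (nat_lit 0)), (.v (nat_lit 1)), (.inv (.v (nat_lit 1))), (.v (nat_lit 2)), (.inv (.v (nat_lit 2))), (.v (nat_lit 3)), (.inv (.v (nat_lit 3))), (.v (nat_lit 4)), (.inv (.v (nat_lit 4))), (.v (nat_lit 5)), (.inv (.v (nat_lit 5))), (.v (nat_lit 6)), (.inv (.v (nat_lit 6))), (.v (nat_lit 7)), (.inv (.v (nat_lit 7))), (.v (nat_lit 8)), (.inv (.v (nat_lit 8))), (.v (nat_lit 9)), (.inv (.v (nat_lit 9)))] [16,18,14,16,8,12,15,11] (.mul (.mul (.mul (.v (nat_lit 6)) (.v (nat_lit 8))) (.inv (.v (nat_lit 6)))) (.inv (.mul (.mul (.v (nat_lit 8)) (.v (nat_lit 9))) (.mul (.mul (.v (nat_lit 7)) (.v (nat_lit 8))) (.v (nat_lit 4)))))) (by decide +kernel)).symm.trans (Subgroup.mem_bot.1 (p00_24 (p00_r h ha hb hf) (H := ⊥) (List.forall_mem_nil _)))),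
   mul_inv_eq_one.1 ((evA_eq_tm ((InvI.cons h.2.2.2.2.2.2.1 InvI.nil) : InvI [t, w, p, r, e, x, v, a, b, f] [(nat_lit 0)]) [(.v (nat_lit 0)), (.v (nat_lit 1)), (.inv (.v (nat_lit 1))), (.v (nat_lit 2)), (.inv (.v (nat_lit 2))), (.v (nat_lit 3)), (.inv (.v (nat_lit 3))), (.v (nat_lit 4)), (.inv (.v (nat_lit 4))), (.v (nat_lit 5)), (.inv (.v (nat_lit 5))), (.v (nat_lit 6)), (.inv (.v (nat_lit 6))), (.v (nat_lit 7)), (.inv (.v (nat_lit 7))), (.v (nat_lit 8)), (.inv (.v (nat_lit 8))), (.v (nat_lit 9)), (.inv (.v (nat_lit 9)))] [8,18,14,16,8,12,7,11] (.mul (.mul (.mul (.v (nat_lit 6)) (.v (nat_lit 4))) (.inv (.v (nat_lit 6)))) (.inv (.mul (.mul (.v (nat_lit 4)) (.v (nat_lit 9))) (.mul (.mul (.v (nat_lit 7)) (.v (nat_lit 8))) (.v (nat_lit 4)))))) (by decide +kernel)).symm.trans (Subgroup.mem_bot.1 (p00_25 (p00_r h ha hb hf) (H := ⊥) (List.forall_mem_nil _)))),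
   mul_inv_eq_one.1 ((evA_eq_tm ((InvI.cons h.2.2.2.2.2.2.1 InvI.nil) : InvI [t, w, p, r, e, x, v, a, b, f] [(nat_lit 0)]) [(.v (nat_lit 0)), (.v (nat_lit 1)), (.inv (.v (nat_lit 1))), (.v (nat_lit 2)), (.inv (.v (nat_lit 2))), (.v (nat_lit 3)), (.inv (.v (nat_lit 3))), (.v (nat_lit 4)), (.inv (.v (nat_lit 4))), (.v (nat_lit 5)), (.inv (.v (nat_lit 5))), (.v (nat_lit 6)), (.inv (.v (nat_lit 6))), (.v (nat_lit 7)), (.inv (.v (nat_lit 7))), (.v (nat_lit 8)), (.inv (.v (nat_lit 8))), (.v (nat_lit 9)), (.inv (.v (nat_lit 9)))] [18,7,15,13,12,17,11] (.mul (.mul (.mul (.v (nat_lit 6)) (.v (nat_lit 9))) (.inv (.v (nat_lit 6)))) (.inv (.mul (.v (nat_lit 9)) (.inv (.mul (.mul (.v (nat_lit 7)) (.v (nat_lit 8))) (.v (nat_lit 4))))))) (by decide +kernel)).symm.trans (Subgroup.mem_bot.1 (p00_26 (p00_r h ha hb hf) (H := ⊥) (List.forall_mem_nil _)))),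
   mul_inv_eq_one.1 ((evA_eq_tm ((InvI.cons h.2.2.2.2.2.2.1 InvI.nil) : InvI [t, w, p, r, e, x, v, a, b, f] [(nat_lit 0)]) [(.v (nat_lit 0)), (.v (nat_lit 1)), (.inv (.v (nat_lit 1))), (.v (nat_lit 2)), (.inv (.v (nat_lit 2))), (.v (nat_lit 3)), (.inv (.v (nat_lit 3))), (.v (nat_lit 4)), (.inv (.v (nat_lit 4))), (.v (nat_lit 5)), (.inv (.v (nat_lit 5))), (.v (nat_lit 6)), (.inv (.v (nat_lit 6))), (.v (nat_lit 7)), (.inv (.v (nat_lit 7))), (.v (nat_lit 8)), (.inv (.v (nat_lit 8))), (.v (nat_lit 9)), (.inv (.v (nat_lit 9)))] [1,7,15,13] (.mul (.mul (.mul (.v (nat_lit 7)) (.v (nat_lit 8))) (.v (nat_lit 4))) (.inv (.inv (.v (nat_lit 1))))) (by decide +kernel)).symm.trans (Subgroup.mem_bot.1 (p00_27 (p00_r h ha hb hf) (H := ⊥) (List.forall_mem_nil _)))),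
   mul_inv_eq_one.1 ((evA_eq_tm ((InvI.cons h.2.2.2.2.2.2.1 InvI.nil) : InvI [t, w, p, r, e, x, v, a, b, f] [(nat_lit 0)]) [(.v (nat_lit 0)), (.v (nat_lit 1)), (.inv (.v (nat_lit 1))), (.v (nat_lit 2)), (.inv (.v (nat_lit 2))), (.v (nat_lit 3)), (.inv (.v (nat_lit 3))), (.v (nat_lit 4)), (.inv (.v (nat_lit 4))), (.v (nat_lit 5)), (.inv (.v (nat_lit 5))), (.v (nat_lit 6)), (.inv (.v (nat_lit 6))), (.v (nat_lit 7)), (.inv (.v (nat_lit 7))), (.v (nat_lit 8)), (.inv (.v (nat_lit 8))), (.v (nat_lit 9)), (.inv (.v (nat_lit 9)))] [2,4,16,13] (.mul (.mul (.v (nat_lit 7)) (.inv (.v (nat_lit 8)))) (.inv (.mul (.v (nat_lit 1)) (.v (nat_lit 2))))) (by decide +kernel)).symm.trans (Subgroup.mem_bot.1 (p00_28 (p00_r h ha hb hf) (H := ⊥) (List.forall_mem_nil _)))),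
   mul_inv_eq_one.1 ((evA_eq_tm ((InvI.cons h.2.2.2.2.2.2.1 InvI.nil) : InvI [t, w, p, r, e, x, v, a, b, f] [(nat_lit 0)]) [(.v (nat_lit 0)), (.v (nat_lit 1)), (.inv (.v (nat_lit 1))), (.v (nat_lit 2)), (.inv (.v (nat_lit 2))), (.v (nat_lit 3)), (.inv (.v (nat_lit 3))), (.v (nat_lit 4)), (.inv (.v (nat_lit 4))), (.v (nat_lit 5)), (.inv (.v (nat_lit 5))), (.v (nat_lit 6)), (.inv (.v (nat_lit 6))), (.v (nat_lit 7)), (.inv (.v (nat_lit 7))), (.v (nat_lit 8)), (.inv (.v (nat_lit 8))), (.v (nat_lit 9)), (.inv (.v (nat_lit 9)))] [14,16,8,10,14,15,9,16,13] (.mul (.mul (.mul (.mul (.mul (.v (nat_lit 7)) (.inv (.v (nat_lit 8)))) (.v (nat_lit 5))) (.inv (.mul (.v (nat_lit 7)) (.inv (.v (nat_lit 8)))))) (.inv (.v (nat_lit 5)))) (.inv (.mul (.mul (.v (nat_lit 7)) (.v (nat_lit 8))) (.v (nat_lit 4))))) (by decide +kernel)).symm.trans (Subgroup.mem_bot.1 (p00_29 (p00_r h ha hb hf) (H := ⊥) (List.forall_mem_nil _)))),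
   mul_inv_eq_one.1 ((evA_eq_tm ((InvI.cons h.2.2.2.2.2.2.1 InvI.nil) : InvI [t, w, p, r, e, x, v, a, b, f] [(nat_lit 0)]) [(.v (nat_lit 0)), (.v (nat_lit 1)), (.inv (.v (nat_lit 1))), (.v (nat_lit 2)), (.inv (.v (nat_lit 2))), (.v (nat_lit 3)), (.inv (.v (nat_lit 3))), (.v (nat_lit 4)), (.inv (.v (nat_lit 4))), (.v (nat_lit 5)), (.inv (.v (nat_lit 5))), (.v (nat_lit 6)), (.inv (.v (nat_lit 6))), (.v (nat_lit 7)), (.inv (.v (nat_lit 7))), (.v (nat_lit 8)), (.inv (.v (nat_lit 8))), (.v (nat_lit 9)), (.inv (.v (nat_lit 9)))] [14,16,8,16,13,10,14,15,9] (.mul (.mul (.mul (.mul (.v (nat_lit 5)) (.inv (.mul (.v (nat_lit 7)) (.inv (.v (nat_lit 8)))))) (.inv (.v (nat_lit 5)))) (.inv (.inv (.mul (.v (nat_lit 7)) (.inv (.v (nat_lit 8))))))) (.inv (.mul (.mul (.v (nat_lit 7)) (.v (nat_lit 8))) (.v (nat_lit 4))))) (by decide +kernel)).symm.trans (Subgroup.mem_bot.1 (p00_30 (p00_r h ha hb hf) (H := ⊥) (List.forall_mem_nil _)))),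
   mul_inv_eq_one.1 ((evA_eq_tm ((InvI.cons h.2.2.2.2.2.2.1 InvI.nil) : InvI [t, w, p, r, e, x, v, a, b, f] [(nat_lit 0)]) [(.v (nat_lit 0)), (.v (nat_lit 1)), (.inv (.v (nat_lit 1))), (.v (nat_lit 2)), (.inv (.v (nat_lit 2))), (.v (nat_lit 3)), (.inv (.v (nat_lit 3))), (.v (nat_lit 4)), (.inv (.v (nat_lit 4))), (.v (nat_lit 5)), (.inv (.v (nat_lit 5))), (.v (nat_lit 6)), (.inv (.v (nat_lit 6))), (.v (nat_lit 7)), (.inv (.v (nat_lit 7))), (.v (nat_lit 8)), (.inv (.v (nat_lit 8))), (.v (nat_lit 9)), (.inv (.v (nat_lit 9)))] [16,13,17,0,5,3,0] (.mul (.mul (.mul (.v (nat_lit 0)) (.mul (.v (nat_lit 2)) (.v (nat_lit 3)))) (.inv (.v (nat_lit 0)))) (.inv (.inv (.mul (.v (nat_lit 9)) (.mul (.v (nat_lit 7)) (.inv (.v (nat_lit 8)))))))) (by decide +kernel)).symm.trans (Subgroup.mem_bot.1 (p00_31 (p00_r h ha hb hf) (H := ⊥) (List.forall_mem_nil _)))),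
   mul_inv_eq_one.1 ((evA_eq_tm ((InvI.cons h.2.2.2.2.2.2.1 InvI.nil) : InvI [t, w, p, r, e, x, v, a, b, f] [(nat_lit 0)]) [(.v (nat_lit 0)), (.v (nat_lit 1)), (.inv (.v (nat_lit 1))), (.v (nat_lit 2)), (.inv (.v (nat_lit 2))), (.v (nat_lit 3)), (.inv (.v (nat_lit 3))), (.v (nat_lit 4)), (.inv (.v (nat_lit 4))), (.v (nat_lit 5)), (.inv (.v (nat_lit 5))), (.v (nat_lit 6)), (.inv (.v (nat_lit 6))), (.v (nat_lit 7)), (.inv (.v (nat_lit 7))), (.v (nat_lit 8)), (.inv (.v (nat_lit 8))), (.v (nat_lit 9)), (.inv (.v (nat_lit 9)))] [2,4,6,10,5,3,9] (.mul (.mul (.mul (.v (nat_lit 5)) (.mul (.v (nat_lit 2)) (.v (nat_lit 3)))) (.inv (.v (nat_lit 5)))) (.inv (.mul (.v (nat_lit 1)) (.mul (.v (nat_lit 2)) (.v (nat_lit 3)))))) (by decide +kernel)).symm.trans (Subgroup.mem_bot.1 (p00_32 (p00_r h ha hb hf) (H := ⊥) (List.forall_mem_nil _)))),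
   mul_inv_eq_one.1 ((evA_eq_tm ((InvI.cons h.2.2.2.2.2.2.1 InvI.nil) : InvI [t, w, p, r, e, x, v, a, b, f] [(nat_lit 0)]) [(.v (nat_lit 0)), (.v (nat_lit 1)), (.inv (.v (nat_lit 1))), (.v (nat_lit 2)), (.inv (.v (nat_lit 2))), (.v (nat_lit 3)), (.inv (.v (nat_lit 3))), (.v (nat_lit 4)), (.inv (.v (nat_lit 4))), (.v (nat_lit 5)), (.inv (.v (nat_lit 5))), (.v (nat_lit 6)), (.inv (.v (nat_lit 6))), (.v (nat_lit 7)), (.inv (.v (nat_lit 7))), (.v (nat_lit 8)), (.inv (.v (nat_lit 8))), (.v (nat_lit 9)), (.inv (.v (nat_lit 9)))] [1,4,6,9,5,3,10] (.mul (.mul (.mul (.inv (.v (nat_lit 5))) (.mul (.v (nat_lit 2)) (.v (nat_lit 3)))) (.inv (.inv (.v (nat_lit 5))))) (.inv (.mul (.inv (.v (nat_lit 1))) (.mul (.v (nat_lit 2)) (.v (nat_lit 3)))))) (by decide +kernel)).symm.trans (Subgroup.mem_bot.1 (p00_33 (p00_r h ha hb hf) (H := ⊥) (List.forall_mem_nil _))))⟩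
theorem p0 {G : Type*} [Group G] {t w p r e x v a b f : G}
    (h : P0 e x v t p r w)
    (ha : a = x * e * x⁻¹)
    (hb : b = x * a * x⁻¹)
    (hf : f = r⁻¹ * w) :
    B1 a b e x t ∧ F1 a b e x t f ∧ V1 a b e x t f v ∧ a * b * e = w⁻¹ ∧ a * b⁻¹ = w * p ∧ ⁅a * b⁻¹, x⁆ = a * b * e ∧ ⁅x, (a * b⁻¹)⁻¹⁆ = a * b * e ∧ t * (p * r) * t⁻¹ = (f * (a * b⁻¹))⁻¹ ∧ x * (p * r) * x⁻¹ = w * (p * r) ∧ x⁻¹ * (p * r) * x⁻¹⁻¹ = w⁻¹ * (p * r) :=
  have ⟨h0, h1, h2, h3, h4, h5, h6, h7, h8, h9, h10, h11, h12, h13, h14, h15, h16, h17, h18, h19, h20, h21, h22, h23, h24, h25, h26, h27, h28, h29, h30, h31, h32, h33⟩ := p00 h ha hb hf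
  ⟨⟨h0, h1, h2, h3, h4, h5, h6, h7, h8, h9, h10, h11, h12, h13, trivial⟩, ⟨h14, h15, h16, h17, h18, h19, trivial⟩, ⟨h20, h21, h22, h23, h24, h25, h26, trivial⟩, h27, h28, h29, h30, h31, h32, h33⟩
noncomputable def p0u0_Rl : List (List ℕ) := [[0,0],
  [1,1],
  [2,3],
  [3,2],
  [4,5],
  [5,4],
  [6,7],
  [7,6],
  [8,9],
  [9,8],
  [10,11],
  [11,10],
  [12,13],
  [13,12],
  [14,15],
  [15,14],
  [8,8,8],
  [10,10,10],
  [12,12,12],
  [4,4,4],
  [6,6,6],
  [2,2,2],
  [10,0,10,0],
  [9,0,8,0],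
  [13,0,12,0],
  [13,11,12,10],
  [5,11,9,10,8],
  [7,13,9,12,8],
  [3,5,11,4,10],
  [2,7,13,6,12],
  [5,9,4,8],
  [7,9,6,8],
  [7,11,6,10],
  [5,13,4,12],
  [7,5,6,4],
  [3,9,2,8],
  [3,11,2,10],
  [3,13,2,12],
  [3,5,2,4],
  [3,7,2,6],
  [6,3,14],
  [9,1,8,1],
  [11,1,10,1],
  [0,1,0,1],
  [12,1,12,1]]
theorem p0u0_r {G : Type*} [Group G] {t u w p r e x v f : G}
    (h : P0 e x v t p r w)
    (hf : f = r⁻¹ * w)
    (uu : u * u = 1)
    (ue : u * e = e * u)
    (ux : u * x = x * u)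
    (ut : u * t = t * u)
    (uv : u * v * u⁻¹ = v⁻¹) :
    Rels (nthG [t, u, w, w⁻¹, p, p⁻¹, r, r⁻¹, e, e⁻¹, x, x⁻¹, v, v⁻¹, f, f⁻¹]) p0u0_Rl :=
  rels_of_eqs ((InvI.cons h.2.2.2.2.2.2.1 (InvI.cons uu InvI.nil)) : InvI [t, u, w, p, r, e, x, v, f] [(nat_lit 0), (nat_lit 1)])
    (AllEq.append (show AllEq [t, u, w, p, r, e, x, v, f] [((.pw (.v (nat_lit 5)) (nat_lit 3)), .one), ((.pw (.v (nat_lit 6)) (nat_lit 3)), .one), ((.pw (.v (nat_lit 7)) (nat_lit 3)), .one), ((.pw (.v (nat_lit 3)) (nat_lit 3)), .one), ((.pw (.v (nat_lit 4)) (nat_lit 3)), .one), ((.pw (.v (nat_lit 2)) (nat_lit 3)), .one), ((.mul (.v (nat_lit 0)) (.v (nat_lit 0))), .one), ((.mul (.mul (.v (nat_lit 0)) (.v (nat_lit 6))) (.inv (.v (nat_lit 0)))), (.inv (.v (nat_lit 6)))), ((.mul (.v (nat_lit 0)) (.v (nat_lit 5))), (.mul (.v (nat_lit 5)) (.v (nat_lit 0)))), ((.mul (.v (nat_lit 0)) (.v (nat_lit 7))), (.mul (.v (nat_lit 7)) (.v (nat_lit 0)))), ((.mul (.v (nat_lit 6)) (.v (nat_lit 7))), (.mul (.v (nat_lit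 7)) (.v (nat_lit 6)))), ((.mul (.mul (.mul (.v (nat_lit 5)) (.v (nat_lit 6))) (.inv (.v (nat_lit 5)))) (.inv (.v (nat_lit 6)))), (.v (nat_lit 3))), ((.mul (.mul (.mul (.v (nat_lit 5)) (.v (nat_lit 7))) (.inv (.v (nat_lit 5)))) (.inv (.v (nat_lit 7)))), (.v (nat_lit 4))), ((.mul (.mul (.mul (.v (nat_lit 6)) (.v (nat_lit 3))) (.inv (.v (nat_lit 6)))) (.inv (.v (nat_lit 3)))), (.v (nat_lit 2))), ((.mul (.mul (.mul (.v (nat_lit 7)) (.v (nat_lit 4))) (.inv (.v (nat_lit 7)))) (.inv (.v (nat_lit 4)))), (.inv (.v (nat_lit 2)))), ((.mul (.v (nat_lit 5)) (.v (nat_lit 3))), (.mul (.v (nat_lit 3)) (.v (nat_lit 5)))), ((.mul (.v (nat_lit 5)) (.v (nat_lit 4))), (.mul (.v (nat_lit 4)) (.v (nat_lit 5)))), ((.mul (.v (nat_lit 6)) (.v (nat_lit 4))), (.mul (.v (nat_lit 4)) (.v (nat_lit 6)))), ((.mul (.v (nat_lit 7)) (.v (nat_lit 3))), (.mul (.v (nat_lit 3)) (.v (nat_lit 7)))), ((.mul (.v (nat_lit 3)) (.v (nat_lit 4))), (.mul (.v (nat_lit 4)) (.v (nat_lit 3)))), ((.mul (.v (nat_lit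 5)) (.v (nat_lit 2))), (.mul (.v (nat_lit 2)) (.v (nat_lit 5)))), ((.mul (.v (nat_lit 6)) (.v (nat_lit 2))), (.mul (.v (nat_lit 2)) (.v (nat_lit 6)))), ((.mul (.v (nat_lit 7)) (.v (nat_lit 2))), (.mul (.v (nat_lit 2)) (.v (nat_lit 7)))), ((.mul (.v (nat_lit 3)) (.v (nat_lit 2))), (.mul (.v (nat_lit 2)) (.v (nat_lit 3)))), ((.mul (.v (nat_lit 4)) (.v (nat_lit 2))), (.mul (.v (nat_lit 2)) (.v (nat_lit 4))))] from h)
    (AllEq.append (show AllEq [t, u, w, p, r, e, x, v, f] [((.v (nat_lit 8)), (.mul (.inv (.v (nat_lit 4))) (.v (nat_lit 2))))] from ⟨hf, trivial⟩)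
    (AllEq.append (show AllEq [t, u, w, p, r, e, x, v, f] [((.mul (.v (nat_lit 1)) (.v (nat_lit 1))), .one)] from ⟨uu, trivial⟩)
    (AllEq.append (show AllEq [t, u, w, p, r, e, x, v, f] [((.mul (.v (nat_lit 1)) (.v (nat_lit 5))), (.mul (.v (nat_lit 5)) (.v (nat_lit 1))))] from ⟨ue, trivial⟩)
    (AllEq.append (show AllEq [t, u, w, p, r, e, x, v, f] [((.mul (.v (nat_lit 1)) (.v (nat_lit 6))), (.mul (.v (nat_lit 6)) (.v (nat_lit 1))))] from ⟨ux, trivial⟩)
    (AllEq.append (show AllEq [t, u, w, p, r, e, x, v, f] [((.mul (.v (nat_lit 1)) (.v (nat_lit 0))), (.mul (.v (nat_lit 0)) (.v (nat_lit 1))))] from ⟨ut, trivial⟩)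
    (show AllEq [t, u, w, p, r, e, x, v, f] [((.mul (.mul (.v (nat_lit 1)) (.v (nat_lit 7))) (.inv (.v (nat_lit 1)))), (.inv (.v (nat_lit 7))))] from ⟨uv, trivial⟩)))))))
    [(.v (nat_lit 0)), (.v (nat_lit 1)), (.v (nat_lit 2)), (.inv (.v (nat_lit 2))), (.v (nat_lit 3)), (.inv (.v (nat_lit 3))), (.v (nat_lit 4)), (.inv (.v (nat_lit 4))), (.v (nat_lit 5)), (.inv (.v (nat_lit 5))), (.v (nat_lit 6)), (.inv (.v (nat_lit 6))), (.v (nat_lit 7)), (.inv (.v (nat_lit 7))), (.v (nat_lit 8)), (.inv (.v (nat_lit 8)))] (by decide +kernel)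
noncomputable def p0u0_0_S0 : List ℕ := [nat_lit 0xf00000c006026, nat_lit 0x23000020006022, nat_lit 0x2700000c000034, nat_lit 0x2b000014006034, nat_lit 0xf00001400000d00a032, nat_lit 0x33000030006026, nat_lit 0x3f00000700001800c036, nat_lit 0x4300000700001c004036, nat_lit 0x4b000038006034, nat_lit 0x3300003800002100a032, nat_lit 0x5300000100001200e032, nat_lit 0x5b000058006020, nat_lit 0x6300001300001800002c, nat_lit 0x6b000031000063000068008028, nat_lit 0x7300001f00001c000070002028, nat_lit 0x7700002300001400000d01002a, nat_lit 0x7b00002300000c00000900a02a, nat_lit 0x7f000078006034, nat_lit 0x2a00003d000045004030, nat_lit 0x7300000500007800004501002a, nat_lit 0x8b00002f00004000002e, nat_lit 0x9300002f000048000030, nat_lit 0x97000015000034, nat_lit 0x25000059008024, nat_lit 0x9b00003300004800e030, nat_lit 0x9f00003b00004800005500e02a, nat_lit 0xa30000a0006022, nat_lit 0xa700001a00006c004038, nat_lit 0xab00001e00007000a038, nat_lit 0xab00004300003c0000a400a028,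 nat_lit 0x7500007200003900c036, nat_lit 0x4d00007900006a00c038, nat_lit 0xaf000055000065008032, nat_lit 0xaf00006100009b00005900802a, nat_lit 0xb30000470000400000a8000028, nat_lit 0xaf0000b400008a00a02c, nat_lit 0x3500006d00008d004036, nat_lit 0x8500009100006700006000a038, nat_lit 0x9500005d00000e, nat_lit 0x95000085000018, nat_lit 0xbb00009900009e00008200e02a, nat_lit 0x650000a1008024, nat_lit 0xbf00004f00005800c036, nat_lit 0xc300005300005800002c, nat_lit 0xc70000ad0000c300004a008028, nat_lit 0xcb00005b00000900004100a028, nat_lit 0xcf000042000084006038, nat_lit 0xd300008700008c00c036, nat_lit 0xd70000d4006020, nat_lit 0xd7000087000090004036, nat_lit 0xdb0000520000a8000030, nat_lit 0x8100008e0000c900c02e, nat_lit 0xcd00007d0000b100c036, nat_lit 0xaa0000c80000d10000db000038, nat_lit 0xbe0000d50000aa000002, nat_lit 0x2e0000d90000c1000012, nat_lit 0xde0000c6000002, nat_lit 0xdf0000e10000cc004038, nat_lit 0xdf00008f0000940000a6010028, nat_lit 0xe90000e60000b60000d000c036,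 nat_lit 0xbc0000ee0000ba000018, nat_lit 0xb70000f2000083000002, nat_lit 0xf50000b7000002]
noncomputable def p0u0_0_S : List (List ℕ) := [p0u0_0_S0]
noncomputable def p0u0_0_defs : List ℕ := [(nat_lit 0xc0002300c0002200900021008000210010001e00d0001600d00015008000140080001300c0001200100012008000110070001100d0001000c0000f00d0000e00c0000e00c0000c00e0000b00c0000b0090000b0080000b0010000b0010000900f0000800700008006000080060000700c0000600d0000500d0000400800004001000040090000200800002006000020010000200f0000100c0000100900001008000010070000100600001003000010020000100f0000000e0000000d0000000c0000000900000008000000060000000300000002000000010000000000000)]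
noncomputable def p0u0_0_recs : List ℕ := [(nat_lit 0x10001200009ff000090002dff0002000012ff000330002e080002e00037010003200037010002300016ff0003500016ff0001500034ff000220002f0100031000360800036000270300029000360100023000350900034000350100022000340d0002000033080001e00032090001f0003107000150003001000150002f060002e0002406000270002e0c0002b00017070001200017ff0001700025010002b0001908000290002b07000290002c0d000250002b02000270002b01000270001f010001c0002808000280002a010001b0002a010001a000290d0002700028060002400027020001100026060002500012060000c00025030001100024030000f000220c0001f0001c0d0001f00014020001d0001f0c000090001e0c0000a0001d090001b0001c09000190001a070000500018090001500016020000a0001406000120000c020000d0001201000060001001000050000f030000b0000c060000a0000302000040000a0600002000090d0000700008030000200003)]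
noncomputable def p0u0_0_T : List (List ℕ × ℕ) := [([14,1,14,1], (nat_lit 0x800004c0000f9000027))]
noncomputable def p0u0_0_D : H26.Dag := ⟨[0,1,3,2,5,4,7,6,9,8,11,10,13,12,15,14], [[0,0],
  [1,1],
  [2,3],
  [3,2],
  [4,5],
  [5,4],
  [6,7],
  [7,6],
  [8,9],
  [9,8],
  [10,11],
  [11,10],
  [12,13],
  [13,12],
  [14,15],
  [15,14],
  [8,8,8],
  [12,12,12],
  [6,6,6],
  [2,2,2],
  [7,13,9,12,8],
  [2,7,13,6,12],
  [7,9,6,8],
  [3,9,2,8],
  [3,13,2,12],
  [3,7,2,6],
  [6,3,14],
  [9,1,8,1],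
  [12,1,12,1]], [], p0u0_0_defs, p0u0_0_recs⟩
theorem p0u0_0_c : p0u0_0_D.check p0u0_0_S p0u0_0_T = true := by decide +kernel
theorem p0u0_0 {G : Type*} [Group G] {g : ℕ → G} (hR : Rels g p0u0_Rl) {H : Subgroup G}
    (hH : ∀ k ∈ [], g k ∈ H) : evA g [14,1,14,1] ∈ H :=
  mem_dag (K := 16) (J := [0,1,2,3,4,5,6,7,8,9,10,11,12,13,14,15,16,18,20,21,27,29,31,35,37,39,40,41,44]) (D := p0u0_0_D) (by decide +kernel) p0u0_0_c (by decide +kernel) hR hH
noncomputable def p0u0_1_S0 : List ℕ := [nat_lit 0xf00000700000c00a020]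
noncomputable def p0u0_1_S : List (List ℕ) := [p0u0_1_S0]
noncomputable def p0u0_1_defs : List ℕ := [(nat_lit 0xd0000100c000000010000000000000)]
noncomputable def p0u0_1_recs : List ℕ := [(nat_lit 0x10000200003)]
noncomputable def p0u0_1_T : List (List ℕ × ℕ) := [([12,1,12,1], (nat_lit 0x800001000000200000b))]
noncomputable def p0u0_1_D : H26.Dag := ⟨[0,1,3,2,5,4,7,6,9,8,11,10,13,12,15,14], [[0,0],
  [1,1],
  [2,3],
  [3,2],
  [4,5],
  [5,4],
  [6,7],
  [7,6],
  [8,9],
  [9,8],
  [10,11],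
  [11,10],
  [12,13],
  [13,12],
  [14,15],
  [15,14],
  [12,1,12,1]], [], p0u0_1_defs, p0u0_1_recs⟩
theorem p0u0_1_c : p0u0_1_D.check p0u0_1_S p0u0_1_T = true := by decide +kernel
theorem p0u0_1 {G : Type*} [Group G] {g : ℕ → G} (hR : Rels g p0u0_Rl) {H : Subgroup G}
    (hH : ∀ k ∈ [], g k ∈ H) : evA g [12,1,12,1] ∈ H :=
  mem_dag (K := 16) (J := [0,1,2,3,4,5,6,7,8,9,10,11,12,13,14,15,44]) (D := p0u0_1_D) (by decide +kernel) p0u0_1_c (by decide +kernel) hR hH
theorem p0u0 {G : Type*} [Group G] {t u w p r e x v f : G}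
    (h : P0 e x v t p r w)
    (hf : f = r⁻¹ * w)
    (uu : u * u = 1)
    (ue : u * e = e * u)
    (ux : u * x = x * u)
    (ut : u * t = t * u)
    (uv : u * v * u⁻¹ = v⁻¹) :
    u * f * u⁻¹ = f⁻¹ ∧ u * v * u⁻¹ = v⁻¹ :=
  ⟨mul_inv_eq_one.1 ((evA_eq_tm ((InvI.cons h.2.2.2.2.2.2.1 (InvI.cons uu InvI.nil)) : InvI [t, u, w, p, r, e, x, v, f] [(nat_lit 0), (nat_lit 1)]) [(.v (nat_lit 0)), (.v (nat_lit 1)), (.v (nat_lit 2)), (.inv (.v (nat_lit 2))), (.v (nat_lit 3)), (.inv (.v (nat_lit 3))), (.v (nat_lit 4)), (.inv (.v (nat_lit 4))), (.v (nat_lit 5)), (.inv (.v (nat_lit 5))), (.v (nat_lit 6)), (.inv (.v (nat_lit 6))), (.v (nat_lit 7)), (.inv (.v (nat_lit 7))), (.v (nat_lit 8)), (.inv (.v (nat_lit 8)))] [14,1,14,1] (.mul (.mul (.mul (.v (nat_lit 1)) (.v (nat_lit 8))) (.inv (.v (nat_lit 1)))) (.inv (.inv (.v (nat_lit 8))))) (by decide +kernel)).symm.trans (Subgroup.mem_bot.1 (p0u0_0 (p0u0_r h hf uu ue ux ut uv) (H := ⊥) (List.forall_mem_nil _)))),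
   mul_inv_eq_one.1 ((evA_eq_tm ((InvI.cons h.2.2.2.2.2.2.1 (InvI.cons uu InvI.nil)) : InvI [t, u, w, p, r, e, x, v, f] [(nat_lit 0), (nat_lit 1)]) [(.v (nat_lit 0)), (.v (nat_lit 1)), (.v (nat_lit 2)), (.inv (.v (nat_lit 2))), (.v (nat_lit 3)), (.inv (.v (nat_lit 3))), (.v (nat_lit 4)), (.inv (.v (nat_lit 4))), (.v (nat_lit 5)), (.inv (.v (nat_lit 5))), (.v (nat_lit 6)), (.inv (.v (nat_lit 6))), (.v (nat_lit 7)), (.inv (.v (nat_lit 7))), (.v (nat_lit 8)), (.inv (.v (nat_lit 8)))] [12,1,12,1] (.mul (.mul (.mul (.v (nat_lit 1)) (.v (nat_lit 7))) (.inv (.v (nat_lit 1)))) (.inv (.inv (.v (nat_lit 7))))) (by decide +kernel)).symm.trans (Subgroup.mem_bot.1 (p0u0_1 (p0u0_r h hf uu ue ux ut uv) (H := ⊥) (List.forall_mem_nil _))))⟩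
theorem p0u {G : Type*} [Group G] {t u w p r e x v f : G}
    (h : P0 e x v t p r w)
    (hf : f = r⁻¹ * w)
    (uu : u * u = 1)
    (ue : u * e = e * u)
    (ux : u * x = x * u)
    (ut : u * t = t * u)
    (uv : u * v * u⁻¹ = v⁻¹) :
    U1 f v u :=
  have ⟨h0, h1⟩ := p0u0 h hf uu ue ux ut uv
  ⟨h0, h1, trivial⟩

end H2.O8
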