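import Cfsg.Agent.H2.O82g

/-! Generated: the group `S₃ ≀ S₃`. -/

set_option maxRecDepth 100000
set_option maxHeartbeats 4000000
set_option linter.unusedVariables false

open Subgroup
open scoped commutatorElement
namespace H2.O8
open H0 H0.PM H16 H19 H10.X H2.L3 H2.N9 H2.NB

def TR {G : Type*} [Group G] (s i j a b c : G) : Prop :=
  s * s = 1 ∧
  i * i = 1 ∧
  j * j = 1 ∧
  a ^ 3 = 1 ∧
  b ^ 3 = 1 ∧
  c ^ 3 = 1 ∧
  s * i = i * s ∧
  s * j = j * s ∧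
  i * j = j * i ∧
  a * b = b * a ∧
  a * c = c * a ∧
  b * c = c * b ∧
  s * a * s⁻¹ = a⁻¹ ∧
  i * b * i⁻¹ = b⁻¹ ∧
  j * c * j⁻¹ = c⁻¹ ∧
  s * b = b * s ∧
  s * c = c * s ∧
  i * a = a * i ∧
  i * c = c * i ∧
  j * a = a * j ∧
  j * b = b * j ∧ True
noncomputable def TT_Rl : List (List ℕ) := [[0,0],
  [1,1],
  [2,2],
  [3,4],
  [4,3],
  [5,6],
  [6,5],
  [7,8],
  [8,7],
  [3,3,3],
  [5,5,5],
  [7,7,7],
  [1,0,1,0],
  [2,0,2,0],
  [2,1,2,1],
  [6,4,5,3],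
  [8,4,7,3],
  [8,6,7,5],
  [3,0,3,0],
  [5,1,5,1],
  [7,2,7,2],
  [6,0,5,0],
  [8,0,7,0],
  [4,1,3,1],
  [8,1,7,1],
  [4,2,3,2],
  [6,2,5,2]]
theorem TT_r {G : Type*} [Group G] {s i j a b c : G}
    (h : TR s i j a b c) :
    Rels (nthG [s, i, j, a, a⁻¹, b, b⁻¹, c, c⁻¹]) TT_Rl :=
  rels_of_eqs ((InvI.cons h.1 (InvI.cons h.2.1 (InvI.cons h.2.2.1 InvI.nil))) : InvI [s, i, j, a, b, c] [(nat_lit 0), (nat_lit 1), (nat_lit 2)])
    (show AllEq [s, i, j, a, b, c] [((.mul (.v (nat_lit 0)) (.v (nat_lit 0))), .one), ((.mul (.v (nat_lit 1)) (.v (nat_lit 1))), .one), ((.mul (.v (nat_lit 2)) (.v (nat_lit 2))), .one), ((.pw (.v (nat_lit 3)) (nat_lit 3)), .one), ((.pw (.v (nat_lit 4)) (nat_lit 3)), .one), ((.pw (.v (nat_lit 5)) (nat_lit 3)), .one), ((.mul (.v (nat_lit 0)) (.v (nat_lit 1))), (.mul (.v (nat_lit 1)) (.v (nat_lit 0)))), ((.mul (.v (nat_lit 0)) (.v (nat_lit 2))), (.mul (.v (nat_lit 2)) (.v (nat_lit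 0)))), ((.mul (.v (nat_lit 1)) (.v (nat_lit 2))), (.mul (.v (nat_lit 2)) (.v (nat_lit 1)))), ((.mul (.v (nat_lit 3)) (.v (nat_lit 4))), (.mul (.v (nat_lit 4)) (.v (nat_lit 3)))), ((.mul (.v (nat_lit 3)) (.v (nat_lit 5))), (.mul (.v (nat_lit 5)) (.v (nat_lit 3)))), ((.mul (.v (nat_lit 4)) (.v (nat_lit 5))), (.mul (.v (nat_lit 5)) (.v (nat_lit 4)))), ((.mul (.mul (.v (nat_lit 0)) (.v (nat_lit 3))) (.inv (.v (nat_lit 0)))), (.inv (.v (nat_lit 3)))), ((.mul (.mul (.v (nat_lit 1)) (.v (nat_lit 4))) (.inv (.v (nat_lit 1)))), (.inv (.v (nat_lit 4)))), ((.mul (.mul (.v (nat_lit 2)) (.v (nat_lit 5))) (.inv (.v (nat_lit 2)))), (.inv (.v (nat_lit 5)))), ((.mul (.v (nat_lit 0)) (.v (nat_lit 4))), (.mul (.v (nat_lit 4)) (.v (nat_lit 0)))), ((.mul (.v (nat_lit 0)) (.v (nat_lit 5))), (.mul (.v (nat_lit 5)) (.v (nat_lit 0)))), ((.mul (.v (nat_lit 1)) (.v (nat_lit 3))), (.mul (.v (nat_lit 3)) (.v (nat_lit 1)))),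 ((.mul (.v (nat_lit 1)) (.v (nat_lit 5))), (.mul (.v (nat_lit 5)) (.v (nat_lit 1)))), ((.mul (.v (nat_lit 2)) (.v (nat_lit 3))), (.mul (.v (nat_lit 3)) (.v (nat_lit 2)))), ((.mul (.v (nat_lit 2)) (.v (nat_lit 4))), (.mul (.v (nat_lit 4)) (.v (nat_lit 2))))] from h)
    [(.v (nat_lit 0)), (.v (nat_lit 1)), (.v (nat_lit 2)), (.v (nat_lit 3)), (.inv (.v (nat_lit 3))), (.v (nat_lit 4)), (.inv (.v (nat_lit 4))), (.v (nat_lit 5)), (.inv (.v (nat_lit 5)))] (by decide +kernel)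
noncomputable def TT_b5_S0 : List ℕ := [nat_lit 0x1700001400600a, nat_lit 0x1b00000700000c00400c, nat_lit 0x1f00000700001000400e, nat_lit 0x23000007000018004012, nat_lit 0x2700002400600a, nat_lit 0x2700000700001400a012, nat_lit 0x2b00000b000010004010, nat_lit 0x2f00000b00001400c014, nat_lit 0x3300003000600a, nat_lit 0x3300000b000018004014, nat_lit 0x3700000f00001400c016, nat_lit 0x3b00003800600a, nat_lit 0x3b00000f000018004016, nat_lit 0x3f00000600002c00400e, nat_lit 0x3f00001b000020004010, nat_lit 0x43000006000034004012, nat_lit 0x4300001b00002400c014, nat_lit 0x4700004400600a, nat_lit 0x4700000600003000a012, nat_lit 0x4700001b000028004014, nat_lit 0x4b00000a00003c004012, nat_lit 0x4b00001f00002400c016, nat_lit 0x4f00004c00600a, nat_lit 0x4f00000a00003800a012, nat_lit 0x4f00001f000028004016, nat_lit 0x5300001a00003800c014, nat_lit 0x5300002b00003000c016, nat_lit 0x5700005400600a, nat_lit 0x5700001a00003c004014,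 nat_lit 0x5700002b000034004016, nat_lit 0x5b000036000058004012, nat_lit 0x5b00003a00004c00c014, nat_lit 0x5b00003f00004400c016, nat_lit 0x5f00005c00600a, nat_lit 0x5f00003600005400a012, nat_lit 0x5f00003a000050004014, nat_lit 0x5f00003f000048004016]
noncomputable def TT_b5_S : List (List ℕ) := [TT_b5_S0]
noncomputable def TT_b5_defs : List ℕ := [(nat_lit 0x40000f0030000f0040000a0030000a0040000700300007004000060030000600200006004000030030000300400002003000020020000200400001003000010020000100100001004000000030000000200000001000000000000000000000)]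
noncomputable def TT_b5_recs : List ℕ := [(nat_lit 0x20001100017010001300017000001400017040001600017020001000016010001200016000001500016020000c00015010000e00015040001400015020000b00014010000d00014020000900013000000d00013040001200013020000800012000000e00012010000900011000000b00011040001000011010000800010000000c0001001000070000f000000a0000f02000050000e040000d0000e02000040000d01000050000c040000b0000c01000040000b01000030000a000000400009040000800009000000500008000000300007000000200006040000400005)]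
noncomputable def TT_b5_L0 : List ℕ := [nat_lit 0x700000100000b00000200000f000003000013000004000017000005, nat_lit 0x800000000001b00000600001f000007000023000008000027000009, nat_lit 0x600000600000c00000000002b00000a00002f00000b00003300000c, nat_lit 0xa00000700001a00000a00001000000000003700000d00003b00000e, nat_lit 0x1600000900001e00000b00002a00000d000002000005000014000000, nat_lit 0xe00000800002600000c00003200000e000018000000000001000004, nat_lit 0x500000200001c00000100003f00000f000043000010000047000011, nat_lit 0x900000300003a00000f00002000000100004b00001200004f000013, nat_lit 0xd000005000042000010000056000012000012000009000024000001, nat_lit 0x1500000400004e000011000062000013000028000001000011000008, nat_lit 0x3600000f00001900000300002c000002000053000014000057000015, nat_lit 0x4a00001100001d00000400006a00001400002200000c000030000002, nat_lit 0x3e00001000002500000500007600001500003400000200002100000b,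 nat_lit 0x5e00001300006600001400002900000400002e00000e000038000003, nat_lit 0x5200001200007200001500003100000500003c00000300002d00000d, nat_lit 0x3500000a00003900000700004000000600005b00001600005f000017, nat_lit 0x3d00000c000041000008000082000016000046000011000044000006, nat_lit 0x4900000b00004d000009000092000017000048000006000045000010, nat_lit 0x5100000e00007e00001600005500000800005a00001300004c000007, nat_lit 0x5d00000d00008e000017000061000009000050000007000059000012, nat_lit 0x8a00001700006500000d00006900000b00006e00001500005400000a, nat_lit 0x7a00001600007100000e00007500000c00005800000a00006d000014, nat_lit 0x7900001500007d00001200008100001000008600001700005c00000f, nat_lit 0x8900001400008d00001300009100001100006000000f000085000016]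
noncomputable def TT_b5_L : List (List ℕ) := [TT_b5_L0]
noncomputable def TT_b5_V : List ℕ := [(nat_lit 0x17000000160000001500000014000000130000001200000011000000100000000f0000000e0000000d0000000c0000000b0000000a00000009000000080000000700000006000000050000000400000003000000020000000100000000)]
noncomputable def TT_b5_D : H26.Dag := ⟨[0,1,2,4,3], [[0,0],
  [1,1],
  [2,2],
  [3,4],
  [4,3],
  [3,3,3],
  [1,0,1,0],
  [2,0,2,0],
  [2,1,2,1],
  [3,0,3,0],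
  [4,1,3,1],
  [4,2,3,2]], [], TT_b5_defs, TT_b5_recs⟩
theorem TT_b5_c : TT_b5_D.checkTab TT_b5_S 24 5 TT_b5_V TT_b5_L = true := by decide +kernel
theorem TT_b5 : Bound TT_Rl 5 24 :=
  bound_dag (Bound.zero TT_Rl) (K := 5) (J := [0,1,2,3,4,9,12,13,14,18,23,25]) (by decide +kernel) TT_b5_c (by decide +kernel)
noncomputable def TT_b9_S0 : List ℕ := [nat_lit 0x1, nat_lit 0x1, nat_lit 0x1, nat_lit 0x1, nat_lit 0x700000e00000800c016, nat_lit 0x700000100000800c020, nat_lit 0x700000900000800c026, nat_lit 0xb000008006012, nat_lit 0xb00000d00000c004016, nat_lit 0xb00000500000800a01c, nat_lit 0xb00000100000c004020, nat_lit 0xb00000900000c004026, nat_lit 0xf00000e00001000c018, nat_lit 0xf00000100001000c022, nat_lit 0xf00000500001000c024, nat_lit 0x13000010006014, nat_lit 0x1300000d000014004018, nat_lit 0x1300000900001000a01e, nat_lit 0x13000001000014004022, nat_lit 0x13000005000014004024, nat_lit 0x1700001200001800c018,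 nat_lit 0x1700000700001000201a, nat_lit 0x1700001500001800c022, nat_lit 0x1b000018006014, nat_lit 0x1b00001100001c004018, nat_lit 0x1b00000700001400401a, nat_lit 0x1b00001900001800a01e, nat_lit 0x1b00001500001c004022, nat_lit 0x1f00002100002000c018, nat_lit 0x1f00000b00001000c01a, nat_lit 0x1f00001e00001800201a, nat_lit 0x1f00002900002000c022, nat_lit 0x1f00002600001800c024, nat_lit 0x23000020006014, nat_lit 0x23000022000024004018, nat_lit 0x2300001e00001c00401a, nat_lit 0x2300000b00001400a01a, nat_lit 0x2300002d00002000a01e, nat_lit 0x23000029000024004022, nat_lit 0x2300002600001c004024]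
noncomputable def TT_b9_S : List (List ℕ) := [TT_b9_S0]
noncomputable def TT_b9_defs : List ℕ := [(nat_lit 0x8000020070000200800001007000010080000000700000006000000050000000000000)]
noncomputable def TT_b9_recs : List ℕ := [(nat_lit 0x10000600008000000800008020000700008050000400008060000600008040000800008080000700008010000500007000000700007060000500007050000300007030000700007000000600006020000500006060000400006040000600006080000500006000000500005060000300005030000500005010000400004000000400004020000300004040000400004080000300004010000300003000000300003030000300003020000200002000000200002010000100002040000200002060000100002020000100001000000100001030000100001030000000000020000000000010000000000000000000000)]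
noncomputable def TT_b9_L0 : List ℕ := [nat_lit 0x100000000000500000000000900000000000d00000000000e00000000000700000100000b00000200000f000003000013000004, nat_lit 0x1500000100002600000200001900000100001100000100001200000100001e00000200000800000000001700000500001b000006, nat_lit 0x2900000200002500000100002d00000200002200000200002100000200000c00000000001d00000100001f000007000023000008, nat_lit 0x3500000300003900000300004600000400003100000300003200000300005600000500007600000700003e000004000010000000, nat_lit 0x4900000400004d00000400004500000300004200000400004100000400006600000600009200000800001400000000003d000003, nat_lit 0x5900000500008200000700006a00000600005100000500005200000500007a00000700005500000300005e000006000018000001, nat_lit 0x6d00000600009e00000800006900000500006200000600006100000600008e00000800006500000400001c00000100005d000005, nat_lit 0x7d000007000081000005000096000008000071000007000072000007000075000003000079000005000086000008000020000002,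 nat_lit 0x9900000800009d00000600009500000700008a00000800008900000800009100000400008d000006000024000002000085000007]
noncomputable def TT_b9_L : List (List ℕ) := [TT_b9_L0]
noncomputable def TT_b9_V : List ℕ := [(nat_lit 0x80000000700000006000000050000000400000003000000020000000100000000)]
noncomputable def TT_b9_D : H26.Dag := ⟨[0,1,2,4,3,6,5,8,7], [[0,0],
  [1,1],
  [2,2],
  [3,4],
  [4,3],
  [5,6],
  [6,5],
  [7,8],
  [8,7],
  [5,5,5],
  [7,7,7],
  [6,4,5,3],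
  [8,4,7,3],
  [8,6,7,5],
  [5,1,5,1],
  [7,2,7,2],
  [6,0,5,0],
  [8,0,7,0],
  [8,1,7,1],
  [6,2,5,2]], [0,1,2,3,4], TT_b9_defs, TT_b9_recs⟩
theorem TT_b9_c : TT_b9_D.checkTab TT_b9_S 9 9 TT_b9_V TT_b9_L = true := by decide +kernel
theorem TT_b9 : Bound TT_Rl 9 216 :=
  bound_dag TT_b5 (K := 9) (J := [0,1,2,3,4,5,6,7,8,10,11,15,16,17,19,20,21,22,24,26]) (by decide +kernel) TT_b9_c (by decide +kernel)
noncomputable def KK1_Rl : List (List ℕ) := [[0,0],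
  [1,1],
  [2,3],
  [3,2],
  [4,5],
  [5,4],
  [6,7],
  [7,6],
  [8,9],
  [9,8],
  [4,4,4],
  [6,6,6],
  [8,8,8],
  [7,5,6,4],
  [9,5,8,4],
  [9,7,8,6],
  [2,2,2],
  [8,6,3,4,2],
  [7,9,5,7,3,6,2],
  [9,6,4,3,8,2],
  [4,0,4,0],
  [7,0,6,0],
  [9,0,8,0],
  [3,0,2,0,3,0,2,0],
  [5,1,4,1],
  [7,1,6,1],
  [0,1,0,1],
  [1]]
theorem KK1_r {G : Type*} [Group G] {s u v w e f : G}
    (h : KR w e f v s u)
    (r : u = 1) :
    Rels (nthG [s, u, v, v⁻¹, w, w⁻¹, e, e⁻¹, f, f⁻¹]) KK1_Rl :=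
  rels_of_eqs ((InvI.cons h.2.2.2.2.2.2.2.2.2.2.1 (InvI.cons h.2.2.2.2.2.2.2.2.2.2.2.2.2.2.2.1 InvI.nil)) : InvI [s, u, v, w, e, f] [(nat_lit 0), (nat_lit 1)])
    (AllEq.append (show AllEq [s, u, v, w, e, f] [((.pw (.v (nat_lit 3)) (nat_lit 3)), .one), ((.pw (.v (nat_lit 4)) (nat_lit 3)), .one), ((.pw (.v (nat_lit 5)) (nat_lit 3)), .one), ((.mul (.v (nat_lit 3)) (.v (nat_lit 4))), (.mul (.v (nat_lit 4)) (.v (nat_lit 3)))), ((.mul (.v (nat_lit 3)) (.v (nat_lit 5))), (.mul (.v (nat_lit 5)) (.v (nat_lit 3)))), ((.mul (.v (nat_lit 4)) (.v (nat_lit 5))), (.mul (.v (nat_lit 5)) (.v (nat_lit 4)))), ((.pw (.v (nat_lit 2)) (nat_lit 3)), .one), ((.mul (.mul (.v (nat_lit 2)) (.v (nat_lit 3))) (.inv (.v (nat_lit 2)))), (.inv (.mul (.v (nat_lit 4)) (.v (nat_lit 5))))), ((.mul (.mul (.v (nat_lit 2)) (.v (nat_lit 4))) (.inv (.v (nat_lit 2)))), (.mul (.mul (.v (nat_lit 4)) (.v (nat_lit 5))) (.mul (.v (nat_lit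 3)) (.v (nat_lit 4))))), ((.mul (.mul (.v (nat_lit 2)) (.v (nat_lit 5))) (.inv (.v (nat_lit 2)))), (.mul (.v (nat_lit 5)) (.inv (.mul (.v (nat_lit 3)) (.v (nat_lit 4)))))), ((.mul (.v (nat_lit 0)) (.v (nat_lit 0))), .one), ((.mul (.mul (.v (nat_lit 0)) (.v (nat_lit 3))) (.inv (.v (nat_lit 0)))), (.inv (.v (nat_lit 3)))), ((.mul (.v (nat_lit 0)) (.v (nat_lit 4))), (.mul (.v (nat_lit 4)) (.v (nat_lit 0)))), ((.mul (.v (nat_lit 0)) (.v (nat_lit 5))), (.mul (.v (nat_lit 5)) (.v (nat_lit 0)))), ((.mul (.v (nat_lit 0)) (.mul (.mul (.v (nat_lit 2)) (.v (nat_lit 0))) (.inv (.v (nat_lit 2))))), (.mul (.mul (.mul (.v (nat_lit 2)) (.v (nat_lit 0))) (.inv (.v (nat_lit 2)))) (.v (nat_lit 0)))), ((.mul (.v (nat_lit 1)) (.v (nat_lit 1))), .one), ((.mul (.v (nat_lit 1)) (.v (nat_lit 3))), (.mul (.v (nat_lit 3)) (.v (nat_lit 1)))), ((.mul (.v (nat_lit 1)) (.v (nat_lit 4))), (.mul (.v (nat_lit 4)) (.v (nat_lit 1)))),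 ((.mul (.v (nat_lit 1)) (.v (nat_lit 0))), (.mul (.v (nat_lit 0)) (.v (nat_lit 1))))] from h)
    (show AllEq [s, u, v, w, e, f] [((.v (nat_lit 1)), .one)] from ⟨r, trivial⟩))
    [(.v (nat_lit 0)), (.v (nat_lit 1)), (.v (nat_lit 2)), (.inv (.v (nat_lit 2))), (.v (nat_lit 3)), (.inv (.v (nat_lit 3))), (.v (nat_lit 4)), (.inv (.v (nat_lit 4))), (.v (nat_lit 5)), (.inv (.v (nat_lit 5)))] (by decide +kernel)
noncomputable abbrev KK1_o : Ops := pops (nat_lit 9) (nat_lit 4) (nat_lit 15) (nat_lit 0x876543210)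
noncomputable def KK1_cs : List ℕ := [(nat_lit 0x876543120), (nat_lit 0x876543210), (nat_lit 0x210876543), (nat_lit 0x543210876), (nat_lit 0x876543021), (nat_lit 0x876543102), (nat_lit 0x687354210), (nat_lit 0x768435210), (nat_lit 0x768354210), (nat_lit 0x687435210)]
noncomputable def KK1_L : List (List ℕ) := [[(nat_lit 0x876543210), (nat_lit 0x210876543), (nat_lit 0x543210876), (nat_lit 0x876543021), (nat_lit 0x876543102), (nat_lit 0x210687354), (nat_lit 0x210768435), (nat_lit 0x354210687), (nat_lit 0x435210768)],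
  [(nat_lit 0x876543210), (nat_lit 0x687354210), (nat_lit 0x768435210)],
  [(nat_lit 0x876543210), (nat_lit 0x768543210), (nat_lit 0x687543210)],
  [(nat_lit 0x876543210), (nat_lit 0x876543120)],
  [(nat_lit 0x876543210), (nat_lit 0x876453210)],
  [(nat_lit 0x876543210), (nat_lit 0x786543210)]]
noncomputable def KK1_WW : List (List (List ℕ)) := [[[],
  [(nat_lit 2)],
  [(nat_lit 3)],
  [(nat_lit 4)],
  [(nat_lit 5)],
  [(nat_lit 2), (nat_lit 6)],
  [(nat_lit 2), (nat_lit 7)],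
  [(nat_lit 3), (nat_lit 6)],
  [(nat_lit 3), (nat_lit 7)]],
  [[],
  [(nat_lit 6)],
  [(nat_lit 7)]],
  [[],
  [(nat_lit 6), (nat_lit 9)],
  [(nat_lit 7), (nat_lit 8)]],
  [[],
  [(nat_lit 0)]],
  [[],
  [(nat_lit 3), (nat_lit 0), (nat_lit 2)]],
  [[],
  [(nat_lit 2), (nat_lit 0), (nat_lit 3)]]]
noncomputable def KK1_b4_S0 : List ℕ := [nat_lit 0xb00000e, nat_lit 0x100000b000002, nat_lit 0x700000500000800c00c, nat_lit 0x13000010006008, nat_lit 0x1b000018006008, nat_lit 0x2300000e, nat_lit 0x15000023000002, nat_lit 0x1f00001900002000c00c, nat_lit 0x2b00000e, nat_lit 0x2100002b000002, nat_lit 0x2700002500002800c00c, nat_lit 0x3300000e, nat_lit 0x2d000033000002, nat_lit 0x2f00003100003000c00c, nat_lit 0x3b00000e, nat_lit 0x3900003b000002, nat_lit 0x3700003d00003800c00c, nat_lit 0x43000040006008, nat_lit 0x4b000048006008, nat_lit 0x53000050006008, nat_lit 0x5300002f00001700000700001000002000004400400a,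 nat_lit 0x5700003700001b00000700001400002800004800c00a, nat_lit 0x5b000058006008, nat_lit 0x6300000e, nat_lit 0x5d000063000002, nat_lit 0x5f00006100006000c00c, nat_lit 0x6700000e, nat_lit 0x69000067000002, nat_lit 0x5200006d00005100c00c, nat_lit 0x6b00000e, nat_lit 0x7500006b000002, nat_lit 0x5600007900005500c00c, nat_lit 0x6f00004b00002700000e00002000004000006000800a, nat_lit 0x7300000e, nat_lit 0x85000073000002, nat_lit 0x6f00008900007000c00c, nat_lit 0x7b00000e, nat_lit 0x9100007b000002, nat_lit 0x7700009500007800c00c, nat_lit 0x7f00005b00003700001200003000005000007800800a, nat_lit 0x8300000e, nat_lit 0xa1000083000002, nat_lit 0x7f0000a500008000c00c, nat_lit 0x87000081004008, nat_lit 0x8b00009d004008, nat_lit 0x8b00007700004d00005200004600006000008800c00a, nat_lit 0x8f00000e, nat_lit 0xb900008f000002, nat_lit 0xb60000bd0000b500c00c]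
noncomputable def KK1_b4_S : List (List ℕ) := [KK1_b4_S0]
noncomputable def KK1_b4_defs : List ℕ := [(nat_lit 0x1000210020001d0020001700100016000000160010001300000013001000120000001200100011001000100010000f0000000f0030000d0020000d0030000b0020000b00300009002000090030000700200007001000060000000600100005000000050010000400000004001000030000000300300001002000010030000000200000001000000000000000000000)]
noncomputable def KK1_b4_recs : List ℕ := [(nat_lit 0x10002200022010002100021ff0002100023000002100022020001f00022020001b00021010001f0001f010001600016ff0001600020020001d0001f010001d0001d010001300013ff000130001e010001b0001b010001200012ff000120001c02000170001b010001500015010001100011ff000110001a010001400014010001000010ff0001000019010001700017010000f0000fff0000f00018030001500016000001100015000001000014030001300014030001100012030000f00010010000d0000d010000600006ff000060000e010000b0000b010000500005ff000050000c010000900009010000400004ff000040000a010000700007010000300003ff0000300008030000500006030000300004010000100001010000000000ff0000000002)]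
noncomputable def KK1_b4_L0 : List ℕ := [nat_lit 0x700000100000500000000000f000002000013000003, nat_lit 0x800000000000900000100001700000400001b000005, nat_lit 0x1f00000600001900000200000e000003000010000000, nat_lit 0x2700000700002500000300001400000000000d000002, nat_lit 0x2f000008000031000004000012000005000018000001, nat_lit 0x3700000900003d00000500001c000001000011000004, nat_lit 0x2000000200001d00000600003f00000a00004300000b, nat_lit 0x2800000300002900000700004700000c00004b00000d, nat_lit 0x3000000400003500000800004f00000e00005300000f, nat_lit 0x3800000500004100000900005700001000005b000011, nat_lit 0x5f00001200006100000a00004600000b000040000006, nat_lit 0x5200000f00006d00000b00004400000600004500000a, nat_lit 0x5600001000007900000c00004a00000d000048000007, nat_lit 0x6f00001300008900000d00004c00000700004900000c, nat_lit 0x7700001400009500000e00004e00000f000050000008, nat_lit 0x5100000b00007100000f00005400000800004d00000e,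 nat_lit 0x5500000c00007d00001000005a000011000058000009, nat_lit 0x7f0000150000a500001100005c000009000059000010, nat_lit 0x6000000a000065000012000087000016000082000013, nat_lit 0x7000000d00008d0000130000810000120000ae000016, nat_lit 0x7800000e00009900001400008b00001700009e000015, nat_lit 0x800000110000a900001500009d0000140000b2000017, nat_lit 0xb60000170000bd0000160000ad000013000088000012, nat_lit 0xb50000160000c10000170000b100001500008c000014]
noncomputable def KK1_b4_L : List (List ℕ) := [KK1_b4_L0]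
noncomputable def KK1_b4_V : List ℕ := [(nat_lit 0x22000000210000001f0000001d0000001b00000017000000160000001500000014000000130000001200000011000000100000000f0000000d0000000b0000000900000007000000060000000500000004000000030000000100000000)]
noncomputable def KK1_b4_D : H26.Dag := ⟨[0,1,3,2], [[0,0],
  [1,1],
  [2,3],
  [3,2],
  [2,2,2],
  [3,0,2,0,3,0,2,0],
  [0,1,0,1],
  [1]], [], KK1_b4_defs, KK1_b4_recs⟩
theorem KK1_b4_c : KK1_b4_D.checkTab KK1_b4_S 24 4 KK1_b4_V KK1_b4_L = true := by decide +kernel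
theorem KK1_b4 : Bound KK1_Rl 4 24 :=
  bound_dag (Bound.zero KK1_Rl) (K := 4) (J := [0,1,2,3,16,23,26,27]) (by decide +kernel) KK1_b4_c (by decide +kernel)
noncomputable def KK1_b10_S0 : List ℕ := [nat_lit 0x1, nat_lit 0x1, nat_lit 0x1, nat_lit 0xb000007008014, nat_lit 0x700000100000d00c028, nat_lit 0xe00000500000d004030, nat_lit 0xc00001500000b004030, nat_lit 0x1300000f008016, nat_lit 0x1e00000100001d00402a, nat_lit 0x1e00000500001d004032, nat_lit 0x14000025000013004032, nat_lit 0x1400002100001300402a, nat_lit 0x1b000017008018, nat_lit 0x3200000100003100402c, nat_lit 0x1c00003500001b00402c, nat_lit 0x1f00001e00000d00801a, nat_lit 0x3e00001500003d004032, nat_lit 0x2300003200000d00801c, nat_lit 0x2700003200001d00801e, nat_lit 0x4a00002100004900402c, nat_lit 0x700000a00001d000049010022, nat_lit 0x2b00001700000900000d008022, nat_lit 0x3e00005500002b00001700000d00003d00a024, nat_lit 0x5600001100005200004d00005100001200005501c02e,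 nat_lit 0x2b00001700001000001e, nat_lit 0x3300002f00004a00001e00000900001d010024, nat_lit 0x2f00002700002400801a, nat_lit 0x2f00004a00002000801c, nat_lit 0x2400006900006e00005900006d00c026, nat_lit 0x69000034004016, nat_lit 0x3b00003700003200000900003100c026, nat_lit 0x7100007900a020, nat_lit 0x3c00007d00006e00003e00a022, nat_lit 0x56000081008020, nat_lit 0x37000028004016, nat_lit 0x3700002400007600201a, nat_lit 0x3700001b00002c00001e, nat_lit 0x3700003200001000e01e, nat_lit 0x3700003500003800c02a, nat_lit 0x3b00009900008e00c028, nat_lit 0x8d00003c006014, nat_lit 0x4300003f008016, nat_lit 0x3e00000b0000a500401a, nat_lit 0x1e0000080000a500a01a, nat_lit 0x3e0000110000a500402a, nat_lit 0xa60000190000a5004032, nat_lit 0x440000b5000043004032, nat_lit 0x440000ad00001300401a, nat_lit 0xad00001300006100005600004500c026, nat_lit 0x7a0000240000c1000043000022, nat_lit 0x4b000047008018, nat_lit 0x4600000b0000c900401c,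 nat_lit 0x320000080000c900a01c, nat_lit 0xc600003f0000c900401e, nat_lit 0x460000110000c900402c, nat_lit 0x3f0000c90000d1000028000051000040002024, nat_lit 0x4c0000d500007a0000d2002022, nat_lit 0x4c0000d100001b00401c, nat_lit 0x4f0000ca0000a500801e, nat_lit 0x6e0000aa0000e900401c, nat_lit 0x4a0000ae0000e900a01c, nat_lit 0xc60000440000e900a01e, nat_lit 0x6e0000b20000e900402c, nat_lit 0xf500007d00006a000023000032000010018024]
noncomputable def KK1_b10_S1 : List ℕ := [nat_lit 0x53000051008020, nat_lit 0x650000a20000d60000ca000101010026, nat_lit 0x5400010500001e000008000101006026, nat_lit 0x8600008a0000f20000ea0000a6000101014024, nat_lit 0x10200001200008100009900008200001100010100402e, nat_lit 0x10d00002b004016, nat_lit 0x5b00005700004700010100c022, nat_lit 0x1f00010600011900801c, nat_lit 0x2f00010a00011900601c, nat_lit 0x5c00012100007100001b00002c00e026, nat_lit 0x3b00009200012500001c, nat_lit 0xbe00006100012500e01c,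 nat_lit 0x1c000038000085000125002022, nat_lit 0x5b00013100a020, nat_lit 0x5f00003d004016, nat_lit 0x1400002000013900401a, nat_lit 0x440000a900013900a01a, nat_lit 0x3300006e00013900801e, nat_lit 0x440000b100013900402a, nat_lit 0x13a000041000139004032, nat_lit 0xd50000a100014600013a000059000139010024, nat_lit 0x5800013100011500010500002000013900a024, nat_lit 0x63000045004018, nat_lit 0x1c00002400015900401c, nat_lit 0x4c0000cd00015900a01c, nat_lit 0x12100006a00015900a01e, nat_lit 0x4c0000d900015900402c, nat_lit 0xad000065000075000159010022, nat_lit 0xce0000500000ea0000c200015900c026, nat_lit 0x6700006300008100008e008022, nat_lit 0x6500017500a020, nat_lit 0x3300007e0000a1000175012022, nat_lit 0x5700004c000152000145000175008026, nat_lit 0x13a00001f00017a00017d000175016026, nat_lit 0x11a00010900002700007200003400017500c024, nat_lit 0x18900011a00010d00a01a, nat_lit 0x12600005d00018d00c028, nat_lit 0x6b0000fd004020,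 nat_lit 0x1020000a50000e900019500c022, nat_lit 0x5b0001290000f6000195006022, nat_lit 0xfe00009500008a0000f2000195006026, nat_lit 0x13100002c0001250001290000f6000195014024, nat_lit 0x15600005f0000450000ce000050000195006024, nat_lit 0x5b00019200017600009d00007d0000fa00019500402e, nat_lit 0x1960001a20001a900016200016d006026, nat_lit 0x7300006f00015d00c030, nat_lit 0x1b5000034, nat_lit 0x1ba0001b6000002, nat_lit 0x15d0001ba000073000008, nat_lit 0x1c200006f000002, nat_lit 0x1620001c5000161004030, nat_lit 0x670001c500006800c032, nat_lit 0x1660001c5000165004032, nat_lit 0x1190001d100011a00c030, nat_lit 0x19d0001d100019e004030, nat_lit 0x1a60001d90001a5004032, nat_lit 0x1250001dd000126004030, nat_lit 0x7b00007700002300c030, nat_lit 0x1e5000034, nat_lit 0x1ea0001e6000002, nat_lit 0x230001ea00007b000008, nat_lit 0x1f2000077000002, nat_lit 0xcd0001f50000ce004030, nat_lit 0x750001f500007600c032]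
noncomputable def KK1_b10_S2 : List ℕ := [nat_lit 0x6a0001f5000069004032, nat_lit 0x3000020100002f00c030, nat_lit 0xed0002010000ee004030, nat_lit 0xf60002090000f5004032, nat_lit 0x3c00020d00003b004030]
noncomputable def KK1_b10_S : List (List ℕ) := [KK1_b10_S0, KK1_b10_S1, KK1_b10_S2]
noncomputable def KK1_b10_defs : List ℕ := [(nat_lit 0x40001d001000080040001b00100018002000030060001800800002006000020030001500600011002000090070001200800011008000010060000f006000010040000d006000060070000b005000090060000500700006005000060050000400800005008000000060000300600000004000010040000000000000)]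
noncomputable def KK1_b10_recs : List ℕ := [(nat_lit 0x2000030001300000130000b06000130000e04000130000905000130000b080001000013050000500011030001200011030000f0000f00000120000807000120000e040001200006050001200008080000100012080000f0000e03000080001005000030000f010000f0000f010001000010000001000007040001000004050001000007060000100010050000e0000c000000c0000e000000d0000d08000030000d090000a0000d050000c0000d06000090000d020000d0000a02000020000d030000e0000b03000060000e060000c00008030000b0000608000070000b06000080000b03000040000c09000030000a000000a0000a02000070000703000020000a020000900001000000900009080000400009080000200008010000700007060000200007000000500005000000600006080000000006000000300003010000300003010000400004000000400004060000000004010000100001010000200002000000200001040000000002020000000000010000000000000000000000),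
  (nat_lit 0x10000c0000c010001200012010000800008ff0001d00008010000600006ff0001e0000601000060001e010000a0000a010001500015010001a0001a010001400014010001600016010001900019010001100011010001800018ff0001b00018010000500005ff0001c0000501000050001c09000100001a000001a00016070001a00011060001a00015090001a00013050001a00016040001a0001402000130001a000001900015040000a0001907000190001608000190001704000190001509000190000c030001900004030000c0001903000180000802000180001000000180001106000180001604000180001105000180000508000080001802000170001103000170001201000170001700000170000f08000170000c04000170000f05000170000306000070001703000050001603000150000508000150000f09000150000e050000a0001509000160000b08000160000704000140001606000050001400000140001406000140000a090001400009080001400004020000100014),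
  (nat_lit 0x10000d0000d010000e0000e010001300013010000900009010000b0000b)]
noncomputable def KK1_b10_L0 : List ℕ := [nat_lit 0x100000000000500000000000900000000000a00000000000700000100000e00000200000f00000300001e000004000017000005000032000006, nat_lit 0x1100000200001900000100005100000900010200001400000b00000200000800000000003f00000f0000a60000100000470000110000ca000012, nat_lit 0x1200000100001500000200005600000a00008200000d00000d00000000000c00000100005f00001700003e000007000063000018000046000008, nat_lit 0x2d00000300002900000300006b00001a0000fe0000130000be00000f00013d00001700001300000400001000000000006200000a00009600000d, nat_lit 0x2100000400002500000400006600000c0001790000190000ad00001000001f00000700001d00000000001400000300010500001400004a000009, nat_lit 0x390000050001bd0000050001360000160001310000150000e600001100015d00001800002b00000a00011600001400001b000006000018000000, nat_lit 0x350000060001ed00000600007a00000e00007100000b0000d100001200002300000800003700000d00002700000900003100000000001c000005,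 nat_lit 0xb100001000004100000700005900000700005a0000070000200000040000a900001000003d00000200013a00001700011d00001600006e00000b, nat_lit 0xd90000120001f50000080000c20000100001710000180000240000060000cd00001200007500000c00006a00000b00004500000200015a000018, nat_lit 0x4d0000090002050000090000530000140000520000010000f100001300002f00000b00002800000600008a00000d000049000004000109000014, nat_lit 0x5d00000a0001e100000a00008500000d00005500000200012600001500018e00001900010d00001400002c00000500009200000d000061000003, nat_lit 0xf900001300020100000b00007200000600007d00000e0000300000090000ed00001300006900000800003300000c00006d000007000121000016, nat_lit 0x9e00000e0001fd00000c00017600001900006500000400008e00000d0000a100000e00003400000b00007600000800014500001700017d000019, nat_lit 0x9900000d00021100000d00008100000200008600000a00003b00000e00008d00000c00008900000900003800000600009500000300009100000a, nat_lit 0x9d00000c00020d00000e00007e00000b0000790000060000a200000c00003c00000d0000f50000130000d50000120000c500000f000129000015,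 nat_lit 0x1490000170000b900000f0000de00000f0000dd00000f0001410000170000bd00000300004300001000004000000100012d0000150000c600000e, nat_lit 0xb20000070000b500001000016d0000180000c10000080000aa0000070000ae0000040000a500000100004400000f0001b200001a0000ea000013, nat_lit 0x1690000180001c90000110001550000170000e10000120001610000180000e50000050000570000150001a900001a00004b000012000048000001, nat_lit 0xda0000080001f90000120000e20000110001510000170000ce0000080000d20000060000d600000e00004f0000130000c900000100004c000011, nat_lit 0xfa00000b0002090000130000fd00000300019600001a0000ee00000b0000f20000090000500000120000f600000e0000e90000100001a100001a, nat_lit 0x1110000140001d500001400010100000100005400000900019900001a00011a00001600011500000500010e00000a00010a000009000106000004, nat_lit 0x1910000190001dd00001500013200000500005b00001600018100001900012500000a0001a500001a00005800001100012a00000e00012e00000f, nat_lit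 0x1ad00001a0001d100001600005c00001500013500000500011900001400019d00001a00016500001800018900001900012200000b00011e000007, nat_lit 0x14a00000f00014d00001700015200001200015600001100013e00000300014200000f00013900000700006000000200018500001900014600000c, nat_lit 0x16a0000110001c500001800017200000800016e00001000015e000005000162000011000067000019000166000016000159000008000064000002, nat_lit 0x1920000150001cd00001900017a00000400017500000c00018d00000a00018200001500018a00001600006800001800017e00000c000186000017, nat_lit 0x1ae0000160001d900001a00019500001300006c00000300019e00001600019a0000140001aa0000110001a60000150001a20000130001b1000010]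
noncomputable def KK1_b10_L : List (List ℕ) := [KK1_b10_L0]
noncomputable def KK1_b10_V : List ℕ := [(nat_lit 0x1a000000190000001800000017000000160000001500000014000000130000001200000011000000100000000f0000000e0000000d0000000c0000000b0000000a00000009000000080000000700000006000000050000000400000003000000020000000100000000)]
noncomputable def KK1_b10_D : H26.Dag := ⟨[0,1,3,2,5,4,7,6,9,8], [[0,0],
  [1,1],
  [2,3],
  [3,2],
  [4,5],
  [5,4],
  [6,7],
  [7,6],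
  [8,9],
  [9,8],
  [4,4,4],
  [6,6,6],
  [8,8,8],
  [7,5,6,4],
  [9,5,8,4],
  [9,7,8,6],
  [2,2,2],
  [8,6,3,4,2],
  [7,9,5,7,3,6,2],
  [9,6,4,3,8,2],
  [4,0,4,0],
  [7,0,6,0],
  [9,0,8,0],
  [3,0,2,0,3,0,2,0],
  [5,1,4,1],
  [7,1,6,1],
  [1]], [0,1,2,3], KK1_b10_defs, KK1_b10_recs⟩
theorem KK1_b10_c : KK1_b10_D.checkTab KK1_b10_S 27 10 KK1_b10_V KK1_b10_L = true := by decide +kernel
theorem KK1_b10 : Bound KK1_Rl 10 648 :=
  bound_dag KK1_b4 (K := 10) (J := [0,1,2,3,4,5,6,7,8,9,10,11,12,13,14,15,16,17,18,19,20,21,22,23,24,25,27]) (by decide +kernel) KK1_b10_c (by decide +kernel)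
theorem KK1_P : PModel (nat_lit 9) (nat_lit 4) (nat_lit 15) (nat_lit 0x876543210) KK1_cs KK1_Rl KK1_L 648 :=
  ⟨PkOK.of (by decide +kernel), by decide +kernel, by decide +kernel, KK1_b10, ⟨KK1_WW, by decide +kernel⟩,
    ⟨fun c => Nat.mod c (nat_lit 5704), by decide +kernel⟩⟩
noncomputable def KK1_soc_t0 : ST := (.node (nat_lit 8220) (.node (nat_lit 4192) (.node (nat_lit 2104) (.node (nat_lit 1025) (.node (nat_lit 631) (.node (nat_lit 380) (.node (nat_lit 197) (.node (nat_lit 133) (.node (nat_lit 87) (.leaf (nat_lit 3)) (.leaf (nat_lit 36))) (.node (nat_lit 160) (.leaf (nat_lit 3)) (.leaf (nat_lit 325)))) (.node (nat_lit 310) (.node (nat_lit 209) (.leaf (nat_lit 3)) (.leaf (nat_lit 162))) (.node (nat_lit 370) (.leaf (nat_lit 36)) (.leaf (nat_lit 81))))) (.node (nat_lit 414) (.node (nat_lit 402) (.node (nat_lit 384) (.leaf (nat_lit 3)) (.leaf (nat_lit 36))) (.node (nat_lit 404) (.leaf (nat_lit 3))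 (.leaf (nat_lit 1)))) (.node (nat_lit 447) (.node (nat_lit 427) (.leaf (nat_lit 162)) (.leaf (nat_lit 36))) (.node (nat_lit 455) (.leaf (nat_lit 3)) (.node (nat_lit 609) (.leaf (nat_lit 325)) (.leaf (nat_lit 1))))))) (.node (nat_lit 869) (.node (nat_lit 675) (.node (nat_lit 660) (.node (nat_lit 649) (.leaf (nat_lit 36)) (.leaf (nat_lit 3))) (.node (nat_lit 661) (.leaf (nat_lit 325)) (.leaf (nat_lit 162)))) (.node (nat_lit 744) (.node (nat_lit 730) (.leaf (nat_lit 3)) (.leaf (nat_lit 162))) (.node (nat_lit 774) (.leaf (nat_lit 3)) (.leaf (nat_lit 81))))) (.node (nat_lit 946) (.node (nat_lit 904) (.node (nat_lit 893) (.leaf (nat_lit 325)) (.leaf (nat_lit 81))) (.node (nat_lit 914) (.leaf (nat_lit 1)) (.leaf (nat_lit 81)))) (.node (nat_lit 958) (.node (nat_lit 956) (.leaf (nat_lit 3)) (.leaf (nat_lit 0))) (.node (nat_lit 971) (.leaf (nat_lit 162)) (.node (nat_lit 991) (.leaf (nat_lit 36)) (.leaf (nat_lit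 3)))))))) (.node (nat_lit 1471) (.node (nat_lit 1203) (.node (nat_lit 1176) (.node (nat_lit 1074) (.node (nat_lit 1064) (.leaf (nat_lit 162)) (.leaf (nat_lit 36))) (.node (nat_lit 1151) (.leaf (nat_lit 325)) (.leaf (nat_lit 1)))) (.node (nat_lit 1195) (.node (nat_lit 1193) (.leaf (nat_lit 36)) (.leaf (nat_lit 3))) (.node (nat_lit 1196) (.leaf (nat_lit 36)) (.leaf (nat_lit 3))))) (.node (nat_lit 1390) (.node (nat_lit 1220) (.node (nat_lit 1204) (.leaf (nat_lit 0)) (.leaf (nat_lit 325))) (.node (nat_lit 1318) (.leaf (nat_lit 1)) (.leaf (nat_lit 81)))) (.node (nat_lit 1437) (.node (nat_lit 1431) (.leaf (nat_lit 325)) (.leaf (nat_lit 162))) (.node (nat_lit 1439) (.leaf (nat_lit 81)) (.node (nat_lit 1448) (.leaf (nat_lit 162)) (.leaf (nat_lit 1))))))) (.node (nat_lit 1747) (.node (nat_lit 1618) (.node (nat_lit 1536) (.node (nat_lit 1500) (.leaf (nat_lit 36)) (.leaf (nat_lit 0))) (.node (nat_lit 1569)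 (.leaf (nat_lit 3)) (.leaf (nat_lit 162)))) (.node (nat_lit 1685) (.node (nat_lit 1626) (.leaf (nat_lit 325)) (.leaf (nat_lit 3))) (.node (nat_lit 1695) (.leaf (nat_lit 325)) (.node (nat_lit 1718) (.leaf (nat_lit 1)) (.leaf (nat_lit 36)))))) (.node (nat_lit 1884) (.node (nat_lit 1794) (.node (nat_lit 1787) (.leaf (nat_lit 0)) (.leaf (nat_lit 36))) (.node (nat_lit 1876) (.leaf (nat_lit 325)) (.leaf (nat_lit 3)))) (.node (nat_lit 1952) (.node (nat_lit 1908) (.leaf (nat_lit 325)) (.leaf (nat_lit 81))) (.node (nat_lit 1983) (.leaf (nat_lit 0)) (.node (nat_lit 2015) (.leaf (nat_lit 162)) (.leaf (nat_lit 36))))))))) (.node (nat_lit 3191) (.node (nat_lit 2696) (.node (nat_lit 2355) (.node (nat_lit 2262) (.node (nat_lit 2152) (.node (nat_lit 2128) (.leaf (nat_lit 3)) (.leaf (nat_lit 1))) (.node (nat_lit 2229) (.leaf (nat_lit 3)) (.leaf (nat_lit 325)))) (.node (nat_lit 2322) (.node (nat_lit 2276) (.leaf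 (nat_lit 36)) (.leaf (nat_lit 0))) (.node (nat_lit 2333) (.leaf (nat_lit 81)) (.leaf (nat_lit 1))))) (.node (nat_lit 2454) (.node (nat_lit 2420) (.node (nat_lit 2385) (.leaf (nat_lit 36)) (.leaf (nat_lit 162))) (.node (nat_lit 2452) (.leaf (nat_lit 3)) (.leaf (nat_lit 81)))) (.node (nat_lit 2632) (.node (nat_lit 2580) (.leaf (nat_lit 162)) (.leaf (nat_lit 1))) (.node (nat_lit 2649) (.leaf (nat_lit 162)) (.node (nat_lit 2695) (.leaf (nat_lit 1)) (.leaf (nat_lit 36))))))) (.node (nat_lit 2929) (.node (nat_lit 2877) (.node (nat_lit 2715) (.node (nat_lit 2698) (.leaf (nat_lit 3)) (.leaf (nat_lit 36))) (.node (nat_lit 2866) (.leaf (nat_lit 3)) (.leaf (nat_lit 81)))) (.node (nat_lit 2908) (.node (nat_lit 2900) (.leaf (nat_lit 1)) (.leaf (nat_lit 36))) (.node (nat_lit 2917) (.leaf (nat_lit 162)) (.leaf (nat_lit 3))))) (.node (nat_lit 2977) (.node (nat_lit 2944) (.node (nat_lit 2933) (.leaf (nat_lit 162))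 (.leaf (nat_lit 81))) (.node (nat_lit 2945) (.leaf (nat_lit 1)) (.leaf (nat_lit 36)))) (.node (nat_lit 3117) (.node (nat_lit 3114) (.leaf (nat_lit 162)) (.leaf (nat_lit 325))) (.node (nat_lit 3147) (.leaf (nat_lit 162)) (.node (nat_lit 3161) (.leaf (nat_lit 36)) (.leaf (nat_lit 81)))))))) (.node (nat_lit 3637) (.node (nat_lit 3471) (.node (nat_lit 3419) (.node (nat_lit 3216) (.node (nat_lit 3197) (.leaf (nat_lit 1)) (.leaf (nat_lit 81))) (.node (nat_lit 3260) (.leaf (nat_lit 36)) (.leaf (nat_lit 3)))) (.node (nat_lit 3452) (.node (nat_lit 3444) (.leaf (nat_lit 1)) (.leaf (nat_lit 36))) (.node (nat_lit 3464) (.leaf (nat_lit 162)) (.leaf (nat_lit 3))))) (.node (nat_lit 3507) (.node (nat_lit 3488) (.node (nat_lit 3477) (.leaf (nat_lit 0)) (.leaf (nat_lit 81))) (.node (nat_lit 3489) (.leaf (nat_lit 1)) (.leaf (nat_lit 36)))) (.node (nat_lit 3518) (.node (nat_lit 3511) (.leaf (nat_lit 3)) (.leaf (nat_lit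 36))) (.node (nat_lit 3521) (.leaf (nat_lit 325)) (.node (nat_lit 3581) (.leaf (nat_lit 162)) (.leaf (nat_lit 3))))))) (.node (nat_lit 3958) (.node (nat_lit 3735) (.node (nat_lit 3682) (.node (nat_lit 3670) (.leaf (nat_lit 325)) (.leaf (nat_lit 0))) (.node (nat_lit 3691) (.leaf (nat_lit 81)) (.leaf (nat_lit 36)))) (.node (nat_lit 3804) (.node (nat_lit 3758) (.leaf (nat_lit 1)) (.leaf (nat_lit 36))) (.node (nat_lit 3832) (.leaf (nat_lit 3)) (.node (nat_lit 3940) (.leaf (nat_lit 36)) (.leaf (nat_lit 1)))))) (.node (nat_lit 4062) (.node (nat_lit 4051) (.node (nat_lit 3986) (.leaf (nat_lit 325)) (.leaf (nat_lit 36))) (.node (nat_lit 4055) (.leaf (nat_lit 3)) (.leaf (nat_lit 36)))) (.node (nat_lit 4125) (.node (nat_lit 4086) (.leaf (nat_lit 325)) (.leaf (nat_lit 81))) (.node (nat_lit 4176) (.leaf (nat_lit 3)) (.node (nat_lit 4181) (.leaf (nat_lit 81)) (.leaf (nat_lit 325)))))))))) (.node (nat_lit 6231)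 (.node (nat_lit 5187) (.node (nat_lit 4766) (.node (nat_lit 4406) (.node (nat_lit 4362) (.node (nat_lit 4256) (.node (nat_lit 4220) (.leaf (nat_lit 3)) (.leaf (nat_lit 0))) (.node (nat_lit 4302) (.leaf (nat_lit 3)) (.leaf (nat_lit 36)))) (.node (nat_lit 4376) (.node (nat_lit 4373) (.leaf (nat_lit 81)) (.leaf (nat_lit 1))) (.node (nat_lit 4394) (.leaf (nat_lit 36)) (.leaf (nat_lit 3))))) (.node (nat_lit 4590) (.node (nat_lit 4507) (.node (nat_lit 4420) (.leaf (nat_lit 162)) (.leaf (nat_lit 3))) (.node (nat_lit 4551) (.leaf (nat_lit 36)) (.leaf (nat_lit 3)))) (.node (nat_lit 4652) (.node (nat_lit 4620) (.leaf (nat_lit 81)) (.leaf (nat_lit 1))) (.node (nat_lit 4736) (.leaf (nat_lit 325)) (.node (nat_lit 4751) (.leaf (nat_lit 3)) (.leaf (nat_lit 162))))))) (.node (nat_lit 4938) (.node (nat_lit 4896) (.node (nat_lit 4848) (.node (nat_lit 4841) (.leaf (nat_lit 81)) (.leaf (nat_lit 162))) (.node (nat_lit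 4867) (.leaf (nat_lit 1)) (.leaf (nat_lit 3)))) (.node (nat_lit 4906) (.node (nat_lit 4900) (.leaf (nat_lit 1)) (.leaf (nat_lit 162))) (.node (nat_lit 4917) (.leaf (nat_lit 81)) (.leaf (nat_lit 1))))) (.node (nat_lit 4950) (.node (nat_lit 4941) (.node (nat_lit 4940) (.leaf (nat_lit 3)) (.leaf (nat_lit 36))) (.node (nat_lit 4948) (.leaf (nat_lit 3)) (.leaf (nat_lit 0)))) (.node (nat_lit 5095) (.node (nat_lit 5066) (.leaf (nat_lit 162)) (.leaf (nat_lit 325))) (.node (nat_lit 5164) (.leaf (nat_lit 3)) (.node (nat_lit 5176) (.leaf (nat_lit 1)) (.leaf (nat_lit 162)))))))) (.node (nat_lit 5677) (.node (nat_lit 5415) (.node (nat_lit 5245) (.node (nat_lit 5201) (.node (nat_lit 5196) (.leaf (nat_lit 36)) (.leaf (nat_lit 325))) (.node (nat_lit 5213) (.leaf (nat_lit 81)) (.leaf (nat_lit 36)))) (.node (nat_lit 5394) (.node (nat_lit 5310) (.leaf (nat_lit 162)) (.leaf (nat_lit 81))) (.node (nat_lit 5406) (.leaf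 (nat_lit 0)) (.leaf (nat_lit 81))))) (.node (nat_lit 5492) (.node (nat_lit 5440) (.node (nat_lit 5431) (.leaf (nat_lit 36)) (.leaf (nat_lit 162))) (.node (nat_lit 5463) (.leaf (nat_lit 1)) (.leaf (nat_lit 36)))) (.node (nat_lit 5561) (.node (nat_lit 5515) (.leaf (nat_lit 0)) (.leaf (nat_lit 81))) (.node (nat_lit 5621) (.leaf (nat_lit 162)) (.node (nat_lit 5664) (.leaf (nat_lit 3)) (.leaf (nat_lit 1))))))) (.node (nat_lit 5962) (.node (nat_lit 5775) (.node (nat_lit 5731) (.node (nat_lit 5697) (.leaf (nat_lit 325)) (.leaf (nat_lit 0))) (.node (nat_lit 5766) (.leaf (nat_lit 36)) (.leaf (nat_lit 162)))) (.node (nat_lit 5849) (.node (nat_lit 5810) (.leaf (nat_lit 3)) (.leaf (nat_lit 81))) (.node (nat_lit 5905) (.leaf (nat_lit 3)) (.node (nat_lit 5938) (.leaf (nat_lit 325)) (.leaf (nat_lit 81)))))) (.node (nat_lit 6126) (.node (nat_lit 5980) (.node (nat_lit 5975) (.leaf (nat_lit 36)) (.leaf (nat_lit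 162))) (.node (nat_lit 6007) (.leaf (nat_lit 3)) (.leaf (nat_lit 36)))) (.node (nat_lit 6180) (.node (nat_lit 6165) (.leaf (nat_lit 81)) (.leaf (nat_lit 3))) (.node (nat_lit 6208) (.leaf (nat_lit 162)) (.node (nat_lit 6221) (.leaf (nat_lit 1)) (.leaf (nat_lit 325))))))))) (.node (nat_lit 7216) (.node (nat_lit 6674) (.node (nat_lit 6475) (.node (nat_lit 6377) (.node (nat_lit 6325) (.node (nat_lit 6296) (.leaf (nat_lit 36)) (.leaf (nat_lit 3))) (.node (nat_lit 6354) (.leaf (nat_lit 1)) (.leaf (nat_lit 81)))) (.node (nat_lit 6446) (.node (nat_lit 6426) (.leaf (nat_lit 162)) (.leaf (nat_lit 325))) (.node (nat_lit 6460) (.leaf (nat_lit 162)) (.leaf (nat_lit 3))))) (.node (nat_lit 6572) (.node (nat_lit 6524) (.node (nat_lit 6499) (.leaf (nat_lit 162)) (.leaf (nat_lit 325))) (.node (nat_lit 6540) (.leaf (nat_lit 3)) (.leaf (nat_lit 81)))) (.node (nat_lit 6591) (.node (nat_lit 6573) (.leaf (nat_lit 3))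 (.leaf (nat_lit 36))) (.node (nat_lit 6630) (.leaf (nat_lit 3)) (.node (nat_lit 6662) (.leaf (nat_lit 81)) (.leaf (nat_lit 3))))))) (.node (nat_lit 6920) (.node (nat_lit 6830) (.node (nat_lit 6791) (.node (nat_lit 6690) (.leaf (nat_lit 162)) (.leaf (nat_lit 36))) (.node (nat_lit 6798) (.leaf (nat_lit 162)) (.leaf (nat_lit 1)))) (.node (nat_lit 6892) (.node (nat_lit 6869) (.leaf (nat_lit 325)) (.leaf (nat_lit 1))) (.node (nat_lit 6912) (.leaf (nat_lit 36)) (.leaf (nat_lit 3))))) (.node (nat_lit 7034) (.node (nat_lit 6936) (.node (nat_lit 6921) (.leaf (nat_lit 325)) (.leaf (nat_lit 162))) (.node (nat_lit 6990) (.leaf (nat_lit 1)) (.leaf (nat_lit 162)))) (.node (nat_lit 7135) (.node (nat_lit 7106) (.leaf (nat_lit 81)) (.leaf (nat_lit 325))) (.node (nat_lit 7164) (.leaf (nat_lit 3)) (.node (nat_lit 7209) (.leaf (nat_lit 1)) (.leaf (nat_lit 3)))))))) (.node (nat_lit 7668) (.node (nat_lit 7436) (.node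 (nat_lit 7285) (.node (nat_lit 7239) (.node (nat_lit 7234) (.leaf (nat_lit 0)) (.leaf (nat_lit 36))) (.node (nat_lit 7252) (.leaf (nat_lit 81)) (.leaf (nat_lit 3)))) (.node (nat_lit 7365) (.node (nat_lit 7334) (.leaf (nat_lit 162)) (.leaf (nat_lit 325))) (.node (nat_lit 7415) (.leaf (nat_lit 36)) (.leaf (nat_lit 0))))) (.node (nat_lit 7490) (.node (nat_lit 7458) (.node (nat_lit 7456) (.leaf (nat_lit 36)) (.leaf (nat_lit 3))) (.node (nat_lit 7480) (.leaf (nat_lit 36)) (.leaf (nat_lit 1)))) (.node (nat_lit 7510) (.node (nat_lit 7503) (.leaf (nat_lit 162)) (.leaf (nat_lit 36))) (.node (nat_lit 7555) (.leaf (nat_lit 325)) (.node (nat_lit 7650) (.leaf (nat_lit 81)) (.leaf (nat_lit 325))))))) (.node (nat_lit 7945) (.node (nat_lit 7783) (.node (nat_lit 7699) (.node (nat_lit 7685) (.leaf (nat_lit 0)) (.leaf (nat_lit 1))) (.node (nat_lit 7731) (.leaf (nat_lit 162)) (.leaf (nat_lit 36)))) (.node (nat_lit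 7850) (.node (nat_lit 7796) (.leaf (nat_lit 81)) (.leaf (nat_lit 3))) (.node (nat_lit 7889) (.leaf (nat_lit 81)) (.node (nat_lit 7904) (.leaf (nat_lit 3)) (.leaf (nat_lit 162)))))) (.node (nat_lit 8002) (.node (nat_lit 7981) (.node (nat_lit 7965) (.leaf (nat_lit 325)) (.leaf (nat_lit 0))) (.node (nat_lit 8001) (.leaf (nat_lit 36)) (.leaf (nat_lit 3)))) (.node (nat_lit 8034) (.node (nat_lit 8020) (.leaf (nat_lit 36)) (.leaf (nat_lit 3))) (.node (nat_lit 8047) (.leaf (nat_lit 162)) (.node (nat_lit 8054) (.leaf (nat_lit 36)) (.leaf (nat_lit 325))))))))))) (.node (nat_lit 12787) (.node (nat_lit 10348) (.node (nat_lit 9204) (.node (nat_lit 8694) (.node (nat_lit 8448) (.node (nat_lit 8278) (.node (nat_lit 8259) (.node (nat_lit 8252) (.leaf (nat_lit 162)) (.leaf (nat_lit 36))) (.node (nat_lit 8264) (.leaf (nat_lit 325)) (.leaf (nat_lit 81)))) (.node (nat_lit 8365) (.node (nat_lit 8296) (.leaf (nat_lit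 36)) (.leaf (nat_lit 3))) (.node (nat_lit 8394) (.leaf (nat_lit 1)) (.leaf (nat_lit 81))))) (.node (nat_lit 8554) (.node (nat_lit 8525) (.node (nat_lit 8522) (.leaf (nat_lit 162)) (.leaf (nat_lit 1))) (.node (nat_lit 8543) (.leaf (nat_lit 36)) (.leaf (nat_lit 3)))) (.node (nat_lit 8593) (.node (nat_lit 8564) (.leaf (nat_lit 325)) (.leaf (nat_lit 3))) (.node (nat_lit 8612) (.leaf (nat_lit 1)) (.node (nat_lit 8624) (.leaf (nat_lit 3)) (.leaf (nat_lit 162))))))) (.node (nat_lit 9059) (.node (nat_lit 8870) (.node (nat_lit 8808) (.node (nat_lit 8714) (.leaf (nat_lit 325)) (.leaf (nat_lit 162))) (.node (nat_lit 8840) (.leaf (nat_lit 81)) (.leaf (nat_lit 3)))) (.node (nat_lit 8932) (.node (nat_lit 8909) (.leaf (nat_lit 325)) (.leaf (nat_lit 1))) (.node (nat_lit 8985) (.leaf (nat_lit 36)) (.leaf (nat_lit 1))))) (.node (nat_lit 9090) (.node (nat_lit 9087) (.node (nat_lit 9066) (.leaf (nat_lit 162)) (.leaf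 (nat_lit 1))) (.node (nat_lit 9089) (.leaf (nat_lit 3)) (.leaf (nat_lit 36)))) (.node (nat_lit 9139) (.node (nat_lit 9098) (.leaf (nat_lit 3)) (.leaf (nat_lit 325))) (.node (nat_lit 9160) (.leaf (nat_lit 0)) (.node (nat_lit 9180) (.leaf (nat_lit 36)) (.leaf (nat_lit 3)))))))) (.node (nat_lit 9942) (.node (nat_lit 9656) (.node (nat_lit 9409) (.node (nat_lit 9284) (.node (nat_lit 9279) (.leaf (nat_lit 1)) (.leaf (nat_lit 81))) (.node (nat_lit 9386) (.leaf (nat_lit 325)) (.leaf (nat_lit 81)))) (.node (nat_lit 9520) (.node (nat_lit 9410) (.leaf (nat_lit 1)) (.leaf (nat_lit 36))) (.node (nat_lit 9633) (.leaf (nat_lit 3)) (.leaf (nat_lit 36))))) (.node (nat_lit 9771) (.node (nat_lit 9707) (.node (nat_lit 9683) (.leaf (nat_lit 1)) (.leaf (nat_lit 81))) (.node (nat_lit 9725) (.leaf (nat_lit 36)) (.leaf (nat_lit 3)))) (.node (nat_lit 9802) (.node (nat_lit 9778) (.leaf (nat_lit 36)) (.leaf (nat_lit 325)))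 (.node (nat_lit 9846) (.leaf (nat_lit 81)) (.node (nat_lit 9936) (.leaf (nat_lit 162)) (.leaf (nat_lit 0))))))) (.node (nat_lit 10190) (.node (nat_lit 9972) (.node (nat_lit 9953) (.node (nat_lit 9944) (.leaf (nat_lit 81)) (.leaf (nat_lit 162))) (.node (nat_lit 9954) (.leaf (nat_lit 1)) (.leaf (nat_lit 36)))) (.node (nat_lit 9983) (.node (nat_lit 9976) (.leaf (nat_lit 3)) (.leaf (nat_lit 36))) (.node (nat_lit 10021) (.leaf (nat_lit 325)) (.node (nat_lit 10041) (.leaf (nat_lit 36)) (.leaf (nat_lit 3)))))) (.node (nat_lit 10299) (.node (nat_lit 10223) (.node (nat_lit 10200) (.leaf (nat_lit 0)) (.leaf (nat_lit 1))) (.node (nat_lit 10269) (.leaf (nat_lit 36)) (.leaf (nat_lit 3)))) (.node (nat_lit 10318) (.node (nat_lit 10314) (.leaf (nat_lit 325)) (.leaf (nat_lit 3))) (.node (nat_lit 10336) (.leaf (nat_lit 36)) (.node (nat_lit 10346) (.leaf (nat_lit 3)) (.leaf (nat_lit 81))))))))) (.node (nat_lit 11834)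 (.node (nat_lit 11110) (.node (nat_lit 10583) (.node (nat_lit 10520) (.node (nat_lit 10467) (.node (nat_lit 10375) (.leaf (nat_lit 162)) (.leaf (nat_lit 81))) (.node (nat_lit 10516) (.leaf (nat_lit 162)) (.leaf (nat_lit 3)))) (.node (nat_lit 10543) (.node (nat_lit 10527) (.leaf (nat_lit 36)) (.leaf (nat_lit 325))) (.node (nat_lit 10565) (.leaf (nat_lit 1)) (.leaf (nat_lit 36))))) (.node (nat_lit 10767) (.node (nat_lit 10633) (.node (nat_lit 10594) (.leaf (nat_lit 3)) (.leaf (nat_lit 325))) (.node (nat_lit 10657) (.leaf (nat_lit 1)) (.leaf (nat_lit 3)))) (.node (nat_lit 10892) (.node (nat_lit 10811) (.leaf (nat_lit 36)) (.leaf (nat_lit 3))) (.node (nat_lit 11008) (.leaf (nat_lit 162)) (.node (nat_lit 11011) (.leaf (nat_lit 325)) (.leaf (nat_lit 162))))))) (.node (nat_lit 11413) (.node (nat_lit 11201) (.node (nat_lit 11138) (.node (nat_lit 11127) (.leaf (nat_lit 36)) (.leaf (nat_lit 3))) (.node (nat_lit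 11200) (.leaf (nat_lit 325)) (.leaf (nat_lit 36)))) (.node (nat_lit 11231) (.node (nat_lit 11203) (.leaf (nat_lit 3)) (.leaf (nat_lit 36))) (.node (nat_lit 11332) (.leaf (nat_lit 81)) (.leaf (nat_lit 3))))) (.node (nat_lit 11570) (.node (nat_lit 11482) (.node (nat_lit 11450) (.leaf (nat_lit 0)) (.leaf (nat_lit 36))) (.node (nat_lit 11552) (.leaf (nat_lit 162)) (.leaf (nat_lit 325)))) (.node (nat_lit 11678) (.node (nat_lit 11576) (.leaf (nat_lit 162)) (.leaf (nat_lit 81))) (.node (nat_lit 11765) (.leaf (nat_lit 36)) (.node (nat_lit 11775) (.leaf (nat_lit 3)) (.leaf (nat_lit 81)))))))) (.node (nat_lit 12267) (.node (nat_lit 12012) (.node (nat_lit 11914) (.node (nat_lit 11859) (.node (nat_lit 11842) (.leaf (nat_lit 1)) (.leaf (nat_lit 81))) (.node (nat_lit 11896) (.leaf (nat_lit 0)) (.leaf (nat_lit 162)))) (.node (nat_lit 11957) (.node (nat_lit 11924) (.leaf (nat_lit 0)) (.leaf (nat_lit 1))) (.node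 (nat_lit 11994) (.leaf (nat_lit 0)) (.leaf (nat_lit 36))))) (.node (nat_lit 12070) (.node (nat_lit 12026) (.node (nat_lit 12023) (.leaf (nat_lit 3)) (.leaf (nat_lit 325))) (.node (nat_lit 12038) (.leaf (nat_lit 162)) (.leaf (nat_lit 3)))) (.node (nat_lit 12142) (.node (nat_lit 12114) (.leaf (nat_lit 81)) (.leaf (nat_lit 162))) (.node (nat_lit 12240) (.leaf (nat_lit 325)) (.node (nat_lit 12256) (.leaf (nat_lit 3)) (.leaf (nat_lit 81))))))) (.node (nat_lit 12491) (.node (nat_lit 12309) (.node (nat_lit 12288) (.node (nat_lit 12270) (.leaf (nat_lit 1)) (.leaf (nat_lit 36))) (.node (nat_lit 12289) (.leaf (nat_lit 3)) (.leaf (nat_lit 36)))) (.node (nat_lit 12401) (.node (nat_lit 12386) (.leaf (nat_lit 3)) (.leaf (nat_lit 81))) (.node (nat_lit 12403) (.leaf (nat_lit 36)) (.node (nat_lit 12440) (.leaf (nat_lit 81)) (.leaf (nat_lit 162)))))) (.node (nat_lit 12556) (.node (nat_lit 12514) (.node (nat_lit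 12507) (.leaf (nat_lit 36)) (.leaf (nat_lit 162))) (.node (nat_lit 12546) (.leaf (nat_lit 1)) (.leaf (nat_lit 325)))) (.node (nat_lit 12591) (.node (nat_lit 12567) (.leaf (nat_lit 3)) (.leaf (nat_lit 325))) (.node (nat_lit 12686) (.leaf (nat_lit 81)) (.node (nat_lit 12735) (.leaf (nat_lit 325)) (.leaf (nat_lit 162)))))))))) (.node (nat_lit 14729) (.node (nat_lit 13718) (.node (nat_lit 13271) (.node (nat_lit 13051) (.node (nat_lit 12834) (.node (nat_lit 12811) (.node (nat_lit 12800) (.leaf (nat_lit 3)) (.leaf (nat_lit 81))) (.node (nat_lit 12832) (.leaf (nat_lit 1)) (.leaf (nat_lit 3)))) (.node (nat_lit 13005) (.node (nat_lit 12835) (.leaf (nat_lit 36)) (.leaf (nat_lit 3))) (.node (nat_lit 13038) (.leaf (nat_lit 81)) (.leaf (nat_lit 36))))) (.node (nat_lit 13090) (.node (nat_lit 13058) (.node (nat_lit 13056) (.leaf (nat_lit 162)) (.leaf (nat_lit 3))) (.node (nat_lit 13081) (.leaf (nat_lit 1)) (.leaf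 (nat_lit 36)))) (.node (nat_lit 13155) (.node (nat_lit 13131) (.leaf (nat_lit 325)) (.leaf (nat_lit 81))) (.node (nat_lit 13256) (.leaf (nat_lit 36)) (.node (nat_lit 13263) (.leaf (nat_lit 162)) (.leaf (nat_lit 1))))))) (.node (nat_lit 13591) (.node (nat_lit 13401) (.node (nat_lit 13378) (.node (nat_lit 13315) (.leaf (nat_lit 81)) (.leaf (nat_lit 162))) (.node (nat_lit 13398) (.leaf (nat_lit 36)) (.leaf (nat_lit 3)))) (.node (nat_lit 13515) (.node (nat_lit 13499) (.leaf (nat_lit 1)) (.leaf (nat_lit 81))) (.node (nat_lit 13558) (.leaf (nat_lit 3)) (.leaf (nat_lit 1))))) (.node (nat_lit 13625) (.node (nat_lit 13610) (.node (nat_lit 13600) (.leaf (nat_lit 162)) (.leaf (nat_lit 3))) (.node (nat_lit 13616) (.leaf (nat_lit 0)) (.leaf (nat_lit 81)))) (.node (nat_lit 13681) (.node (nat_lit 13660) (.leaf (nat_lit 36)) (.leaf (nat_lit 162))) (.node (nat_lit 13699) (.leaf (nat_lit 0)) (.node (nat_lit 13717)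 (.leaf (nat_lit 36)) (.leaf (nat_lit 3)))))))) (.node (nat_lit 14125) (.node (nat_lit 13892) (.node (nat_lit 13830) (.node (nat_lit 13766) (.node (nat_lit 13750) (.leaf (nat_lit 36)) (.leaf (nat_lit 162))) (.node (nat_lit 13815) (.leaf (nat_lit 36)) (.leaf (nat_lit 81)))) (.node (nat_lit 13874) (.node (nat_lit 13844) (.leaf (nat_lit 36)) (.leaf (nat_lit 81))) (.node (nat_lit 13880) (.leaf (nat_lit 1)) (.leaf (nat_lit 0))))) (.node (nat_lit 13975) (.node (nat_lit 13945) (.node (nat_lit 13936) (.leaf (nat_lit 325)) (.leaf (nat_lit 162))) (.node (nat_lit 13968) (.leaf (nat_lit 1)) (.leaf (nat_lit 36)))) (.node (nat_lit 14059) (.node (nat_lit 13994) (.leaf (nat_lit 325)) (.leaf (nat_lit 36))) (.node (nat_lit 14102) (.leaf (nat_lit 3)) (.node (nat_lit 14110) (.leaf (nat_lit 1)) (.leaf (nat_lit 81))))))) (.node (nat_lit 14410) (.node (nat_lit 14310) (.node (nat_lit 14164) (.node (nat_lit 14154) (.leaf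 (nat_lit 36)) (.leaf (nat_lit 0))) (.node (nat_lit 14190) (.leaf (nat_lit 162)) (.leaf (nat_lit 3)))) (.node (nat_lit 14320) (.node (nat_lit 14315) (.leaf (nat_lit 36)) (.leaf (nat_lit 81))) (.node (nat_lit 14328) (.leaf (nat_lit 325)) (.node (nat_lit 14340) (.leaf (nat_lit 3)) (.leaf (nat_lit 162)))))) (.node (nat_lit 14519) (.node (nat_lit 14480) (.node (nat_lit 14441) (.leaf (nat_lit 325)) (.leaf (nat_lit 36))) (.node (nat_lit 14512) (.leaf (nat_lit 162)) (.leaf (nat_lit 36)))) (.node (nat_lit 14556) (.node (nat_lit 14524) (.leaf (nat_lit 325)) (.leaf (nat_lit 81))) (.node (nat_lit 14586) (.leaf (nat_lit 3)) (.node (nat_lit 14669) (.leaf (nat_lit 325)) (.leaf (nat_lit 36))))))))) (.node (nat_lit 15579) (.node (nat_lit 15195) (.node (nat_lit 14884) (.node (nat_lit 14814) (.node (nat_lit 14782) (.node (nat_lit 14775) (.leaf (nat_lit 81)) (.leaf (nat_lit 162))) (.node (nat_lit 14806) (.leaf (nat_lit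 1)) (.leaf (nat_lit 3)))) (.node (nat_lit 14859) (.node (nat_lit 14827) (.leaf (nat_lit 325)) (.leaf (nat_lit 3))) (.node (nat_lit 14872) (.leaf (nat_lit 81)) (.leaf (nat_lit 3))))) (.node (nat_lit 15045) (.node (nat_lit 15000) (.node (nat_lit 14987) (.leaf (nat_lit 162)) (.leaf (nat_lit 1))) (.node (nat_lit 15039) (.leaf (nat_lit 325)) (.leaf (nat_lit 162)))) (.node (nat_lit 15089) (.node (nat_lit 15077) (.leaf (nat_lit 81)) (.leaf (nat_lit 3))) (.node (nat_lit 15103) (.leaf (nat_lit 162)) (.node (nat_lit 15130) (.leaf (nat_lit 3)) (.leaf (nat_lit 325))))))) (.node (nat_lit 15384) (.node (nat_lit 15335) (.node (nat_lit 15303) (.node (nat_lit 15273) (.leaf (nat_lit 36)) (.leaf (nat_lit 81))) (.node (nat_lit 15315) (.leaf (nat_lit 1)) (.leaf (nat_lit 162)))) (.node (nat_lit 15349) (.node (nat_lit 15340) (.leaf (nat_lit 325)) (.leaf (nat_lit 81))) (.node (nat_lit 15350) (.leaf (nat_lit 36)) (.node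 (nat_lit 15352) (.leaf (nat_lit 3)) (.leaf (nat_lit 36)))))) (.node (nat_lit 15531) (.node (nat_lit 15449) (.node (nat_lit 15423) (.leaf (nat_lit 162)) (.leaf (nat_lit 36))) (.node (nat_lit 15524) (.leaf (nat_lit 81)) (.leaf (nat_lit 162)))) (.node (nat_lit 15544) (.node (nat_lit 15539) (.leaf (nat_lit 1)) (.leaf (nat_lit 81))) (.node (nat_lit 15554) (.leaf (nat_lit 325)) (.node (nat_lit 15562) (.leaf (nat_lit 36)) (.leaf (nat_lit 162)))))))) (.node (nat_lit 15985) (.node (nat_lit 15739) (.node (nat_lit 15621) (.node (nat_lit 15598) (.node (nat_lit 15583) (.leaf (nat_lit 1)) (.leaf (nat_lit 162))) (.node (nat_lit 15604) (.leaf (nat_lit 1)) (.leaf (nat_lit 0)))) (.node (nat_lit 15669) (.node (nat_lit 15631) (.leaf (nat_lit 9)) (.leaf (nat_lit 0))) (.node (nat_lit 15700) (.leaf (nat_lit 1)) (.leaf (nat_lit 162))))) (.node (nat_lit 15870) (.node (nat_lit 15757) (.node (nat_lit 15749) (.leaf (nat_lit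 36)) (.leaf (nat_lit 325))) (.node (nat_lit 15859) (.leaf (nat_lit 3)) (.leaf (nat_lit 162)))) (.node (nat_lit 15896) (.node (nat_lit 15884) (.leaf (nat_lit 36)) (.leaf (nat_lit 81))) (.node (nat_lit 15914) (.leaf (nat_lit 36)) (.node (nat_lit 15928) (.leaf (nat_lit 3)) (.leaf (nat_lit 162))))))) (.node (nat_lit 16148) (.node (nat_lit 16091) (.node (nat_lit 16034) (.node (nat_lit 16015) (.leaf (nat_lit 3)) (.leaf (nat_lit 325))) (.node (nat_lit 16044) (.leaf (nat_lit 36)) (.leaf (nat_lit 325)))) (.node (nat_lit 16106) (.node (nat_lit 16098) (.leaf (nat_lit 0)) (.leaf (nat_lit 36))) (.node (nat_lit 16142) (.leaf (nat_lit 162)) (.node (nat_lit 16146) (.leaf (nat_lit 1)) (.leaf (nat_lit 36)))))) (.node (nat_lit 16236) (.node (nat_lit 16204) (.node (nat_lit 16165) (.leaf (nat_lit 81)) (.leaf (nat_lit 36))) (.node (nat_lit 16235) (.leaf (nat_lit 162)) (.leaf (nat_lit 3)))) (.node (nat_lit 16259) (.node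 (nat_lit 16243) (.leaf (nat_lit 36)) (.leaf (nat_lit 325))) (.node (nat_lit 16301) (.leaf (nat_lit 1)) (.node (nat_lit 16360) (.leaf (nat_lit 3)) (.leaf (nat_lit 325))))))))))))
noncomputable def KK1_soc_t1 : ST := (.node (nat_lit 1803) (.node (nat_lit 703) (.node (nat_lit 237) (.node (nat_lit 169) (.node (nat_lit 154) (.node (nat_lit 28) (.node (nat_lit 10) (.leaf (nat_lit 324)) (.leaf (nat_lit 27))) (.node (nat_lit 151) (.leaf (nat_lit 324)) (.leaf (nat_lit 162)))) (.node (nat_lit 164) (.node (nat_lit 162) (.leaf (nat_lit 324)) (.leaf (nat_lit 162))) (.node (nat_lit 166) (.leaf (nat_lit 324)) (.leaf (nat_lit 0))))) (.node (nat_lit 215) (.node (nat_lit 183) (.node (nat_lit 177) (.leaf (nat_lit 324)) (.leaf (nat_lit 162))) (.node (nat_lit 208) (.leaf (nat_lit 324)) (.leaf (nat_lit 162)))) (.node (nat_lit 226) (.node (nat_lit 223) (.leaf (nat_lit 324)) (.leaf (nat_lit 162))) (.node (nat_lit 235)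 (.leaf (nat_lit 324)) (.leaf (nat_lit 81)))))) (.node (nat_lit 298) (.node (nat_lit 268) (.node (nat_lit 241) (.node (nat_lit 239) (.leaf (nat_lit 324)) (.leaf (nat_lit 162))) (.node (nat_lit 250) (.leaf (nat_lit 324)) (.leaf (nat_lit 27)))) (.node (nat_lit 289) (.node (nat_lit 281) (.leaf (nat_lit 324)) (.leaf (nat_lit 81))) (.node (nat_lit 296) (.leaf (nat_lit 324)) (.leaf (nat_lit 81))))) (.node (nat_lit 479) (.node (nat_lit 458) (.node (nat_lit 448) (.leaf (nat_lit 324)) (.leaf (nat_lit 162))) (.node (nat_lit 478) (.leaf (nat_lit 324)) (.leaf (nat_lit 162)))) (.node (nat_lit 523) (.node (nat_lit 521) (.leaf (nat_lit 324)) (.leaf (nat_lit 81))) (.node (nat_lit 551) (.leaf (nat_lit 324)) (.node (nat_lit 558) (.leaf (nat_lit 9)) (.leaf (nat_lit 324)))))))) (.node (nat_lit 1383) (.node (nat_lit 1101) (.node (nat_lit 776) (.node (nat_lit 718) (.node (nat_lit 704) (.leaf (nat_lit 162)) (.leaf (nat_lit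 324))) (.node (nat_lit 721) (.leaf (nat_lit 0)) (.leaf (nat_lit 324)))) (.node (nat_lit 791) (.node (nat_lit 784) (.leaf (nat_lit 81)) (.leaf (nat_lit 324))) (.node (nat_lit 813) (.leaf (nat_lit 9)) (.leaf (nat_lit 324))))) (.node (nat_lit 1262) (.node (nat_lit 1247) (.node (nat_lit 1130) (.leaf (nat_lit 162)) (.leaf (nat_lit 324))) (.node (nat_lit 1253) (.leaf (nat_lit 81)) (.leaf (nat_lit 324)))) (.node (nat_lit 1341) (.node (nat_lit 1264) (.leaf (nat_lit 81)) (.leaf (nat_lit 324))) (.node (nat_lit 1345) (.leaf (nat_lit 162)) (.node (nat_lit 1371) (.leaf (nat_lit 324)) (.leaf (nat_lit 162))))))) (.node (nat_lit 1616) (.node (nat_lit 1535) (.node (nat_lit 1489) (.node (nat_lit 1487) (.leaf (nat_lit 324)) (.leaf (nat_lit 81))) (.node (nat_lit 1517) (.leaf (nat_lit 324)) (.leaf (nat_lit 27)))) (.node (nat_lit 1602) (.node (nat_lit 1596) (.leaf (nat_lit 324)) (.leaf (nat_lit 162))) (.node (nat_lit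 1611) (.leaf (nat_lit 324)) (.leaf (nat_lit 162))))) (.node (nat_lit 1749) (.node (nat_lit 1660) (.node (nat_lit 1642) (.leaf (nat_lit 324)) (.leaf (nat_lit 162))) (.node (nat_lit 1742) (.leaf (nat_lit 324)) (.leaf (nat_lit 81)))) (.node (nat_lit 1775) (.node (nat_lit 1757) (.leaf (nat_lit 324)) (.leaf (nat_lit 27))) (.node (nat_lit 1788) (.leaf (nat_lit 324)) (.node (nat_lit 1790) (.leaf (nat_lit 81)) (.leaf (nat_lit 324))))))))) (.node (nat_lit 2960) (.node (nat_lit 2283) (.node (nat_lit 2058) (.node (nat_lit 1912) (.node (nat_lit 1882) (.node (nat_lit 1805) (.leaf (nat_lit 0)) (.leaf (nat_lit 324))) (.node (nat_lit 1886) (.leaf (nat_lit 162)) (.leaf (nat_lit 324)))) (.node (nat_lit 2028) (.node (nat_lit 1913) (.leaf (nat_lit 162)) (.leaf (nat_lit 324))) (.node (nat_lit 2030) (.leaf (nat_lit 0)) (.leaf (nat_lit 324))))) (.node (nat_lit 2137) (.node (nat_lit 2126) (.node (nat_lit 2061) (.leaf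 (nat_lit 1)) (.leaf (nat_lit 324))) (.node (nat_lit 2129) (.leaf (nat_lit 0)) (.leaf (nat_lit 324)))) (.node (nat_lit 2152) (.node (nat_lit 2138) (.leaf (nat_lit 162)) (.leaf (nat_lit 324))) (.node (nat_lit 2154) (.leaf (nat_lit 162)) (.leaf (nat_lit 324)))))) (.node (nat_lit 2696) (.node (nat_lit 2623) (.node (nat_lit 2608) (.node (nat_lit 2286) (.leaf (nat_lit 81)) (.leaf (nat_lit 324))) (.node (nat_lit 2617) (.leaf (nat_lit 162)) (.leaf (nat_lit 324)))) (.node (nat_lit 2681) (.node (nat_lit 2626) (.leaf (nat_lit 162)) (.leaf (nat_lit 324))) (.node (nat_lit 2689) (.leaf (nat_lit 162)) (.leaf (nat_lit 324))))) (.node (nat_lit 2878) (.node (nat_lit 2848) (.node (nat_lit 2706) (.leaf (nat_lit 162)) (.leaf (nat_lit 324))) (.node (nat_lit 2861) (.leaf (nat_lit 162)) (.leaf (nat_lit 324)))) (.node (nat_lit 2921) (.node (nat_lit 2887) (.leaf (nat_lit 162)) (.leaf (nat_lit 324))) (.node (nat_lit 2931)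 (.leaf (nat_lit 162)) (.node (nat_lit 2951) (.leaf (nat_lit 324)) (.leaf (nat_lit 162)))))))) (.node (nat_lit 3237) (.node (nat_lit 3160) (.node (nat_lit 3123) (.node (nat_lit 3108) (.node (nat_lit 3103) (.leaf (nat_lit 324)) (.leaf (nat_lit 162))) (.node (nat_lit 3118) (.leaf (nat_lit 324)) (.leaf (nat_lit 162)))) (.node (nat_lit 3149) (.node (nat_lit 3147) (.leaf (nat_lit 324)) (.leaf (nat_lit 0))) (.node (nat_lit 3152) (.leaf (nat_lit 162)) (.leaf (nat_lit 324))))) (.node (nat_lit 3191) (.node (nat_lit 3175) (.node (nat_lit 3167) (.leaf (nat_lit 162)) (.leaf (nat_lit 324))) (.node (nat_lit 3181) (.leaf (nat_lit 162)) (.leaf (nat_lit 324)))) (.node (nat_lit 3222) (.node (nat_lit 3196) (.leaf (nat_lit 162)) (.leaf (nat_lit 324))) (.node (nat_lit 3224) (.leaf (nat_lit 162)) (.node (nat_lit 3233) (.leaf (nat_lit 324)) (.leaf (nat_lit 81))))))) (.node (nat_lit 3419) (.node (nat_lit 3389) (.node (nat_lit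 3248) (.node (nat_lit 3239) (.leaf (nat_lit 162)) (.leaf (nat_lit 324))) (.node (nat_lit 3250) (.leaf (nat_lit 81)) (.leaf (nat_lit 324)))) (.node (nat_lit 3400) (.node (nat_lit 3392) (.leaf (nat_lit 162)) (.leaf (nat_lit 324))) (.node (nat_lit 3402) (.leaf (nat_lit 162)) (.leaf (nat_lit 324))))) (.node (nat_lit 3462) (.node (nat_lit 3430) (.node (nat_lit 3421) (.leaf (nat_lit 162)) (.leaf (nat_lit 324))) (.node (nat_lit 3451) (.leaf (nat_lit 162)) (.leaf (nat_lit 324)))) (.node (nat_lit 3473) (.node (nat_lit 3466) (.leaf (nat_lit 162)) (.leaf (nat_lit 324))) (.node (nat_lit 3475) (.leaf (nat_lit 81)) (.node (nat_lit 3492) (.leaf (nat_lit 324)) (.leaf (nat_lit 162))))))))))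
noncomputable def KK1_soc_F : Fm := (.all KK1_L (.or (.qf (.eq (.v (nat_lit 0)) .one)) (.exF KK1_L (fun cs => KK1_soc_t1.find (Nat.mod (nth (nat_lit 0) cs (nat_lit 0)) (nat_lit 3493))) (.exF KK1_L (fun cs => KK1_soc_t0.find (Nat.mod (Nat.add (nth (nat_lit 0) cs (nat_lit 0)) (Nat.mul (nat_lit 7919) (nth (nat_lit 0) cs (nat_lit 1)))) (nat_lit 16399))) (.qf (.or (.eq (.mul (.mul (.v (nat_lit 0)) (.v (nat_lit 2))) (.inv (.v (nat_lit 0)))) (.v (nat_lit 7))) (.or (.eq (.mul (.mul (.v (nat_lit 0)) (.v (nat_lit 2))) (.inv (.v (nat_lit 0)))) (.mul (.mul (.v (nat_lit 5)) (.v (nat_lit 7))) (.inv (.v (nat_lit 5))))) (.or (.eq (.mul (.mul (.v (nat_lit 0)) (.mul (.mul (.mul (.v (nat_lit 2)) (.v (nat_lit 1))) (.inv (.v (nat_lit 2)))) (.inv (.v (nat_lit 1))))) (.inv (.v (nat_lit 0)))) (.v (nat_lit 7))) (.or (.eq (.mul (.mul (.v (nat_lit 0)) (.mul (.mul (.mul (.v (nat_lit 2)) (.v (nat_lit 1))) (.inv (.v (nat_lit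 2)))) (.inv (.v (nat_lit 1))))) (.inv (.v (nat_lit 0)))) (.mul (.mul (.v (nat_lit 5)) (.v (nat_lit 7))) (.inv (.v (nat_lit 5))))) (.or (.eq (.mul (.mul (.mul (.mul (.mul (.mul (.v (nat_lit 2)) (.v (nat_lit 1))) (.inv (.v (nat_lit 2)))) (.inv (.v (nat_lit 1)))) (.v (nat_lit 0))) (.inv (.mul (.mul (.mul (.v (nat_lit 2)) (.v (nat_lit 1))) (.inv (.v (nat_lit 2)))) (.inv (.v (nat_lit 1)))))) (.inv (.v (nat_lit 0)))) (.v (nat_lit 7))) (.eq (.mul (.mul (.mul (.mul (.mul (.mul (.v (nat_lit 2)) (.v (nat_lit 1))) (.inv (.v (nat_lit 2)))) (.inv (.v (nat_lit 1)))) (.v (nat_lit 0))) (.inv (.mul (.mul (.mul (.v (nat_lit 2)) (.v (nat_lit 1))) (.inv (.v (nat_lit 2)))) (.inv (.v (nat_lit 1)))))) (.inv (.v (nat_lit 0)))) (.mul (.mul (.v (nat_lit 5)) (.v (nat_lit 7))) (.inv (.v (nat_lit 5)))))))))))))))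
theorem KK1_soc_chk : Fm.chk KK1_o KK1_soc_F KK1_cs = true := by decide +kernel
theorem KK1_soc {G : Type*} [Group G] {R : ℕ → G → Prop} {s u v v_i w w_i e e_i f f_i : G} {H : Subgroup G}
    (M : Mdl KK1_o KK1_cs KK1_L R [s, u, v, v_i, w, w_i, e, e_i, f, f_i] H) :
    ∀ y_ ∈ H, y_ = 1 ∨ (∃ q_ ∈ H, ∃ k_ ∈ H, k_ * y_ * k_⁻¹ = w ∨ k_ * y_ * k_⁻¹ = v * w * v⁻¹ ∨ k_ * ⁅y_, q_⁆ * k_⁻¹ = w ∨ k_ * ⁅y_, q_⁆ * k_⁻¹ = v * w * v⁻¹ ∨ ⁅⁅y_, q_⁆, k_⁆ = w ∨ ⁅⁅y_, q_⁆, k_⁆ = v * w * v⁻¹) :=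
  have h : ∀ y_, InL KK1_o R KK1_L y_ → y_ = 1 ∨ (Good KK1_o R KK1_L → prods KK1_o KK1_L KK1_o.one ≠ [] → ∃ q_, InL KK1_o R KK1_L q_ ∧ (Good KK1_o R KK1_L → prods KK1_o KK1_L KK1_o.one ≠ [] → ∃ k_, InL KK1_o R KK1_L k_ ∧ (k_ * y_ * k_⁻¹ = w ∨ k_ * y_ * k_⁻¹ = v * w * v⁻¹ ∨ k_ * ⁅y_, q_⁆ * k_⁻¹ = w ∨ k_ * ⁅y_, q_⁆ * k_⁻¹ = v * w * v⁻¹ ∨ ⁅⁅y_, q_⁆, k_⁆ = w ∨ ⁅⁅y_, q_⁆, k_⁆ = v * w * v⁻¹))) :=
    Fm.sound M.μ KK1_soc_F KK1_soc_chk M.reps
  (fun y_ h0 => (Or.imp (fun h1 => h1) (fun h1 => (Exists.imp (fun q_ h2 => ⟨M.H.iff.1 h2.1, (Exists.imp (fun k_ h3 => ⟨M.H.iff.1 h3.1, h3.2⟩) (h2.2 M.H.good M.H.ne))⟩) (h1 M.H.good M.H.ne))) (h y_ (M.H.iff.2 h0))))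
theorem KK1_mdl {G : Type*} [Group G] {s u v w e f : G}
    (h : KR w e f v s u)
    (r : u = 1)
    (n1 : w ≠ 1) (n2 : v * w * v⁻¹ ≠ 1) :
    ∃ R, Mdl KK1_o KK1_cs KK1_L R [s, u, v, v⁻¹, w, w⁻¹, e, e⁻¹, f, f⁻¹] (sp [s, u, v, v⁻¹, w, w⁻¹, e, e⁻¹, f, f⁻¹]) ∧ #(sp [s, u, v, v⁻¹, w, w⁻¹, e, e⁻¹, f, f⁻¹]) = 648 :=
  mdl_of KK1_P rfl (KK1_r h r) (.v (nat_lit 4)) (.mul (.mul (.v (nat_lit 2)) (.v (nat_lit 4))) (.inv (.v (nat_lit 2)))) n1 n2
    fun _ ms _ M hl => match ms, M, (hl : ms.length = 10) with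
      | [_, _, _, _, _, _, _, _, _, _], M, _ => KK1_soc M
noncomputable def KK1x_cs : List ℕ := [(nat_lit 0x876543120), (nat_lit 0x876543210), (nat_lit 0x210876543), (nat_lit 0x543210876), (nat_lit 0x876543021), (nat_lit 0x876543102), (nat_lit 0x687354210), (nat_lit 0x768435210), (nat_lit 0x768354210), (nat_lit 0x687435210), (nat_lit 0x687354021), (nat_lit 0x876354210), (nat_lit 0x687543210), (nat_lit 0x876453210), (nat_lit 0x786543210), (nat_lit 0x786453120)]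
theorem KK1x_ext {G : Type*} [Group G] {R : ℕ → G → Prop} {s u v w e f : G} {H : Subgroup G}
    (M : Mdl KK1_o KK1_cs KK1_L R [s, u, v, v⁻¹, w, w⁻¹, e, e⁻¹, f, f⁻¹] H) :
    Mdl KK1_o KK1x_cs KK1_L R [s, u, v, v⁻¹, w, w⁻¹, e, e⁻¹, f, f⁻¹, w * e, (e * f)⁻¹, e⁻¹ * f, v * s * v⁻¹, v⁻¹ * s * v, (s * v) ^ 3] H :=
  ⟨M.μ, M.reps.tms M.μ.1 [(.v (nat_lit 0)), (.v (nat_lit 1)), (.v (nat_lit 2)), (.v (nat_lit 3)), (.v (nat_lit 4)), (.v (nat_lit 5)), (.v (nat_lit 6)), (.v (nat_lit 7)), (.v (nat_lit 8)), (.v (nat_lit 9)), (.mul (.v (nat_lit 4)) (.v (nat_lit 6))), (.inv (.mul (.v (nat_lit 6)) (.v (nat_lit 8)))), (.mul (.inv (.v (nat_lit 6))) (.v (nat_lit 8))), (.mul (.mul (.v (nat_lit 2)) (.v (nat_lit 0))) (.inv (.v (nat_lit 2)))), (.mul (.mul (.inv (.v (nat_lit 2))) (.v (nat_lit 0))) (.v (nat_lit 2))), (.pw (.mul (.v (nat_lit 0)) (.v (nat_lit 2))) (nat_lit 3))] (cs' := KK1x_cs) (by decide +kernel),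
    tms_mem M.le [(.v (nat_lit 0)), (.v (nat_lit 1)), (.v (nat_lit 2)), (.v (nat_lit 3)), (.v (nat_lit 4)), (.v (nat_lit 5)), (.v (nat_lit 6)), (.v (nat_lit 7)), (.v (nat_lit 8)), (.v (nat_lit 9)), (.mul (.v (nat_lit 4)) (.v (nat_lit 6))), (.inv (.mul (.v (nat_lit 6)) (.v (nat_lit 8)))), (.mul (.inv (.v (nat_lit 6))) (.v (nat_lit 8))), (.mul (.mul (.v (nat_lit 2)) (.v (nat_lit 0))) (.inv (.v (nat_lit 2)))), (.mul (.mul (.inv (.v (nat_lit 2))) (.v (nat_lit 0))) (.v (nat_lit 2))), (.pw (.mul (.v (nat_lit 0)) (.v (nat_lit 2))) (nat_lit 3))], M.H⟩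
noncomputable def KK2_Rl : List (List ℕ) := [[0,0],
  [1,1],
  [2,3],
  [3,2],
  [4,5],
  [5,4],
  [6,7],
  [7,6],
  [8,9],
  [9,8],
  [4,4,4],
  [6,6,6],
  [8,8,8],
  [7,5,6,4],
  [9,5,8,4],
  [9,7,8,6],
  [2,2,2],
  [8,6,3,4,2],
  [7,9,5,7,3,6,2],
  [9,6,4,3,8,2],
  [4,0,4,0],
  [7,0,6,0],
  [9,0,8,0],
  [3,0,2,0,3,0,2,0],
  [5,1,4,1],
  [7,1,6,1],
  [0,1,0,1],
  [8,1,8,1],
  [2,1,2,1]]
theorem KK2_r {G : Type*} [Group G] {s u v w e f : G}
    (h : KR w e f v s u)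
    (r : U1 f v u) :
    Rels (nthG [s, u, v, v⁻¹, w, w⁻¹, e, e⁻¹, f, f⁻¹]) KK2_Rl :=
  rels_of_eqs ((InvI.cons h.2.2.2.2.2.2.2.2.2.2.1 (InvI.cons h.2.2.2.2.2.2.2.2.2.2.2.2.2.2.2.1 InvI.nil)) : InvI [s, u, v, w, e, f] [(nat_lit 0), (nat_lit 1)])
    (AllEq.append (show AllEq [s, u, v, w, e, f] [((.pw (.v (nat_lit 3)) (nat_lit 3)), .one), ((.pw (.v (nat_lit 4)) (nat_lit 3)), .one), ((.pw (.v (nat_lit 5)) (nat_lit 3)), .one), ((.mul (.v (nat_lit 3)) (.v (nat_lit 4))), (.mul (.v (nat_lit 4)) (.v (nat_lit 3)))), ((.mul (.v (nat_lit 3)) (.v (nat_lit 5))), (.mul (.v (nat_lit 5)) (.v (nat_lit 3)))), ((.mul (.v (nat_lit 4)) (.v (nat_lit 5))), (.mul (.v (nat_lit 5)) (.v (nat_lit 4)))), ((.pw (.v (nat_lit 2)) (nat_lit 3)), .one), ((.mul (.mul (.v (nat_lit 2)) (.v (nat_lit 3))) (.inv (.v (nat_lit 2)))), (.inv (.mul (.v (nat_lit 4)) (.v (nat_lit 5))))), ((.mul (.mul (.v (nat_lit 2)) (.v (nat_lit 4))) (.inv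 (.v (nat_lit 2)))), (.mul (.mul (.v (nat_lit 4)) (.v (nat_lit 5))) (.mul (.v (nat_lit 3)) (.v (nat_lit 4))))), ((.mul (.mul (.v (nat_lit 2)) (.v (nat_lit 5))) (.inv (.v (nat_lit 2)))), (.mul (.v (nat_lit 5)) (.inv (.mul (.v (nat_lit 3)) (.v (nat_lit 4)))))), ((.mul (.v (nat_lit 0)) (.v (nat_lit 0))), .one), ((.mul (.mul (.v (nat_lit 0)) (.v (nat_lit 3))) (.inv (.v (nat_lit 0)))), (.inv (.v (nat_lit 3)))), ((.mul (.v (nat_lit 0)) (.v (nat_lit 4))), (.mul (.v (nat_lit 4)) (.v (nat_lit 0)))), ((.mul (.v (nat_lit 0)) (.v (nat_lit 5))), (.mul (.v (nat_lit 5)) (.v (nat_lit 0)))), ((.mul (.v (nat_lit 0)) (.mul (.mul (.v (nat_lit 2)) (.v (nat_lit 0))) (.inv (.v (nat_lit 2))))), (.mul (.mul (.mul (.v (nat_lit 2)) (.v (nat_lit 0))) (.inv (.v (nat_lit 2)))) (.v (nat_lit 0)))), ((.mul (.v (nat_lit 1)) (.v (nat_lit 1))), .one), ((.mul (.v (nat_lit 1)) (.v (nat_lit 3))), (.mul (.v (nat_lit 3)) (.v (nat_lit 1)))),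 ((.mul (.v (nat_lit 1)) (.v (nat_lit 4))), (.mul (.v (nat_lit 4)) (.v (nat_lit 1)))), ((.mul (.v (nat_lit 1)) (.v (nat_lit 0))), (.mul (.v (nat_lit 0)) (.v (nat_lit 1))))] from h)
    (show AllEq [s, u, v, w, e, f] [((.mul (.mul (.v (nat_lit 1)) (.v (nat_lit 5))) (.inv (.v (nat_lit 1)))), (.inv (.v (nat_lit 5)))), ((.mul (.mul (.v (nat_lit 1)) (.v (nat_lit 2))) (.inv (.v (nat_lit 1)))), (.inv (.v (nat_lit 2))))] from r))
    [(.v (nat_lit 0)), (.v (nat_lit 1)), (.v (nat_lit 2)), (.inv (.v (nat_lit 2))), (.v (nat_lit 3)), (.inv (.v (nat_lit 3))), (.v (nat_lit 4)), (.inv (.v (nat_lit 4))), (.v (nat_lit 5)), (.inv (.v (nat_lit 5)))] (by decide +kernel)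
noncomputable abbrev KK2_o : Ops := pops (nat_lit 9) (nat_lit 4) (nat_lit 15) (nat_lit 0x876543210)
noncomputable def KK2_cs : List ℕ := [(nat_lit 0x876543120), (nat_lit 0x543876210), (nat_lit 0x210876543), (nat_lit 0x543210876), (nat_lit 0x876543021), (nat_lit 0x876543102), (nat_lit 0x687354210), (nat_lit 0x768435210), (nat_lit 0x768354210), (nat_lit 0x687435210)]
noncomputable def KK2_L : List (List ℕ) := [[(nat_lit 0x876543210), (nat_lit 0x210876543), (nat_lit 0x543210876), (nat_lit 0x876543021), (nat_lit 0x876543102), (nat_lit 0x210687354), (nat_lit 0x210768435), (nat_lit 0x354210687), (nat_lit 0x435210768)],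
  [(nat_lit 0x876543210), (nat_lit 0x543876210), (nat_lit 0x687354210), (nat_lit 0x768435210), (nat_lit 0x354687210), (nat_lit 0x435768210)],
  [(nat_lit 0x876543210), (nat_lit 0x768543210), (nat_lit 0x687543210)],
  [(nat_lit 0x876543210), (nat_lit 0x876543120)],
  [(nat_lit 0x876543210), (nat_lit 0x876453210)],
  [(nat_lit 0x876543210), (nat_lit 0x786543210)]]
noncomputable def KK2_WW : List (List (List ℕ)) := [[[],
  [(nat_lit 2)],
  [(nat_lit 3)],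
  [(nat_lit 4)],
  [(nat_lit 5)],
  [(nat_lit 2), (nat_lit 6)],
  [(nat_lit 2), (nat_lit 7)],
  [(nat_lit 3), (nat_lit 6)],
  [(nat_lit 3), (nat_lit 7)]],
  [[],
  [(nat_lit 1)],
  [(nat_lit 6)],
  [(nat_lit 7)],
  [(nat_lit 1), (nat_lit 6)],
  [(nat_lit 1), (nat_lit 7)]],
  [[],
  [(nat_lit 6), (nat_lit 9)],
  [(nat_lit 7), (nat_lit 8)]],
  [[],
  [(nat_lit 0)]],
  [[],
  [(nat_lit 3), (nat_lit 0), (nat_lit 2)]],
  [[],
  [(nat_lit 2), (nat_lit 0), (nat_lit 3)]]]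
noncomputable def KK2_b4_S0 : List ℕ := [nat_lit 0x13000010006008, nat_lit 0x1700000700000c00800c, nat_lit 0x1f00001c006008, nat_lit 0x2300000b00001400400e, nat_lit 0x27000024006008, nat_lit 0x2700000b00001000a00e, nat_lit 0x3300001700002000400e, nat_lit 0x37000034006008, nat_lit 0x3700001700001c00a00e, nat_lit 0x4300000e00003000400c, nat_lit 0x4700001600002c00400c, nat_lit 0x4f00004c006008, nat_lit 0x57000054006008, nat_lit 0x5b00001a00004000400c, nat_lit 0x5f00002200003c00400c, nat_lit 0x67000064006008, nat_lit 0x6700003b00001b00000700001000002c00005000400a, nat_lit 0x6b00003f00001f00000700001400003000005400c00a, nat_lit 0x6f00006c006008, nat_lit 0x7300002600005800400e, nat_lit 0x77000074006008, nat_lit 0x7700002600005400a00e, nat_lit 0x7b00002a00005000400e, nat_lit 0x7f00007c006008, nat_lit 0x7f00002a00004c00a00e, nat_lit 0x8700005700002f00000200002c00004c00008400800a, nat_lit 0x8b00003600007000400e,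 nat_lit 0x8f00008c006008, nat_lit 0x8f00003600006c00a00e, nat_lit 0x8f00005b00003300000600002400004400007800400a, nat_lit 0x9300003a00006800400e, nat_lit 0x9300005f00003700000600002800004800007c00c00a, nat_lit 0x97000094006008, nat_lit 0x9700003a00006400a00e, nat_lit 0x9f00006f00003f00000a00003c00006400009c00800a, nat_lit 0xa300004e00008800400c, nat_lit 0xa700006200008400400c, nat_lit 0xa700007f0000470000120000440000740000a400800a, nat_lit 0xab000065004008, nat_lit 0xaf00006a0000a000400c, nat_lit 0xb300008600009c00400c, nat_lit 0xb300009700005f00001e00005c00008c0000b000800a, nat_lit 0xb7000089004008, nat_lit 0xb700009b00003d00004200002e0000840000ac00c00a, nat_lit 0xbb000095004008, nat_lit 0xbb00008e00009900400e, nat_lit 0xbf0000a5004008, nat_lit 0xbf00009e0000a900400e, nat_lit 0xbf0000af00006d0000760000520000a40000bc00c00a]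
noncomputable def KK2_b4_S : List (List ℕ) := [KK2_b4_S0]
noncomputable def KK2_b4_defs : List ℕ := [(nat_lit 0x20002b00200028002000260000002500000022002000200000001f0000001c0000001b00000018003000170020001700300016002000160000001500000012003000110020001100300010002000100030000f0020000f0030000e0020000e0000000d0000000c0030000b0020000b0030000a0020000a000000090000000800000007000000060030000500200005000000040000000300300002002000020030000100200001001000010030000000200000001000000000000000000000)]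
noncomputable def KK2_b4_recs : List ℕ := [(nat_lit 0x2e0002f010002d0002f020002c0002f010002a0002e02000290002e000002a0002d02000270002d020002b0002c01000260002c01000270002b02000210002a020002800029010002000029010002100028020002600027010001800025030002400025000001e00024010001900024000001d00023010001a00023030002200023010001b0002202000200002101000120001f030001e0001f01000130001e01000140001d030001c0001d01000150001c030001a0001b00000140001a000001300019030001800019010000e00017010000f00016030001400015030001200013010000a00011010000b0001001000060000d030000c0000d01000070000c010000300009030000800009010000400008030000600007000000200005030000300004)]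
noncomputable def KK2_b4_L0 : List ℕ := [nat_lit 0x700000100000b00000200000f000003000013000004, nat_lit 0x800000000001700000500001b00000600001f000007, nat_lit 0x600000500000c000000000023000008000027000009, nat_lit 0x2b00000a000016000009000002000004000010000000, nat_lit 0x2f00000b00000e000008000014000000000001000003, nat_lit 0x500000200001800000100003300000c00003700000d, nat_lit 0x3b00000e00002200000d00000a00000700001c000001, nat_lit 0x3f00000f00001a00000c000020000001000009000006, nat_lit 0x4300001000000d000004000012000009000024000002, nat_lit 0x47000011000015000003000028000002000011000008, nat_lit 0x2c00000300002a00001100004b00001200004f000013, nat_lit 0x30000004000026000010000053000014000057000015, nat_lit 0x5b00001600001900000700001e00000d000034000005, nat_lit 0x5f00001700002100000600003800000500001d00000c, nat_lit 0x3c00000600003a000017000063000018000067000019, nat_lit 0x4000000700003600001600006b00001a00006f00001b,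 nat_lit 0x4400000800002500000b00007300001c00007700001d, nat_lit 0x4800000900002900000a00007b00001e00007f00001f, nat_lit 0x8300002000006200001f00002e00001300004c00000a, nat_lit 0x4200001900005a00001e00005000000a00002d000012, nat_lit 0x4600001a00005600001d00003200001500005400000b, nat_lit 0x8700002100004e00001c00005800000b000031000014, nat_lit 0x5c00000c00003500000f00008b00002200008f000023, nat_lit 0x6000000d00003900000e000093000024000097000025, nat_lit 0x9b00002600008600002500003e00001900006400000e, nat_lit 0x4100001300007a00002400006800000e00003d000018, nat_lit 0x4500001400007200002300004a00001b00006c00000f, nat_lit 0x9f00002700006a00002200007000000f00004900001a, nat_lit 0xa300002800004d00001500005200001d000074000010, nat_lit 0x7600002300005500001400007800001000005100001c, nat_lit 0x7e00002400005900001300005e00001f00007c000011, nat_lit 0xa700002900006100001200008000001100005d00001e, nat_lit 0x840000120000920000290000ab00002a000066000021,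 nat_lit 0x8800001500008e00002800006500002000009a00002a, nat_lit 0xaf00002b00006900001b00006e00002300008c000016, nat_lit 0x7500001d00007100001a00009000001600006d000022, nat_lit 0x7d00001e000079000019000082000025000094000017, nat_lit 0xb300002c000085000018000098000017000081000024, nat_lit 0x9c0000180000a200002c0000b700002d00008a000027, nat_lit 0xa000001b00009e00002b0000890000260000aa00002d, nat_lit 0xa400001c00008d0000210000bb00002e000096000029, nat_lit 0xa800001f0000910000200000950000280000b200002e, nat_lit 0xae00002d0000b600002e0000990000210000ac000020, nat_lit 0xb000002200009d0000270000bf00002f0000a600002c, nat_lit 0xb40000250000a10000260000a500002b0000ba00002f, nat_lit 0xad00002a0000be00002f0000a90000270000b8000026, nat_lit 0xc200002f0000b500002a0000b10000290000bc000028, nat_lit 0xc100002e0000bd00002d0000b900002c0000c000002b]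
noncomputable def KK2_b4_L : List (List ℕ) := [KK2_b4_L0]
noncomputable def KK2_b4_V : List ℕ := [(nat_lit 0x2f0000002e0000002d0000002c0000002b0000002a000000290000002800000027000000260000002500000024000000230000002200000021000000200000001f0000001e0000001d0000001c0000001b0000001a000000190000001800000017000000160000001500000014000000130000001200000011000000100000000f0000000e0000000d0000000c0000000b0000000a00000009000000080000000700000006000000050000000400000003000000020000000100000000)]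
noncomputable def KK2_b4_D : H26.Dag := ⟨[0,1,3,2], [[0,0],
  [1,1],
  [2,3],
  [3,2],
  [2,2,2],
  [3,0,2,0,3,0,2,0],
  [0,1,0,1],
  [2,1,2,1]], [], KK2_b4_defs, KK2_b4_recs⟩
theorem KK2_b4_c : KK2_b4_D.checkTab KK2_b4_S 48 4 KK2_b4_V KK2_b4_L = true := by decide +kernel
theorem KK2_b4 : Bound KK2_Rl 4 48 :=
  bound_dag (Bound.zero KK2_Rl) (K := 4) (J := [0,1,2,3,16,23,26,28]) (by decide +kernel) KK2_b4_c (by decide +kernel)
noncomputable def KK2_b10_S0 : List ℕ := [nat_lit 0x1, nat_lit 0x1, nat_lit 0x1, nat_lit 0x700000500000800c030, nat_lit 0xb000008006014, nat_lit 0xb00000100000800a028, nat_lit 0xb00000500000c004030, nat_lit 0xf00000100001000c02a, nat_lit 0xf00000500001000c032, nat_lit 0x13000010006016, nat_lit 0x1300000100001400402a, nat_lit 0x13000005000014004032, nat_lit 0x1700000100001800c02c, nat_lit 0x1b000018006018, nat_lit 0x1b00000100001c00402c, nat_lit 0x1b00000500001800a036, nat_lit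 0x1f00000700000a000014000022, nat_lit 0x1b00001400004100401e, nat_lit 0x4200002900004100402c, nat_lit 0x23000020006020, nat_lit 0x2300000d00002000a038, nat_lit 0x3d000046000051000032, nat_lit 0x52000049000051000034, nat_lit 0x2d000041000051000036, nat_lit 0x5d000041004018, nat_lit 0x2700000700001000201a, nat_lit 0x2700000d00002800c032, nat_lit 0x2b000028006016, nat_lit 0x2b00000700001400401a, nat_lit 0x2b00000d00002c004032, nat_lit 0x2f00000700001800201c, nat_lit 0x33000030006018, nat_lit 0x3300000700001c00401c, nat_lit 0x3300000d00003000a036, nat_lit 0x3300002000006100005500007900a026, nat_lit 0x27000020000045000081000033000028018024, nat_lit 0x3700000b00000a00001800e022, nat_lit 0x3700001600002000004900001f00001500003800c02e, nat_lit 0x5500009100a016, nat_lit 0xf00001800009100e01e, nat_lit 0x3b000038006020, nat_lit 0x3b00001900003800a038, nat_lit 0x3b00001600002400005900002300001500003c00402e,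 nat_lit 0x5100009a0000a5000032, nat_lit 0x3e0000910000a5008032, nat_lit 0x2100009e0000a500e036, nat_lit 0xb500009e006018, nat_lit 0x3f00000b00001000c01a, nat_lit 0x3f00001200002800201a, nat_lit 0x3f00001600002800c02a, nat_lit 0x3f00001900004000c032, nat_lit 0x3300002800008d0000c1002022, nat_lit 0x7d00008a00002f0000280000c100a026, nat_lit 0x43000040006016, nat_lit 0x4300001200002c00401a, nat_lit 0x4300000b00001400a01a, nat_lit 0x4300001600002c00402a, nat_lit 0x43000019000044004032, nat_lit 0x4300000b000018000091000037000044010024, nat_lit 0x4700000b00001800c01c, nat_lit 0x4700001200003000201c, nat_lit 0x4700001600003000c02c, nat_lit 0x4b000048006018, nat_lit 0x4b00001200003400401c]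
noncomputable def KK2_b10_S1 : List ℕ := [nat_lit 0x4b00000b00001c00a01c, nat_lit 0x4b00001600003400402c, nat_lit 0x4b00001900004800a036, nat_lit 0x4b0000400000d10000f1002022, nat_lit 0x4b00003800009d00002500007100a026, nat_lit 0x11100010e004020, nat_lit 0x4f0000b600003b00001200002c000026, nat_lit 0x4f00009e0000a10000ba00009900e026, nat_lit 0x7a00005600011d00001a, nat_lit 0x53000050006020, nat_lit 0x5300002100005000a038, nat_lit 0x5300009e00009900004e006022, nat_lit 0x530000bd00003f000048000115010026, nat_lit 0x530000b60000ad00012d000126006026, nat_lit 0x53000025000071000119000121000089014024, nat_lit 0x570000dd0000e90000d6000022, nat_lit 0x570000710001160000f900e022, nat_lit 0xb100010100014100201a, nat_lit 0x5b000058006020, nat_lit 0x5b00002d00005800a038, nat_lit 0x5b0000260000b60000a200c022, nat_lit 0x5b0000410000450000810000ce006026, nat_lit 0x5b0000260000b600014600014200010e006024, nat_lit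 0x1490001560000d50000de00005c006026, nat_lit 0x5f0000790000d200015500e022, nat_lit 0x5f00001700000a00000c000044000026, nat_lit 0x5f0000910000a10000b10000360000ed00e024, nat_lit 0x550000ed00016900401a, nat_lit 0x1210000f100016900a01a, nat_lit 0x1210000f500016900402a, nat_lit 0x63000060006020, nat_lit 0x6300005600005d00005c00c022, nat_lit 0x630000350000b20000a2006022, nat_lit 0x6300001700001000006500008d006026, nat_lit 0x6300005600005d0000dd0000d60000d1006024, nat_lit 0x12100018900a016, nat_lit 0x15a0000f600018900c02a, nat_lit 0x6700003e000064004038, nat_lit 0x6700010100011200006e000022, nat_lit 0x6700008100008a00007d00e022, nat_lit 0x6700003600006000017100018e000026, nat_lit 0x6700001b00000a00001c0000b200e026, nat_lit 0x1450001a500a014, nat_lit 0x12e0000ae0001a500001a, nat_lit 0x1450000a90001a5002028, nat_lit 0x6b000068006020, nat_lit 0x6b00003e00006000a038, nat_lit 0x6b00004600006100004e00c022,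 nat_lit 0x6b00001b000010000054006022, nat_lit 0x6b00003600009100018100017a006026, nat_lit 0x6b0000b20001a500019a00006d000111014024, nat_lit 0x6b00004600006100016e00016200014a006024, nat_lit 0xd600013d0001cd00001e, nat_lit 0x1ae0001b10001cd00c02a]
noncomputable def KK2_b10_S : List (List ℕ) := [KK2_b10_S0, KK2_b10_S1]
noncomputable def KK2_b10_defs : List ℕ := [(nat_lit 0x3000060020000600300005002000050030000400200004003000030020000300900002008000020070000200600002003000020020000200900001008000010070000100600001003000010020000100900000008000000070000000600000005000000040000000000000)]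
noncomputable def KK2_b10_recs : List ℕ := [(nat_lit 0x50000c00012090001100012000000b00011050000b00011040000500011030001000010010001000010000000a00010040000400010050000a00010070000f00010020000f0000b030000f0000c010000f0000f00000090000f05000090000f04000030000f090000d0000e090000e00003060000e00006070000e00007000000e0000e010000d0000e030000d0000e080000d00003070000d00008000000d0000d07000050000d020000900009020000b0000c010000b0000c05000060000c090000b0000c05000050000b010000a0000a05000040000a07000090000a010000900009050000300009080000700008080000800004000000800008070000800005010000700008030000700008000000700007070000700006080000400007010000500006000000600006090000500006000000500005010000400004000000400004070000300004010000300003000000300003010000200002000000100002050000100002010000100001020000000000010000000000000000000000),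
  (nat_lit 0x1a00014090001a0001007000150001a06000120001a09000170001a05000140001a04000070001a01000170001a03000190001a000001900015070001900014050001900015050000e00019090001800019070000c00019080000900019010001800019000001800016070001800013070000b00018090000900018050000d00018040001600018030001700018000001700013040001700013050001700008060001100017090001000017070001600017090001600015070001100016090000f00016040000d0001601000150001603000150001605000150000e070001200015080000f00015060000c00014090001300014080000a0001405000070001401000130001403000130001407000130000b050000800013090000a0001302000110000a020000a00012030001100012010001100012000000c00012040000600012)]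
noncomputable def KK2_b10_L0 : List ℕ := [nat_lit 0x100000000000500000000000900000000000a00000000000700000100000b00000200000f00000300001300000400001700000500001b000006, nat_lit 0x1600000200000d00000100001f00000700002300000800001200000200000800000000002700000900002b00000a00002f00000b00003300000c, nat_lit 0x1500000100001900000200003700000d00003b00000e00000c00000000001100000100003f00000f00004300001000004700001100004b000012, nat_lit 0x1d00000300002100000300004f0000130000530000140000660000090000be00000f00002600000400001000000000009d00000d0000b500000e, nat_lit 0x2900000400002d00000400005700001500005b00001600007200000a0000de00001000001400000000002500000300005d000008000042000007, nat_lit 0x3100000500003e00000600005f00001700006300001800007a00000b0000ee00001100009200000d000055000008000036000006000018000000, nat_lit 0x3900000600003d00000500006700001900006b00001a00008200000c0001020000120000b100000e00004500000700001c000000000035000005,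 nat_lit 0x4900000700005200000800004e00000800002000000100012e0000140001be00001a0000460000060000ad00000e000041000004000062000008, nat_lit 0x5900000800005100000700002400000100004d00000700011e00001300016d00001700005600000500009900000d00006100000700005e000004, nat_lit 0xc600000f00006900000900008d00000900008e0000090000c200000f00006500000300006e00000a00002800000100018600001800019a000019, nat_lit 0xe200001000007500000a0001150000110001120000120000da00001000007100000400002c00000100006d00000900011a000013000132000014, nat_lit 0xf600001100008600000c0000d100000f00008a00000c0000f200001100007900000500018a00001800012100001300007e00000c000030000001, nat_lit 0x10600001200008500000b00008900000b0000cd00000f0000fe00001200008100000600019e00001900013a00001400003400000100007d00000b, nat_lit 0x9500000d0000a600000e0000a200000e00003800000200018200001800015200001600009a0000080000910000050000ba00000e00009e000003, nat_lit 0xa900000e0000a500000d00003c0000020000a100000d0001a60000190001450000150000ae0000070000b20000060000b60000030000b900000d,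 nat_lit 0xc50000090000c900000f0000ce00000c0000d200000b0000bd0000030000c10000090000d600001000004000000200015600001600013e000015, nat_lit 0xe100000a0000e50000100000ea0000100000e90000100000dd0000040000d900000a0000440000020000d500000f0001660000170001d100001a, nat_lit 0xf500000b00010a00001200010e00001200011600000a0000ed0000050000f100000b00015a00001600016a0000170000fa000012000048000002, nat_lit 0x10500000c00010900001100011100000a00010d0000110001010000060000fd00000c0001420000150001ca00001a00004c0000020000f9000011, nat_lit 0x17500001700012a00001400012600001400005000000300017100001700011d00000800012200000b00018d00001800013600001400011900000a, nat_lit 0x1d500001a0001290000130000540000030001250000130001c200001a00012d00000700013900000c0001ad00001900013100000a000135000013, nat_lit 0x1b100001900014e00001600014a00001600005800000400014600000e0001a90000190001ce00001a00014100001200013d00000f00015d000016, nat_lit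 0x19100001800014d00001500005c00000400014900001500015100000d00017e00001800016200001700015900001100015e00001500015500000f, nat_lit 0x1760000130001ba00001a00017a00001800006000000500016e0000080001720000130001690000110001610000160001c600001a000165000010, nat_lit 0x19200001600019600001900006400000500017900001700017d00001600018100000d00018e00001300018900000b0001a2000019000185000009, nat_lit 0x1b20000150001950000180001b600001a0000680000060001aa0000150001a500000e0001ae00001400019d00000c0001990000090001a1000018, nat_lit 0x1d60000140001b900001700006c0000060001b50000190001bd0000070001c10000140001c90000120001cd0000150001d20000100001c5000017]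
noncomputable def KK2_b10_L : List (List ℕ) := [KK2_b10_L0]
noncomputable def KK2_b10_V : List ℕ := [(nat_lit 0x1a000000190000001800000017000000160000001500000014000000130000001200000011000000100000000f0000000e0000000d0000000c0000000b0000000a00000009000000080000000700000006000000050000000400000003000000020000000100000000)]
noncomputable def KK2_b10_D : H26.Dag := ⟨[0,1,3,2,5,4,7,6,9,8], [[0,0],
  [1,1],
  [2,3],
  [3,2],
  [4,5],
  [5,4],
  [6,7],
  [7,6],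
  [8,9],
  [9,8],
  [4,4,4],
  [6,6,6],
  [8,8,8],
  [7,5,6,4],
  [9,5,8,4],
  [9,7,8,6],
  [2,2,2],
  [8,6,3,4,2],
  [7,9,5,7,3,6,2],
  [9,6,4,3,8,2],
  [4,0,4,0],
  [7,0,6,0],
  [9,0,8,0],
  [3,0,2,0,3,0,2,0],
  [5,1,4,1],
  [7,1,6,1],
  [0,1,0,1],
  [8,1,8,1],
  [2,1,2,1]], [0,1,2,3], KK2_b10_defs, KK2_b10_recs⟩
theorem KK2_b10_c : KK2_b10_D.checkTab KK2_b10_S 27 10 KK2_b10_V KK2_b10_L = true := by decide +kernel
theorem KK2_b10 : Bound KK2_Rl 10 1296 :=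
  bound_dag KK2_b4 (K := 10) (J := [0,1,2,3,4,5,6,7,8,9,10,11,12,13,14,15,16,17,18,19,20,21,22,23,24,25,26,27,28]) (by decide +kernel) KK2_b10_c (by decide +kernel)
theorem KK2_P : PModel (nat_lit 9) (nat_lit 4) (nat_lit 15) (nat_lit 0x876543210) KK2_cs KK2_Rl KK2_L 1296 :=
  ⟨PkOK.of (by decide +kernel), by decide +kernel, by decide +kernel, KK2_b10, ⟨KK2_WW, by decide +kernel⟩,
    ⟨fun c => Nat.mod c (nat_lit 29317), by decide +kernel⟩⟩
noncomputable def KK2_soc_t0 : ST := (.node (nat_lit 28575) (.node (nat_lit 15208) (.node (nat_lit 8136) (.node (nat_lit 4363) (.node (nat_lit 2157) (.node (nat_lit 880) (.node (nat_lit 444) (.node (nat_lit 281) (.node (nat_lit 221) (.node (nat_lit 188) (.leaf (nat_lit 18)) (.leaf (nat_lit 3))) (.node (nat_lit 280) (.leaf (nat_lit 657)) (.leaf (nat_lit 117)))) (.node (nat_lit 351) (.node (nat_lit 284) (.leaf (nat_lit 324)) (.leaf (nat_lit 162))) (.node (nat_lit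 379) (.leaf (nat_lit 324)) (.leaf (nat_lit 18))))) (.node (nat_lit 717) (.node (nat_lit 479) (.node (nat_lit 472) (.leaf (nat_lit 9)) (.leaf (nat_lit 3))) (.node (nat_lit 638) (.leaf (nat_lit 9)) (.leaf (nat_lit 117)))) (.node (nat_lit 831) (.node (nat_lit 828) (.leaf (nat_lit 119)) (.leaf (nat_lit 657))) (.node (nat_lit 832) (.leaf (nat_lit 324)) (.node (nat_lit 863) (.leaf (nat_lit 72)) (.leaf (nat_lit 657))))))) (.node (nat_lit 1357) (.node (nat_lit 1212) (.node (nat_lit 984) (.node (nat_lit 891) (.leaf (nat_lit 324)) (.leaf (nat_lit 162))) (.node (nat_lit 1133) (.leaf (nat_lit 72)) (.leaf (nat_lit 3)))) (.node (nat_lit 1279) (.node (nat_lit 1244) (.leaf (nat_lit 9)) (.leaf (nat_lit 162))) (.node (nat_lit 1308) (.leaf (nat_lit 0)) (.node (nat_lit 1344) (.leaf (nat_lit 657)) (.leaf (nat_lit 9)))))) (.node (nat_lit 1822) (.node (nat_lit 1566) (.node (nat_lit 1438) (.leaf (nat_lit 657)) (.leaf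 (nat_lit 324))) (.node (nat_lit 1712) (.leaf (nat_lit 9)) (.leaf (nat_lit 117)))) (.node (nat_lit 1946) (.node (nat_lit 1915) (.leaf (nat_lit 72)) (.leaf (nat_lit 657))) (.node (nat_lit 1950) (.leaf (nat_lit 119)) (.node (nat_lit 2123) (.leaf (nat_lit 657)) (.leaf (nat_lit 119)))))))) (.node (nat_lit 3344) (.node (nat_lit 2714) (.node (nat_lit 2365) (.node (nat_lit 2331) (.node (nat_lit 2330) (.leaf (nat_lit 9)) (.leaf (nat_lit 162))) (.node (nat_lit 2334) (.leaf (nat_lit 18)) (.leaf (nat_lit 9)))) (.node (nat_lit 2458) (.node (nat_lit 2366) (.leaf (nat_lit 162)) (.leaf (nat_lit 324))) (.node (nat_lit 2477) (.leaf (nat_lit 117)) (.node (nat_lit 2539) (.leaf (nat_lit 18)) (.leaf (nat_lit 3)))))) (.node (nat_lit 2937) (.node (nat_lit 2888) (.node (nat_lit 2832) (.leaf (nat_lit 119)) (.leaf (nat_lit 324))) (.node (nat_lit 2936) (.leaf (nat_lit 162)) (.leaf (nat_lit 119)))) (.node (nat_lit 3130) (.node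 (nat_lit 3068) (.leaf (nat_lit 162)) (.leaf (nat_lit 119))) (.node (nat_lit 3226) (.leaf (nat_lit 3)) (.node (nat_lit 3307) (.leaf (nat_lit 117)) (.leaf (nat_lit 3))))))) (.node (nat_lit 3929) (.node (nat_lit 3449) (.node (nat_lit 3417) (.node (nat_lit 3400) (.leaf (nat_lit 657)) (.leaf (nat_lit 324))) (.node (nat_lit 3448) (.leaf (nat_lit 162)) (.leaf (nat_lit 117)))) (.node (nat_lit 3563) (.node (nat_lit 3452) (.leaf (nat_lit 324)) (.leaf (nat_lit 162))) (.node (nat_lit 3642) (.leaf (nat_lit 9)) (.node (nat_lit 3801) (.leaf (nat_lit 72)) (.leaf (nat_lit 119)))))) (.node (nat_lit 4059) (.node (nat_lit 3999) (.node (nat_lit 3947) (.leaf (nat_lit 324)) (.leaf (nat_lit 657))) (.node (nat_lit 4000) (.leaf (nat_lit 324)) (.leaf (nat_lit 72)))) (.node (nat_lit 4313) (.node (nat_lit 4252) (.leaf (nat_lit 162)) (.leaf (nat_lit 3))) (.node (nat_lit 4317) (.leaf (nat_lit 117)) (.node (nat_lit 4331) (.leaf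 (nat_lit 162)) (.leaf (nat_lit 9))))))))) (.node (nat_lit 5951) (.node (nat_lit 5083) (.node (nat_lit 4606) (.node (nat_lit 4505) (.node (nat_lit 4412) (.node (nat_lit 4384) (.leaf (nat_lit 162)) (.leaf (nat_lit 324))) (.node (nat_lit 4476) (.leaf (nat_lit 18)) (.leaf (nat_lit 657)))) (.node (nat_lit 4512) (.node (nat_lit 4511) (.leaf (nat_lit 3)) (.leaf (nat_lit 657))) (.node (nat_lit 4539) (.leaf (nat_lit 9)) (.leaf (nat_lit 162))))) (.node (nat_lit 4896) (.node (nat_lit 4864) (.node (nat_lit 4671) (.leaf (nat_lit 324)) (.leaf (nat_lit 117))) (.node (nat_lit 4888) (.leaf (nat_lit 324)) (.leaf (nat_lit 119)))) (.node (nat_lit 4924) (.node (nat_lit 4923) (.leaf (nat_lit 657)) (.leaf (nat_lit 119))) (.node (nat_lit 5017) (.leaf (nat_lit 162)) (.node (nat_lit 5034) (.leaf (nat_lit 72)) (.leaf (nat_lit 119))))))) (.node (nat_lit 5546) (.node (nat_lit 5341) (.node (nat_lit 5118) (.node (nat_lit 5087)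 (.leaf (nat_lit 657)) (.leaf (nat_lit 72))) (.node (nat_lit 5276) (.leaf (nat_lit 657)) (.leaf (nat_lit 9)))) (.node (nat_lit 5450) (.node (nat_lit 5400) (.leaf (nat_lit 657)) (.leaf (nat_lit 117))) (.node (nat_lit 5471) (.leaf (nat_lit 3)) (.node (nat_lit 5499) (.leaf (nat_lit 324)) (.leaf (nat_lit 162)))))) (.node (nat_lit 5616) (.node (nat_lit 5596) (.node (nat_lit 5563) (.leaf (nat_lit 117)) (.leaf (nat_lit 657))) (.node (nat_lit 5599) (.leaf (nat_lit 18)) (.leaf (nat_lit 9)))) (.node (nat_lit 5834) (.node (nat_lit 5627) (.leaf (nat_lit 117)) (.leaf (nat_lit 3))) (.node (nat_lit 5855) (.leaf (nat_lit 162)) (.node (nat_lit 5948) (.leaf (nat_lit 72)) (.leaf (nat_lit 657)))))))) (.node (nat_lit 7048) (.node (nat_lit 6384) (.node (nat_lit 6056) (.node (nat_lit 5983) (.node (nat_lit 5962) (.leaf (nat_lit 324)) (.leaf (nat_lit 72))) (.node (nat_lit 6000) (.leaf (nat_lit 657)) (.leaf (nat_lit 324))))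 (.node (nat_lit 6346) (.node (nat_lit 6218) (.leaf (nat_lit 162)) (.leaf (nat_lit 3))) (.node (nat_lit 6364) (.leaf (nat_lit 324)) (.node (nat_lit 6367) (.leaf (nat_lit 18)) (.leaf (nat_lit 9)))))) (.node (nat_lit 6558) (.node (nat_lit 6463) (.node (nat_lit 6399) (.leaf (nat_lit 117)) (.leaf (nat_lit 324))) (.node (nat_lit 6536) (.leaf (nat_lit 657)) (.leaf (nat_lit 162)))) (.node (nat_lit 6683) (.node (nat_lit 6651) (.leaf (nat_lit 324)) (.leaf (nat_lit 9))) (.node (nat_lit 6730) (.leaf (nat_lit 162)) (.node (nat_lit 6920) (.leaf (nat_lit 72)) (.leaf (nat_lit 119))))))) (.node (nat_lit 7624) (.node (nat_lit 7312) (.node (nat_lit 7101) (.node (nat_lit 7070) (.leaf (nat_lit 324)) (.leaf (nat_lit 657))) (.node (nat_lit 7115) (.leaf (nat_lit 119)) (.leaf (nat_lit 657)))) (.node (nat_lit 7485) (.node (nat_lit 7432) (.leaf (nat_lit 9)) (.leaf (nat_lit 117))) (.node (nat_lit 7486) (.leaf (nat_lit 162))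 (.node (nat_lit 7531) (.leaf (nat_lit 0)) (.leaf (nat_lit 18)))))) (.node (nat_lit 7919) (.node (nat_lit 7790) (.node (nat_lit 7632) (.leaf (nat_lit 3)) (.leaf (nat_lit 0))) (.node (nat_lit 7869) (.leaf (nat_lit 117)) (.leaf (nat_lit 119)))) (.node (nat_lit 8043) (.node (nat_lit 8032) (.leaf (nat_lit 162)) (.leaf (nat_lit 324))) (.node (nat_lit 8056) (.leaf (nat_lit 162)) (.node (nat_lit 8092) (.leaf (nat_lit 119)) (.leaf (nat_lit 162)))))))))) (.node (nat_lit 11803) (.node (nat_lit 9631) (.node (nat_lit 9067) (.node (nat_lit 8590) (.node (nat_lit 8509) (.node (nat_lit 8206) (.node (nat_lit 8153) (.leaf (nat_lit 72)) (.leaf (nat_lit 119))) (.node (nat_lit 8285) (.leaf (nat_lit 72)) (.leaf (nat_lit 3)))) (.node (nat_lit 8569) (.node (nat_lit 8568) (.leaf (nat_lit 657)) (.leaf (nat_lit 117))) (.node (nat_lit 8572) (.leaf (nat_lit 3)) (.leaf (nat_lit 162))))) (.node (nat_lit 8921) (.node (nat_lit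 8718) (.node (nat_lit 8665) (.leaf (nat_lit 324)) (.leaf (nat_lit 117))) (.node (nat_lit 8735) (.leaf (nat_lit 9)) (.leaf (nat_lit 117)))) (.node (nat_lit 8956) (.node (nat_lit 8953) (.leaf (nat_lit 119)) (.leaf (nat_lit 162))) (.node (nat_lit 8974) (.leaf (nat_lit 119)) (.node (nat_lit 9002) (.leaf (nat_lit 72)) (.leaf (nat_lit 162))))))) (.node (nat_lit 9465) (.node (nat_lit 9151) (.node (nat_lit 9102) (.node (nat_lit 9081) (.leaf (nat_lit 657)) (.leaf (nat_lit 72))) (.node (nat_lit 9119) (.leaf (nat_lit 657)) (.leaf (nat_lit 324)))) (.node (nat_lit 9309) (.node (nat_lit 9240) (.leaf (nat_lit 657)) (.leaf (nat_lit 119))) (.node (nat_lit 9337) (.leaf (nat_lit 9)) (.node (nat_lit 9433) (.leaf (nat_lit 3)) (.leaf (nat_lit 117)))))) (.node (nat_lit 9514) (.node (nat_lit 9486) (.node (nat_lit 9483) (.leaf (nat_lit 324)) (.leaf (nat_lit 18))) (.node (nat_lit 9503) (.leaf (nat_lit 9)) (.leaf (nat_lit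 117)))) (.node (nat_lit 9596) (.node (nat_lit 9532) (.leaf (nat_lit 324)) (.leaf (nat_lit 162))) (.node (nat_lit 9624) (.leaf (nat_lit 657)) (.node (nat_lit 9629) (.leaf (nat_lit 162)) (.leaf (nat_lit 18)))))))) (.node (nat_lit 10600) (.node (nat_lit 10136) (.node (nat_lit 9849) (.node (nat_lit 9726) (.node (nat_lit 9660) (.leaf (nat_lit 657)) (.leaf (nat_lit 3))) (.node (nat_lit 9752) (.leaf (nat_lit 324)) (.leaf (nat_lit 117)))) (.node (nat_lit 9919) (.node (nat_lit 9851) (.leaf (nat_lit 72)) (.leaf (nat_lit 18))) (.node (nat_lit 9984) (.leaf (nat_lit 72)) (.node (nat_lit 10043) (.leaf (nat_lit 324)) (.leaf (nat_lit 119)))))) (.node (nat_lit 10424) (.node (nat_lit 10206) (.node (nat_lit 10189) (.leaf (nat_lit 324)) (.leaf (nat_lit 119))) (.node (nat_lit 10238) (.leaf (nat_lit 324)) (.leaf (nat_lit 657)))) (.node (nat_lit 10496) (.node (nat_lit 10431) (.leaf (nat_lit 3)) (.leaf (nat_lit 9))) (.node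 (nat_lit 10590) (.leaf (nat_lit 657)) (.node (nat_lit 10591) (.leaf (nat_lit 117)) (.leaf (nat_lit 324))))))) (.node (nat_lit 11103) (.node (nat_lit 10716) (.node (nat_lit 10654) (.node (nat_lit 10605) (.leaf (nat_lit 117)) (.leaf (nat_lit 3))) (.node (nat_lit 10684) (.leaf (nat_lit 324)) (.leaf (nat_lit 9)))) (.node (nat_lit 10751) (.node (nat_lit 10718) (.leaf (nat_lit 162)) (.leaf (nat_lit 657))) (.node (nat_lit 10936) (.leaf (nat_lit 0)) (.node (nat_lit 10954) (.leaf (nat_lit 72)) (.leaf (nat_lit 162)))))) (.node (nat_lit 11466) (.node (nat_lit 11294) (.node (nat_lit 11211) (.leaf (nat_lit 657)) (.leaf (nat_lit 162))) (.node (nat_lit 11373) (.leaf (nat_lit 72)) (.leaf (nat_lit 3)))) (.node (nat_lit 11629) (.node (nat_lit 11519) (.leaf (nat_lit 324)) (.leaf (nat_lit 0))) (.node (nat_lit 11691) (.leaf (nat_lit 9)) (.node (nat_lit 11758) (.leaf (nat_lit 162)) (.leaf (nat_lit 324))))))))) (.node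 (nat_lit 13759) (.node (nat_lit 12768) (.node (nat_lit 12397) (.node (nat_lit 12040) (.node (nat_lit 11838) (.node (nat_lit 11806) (.leaf (nat_lit 18)) (.leaf (nat_lit 9))) (.node (nat_lit 12013) (.leaf (nat_lit 324)) (.leaf (nat_lit 657)))) (.node (nat_lit 12124) (.node (nat_lit 12121) (.leaf (nat_lit 119)) (.leaf (nat_lit 162))) (.node (nat_lit 12235) (.leaf (nat_lit 119)) (.leaf (nat_lit 657))))) (.node (nat_lit 12602) (.node (nat_lit 12429) (.node (nat_lit 12408) (.leaf (nat_lit 9)) (.leaf (nat_lit 119))) (.node (nat_lit 12552) (.leaf (nat_lit 162)) (.leaf (nat_lit 117)))) (.node (nat_lit 12651) (.node (nat_lit 12633) (.leaf (nat_lit 3)) (.leaf (nat_lit 324))) (.node (nat_lit 12698) (.leaf (nat_lit 162)) (.node (nat_lit 12715) (.leaf (nat_lit 117)) (.leaf (nat_lit 657))))))) (.node (nat_lit 13370) (.node (nat_lit 12960) (.node (nat_lit 12920) (.node (nat_lit 12779) (.leaf (nat_lit 117)) (.leaf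 (nat_lit 3))) (.node (nat_lit 12942) (.leaf (nat_lit 117)) (.leaf (nat_lit 0)))) (.node (nat_lit 13114) (.node (nat_lit 12986) (.leaf (nat_lit 324)) (.leaf (nat_lit 162))) (.node (nat_lit 13152) (.leaf (nat_lit 72)) (.node (nat_lit 13211) (.leaf (nat_lit 324)) (.leaf (nat_lit 119)))))) (.node (nat_lit 13657) (.node (nat_lit 13536) (.node (nat_lit 13498) (.leaf (nat_lit 3)) (.leaf (nat_lit 324))) (.node (nat_lit 13592) (.leaf (nat_lit 117)) (.leaf (nat_lit 3)))) (.node (nat_lit 13710) (.node (nat_lit 13664) (.leaf (nat_lit 162)) (.leaf (nat_lit 657))) (.node (nat_lit 13724) (.leaf (nat_lit 324)) (.node (nat_lit 13758) (.leaf (nat_lit 3)) (.leaf (nat_lit 117)))))))) (.node (nat_lit 14492) (.node (nat_lit 14104) (.node (nat_lit 13882) (.node (nat_lit 13803) (.node (nat_lit 13785) (.leaf (nat_lit 324)) (.leaf (nat_lit 117))) (.node (nat_lit 13835) (.leaf (nat_lit 9)) (.leaf (nat_lit 162)))) (.node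 (nat_lit 13952) (.node (nat_lit 13884) (.leaf (nat_lit 72)) (.leaf (nat_lit 18))) (.node (nat_lit 14073) (.leaf (nat_lit 72)) (.node (nat_lit 14076) (.leaf (nat_lit 162)) (.leaf (nat_lit 119)))))) (.node (nat_lit 14239) (.node (nat_lit 14169) (.node (nat_lit 14108) (.leaf (nat_lit 72)) (.leaf (nat_lit 162))) (.node (nat_lit 14222) (.leaf (nat_lit 324)) (.leaf (nat_lit 657)))) (.node (nat_lit 14360) (.node (nat_lit 14271) (.leaf (nat_lit 324)) (.leaf (nat_lit 657))) (.node (nat_lit 14457) (.leaf (nat_lit 119)) (.node (nat_lit 14464) (.leaf (nat_lit 3)) (.leaf (nat_lit 9))))))) (.node (nat_lit 14751) (.node (nat_lit 14634) (.node (nat_lit 14602) (.node (nat_lit 14585) (.leaf (nat_lit 3)) (.leaf (nat_lit 324))) (.node (nat_lit 14623) (.leaf (nat_lit 162)) (.leaf (nat_lit 117)))) (.node (nat_lit 14687) (.node (nat_lit 14638) (.leaf (nat_lit 324)) (.leaf (nat_lit 0))) (.node (nat_lit 14691) (.leaf (nat_lit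 324)) (.node (nat_lit 14748) (.leaf (nat_lit 18)) (.leaf (nat_lit 9)))))) (.node (nat_lit 14969) (.node (nat_lit 14784) (.node (nat_lit 14779) (.leaf (nat_lit 657)) (.leaf (nat_lit 162))) (.node (nat_lit 14872) (.leaf (nat_lit 0)) (.leaf (nat_lit 117)))) (.node (nat_lit 14986) (.node (nat_lit 14971) (.leaf (nat_lit 72)) (.leaf (nat_lit 162))) (.node (nat_lit 15114) (.leaf (nat_lit 119)) (.node (nat_lit 15132) (.leaf (nat_lit 324)) (.leaf (nat_lit 657))))))))))) (.node (nat_lit 22650) (.node (nat_lit 18781) (.node (nat_lit 17341) (.node (nat_lit 16202) (.node (nat_lit 15690) (.node (nat_lit 15544) (.node (nat_lit 15498) (.node (nat_lit 15327) (.leaf (nat_lit 119)) (.leaf (nat_lit 72))) (.node (nat_lit 15516) (.leaf (nat_lit 117)) (.leaf (nat_lit 9)))) (.node (nat_lit 15579) (.node (nat_lit 15548) (.leaf (nat_lit 3)) (.leaf (nat_lit 162))) (.node (nat_lit 15597) (.leaf (nat_lit 3)) (.leaf (nat_lit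 18))))) (.node (nat_lit 15839) (.node (nat_lit 15803) (.node (nat_lit 15710) (.leaf (nat_lit 3)) (.leaf (nat_lit 117))) (.node (nat_lit 15836) (.leaf (nat_lit 657)) (.leaf (nat_lit 18)))) (.node (nat_lit 15871) (.node (nat_lit 15856) (.leaf (nat_lit 9)) (.leaf (nat_lit 117))) (.node (nat_lit 16056) (.leaf (nat_lit 324)) (.node (nat_lit 16109) (.leaf (nat_lit 72)) (.leaf (nat_lit 162))))))) (.node (nat_lit 17003) (.node (nat_lit 16776) (.node (nat_lit 16603) (.node (nat_lit 16392) (.leaf (nat_lit 72)) (.leaf (nat_lit 119))) (.node (nat_lit 16656) (.leaf (nat_lit 9)) (.leaf (nat_lit 324)))) (.node (nat_lit 16878) (.node (nat_lit 16784) (.leaf (nat_lit 162)) (.leaf (nat_lit 9))) (.node (nat_lit 16904) (.leaf (nat_lit 324)) (.node (nat_lit 16958) (.leaf (nat_lit 117)) (.leaf (nat_lit 0)))))) (.node (nat_lit 17215) (.node (nat_lit 17133) (.node (nat_lit 17040) (.leaf (nat_lit 18)) (.leaf (nat_lit 72)))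 (.node (nat_lit 17195) (.leaf (nat_lit 657)) (.leaf (nat_lit 119)))) (.node (nat_lit 17244) (.node (nat_lit 17241) (.leaf (nat_lit 0)) (.leaf (nat_lit 162))) (.node (nat_lit 17276) (.leaf (nat_lit 119)) (.node (nat_lit 17288) (.leaf (nat_lit 162)) (.leaf (nat_lit 324)))))))) (.node (nat_lit 18088) (.node (nat_lit 17625) (.node (nat_lit 17549) (.node (nat_lit 17390) (.node (nat_lit 17358) (.leaf (nat_lit 119)) (.leaf (nat_lit 324))) (.node (nat_lit 17528) (.leaf (nat_lit 657)) (.leaf (nat_lit 119)))) (.node (nat_lit 17563) (.node (nat_lit 17552) (.leaf (nat_lit 18)) (.leaf (nat_lit 9))) (.node (nat_lit 17576) (.leaf (nat_lit 119)) (.node (nat_lit 17584) (.leaf (nat_lit 3)) (.leaf (nat_lit 324)))))) (.node (nat_lit 17757) (.node (nat_lit 17742) (.node (nat_lit 17721) (.leaf (nat_lit 3)) (.leaf (nat_lit 162))) (.node (nat_lit 17753) (.leaf (nat_lit 117)) (.leaf (nat_lit 324)))) (.node (nat_lit 17806)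 (.node (nat_lit 17791) (.leaf (nat_lit 3)) (.leaf (nat_lit 117))) (.node (nat_lit 17870) (.leaf (nat_lit 324)) (.node (nat_lit 18040) (.leaf (nat_lit 657)) (.leaf (nat_lit 117))))))) (.node (nat_lit 18393) (.node (nat_lit 18141) (.node (nat_lit 18106) (.node (nat_lit 18105) (.leaf (nat_lit 72)) (.leaf (nat_lit 119))) (.node (nat_lit 18137) (.leaf (nat_lit 162)) (.leaf (nat_lit 72)))) (.node (nat_lit 18233) (.node (nat_lit 18154) (.leaf (nat_lit 162)) (.leaf (nat_lit 119))) (.node (nat_lit 18300) (.leaf (nat_lit 324)) (.node (nat_lit 18328) (.leaf (nat_lit 657)) (.leaf (nat_lit 162)))))) (.node (nat_lit 18618) (.node (nat_lit 18525) (.node (nat_lit 18446) (.leaf (nat_lit 119)) (.leaf (nat_lit 72))) (.node (nat_lit 18617) (.leaf (nat_lit 3)) (.leaf (nat_lit 117)))) (.node (nat_lit 18712) (.node (nat_lit 18666) (.leaf (nat_lit 324)) (.leaf (nat_lit 117))) (.node (nat_lit 18716) (.leaf (nat_lit 3))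 (.node (nat_lit 18747) (.leaf (nat_lit 18)) (.leaf (nat_lit 3))))))))) (.node (nat_lit 20336) (.node (nat_lit 19577) (.node (nat_lit 18990) (.node (nat_lit 18878) (.node (nat_lit 18812) (.node (nat_lit 18809) (.leaf (nat_lit 9)) (.leaf (nat_lit 3))) (.node (nat_lit 18840) (.leaf (nat_lit 162)) (.leaf (nat_lit 324)))) (.node (nat_lit 18958) (.node (nat_lit 18955) (.leaf (nat_lit 117)) (.leaf (nat_lit 18))) (.node (nat_lit 18975) (.leaf (nat_lit 9)) (.leaf (nat_lit 117))))) (.node (nat_lit 19228) (.node (nat_lit 19165) (.node (nat_lit 19004) (.leaf (nat_lit 324)) (.leaf (nat_lit 162))) (.node (nat_lit 19224) (.leaf (nat_lit 657)) (.leaf (nat_lit 72)))) (.node (nat_lit 19515) (.node (nat_lit 19321) (.leaf (nat_lit 162)) (.leaf (nat_lit 72))) (.node (nat_lit 19549) (.leaf (nat_lit 119)) (.node (nat_lit 19560) (.leaf (nat_lit 9)) (.leaf (nat_lit 119))))))) (.node (nat_lit 19903) (.node (nat_lit 19757)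 (.node (nat_lit 19612) (.node (nat_lit 19581) (.leaf (nat_lit 3)) (.leaf (nat_lit 162))) (.node (nat_lit 19743) (.leaf (nat_lit 3)) (.leaf (nat_lit 117)))) (.node (nat_lit 19775) (.node (nat_lit 19771) (.leaf (nat_lit 162)) (.leaf (nat_lit 9))) (.node (nat_lit 19836) (.leaf (nat_lit 324)) (.node (nat_lit 19896) (.leaf (nat_lit 657)) (.leaf (nat_lit 3)))))) (.node (nat_lit 20126) (.node (nat_lit 20089) (.node (nat_lit 20062) (.leaf (nat_lit 9)) (.leaf (nat_lit 117))) (.node (nat_lit 20106) (.leaf (nat_lit 72)) (.leaf (nat_lit 119)))) (.node (nat_lit 20159) (.node (nat_lit 20141) (.leaf (nat_lit 324)) (.leaf (nat_lit 119))) (.node (nat_lit 20252) (.leaf (nat_lit 72)) (.node (nat_lit 20334) (.leaf (nat_lit 657)) (.leaf (nat_lit 162)))))))) (.node (nat_lit 21273) (.node (nat_lit 20703) (.node (nat_lit 20618) (.node (nat_lit 20408) (.node (nat_lit 20363) (.leaf (nat_lit 657)) (.leaf (nat_lit 119)))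 (.node (nat_lit 20446) (.leaf (nat_lit 72)) (.leaf (nat_lit 324)))) (.node (nat_lit 20668) (.node (nat_lit 20636) (.leaf (nat_lit 117)) (.leaf (nat_lit 9))) (.node (nat_lit 20671) (.leaf (nat_lit 18)) (.node (nat_lit 20699) (.leaf (nat_lit 9)) (.leaf (nat_lit 3)))))) (.node (nat_lit 20845) (.node (nat_lit 20744) (.node (nat_lit 20717) (.leaf (nat_lit 324)) (.leaf (nat_lit 162))) (.node (nat_lit 20781) (.leaf (nat_lit 3)) (.leaf (nat_lit 657)))) (.node (nat_lit 20958) (.node (nat_lit 20910) (.leaf (nat_lit 3)) (.leaf (nat_lit 117))) (.node (nat_lit 20991) (.leaf (nat_lit 657)) (.node (nat_lit 21246) (.leaf (nat_lit 0)) (.leaf (nat_lit 72))))))) (.node (nat_lit 21869) (.node (nat_lit 21754) (.node (nat_lit 21512) (.node (nat_lit 21274) (.leaf (nat_lit 119)) (.leaf (nat_lit 162))) (.node (nat_lit 21723) (.leaf (nat_lit 119)) (.leaf (nat_lit 9)))) (.node (nat_lit 21776) (.node (nat_lit 21758) (.leaf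 (nat_lit 162)) (.leaf (nat_lit 9))) (.node (nat_lit 21785) (.leaf (nat_lit 324)) (.node (nat_lit 21786) (.leaf (nat_lit 117)) (.leaf (nat_lit 324)))))) (.node (nat_lit 22138) (.node (nat_lit 22024) (.node (nat_lit 21901) (.leaf (nat_lit 9)) (.leaf (nat_lit 162))) (.node (nat_lit 22123) (.leaf (nat_lit 117)) (.leaf (nat_lit 162)))) (.node (nat_lit 22288) (.node (nat_lit 22266) (.leaf (nat_lit 119)) (.leaf (nat_lit 324))) (.node (nat_lit 22361) (.leaf (nat_lit 657)) (.node (nat_lit 22414) (.leaf (nat_lit 162)) (.leaf (nat_lit 0)))))))))) (.node (nat_lit 25306) (.node (nat_lit 23867) (.node (nat_lit 23230) (.node (nat_lit 22873) (.node (nat_lit 22731) (.node (nat_lit 22696) (.node (nat_lit 22683) (.leaf (nat_lit 117)) (.leaf (nat_lit 119))) (.node (nat_lit 22704) (.leaf (nat_lit 3)) (.leaf (nat_lit 0)))) (.node (nat_lit 22780) (.node (nat_lit 22749) (.leaf (nat_lit 3)) (.leaf (nat_lit 18))) (.node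 (nat_lit 22862) (.leaf (nat_lit 3)) (.leaf (nat_lit 117))))) (.node (nat_lit 22955) (.node (nat_lit 22911) (.node (nat_lit 22876) (.leaf (nat_lit 324)) (.leaf (nat_lit 162))) (.node (nat_lit 22943) (.leaf (nat_lit 117)) (.leaf (nat_lit 324)))) (.node (nat_lit 23064) (.node (nat_lit 23008) (.leaf (nat_lit 657)) (.leaf (nat_lit 117))) (.node (nat_lit 23208) (.leaf (nat_lit 3)) (.node (nat_lit 23225) (.leaf (nat_lit 72)) (.leaf (nat_lit 119))))))) (.node (nat_lit 23483) (.node (nat_lit 23274) (.node (nat_lit 23260) (.node (nat_lit 23257) (.leaf (nat_lit 117)) (.leaf (nat_lit 72))) (.node (nat_lit 23261) (.leaf (nat_lit 119)) (.leaf (nat_lit 162)))) (.node (nat_lit 23420) (.node (nat_lit 23354) (.leaf (nat_lit 119)) (.leaf (nat_lit 72))) (.node (nat_lit 23424) (.leaf (nat_lit 657)) (.node (nat_lit 23455) (.leaf (nat_lit 72)) (.leaf (nat_lit 657)))))) (.node (nat_lit 23755) (.node (nat_lit 23576) (.node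 (nat_lit 23548) (.leaf (nat_lit 162)) (.leaf (nat_lit 119))) (.node (nat_lit 23737) (.leaf (nat_lit 72)) (.leaf (nat_lit 117)))) (.node (nat_lit 23804) (.node (nat_lit 23786) (.leaf (nat_lit 9)) (.leaf (nat_lit 117))) (.node (nat_lit 23808) (.leaf (nat_lit 9)) (.node (nat_lit 23836) (.leaf (nat_lit 324)) (.leaf (nat_lit 162)))))))) (.node (nat_lit 24732) (.node (nat_lit 24285) (.node (nat_lit 23964) (.node (nat_lit 23929) (.node (nat_lit 23900) (.leaf (nat_lit 3)) (.leaf (nat_lit 657))) (.node (nat_lit 23936) (.leaf (nat_lit 3)) (.leaf (nat_lit 9)))) (.node (nat_lit 24110) (.node (nat_lit 24095) (.leaf (nat_lit 3)) (.leaf (nat_lit 117))) (.node (nat_lit 24159) (.leaf (nat_lit 0)) (.node (nat_lit 24192) (.leaf (nat_lit 324)) (.leaf (nat_lit 72)))))) (.node (nat_lit 24507) (.node (nat_lit 24458) (.node (nat_lit 24414) (.leaf (nat_lit 657)) (.leaf (nat_lit 72))) (.node (nat_lit 24479) (.leaf (nat_lit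 119)) (.leaf (nat_lit 324)))) (.node (nat_lit 24701) (.node (nat_lit 24680) (.leaf (nat_lit 657)) (.leaf (nat_lit 119))) (.node (nat_lit 24704) (.leaf (nat_lit 18)) (.node (nat_lit 24715) (.leaf (nat_lit 9)) (.leaf (nat_lit 119))))))) (.node (nat_lit 24988) (.node (nat_lit 24895) (.node (nat_lit 24842) (.node (nat_lit 24752) (.leaf (nat_lit 3)) (.leaf (nat_lit 657))) (.node (nat_lit 24891) (.leaf (nat_lit 162)) (.leaf (nat_lit 9)))) (.node (nat_lit 24926) (.node (nat_lit 24923) (.leaf (nat_lit 324)) (.leaf (nat_lit 18))) (.node (nat_lit 24944) (.leaf (nat_lit 9)) (.node (nat_lit 24970) (.leaf (nat_lit 324)) (.leaf (nat_lit 117)))))) (.node (nat_lit 25051) (.node (nat_lit 25016) (.node (nat_lit 24991) (.leaf (nat_lit 9)) (.leaf (nat_lit 657))) (.node (nat_lit 25020) (.leaf (nat_lit 3)) (.leaf (nat_lit 162)))) (.node (nat_lit 25182) (.node (nat_lit 25069) (.leaf (nat_lit 3)) (.leaf (nat_lit 18)))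 (.node (nat_lit 25261) (.leaf (nat_lit 117)) (.node (nat_lit 25279) (.leaf (nat_lit 119)) (.leaf (nat_lit 72))))))))) (.node (nat_lit 27258) (.node (nat_lit 26154) (.node (nat_lit 25808) (.node (nat_lit 25456) (.node (nat_lit 25407) (.node (nat_lit 25354) (.leaf (nat_lit 119)) (.leaf (nat_lit 324))) (.node (nat_lit 25424) (.leaf (nat_lit 657)) (.leaf (nat_lit 324)))) (.node (nat_lit 25528) (.node (nat_lit 25480) (.leaf (nat_lit 657)) (.leaf (nat_lit 162))) (.node (nat_lit 25642) (.leaf (nat_lit 72)) (.node (nat_lit 25756) (.leaf (nat_lit 3)) (.leaf (nat_lit 9)))))) (.node (nat_lit 25899) (.node (nat_lit 25864) (.node (nat_lit 25823) (.leaf (nat_lit 117)) (.leaf (nat_lit 0))) (.node (nat_lit 25872) (.leaf (nat_lit 3)) (.leaf (nat_lit 324)))) (.node (nat_lit 25992) (.node (nat_lit 25936) (.leaf (nat_lit 3)) (.leaf (nat_lit 657))) (.node (nat_lit 26030) (.leaf (nat_lit 324)) (.node (nat_lit 26075)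 (.leaf (nat_lit 117)) (.leaf (nat_lit 9))))))) (.node (nat_lit 26909) (.node (nat_lit 26429) (.node (nat_lit 26400) (.node (nat_lit 26393) (.leaf (nat_lit 72)) (.leaf (nat_lit 119))) (.node (nat_lit 26428) (.leaf (nat_lit 9)) (.leaf (nat_lit 119)))) (.node (nat_lit 26667) (.node (nat_lit 26512) (.leaf (nat_lit 162)) (.leaf (nat_lit 72))) (.node (nat_lit 26878) (.leaf (nat_lit 119)) (.node (nat_lit 26905) (.leaf (nat_lit 9)) (.leaf (nat_lit 117)))))) (.node (nat_lit 27024) (.node (nat_lit 26976) (.node (nat_lit 26923) (.leaf (nat_lit 162)) (.leaf (nat_lit 9))) (.node (nat_lit 27021) (.leaf (nat_lit 324)) (.leaf (nat_lit 18)))) (.node (nat_lit 27056) (.node (nat_lit 27048) (.leaf (nat_lit 9)) (.leaf (nat_lit 3))) (.node (nat_lit 27097) (.leaf (nat_lit 324)) (.node (nat_lit 27214) (.leaf (nat_lit 3)) (.leaf (nat_lit 117)))))))) (.node (nat_lit 27992) (.node (nat_lit 27598) (.node (nat_lit 27453) (.node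 (nat_lit 27278) (.node (nat_lit 27263) (.leaf (nat_lit 119)) (.leaf (nat_lit 117))) (.node (nat_lit 27293) (.leaf (nat_lit 324)) (.leaf (nat_lit 119)))) (.node (nat_lit 27516) (.node (nat_lit 27480) (.leaf (nat_lit 657)) (.leaf (nat_lit 119))) (.node (nat_lit 27560) (.leaf (nat_lit 162)) (.node (nat_lit 27577) (.leaf (nat_lit 72)) (.leaf (nat_lit 119)))))) (.node (nat_lit 27851) (.node (nat_lit 27626) (.node (nat_lit 27609) (.leaf (nat_lit 324)) (.leaf (nat_lit 72))) (.node (nat_lit 27770) (.leaf (nat_lit 119)) (.leaf (nat_lit 117)))) (.node (nat_lit 27900) (.node (nat_lit 27869) (.leaf (nat_lit 3)) (.leaf (nat_lit 162))) (.node (nat_lit 27933) (.leaf (nat_lit 3)) (.node (nat_lit 27961) (.leaf (nat_lit 657)) (.leaf (nat_lit 162))))))) (.node (nat_lit 28350) (.node (nat_lit 28110) (.node (nat_lit 28063) (.node (nat_lit 27997) (.leaf (nat_lit 117)) (.leaf (nat_lit 3))) (.node (nat_lit 28089) (.leaf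 (nat_lit 324)) (.leaf (nat_lit 117)))) (.node (nat_lit 28184) (.node (nat_lit 28138) (.leaf (nat_lit 657)) (.leaf (nat_lit 117))) (.node (nat_lit 28188) (.leaf (nat_lit 3)) (.node (nat_lit 28219) (.leaf (nat_lit 18)) (.leaf (nat_lit 3)))))) (.node (nat_lit 28447) (.node (nat_lit 28398) (.node (nat_lit 28380) (.leaf (nat_lit 117)) (.leaf (nat_lit 119))) (.node (nat_lit 28429) (.leaf (nat_lit 72)) (.leaf (nat_lit 119)))) (.node (nat_lit 28540) (.node (nat_lit 28473) (.leaf (nat_lit 72)) (.leaf (nat_lit 324))) (.node (nat_lit 28543) (.leaf (nat_lit 657)) (.node (nat_lit 28568) (.leaf (nat_lit 324)) (.leaf (nat_lit 162)))))))))))) (.node (nat_lit 42335) (.node (nat_lit 35163) (.node (nat_lit 32168) (.node (nat_lit 30140) (.node (nat_lit 29150) (.node (nat_lit 28976) (.node (nat_lit 28927) (.node (nat_lit 28761) (.node (nat_lit 28696) (.leaf (nat_lit 657)) (.leaf (nat_lit 72))) (.node (nat_lit 28875)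 (.leaf (nat_lit 3)) (.leaf (nat_lit 9)))) (.node (nat_lit 28956) (.node (nat_lit 28928) (.leaf (nat_lit 117)) (.leaf (nat_lit 324))) (.node (nat_lit 28959) (.leaf (nat_lit 18)) (.leaf (nat_lit 9))))) (.node (nat_lit 29049) (.node (nat_lit 29021) (.node (nat_lit 28991) (.leaf (nat_lit 117)) (.leaf (nat_lit 324))) (.node (nat_lit 29048) (.leaf (nat_lit 9)) (.leaf (nat_lit 162)))) (.node (nat_lit 29055) (.node (nat_lit 29053) (.leaf (nat_lit 3)) (.leaf (nat_lit 162))) (.node (nat_lit 29080) (.leaf (nat_lit 657)) (.node (nat_lit 29084) (.leaf (nat_lit 324)) (.leaf (nat_lit 3))))))) (.node (nat_lit 29578) (.node (nat_lit 29440) (.node (nat_lit 29243) (.node (nat_lit 29215) (.leaf (nat_lit 324)) (.leaf (nat_lit 117))) (.node (nat_lit 29273) (.leaf (nat_lit 9)) (.leaf (nat_lit 72)))) (.node (nat_lit 29560) (.node (nat_lit 29534) (.leaf (nat_lit 657)) (.leaf (nat_lit 72))) (.node (nat_lit 29561) (.leaf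 (nat_lit 324)) (.node (nat_lit 29566) (.leaf (nat_lit 72)) (.leaf (nat_lit 0)))))) (.node (nat_lit 29856) (.node (nat_lit 29662) (.node (nat_lit 29631) (.leaf (nat_lit 119)) (.leaf (nat_lit 72))) (.node (nat_lit 29835) (.leaf (nat_lit 657)) (.leaf (nat_lit 119)))) (.node (nat_lit 30046) (.node (nat_lit 29997) (.leaf (nat_lit 0)) (.leaf (nat_lit 162))) (.node (nat_lit 30090) (.leaf (nat_lit 9)) (.node (nat_lit 30108) (.leaf (nat_lit 117)) (.leaf (nat_lit 9)))))))) (.node (nat_lit 31257) (.node (nat_lit 30635) (.node (nat_lit 30189) (.node (nat_lit 30171) (.node (nat_lit 30143) (.leaf (nat_lit 18)) (.leaf (nat_lit 9))) (.node (nat_lit 30175) (.leaf (nat_lit 3)) (.leaf (nat_lit 324)))) (.node (nat_lit 30382) (.node (nat_lit 30216) (.leaf (nat_lit 162)) (.leaf (nat_lit 3))) (.node (nat_lit 30399) (.leaf (nat_lit 117)) (.node (nat_lit 30426) (.leaf (nat_lit 72)) (.leaf (nat_lit 119)))))) (.node (nat_lit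 30911) (.node (nat_lit 30745) (.node (nat_lit 30718) (.leaf (nat_lit 162)) (.leaf (nat_lit 72))) (.node (nat_lit 30762) (.leaf (nat_lit 119)) (.leaf (nat_lit 3)))) (.node (nat_lit 31019) (.node (nat_lit 30928) (.leaf (nat_lit 9)) (.leaf (nat_lit 117))) (.node (nat_lit 31021) (.leaf (nat_lit 3)) (.node (nat_lit 31195) (.leaf (nat_lit 657)) (.leaf (nat_lit 9))))))) (.node (nat_lit 31929) (.node (nat_lit 31566) (.node (nat_lit 31279) (.node (nat_lit 31274) (.leaf (nat_lit 117)) (.leaf (nat_lit 72))) (.node (nat_lit 31513) (.leaf (nat_lit 162)) (.leaf (nat_lit 119)))) (.node (nat_lit 31659) (.node (nat_lit 31610) (.leaf (nat_lit 72)) (.leaf (nat_lit 119))) (.node (nat_lit 31821) (.leaf (nat_lit 657)) (.node (nat_lit 31904) (.leaf (nat_lit 9)) (.leaf (nat_lit 657)))))) (.node (nat_lit 32075) (.node (nat_lit 32025) (.node (nat_lit 31994) (.leaf (nat_lit 3)) (.leaf (nat_lit 162))) (.node (nat_lit 32043)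 (.leaf (nat_lit 117)) (.leaf (nat_lit 9)))) (.node (nat_lit 32095) (.node (nat_lit 32078) (.leaf (nat_lit 18)) (.leaf (nat_lit 9))) (.node (nat_lit 32096) (.leaf (nat_lit 117)) (.node (nat_lit 32122) (.leaf (nat_lit 324)) (.leaf (nat_lit 117))))))))) (.node (nat_lit 33518) (.node (nat_lit 32728) (.node (nat_lit 32384) (.node (nat_lit 32217) (.node (nat_lit 32203) (.node (nat_lit 32176) (.leaf (nat_lit 3)) (.leaf (nat_lit 0))) (.node (nat_lit 32216) (.leaf (nat_lit 3)) (.leaf (nat_lit 162)))) (.node (nat_lit 32252) (.node (nat_lit 32221) (.leaf (nat_lit 3)) (.leaf (nat_lit 18))) (.node (nat_lit 32334) (.leaf (nat_lit 3)) (.leaf (nat_lit 117))))) (.node (nat_lit 32601) (.node (nat_lit 32441) (.node (nat_lit 32413) (.leaf (nat_lit 0)) (.leaf (nat_lit 119))) (.node (nat_lit 32506) (.leaf (nat_lit 72)) (.leaf (nat_lit 324)))) (.node (nat_lit 32635) (.node (nat_lit 32608) (.leaf (nat_lit 162)) (.leaf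 (nat_lit 657))) (.node (nat_lit 32680) (.leaf (nat_lit 119)) (.node (nat_lit 32697) (.leaf (nat_lit 72)) (.leaf (nat_lit 119))))))) (.node (nat_lit 33116) (.node (nat_lit 32960) (.node (nat_lit 32732) (.node (nat_lit 32729) (.leaf (nat_lit 324)) (.leaf (nat_lit 72))) (.node (nat_lit 32794) (.leaf (nat_lit 119)) (.leaf (nat_lit 3)))) (.node (nat_lit 33081) (.node (nat_lit 33024) (.leaf (nat_lit 117)) (.leaf (nat_lit 324))) (.node (nat_lit 33088) (.leaf (nat_lit 162)) (.node (nat_lit 33113) (.leaf (nat_lit 657)) (.leaf (nat_lit 324)))))) (.node (nat_lit 33258) (.node (nat_lit 33209) (.node (nat_lit 33183) (.leaf (nat_lit 162)) (.leaf (nat_lit 324))) (.node (nat_lit 33227) (.leaf (nat_lit 117)) (.leaf (nat_lit 9)))) (.node (nat_lit 33306) (.node (nat_lit 33276) (.leaf (nat_lit 117)) (.leaf (nat_lit 9))) (.node (nat_lit 33308) (.leaf (nat_lit 72)) (.node (nat_lit 33339) (.leaf (nat_lit 162)) (.leaf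 (nat_lit 3)))))))) (.node (nat_lit 34176) (.node (nat_lit 33916) (.node (nat_lit 33664) (.node (nat_lit 33567) (.node (nat_lit 33546) (.leaf (nat_lit 72)) (.leaf (nat_lit 162))) (.node (nat_lit 33593) (.leaf (nat_lit 72)) (.leaf (nat_lit 324)))) (.node (nat_lit 33723) (.node (nat_lit 33695) (.leaf (nat_lit 72)) (.leaf (nat_lit 657))) (.node (nat_lit 33881) (.leaf (nat_lit 162)) (.node (nat_lit 33886) (.leaf (nat_lit 3)) (.leaf (nat_lit 72)))))) (.node (nat_lit 34079) (.node (nat_lit 34047) (.node (nat_lit 34030) (.leaf (nat_lit 3)) (.leaf (nat_lit 9))) (.node (nat_lit 34058) (.leaf (nat_lit 117)) (.leaf (nat_lit 324)))) (.node (nat_lit 34140) (.node (nat_lit 34096) (.leaf (nat_lit 9)) (.leaf (nat_lit 117))) (.node (nat_lit 34168) (.leaf (nat_lit 657)) (.node (nat_lit 34173) (.leaf (nat_lit 162)) (.leaf (nat_lit 18))))))) (.node (nat_lit 34632) (.node (nat_lit 34363) (.node (nat_lit 34204) (.node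 (nat_lit 34203) (.leaf (nat_lit 9)) (.leaf (nat_lit 162))) (.node (nat_lit 34208) (.leaf (nat_lit 3)) (.leaf (nat_lit 324)))) (.node (nat_lit 34395) (.node (nat_lit 34393) (.leaf (nat_lit 9)) (.leaf (nat_lit 72))) (.node (nat_lit 34398) (.leaf (nat_lit 18)) (.node (nat_lit 34442) (.leaf (nat_lit 9)) (.leaf (nat_lit 72)))))) (.node (nat_lit 34751) (.node (nat_lit 34733) (.node (nat_lit 34680) (.leaf (nat_lit 119)) (.leaf (nat_lit 324))) (.node (nat_lit 34747) (.leaf (nat_lit 119)) (.leaf (nat_lit 657)))) (.node (nat_lit 34940) (.node (nat_lit 34778) (.leaf (nat_lit 72)) (.leaf (nat_lit 119))) (.node (nat_lit 35114) (.leaf (nat_lit 9)) (.node (nat_lit 35144) (.leaf (nat_lit 3)) (.leaf (nat_lit 117)))))))))) (.node (nat_lit 38426) (.node (nat_lit 36952) (.node (nat_lit 36176) (.node (nat_lit 35502) (.node (nat_lit 35295) (.node (nat_lit 35228) (.node (nat_lit 35227) (.leaf (nat_lit 18)) (.leaf (nat_lit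 657))) (.node (nat_lit 35280) (.leaf (nat_lit 9)) (.leaf (nat_lit 117)))) (.node (nat_lit 35344) (.node (nat_lit 35336) (.leaf (nat_lit 0)) (.leaf (nat_lit 3))) (.node (nat_lit 35371) (.leaf (nat_lit 324)) (.leaf (nat_lit 3))))) (.node (nat_lit 35720) (.node (nat_lit 35626) (.node (nat_lit 35581) (.leaf (nat_lit 117)) (.leaf (nat_lit 119))) (.node (nat_lit 35664) (.leaf (nat_lit 72)) (.leaf (nat_lit 324)))) (.node (nat_lit 35865) (.node (nat_lit 35838) (.leaf (nat_lit 162)) (.leaf (nat_lit 72))) (.node (nat_lit 35917) (.leaf (nat_lit 119)) (.node (nat_lit 36128) (.leaf (nat_lit 3)) (.leaf (nat_lit 117))))))) (.node (nat_lit 36665) (.node (nat_lit 36302) (.node (nat_lit 36232) (.node (nat_lit 36200) (.leaf (nat_lit 657)) (.leaf (nat_lit 162))) (.node (nat_lit 36249) (.leaf (nat_lit 324)) (.leaf (nat_lit 162)))) (.node (nat_lit 36377) (.node (nat_lit 36350) (.leaf (nat_lit 324)) (.leaf (nat_lit 9)))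 (.node (nat_lit 36395) (.leaf (nat_lit 117)) (.node (nat_lit 36464) (.leaf (nat_lit 9)) (.leaf (nat_lit 72)))))) (.node (nat_lit 36730) (.node (nat_lit 36686) (.node (nat_lit 36668) (.leaf (nat_lit 162)) (.leaf (nat_lit 119))) (.node (nat_lit 36712) (.leaf (nat_lit 72)) (.leaf (nat_lit 324)))) (.node (nat_lit 36765) (.node (nat_lit 36761) (.leaf (nat_lit 119)) (.leaf (nat_lit 324))) (.node (nat_lit 36814) (.leaf (nat_lit 119)) (.node (nat_lit 36941) (.leaf (nat_lit 657)) (.leaf (nat_lit 9)))))))) (.node (nat_lit 37901) (.node (nat_lit 37372) (.node (nat_lit 37177) (.node (nat_lit 37049) (.node (nat_lit 36976) (.leaf (nat_lit 119)) (.leaf (nat_lit 9))) (.node (nat_lit 37149) (.leaf (nat_lit 3)) (.leaf (nat_lit 162)))) (.node (nat_lit 37215) (.node (nat_lit 37198) (.leaf (nat_lit 324)) (.leaf (nat_lit 9))) (.node (nat_lit 37323) (.leaf (nat_lit 117)) (.node (nat_lit 37336) (.leaf (nat_lit 3)) (.leaf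 (nat_lit 162)))))) (.node (nat_lit 37720) (.node (nat_lit 37486) (.node (nat_lit 37464) (.leaf (nat_lit 3)) (.leaf (nat_lit 117))) (.node (nat_lit 37561) (.leaf (nat_lit 0)) (.leaf (nat_lit 72)))) (.node (nat_lit 37848) (.node (nat_lit 37756) (.leaf (nat_lit 119)) (.leaf (nat_lit 162))) (.node (nat_lit 37852) (.leaf (nat_lit 324)) (.node (nat_lit 37870) (.leaf (nat_lit 119)) (.leaf (nat_lit 72))))))) (.node (nat_lit 38232) (.node (nat_lit 38080) (.node (nat_lit 37919) (.node (nat_lit 37914) (.leaf (nat_lit 119)) (.leaf (nat_lit 3))) (.node (nat_lit 37949) (.leaf (nat_lit 72)) (.leaf (nat_lit 3)))) (.node (nat_lit 38136) (.node (nat_lit 38108) (.leaf (nat_lit 117)) (.leaf (nat_lit 9))) (.node (nat_lit 38173) (.leaf (nat_lit 3)) (.node (nat_lit 38201) (.leaf (nat_lit 657)) (.leaf (nat_lit 162)))))) (.node (nat_lit 38302) (.node (nat_lit 38236) (.node (nat_lit 38233) (.leaf (nat_lit 117)) (.leaf (nat_lit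 3))) (.node (nat_lit 38282) (.leaf (nat_lit 162)) (.leaf (nat_lit 3)))) (.node (nat_lit 38395) (.node (nat_lit 38347) (.leaf (nat_lit 117)) (.leaf (nat_lit 9))) (.node (nat_lit 38396) (.leaf (nat_lit 657)) (.node (nat_lit 38399) (.leaf (nat_lit 9)) (.leaf (nat_lit 117))))))))) (.node (nat_lit 40347) (.node (nat_lit 39328) (.node (nat_lit 38780) (.node (nat_lit 38463) (.node (nat_lit 38431) (.node (nat_lit 38428) (.leaf (nat_lit 72)) (.leaf (nat_lit 18))) (.node (nat_lit 38448) (.leaf (nat_lit 9)) (.leaf (nat_lit 117)))) (.node (nat_lit 38701) (.node (nat_lit 38648) (.leaf (nat_lit 324)) (.leaf (nat_lit 72))) (.node (nat_lit 38713) (.leaf (nat_lit 162)) (.node (nat_lit 38745) (.leaf (nat_lit 324)) (.leaf (nat_lit 72)))))) (.node (nat_lit 39006) (.node (nat_lit 38794) (.node (nat_lit 38783) (.leaf (nat_lit 657)) (.leaf (nat_lit 324))) (.node (nat_lit 38973) (.leaf (nat_lit 72)) (.leaf (nat_lit 9))))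 (.node (nat_lit 39196) (.node (nat_lit 39036) (.leaf (nat_lit 72)) (.leaf (nat_lit 3))) (.node (nat_lit 39260) (.leaf (nat_lit 18)) (.node (nat_lit 39323) (.leaf (nat_lit 657)) (.leaf (nat_lit 162))))))) (.node (nat_lit 39880) (.node (nat_lit 39583) (.node (nat_lit 39390) (.node (nat_lit 39368) (.leaf (nat_lit 0)) (.leaf (nat_lit 162))) (.node (nat_lit 39518) (.leaf (nat_lit 324)) (.leaf (nat_lit 9)))) (.node (nat_lit 39787) (.node (nat_lit 39725) (.leaf (nat_lit 72)) (.leaf (nat_lit 657))) (.node (nat_lit 39870) (.leaf (nat_lit 119)) (.node (nat_lit 39871) (.leaf (nat_lit 324)) (.leaf (nat_lit 72)))))) (.node (nat_lit 40060) (.node (nat_lit 39902) (.node (nat_lit 39898) (.leaf (nat_lit 324)) (.leaf (nat_lit 119))) (.node (nat_lit 39933) (.leaf (nat_lit 657)) (.leaf (nat_lit 119)))) (.node (nat_lit 40144) (.node (nat_lit 40141) (.leaf (nat_lit 9)) (.leaf (nat_lit 18))) (.node (nat_lit 40234) (.leaf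 (nat_lit 9)) (.node (nat_lit 40318) (.leaf (nat_lit 3)) (.leaf (nat_lit 0)))))))) (.node (nat_lit 41519) (.node (nat_lit 41082) (.node (nat_lit 40698) (.node (nat_lit 40400) (.node (nat_lit 40383) (.leaf (nat_lit 657)) (.leaf (nat_lit 9))) (.node (nat_lit 40491) (.leaf (nat_lit 117)) (.leaf (nat_lit 3)))) (.node (nat_lit 40751) (.node (nat_lit 40746) (.leaf (nat_lit 162)) (.leaf (nat_lit 72))) (.node (nat_lit 40985) (.leaf (nat_lit 162)) (.node (nat_lit 41038) (.leaf (nat_lit 119)) (.leaf (nat_lit 72)))))) (.node (nat_lit 41320) (.node (nat_lit 41248) (.node (nat_lit 41210) (.leaf (nat_lit 3)) (.leaf (nat_lit 324))) (.node (nat_lit 41293) (.leaf (nat_lit 117)) (.leaf (nat_lit 9)))) (.node (nat_lit 41404) (.node (nat_lit 41401) (.leaf (nat_lit 162)) (.leaf (nat_lit 3))) (.node (nat_lit 41497) (.leaf (nat_lit 162)) (.node (nat_lit 41515) (.leaf (nat_lit 117)) (.leaf (nat_lit 9))))))) (.node (nat_lit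 41899) (.node (nat_lit 41584) (.node (nat_lit 41550) (.node (nat_lit 41547) (.leaf (nat_lit 162)) (.leaf (nat_lit 18))) (.node (nat_lit 41567) (.leaf (nat_lit 9)) (.leaf (nat_lit 117)))) (.node (nat_lit 41820) (.node (nat_lit 41753) (.leaf (nat_lit 72)) (.leaf (nat_lit 119))) (.node (nat_lit 41832) (.leaf (nat_lit 162)) (.node (nat_lit 41885) (.leaf (nat_lit 324)) (.leaf (nat_lit 119)))))) (.node (nat_lit 42141) (.node (nat_lit 42096) (.node (nat_lit 41913) (.leaf (nat_lit 657)) (.leaf (nat_lit 72))) (.node (nat_lit 42107) (.leaf (nat_lit 9)) (.leaf (nat_lit 119)))) (.node (nat_lit 42265) (.node (nat_lit 42169) (.leaf (nat_lit 9)) (.leaf (nat_lit 3))) (.node (nat_lit 42266) (.leaf (nat_lit 117)) (.node (nat_lit 42315) (.leaf (nat_lit 3)) (.leaf (nat_lit 18))))))))))) (.node (nat_lit 49643) (.node (nat_lit 46140) (.node (nat_lit 43903) (.node (nat_lit 43260) (.node (nat_lit 42816) (.node (nat_lit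 42496) (.node (nat_lit 42432) (.node (nat_lit 42379) (.leaf (nat_lit 117)) (.leaf (nat_lit 657))) (.node (nat_lit 42491) (.leaf (nat_lit 117)) (.leaf (nat_lit 162)))) (.node (nat_lit 42698) (.node (nat_lit 42681) (.leaf (nat_lit 324)) (.leaf (nat_lit 72))) (.node (nat_lit 42751) (.leaf (nat_lit 119)) (.leaf (nat_lit 72))))) (.node (nat_lit 43038) (.node (nat_lit 42875) (.node (nat_lit 42844) (.leaf (nat_lit 324)) (.leaf (nat_lit 657))) (.node (nat_lit 42990) (.leaf (nat_lit 119)) (.leaf (nat_lit 72)))) (.node (nat_lit 43069) (.node (nat_lit 43039) (.leaf (nat_lit 324)) (.leaf (nat_lit 72))) (.node (nat_lit 43210) (.leaf (nat_lit 3)) (.node (nat_lit 43228) (.leaf (nat_lit 117)) (.leaf (nat_lit 9))))))) (.node (nat_lit 43502) (.node (nat_lit 43353) (.node (nat_lit 43291) (.node (nat_lit 43263) (.leaf (nat_lit 18)) (.leaf (nat_lit 9))) (.node (nat_lit 43328) (.leaf (nat_lit 3)) (.leaf (nat_lit 657))))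 (.node (nat_lit 43388) (.node (nat_lit 43356) (.leaf (nat_lit 3)) (.leaf (nat_lit 162))) (.node (nat_lit 43423) (.leaf (nat_lit 3)) (.node (nat_lit 43437) (.leaf (nat_lit 324)) (.leaf (nat_lit 3)))))) (.node (nat_lit 43551) (.node (nat_lit 43519) (.node (nat_lit 43515) (.leaf (nat_lit 9)) (.leaf (nat_lit 657))) (.node (nat_lit 43550) (.leaf (nat_lit 117)) (.leaf (nat_lit 657)))) (.node (nat_lit 43616) (.node (nat_lit 43568) (.leaf (nat_lit 9)) (.leaf (nat_lit 117))) (.node (nat_lit 43786) (.leaf (nat_lit 72)) (.node (nat_lit 43865) (.leaf (nat_lit 162)) (.leaf (nat_lit 72)))))))) (.node (nat_lit 44638) (.node (nat_lit 44351) (.node (nat_lit 44104) (.node (nat_lit 43935) (.node (nat_lit 43914) (.leaf (nat_lit 324)) (.leaf (nat_lit 72))) (.node (nat_lit 44093) (.leaf (nat_lit 657)) (.leaf (nat_lit 9)))) (.node (nat_lit 44266) (.node (nat_lit 44128) (.leaf (nat_lit 119)) (.leaf (nat_lit 9))) (.node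 (nat_lit 44298) (.leaf (nat_lit 162)) (.node (nat_lit 44315) (.leaf (nat_lit 324)) (.leaf (nat_lit 9)))))) (.node (nat_lit 44415) (.node (nat_lit 44380) (.node (nat_lit 44368) (.leaf (nat_lit 0)) (.leaf (nat_lit 324))) (.node (nat_lit 44412) (.leaf (nat_lit 657)) (.leaf (nat_lit 9)))) (.node (nat_lit 44488) (.node (nat_lit 44461) (.leaf (nat_lit 657)) (.leaf (nat_lit 9))) (.node (nat_lit 44616) (.leaf (nat_lit 162)) (.node (nat_lit 44635) (.leaf (nat_lit 117)) (.leaf (nat_lit 18))))))) (.node (nat_lit 45384) (.node (nat_lit 44880) (.node (nat_lit 44778) (.node (nat_lit 44703) (.leaf (nat_lit 0)) (.leaf (nat_lit 72))) (.node (nat_lit 44872) (.leaf (nat_lit 324)) (.leaf (nat_lit 119)))) (.node (nat_lit 45053) (.node (nat_lit 44990) (.leaf (nat_lit 657)) (.leaf (nat_lit 324))) (.node (nat_lit 45215) (.leaf (nat_lit 119)) (.node (nat_lit 45288) (.leaf (nat_lit 9)) (.leaf (nat_lit 3)))))) (.node (nat_lit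 45600) (.node (nat_lit 45454) (.node (nat_lit 45389) (.leaf (nat_lit 117)) (.leaf (nat_lit 3))) (.node (nat_lit 45502) (.leaf (nat_lit 117)) (.leaf (nat_lit 657)))) (.node (nat_lit 45817) (.node (nat_lit 45800) (.leaf (nat_lit 117)) (.leaf (nat_lit 72))) (.node (nat_lit 45853) (.leaf (nat_lit 119)) (.node (nat_lit 45936) (.leaf (nat_lit 162)) (.leaf (nat_lit 72))))))))) (.node (nat_lit 47580) (.node (nat_lit 46958) (.node (nat_lit 46524) (.node (nat_lit 46329) (.node (nat_lit 46208) (.node (nat_lit 46158) (.leaf (nat_lit 119)) (.leaf (nat_lit 72))) (.node (nat_lit 46237) (.leaf (nat_lit 657)) (.leaf (nat_lit 3)))) (.node (nat_lit 46475) (.node (nat_lit 46413) (.leaf (nat_lit 117)) (.leaf (nat_lit 9))) (.node (nat_lit 46521) (.leaf (nat_lit 162)) (.leaf (nat_lit 3))))) (.node (nat_lit 46687) (.node (nat_lit 46556) (.node (nat_lit 46542) (.leaf (nat_lit 162)) (.leaf (nat_lit 324))) (.node (nat_lit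 46670) (.leaf (nat_lit 3)) (.leaf (nat_lit 9)))) (.node (nat_lit 46877) (.node (nat_lit 46784) (.leaf (nat_lit 117)) (.leaf (nat_lit 72))) (.node (nat_lit 46905) (.leaf (nat_lit 657)) (.node (nat_lit 46908) (.leaf (nat_lit 162)) (.leaf (nat_lit 119))))))) (.node (nat_lit 47385) (.node (nat_lit 47071) (.node (nat_lit 47033) (.node (nat_lit 47022) (.leaf (nat_lit 0)) (.leaf (nat_lit 324))) (.node (nat_lit 47054) (.leaf (nat_lit 72)) (.leaf (nat_lit 657)))) (.node (nat_lit 47261) (.node (nat_lit 47192) (.leaf (nat_lit 324)) (.leaf (nat_lit 119))) (.node (nat_lit 47293) (.leaf (nat_lit 9)) (.node (nat_lit 47324) (.leaf (nat_lit 18)) (.leaf (nat_lit 3)))))) (.node (nat_lit 47434) (.node (nat_lit 47417) (.node (nat_lit 47386) (.leaf (nat_lit 162)) (.leaf (nat_lit 3))) (.node (nat_lit 47421) (.leaf (nat_lit 324)) (.leaf (nat_lit 3)))) (.node (nat_lit 47487) (.node (nat_lit 47470) (.leaf (nat_lit 162))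 (.leaf (nat_lit 0))) (.node (nat_lit 47499) (.leaf (nat_lit 324)) (.node (nat_lit 47552) (.leaf (nat_lit 657)) (.leaf (nat_lit 117)))))))) (.node (nat_lit 48542) (.node (nat_lit 47992) (.node (nat_lit 47853) (.node (nat_lit 47608) (.node (nat_lit 47583) (.leaf (nat_lit 9)) (.leaf (nat_lit 657))) (.node (nat_lit 47704) (.leaf (nat_lit 3)) (.leaf (nat_lit 117)))) (.node (nat_lit 47897) (.node (nat_lit 47871) (.leaf (nat_lit 119)) (.leaf (nat_lit 72))) (.node (nat_lit 47898) (.leaf (nat_lit 324)) (.node (nat_lit 47946) (.leaf (nat_lit 72)) (.leaf (nat_lit 324)))))) (.node (nat_lit 48348) (.node (nat_lit 48120) (.node (nat_lit 47999) (.leaf (nat_lit 162)) (.leaf (nat_lit 657))) (.node (nat_lit 48158) (.leaf (nat_lit 72)) (.leaf (nat_lit 324)))) (.node (nat_lit 48383) (.node (nat_lit 48376) (.leaf (nat_lit 9)) (.leaf (nat_lit 3))) (.node (nat_lit 48504) (.leaf (nat_lit 9)) (.node (nat_lit 48508) (.leaf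 (nat_lit 324)) (.leaf (nat_lit 3))))))) (.node (nat_lit 49248) (.node (nat_lit 48736) (.node (nat_lit 48668) (.node (nat_lit 48557) (.leaf (nat_lit 117)) (.leaf (nat_lit 3))) (.node (nat_lit 48670) (.leaf (nat_lit 18)) (.leaf (nat_lit 657)))) (.node (nat_lit 48958) (.node (nat_lit 48941) (.leaf (nat_lit 72)) (.leaf (nat_lit 162))) (.node (nat_lit 49023) (.leaf (nat_lit 72)) (.node (nat_lit 49055) (.leaf (nat_lit 324)) (.leaf (nat_lit 72)))))) (.node (nat_lit 49470) (.node (nat_lit 49296) (.node (nat_lit 49259) (.leaf (nat_lit 9)) (.leaf (nat_lit 119))) (.node (nat_lit 49386) (.leaf (nat_lit 657)) (.leaf (nat_lit 162)))) (.node (nat_lit 49567) (.node (nat_lit 49535) (.leaf (nat_lit 9)) (.leaf (nat_lit 657))) (.node (nat_lit 49613) (.leaf (nat_lit 9)) (.node (nat_lit 49616) (.leaf (nat_lit 18)) (.leaf (nat_lit 9)))))))))) (.node (nat_lit 53503) (.node (nat_lit 51930) (.node (nat_lit 50991) (.node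 (nat_lit 50381) (.node (nat_lit 49965) (.node (nat_lit 49850) (.node (nat_lit 49790) (.leaf (nat_lit 162)) (.leaf (nat_lit 0))) (.node (nat_lit 49898) (.leaf (nat_lit 119)) (.leaf (nat_lit 324)))) (.node (nat_lit 50190) (.node (nat_lit 50027) (.leaf (nat_lit 657)) (.leaf (nat_lit 119))) (.node (nat_lit 50362) (.leaf (nat_lit 324)) (.leaf (nat_lit 117))))) (.node (nat_lit 50554) (.node (nat_lit 50445) (.node (nat_lit 50443) (.leaf (nat_lit 18)) (.leaf (nat_lit 3))) (.node (nat_lit 50553) (.leaf (nat_lit 657)) (.leaf (nat_lit 162)))) (.node (nat_lit 50720) (.node (nat_lit 50667) (.leaf (nat_lit 3)) (.leaf (nat_lit 657))) (.node (nat_lit 50938) (.leaf (nat_lit 117)) (.node (nat_lit 50972) (.leaf (nat_lit 162)) (.leaf (nat_lit 119))))))) (.node (nat_lit 51520) (.node (nat_lit 51160) (.node (nat_lit 51065) (.node (nat_lit 51056) (.leaf (nat_lit 162)) (.leaf (nat_lit 72))) (.node (nat_lit 51066) (.leaf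 (nat_lit 324)) (.leaf (nat_lit 72)))) (.node (nat_lit 51418) (.node (nat_lit 51225) (.leaf (nat_lit 162)) (.leaf (nat_lit 119))) (.node (nat_lit 51450) (.leaf (nat_lit 162)) (.node (nat_lit 51467) (.leaf (nat_lit 324)) (.leaf (nat_lit 9)))))) (.node (nat_lit 51676) (.node (nat_lit 51641) (.node (nat_lit 51568) (.leaf (nat_lit 324)) (.leaf (nat_lit 9))) (.node (nat_lit 51672) (.leaf (nat_lit 3)) (.leaf (nat_lit 324)))) (.node (nat_lit 51787) (.node (nat_lit 51737) (.leaf (nat_lit 3)) (.leaf (nat_lit 117))) (.node (nat_lit 51807) (.leaf (nat_lit 18)) (.node (nat_lit 51904) (.leaf (nat_lit 117)) (.leaf (nat_lit 72)))))))) (.node (nat_lit 52589) (.node (nat_lit 52347) (.node (nat_lit 52142) (.node (nat_lit 52032) (.node (nat_lit 52025) (.leaf (nat_lit 324)) (.leaf (nat_lit 162))) (.node (nat_lit 52060) (.leaf (nat_lit 657)) (.leaf (nat_lit 162)))) (.node (nat_lit 52170) (.node (nat_lit 52153) (.leaf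 (nat_lit 324)) (.leaf (nat_lit 72))) (.node (nat_lit 52191) (.leaf (nat_lit 119)) (.node (nat_lit 52223) (.leaf (nat_lit 324)) (.leaf (nat_lit 72)))))) (.node (nat_lit 52537) (.node (nat_lit 52416) (.node (nat_lit 52409) (.leaf (nat_lit 119)) (.leaf (nat_lit 3))) (.node (nat_lit 52505) (.leaf (nat_lit 9)) (.leaf (nat_lit 162)))) (.node (nat_lit 52541) (.node (nat_lit 52540) (.leaf (nat_lit 324)) (.leaf (nat_lit 162))) (.node (nat_lit 52554) (.leaf (nat_lit 3)) (.node (nat_lit 52575) (.leaf (nat_lit 162)) (.leaf (nat_lit 117))))))) (.node (nat_lit 52938) (.node (nat_lit 52703) (.node (nat_lit 52682) (.node (nat_lit 52654) (.leaf (nat_lit 162)) (.leaf (nat_lit 657))) (.node (nat_lit 52700) (.leaf (nat_lit 117)) (.leaf (nat_lit 9)))) (.node (nat_lit 52735) (.node (nat_lit 52732) (.leaf (nat_lit 657)) (.leaf (nat_lit 18))) (.node (nat_lit 52763) (.leaf (nat_lit 9)) (.node (nat_lit 52921) (.leaf (nat_lit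 3)) (.leaf (nat_lit 72)))))) (.node (nat_lit 53088) (.node (nat_lit 53017) (.node (nat_lit 52991) (.leaf (nat_lit 119)) (.leaf (nat_lit 72))) (.node (nat_lit 53084) (.leaf (nat_lit 324)) (.leaf (nat_lit 657)))) (.node (nat_lit 53354) (.node (nat_lit 53112) (.leaf (nat_lit 72)) (.leaf (nat_lit 162))) (.node (nat_lit 53450) (.leaf (nat_lit 3)) (.node (nat_lit 53500) (.leaf (nat_lit 117)) (.leaf (nat_lit 18))))))))) (.node (nat_lit 55709) (.node (nat_lit 54687) (.node (nat_lit 53866) (.node (nat_lit 53565) (.node (nat_lit 53531) (.node (nat_lit 53520) (.leaf (nat_lit 9)) (.leaf (nat_lit 117))) (.node (nat_lit 53564) (.leaf (nat_lit 3)) (.leaf (nat_lit 657)))) (.node (nat_lit 53624) (.node (nat_lit 53613) (.leaf (nat_lit 9)) (.leaf (nat_lit 657))) (.node (nat_lit 53787) (.leaf (nat_lit 324)) (.node (nat_lit 53823) (.leaf (nat_lit 9)) (.leaf (nat_lit 0)))))) (.node (nat_lit 54344) (.node (nat_lit 54171)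 (.node (nat_lit 54110) (.leaf (nat_lit 72)) (.leaf (nat_lit 0))) (.node (nat_lit 54175) (.leaf (nat_lit 657)) (.leaf (nat_lit 72)))) (.node (nat_lit 54555) (.node (nat_lit 54541) (.leaf (nat_lit 119)) (.leaf (nat_lit 162))) (.node (nat_lit 54586) (.leaf (nat_lit 9)) (.node (nat_lit 54608) (.leaf (nat_lit 162)) (.leaf (nat_lit 324))))))) (.node (nat_lit 55310) (.node (nat_lit 55088) (.node (nat_lit 54856) (.node (nat_lit 54760) (.leaf (nat_lit 9)) (.leaf (nat_lit 3))) (.node (nat_lit 55005) (.leaf (nat_lit 117)) (.leaf (nat_lit 119)))) (.node (nat_lit 55144) (.node (nat_lit 55120) (.leaf (nat_lit 324)) (.leaf (nat_lit 657))) (.node (nat_lit 55272) (.leaf (nat_lit 162)) (.node (nat_lit 55289) (.leaf (nat_lit 72)) (.leaf (nat_lit 119)))))) (.node (nat_lit 55656) (.node (nat_lit 55536) (.node (nat_lit 55528) (.leaf (nat_lit 324)) (.leaf (nat_lit 3))) (.node (nat_lit 55565) (.leaf (nat_lit 0)) (.leaf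 (nat_lit 657)))) (.node (nat_lit 55694) (.node (nat_lit 55673) (.leaf (nat_lit 324)) (.leaf (nat_lit 162))) (.node (nat_lit 55705) (.leaf (nat_lit 117)) (.node (nat_lit 55708) (.leaf (nat_lit 324)) (.leaf (nat_lit 162)))))))) (.node (nat_lit 56639) (.node (nat_lit 56256) (.node (nat_lit 56040) (.node (nat_lit 55822) (.node (nat_lit 55801) (.leaf (nat_lit 3)) (.leaf (nat_lit 117))) (.node (nat_lit 55823) (.leaf (nat_lit 657)) (.leaf (nat_lit 162)))) (.node (nat_lit 56093) (.node (nat_lit 56057) (.leaf (nat_lit 72)) (.leaf (nat_lit 119))) (.node (nat_lit 56110) (.leaf (nat_lit 162)) (.node (nat_lit 56185) (.leaf (nat_lit 72)) (.leaf (nat_lit 324)))))) (.node (nat_lit 56473) (.node (nat_lit 56380) (.node (nat_lit 56280) (.leaf (nat_lit 72)) (.leaf (nat_lit 162))) (.node (nat_lit 56448) (.leaf (nat_lit 119)) (.leaf (nat_lit 657)))) (.node (nat_lit 56569) (.node (nat_lit 56538) (.leaf (nat_lit 3)) (.leaf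 (nat_lit 162))) (.node (nat_lit 56573) (.leaf (nat_lit 117)) (.node (nat_lit 56622) (.leaf (nat_lit 162)) (.leaf (nat_lit 9))))))) (.node (nat_lit 56985) (.node (nat_lit 56765) (.node (nat_lit 56733) (.node (nat_lit 56732) (.leaf (nat_lit 117)) (.leaf (nat_lit 657))) (.node (nat_lit 56760) (.leaf (nat_lit 9)) (.leaf (nat_lit 162)))) (.node (nat_lit 56792) (.node (nat_lit 56768) (.leaf (nat_lit 18)) (.leaf (nat_lit 9))) (.node (nat_lit 56796) (.leaf (nat_lit 324)) (.node (nat_lit 56942) (.leaf (nat_lit 3)) (.leaf (nat_lit 0)))))) (.node (nat_lit 57145) (.node (nat_lit 57117) (.node (nat_lit 57050) (.leaf (nat_lit 72)) (.leaf (nat_lit 324))) (.node (nat_lit 57144) (.leaf (nat_lit 657)) (.leaf (nat_lit 119)))) (.node (nat_lit 57325) (.node (nat_lit 57272) (.leaf (nat_lit 162)) (.leaf (nat_lit 324))) (.node (nat_lit 57339) (.leaf (nat_lit 119)) (.node (nat_lit 57343) (.leaf (nat_lit 657)) (.leaf (nat_lit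 72)))))))))))))
noncomputable def KK2_soc_t1 : ST := (.node (nat_lit 4971) (.node (nat_lit 2465) (.node (nat_lit 1175) (.node (nat_lit 736) (.node (nat_lit 504) (.node (nat_lit 450) (.node (nat_lit 435) (.leaf (nat_lit 648)) (.node (nat_lit 445) (.leaf (nat_lit 324)) (.leaf (nat_lit 648)))) (.node (nat_lit 489) (.node (nat_lit 466) (.leaf (nat_lit 324)) (.leaf (nat_lit 648))) (.node (nat_lit 496) (.leaf (nat_lit 324)) (.leaf (nat_lit 648))))) (.node (nat_lit 687) (.node (nat_lit 520) (.leaf (nat_lit 324)) (.node (nat_lit 675) (.leaf (nat_lit 648)) (.leaf (nat_lit 324)))) (.node (nat_lit 721) (.node (nat_lit 705) (.leaf (nat_lit 648)) (.leaf (nat_lit 324))) (.node (nat_lit 729) (.leaf (nat_lit 648)) (.leaf (nat_lit 324)))))) (.node (nat_lit 950) (.node (nat_lit 930) (.node (nat_lit 759) (.leaf (nat_lit 648)) (.node (nat_lit 770) (.leaf (nat_lit 324)) (.leaf (nat_lit 648)))) (.node (nat_lit 935)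 (.node (nat_lit 932) (.leaf (nat_lit 324)) (.leaf (nat_lit 648))) (.node (nat_lit 945) (.leaf (nat_lit 162)) (.leaf (nat_lit 324))))) (.node (nat_lit 995) (.node (nat_lit 984) (.leaf (nat_lit 0)) (.node (nat_lit 989) (.leaf (nat_lit 324)) (.leaf (nat_lit 162)))) (.node (nat_lit 1004) (.node (nat_lit 999) (.leaf (nat_lit 648)) (.leaf (nat_lit 324))) (.node (nat_lit 1005) (.leaf (nat_lit 162)) (.leaf (nat_lit 648))))))) (.node (nat_lit 2165) (.node (nat_lit 1430) (.node (nat_lit 1229) (.node (nat_lit 1187) (.leaf (nat_lit 0)) (.node (nat_lit 1205) (.leaf (nat_lit 648)) (.leaf (nat_lit 1)))) (.node (nat_lit 1259) (.node (nat_lit 1245) (.leaf (nat_lit 162)) (.leaf (nat_lit 648))) (.node (nat_lit 1265) (.leaf (nat_lit 54)) (.leaf (nat_lit 648))))) (.node (nat_lit 1498) (.node (nat_lit 1483) (.leaf (nat_lit 162)) (.node (nat_lit 1484) (.leaf (nat_lit 648)) (.leaf (nat_lit 162)))) (.node (nat_lit 1500)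 (.node (nat_lit 1499) (.leaf (nat_lit 648)) (.leaf (nat_lit 54))) (.node (nat_lit 2141) (.leaf (nat_lit 648)) (.leaf (nat_lit 324)))))) (.node (nat_lit 2406) (.node (nat_lit 2381) (.node (nat_lit 2195) (.leaf (nat_lit 648)) (.node (nat_lit 2219) (.leaf (nat_lit 324)) (.leaf (nat_lit 648)))) (.node (nat_lit 2391) (.node (nat_lit 2390) (.leaf (nat_lit 324)) (.leaf (nat_lit 648))) (.node (nat_lit 2395) (.leaf (nat_lit 324)) (.leaf (nat_lit 648))))) (.node (nat_lit 2445) (.node (nat_lit 2411) (.node (nat_lit 2410) (.leaf (nat_lit 324)) (.leaf (nat_lit 648))) (.node (nat_lit 2444) (.leaf (nat_lit 324)) (.leaf (nat_lit 648)))) (.node (nat_lit 2460) (.node (nat_lit 2449) (.leaf (nat_lit 324)) (.leaf (nat_lit 648))) (.node (nat_lit 2464) (.leaf (nat_lit 324)) (.leaf (nat_lit 648)))))))) (.node (nat_lit 3183) (.node (nat_lit 2901) (.node (nat_lit 2688) (.node (nat_lit 2635) (.node (nat_lit 2473) (.leaf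 (nat_lit 324)) (.node (nat_lit 2631) (.leaf (nat_lit 648)) (.leaf (nat_lit 324)))) (.node (nat_lit 2665) (.node (nat_lit 2636) (.leaf (nat_lit 648)) (.leaf (nat_lit 324))) (.node (nat_lit 2685) (.leaf (nat_lit 648)) (.leaf (nat_lit 324))))) (.node (nat_lit 2743) (.node (nat_lit 2690) (.leaf (nat_lit 648)) (.node (nat_lit 2719) (.leaf (nat_lit 324)) (.leaf (nat_lit 648)))) (.node (nat_lit 2886) (.node (nat_lit 2752) (.leaf (nat_lit 0)) (.leaf (nat_lit 648))) (.node (nat_lit 2890) (.leaf (nat_lit 324)) (.leaf (nat_lit 648)))))) (.node (nat_lit 2943) (.node (nat_lit 2923) (.node (nat_lit 2905) (.leaf (nat_lit 324)) (.node (nat_lit 2920) (.leaf (nat_lit 648)) (.leaf (nat_lit 324)))) (.node (nat_lit 2938) (.node (nat_lit 2935) (.leaf (nat_lit 648)) (.leaf (nat_lit 324))) (.node (nat_lit 2940) (.leaf (nat_lit 648)) (.leaf (nat_lit 324))))) (.node (nat_lit 3007) (.node (nat_lit 2959) (.node (nat_lit 2955)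 (.leaf (nat_lit 648)) (.leaf (nat_lit 324))) (.node (nat_lit 2974) (.leaf (nat_lit 648)) (.leaf (nat_lit 324)))) (.node (nat_lit 3163) (.node (nat_lit 3160) (.leaf (nat_lit 648)) (.leaf (nat_lit 324))) (.node (nat_lit 3170) (.leaf (nat_lit 648)) (.leaf (nat_lit 324))))))) (.node (nat_lit 3526) (.node (nat_lit 3430) (.node (nat_lit 3214) (.node (nat_lit 3185) (.leaf (nat_lit 648)) (.node (nat_lit 3193) (.leaf (nat_lit 324)) (.leaf (nat_lit 648)))) (.node (nat_lit 3410) (.node (nat_lit 3271) (.leaf (nat_lit 324)) (.leaf (nat_lit 648))) (.node (nat_lit 3418) (.leaf (nat_lit 324)) (.leaf (nat_lit 648))))) (.node (nat_lit 3452) (.node (nat_lit 3433) (.leaf (nat_lit 324)) (.node (nat_lit 3440) (.leaf (nat_lit 648)) (.leaf (nat_lit 324)))) (.node (nat_lit 3467) (.node (nat_lit 3464) (.leaf (nat_lit 648)) (.leaf (nat_lit 324))) (.node (nat_lit 3469) (.leaf (nat_lit 648)) (.leaf (nat_lit 324)))))) (.node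 (nat_lit 3734) (.node (nat_lit 3680) (.node (nat_lit 3665) (.leaf (nat_lit 648)) (.node (nat_lit 3670) (.leaf (nat_lit 324)) (.leaf (nat_lit 648)))) (.node (nat_lit 3719) (.node (nat_lit 3688) (.leaf (nat_lit 324)) (.leaf (nat_lit 648))) (.node (nat_lit 3722) (.leaf (nat_lit 324)) (.leaf (nat_lit 648))))) (.node (nat_lit 4917) (.node (nat_lit 3879) (.node (nat_lit 3743) (.leaf (nat_lit 324)) (.leaf (nat_lit 648))) (.node (nat_lit 3895) (.leaf (nat_lit 0)) (.leaf (nat_lit 648)))) (.node (nat_lit 4932) (.node (nat_lit 4924) (.leaf (nat_lit 324)) (.leaf (nat_lit 648))) (.node (nat_lit 4936) (.leaf (nat_lit 324)) (.leaf (nat_lit 648))))))))) (.node (nat_lit 6206) (.node (nat_lit 5482) (.node (nat_lit 5221) (.node (nat_lit 5169) (.node (nat_lit 4987) (.node (nat_lit 4978) (.leaf (nat_lit 324)) (.node (nat_lit 4986) (.leaf (nat_lit 648)) (.leaf (nat_lit 324)))) (.node (nat_lit 5164) (.node (nat_lit 5157)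 (.leaf (nat_lit 648)) (.leaf (nat_lit 324))) (.node (nat_lit 5167) (.leaf (nat_lit 648)) (.leaf (nat_lit 162))))) (.node (nat_lit 5187) (.node (nat_lit 5182) (.leaf (nat_lit 648)) (.node (nat_lit 5186) (.leaf (nat_lit 162)) (.leaf (nat_lit 648)))) (.node (nat_lit 5211) (.node (nat_lit 5191) (.leaf (nat_lit 324)) (.leaf (nat_lit 648))) (.node (nat_lit 5216) (.leaf (nat_lit 324)) (.leaf (nat_lit 648)))))) (.node (nat_lit 5408) (.node (nat_lit 5240) (.node (nat_lit 5227) (.leaf (nat_lit 162)) (.node (nat_lit 5236) (.leaf (nat_lit 648)) (.leaf (nat_lit 162)))) (.node (nat_lit 5245) (.node (nat_lit 5241) (.leaf (nat_lit 648)) (.leaf (nat_lit 324))) (.node (nat_lit 5407) (.leaf (nat_lit 648)) (.leaf (nat_lit 162))))) (.node (nat_lit 5437) (.node (nat_lit 5419) (.node (nat_lit 5412) (.leaf (nat_lit 648)) (.leaf (nat_lit 324))) (.node (nat_lit 5427) (.leaf (nat_lit 648)) (.leaf (nat_lit 0)))) (.node (nat_lit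 5461) (.node (nat_lit 5441) (.leaf (nat_lit 9)) (.leaf (nat_lit 648))) (.node (nat_lit 5466) (.leaf (nat_lit 162)) (.leaf (nat_lit 324))))))) (.node (nat_lit 5781) (.node (nat_lit 5696) (.node (nat_lit 5662) (.node (nat_lit 5491) (.leaf (nat_lit 648)) (.node (nat_lit 5495) (.leaf (nat_lit 54)) (.leaf (nat_lit 648)))) (.node (nat_lit 5677) (.node (nat_lit 5673) (.leaf (nat_lit 162)) (.leaf (nat_lit 648))) (.node (nat_lit 5678) (.leaf (nat_lit 9)) (.leaf (nat_lit 648))))) (.node (nat_lit 5731) (.node (nat_lit 5716) (.leaf (nat_lit 324)) (.node (nat_lit 5727) (.leaf (nat_lit 162)) (.leaf (nat_lit 648)))) (.node (nat_lit 5757) (.node (nat_lit 5750) (.leaf (nat_lit 54)) (.leaf (nat_lit 324))) (.node (nat_lit 5765) (.leaf (nat_lit 648)) (.leaf (nat_lit 324)))))) (.node (nat_lit 5990) (.node (nat_lit 5946) (.node (nat_lit 5936) (.leaf (nat_lit 648)) (.node (nat_lit 5943) (.leaf (nat_lit 324)) (.leaf (nat_lit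 648)))) (.node (nat_lit 5961) (.node (nat_lit 5948) (.leaf (nat_lit 324)) (.leaf (nat_lit 648))) (.node (nat_lit 5982) (.leaf (nat_lit 324)) (.leaf (nat_lit 648))))) (.node (nat_lit 6186) (.node (nat_lit 6000) (.node (nat_lit 5997) (.leaf (nat_lit 324)) (.leaf (nat_lit 648))) (.node (nat_lit 6035) (.leaf (nat_lit 324)) (.leaf (nat_lit 648)))) (.node (nat_lit 6191) (.node (nat_lit 6188) (.leaf (nat_lit 324)) (.leaf (nat_lit 648))) (.node (nat_lit 6198) (.leaf (nat_lit 324)) (.leaf (nat_lit 648)))))))) (.node (nat_lit 7480) (.node (nat_lit 7152) (.node (nat_lit 6446) (.node (nat_lit 6230) (.node (nat_lit 6215) (.leaf (nat_lit 0)) (.node (nat_lit 6216) (.leaf (nat_lit 648)) (.leaf (nat_lit 324)))) (.node (nat_lit 6275) (.node (nat_lit 6240) (.leaf (nat_lit 648)) (.leaf (nat_lit 324))) (.node (nat_lit 6441) (.leaf (nat_lit 648)) (.leaf (nat_lit 324))))) (.node (nat_lit 6495) (.node (nat_lit 6456) (.leaf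 (nat_lit 648)) (.node (nat_lit 6465) (.leaf (nat_lit 324)) (.leaf (nat_lit 648)))) (.node (nat_lit 6510) (.node (nat_lit 6509) (.leaf (nat_lit 324)) (.leaf (nat_lit 648))) (.node (nat_lit 6525) (.leaf (nat_lit 324)) (.leaf (nat_lit 648)))))) (.node (nat_lit 7225) (.node (nat_lit 7171) (.node (nat_lit 7156) (.leaf (nat_lit 324)) (.node (nat_lit 7167) (.leaf (nat_lit 648)) (.leaf (nat_lit 324)))) (.node (nat_lit 7210) (.node (nat_lit 7206) (.leaf (nat_lit 648)) (.leaf (nat_lit 324))) (.node (nat_lit 7221) (.leaf (nat_lit 648)) (.leaf (nat_lit 324))))) (.node (nat_lit 7426) (.node (nat_lit 7396) (.node (nat_lit 7392) (.leaf (nat_lit 648)) (.leaf (nat_lit 324))) (.node (nat_lit 7422) (.leaf (nat_lit 648)) (.leaf (nat_lit 324)))) (.node (nat_lit 7450) (.node (nat_lit 7446) (.leaf (nat_lit 648)) (.leaf (nat_lit 324))) (.node (nat_lit 7476) (.leaf (nat_lit 648)) (.leaf (nat_lit 324))))))) (.node (nat_lit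 7730) (.node (nat_lit 7667) (.node (nat_lit 7652) (.node (nat_lit 7647) (.leaf (nat_lit 648)) (.node (nat_lit 7651) (.leaf (nat_lit 324)) (.leaf (nat_lit 648)))) (.node (nat_lit 7662) (.node (nat_lit 7655) (.leaf (nat_lit 324)) (.leaf (nat_lit 648))) (.node (nat_lit 7666) (.leaf (nat_lit 324)) (.leaf (nat_lit 648))))) (.node (nat_lit 7705) (.node (nat_lit 7670) (.leaf (nat_lit 324)) (.node (nat_lit 7701) (.leaf (nat_lit 648)) (.leaf (nat_lit 324)))) (.node (nat_lit 7720) (.node (nat_lit 7706) (.leaf (nat_lit 648)) (.leaf (nat_lit 324))) (.node (nat_lit 7721) (.leaf (nat_lit 648)) (.leaf (nat_lit 324)))))) (.node (nat_lit 7976) (.node (nat_lit 7922) (.node (nat_lit 7892) (.leaf (nat_lit 648)) (.node (nat_lit 7895) (.leaf (nat_lit 324)) (.leaf (nat_lit 648)))) (.node (nat_lit 7946) (.node (nat_lit 7924) (.leaf (nat_lit 324)) (.leaf (nat_lit 648))) (.node (nat_lit 7954) (.leaf (nat_lit 324)) (.leaf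 (nat_lit 648))))) (.node (nat_lit 8162) (.node (nat_lit 8147) (.node (nat_lit 8032) (.leaf (nat_lit 324)) (.leaf (nat_lit 648))) (.node (nat_lit 8150) (.leaf (nat_lit 324)) (.leaf (nat_lit 648)))) (.node (nat_lit 8201) (.node (nat_lit 8165) (.leaf (nat_lit 324)) (.leaf (nat_lit 648))) (.node (nat_lit 8225) (.leaf (nat_lit 324)) (.leaf (nat_lit 648))))))))))
noncomputable def KK2_soc_F : Fm := (.all KK2_L (.or (.qf (.eq (.v (nat_lit 0)) .one)) (.exF KK2_L (fun cs => KK2_soc_t1.find (Nat.mod (nth (nat_lit 0) cs (nat_lit 0)) (nat_lit 9493))) (.exF KK2_L (fun cs => KK2_soc_t0.find (Nat.mod (Nat.add (nth (nat_lit 0) cs (nat_lit 0)) (Nat.mul (nat_lit 7919) (nth (nat_lit 0) cs (nat_lit 1)))) (nat_lit 57376))) (.qf (.or (.eq (.mul (.mul (.v (nat_lit 0)) (.v (nat_lit 2))) (.inv (.v (nat_lit 0)))) (.v (nat_lit 7))) (.or (.eq (.mul (.mul (.v (nat_lit 0)) (.v (nat_lit 2))) (.inv (.v (nat_lit 0)))) (.mul (.mul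 (.v (nat_lit 5)) (.v (nat_lit 7))) (.inv (.v (nat_lit 5))))) (.or (.eq (.mul (.mul (.v (nat_lit 0)) (.mul (.mul (.mul (.v (nat_lit 2)) (.v (nat_lit 1))) (.inv (.v (nat_lit 2)))) (.inv (.v (nat_lit 1))))) (.inv (.v (nat_lit 0)))) (.v (nat_lit 7))) (.or (.eq (.mul (.mul (.v (nat_lit 0)) (.mul (.mul (.mul (.v (nat_lit 2)) (.v (nat_lit 1))) (.inv (.v (nat_lit 2)))) (.inv (.v (nat_lit 1))))) (.inv (.v (nat_lit 0)))) (.mul (.mul (.v (nat_lit 5)) (.v (nat_lit 7))) (.inv (.v (nat_lit 5))))) (.or (.eq (.mul (.mul (.mul (.mul (.mul (.mul (.v (nat_lit 2)) (.v (nat_lit 1))) (.inv (.v (nat_lit 2)))) (.inv (.v (nat_lit 1)))) (.v (nat_lit 0))) (.inv (.mul (.mul (.mul (.v (nat_lit 2)) (.v (nat_lit 1))) (.inv (.v (nat_lit 2)))) (.inv (.v (nat_lit 1)))))) (.inv (.v (nat_lit 0)))) (.v (nat_lit 7))) (.eq (.mul (.mul (.mul (.mul (.mul (.mul (.v (nat_lit 2)) (.v (nat_lit 1))) (.inv (.v (nat_lit 2)))) (.inv (.v (nat_lit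 1)))) (.v (nat_lit 0))) (.inv (.mul (.mul (.mul (.v (nat_lit 2)) (.v (nat_lit 1))) (.inv (.v (nat_lit 2)))) (.inv (.v (nat_lit 1)))))) (.inv (.v (nat_lit 0)))) (.mul (.mul (.v (nat_lit 5)) (.v (nat_lit 7))) (.inv (.v (nat_lit 5)))))))))))))))
theorem KK2_soc_chk : Fm.chk KK2_o KK2_soc_F KK2_cs = true := by decide +kernel
theorem KK2_soc {G : Type*} [Group G] {R : ℕ → G → Prop} {s u v v_i w w_i e e_i f f_i : G} {H : Subgroup G}
    (M : Mdl KK2_o KK2_cs KK2_L R [s, u, v, v_i, w, w_i, e, e_i, f, f_i] H) :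
    ∀ y_ ∈ H, y_ = 1 ∨ (∃ q_ ∈ H, ∃ k_ ∈ H, k_ * y_ * k_⁻¹ = w ∨ k_ * y_ * k_⁻¹ = v * w * v⁻¹ ∨ k_ * ⁅y_, q_⁆ * k_⁻¹ = w ∨ k_ * ⁅y_, q_⁆ * k_⁻¹ = v * w * v⁻¹ ∨ ⁅⁅y_, q_⁆, k_⁆ = w ∨ ⁅⁅y_, q_⁆, k_⁆ = v * w * v⁻¹) :=
  have h : ∀ y_, InL KK2_o R KK2_L y_ → y_ = 1 ∨ (Good KK2_o R KK2_L → prods KK2_o KK2_L KK2_o.one ≠ [] → ∃ q_, InL KK2_o R KK2_L q_ ∧ (Good KK2_o R KK2_L → prods KK2_o KK2_L KK2_o.one ≠ [] → ∃ k_, InL KK2_o R KK2_L k_ ∧ (k_ * y_ * k_⁻¹ = w ∨ k_ * y_ * k_⁻¹ = v * w * v⁻¹ ∨ k_ * ⁅y_, q_⁆ * k_⁻¹ = w ∨ k_ * ⁅y_, q_⁆ * k_⁻¹ = v * w * v⁻¹ ∨ ⁅⁅y_, q_⁆, k_⁆ = w ∨ ⁅⁅y_, q_⁆, k_⁆ = v * w * v⁻¹))) :=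
    Fm.sound M.μ KK2_soc_F KK2_soc_chk M.reps
  (fun y_ h0 => (Or.imp (fun h1 => h1) (fun h1 => (Exists.imp (fun q_ h2 => ⟨M.H.iff.1 h2.1, (Exists.imp (fun k_ h3 => ⟨M.H.iff.1 h3.1, h3.2⟩) (h2.2 M.H.good M.H.ne))⟩) (h1 M.H.good M.H.ne))) (h y_ (M.H.iff.2 h0))))
theorem KK2_mdl {G : Type*} [Group G] {s u v w e f : G}
    (h : KR w e f v s u)
    (r : U1 f v u)
    (n1 : w ≠ 1) (n2 : v * w * v⁻¹ ≠ 1) :
    ∃ R, Mdl KK2_o KK2_cs KK2_L R [s, u, v, v⁻¹, w, w⁻¹, e, e⁻¹, f, f⁻¹] (sp [s, u, v, v⁻¹, w, w⁻¹, e, e⁻¹, f, f⁻¹]) ∧ #(sp [s, u, v, v⁻¹, w, w⁻¹, e, e⁻¹, f, f⁻¹]) = 1296 :=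
  mdl_of KK2_P rfl (KK2_r h r) (.v (nat_lit 4)) (.mul (.mul (.v (nat_lit 2)) (.v (nat_lit 4))) (.inv (.v (nat_lit 2)))) n1 n2
    fun _ ms _ M hl => match ms, M, (hl : ms.length = 10) with
      | [_, _, _, _, _, _, _, _, _, _], M, _ => KK2_soc M
noncomputable def KK2x_cs : List ℕ := [(nat_lit 0x876543120), (nat_lit 0x543876210), (nat_lit 0x210876543), (nat_lit 0x543210876), (nat_lit 0x876543021), (nat_lit 0x876543102), (nat_lit 0x687354210), (nat_lit 0x768435210), (nat_lit 0x768354210), (nat_lit 0x687435210), (nat_lit 0x687354021), (nat_lit 0x876354210), (nat_lit 0x687543210), (nat_lit 0x876453210), (nat_lit 0x786543210), (nat_lit 0x786453120)]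
theorem KK2x_ext {G : Type*} [Group G] {R : ℕ → G → Prop} {s u v w e f : G} {H : Subgroup G}
    (M : Mdl KK2_o KK2_cs KK2_L R [s, u, v, v⁻¹, w, w⁻¹, e, e⁻¹, f, f⁻¹] H) :
    Mdl KK2_o KK2x_cs KK2_L R [s, u, v, v⁻¹, w, w⁻¹, e, e⁻¹, f, f⁻¹, w * e, (e * f)⁻¹, e⁻¹ * f, v * s * v⁻¹, v⁻¹ * s * v, (s * v) ^ 3] H :=
  ⟨M.μ, M.reps.tms M.μ.1 [(.v (nat_lit 0)), (.v (nat_lit 1)), (.v (nat_lit 2)), (.v (nat_lit 3)), (.v (nat_lit 4)), (.v (nat_lit 5)), (.v (nat_lit 6)), (.v (nat_lit 7)), (.v (nat_lit 8)), (.v (nat_lit 9)), (.mul (.v (nat_lit 4)) (.v (nat_lit 6))), (.inv (.mul (.v (nat_lit 6)) (.v (nat_lit 8)))), (.mul (.inv (.v (nat_lit 6))) (.v (nat_lit 8))), (.mul (.mul (.v (nat_lit 2)) (.v (nat_lit 0))) (.inv (.v (nat_lit 2)))), (.mul (.mul (.inv (.v (nat_lit 2))) (.v (nat_lit 0))) (.v (nat_lit 2))), (.pw (.mul (.v (nat_lit 0)) (.v (nat_lit 2))) (nat_lit 3))] (cs' := KK2x_cs) (by decide +kernel),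
    tms_mem M.le [(.v (nat_lit 0)), (.v (nat_lit 1)), (.v (nat_lit 2)), (.v (nat_lit 3)), (.v (nat_lit 4)), (.v (nat_lit 5)), (.v (nat_lit 6)), (.v (nat_lit 7)), (.v (nat_lit 8)), (.v (nat_lit 9)), (.mul (.v (nat_lit 4)) (.v (nat_lit 6))), (.inv (.mul (.v (nat_lit 6)) (.v (nat_lit 8)))), (.mul (.inv (.v (nat_lit 6))) (.v (nat_lit 8))), (.mul (.mul (.v (nat_lit 2)) (.v (nat_lit 0))) (.inv (.v (nat_lit 2)))), (.mul (.mul (.inv (.v (nat_lit 2))) (.v (nat_lit 0))) (.v (nat_lit 2))), (.pw (.mul (.v (nat_lit 0)) (.v (nat_lit 2))) (nat_lit 3))], M.H⟩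
noncomputable def KK1x_df_F : Fm := (.qf (.and (.eq (.v (nat_lit 10)) (.mul (.v (nat_lit 4)) (.v (nat_lit 6)))) (.and (.eq (.v (nat_lit 11)) (.inv (.mul (.v (nat_lit 6)) (.v (nat_lit 8))))) (.and (.eq (.v (nat_lit 12)) (.mul (.inv (.v (nat_lit 6))) (.v (nat_lit 8)))) (.and (.eq (.v (nat_lit 13)) (.mul (.mul (.v (nat_lit 2)) (.v (nat_lit 0))) (.inv (.v (nat_lit 2))))) (.and (.eq (.v (nat_lit 14)) (.mul (.mul (.inv (.v (nat_lit 2))) (.v (nat_lit 0))) (.v (nat_lit 2)))) (.eq (.v (nat_lit 15)) (.pw (.mul (.v (nat_lit 0)) (.v (nat_lit 2))) (nat_lit 3)))))))))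
theorem KK1x_df_chk : Fm.chk KK1_o KK1x_df_F KK1x_cs = true := by decide +kernel
theorem KK1x_df {G : Type*} [Group G] {R : ℕ → G → Prop} {s u v w e f z d2 d3 s2 s3 s0 : G} {H : Subgroup G}
    (M : Mdl KK1_o KK1x_cs KK1_L R [s, u, v, v⁻¹, w, w⁻¹, e, e⁻¹, f, f⁻¹, z, d2, d3, s2, s3, s0] H) :
    z = w * e ∧ d2 = (e * f)⁻¹ ∧ d3 = e⁻¹ * f ∧ s2 = v * s * v⁻¹ ∧ s3 = v⁻¹ * s * v ∧ s0 = (s * v) ^ 3 :=
  Fm.sound M.μ KK1x_df_F KK1x_df_chk M.reps
noncomputable def KK2x_df_F : Fm := (.qf (.and (.eq (.v (nat_lit 10)) (.mul (.v (nat_lit 4)) (.v (nat_lit 6)))) (.and (.eq (.v (nat_lit 11)) (.inv (.mul (.v (nat_lit 6)) (.v (nat_lit 8))))) (.and (.eq (.v (nat_lit 12)) (.mul (.inv (.v (nat_lit 6))) (.v (nat_lit 8)))) (.and (.eq (.v (nat_lit 13)) (.mul (.mul (.v (nat_lit 2)) (.v (nat_lit 0))) (.inv (.v (nat_lit 2))))) (.and (.eq (.v (nat_lit 14)) (.mul (.mul (.inv (.v (nat_lit 2))) (.v (nat_lit 0))) (.v (nat_lit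 2)))) (.eq (.v (nat_lit 15)) (.pw (.mul (.v (nat_lit 0)) (.v (nat_lit 2))) (nat_lit 3)))))))))
theorem KK2x_df_chk : Fm.chk KK2_o KK2x_df_F KK2x_cs = true := by decide +kernel
theorem KK2x_df {G : Type*} [Group G] {R : ℕ → G → Prop} {s u v w e f z d2 d3 s2 s3 s0 : G} {H : Subgroup G}
    (M : Mdl KK2_o KK2x_cs KK2_L R [s, u, v, v⁻¹, w, w⁻¹, e, e⁻¹, f, f⁻¹, z, d2, d3, s2, s3, s0] H) :
    z = w * e ∧ d2 = (e * f)⁻¹ ∧ d3 = e⁻¹ * f ∧ s2 = v * s * v⁻¹ ∧ s3 = v⁻¹ * s * v ∧ s0 = (s * v) ^ 3 :=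
  Fm.sound M.μ KK2x_df_F KK2x_df_chk M.reps
noncomputable def KK1x_lD : List ℕ := [(nat_lit 0x876543210), (nat_lit 0x876543021), (nat_lit 0x687354210), (nat_lit 0x768354210), (nat_lit 0x876543102), (nat_lit 0x687354021), (nat_lit 0x768354021), (nat_lit 0x768435210), (nat_lit 0x876435210), (nat_lit 0x687435210), (nat_lit 0x687354102), (nat_lit 0x768354102), (nat_lit 0x768435021), (nat_lit 0x876435021), (nat_lit 0x687435021), (nat_lit 0x687543210), (nat_lit 0x768543210), (nat_lit 0x768435102), (nat_lit 0x876435102), (nat_lit 0x687435102), (nat_lit 0x687543021), (nat_lit 0x768543021), (nat_lit 0x876354210), (nat_lit 0x687543102), (nat_lit 0x768543102), (nat_lit 0x876354021), (nat_lit 0x876354102)]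
noncomputable def KK1x_lD_W : List (List ℕ) := [[],
  [(nat_lit 0)],
  [(nat_lit 1)],
  [(nat_lit 2)],
  [(nat_lit 0), (nat_lit 0)],
  [(nat_lit 0), (nat_lit 1)],
  [(nat_lit 0), (nat_lit 2)],
  [(nat_lit 1), (nat_lit 1)],
  [(nat_lit 1), (nat_lit 2)],
  [(nat_lit 2), (nat_lit 2)],
  [(nat_lit 0), (nat_lit 0), (nat_lit 1)],
  [(nat_lit 0), (nat_lit 0), (nat_lit 2)],
  [(nat_lit 0), (nat_lit 1), (nat_lit 1)],
  [(nat_lit 0), (nat_lit 1), (nat_lit 2)],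
  [(nat_lit 0), (nat_lit 2), (nat_lit 2)],
  [(nat_lit 1), (nat_lit 1), (nat_lit 2)],
  [(nat_lit 1), (nat_lit 2), (nat_lit 2)],
  [(nat_lit 0), (nat_lit 0), (nat_lit 1), (nat_lit 1)],
  [(nat_lit 0), (nat_lit 0), (nat_lit 1), (nat_lit 2)],
  [(nat_lit 0), (nat_lit 0), (nat_lit 2), (nat_lit 2)],
  [(nat_lit 0), (nat_lit 1), (nat_lit 1), (nat_lit 2)],
  [(nat_lit 0), (nat_lit 1), (nat_lit 2), (nat_lit 2)],
  [(nat_lit 1), (nat_lit 1), (nat_lit 2), (nat_lit 2)],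
  [(nat_lit 0), (nat_lit 0), (nat_lit 1), (nat_lit 1), (nat_lit 2)],
  [(nat_lit 0), (nat_lit 0), (nat_lit 1), (nat_lit 2), (nat_lit 2)],
  [(nat_lit 0), (nat_lit 1), (nat_lit 1), (nat_lit 2), (nat_lit 2)],
  [(nat_lit 0), (nat_lit 0), (nat_lit 1), (nat_lit 1), (nat_lit 2), (nat_lit 2)]]
noncomputable def KK1x_lD_h (c : ℕ) : ℕ := Nat.mod c (nat_lit 76)
theorem KK1x_lD_E {G : Type*} [Group G] {R : ℕ → G → Prop} {s u v w e f z d2 d3 s2 s3 s0 : G} {H : Subgroup G}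
    (M : Mdl KK1_o KK1x_cs KK1_L R [s, u, v, v⁻¹, w, w⁻¹, e, e⁻¹, f, f⁻¹, z, d2, d3, s2, s3, s0] H) :
    EnumS R KK1x_lD (sp [w, e, f]) :=
  enumS_sp M.μ.1 (M.reps.tms M.μ.1 [(.v (nat_lit 4)), (.v (nat_lit 6)), (.v (nat_lit 8))] (cs' := [(nat_lit 0x876543021), (nat_lit 0x687354210), (nat_lit 0x768354210)]) (by decide +kernel))
    (Ws := KK1x_lD_W) (by decide +kernel) (by decide +kernel)
theorem KK1x_lD_c {G : Type*} [Group G] {R : ℕ → G → Prop} {s u v w e f z d2 d3 s2 s3 s0 : G} {H : Subgroup G}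
    (M : Mdl KK1_o KK1x_cs KK1_L R [s, u, v, v⁻¹, w, w⁻¹, e, e⁻¹, f, f⁻¹, z, d2, d3, s2, s3, s0] H) :
    #(sp [w, e, f]) = 27 :=
  (KK1x_lD_E M).card M.μ (h := KK1x_lD_h) (by decide +kernel)
noncomputable def KK2x_lD : List ℕ := [(nat_lit 0x876543210), (nat_lit 0x876543021), (nat_lit 0x687354210), (nat_lit 0x768354210), (nat_lit 0x876543102), (nat_lit 0x687354021), (nat_lit 0x768354021), (nat_lit 0x768435210), (nat_lit 0x876435210), (nat_lit 0x687435210), (nat_lit 0x687354102), (nat_lit 0x768354102), (nat_lit 0x768435021), (nat_lit 0x876435021), (nat_lit 0x687435021), (nat_lit 0x687543210), (nat_lit 0x768543210), (nat_lit 0x768435102), (nat_lit 0x876435102), (nat_lit 0x687435102), (nat_lit 0x687543021), (nat_lit 0x768543021), (nat_lit 0x876354210), (nat_lit 0x687543102), (nat_lit 0x768543102), (nat_lit 0x876354021), (nat_lit 0x876354102)]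
noncomputable def KK2x_lD_W : List (List ℕ) := [[],
  [(nat_lit 0)],
  [(nat_lit 1)],
  [(nat_lit 2)],
  [(nat_lit 0), (nat_lit 0)],
  [(nat_lit 0), (nat_lit 1)],
  [(nat_lit 0), (nat_lit 2)],
  [(nat_lit 1), (nat_lit 1)],
  [(nat_lit 1), (nat_lit 2)],
  [(nat_lit 2), (nat_lit 2)],
  [(nat_lit 0), (nat_lit 0), (nat_lit 1)],
  [(nat_lit 0), (nat_lit 0), (nat_lit 2)],
  [(nat_lit 0), (nat_lit 1), (nat_lit 1)],
  [(nat_lit 0), (nat_lit 1), (nat_lit 2)],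
  [(nat_lit 0), (nat_lit 2), (nat_lit 2)],
  [(nat_lit 1), (nat_lit 1), (nat_lit 2)],
  [(nat_lit 1), (nat_lit 2), (nat_lit 2)],
  [(nat_lit 0), (nat_lit 0), (nat_lit 1), (nat_lit 1)],
  [(nat_lit 0), (nat_lit 0), (nat_lit 1), (nat_lit 2)],
  [(nat_lit 0), (nat_lit 0), (nat_lit 2), (nat_lit 2)],
  [(nat_lit 0), (nat_lit 1), (nat_lit 1), (nat_lit 2)],
  [(nat_lit 0), (nat_lit 1), (nat_lit 2), (nat_lit 2)],
  [(nat_lit 1), (nat_lit 1), (nat_lit 2), (nat_lit 2)],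
  [(nat_lit 0), (nat_lit 0), (nat_lit 1), (nat_lit 1), (nat_lit 2)],
  [(nat_lit 0), (nat_lit 0), (nat_lit 1), (nat_lit 2), (nat_lit 2)],
  [(nat_lit 0), (nat_lit 1), (nat_lit 1), (nat_lit 2), (nat_lit 2)],
  [(nat_lit 0), (nat_lit 0), (nat_lit 1), (nat_lit 1), (nat_lit 2), (nat_lit 2)]]
noncomputable def KK2x_lD_h (c : ℕ) : ℕ := Nat.mod c (nat_lit 89)
theorem KK2x_lD_E {G : Type*} [Group G] {R : ℕ → G → Prop} {s u v w e f z d2 d3 s2 s3 s0 : G} {H : Subgroup G}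
    (M : Mdl KK2_o KK2x_cs KK2_L R [s, u, v, v⁻¹, w, w⁻¹, e, e⁻¹, f, f⁻¹, z, d2, d3, s2, s3, s0] H) :
    EnumS R KK2x_lD (sp [w, e, f]) :=
  enumS_sp M.μ.1 (M.reps.tms M.μ.1 [(.v (nat_lit 4)), (.v (nat_lit 6)), (.v (nat_lit 8))] (cs' := [(nat_lit 0x876543021), (nat_lit 0x687354210), (nat_lit 0x768354210)]) (by decide +kernel))
    (Ws := KK2x_lD_W) (by decide +kernel) (by decide +kernel)
theorem KK2x_lD_c {G : Type*} [Group G] {R : ℕ → G → Prop} {s u v w e f z d2 d3 s2 s3 s0 : G} {H : Subgroup G}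
    (M : Mdl KK2_o KK2x_cs KK2_L R [s, u, v, v⁻¹, w, w⁻¹, e, e⁻¹, f, f⁻¹, z, d2, d3, s2, s3, s0] H) :
    #(sp [w, e, f]) = 27 :=
  (KK2x_lD_E M).card M.μ (h := KK2x_lD_h) (by decide +kernel)
noncomputable def KK1x_lS : List ℕ := [(nat_lit 0x876543210), (nat_lit 0x876543021), (nat_lit 0x687354210), (nat_lit 0x768354210), (nat_lit 0x210876543), (nat_lit 0x876543102), (nat_lit 0x687354021), (nat_lit 0x768354021), (nat_lit 0x210876354), (nat_lit 0x768435210), (nat_lit 0x876435210), (nat_lit 0x21687543), (nat_lit 0x687435210), (nat_lit 0x102687543), (nat_lit 0x21876543), (nat_lit 0x210687354), (nat_lit 0x210768354), (nat_lit 0x543210876), (nat_lit 0x687354102), (nat_lit 0x768354102), (nat_lit 0x210876435), (nat_lit 0x768435021), (nat_lit 0x876435021), (nat_lit 0x21687354), (nat_lit 0x687435021), (nat_lit 0x102687354), (nat_lit 0x21876354), (nat_lit 0x210687435), (nat_lit 0x210768435), (nat_lit 0x543210687),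 (nat_lit 0x687543210), (nat_lit 0x102768543), (nat_lit 0x768543210), (nat_lit 0x210768543), (nat_lit 0x21768354), (nat_lit 0x354021876), (nat_lit 0x21768543), (nat_lit 0x210687543), (nat_lit 0x102768354), (nat_lit 0x102876354), (nat_lit 0x435021876), (nat_lit 0x102876543), (nat_lit 0x354210876), (nat_lit 0x543021687), (nat_lit 0x543102687), (nat_lit 0x543021876), (nat_lit 0x354210687), (nat_lit 0x354210768), (nat_lit 0x768435102), (nat_lit 0x876435102), (nat_lit 0x21687435), (nat_lit 0x687435102), (nat_lit 0x102687435), (nat_lit 0x21876435), (nat_lit 0x543210768), (nat_lit 0x687543021), (nat_lit 0x768543021), (nat_lit 0x21768435), (nat_lit 0x354021687), (nat_lit 0x102768435), (nat_lit 0x102876435), (nat_lit 0x435021687), (nat_lit 0x543021768), (nat_lit 0x543102768), (nat_lit 0x876354210), (nat_lit 0x435102876), (nat_lit 0x543102876), (nat_lit 0x354102687), (nat_lit 0x354102876), (nat_lit 0x435021768),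 (nat_lit 0x435102687), (nat_lit 0x435210687), (nat_lit 0x435210876), (nat_lit 0x435210768), (nat_lit 0x354021768), (nat_lit 0x876354021), (nat_lit 0x354102768), (nat_lit 0x687543102), (nat_lit 0x768543102), (nat_lit 0x435102768), (nat_lit 0x876354102)]
noncomputable def KK1x_lS_W : List (List ℕ) := [[],
  [(nat_lit 0)],
  [(nat_lit 1)],
  [(nat_lit 2)],
  [(nat_lit 3)],
  [(nat_lit 0), (nat_lit 0)],
  [(nat_lit 0), (nat_lit 1)],
  [(nat_lit 0), (nat_lit 2)],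
  [(nat_lit 0), (nat_lit 3)],
  [(nat_lit 1), (nat_lit 1)],
  [(nat_lit 1), (nat_lit 2)],
  [(nat_lit 1), (nat_lit 3)],
  [(nat_lit 2), (nat_lit 2)],
  [(nat_lit 2), (nat_lit 3)],
  [(nat_lit 3), (nat_lit 0)],
  [(nat_lit 3), (nat_lit 1)],
  [(nat_lit 3), (nat_lit 2)],
  [(nat_lit 3), (nat_lit 3)],
  [(nat_lit 0), (nat_lit 0), (nat_lit 1)],
  [(nat_lit 0), (nat_lit 0), (nat_lit 2)],
  [(nat_lit 0), (nat_lit 0), (nat_lit 3)],
  [(nat_lit 0), (nat_lit 1), (nat_lit 1)],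
  [(nat_lit 0), (nat_lit 1), (nat_lit 2)],
  [(nat_lit 0), (nat_lit 1), (nat_lit 3)],
  [(nat_lit 0), (nat_lit 2), (nat_lit 2)],
  [(nat_lit 0), (nat_lit 2), (nat_lit 3)],
  [(nat_lit 0), (nat_lit 3), (nat_lit 0)],
  [(nat_lit 0), (nat_lit 3), (nat_lit 1)],
  [(nat_lit 0), (nat_lit 3), (nat_lit 2)],
  [(nat_lit 0), (nat_lit 3), (nat_lit 3)],
  [(nat_lit 1), (nat_lit 1), (nat_lit 2)],
  [(nat_lit 1), (nat_lit 1), (nat_lit 3)],
  [(nat_lit 1), (nat_lit 2), (nat_lit 2)],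
  [(nat_lit 1), (nat_lit 2), (nat_lit 3)],
  [(nat_lit 1), (nat_lit 3), (nat_lit 1)],
  [(nat_lit 1), (nat_lit 3), (nat_lit 3)],
  [(nat_lit 2), (nat_lit 2), (nat_lit 3)],
  [(nat_lit 2), (nat_lit 3), (nat_lit 0)],
  [(nat_lit 2), (nat_lit 3), (nat_lit 1)],
  [(nat_lit 2), (nat_lit 3), (nat_lit 2)],
  [(nat_lit 2), (nat_lit 3), (nat_lit 3)],
  [(nat_lit 3), (nat_lit 0), (nat_lit 0)],
  [(nat_lit 3), (nat_lit 0), (nat_lit 3)],
  [(nat_lit 3), (nat_lit 1), (nat_lit 3)],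
  [(nat_lit 3), (nat_lit 2), (nat_lit 3)],
  [(nat_lit 3), (nat_lit 3), (nat_lit 0)],
  [(nat_lit 3), (nat_lit 3), (nat_lit 1)],
  [(nat_lit 3), (nat_lit 3), (nat_lit 2)],
  [(nat_lit 0), (nat_lit 0), (nat_lit 1), (nat_lit 1)],
  [(nat_lit 0), (nat_lit 0), (nat_lit 1), (nat_lit 2)],
  [(nat_lit 0), (nat_lit 0), (nat_lit 1), (nat_lit 3)],
  [(nat_lit 0), (nat_lit 0), (nat_lit 2), (nat_lit 2)],
  [(nat_lit 0), (nat_lit 0), (nat_lit 2), (nat_lit 3)],
  [(nat_lit 0), (nat_lit 0), (nat_lit 3), (nat_lit 0)],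
  [(nat_lit 0), (nat_lit 0), (nat_lit 3), (nat_lit 3)],
  [(nat_lit 0), (nat_lit 1), (nat_lit 1), (nat_lit 2)],
  [(nat_lit 0), (nat_lit 1), (nat_lit 2), (nat_lit 2)],
  [(nat_lit 0), (nat_lit 1), (nat_lit 3), (nat_lit 1)],
  [(nat_lit 0), (nat_lit 1), (nat_lit 3), (nat_lit 3)],
  [(nat_lit 0), (nat_lit 2), (nat_lit 3), (nat_lit 1)],
  [(nat_lit 0), (nat_lit 2), (nat_lit 3), (nat_lit 2)],
  [(nat_lit 0), (nat_lit 2), (nat_lit 3), (nat_lit 3)],
  [(nat_lit 0), (nat_lit 3), (nat_lit 1), (nat_lit 3)],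
  [(nat_lit 0), (nat_lit 3), (nat_lit 2), (nat_lit 3)],
  [(nat_lit 1), (nat_lit 1), (nat_lit 2), (nat_lit 2)],
  [(nat_lit 1), (nat_lit 1), (nat_lit 3), (nat_lit 3)],
  [(nat_lit 1), (nat_lit 2), (nat_lit 3), (nat_lit 3)],
  [(nat_lit 1), (nat_lit 3), (nat_lit 1), (nat_lit 3)],
  [(nat_lit 1), (nat_lit 3), (nat_lit 3), (nat_lit 0)],
  [(nat_lit 1), (nat_lit 3), (nat_lit 3), (nat_lit 2)],
  [(nat_lit 2), (nat_lit 3), (nat_lit 1), (nat_lit 3)],
  [(nat_lit 2), (nat_lit 3), (nat_lit 2), (nat_lit 3)],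
  [(nat_lit 3), (nat_lit 0), (nat_lit 0), (nat_lit 3)],
  [(nat_lit 3), (nat_lit 0), (nat_lit 3), (nat_lit 2)],
  [(nat_lit 3), (nat_lit 1), (nat_lit 3), (nat_lit 1)],
  [(nat_lit 3), (nat_lit 1), (nat_lit 3), (nat_lit 3)],
  [(nat_lit 3), (nat_lit 2), (nat_lit 3), (nat_lit 1)],
  [(nat_lit 3), (nat_lit 3), (nat_lit 2), (nat_lit 3)],
  [(nat_lit 0), (nat_lit 0), (nat_lit 1), (nat_lit 2), (nat_lit 2)],
  [(nat_lit 0), (nat_lit 2), (nat_lit 3), (nat_lit 1), (nat_lit 3)],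
  [(nat_lit 0), (nat_lit 3), (nat_lit 1), (nat_lit 3), (nat_lit 3)]]
noncomputable def KK1x_lS_h (c : ℕ) : ℕ := Nat.mod c (nat_lit 304)
theorem KK1x_lS_E {G : Type*} [Group G] {R : ℕ → G → Prop} {s u v w e f z d2 d3 s2 s3 s0 : G} {H : Subgroup G}
    (M : Mdl KK1_o KK1x_cs KK1_L R [s, u, v, v⁻¹, w, w⁻¹, e, e⁻¹, f, f⁻¹, z, d2, d3, s2, s3, s0] H) :
    EnumS R KK1x_lS (sp [w, e, f, v]) :=
  enumS_sp M.μ.1 (M.reps.tms M.μ.1 [(.v (nat_lit 4)), (.v (nat_lit 6)), (.v (nat_lit 8)), (.v (nat_lit 2))] (cs' := [(nat_lit 0x876543021), (nat_lit 0x687354210), (nat_lit 0x768354210), (nat_lit 0x210876543)]) (by decide +kernel))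
    (Ws := KK1x_lS_W) (by decide +kernel) (by decide +kernel)
theorem KK1x_lS_c {G : Type*} [Group G] {R : ℕ → G → Prop} {s u v w e f z d2 d3 s2 s3 s0 : G} {H : Subgroup G}
    (M : Mdl KK1_o KK1x_cs KK1_L R [s, u, v, v⁻¹, w, w⁻¹, e, e⁻¹, f, f⁻¹, z, d2, d3, s2, s3, s0] H) :
    #(sp [w, e, f, v]) = 81 :=
  (KK1x_lS_E M).card M.μ (h := KK1x_lS_h) (by decide +kernel)
noncomputable def KK2x_lS : List ℕ := [(nat_lit 0x876543210), (nat_lit 0x876543021), (nat_lit 0x687354210), (nat_lit 0x768354210), (nat_lit 0x210876543), (nat_lit 0x876543102), (nat_lit 0x687354021), (nat_lit 0x768354021), (nat_lit 0x210876354), (nat_lit 0x768435210), (nat_lit 0x876435210), (nat_lit 0x21687543), (nat_lit 0x687435210), (nat_lit 0x102687543), (nat_lit 0x21876543), (nat_lit 0x210687354), (nat_lit 0x210768354), (nat_lit 0x543210876), (nat_lit 0x687354102), (nat_lit 0x768354102), (nat_lit 0x210876435), (nat_lit 0x768435021),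 (nat_lit 0x876435021), (nat_lit 0x21687354), (nat_lit 0x687435021), (nat_lit 0x102687354), (nat_lit 0x21876354), (nat_lit 0x210687435), (nat_lit 0x210768435), (nat_lit 0x543210687), (nat_lit 0x687543210), (nat_lit 0x102768543), (nat_lit 0x768543210), (nat_lit 0x210768543), (nat_lit 0x21768354), (nat_lit 0x354021876), (nat_lit 0x21768543), (nat_lit 0x210687543), (nat_lit 0x102768354), (nat_lit 0x102876354), (nat_lit 0x435021876), (nat_lit 0x102876543), (nat_lit 0x354210876), (nat_lit 0x543021687), (nat_lit 0x543102687), (nat_lit 0x543021876), (nat_lit 0x354210687), (nat_lit 0x354210768), (nat_lit 0x768435102), (nat_lit 0x876435102), (nat_lit 0x21687435), (nat_lit 0x687435102), (nat_lit 0x102687435), (nat_lit 0x21876435), (nat_lit 0x543210768), (nat_lit 0x687543021), (nat_lit 0x768543021), (nat_lit 0x21768435), (nat_lit 0x354021687), (nat_lit 0x102768435), (nat_lit 0x102876435), (nat_lit 0x435021687),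 (nat_lit 0x543021768), (nat_lit 0x543102768), (nat_lit 0x876354210), (nat_lit 0x435102876), (nat_lit 0x543102876), (nat_lit 0x354102687), (nat_lit 0x354102876), (nat_lit 0x435021768), (nat_lit 0x435102687), (nat_lit 0x435210687), (nat_lit 0x435210876), (nat_lit 0x435210768), (nat_lit 0x354021768), (nat_lit 0x876354021), (nat_lit 0x354102768), (nat_lit 0x687543102), (nat_lit 0x768543102), (nat_lit 0x435102768), (nat_lit 0x876354102)]
noncomputable def KK2x_lS_W : List (List ℕ) := [[],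
  [(nat_lit 0)],
  [(nat_lit 1)],
  [(nat_lit 2)],
  [(nat_lit 3)],
  [(nat_lit 0), (nat_lit 0)],
  [(nat_lit 0), (nat_lit 1)],
  [(nat_lit 0), (nat_lit 2)],
  [(nat_lit 0), (nat_lit 3)],
  [(nat_lit 1), (nat_lit 1)],
  [(nat_lit 1), (nat_lit 2)],
  [(nat_lit 1), (nat_lit 3)],
  [(nat_lit 2), (nat_lit 2)],
  [(nat_lit 2), (nat_lit 3)],
  [(nat_lit 3), (nat_lit 0)],
  [(nat_lit 3), (nat_lit 1)],
  [(nat_lit 3), (nat_lit 2)],
  [(nat_lit 3), (nat_lit 3)],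
  [(nat_lit 0), (nat_lit 0), (nat_lit 1)],
  [(nat_lit 0), (nat_lit 0), (nat_lit 2)],
  [(nat_lit 0), (nat_lit 0), (nat_lit 3)],
  [(nat_lit 0), (nat_lit 1), (nat_lit 1)],
  [(nat_lit 0), (nat_lit 1), (nat_lit 2)],
  [(nat_lit 0), (nat_lit 1), (nat_lit 3)],
  [(nat_lit 0), (nat_lit 2), (nat_lit 2)],
  [(nat_lit 0), (nat_lit 2), (nat_lit 3)],
  [(nat_lit 0), (nat_lit 3), (nat_lit 0)],
  [(nat_lit 0), (nat_lit 3), (nat_lit 1)],
  [(nat_lit 0), (nat_lit 3), (nat_lit 2)],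
  [(nat_lit 0), (nat_lit 3), (nat_lit 3)],
  [(nat_lit 1), (nat_lit 1), (nat_lit 2)],
  [(nat_lit 1), (nat_lit 1), (nat_lit 3)],
  [(nat_lit 1), (nat_lit 2), (nat_lit 2)],
  [(nat_lit 1), (nat_lit 2), (nat_lit 3)],
  [(nat_lit 1), (nat_lit 3), (nat_lit 1)],
  [(nat_lit 1), (nat_lit 3), (nat_lit 3)],
  [(nat_lit 2), (nat_lit 2), (nat_lit 3)],
  [(nat_lit 2), (nat_lit 3), (nat_lit 0)],
  [(nat_lit 2), (nat_lit 3), (nat_lit 1)],
  [(nat_lit 2), (nat_lit 3), (nat_lit 2)],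
  [(nat_lit 2), (nat_lit 3), (nat_lit 3)],
  [(nat_lit 3), (nat_lit 0), (nat_lit 0)],
  [(nat_lit 3), (nat_lit 0), (nat_lit 3)],
  [(nat_lit 3), (nat_lit 1), (nat_lit 3)],
  [(nat_lit 3), (nat_lit 2), (nat_lit 3)],
  [(nat_lit 3), (nat_lit 3), (nat_lit 0)],
  [(nat_lit 3), (nat_lit 3), (nat_lit 1)],
  [(nat_lit 3), (nat_lit 3), (nat_lit 2)],
  [(nat_lit 0), (nat_lit 0), (nat_lit 1), (nat_lit 1)],
  [(nat_lit 0), (nat_lit 0), (nat_lit 1), (nat_lit 2)],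
  [(nat_lit 0), (nat_lit 0), (nat_lit 1), (nat_lit 3)],
  [(nat_lit 0), (nat_lit 0), (nat_lit 2), (nat_lit 2)],
  [(nat_lit 0), (nat_lit 0), (nat_lit 2), (nat_lit 3)],
  [(nat_lit 0), (nat_lit 0), (nat_lit 3), (nat_lit 0)],
  [(nat_lit 0), (nat_lit 0), (nat_lit 3), (nat_lit 3)],
  [(nat_lit 0), (nat_lit 1), (nat_lit 1), (nat_lit 2)],
  [(nat_lit 0), (nat_lit 1), (nat_lit 2), (nat_lit 2)],
  [(nat_lit 0), (nat_lit 1), (nat_lit 3), (nat_lit 1)],
  [(nat_lit 0), (nat_lit 1), (nat_lit 3), (nat_lit 3)],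
  [(nat_lit 0), (nat_lit 2), (nat_lit 3), (nat_lit 1)],
  [(nat_lit 0), (nat_lit 2), (nat_lit 3), (nat_lit 2)],
  [(nat_lit 0), (nat_lit 2), (nat_lit 3), (nat_lit 3)],
  [(nat_lit 0), (nat_lit 3), (nat_lit 1), (nat_lit 3)],
  [(nat_lit 0), (nat_lit 3), (nat_lit 2), (nat_lit 3)],
  [(nat_lit 1), (nat_lit 1), (nat_lit 2), (nat_lit 2)],
  [(nat_lit 1), (nat_lit 1), (nat_lit 3), (nat_lit 3)],
  [(nat_lit 1), (nat_lit 2), (nat_lit 3), (nat_lit 3)],
  [(nat_lit 1), (nat_lit 3), (nat_lit 1), (nat_lit 3)],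
  [(nat_lit 1), (nat_lit 3), (nat_lit 3), (nat_lit 0)],
  [(nat_lit 1), (nat_lit 3), (nat_lit 3), (nat_lit 2)],
  [(nat_lit 2), (nat_lit 3), (nat_lit 1), (nat_lit 3)],
  [(nat_lit 2), (nat_lit 3), (nat_lit 2), (nat_lit 3)],
  [(nat_lit 3), (nat_lit 0), (nat_lit 0), (nat_lit 3)],
  [(nat_lit 3), (nat_lit 0), (nat_lit 3), (nat_lit 2)],
  [(nat_lit 3), (nat_lit 1), (nat_lit 3), (nat_lit 1)],
  [(nat_lit 3), (nat_lit 1), (nat_lit 3), (nat_lit 3)],
  [(nat_lit 3), (nat_lit 2), (nat_lit 3), (nat_lit 1)],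
  [(nat_lit 3), (nat_lit 3), (nat_lit 2), (nat_lit 3)],
  [(nat_lit 0), (nat_lit 0), (nat_lit 1), (nat_lit 2), (nat_lit 2)],
  [(nat_lit 0), (nat_lit 2), (nat_lit 3), (nat_lit 1), (nat_lit 3)],
  [(nat_lit 0), (nat_lit 3), (nat_lit 1), (nat_lit 3), (nat_lit 3)]]
noncomputable def KK2x_lS_h (c : ℕ) : ℕ := Nat.mod c (nat_lit 644)
theorem KK2x_lS_E {G : Type*} [Group G] {R : ℕ → G → Prop} {s u v w e f z d2 d3 s2 s3 s0 : G} {H : Subgroup G}
    (M : Mdl KK2_o KK2x_cs KK2_L R [s, u, v, v⁻¹, w, w⁻¹, e, e⁻¹, f, f⁻¹, z, d2, d3, s2, s3, s0] H) :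
    EnumS R KK2x_lS (sp [w, e, f, v]) :=
  enumS_sp M.μ.1 (M.reps.tms M.μ.1 [(.v (nat_lit 4)), (.v (nat_lit 6)), (.v (nat_lit 8)), (.v (nat_lit 2))] (cs' := [(nat_lit 0x876543021), (nat_lit 0x687354210), (nat_lit 0x768354210), (nat_lit 0x210876543)]) (by decide +kernel))
    (Ws := KK2x_lS_W) (by decide +kernel) (by decide +kernel)
theorem KK2x_lS_c {G : Type*} [Group G] {R : ℕ → G → Prop} {s u v w e f z d2 d3 s2 s3 s0 : G} {H : Subgroup G}
    (M : Mdl KK2_o KK2x_cs KK2_L R [s, u, v, v⁻¹, w, w⁻¹, e, e⁻¹, f, f⁻¹, z, d2, d3, s2, s3, s0] H) :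
    #(sp [w, e, f, v]) = 81 :=
  (KK2x_lS_E M).card M.μ (h := KK2x_lS_h) (by decide +kernel)
noncomputable def KK1x_lT : List ℕ := [(nat_lit 0x876543210), (nat_lit 0x876354210), (nat_lit 0x687543210), (nat_lit 0x876435210), (nat_lit 0x687354210), (nat_lit 0x768543210), (nat_lit 0x687435210), (nat_lit 0x768354210), (nat_lit 0x768435210)]
noncomputable def KK1x_lT_W : List (List ℕ) := [[],
  [(nat_lit 0)],
  [(nat_lit 1)],
  [(nat_lit 0), (nat_lit 0)],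
  [(nat_lit 0), (nat_lit 1)],
  [(nat_lit 1), (nat_lit 1)],
  [(nat_lit 0), (nat_lit 0), (nat_lit 1)],
  [(nat_lit 0), (nat_lit 1), (nat_lit 1)],
  [(nat_lit 0), (nat_lit 0), (nat_lit 1), (nat_lit 1)]]
noncomputable def KK1x_lT_h (c : ℕ) : ℕ := Nat.mod c (nat_lit 19)
theorem KK1x_lT_E {G : Type*} [Group G] {R : ℕ → G → Prop} {s u v w e f z d2 d3 s2 s3 s0 : G} {H : Subgroup G}
    (M : Mdl KK1_o KK1x_cs KK1_L R [s, u, v, v⁻¹, w, w⁻¹, e, e⁻¹, f, f⁻¹, z, d2, d3, s2, s3, s0] H) :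
    EnumS R KK1x_lT (sp [d2, d3]) :=
  enumS_sp M.μ.1 (M.reps.tms M.μ.1 [(.v (nat_lit 11)), (.v (nat_lit 12))] (cs' := [(nat_lit 0x876354210), (nat_lit 0x687543210)]) (by decide +kernel))
    (Ws := KK1x_lT_W) (by decide +kernel) (by decide +kernel)
theorem KK1x_lT_c {G : Type*} [Group G] {R : ℕ → G → Prop} {s u v w e f z d2 d3 s2 s3 s0 : G} {H : Subgroup G}
    (M : Mdl KK1_o KK1x_cs KK1_L R [s, u, v, v⁻¹, w, w⁻¹, e, e⁻¹, f, f⁻¹, z, d2, d3, s2, s3, s0] H) :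
    #(sp [d2, d3]) = 9 :=
  (KK1x_lT_E M).card M.μ (h := KK1x_lT_h) (by decide +kernel)
noncomputable def KK2x_lT : List ℕ := [(nat_lit 0x876543210), (nat_lit 0x876354210), (nat_lit 0x687543210), (nat_lit 0x876435210), (nat_lit 0x687354210), (nat_lit 0x768543210), (nat_lit 0x687435210), (nat_lit 0x768354210), (nat_lit 0x768435210)]
noncomputable def KK2x_lT_W : List (List ℕ) := [[],
  [(nat_lit 0)],
  [(nat_lit 1)],
  [(nat_lit 0), (nat_lit 0)],
  [(nat_lit 0), (nat_lit 1)],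
  [(nat_lit 1), (nat_lit 1)],
  [(nat_lit 0), (nat_lit 0), (nat_lit 1)],
  [(nat_lit 0), (nat_lit 1), (nat_lit 1)],
  [(nat_lit 0), (nat_lit 0), (nat_lit 1), (nat_lit 1)]]
noncomputable def KK2x_lT_h (c : ℕ) : ℕ := Nat.mod c (nat_lit 19)
theorem KK2x_lT_E {G : Type*} [Group G] {R : ℕ → G → Prop} {s u v w e f z d2 d3 s2 s3 s0 : G} {H : Subgroup G}
    (M : Mdl KK2_o KK2x_cs KK2_L R [s, u, v, v⁻¹, w, w⁻¹, e, e⁻¹, f, f⁻¹, z, d2, d3, s2, s3, s0] H) :
    EnumS R KK2x_lT (sp [d2, d3]) :=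
  enumS_sp M.μ.1 (M.reps.tms M.μ.1 [(.v (nat_lit 11)), (.v (nat_lit 12))] (cs' := [(nat_lit 0x876354210), (nat_lit 0x687543210)]) (by decide +kernel))
    (Ws := KK2x_lT_W) (by decide +kernel) (by decide +kernel)
theorem KK2x_lT_c {G : Type*} [Group G] {R : ℕ → G → Prop} {s u v w e f z d2 d3 s2 s3 s0 : G} {H : Subgroup G}
    (M : Mdl KK2_o KK2x_cs KK2_L R [s, u, v, v⁻¹, w, w⁻¹, e, e⁻¹, f, f⁻¹, z, d2, d3, s2, s3, s0] H) :
    #(sp [d2, d3]) = 9 :=
  (KK2x_lT_E M).card M.μ (h := KK2x_lT_h) (by decide +kernel)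
noncomputable def KK1x_lE : List ℕ := [(nat_lit 0x876543210), (nat_lit 0x876543120), (nat_lit 0x876453210), (nat_lit 0x786543210), (nat_lit 0x876453120), (nat_lit 0x786543120), (nat_lit 0x786453210), (nat_lit 0x786453120)]
noncomputable def KK1x_lE_W : List (List ℕ) := [[],
  [(nat_lit 0)],
  [(nat_lit 1)],
  [(nat_lit 2)],
  [(nat_lit 0), (nat_lit 1)],
  [(nat_lit 0), (nat_lit 2)],
  [(nat_lit 1), (nat_lit 2)],
  [(nat_lit 0), (nat_lit 1), (nat_lit 2)]]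
noncomputable def KK1x_lE_h (c : ℕ) : ℕ := Nat.mod c (nat_lit 31)
theorem KK1x_lE_E {G : Type*} [Group G] {R : ℕ → G → Prop} {s u v w e f z d2 d3 s2 s3 s0 : G} {H : Subgroup G}
    (M : Mdl KK1_o KK1x_cs KK1_L R [s, u, v, v⁻¹, w, w⁻¹, e, e⁻¹, f, f⁻¹, z, d2, d3, s2, s3, s0] H) :
    EnumS R KK1x_lE (sp [s, s2, s3]) :=
  enumS_sp M.μ.1 (M.reps.tms M.μ.1 [(.v (nat_lit 0)), (.v (nat_lit 13)), (.v (nat_lit 14))] (cs' := [(nat_lit 0x876543120), (nat_lit 0x876453210), (nat_lit 0x786543210)]) (by decide +kernel))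
    (Ws := KK1x_lE_W) (by decide +kernel) (by decide +kernel)
theorem KK1x_lE_c {G : Type*} [Group G] {R : ℕ → G → Prop} {s u v w e f z d2 d3 s2 s3 s0 : G} {H : Subgroup G}
    (M : Mdl KK1_o KK1x_cs KK1_L R [s, u, v, v⁻¹, w, w⁻¹, e, e⁻¹, f, f⁻¹, z, d2, d3, s2, s3, s0] H) :
    #(sp [s, s2, s3]) = 8 :=
  (KK1x_lE_E M).card M.μ (h := KK1x_lE_h) (by decide +kernel)
noncomputable def KK2x_lE : List ℕ := [(nat_lit 0x876543210), (nat_lit 0x876543120), (nat_lit 0x876453210), (nat_lit 0x786543210), (nat_lit 0x876453120), (nat_lit 0x786543120), (nat_lit 0x786453210), (nat_lit 0x786453120)]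
noncomputable def KK2x_lE_W : List (List ℕ) := [[],
  [(nat_lit 0)],
  [(nat_lit 1)],
  [(nat_lit 2)],
  [(nat_lit 0), (nat_lit 1)],
  [(nat_lit 0), (nat_lit 2)],
  [(nat_lit 1), (nat_lit 2)],
  [(nat_lit 0), (nat_lit 1), (nat_lit 2)]]
noncomputable def KK2x_lE_h (c : ℕ) : ℕ := Nat.mod c (nat_lit 23)
theorem KK2x_lE_E {G : Type*} [Group G] {R : ℕ → G → Prop} {s u v w e f z d2 d3 s2 s3 s0 : G} {H : Subgroup G}
    (M : Mdl KK2_o KK2x_cs KK2_L R [s, u, v, v⁻¹, w, w⁻¹, e, e⁻¹, f, f⁻¹, z, d2, d3, s2, s3, s0] H) :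
    EnumS R KK2x_lE (sp [s, s2, s3]) :=
  enumS_sp M.μ.1 (M.reps.tms M.μ.1 [(.v (nat_lit 0)), (.v (nat_lit 13)), (.v (nat_lit 14))] (cs' := [(nat_lit 0x876543120), (nat_lit 0x876453210), (nat_lit 0x786543210)]) (by decide +kernel))
    (Ws := KK2x_lE_W) (by decide +kernel) (by decide +kernel)
theorem KK2x_lE_c {G : Type*} [Group G] {R : ℕ → G → Prop} {s u v w e f z d2 d3 s2 s3 s0 : G} {H : Subgroup G}
    (M : Mdl KK2_o KK2x_cs KK2_L R [s, u, v, v⁻¹, w, w⁻¹, e, e⁻¹, f, f⁻¹, z, d2, d3, s2, s3, s0] H) :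
    #(sp [s, s2, s3]) = 8 :=
  (KK2x_lE_E M).card M.μ (h := KK2x_lE_h) (by decide +kernel)
noncomputable def KK1x_lV : List ℕ := [(nat_lit 0x876543210), (nat_lit 0x210876543), (nat_lit 0x543210876)]
noncomputable def KK1x_lV_W : List (List ℕ) := [[],
  [(nat_lit 0)],
  [(nat_lit 0), (nat_lit 0)]]
noncomputable def KK1x_lV_h (c : ℕ) : ℕ := Nat.mod c (nat_lit 4)
theorem KK1x_lV_E {G : Type*} [Group G] {R : ℕ → G → Prop} {s u v w e f z d2 d3 s2 s3 s0 : G} {H : Subgroup G}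
    (M : Mdl KK1_o KK1x_cs KK1_L R [s, u, v, v⁻¹, w, w⁻¹, e, e⁻¹, f, f⁻¹, z, d2, d3, s2, s3, s0] H) :
    EnumS R KK1x_lV (sp [v]) :=
  enumS_sp M.μ.1 (M.reps.tms M.μ.1 [(.v (nat_lit 2))] (cs' := [(nat_lit 0x210876543)]) (by decide +kernel))
    (Ws := KK1x_lV_W) (by decide +kernel) (by decide +kernel)
theorem KK1x_lV_c {G : Type*} [Group G] {R : ℕ → G → Prop} {s u v w e f z d2 d3 s2 s3 s0 : G} {H : Subgroup G}
    (M : Mdl KK1_o KK1x_cs KK1_L R [s, u, v, v⁻¹, w, w⁻¹, e, e⁻¹, f, f⁻¹, z, d2, d3, s2, s3, s0] H) :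
    #(sp [v]) = 3 :=
  (KK1x_lV_E M).card M.μ (h := KK1x_lV_h) (by decide +kernel)
noncomputable def KK2x_lV : List ℕ := [(nat_lit 0x876543210), (nat_lit 0x210876543), (nat_lit 0x543210876)]
noncomputable def KK2x_lV_W : List (List ℕ) := [[],
  [(nat_lit 0)],
  [(nat_lit 0), (nat_lit 0)]]
noncomputable def KK2x_lV_h (c : ℕ) : ℕ := Nat.mod c (nat_lit 4)
theorem KK2x_lV_E {G : Type*} [Group G] {R : ℕ → G → Prop} {s u v w e f z d2 d3 s2 s3 s0 : G} {H : Subgroup G}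
    (M : Mdl KK2_o KK2x_cs KK2_L R [s, u, v, v⁻¹, w, w⁻¹, e, e⁻¹, f, f⁻¹, z, d2, d3, s2, s3, s0] H) :
    EnumS R KK2x_lV (sp [v]) :=
  enumS_sp M.μ.1 (M.reps.tms M.μ.1 [(.v (nat_lit 2))] (cs' := [(nat_lit 0x210876543)]) (by decide +kernel))
    (Ws := KK2x_lV_W) (by decide +kernel) (by decide +kernel)
theorem KK2x_lV_c {G : Type*} [Group G] {R : ℕ → G → Prop} {s u v w e f z d2 d3 s2 s3 s0 : G} {H : Subgroup G}
    (M : Mdl KK2_o KK2x_cs KK2_L R [s, u, v, v⁻¹, w, w⁻¹, e, e⁻¹, f, f⁻¹, z, d2, d3, s2, s3, s0] H) :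
    #(sp [v]) = 3 :=
  (KK2x_lV_E M).card M.μ (h := KK2x_lV_h) (by decide +kernel)
noncomputable def KK1x_lW : List ℕ := [(nat_lit 0x876543210), (nat_lit 0x876543021), (nat_lit 0x876543102)]
noncomputable def KK1x_lW_W : List (List ℕ) := [[],
  [(nat_lit 0)],
  [(nat_lit 0), (nat_lit 0)]]
noncomputable def KK1x_lW_h (c : ℕ) : ℕ := Nat.mod c (nat_lit 4)
theorem KK1x_lW_E {G : Type*} [Group G] {R : ℕ → G → Prop} {s u v w e f z d2 d3 s2 s3 s0 : G} {H : Subgroup G}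
    (M : Mdl KK1_o KK1x_cs KK1_L R [s, u, v, v⁻¹, w, w⁻¹, e, e⁻¹, f, f⁻¹, z, d2, d3, s2, s3, s0] H) :
    EnumS R KK1x_lW (sp [w]) :=
  enumS_sp M.μ.1 (M.reps.tms M.μ.1 [(.v (nat_lit 4))] (cs' := [(nat_lit 0x876543021)]) (by decide +kernel))
    (Ws := KK1x_lW_W) (by decide +kernel) (by decide +kernel)
theorem KK1x_lW_c {G : Type*} [Group G] {R : ℕ → G → Prop} {s u v w e f z d2 d3 s2 s3 s0 : G} {H : Subgroup G}
    (M : Mdl KK1_o KK1x_cs KK1_L R [s, u, v, v⁻¹, w, w⁻¹, e, e⁻¹, f, f⁻¹, z, d2, d3, s2, s3, s0] H) :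
    #(sp [w]) = 3 :=
  (KK1x_lW_E M).card M.μ (h := KK1x_lW_h) (by decide +kernel)
noncomputable def KK2x_lW : List ℕ := [(nat_lit 0x876543210), (nat_lit 0x876543021), (nat_lit 0x876543102)]
noncomputable def KK2x_lW_W : List (List ℕ) := [[],
  [(nat_lit 0)],
  [(nat_lit 0), (nat_lit 0)]]
noncomputable def KK2x_lW_h (c : ℕ) : ℕ := Nat.mod c (nat_lit 4)
theorem KK2x_lW_E {G : Type*} [Group G] {R : ℕ → G → Prop} {s u v w e f z d2 d3 s2 s3 s0 : G} {H : Subgroup G}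
    (M : Mdl KK2_o KK2x_cs KK2_L R [s, u, v, v⁻¹, w, w⁻¹, e, e⁻¹, f, f⁻¹, z, d2, d3, s2, s3, s0] H) :
    EnumS R KK2x_lW (sp [w]) :=
  enumS_sp M.μ.1 (M.reps.tms M.μ.1 [(.v (nat_lit 4))] (cs' := [(nat_lit 0x876543021)]) (by decide +kernel))
    (Ws := KK2x_lW_W) (by decide +kernel) (by decide +kernel)
theorem KK2x_lW_c {G : Type*} [Group G] {R : ℕ → G → Prop} {s u v w e f z d2 d3 s2 s3 s0 : G} {H : Subgroup G}
    (M : Mdl KK2_o KK2x_cs KK2_L R [s, u, v, v⁻¹, w, w⁻¹, e, e⁻¹, f, f⁻¹, z, d2, d3, s2, s3, s0] H) :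
    #(sp [w]) = 3 :=
  (KK2x_lW_E M).card M.μ (h := KK2x_lW_h) (by decide +kernel)
noncomputable def KK1x_lB : List ℕ := [(nat_lit 0x876543210), (nat_lit 0x876354210), (nat_lit 0x687543210), (nat_lit 0x876543021), (nat_lit 0x210876543), (nat_lit 0x876435210), (nat_lit 0x687354210), (nat_lit 0x876354021), (nat_lit 0x210687543), (nat_lit 0x768543210), (nat_lit 0x687543021), (nat_lit 0x21876543), (nat_lit 0x876543102), (nat_lit 0x210876354), (nat_lit 0x543210876), (nat_lit 0x687435210), (nat_lit 0x876435021), (nat_lit 0x210768543), (nat_lit 0x768354210), (nat_lit 0x687354021), (nat_lit 0x21687543), (nat_lit 0x876354102), (nat_lit 0x210687354), (nat_lit 0x543021876), (nat_lit 0x768543021), (nat_lit 0x102876543), (nat_lit 0x687543102), (nat_lit 0x21876354), (nat_lit 0x354210876), (nat_lit 0x210876435), (nat_lit 0x543210687), (nat_lit 0x768435210), (nat_lit 0x687435021), (nat_lit 0x21768543), (nat_lit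 0x876435102), (nat_lit 0x210768354), (nat_lit 0x543102876), (nat_lit 0x768354021), (nat_lit 0x102687543), (nat_lit 0x687354102), (nat_lit 0x21687354), (nat_lit 0x354021876), (nat_lit 0x210687435), (nat_lit 0x543021687), (nat_lit 0x768543102), (nat_lit 0x102876354), (nat_lit 0x435210876), (nat_lit 0x21876435), (nat_lit 0x354210687), (nat_lit 0x543210768), (nat_lit 0x768435021), (nat_lit 0x102768543), (nat_lit 0x687435102), (nat_lit 0x21768354), (nat_lit 0x354102876), (nat_lit 0x210768435), (nat_lit 0x543102687), (nat_lit 0x768354102), (nat_lit 0x102687354), (nat_lit 0x435021876), (nat_lit 0x21687435), (nat_lit 0x354021687), (nat_lit 0x543021768), (nat_lit 0x102876435), (nat_lit 0x435210687), (nat_lit 0x354210768), (nat_lit 0x768435102), (nat_lit 0x102768354), (nat_lit 0x435102876), (nat_lit 0x21768435), (nat_lit 0x354102687), (nat_lit 0x543102768), (nat_lit 0x102687435), (nat_lit 0x435021687), (nat_lit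 0x354021768), (nat_lit 0x435210768), (nat_lit 0x102768435), (nat_lit 0x435102687), (nat_lit 0x354102768), (nat_lit 0x435021768), (nat_lit 0x435102768)]
noncomputable def KK1x_lB_W : List (List ℕ) := [[],
  [(nat_lit 1)],
  [(nat_lit 2)],
  [(nat_lit 3)],
  [(nat_lit 4)],
  [(nat_lit 1), (nat_lit 1)],
  [(nat_lit 1), (nat_lit 2)],
  [(nat_lit 1), (nat_lit 3)],
  [(nat_lit 1), (nat_lit 4)],
  [(nat_lit 2), (nat_lit 2)],
  [(nat_lit 2), (nat_lit 3)],
  [(nat_lit 2), (nat_lit 4)],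
  [(nat_lit 3), (nat_lit 3)],
  [(nat_lit 3), (nat_lit 4)],
  [(nat_lit 4), (nat_lit 4)],
  [(nat_lit 1), (nat_lit 1), (nat_lit 2)],
  [(nat_lit 1), (nat_lit 1), (nat_lit 3)],
  [(nat_lit 1), (nat_lit 1), (nat_lit 4)],
  [(nat_lit 1), (nat_lit 2), (nat_lit 2)],
  [(nat_lit 1), (nat_lit 2), (nat_lit 3)],
  [(nat_lit 1), (nat_lit 2), (nat_lit 4)],
  [(nat_lit 1), (nat_lit 3), (nat_lit 3)],
  [(nat_lit 1), (nat_lit 3), (nat_lit 4)],
  [(nat_lit 1), (nat_lit 4), (nat_lit 4)],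
  [(nat_lit 2), (nat_lit 2), (nat_lit 3)],
  [(nat_lit 2), (nat_lit 2), (nat_lit 4)],
  [(nat_lit 2), (nat_lit 3), (nat_lit 3)],
  [(nat_lit 2), (nat_lit 3), (nat_lit 4)],
  [(nat_lit 2), (nat_lit 4), (nat_lit 4)],
  [(nat_lit 3), (nat_lit 3), (nat_lit 4)],
  [(nat_lit 3), (nat_lit 4), (nat_lit 4)],
  [(nat_lit 1), (nat_lit 1), (nat_lit 2), (nat_lit 2)],
  [(nat_lit 1), (nat_lit 1), (nat_lit 2), (nat_lit 3)],
  [(nat_lit 1), (nat_lit 1), (nat_lit 2), (nat_lit 4)],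
  [(nat_lit 1), (nat_lit 1), (nat_lit 3), (nat_lit 3)],
  [(nat_lit 1), (nat_lit 1), (nat_lit 3), (nat_lit 4)],
  [(nat_lit 1), (nat_lit 1), (nat_lit 4), (nat_lit 4)],
  [(nat_lit 1), (nat_lit 2), (nat_lit 2), (nat_lit 3)],
  [(nat_lit 1), (nat_lit 2), (nat_lit 2), (nat_lit 4)],
  [(nat_lit 1), (nat_lit 2), (nat_lit 3), (nat_lit 3)],
  [(nat_lit 1), (nat_lit 2), (nat_lit 3), (nat_lit 4)],
  [(nat_lit 1), (nat_lit 2), (nat_lit 4), (nat_lit 4)],
  [(nat_lit 1), (nat_lit 3), (nat_lit 3), (nat_lit 4)],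
  [(nat_lit 1), (nat_lit 3), (nat_lit 4), (nat_lit 4)],
  [(nat_lit 2), (nat_lit 2), (nat_lit 3), (nat_lit 3)],
  [(nat_lit 2), (nat_lit 2), (nat_lit 3), (nat_lit 4)],
  [(nat_lit 2), (nat_lit 2), (nat_lit 4), (nat_lit 4)],
  [(nat_lit 2), (nat_lit 3), (nat_lit 3), (nat_lit 4)],
  [(nat_lit 2), (nat_lit 3), (nat_lit 4), (nat_lit 4)],
  [(nat_lit 3), (nat_lit 3), (nat_lit 4), (nat_lit 4)],
  [(nat_lit 1), (nat_lit 1), (nat_lit 2), (nat_lit 2), (nat_lit 3)],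
  [(nat_lit 1), (nat_lit 1), (nat_lit 2), (nat_lit 2), (nat_lit 4)],
  [(nat_lit 1), (nat_lit 1), (nat_lit 2), (nat_lit 3), (nat_lit 3)],
  [(nat_lit 1), (nat_lit 1), (nat_lit 2), (nat_lit 3), (nat_lit 4)],
  [(nat_lit 1), (nat_lit 1), (nat_lit 2), (nat_lit 4), (nat_lit 4)],
  [(nat_lit 1), (nat_lit 1), (nat_lit 3), (nat_lit 3), (nat_lit 4)],
  [(nat_lit 1), (nat_lit 1), (nat_lit 3), (nat_lit 4), (nat_lit 4)],
  [(nat_lit 1), (nat_lit 2), (nat_lit 2), (nat_lit 3), (nat_lit 3)],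
  [(nat_lit 1), (nat_lit 2), (nat_lit 2), (nat_lit 3), (nat_lit 4)],
  [(nat_lit 1), (nat_lit 2), (nat_lit 2), (nat_lit 4), (nat_lit 4)],
  [(nat_lit 1), (nat_lit 2), (nat_lit 3), (nat_lit 3), (nat_lit 4)],
  [(nat_lit 1), (nat_lit 2), (nat_lit 3), (nat_lit 4), (nat_lit 4)],
  [(nat_lit 1), (nat_lit 3), (nat_lit 3), (nat_lit 4), (nat_lit 4)],
  [(nat_lit 2), (nat_lit 2), (nat_lit 3), (nat_lit 3), (nat_lit 4)],
  [(nat_lit 2), (nat_lit 2), (nat_lit 3), (nat_lit 4), (nat_lit 4)],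
  [(nat_lit 2), (nat_lit 3), (nat_lit 3), (nat_lit 4), (nat_lit 4)],
  [(nat_lit 1), (nat_lit 1), (nat_lit 2), (nat_lit 2), (nat_lit 3), (nat_lit 3)],
  [(nat_lit 1), (nat_lit 1), (nat_lit 2), (nat_lit 2), (nat_lit 3), (nat_lit 4)],
  [(nat_lit 1), (nat_lit 1), (nat_lit 2), (nat_lit 2), (nat_lit 4), (nat_lit 4)],
  [(nat_lit 1), (nat_lit 1), (nat_lit 2), (nat_lit 3), (nat_lit 3), (nat_lit 4)],
  [(nat_lit 1), (nat_lit 1), (nat_lit 2), (nat_lit 3), (nat_lit 4), (nat_lit 4)],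
  [(nat_lit 1), (nat_lit 1), (nat_lit 3), (nat_lit 3), (nat_lit 4), (nat_lit 4)],
  [(nat_lit 1), (nat_lit 2), (nat_lit 2), (nat_lit 3), (nat_lit 3), (nat_lit 4)],
  [(nat_lit 1), (nat_lit 2), (nat_lit 2), (nat_lit 3), (nat_lit 4), (nat_lit 4)],
  [(nat_lit 1), (nat_lit 2), (nat_lit 3), (nat_lit 3), (nat_lit 4), (nat_lit 4)],
  [(nat_lit 2), (nat_lit 2), (nat_lit 3), (nat_lit 3), (nat_lit 4), (nat_lit 4)],
  [(nat_lit 1), (nat_lit 1), (nat_lit 2), (nat_lit 2), (nat_lit 3), (nat_lit 3), (nat_lit 4)],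
  [(nat_lit 1), (nat_lit 1), (nat_lit 2), (nat_lit 2), (nat_lit 3), (nat_lit 4), (nat_lit 4)],
  [(nat_lit 1), (nat_lit 1), (nat_lit 2), (nat_lit 3), (nat_lit 3), (nat_lit 4), (nat_lit 4)],
  [(nat_lit 1), (nat_lit 2), (nat_lit 2), (nat_lit 3), (nat_lit 3), (nat_lit 4), (nat_lit 4)],
  [(nat_lit 1), (nat_lit 1), (nat_lit 2), (nat_lit 2), (nat_lit 3), (nat_lit 3), (nat_lit 4), (nat_lit 4)]]
noncomputable def KK1x_lB_h (c : ℕ) : ℕ := Nat.mod c (nat_lit 329)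
theorem KK1x_lB_E {G : Type*} [Group G] {R : ℕ → G → Prop} {s u v w e f z d2 d3 s2 s3 s0 : G} {H : Subgroup G}
    (M : Mdl KK1_o KK1x_cs KK1_L R [s, u, v, v⁻¹, w, w⁻¹, e, e⁻¹, f, f⁻¹, z, d2, d3, s2, s3, s0] H) :
    EnumS R KK1x_lB (sp [u, d2, d3, w, v]) :=
  enumS_sp M.μ.1 (M.reps.tms M.μ.1 [(.v (nat_lit 1)), (.v (nat_lit 11)), (.v (nat_lit 12)), (.v (nat_lit 4)), (.v (nat_lit 2))] (cs' := [(nat_lit 0x876543210), (nat_lit 0x876354210), (nat_lit 0x687543210), (nat_lit 0x876543021), (nat_lit 0x210876543)]) (by decide +kernel))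
    (Ws := KK1x_lB_W) (by decide +kernel) (by decide +kernel)
theorem KK1x_lB_c {G : Type*} [Group G] {R : ℕ → G → Prop} {s u v w e f z d2 d3 s2 s3 s0 : G} {H : Subgroup G}
    (M : Mdl KK1_o KK1x_cs KK1_L R [s, u, v, v⁻¹, w, w⁻¹, e, e⁻¹, f, f⁻¹, z, d2, d3, s2, s3, s0] H) :
    #(sp [u, d2, d3, w, v]) = 81 :=
  (KK1x_lB_E M).card M.μ (h := KK1x_lB_h) (by decide +kernel)
noncomputable def KK2x_lB : List ℕ := [(nat_lit 0x876543210), (nat_lit 0x543876210), (nat_lit 0x876354210), (nat_lit 0x687543210), (nat_lit 0x876543021), (nat_lit 0x210876543), (nat_lit 0x354876210), (nat_lit 0x543687210), (nat_lit 0x543876021), (nat_lit 0x876210543), (nat_lit 0x876435210), (nat_lit 0x687354210), (nat_lit 0x876354021), (nat_lit 0x210687543), (nat_lit 0x768543210), (nat_lit 0x687543021), (nat_lit 0x21876543), (nat_lit 0x876543102), (nat_lit 0x210876354), (nat_lit 0x210543876), (nat_lit 0x543210876), (nat_lit 0x435876210),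 (nat_lit 0x354687210), (nat_lit 0x354876021), (nat_lit 0x687210543), (nat_lit 0x543768210), (nat_lit 0x543687021), (nat_lit 0x876021543), (nat_lit 0x543876102), (nat_lit 0x876210354), (nat_lit 0x687435210), (nat_lit 0x876435021), (nat_lit 0x210768543), (nat_lit 0x768354210), (nat_lit 0x687354021), (nat_lit 0x21687543), (nat_lit 0x876354102), (nat_lit 0x210687354), (nat_lit 0x210354876), (nat_lit 0x543021876), (nat_lit 0x768543021), (nat_lit 0x102876543), (nat_lit 0x687543102), (nat_lit 0x21876354), (nat_lit 0x21543876), (nat_lit 0x354210876), (nat_lit 0x210876435), (nat_lit 0x210543687), (nat_lit 0x543210687), (nat_lit 0x435687210), (nat_lit 0x435876021), (nat_lit 0x768210543), (nat_lit 0x354768210), (nat_lit 0x354687021), (nat_lit 0x687021543), (nat_lit 0x354876102), (nat_lit 0x687210354), (nat_lit 0x543768021), (nat_lit 0x876102543), (nat_lit 0x543687102), (nat_lit 0x876021354), (nat_lit 0x876210435),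 (nat_lit 0x768435210), (nat_lit 0x687435021), (nat_lit 0x21768543), (nat_lit 0x876435102), (nat_lit 0x210768354), (nat_lit 0x210435876), (nat_lit 0x543102876), (nat_lit 0x768354021), (nat_lit 0x102687543), (nat_lit 0x687354102), (nat_lit 0x21687354), (nat_lit 0x21354876), (nat_lit 0x354021876), (nat_lit 0x210687435), (nat_lit 0x210354687), (nat_lit 0x543021687), (nat_lit 0x768543102), (nat_lit 0x102876354), (nat_lit 0x102543876), (nat_lit 0x435210876), (nat_lit 0x21876435), (nat_lit 0x21543687), (nat_lit 0x354210687), (nat_lit 0x210543768), (nat_lit 0x543210768), (nat_lit 0x435768210), (nat_lit 0x435687021), (nat_lit 0x768021543), (nat_lit 0x435876102), (nat_lit 0x768210354), (nat_lit 0x354768021), (nat_lit 0x687102543), (nat_lit 0x354687102), (nat_lit 0x687021354), (nat_lit 0x687210435), (nat_lit 0x543768102), (nat_lit 0x876102354), (nat_lit 0x876021435), (nat_lit 0x768435021), (nat_lit 0x102768543),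 (nat_lit 0x687435102), (nat_lit 0x21768354), (nat_lit 0x21435876), (nat_lit 0x354102876), (nat_lit 0x210768435), (nat_lit 0x210435687), (nat_lit 0x543102687), (nat_lit 0x768354102), (nat_lit 0x102687354), (nat_lit 0x102354876), (nat_lit 0x435021876), (nat_lit 0x21687435), (nat_lit 0x21354687), (nat_lit 0x354021687), (nat_lit 0x210354768), (nat_lit 0x543021768), (nat_lit 0x102876435), (nat_lit 0x102543687), (nat_lit 0x435210687), (nat_lit 0x21543768), (nat_lit 0x354210768), (nat_lit 0x435768021), (nat_lit 0x768102543), (nat_lit 0x435687102), (nat_lit 0x768021354), (nat_lit 0x768210435), (nat_lit 0x354768102), (nat_lit 0x687102354), (nat_lit 0x687021435), (nat_lit 0x876102435), (nat_lit 0x768435102), (nat_lit 0x102768354), (nat_lit 0x102435876), (nat_lit 0x435102876), (nat_lit 0x21768435), (nat_lit 0x21435687), (nat_lit 0x354102687), (nat_lit 0x210435768), (nat_lit 0x543102768), (nat_lit 0x102687435),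 (nat_lit 0x102354687), (nat_lit 0x435021687), (nat_lit 0x21354768), (nat_lit 0x354021768), (nat_lit 0x102543768), (nat_lit 0x435210768), (nat_lit 0x435768102), (nat_lit 0x768102354), (nat_lit 0x768021435), (nat_lit 0x687102435), (nat_lit 0x102768435), (nat_lit 0x102435687), (nat_lit 0x435102687), (nat_lit 0x21435768), (nat_lit 0x354102768), (nat_lit 0x102354768), (nat_lit 0x435021768), (nat_lit 0x768102435), (nat_lit 0x102435768), (nat_lit 0x435102768)]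
noncomputable def KK2x_lB_W : List (List ℕ) := [[],
  [(nat_lit 0)],
  [(nat_lit 1)],
  [(nat_lit 2)],
  [(nat_lit 3)],
  [(nat_lit 4)],
  [(nat_lit 0), (nat_lit 1)],
  [(nat_lit 0), (nat_lit 2)],
  [(nat_lit 0), (nat_lit 3)],
  [(nat_lit 0), (nat_lit 4)],
  [(nat_lit 1), (nat_lit 1)],
  [(nat_lit 1), (nat_lit 2)],
  [(nat_lit 1), (nat_lit 3)],
  [(nat_lit 1), (nat_lit 4)],
  [(nat_lit 2), (nat_lit 2)],
  [(nat_lit 2), (nat_lit 3)],
  [(nat_lit 2), (nat_lit 4)],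
  [(nat_lit 3), (nat_lit 3)],
  [(nat_lit 3), (nat_lit 4)],
  [(nat_lit 4), (nat_lit 0)],
  [(nat_lit 4), (nat_lit 4)],
  [(nat_lit 0), (nat_lit 1), (nat_lit 1)],
  [(nat_lit 0), (nat_lit 1), (nat_lit 2)],
  [(nat_lit 0), (nat_lit 1), (nat_lit 3)],
  [(nat_lit 0), (nat_lit 1), (nat_lit 4)],
  [(nat_lit 0), (nat_lit 2), (nat_lit 2)],
  [(nat_lit 0), (nat_lit 2), (nat_lit 3)],
  [(nat_lit 0), (nat_lit 2), (nat_lit 4)],
  [(nat_lit 0), (nat_lit 3), (nat_lit 3)],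
  [(nat_lit 0), (nat_lit 3), (nat_lit 4)],
  [(nat_lit 1), (nat_lit 1), (nat_lit 2)],
  [(nat_lit 1), (nat_lit 1), (nat_lit 3)],
  [(nat_lit 1), (nat_lit 1), (nat_lit 4)],
  [(nat_lit 1), (nat_lit 2), (nat_lit 2)],
  [(nat_lit 1), (nat_lit 2), (nat_lit 3)],
  [(nat_lit 1), (nat_lit 2), (nat_lit 4)],
  [(nat_lit 1), (nat_lit 3), (nat_lit 3)],
  [(nat_lit 1), (nat_lit 3), (nat_lit 4)],
  [(nat_lit 1), (nat_lit 4), (nat_lit 0)],
  [(nat_lit 1), (nat_lit 4), (nat_lit 4)],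
  [(nat_lit 2), (nat_lit 2), (nat_lit 3)],
  [(nat_lit 2), (nat_lit 2), (nat_lit 4)],
  [(nat_lit 2), (nat_lit 3), (nat_lit 3)],
  [(nat_lit 2), (nat_lit 3), (nat_lit 4)],
  [(nat_lit 2), (nat_lit 4), (nat_lit 0)],
  [(nat_lit 2), (nat_lit 4), (nat_lit 4)],
  [(nat_lit 3), (nat_lit 3), (nat_lit 4)],
  [(nat_lit 3), (nat_lit 4), (nat_lit 0)],
  [(nat_lit 3), (nat_lit 4), (nat_lit 4)],
  [(nat_lit 0), (nat_lit 1), (nat_lit 1), (nat_lit 2)],
  [(nat_lit 0), (nat_lit 1), (nat_lit 1), (nat_lit 3)],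
  [(nat_lit 0), (nat_lit 1), (nat_lit 1), (nat_lit 4)],
  [(nat_lit 0), (nat_lit 1), (nat_lit 2), (nat_lit 2)],
  [(nat_lit 0), (nat_lit 1), (nat_lit 2), (nat_lit 3)],
  [(nat_lit 0), (nat_lit 1), (nat_lit 2), (nat_lit 4)],
  [(nat_lit 0), (nat_lit 1), (nat_lit 3), (nat_lit 3)],
  [(nat_lit 0), (nat_lit 1), (nat_lit 3), (nat_lit 4)],
  [(nat_lit 0), (nat_lit 2), (nat_lit 2), (nat_lit 3)],
  [(nat_lit 0), (nat_lit 2), (nat_lit 2), (nat_lit 4)],
  [(nat_lit 0), (nat_lit 2), (nat_lit 3), (nat_lit 3)],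
  [(nat_lit 0), (nat_lit 2), (nat_lit 3), (nat_lit 4)],
  [(nat_lit 0), (nat_lit 3), (nat_lit 3), (nat_lit 4)],
  [(nat_lit 1), (nat_lit 1), (nat_lit 2), (nat_lit 2)],
  [(nat_lit 1), (nat_lit 1), (nat_lit 2), (nat_lit 3)],
  [(nat_lit 1), (nat_lit 1), (nat_lit 2), (nat_lit 4)],
  [(nat_lit 1), (nat_lit 1), (nat_lit 3), (nat_lit 3)],
  [(nat_lit 1), (nat_lit 1), (nat_lit 3), (nat_lit 4)],
  [(nat_lit 1), (nat_lit 1), (nat_lit 4), (nat_lit 0)],
  [(nat_lit 1), (nat_lit 1), (nat_lit 4), (nat_lit 4)],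
  [(nat_lit 1), (nat_lit 2), (nat_lit 2), (nat_lit 3)],
  [(nat_lit 1), (nat_lit 2), (nat_lit 2), (nat_lit 4)],
  [(nat_lit 1), (nat_lit 2), (nat_lit 3), (nat_lit 3)],
  [(nat_lit 1), (nat_lit 2), (nat_lit 3), (nat_lit 4)],
  [(nat_lit 1), (nat_lit 2), (nat_lit 4), (nat_lit 0)],
  [(nat_lit 1), (nat_lit 2), (nat_lit 4), (nat_lit 4)],
  [(nat_lit 1), (nat_lit 3), (nat_lit 3), (nat_lit 4)],
  [(nat_lit 1), (nat_lit 3), (nat_lit 4), (nat_lit 0)],
  [(nat_lit 1), (nat_lit 3), (nat_lit 4), (nat_lit 4)],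
  [(nat_lit 2), (nat_lit 2), (nat_lit 3), (nat_lit 3)],
  [(nat_lit 2), (nat_lit 2), (nat_lit 3), (nat_lit 4)],
  [(nat_lit 2), (nat_lit 2), (nat_lit 4), (nat_lit 0)],
  [(nat_lit 2), (nat_lit 2), (nat_lit 4), (nat_lit 4)],
  [(nat_lit 2), (nat_lit 3), (nat_lit 3), (nat_lit 4)],
  [(nat_lit 2), (nat_lit 3), (nat_lit 4), (nat_lit 0)],
  [(nat_lit 2), (nat_lit 3), (nat_lit 4), (nat_lit 4)],
  [(nat_lit 3), (nat_lit 3), (nat_lit 4), (nat_lit 0)],
  [(nat_lit 3), (nat_lit 3), (nat_lit 4), (nat_lit 4)],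
  [(nat_lit 0), (nat_lit 1), (nat_lit 1), (nat_lit 2), (nat_lit 2)],
  [(nat_lit 0), (nat_lit 1), (nat_lit 1), (nat_lit 2), (nat_lit 3)],
  [(nat_lit 0), (nat_lit 1), (nat_lit 1), (nat_lit 2), (nat_lit 4)],
  [(nat_lit 0), (nat_lit 1), (nat_lit 1), (nat_lit 3), (nat_lit 3)],
  [(nat_lit 0), (nat_lit 1), (nat_lit 1), (nat_lit 3), (nat_lit 4)],
  [(nat_lit 0), (nat_lit 1), (nat_lit 2), (nat_lit 2), (nat_lit 3)],
  [(nat_lit 0), (nat_lit 1), (nat_lit 2), (nat_lit 2), (nat_lit 4)],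
  [(nat_lit 0), (nat_lit 1), (nat_lit 2), (nat_lit 3), (nat_lit 3)],
  [(nat_lit 0), (nat_lit 1), (nat_lit 2), (nat_lit 3), (nat_lit 4)],
  [(nat_lit 0), (nat_lit 1), (nat_lit 3), (nat_lit 3), (nat_lit 4)],
  [(nat_lit 0), (nat_lit 2), (nat_lit 2), (nat_lit 3), (nat_lit 3)],
  [(nat_lit 0), (nat_lit 2), (nat_lit 2), (nat_lit 3), (nat_lit 4)],
  [(nat_lit 0), (nat_lit 2), (nat_lit 3), (nat_lit 3), (nat_lit 4)],
  [(nat_lit 1), (nat_lit 1), (nat_lit 2), (nat_lit 2), (nat_lit 3)],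
  [(nat_lit 1), (nat_lit 1), (nat_lit 2), (nat_lit 2), (nat_lit 4)],
  [(nat_lit 1), (nat_lit 1), (nat_lit 2), (nat_lit 3), (nat_lit 3)],
  [(nat_lit 1), (nat_lit 1), (nat_lit 2), (nat_lit 3), (nat_lit 4)],
  [(nat_lit 1), (nat_lit 1), (nat_lit 2), (nat_lit 4), (nat_lit 0)],
  [(nat_lit 1), (nat_lit 1), (nat_lit 2), (nat_lit 4), (nat_lit 4)],
  [(nat_lit 1), (nat_lit 1), (nat_lit 3), (nat_lit 3), (nat_lit 4)],
  [(nat_lit 1), (nat_lit 1), (nat_lit 3), (nat_lit 4), (nat_lit 0)],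
  [(nat_lit 1), (nat_lit 1), (nat_lit 3), (nat_lit 4), (nat_lit 4)],
  [(nat_lit 1), (nat_lit 2), (nat_lit 2), (nat_lit 3), (nat_lit 3)],
  [(nat_lit 1), (nat_lit 2), (nat_lit 2), (nat_lit 3), (nat_lit 4)],
  [(nat_lit 1), (nat_lit 2), (nat_lit 2), (nat_lit 4), (nat_lit 0)],
  [(nat_lit 1), (nat_lit 2), (nat_lit 2), (nat_lit 4), (nat_lit 4)],
  [(nat_lit 1), (nat_lit 2), (nat_lit 3), (nat_lit 3), (nat_lit 4)],
  [(nat_lit 1), (nat_lit 2), (nat_lit 3), (nat_lit 4), (nat_lit 0)],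
  [(nat_lit 1), (nat_lit 2), (nat_lit 3), (nat_lit 4), (nat_lit 4)],
  [(nat_lit 1), (nat_lit 3), (nat_lit 3), (nat_lit 4), (nat_lit 0)],
  [(nat_lit 1), (nat_lit 3), (nat_lit 3), (nat_lit 4), (nat_lit 4)],
  [(nat_lit 2), (nat_lit 2), (nat_lit 3), (nat_lit 3), (nat_lit 4)],
  [(nat_lit 2), (nat_lit 2), (nat_lit 3), (nat_lit 4), (nat_lit 0)],
  [(nat_lit 2), (nat_lit 2), (nat_lit 3), (nat_lit 4), (nat_lit 4)],
  [(nat_lit 2), (nat_lit 3), (nat_lit 3), (nat_lit 4), (nat_lit 0)],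
  [(nat_lit 2), (nat_lit 3), (nat_lit 3), (nat_lit 4), (nat_lit 4)],
  [(nat_lit 0), (nat_lit 1), (nat_lit 1), (nat_lit 2), (nat_lit 2), (nat_lit 3)],
  [(nat_lit 0), (nat_lit 1), (nat_lit 1), (nat_lit 2), (nat_lit 2), (nat_lit 4)],
  [(nat_lit 0), (nat_lit 1), (nat_lit 1), (nat_lit 2), (nat_lit 3), (nat_lit 3)],
  [(nat_lit 0), (nat_lit 1), (nat_lit 1), (nat_lit 2), (nat_lit 3), (nat_lit 4)],
  [(nat_lit 0), (nat_lit 1), (nat_lit 1), (nat_lit 3), (nat_lit 3), (nat_lit 4)],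
  [(nat_lit 0), (nat_lit 1), (nat_lit 2), (nat_lit 2), (nat_lit 3), (nat_lit 3)],
  [(nat_lit 0), (nat_lit 1), (nat_lit 2), (nat_lit 2), (nat_lit 3), (nat_lit 4)],
  [(nat_lit 0), (nat_lit 1), (nat_lit 2), (nat_lit 3), (nat_lit 3), (nat_lit 4)],
  [(nat_lit 0), (nat_lit 2), (nat_lit 2), (nat_lit 3), (nat_lit 3), (nat_lit 4)],
  [(nat_lit 1), (nat_lit 1), (nat_lit 2), (nat_lit 2), (nat_lit 3), (nat_lit 3)],
  [(nat_lit 1), (nat_lit 1), (nat_lit 2), (nat_lit 2), (nat_lit 3), (nat_lit 4)],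
  [(nat_lit 1), (nat_lit 1), (nat_lit 2), (nat_lit 2), (nat_lit 4), (nat_lit 0)],
  [(nat_lit 1), (nat_lit 1), (nat_lit 2), (nat_lit 2), (nat_lit 4), (nat_lit 4)],
  [(nat_lit 1), (nat_lit 1), (nat_lit 2), (nat_lit 3), (nat_lit 3), (nat_lit 4)],
  [(nat_lit 1), (nat_lit 1), (nat_lit 2), (nat_lit 3), (nat_lit 4), (nat_lit 0)],
  [(nat_lit 1), (nat_lit 1), (nat_lit 2), (nat_lit 3), (nat_lit 4), (nat_lit 4)],
  [(nat_lit 1), (nat_lit 1), (nat_lit 3), (nat_lit 3), (nat_lit 4), (nat_lit 0)],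
  [(nat_lit 1), (nat_lit 1), (nat_lit 3), (nat_lit 3), (nat_lit 4), (nat_lit 4)],
  [(nat_lit 1), (nat_lit 2), (nat_lit 2), (nat_lit 3), (nat_lit 3), (nat_lit 4)],
  [(nat_lit 1), (nat_lit 2), (nat_lit 2), (nat_lit 3), (nat_lit 4), (nat_lit 0)],
  [(nat_lit 1), (nat_lit 2), (nat_lit 2), (nat_lit 3), (nat_lit 4), (nat_lit 4)],
  [(nat_lit 1), (nat_lit 2), (nat_lit 3), (nat_lit 3), (nat_lit 4), (nat_lit 0)],
  [(nat_lit 1), (nat_lit 2), (nat_lit 3), (nat_lit 3), (nat_lit 4), (nat_lit 4)],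
  [(nat_lit 2), (nat_lit 2), (nat_lit 3), (nat_lit 3), (nat_lit 4), (nat_lit 0)],
  [(nat_lit 2), (nat_lit 2), (nat_lit 3), (nat_lit 3), (nat_lit 4), (nat_lit 4)],
  [(nat_lit 0), (nat_lit 1), (nat_lit 1), (nat_lit 2), (nat_lit 2), (nat_lit 3), (nat_lit 3)],
  [(nat_lit 0), (nat_lit 1), (nat_lit 1), (nat_lit 2), (nat_lit 2), (nat_lit 3), (nat_lit 4)],
  [(nat_lit 0), (nat_lit 1), (nat_lit 1), (nat_lit 2), (nat_lit 3), (nat_lit 3), (nat_lit 4)],
  [(nat_lit 0), (nat_lit 1), (nat_lit 2), (nat_lit 2), (nat_lit 3), (nat_lit 3), (nat_lit 4)],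
  [(nat_lit 1), (nat_lit 1), (nat_lit 2), (nat_lit 2), (nat_lit 3), (nat_lit 3), (nat_lit 4)],
  [(nat_lit 1), (nat_lit 1), (nat_lit 2), (nat_lit 2), (nat_lit 3), (nat_lit 4), (nat_lit 0)],
  [(nat_lit 1), (nat_lit 1), (nat_lit 2), (nat_lit 2), (nat_lit 3), (nat_lit 4), (nat_lit 4)],
  [(nat_lit 1), (nat_lit 1), (nat_lit 2), (nat_lit 3), (nat_lit 3), (nat_lit 4), (nat_lit 0)],
  [(nat_lit 1), (nat_lit 1), (nat_lit 2), (nat_lit 3), (nat_lit 3), (nat_lit 4), (nat_lit 4)],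
  [(nat_lit 1), (nat_lit 2), (nat_lit 2), (nat_lit 3), (nat_lit 3), (nat_lit 4), (nat_lit 0)],
  [(nat_lit 1), (nat_lit 2), (nat_lit 2), (nat_lit 3), (nat_lit 3), (nat_lit 4), (nat_lit 4)],
  [(nat_lit 0), (nat_lit 1), (nat_lit 1), (nat_lit 2), (nat_lit 2), (nat_lit 3), (nat_lit 3), (nat_lit 4)],
  [(nat_lit 1), (nat_lit 1), (nat_lit 2), (nat_lit 2), (nat_lit 3), (nat_lit 3), (nat_lit 4), (nat_lit 0)],
  [(nat_lit 1), (nat_lit 1), (nat_lit 2), (nat_lit 2), (nat_lit 3), (nat_lit 3), (nat_lit 4), (nat_lit 4)]]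
noncomputable def KK2x_lB_h (c : ℕ) : ℕ := Nat.mod c (nat_lit 1813)
theorem KK2x_lB_E {G : Type*} [Group G] {R : ℕ → G → Prop} {s u v w e f z d2 d3 s2 s3 s0 : G} {H : Subgroup G}
    (M : Mdl KK2_o KK2x_cs KK2_L R [s, u, v, v⁻¹, w, w⁻¹, e, e⁻¹, f, f⁻¹, z, d2, d3, s2, s3, s0] H) :
    EnumS R KK2x_lB (sp [u, d2, d3, w, v]) :=
  enumS_sp M.μ.1 (M.reps.tms M.μ.1 [(.v (nat_lit 1)), (.v (nat_lit 11)), (.v (nat_lit 12)), (.v (nat_lit 4)), (.v (nat_lit 2))] (cs' := [(nat_lit 0x543876210), (nat_lit 0x876354210), (nat_lit 0x687543210), (nat_lit 0x876543021), (nat_lit 0x210876543)]) (by decide +kernel))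
    (Ws := KK2x_lB_W) (by decide +kernel) (by decide +kernel)
theorem KK2x_lB_c {G : Type*} [Group G] {R : ℕ → G → Prop} {s u v w e f z d2 d3 s2 s3 s0 : G} {H : Subgroup G}
    (M : Mdl KK2_o KK2x_cs KK2_L R [s, u, v, v⁻¹, w, w⁻¹, e, e⁻¹, f, f⁻¹, z, d2, d3, s2, s3, s0] H) :
    #(sp [u, d2, d3, w, v]) = 162 :=
  (KK2x_lB_E M).card M.μ (h := KK2x_lB_h) (by decide +kernel)
noncomputable def KK1x_lU : List ℕ := [(nat_lit 0x876543210), (nat_lit 0x210876543), (nat_lit 0x543210876)]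
noncomputable def KK1x_lU_W : List (List ℕ) := [[],
  [(nat_lit 1)],
  [(nat_lit 1), (nat_lit 1)]]
noncomputable def KK1x_lU_h (c : ℕ) : ℕ := Nat.mod c (nat_lit 4)
theorem KK1x_lU_E {G : Type*} [Group G] {R : ℕ → G → Prop} {s u v w e f z d2 d3 s2 s3 s0 : G} {H : Subgroup G}
    (M : Mdl KK1_o KK1x_cs KK1_L R [s, u, v, v⁻¹, w, w⁻¹, e, e⁻¹, f, f⁻¹, z, d2, d3, s2, s3, s0] H) :
    EnumS R KK1x_lU (sp [u, v]) :=
  enumS_sp M.μ.1 (M.reps.tms M.μ.1 [(.v (nat_lit 1)), (.v (nat_lit 2))] (cs' := [(nat_lit 0x876543210), (nat_lit 0x210876543)]) (by decide +kernel))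
    (Ws := KK1x_lU_W) (by decide +kernel) (by decide +kernel)
theorem KK1x_lU_c {G : Type*} [Group G] {R : ℕ → G → Prop} {s u v w e f z d2 d3 s2 s3 s0 : G} {H : Subgroup G}
    (M : Mdl KK1_o KK1x_cs KK1_L R [s, u, v, v⁻¹, w, w⁻¹, e, e⁻¹, f, f⁻¹, z, d2, d3, s2, s3, s0] H) :
    #(sp [u, v]) = 3 :=
  (KK1x_lU_E M).card M.μ (h := KK1x_lU_h) (by decide +kernel)
noncomputable def KK2x_lU : List ℕ := [(nat_lit 0x876543210), (nat_lit 0x543876210), (nat_lit 0x210876543), (nat_lit 0x876210543), (nat_lit 0x210543876), (nat_lit 0x543210876)]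
noncomputable def KK2x_lU_W : List (List ℕ) := [[],
  [(nat_lit 0)],
  [(nat_lit 1)],
  [(nat_lit 0), (nat_lit 1)],
  [(nat_lit 1), (nat_lit 0)],
  [(nat_lit 1), (nat_lit 1)]]
noncomputable def KK2x_lU_h (c : ℕ) : ℕ := Nat.mod c (nat_lit 11)
theorem KK2x_lU_E {G : Type*} [Group G] {R : ℕ → G → Prop} {s u v w e f z d2 d3 s2 s3 s0 : G} {H : Subgroup G}
    (M : Mdl KK2_o KK2x_cs KK2_L R [s, u, v, v⁻¹, w, w⁻¹, e, e⁻¹, f, f⁻¹, z, d2, d3, s2, s3, s0] H) :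
    EnumS R KK2x_lU (sp [u, v]) :=
  enumS_sp M.μ.1 (M.reps.tms M.μ.1 [(.v (nat_lit 1)), (.v (nat_lit 2))] (cs' := [(nat_lit 0x543876210), (nat_lit 0x210876543)]) (by decide +kernel))
    (Ws := KK2x_lU_W) (by decide +kernel) (by decide +kernel)
theorem KK2x_lU_c {G : Type*} [Group G] {R : ℕ → G → Prop} {s u v w e f z d2 d3 s2 s3 s0 : G} {H : Subgroup G}
    (M : Mdl KK2_o KK2x_cs KK2_L R [s, u, v, v⁻¹, w, w⁻¹, e, e⁻¹, f, f⁻¹, z, d2, d3, s2, s3, s0] H) :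
    #(sp [u, v]) = 6 :=
  (KK2x_lU_E M).card M.μ (h := KK2x_lU_h) (by decide +kernel)
noncomputable def KK1x_lY : List ℕ := [(nat_lit 0x876543210), (nat_lit 0x876543120), (nat_lit 0x876453210), (nat_lit 0x786543210), (nat_lit 0x876543021), (nat_lit 0x876543102), (nat_lit 0x876354210), (nat_lit 0x876435210), (nat_lit 0x687543210), (nat_lit 0x768543210), (nat_lit 0x876453120), (nat_lit 0x786543120), (nat_lit 0x876543201), (nat_lit 0x876543012), (nat_lit 0x876354120), (nat_lit 0x876435120), (nat_lit 0x687543120), (nat_lit 0x768543120), (nat_lit 0x786453210), (nat_lit 0x876453021), (nat_lit 0x876453102), (nat_lit 0x876534210), (nat_lit 0x876345210), (nat_lit 0x687453210), (nat_lit 0x768453210), (nat_lit 0x786543021), (nat_lit 0x786543102), (nat_lit 0x786354210), (nat_lit 0x786435210), (nat_lit 0x867543210), (nat_lit 0x678543210), (nat_lit 0x876354021), (nat_lit 0x876435021), (nat_lit 0x687543021),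 (nat_lit 0x768543021), (nat_lit 0x876354102), (nat_lit 0x876435102), (nat_lit 0x687543102), (nat_lit 0x768543102), (nat_lit 0x687354210), (nat_lit 0x768354210), (nat_lit 0x687435210), (nat_lit 0x768435210), (nat_lit 0x786453120), (nat_lit 0x876453201), (nat_lit 0x876453012), (nat_lit 0x876534120), (nat_lit 0x876345120), (nat_lit 0x687453120), (nat_lit 0x768453120), (nat_lit 0x786543201), (nat_lit 0x786543012), (nat_lit 0x786354120), (nat_lit 0x786435120), (nat_lit 0x867543120), (nat_lit 0x678543120), (nat_lit 0x876354201), (nat_lit 0x876435201), (nat_lit 0x687543201), (nat_lit 0x768543201), (nat_lit 0x876354012), (nat_lit 0x876435012), (nat_lit 0x687543012), (nat_lit 0x768543012), (nat_lit 0x687354120), (nat_lit 0x768354120), (nat_lit 0x687435120), (nat_lit 0x768435120), (nat_lit 0x786453021), (nat_lit 0x786453102), (nat_lit 0x786534210), (nat_lit 0x786345210), (nat_lit 0x867453210), (nat_lit 0x678453210),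 (nat_lit 0x876534021), (nat_lit 0x876345021), (nat_lit 0x687453021), (nat_lit 0x768453021), (nat_lit 0x876534102), (nat_lit 0x876345102), (nat_lit 0x687453102), (nat_lit 0x768453102), (nat_lit 0x687534210), (nat_lit 0x768534210), (nat_lit 0x687345210), (nat_lit 0x768345210), (nat_lit 0x786354021), (nat_lit 0x786435021), (nat_lit 0x867543021), (nat_lit 0x678543021), (nat_lit 0x786354102), (nat_lit 0x786435102), (nat_lit 0x867543102), (nat_lit 0x678543102), (nat_lit 0x867354210), (nat_lit 0x678354210), (nat_lit 0x867435210), (nat_lit 0x678435210), (nat_lit 0x687354021), (nat_lit 0x768354021), (nat_lit 0x687435021), (nat_lit 0x768435021), (nat_lit 0x687354102), (nat_lit 0x768354102), (nat_lit 0x687435102), (nat_lit 0x768435102), (nat_lit 0x786453201), (nat_lit 0x786453012), (nat_lit 0x786534120), (nat_lit 0x786345120), (nat_lit 0x867453120), (nat_lit 0x678453120), (nat_lit 0x876534201), (nat_lit 0x876345201),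 (nat_lit 0x687453201), (nat_lit 0x768453201), (nat_lit 0x876534012), (nat_lit 0x876345012), (nat_lit 0x687453012), (nat_lit 0x768453012), (nat_lit 0x687534120), (nat_lit 0x768534120), (nat_lit 0x687345120), (nat_lit 0x768345120), (nat_lit 0x786354201), (nat_lit 0x786435201), (nat_lit 0x867543201), (nat_lit 0x678543201), (nat_lit 0x786354012), (nat_lit 0x786435012), (nat_lit 0x867543012), (nat_lit 0x678543012), (nat_lit 0x867354120), (nat_lit 0x678354120), (nat_lit 0x867435120), (nat_lit 0x678435120), (nat_lit 0x687354201), (nat_lit 0x768354201), (nat_lit 0x687435201), (nat_lit 0x768435201), (nat_lit 0x687354012), (nat_lit 0x768354012), (nat_lit 0x687435012), (nat_lit 0x768435012), (nat_lit 0x786534021), (nat_lit 0x786345021), (nat_lit 0x867453021), (nat_lit 0x678453021), (nat_lit 0x786534102), (nat_lit 0x786345102), (nat_lit 0x867453102), (nat_lit 0x678453102), (nat_lit 0x867534210), (nat_lit 0x678534210),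 (nat_lit 0x867345210), (nat_lit 0x678345210), (nat_lit 0x687534021), (nat_lit 0x768534021), (nat_lit 0x687345021), (nat_lit 0x768345021), (nat_lit 0x687534102), (nat_lit 0x768534102), (nat_lit 0x687345102), (nat_lit 0x768345102), (nat_lit 0x867354021), (nat_lit 0x678354021), (nat_lit 0x867435021), (nat_lit 0x678435021), (nat_lit 0x867354102), (nat_lit 0x678354102), (nat_lit 0x867435102), (nat_lit 0x678435102), (nat_lit 0x786534201), (nat_lit 0x786345201), (nat_lit 0x867453201), (nat_lit 0x678453201), (nat_lit 0x786534012), (nat_lit 0x786345012), (nat_lit 0x867453012), (nat_lit 0x678453012), (nat_lit 0x867534120), (nat_lit 0x678534120), (nat_lit 0x867345120), (nat_lit 0x678345120), (nat_lit 0x687534201), (nat_lit 0x768534201), (nat_lit 0x687345201), (nat_lit 0x768345201), (nat_lit 0x687534012), (nat_lit 0x768534012), (nat_lit 0x687345012), (nat_lit 0x768345012), (nat_lit 0x867354201), (nat_lit 0x678354201),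 (nat_lit 0x867435201), (nat_lit 0x678435201), (nat_lit 0x867354012), (nat_lit 0x678354012), (nat_lit 0x867435012), (nat_lit 0x678435012), (nat_lit 0x867534021), (nat_lit 0x678534021), (nat_lit 0x867345021), (nat_lit 0x678345021), (nat_lit 0x867534102), (nat_lit 0x678534102), (nat_lit 0x867345102), (nat_lit 0x678345102), (nat_lit 0x867534201), (nat_lit 0x678534201), (nat_lit 0x867345201), (nat_lit 0x678345201), (nat_lit 0x867534012), (nat_lit 0x678534012), (nat_lit 0x867345012), (nat_lit 0x678345012)]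
noncomputable def KK1x_lY_W : List (List ℕ) := [[],
  [(nat_lit 0)],
  [(nat_lit 1)],
  [(nat_lit 2)],
  [(nat_lit 3)],
  [(nat_lit 4)],
  [(nat_lit 5)],
  [(nat_lit 6)],
  [(nat_lit 7)],
  [(nat_lit 8)],
  [(nat_lit 0), (nat_lit 1)],
  [(nat_lit 0), (nat_lit 2)],
  [(nat_lit 0), (nat_lit 3)],
  [(nat_lit 0), (nat_lit 4)],
  [(nat_lit 0), (nat_lit 5)],
  [(nat_lit 0), (nat_lit 6)],
  [(nat_lit 0), (nat_lit 7)],
  [(nat_lit 0), (nat_lit 8)],
  [(nat_lit 1), (nat_lit 2)],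
  [(nat_lit 1), (nat_lit 3)],
  [(nat_lit 1), (nat_lit 4)],
  [(nat_lit 1), (nat_lit 5)],
  [(nat_lit 1), (nat_lit 6)],
  [(nat_lit 1), (nat_lit 7)],
  [(nat_lit 1), (nat_lit 8)],
  [(nat_lit 2), (nat_lit 3)],
  [(nat_lit 2), (nat_lit 4)],
  [(nat_lit 2), (nat_lit 5)],
  [(nat_lit 2), (nat_lit 6)],
  [(nat_lit 2), (nat_lit 7)],
  [(nat_lit 2), (nat_lit 8)],
  [(nat_lit 3), (nat_lit 5)],
  [(nat_lit 3), (nat_lit 6)],
  [(nat_lit 3), (nat_lit 7)],
  [(nat_lit 3), (nat_lit 8)],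
  [(nat_lit 4), (nat_lit 5)],
  [(nat_lit 4), (nat_lit 6)],
  [(nat_lit 4), (nat_lit 7)],
  [(nat_lit 4), (nat_lit 8)],
  [(nat_lit 5), (nat_lit 7)],
  [(nat_lit 5), (nat_lit 8)],
  [(nat_lit 6), (nat_lit 7)],
  [(nat_lit 6), (nat_lit 8)],
  [(nat_lit 0), (nat_lit 1), (nat_lit 2)],
  [(nat_lit 0), (nat_lit 1), (nat_lit 3)],
  [(nat_lit 0), (nat_lit 1), (nat_lit 4)],
  [(nat_lit 0), (nat_lit 1), (nat_lit 5)],
  [(nat_lit 0), (nat_lit 1), (nat_lit 6)],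
  [(nat_lit 0), (nat_lit 1), (nat_lit 7)],
  [(nat_lit 0), (nat_lit 1), (nat_lit 8)],
  [(nat_lit 0), (nat_lit 2), (nat_lit 3)],
  [(nat_lit 0), (nat_lit 2), (nat_lit 4)],
  [(nat_lit 0), (nat_lit 2), (nat_lit 5)],
  [(nat_lit 0), (nat_lit 2), (nat_lit 6)],
  [(nat_lit 0), (nat_lit 2), (nat_lit 7)],
  [(nat_lit 0), (nat_lit 2), (nat_lit 8)],
  [(nat_lit 0), (nat_lit 3), (nat_lit 5)],
  [(nat_lit 0), (nat_lit 3), (nat_lit 6)],
  [(nat_lit 0), (nat_lit 3), (nat_lit 7)],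
  [(nat_lit 0), (nat_lit 3), (nat_lit 8)],
  [(nat_lit 0), (nat_lit 4), (nat_lit 5)],
  [(nat_lit 0), (nat_lit 4), (nat_lit 6)],
  [(nat_lit 0), (nat_lit 4), (nat_lit 7)],
  [(nat_lit 0), (nat_lit 4), (nat_lit 8)],
  [(nat_lit 0), (nat_lit 5), (nat_lit 7)],
  [(nat_lit 0), (nat_lit 5), (nat_lit 8)],
  [(nat_lit 0), (nat_lit 6), (nat_lit 7)],
  [(nat_lit 0), (nat_lit 6), (nat_lit 8)],
  [(nat_lit 1), (nat_lit 2), (nat_lit 3)],
  [(nat_lit 1), (nat_lit 2), (nat_lit 4)],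
  [(nat_lit 1), (nat_lit 2), (nat_lit 5)],
  [(nat_lit 1), (nat_lit 2), (nat_lit 6)],
  [(nat_lit 1), (nat_lit 2), (nat_lit 7)],
  [(nat_lit 1), (nat_lit 2), (nat_lit 8)],
  [(nat_lit 1), (nat_lit 3), (nat_lit 5)],
  [(nat_lit 1), (nat_lit 3), (nat_lit 6)],
  [(nat_lit 1), (nat_lit 3), (nat_lit 7)],
  [(nat_lit 1), (nat_lit 3), (nat_lit 8)],
  [(nat_lit 1), (nat_lit 4), (nat_lit 5)],
  [(nat_lit 1), (nat_lit 4), (nat_lit 6)],
  [(nat_lit 1), (nat_lit 4), (nat_lit 7)],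
  [(nat_lit 1), (nat_lit 4), (nat_lit 8)],
  [(nat_lit 1), (nat_lit 5), (nat_lit 7)],
  [(nat_lit 1), (nat_lit 5), (nat_lit 8)],
  [(nat_lit 1), (nat_lit 6), (nat_lit 7)],
  [(nat_lit 1), (nat_lit 6), (nat_lit 8)],
  [(nat_lit 2), (nat_lit 3), (nat_lit 5)],
  [(nat_lit 2), (nat_lit 3), (nat_lit 6)],
  [(nat_lit 2), (nat_lit 3), (nat_lit 7)],
  [(nat_lit 2), (nat_lit 3), (nat_lit 8)],
  [(nat_lit 2), (nat_lit 4), (nat_lit 5)],
  [(nat_lit 2), (nat_lit 4), (nat_lit 6)],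
  [(nat_lit 2), (nat_lit 4), (nat_lit 7)],
  [(nat_lit 2), (nat_lit 4), (nat_lit 8)],
  [(nat_lit 2), (nat_lit 5), (nat_lit 7)],
  [(nat_lit 2), (nat_lit 5), (nat_lit 8)],
  [(nat_lit 2), (nat_lit 6), (nat_lit 7)],
  [(nat_lit 2), (nat_lit 6), (nat_lit 8)],
  [(nat_lit 3), (nat_lit 5), (nat_lit 7)],
  [(nat_lit 3), (nat_lit 5), (nat_lit 8)],
  [(nat_lit 3), (nat_lit 6), (nat_lit 7)],
  [(nat_lit 3), (nat_lit 6), (nat_lit 8)],
  [(nat_lit 4), (nat_lit 5), (nat_lit 7)],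
  [(nat_lit 4), (nat_lit 5), (nat_lit 8)],
  [(nat_lit 4), (nat_lit 6), (nat_lit 7)],
  [(nat_lit 4), (nat_lit 6), (nat_lit 8)],
  [(nat_lit 0), (nat_lit 1), (nat_lit 2), (nat_lit 3)],
  [(nat_lit 0), (nat_lit 1), (nat_lit 2), (nat_lit 4)],
  [(nat_lit 0), (nat_lit 1), (nat_lit 2), (nat_lit 5)],
  [(nat_lit 0), (nat_lit 1), (nat_lit 2), (nat_lit 6)],
  [(nat_lit 0), (nat_lit 1), (nat_lit 2), (nat_lit 7)],
  [(nat_lit 0), (nat_lit 1), (nat_lit 2), (nat_lit 8)],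
  [(nat_lit 0), (nat_lit 1), (nat_lit 3), (nat_lit 5)],
  [(nat_lit 0), (nat_lit 1), (nat_lit 3), (nat_lit 6)],
  [(nat_lit 0), (nat_lit 1), (nat_lit 3), (nat_lit 7)],
  [(nat_lit 0), (nat_lit 1), (nat_lit 3), (nat_lit 8)],
  [(nat_lit 0), (nat_lit 1), (nat_lit 4), (nat_lit 5)],
  [(nat_lit 0), (nat_lit 1), (nat_lit 4), (nat_lit 6)],
  [(nat_lit 0), (nat_lit 1), (nat_lit 4), (nat_lit 7)],
  [(nat_lit 0), (nat_lit 1), (nat_lit 4), (nat_lit 8)],
  [(nat_lit 0), (nat_lit 1), (nat_lit 5), (nat_lit 7)],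
  [(nat_lit 0), (nat_lit 1), (nat_lit 5), (nat_lit 8)],
  [(nat_lit 0), (nat_lit 1), (nat_lit 6), (nat_lit 7)],
  [(nat_lit 0), (nat_lit 1), (nat_lit 6), (nat_lit 8)],
  [(nat_lit 0), (nat_lit 2), (nat_lit 3), (nat_lit 5)],
  [(nat_lit 0), (nat_lit 2), (nat_lit 3), (nat_lit 6)],
  [(nat_lit 0), (nat_lit 2), (nat_lit 3), (nat_lit 7)],
  [(nat_lit 0), (nat_lit 2), (nat_lit 3), (nat_lit 8)],
  [(nat_lit 0), (nat_lit 2), (nat_lit 4), (nat_lit 5)],
  [(nat_lit 0), (nat_lit 2), (nat_lit 4), (nat_lit 6)],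
  [(nat_lit 0), (nat_lit 2), (nat_lit 4), (nat_lit 7)],
  [(nat_lit 0), (nat_lit 2), (nat_lit 4), (nat_lit 8)],
  [(nat_lit 0), (nat_lit 2), (nat_lit 5), (nat_lit 7)],
  [(nat_lit 0), (nat_lit 2), (nat_lit 5), (nat_lit 8)],
  [(nat_lit 0), (nat_lit 2), (nat_lit 6), (nat_lit 7)],
  [(nat_lit 0), (nat_lit 2), (nat_lit 6), (nat_lit 8)],
  [(nat_lit 0), (nat_lit 3), (nat_lit 5), (nat_lit 7)],
  [(nat_lit 0), (nat_lit 3), (nat_lit 5), (nat_lit 8)],
  [(nat_lit 0), (nat_lit 3), (nat_lit 6), (nat_lit 7)],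
  [(nat_lit 0), (nat_lit 3), (nat_lit 6), (nat_lit 8)],
  [(nat_lit 0), (nat_lit 4), (nat_lit 5), (nat_lit 7)],
  [(nat_lit 0), (nat_lit 4), (nat_lit 5), (nat_lit 8)],
  [(nat_lit 0), (nat_lit 4), (nat_lit 6), (nat_lit 7)],
  [(nat_lit 0), (nat_lit 4), (nat_lit 6), (nat_lit 8)],
  [(nat_lit 1), (nat_lit 2), (nat_lit 3), (nat_lit 5)],
  [(nat_lit 1), (nat_lit 2), (nat_lit 3), (nat_lit 6)],
  [(nat_lit 1), (nat_lit 2), (nat_lit 3), (nat_lit 7)],
  [(nat_lit 1), (nat_lit 2), (nat_lit 3), (nat_lit 8)],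
  [(nat_lit 1), (nat_lit 2), (nat_lit 4), (nat_lit 5)],
  [(nat_lit 1), (nat_lit 2), (nat_lit 4), (nat_lit 6)],
  [(nat_lit 1), (nat_lit 2), (nat_lit 4), (nat_lit 7)],
  [(nat_lit 1), (nat_lit 2), (nat_lit 4), (nat_lit 8)],
  [(nat_lit 1), (nat_lit 2), (nat_lit 5), (nat_lit 7)],
  [(nat_lit 1), (nat_lit 2), (nat_lit 5), (nat_lit 8)],
  [(nat_lit 1), (nat_lit 2), (nat_lit 6), (nat_lit 7)],
  [(nat_lit 1), (nat_lit 2), (nat_lit 6), (nat_lit 8)],
  [(nat_lit 1), (nat_lit 3), (nat_lit 5), (nat_lit 7)],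
  [(nat_lit 1), (nat_lit 3), (nat_lit 5), (nat_lit 8)],
  [(nat_lit 1), (nat_lit 3), (nat_lit 6), (nat_lit 7)],
  [(nat_lit 1), (nat_lit 3), (nat_lit 6), (nat_lit 8)],
  [(nat_lit 1), (nat_lit 4), (nat_lit 5), (nat_lit 7)],
  [(nat_lit 1), (nat_lit 4), (nat_lit 5), (nat_lit 8)],
  [(nat_lit 1), (nat_lit 4), (nat_lit 6), (nat_lit 7)],
  [(nat_lit 1), (nat_lit 4), (nat_lit 6), (nat_lit 8)],
  [(nat_lit 2), (nat_lit 3), (nat_lit 5), (nat_lit 7)],
  [(nat_lit 2), (nat_lit 3), (nat_lit 5), (nat_lit 8)],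
  [(nat_lit 2), (nat_lit 3), (nat_lit 6), (nat_lit 7)],
  [(nat_lit 2), (nat_lit 3), (nat_lit 6), (nat_lit 8)],
  [(nat_lit 2), (nat_lit 4), (nat_lit 5), (nat_lit 7)],
  [(nat_lit 2), (nat_lit 4), (nat_lit 5), (nat_lit 8)],
  [(nat_lit 2), (nat_lit 4), (nat_lit 6), (nat_lit 7)],
  [(nat_lit 2), (nat_lit 4), (nat_lit 6), (nat_lit 8)],
  [(nat_lit 0), (nat_lit 1), (nat_lit 2), (nat_lit 3), (nat_lit 5)],
  [(nat_lit 0), (nat_lit 1), (nat_lit 2), (nat_lit 3), (nat_lit 6)],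
  [(nat_lit 0), (nat_lit 1), (nat_lit 2), (nat_lit 3), (nat_lit 7)],
  [(nat_lit 0), (nat_lit 1), (nat_lit 2), (nat_lit 3), (nat_lit 8)],
  [(nat_lit 0), (nat_lit 1), (nat_lit 2), (nat_lit 4), (nat_lit 5)],
  [(nat_lit 0), (nat_lit 1), (nat_lit 2), (nat_lit 4), (nat_lit 6)],
  [(nat_lit 0), (nat_lit 1), (nat_lit 2), (nat_lit 4), (nat_lit 7)],
  [(nat_lit 0), (nat_lit 1), (nat_lit 2), (nat_lit 4), (nat_lit 8)],
  [(nat_lit 0), (nat_lit 1), (nat_lit 2), (nat_lit 5), (nat_lit 7)],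
  [(nat_lit 0), (nat_lit 1), (nat_lit 2), (nat_lit 5), (nat_lit 8)],
  [(nat_lit 0), (nat_lit 1), (nat_lit 2), (nat_lit 6), (nat_lit 7)],
  [(nat_lit 0), (nat_lit 1), (nat_lit 2), (nat_lit 6), (nat_lit 8)],
  [(nat_lit 0), (nat_lit 1), (nat_lit 3), (nat_lit 5), (nat_lit 7)],
  [(nat_lit 0), (nat_lit 1), (nat_lit 3), (nat_lit 5), (nat_lit 8)],
  [(nat_lit 0), (nat_lit 1), (nat_lit 3), (nat_lit 6), (nat_lit 7)],
  [(nat_lit 0), (nat_lit 1), (nat_lit 3), (nat_lit 6), (nat_lit 8)],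
  [(nat_lit 0), (nat_lit 1), (nat_lit 4), (nat_lit 5), (nat_lit 7)],
  [(nat_lit 0), (nat_lit 1), (nat_lit 4), (nat_lit 5), (nat_lit 8)],
  [(nat_lit 0), (nat_lit 1), (nat_lit 4), (nat_lit 6), (nat_lit 7)],
  [(nat_lit 0), (nat_lit 1), (nat_lit 4), (nat_lit 6), (nat_lit 8)],
  [(nat_lit 0), (nat_lit 2), (nat_lit 3), (nat_lit 5), (nat_lit 7)],
  [(nat_lit 0), (nat_lit 2), (nat_lit 3), (nat_lit 5), (nat_lit 8)],
  [(nat_lit 0), (nat_lit 2), (nat_lit 3), (nat_lit 6), (nat_lit 7)],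
  [(nat_lit 0), (nat_lit 2), (nat_lit 3), (nat_lit 6), (nat_lit 8)],
  [(nat_lit 0), (nat_lit 2), (nat_lit 4), (nat_lit 5), (nat_lit 7)],
  [(nat_lit 0), (nat_lit 2), (nat_lit 4), (nat_lit 5), (nat_lit 8)],
  [(nat_lit 0), (nat_lit 2), (nat_lit 4), (nat_lit 6), (nat_lit 7)],
  [(nat_lit 0), (nat_lit 2), (nat_lit 4), (nat_lit 6), (nat_lit 8)],
  [(nat_lit 1), (nat_lit 2), (nat_lit 3), (nat_lit 5), (nat_lit 7)],
  [(nat_lit 1), (nat_lit 2), (nat_lit 3), (nat_lit 5), (nat_lit 8)],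
  [(nat_lit 1), (nat_lit 2), (nat_lit 3), (nat_lit 6), (nat_lit 7)],
  [(nat_lit 1), (nat_lit 2), (nat_lit 3), (nat_lit 6), (nat_lit 8)],
  [(nat_lit 1), (nat_lit 2), (nat_lit 4), (nat_lit 5), (nat_lit 7)],
  [(nat_lit 1), (nat_lit 2), (nat_lit 4), (nat_lit 5), (nat_lit 8)],
  [(nat_lit 1), (nat_lit 2), (nat_lit 4), (nat_lit 6), (nat_lit 7)],
  [(nat_lit 1), (nat_lit 2), (nat_lit 4), (nat_lit 6), (nat_lit 8)],
  [(nat_lit 0), (nat_lit 1), (nat_lit 2), (nat_lit 3), (nat_lit 5), (nat_lit 7)],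
  [(nat_lit 0), (nat_lit 1), (nat_lit 2), (nat_lit 3), (nat_lit 5), (nat_lit 8)],
  [(nat_lit 0), (nat_lit 1), (nat_lit 2), (nat_lit 3), (nat_lit 6), (nat_lit 7)],
  [(nat_lit 0), (nat_lit 1), (nat_lit 2), (nat_lit 3), (nat_lit 6), (nat_lit 8)],
  [(nat_lit 0), (nat_lit 1), (nat_lit 2), (nat_lit 4), (nat_lit 5), (nat_lit 7)],
  [(nat_lit 0), (nat_lit 1), (nat_lit 2), (nat_lit 4), (nat_lit 5), (nat_lit 8)],
  [(nat_lit 0), (nat_lit 1), (nat_lit 2), (nat_lit 4), (nat_lit 6), (nat_lit 7)],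
  [(nat_lit 0), (nat_lit 1), (nat_lit 2), (nat_lit 4), (nat_lit 6), (nat_lit 8)]]
noncomputable def KK1x_lY_h (c : ℕ) : ℕ := Nat.mod c (nat_lit 2372)
theorem KK1x_lY_E {G : Type*} [Group G] {R : ℕ → G → Prop} {s u v w e f z d2 d3 s2 s3 s0 : G} {H : Subgroup G}
    (M : Mdl KK1_o KK1x_cs KK1_L R [s, u, v, v⁻¹, w, w⁻¹, e, e⁻¹, f, f⁻¹, z, d2, d3, s2, s3, s0] H) :
    EnumS R KK1x_lY (sp [s, s2, s3, w, w⁻¹, d2, d2⁻¹, d3, d3⁻¹]) :=
  enumS_sp M.μ.1 (M.reps.tms M.μ.1 [(.v (nat_lit 0)), (.v (nat_lit 13)), (.v (nat_lit 14)), (.v (nat_lit 4)), (.inv (.v (nat_lit 4))), (.v (nat_lit 11)), (.inv (.v (nat_lit 11))), (.v (nat_lit 12)), (.inv (.v (nat_lit 12)))] (cs' := [(nat_lit 0x876543120), (nat_lit 0x876453210), (nat_lit 0x786543210), (nat_lit 0x876543021), (nat_lit 0x876543102), (nat_lit 0x876354210), (nat_lit 0x876435210), (nat_lit 0x687543210), (nat_lit 0x768543210)]) (by decide +kernel))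
    (Ws := KK1x_lY_W) (by decide +kernel) (by decide +kernel)
theorem KK1x_lY_c {G : Type*} [Group G] {R : ℕ → G → Prop} {s u v w e f z d2 d3 s2 s3 s0 : G} {H : Subgroup G}
    (M : Mdl KK1_o KK1x_cs KK1_L R [s, u, v, v⁻¹, w, w⁻¹, e, e⁻¹, f, f⁻¹, z, d2, d3, s2, s3, s0] H) :
    #(sp [s, s2, s3, w, w⁻¹, d2, d2⁻¹, d3, d3⁻¹]) = 216 :=
  (KK1x_lY_E M).card M.μ (h := KK1x_lY_h) (by decide +kernel)
noncomputable def KK2x_lY : List ℕ := [(nat_lit 0x876543210), (nat_lit 0x876543120), (nat_lit 0x876453210), (nat_lit 0x786543210), (nat_lit 0x876543021), (nat_lit 0x876543102), (nat_lit 0x876354210), (nat_lit 0x876435210), (nat_lit 0x687543210), (nat_lit 0x768543210), (nat_lit 0x876453120), (nat_lit 0x786543120), (nat_lit 0x876543201), (nat_lit 0x876543012), (nat_lit 0x876354120), (nat_lit 0x876435120), (nat_lit 0x687543120), (nat_lit 0x768543120), (nat_lit 0x786453210), (nat_lit 0x876453021), (nat_lit 0x876453102),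 (nat_lit 0x876534210), (nat_lit 0x876345210), (nat_lit 0x687453210), (nat_lit 0x768453210), (nat_lit 0x786543021), (nat_lit 0x786543102), (nat_lit 0x786354210), (nat_lit 0x786435210), (nat_lit 0x867543210), (nat_lit 0x678543210), (nat_lit 0x876354021), (nat_lit 0x876435021), (nat_lit 0x687543021), (nat_lit 0x768543021), (nat_lit 0x876354102), (nat_lit 0x876435102), (nat_lit 0x687543102), (nat_lit 0x768543102), (nat_lit 0x687354210), (nat_lit 0x768354210), (nat_lit 0x687435210), (nat_lit 0x768435210), (nat_lit 0x786453120), (nat_lit 0x876453201), (nat_lit 0x876453012), (nat_lit 0x876534120), (nat_lit 0x876345120), (nat_lit 0x687453120), (nat_lit 0x768453120), (nat_lit 0x786543201), (nat_lit 0x786543012), (nat_lit 0x786354120), (nat_lit 0x786435120), (nat_lit 0x867543120), (nat_lit 0x678543120), (nat_lit 0x876354201), (nat_lit 0x876435201), (nat_lit 0x687543201), (nat_lit 0x768543201), (nat_lit 0x876354012),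 (nat_lit 0x876435012), (nat_lit 0x687543012), (nat_lit 0x768543012), (nat_lit 0x687354120), (nat_lit 0x768354120), (nat_lit 0x687435120), (nat_lit 0x768435120), (nat_lit 0x786453021), (nat_lit 0x786453102), (nat_lit 0x786534210), (nat_lit 0x786345210), (nat_lit 0x867453210), (nat_lit 0x678453210), (nat_lit 0x876534021), (nat_lit 0x876345021), (nat_lit 0x687453021), (nat_lit 0x768453021), (nat_lit 0x876534102), (nat_lit 0x876345102), (nat_lit 0x687453102), (nat_lit 0x768453102), (nat_lit 0x687534210), (nat_lit 0x768534210), (nat_lit 0x687345210), (nat_lit 0x768345210), (nat_lit 0x786354021), (nat_lit 0x786435021), (nat_lit 0x867543021), (nat_lit 0x678543021), (nat_lit 0x786354102), (nat_lit 0x786435102), (nat_lit 0x867543102), (nat_lit 0x678543102), (nat_lit 0x867354210), (nat_lit 0x678354210), (nat_lit 0x867435210), (nat_lit 0x678435210), (nat_lit 0x687354021), (nat_lit 0x768354021), (nat_lit 0x687435021),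 (nat_lit 0x768435021), (nat_lit 0x687354102), (nat_lit 0x768354102), (nat_lit 0x687435102), (nat_lit 0x768435102), (nat_lit 0x786453201), (nat_lit 0x786453012), (nat_lit 0x786534120), (nat_lit 0x786345120), (nat_lit 0x867453120), (nat_lit 0x678453120), (nat_lit 0x876534201), (nat_lit 0x876345201), (nat_lit 0x687453201), (nat_lit 0x768453201), (nat_lit 0x876534012), (nat_lit 0x876345012), (nat_lit 0x687453012), (nat_lit 0x768453012), (nat_lit 0x687534120), (nat_lit 0x768534120), (nat_lit 0x687345120), (nat_lit 0x768345120), (nat_lit 0x786354201), (nat_lit 0x786435201), (nat_lit 0x867543201), (nat_lit 0x678543201), (nat_lit 0x786354012), (nat_lit 0x786435012), (nat_lit 0x867543012), (nat_lit 0x678543012), (nat_lit 0x867354120), (nat_lit 0x678354120), (nat_lit 0x867435120), (nat_lit 0x678435120), (nat_lit 0x687354201), (nat_lit 0x768354201), (nat_lit 0x687435201), (nat_lit 0x768435201), (nat_lit 0x687354012),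 (nat_lit 0x768354012), (nat_lit 0x687435012), (nat_lit 0x768435012), (nat_lit 0x786534021), (nat_lit 0x786345021), (nat_lit 0x867453021), (nat_lit 0x678453021), (nat_lit 0x786534102), (nat_lit 0x786345102), (nat_lit 0x867453102), (nat_lit 0x678453102), (nat_lit 0x867534210), (nat_lit 0x678534210), (nat_lit 0x867345210), (nat_lit 0x678345210), (nat_lit 0x687534021), (nat_lit 0x768534021), (nat_lit 0x687345021), (nat_lit 0x768345021), (nat_lit 0x687534102), (nat_lit 0x768534102), (nat_lit 0x687345102), (nat_lit 0x768345102), (nat_lit 0x867354021), (nat_lit 0x678354021), (nat_lit 0x867435021), (nat_lit 0x678435021), (nat_lit 0x867354102), (nat_lit 0x678354102), (nat_lit 0x867435102), (nat_lit 0x678435102), (nat_lit 0x786534201), (nat_lit 0x786345201), (nat_lit 0x867453201), (nat_lit 0x678453201), (nat_lit 0x786534012), (nat_lit 0x786345012), (nat_lit 0x867453012), (nat_lit 0x678453012), (nat_lit 0x867534120),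 (nat_lit 0x678534120), (nat_lit 0x867345120), (nat_lit 0x678345120), (nat_lit 0x687534201), (nat_lit 0x768534201), (nat_lit 0x687345201), (nat_lit 0x768345201), (nat_lit 0x687534012), (nat_lit 0x768534012), (nat_lit 0x687345012), (nat_lit 0x768345012), (nat_lit 0x867354201), (nat_lit 0x678354201), (nat_lit 0x867435201), (nat_lit 0x678435201), (nat_lit 0x867354012), (nat_lit 0x678354012), (nat_lit 0x867435012), (nat_lit 0x678435012), (nat_lit 0x867534021), (nat_lit 0x678534021), (nat_lit 0x867345021), (nat_lit 0x678345021), (nat_lit 0x867534102), (nat_lit 0x678534102), (nat_lit 0x867345102), (nat_lit 0x678345102), (nat_lit 0x867534201), (nat_lit 0x678534201), (nat_lit 0x867345201), (nat_lit 0x678345201), (nat_lit 0x867534012), (nat_lit 0x678534012), (nat_lit 0x867345012), (nat_lit 0x678345012)]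
noncomputable def KK2x_lY_W : List (List ℕ) := [[],
  [(nat_lit 0)],
  [(nat_lit 1)],
  [(nat_lit 2)],
  [(nat_lit 3)],
  [(nat_lit 4)],
  [(nat_lit 5)],
  [(nat_lit 6)],
  [(nat_lit 7)],
  [(nat_lit 8)],
  [(nat_lit 0), (nat_lit 1)],
  [(nat_lit 0), (nat_lit 2)],
  [(nat_lit 0), (nat_lit 3)],
  [(nat_lit 0), (nat_lit 4)],
  [(nat_lit 0), (nat_lit 5)],
  [(nat_lit 0), (nat_lit 6)],
  [(nat_lit 0), (nat_lit 7)],
  [(nat_lit 0), (nat_lit 8)],
  [(nat_lit 1), (nat_lit 2)],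
  [(nat_lit 1), (nat_lit 3)],
  [(nat_lit 1), (nat_lit 4)],
  [(nat_lit 1), (nat_lit 5)],
  [(nat_lit 1), (nat_lit 6)],
  [(nat_lit 1), (nat_lit 7)],
  [(nat_lit 1), (nat_lit 8)],
  [(nat_lit 2), (nat_lit 3)],
  [(nat_lit 2), (nat_lit 4)],
  [(nat_lit 2), (nat_lit 5)],
  [(nat_lit 2), (nat_lit 6)],
  [(nat_lit 2), (nat_lit 7)],
  [(nat_lit 2), (nat_lit 8)],
  [(nat_lit 3), (nat_lit 5)],
  [(nat_lit 3), (nat_lit 6)],
  [(nat_lit 3), (nat_lit 7)],
  [(nat_lit 3), (nat_lit 8)],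
  [(nat_lit 4), (nat_lit 5)],
  [(nat_lit 4), (nat_lit 6)],
  [(nat_lit 4), (nat_lit 7)],
  [(nat_lit 4), (nat_lit 8)],
  [(nat_lit 5), (nat_lit 7)],
  [(nat_lit 5), (nat_lit 8)],
  [(nat_lit 6), (nat_lit 7)],
  [(nat_lit 6), (nat_lit 8)],
  [(nat_lit 0), (nat_lit 1), (nat_lit 2)],
  [(nat_lit 0), (nat_lit 1), (nat_lit 3)],
  [(nat_lit 0), (nat_lit 1), (nat_lit 4)],
  [(nat_lit 0), (nat_lit 1), (nat_lit 5)],
  [(nat_lit 0), (nat_lit 1), (nat_lit 6)],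
  [(nat_lit 0), (nat_lit 1), (nat_lit 7)],
  [(nat_lit 0), (nat_lit 1), (nat_lit 8)],
  [(nat_lit 0), (nat_lit 2), (nat_lit 3)],
  [(nat_lit 0), (nat_lit 2), (nat_lit 4)],
  [(nat_lit 0), (nat_lit 2), (nat_lit 5)],
  [(nat_lit 0), (nat_lit 2), (nat_lit 6)],
  [(nat_lit 0), (nat_lit 2), (nat_lit 7)],
  [(nat_lit 0), (nat_lit 2), (nat_lit 8)],
  [(nat_lit 0), (nat_lit 3), (nat_lit 5)],
  [(nat_lit 0), (nat_lit 3), (nat_lit 6)],
  [(nat_lit 0), (nat_lit 3), (nat_lit 7)],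
  [(nat_lit 0), (nat_lit 3), (nat_lit 8)],
  [(nat_lit 0), (nat_lit 4), (nat_lit 5)],
  [(nat_lit 0), (nat_lit 4), (nat_lit 6)],
  [(nat_lit 0), (nat_lit 4), (nat_lit 7)],
  [(nat_lit 0), (nat_lit 4), (nat_lit 8)],
  [(nat_lit 0), (nat_lit 5), (nat_lit 7)],
  [(nat_lit 0), (nat_lit 5), (nat_lit 8)],
  [(nat_lit 0), (nat_lit 6), (nat_lit 7)],
  [(nat_lit 0), (nat_lit 6), (nat_lit 8)],
  [(nat_lit 1), (nat_lit 2), (nat_lit 3)],
  [(nat_lit 1), (nat_lit 2), (nat_lit 4)],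
  [(nat_lit 1), (nat_lit 2), (nat_lit 5)],
  [(nat_lit 1), (nat_lit 2), (nat_lit 6)],
  [(nat_lit 1), (nat_lit 2), (nat_lit 7)],
  [(nat_lit 1), (nat_lit 2), (nat_lit 8)],
  [(nat_lit 1), (nat_lit 3), (nat_lit 5)],
  [(nat_lit 1), (nat_lit 3), (nat_lit 6)],
  [(nat_lit 1), (nat_lit 3), (nat_lit 7)],
  [(nat_lit 1), (nat_lit 3), (nat_lit 8)],
  [(nat_lit 1), (nat_lit 4), (nat_lit 5)],
  [(nat_lit 1), (nat_lit 4), (nat_lit 6)],
  [(nat_lit 1), (nat_lit 4), (nat_lit 7)],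
  [(nat_lit 1), (nat_lit 4), (nat_lit 8)],
  [(nat_lit 1), (nat_lit 5), (nat_lit 7)],
  [(nat_lit 1), (nat_lit 5), (nat_lit 8)],
  [(nat_lit 1), (nat_lit 6), (nat_lit 7)],
  [(nat_lit 1), (nat_lit 6), (nat_lit 8)],
  [(nat_lit 2), (nat_lit 3), (nat_lit 5)],
  [(nat_lit 2), (nat_lit 3), (nat_lit 6)],
  [(nat_lit 2), (nat_lit 3), (nat_lit 7)],
  [(nat_lit 2), (nat_lit 3), (nat_lit 8)],
  [(nat_lit 2), (nat_lit 4), (nat_lit 5)],
  [(nat_lit 2), (nat_lit 4), (nat_lit 6)],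
  [(nat_lit 2), (nat_lit 4), (nat_lit 7)],
  [(nat_lit 2), (nat_lit 4), (nat_lit 8)],
  [(nat_lit 2), (nat_lit 5), (nat_lit 7)],
  [(nat_lit 2), (nat_lit 5), (nat_lit 8)],
  [(nat_lit 2), (nat_lit 6), (nat_lit 7)],
  [(nat_lit 2), (nat_lit 6), (nat_lit 8)],
  [(nat_lit 3), (nat_lit 5), (nat_lit 7)],
  [(nat_lit 3), (nat_lit 5), (nat_lit 8)],
  [(nat_lit 3), (nat_lit 6), (nat_lit 7)],
  [(nat_lit 3), (nat_lit 6), (nat_lit 8)],
  [(nat_lit 4), (nat_lit 5), (nat_lit 7)],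
  [(nat_lit 4), (nat_lit 5), (nat_lit 8)],
  [(nat_lit 4), (nat_lit 6), (nat_lit 7)],
  [(nat_lit 4), (nat_lit 6), (nat_lit 8)],
  [(nat_lit 0), (nat_lit 1), (nat_lit 2), (nat_lit 3)],
  [(nat_lit 0), (nat_lit 1), (nat_lit 2), (nat_lit 4)],
  [(nat_lit 0), (nat_lit 1), (nat_lit 2), (nat_lit 5)],
  [(nat_lit 0), (nat_lit 1), (nat_lit 2), (nat_lit 6)],
  [(nat_lit 0), (nat_lit 1), (nat_lit 2), (nat_lit 7)],
  [(nat_lit 0), (nat_lit 1), (nat_lit 2), (nat_lit 8)],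
  [(nat_lit 0), (nat_lit 1), (nat_lit 3), (nat_lit 5)],
  [(nat_lit 0), (nat_lit 1), (nat_lit 3), (nat_lit 6)],
  [(nat_lit 0), (nat_lit 1), (nat_lit 3), (nat_lit 7)],
  [(nat_lit 0), (nat_lit 1), (nat_lit 3), (nat_lit 8)],
  [(nat_lit 0), (nat_lit 1), (nat_lit 4), (nat_lit 5)],
  [(nat_lit 0), (nat_lit 1), (nat_lit 4), (nat_lit 6)],
  [(nat_lit 0), (nat_lit 1), (nat_lit 4), (nat_lit 7)],
  [(nat_lit 0), (nat_lit 1), (nat_lit 4), (nat_lit 8)],
  [(nat_lit 0), (nat_lit 1), (nat_lit 5), (nat_lit 7)],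
  [(nat_lit 0), (nat_lit 1), (nat_lit 5), (nat_lit 8)],
  [(nat_lit 0), (nat_lit 1), (nat_lit 6), (nat_lit 7)],
  [(nat_lit 0), (nat_lit 1), (nat_lit 6), (nat_lit 8)],
  [(nat_lit 0), (nat_lit 2), (nat_lit 3), (nat_lit 5)],
  [(nat_lit 0), (nat_lit 2), (nat_lit 3), (nat_lit 6)],
  [(nat_lit 0), (nat_lit 2), (nat_lit 3), (nat_lit 7)],
  [(nat_lit 0), (nat_lit 2), (nat_lit 3), (nat_lit 8)],
  [(nat_lit 0), (nat_lit 2), (nat_lit 4), (nat_lit 5)],
  [(nat_lit 0), (nat_lit 2), (nat_lit 4), (nat_lit 6)],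
  [(nat_lit 0), (nat_lit 2), (nat_lit 4), (nat_lit 7)],
  [(nat_lit 0), (nat_lit 2), (nat_lit 4), (nat_lit 8)],
  [(nat_lit 0), (nat_lit 2), (nat_lit 5), (nat_lit 7)],
  [(nat_lit 0), (nat_lit 2), (nat_lit 5), (nat_lit 8)],
  [(nat_lit 0), (nat_lit 2), (nat_lit 6), (nat_lit 7)],
  [(nat_lit 0), (nat_lit 2), (nat_lit 6), (nat_lit 8)],
  [(nat_lit 0), (nat_lit 3), (nat_lit 5), (nat_lit 7)],
  [(nat_lit 0), (nat_lit 3), (nat_lit 5), (nat_lit 8)],
  [(nat_lit 0), (nat_lit 3), (nat_lit 6), (nat_lit 7)],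
  [(nat_lit 0), (nat_lit 3), (nat_lit 6), (nat_lit 8)],
  [(nat_lit 0), (nat_lit 4), (nat_lit 5), (nat_lit 7)],
  [(nat_lit 0), (nat_lit 4), (nat_lit 5), (nat_lit 8)],
  [(nat_lit 0), (nat_lit 4), (nat_lit 6), (nat_lit 7)],
  [(nat_lit 0), (nat_lit 4), (nat_lit 6), (nat_lit 8)],
  [(nat_lit 1), (nat_lit 2), (nat_lit 3), (nat_lit 5)],
  [(nat_lit 1), (nat_lit 2), (nat_lit 3), (nat_lit 6)],
  [(nat_lit 1), (nat_lit 2), (nat_lit 3), (nat_lit 7)],
  [(nat_lit 1), (nat_lit 2), (nat_lit 3), (nat_lit 8)],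
  [(nat_lit 1), (nat_lit 2), (nat_lit 4), (nat_lit 5)],
  [(nat_lit 1), (nat_lit 2), (nat_lit 4), (nat_lit 6)],
  [(nat_lit 1), (nat_lit 2), (nat_lit 4), (nat_lit 7)],
  [(nat_lit 1), (nat_lit 2), (nat_lit 4), (nat_lit 8)],
  [(nat_lit 1), (nat_lit 2), (nat_lit 5), (nat_lit 7)],
  [(nat_lit 1), (nat_lit 2), (nat_lit 5), (nat_lit 8)],
  [(nat_lit 1), (nat_lit 2), (nat_lit 6), (nat_lit 7)],
  [(nat_lit 1), (nat_lit 2), (nat_lit 6), (nat_lit 8)],
  [(nat_lit 1), (nat_lit 3), (nat_lit 5), (nat_lit 7)],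
  [(nat_lit 1), (nat_lit 3), (nat_lit 5), (nat_lit 8)],
  [(nat_lit 1), (nat_lit 3), (nat_lit 6), (nat_lit 7)],
  [(nat_lit 1), (nat_lit 3), (nat_lit 6), (nat_lit 8)],
  [(nat_lit 1), (nat_lit 4), (nat_lit 5), (nat_lit 7)],
  [(nat_lit 1), (nat_lit 4), (nat_lit 5), (nat_lit 8)],
  [(nat_lit 1), (nat_lit 4), (nat_lit 6), (nat_lit 7)],
  [(nat_lit 1), (nat_lit 4), (nat_lit 6), (nat_lit 8)],
  [(nat_lit 2), (nat_lit 3), (nat_lit 5), (nat_lit 7)],
  [(nat_lit 2), (nat_lit 3), (nat_lit 5), (nat_lit 8)],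
  [(nat_lit 2), (nat_lit 3), (nat_lit 6), (nat_lit 7)],
  [(nat_lit 2), (nat_lit 3), (nat_lit 6), (nat_lit 8)],
  [(nat_lit 2), (nat_lit 4), (nat_lit 5), (nat_lit 7)],
  [(nat_lit 2), (nat_lit 4), (nat_lit 5), (nat_lit 8)],
  [(nat_lit 2), (nat_lit 4), (nat_lit 6), (nat_lit 7)],
  [(nat_lit 2), (nat_lit 4), (nat_lit 6), (nat_lit 8)],
  [(nat_lit 0), (nat_lit 1), (nat_lit 2), (nat_lit 3), (nat_lit 5)],
  [(nat_lit 0), (nat_lit 1), (nat_lit 2), (nat_lit 3), (nat_lit 6)],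
  [(nat_lit 0), (nat_lit 1), (nat_lit 2), (nat_lit 3), (nat_lit 7)],
  [(nat_lit 0), (nat_lit 1), (nat_lit 2), (nat_lit 3), (nat_lit 8)],
  [(nat_lit 0), (nat_lit 1), (nat_lit 2), (nat_lit 4), (nat_lit 5)],
  [(nat_lit 0), (nat_lit 1), (nat_lit 2), (nat_lit 4), (nat_lit 6)],
  [(nat_lit 0), (nat_lit 1), (nat_lit 2), (nat_lit 4), (nat_lit 7)],
  [(nat_lit 0), (nat_lit 1), (nat_lit 2), (nat_lit 4), (nat_lit 8)],
  [(nat_lit 0), (nat_lit 1), (nat_lit 2), (nat_lit 5), (nat_lit 7)],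
  [(nat_lit 0), (nat_lit 1), (nat_lit 2), (nat_lit 5), (nat_lit 8)],
  [(nat_lit 0), (nat_lit 1), (nat_lit 2), (nat_lit 6), (nat_lit 7)],
  [(nat_lit 0), (nat_lit 1), (nat_lit 2), (nat_lit 6), (nat_lit 8)],
  [(nat_lit 0), (nat_lit 1), (nat_lit 3), (nat_lit 5), (nat_lit 7)],
  [(nat_lit 0), (nat_lit 1), (nat_lit 3), (nat_lit 5), (nat_lit 8)],
  [(nat_lit 0), (nat_lit 1), (nat_lit 3), (nat_lit 6), (nat_lit 7)],
  [(nat_lit 0), (nat_lit 1), (nat_lit 3), (nat_lit 6), (nat_lit 8)],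
  [(nat_lit 0), (nat_lit 1), (nat_lit 4), (nat_lit 5), (nat_lit 7)],
  [(nat_lit 0), (nat_lit 1), (nat_lit 4), (nat_lit 5), (nat_lit 8)],
  [(nat_lit 0), (nat_lit 1), (nat_lit 4), (nat_lit 6), (nat_lit 7)],
  [(nat_lit 0), (nat_lit 1), (nat_lit 4), (nat_lit 6), (nat_lit 8)],
  [(nat_lit 0), (nat_lit 2), (nat_lit 3), (nat_lit 5), (nat_lit 7)],
  [(nat_lit 0), (nat_lit 2), (nat_lit 3), (nat_lit 5), (nat_lit 8)],
  [(nat_lit 0), (nat_lit 2), (nat_lit 3), (nat_lit 6), (nat_lit 7)],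
  [(nat_lit 0), (nat_lit 2), (nat_lit 3), (nat_lit 6), (nat_lit 8)],
  [(nat_lit 0), (nat_lit 2), (nat_lit 4), (nat_lit 5), (nat_lit 7)],
  [(nat_lit 0), (nat_lit 2), (nat_lit 4), (nat_lit 5), (nat_lit 8)],
  [(nat_lit 0), (nat_lit 2), (nat_lit 4), (nat_lit 6), (nat_lit 7)],
  [(nat_lit 0), (nat_lit 2), (nat_lit 4), (nat_lit 6), (nat_lit 8)],
  [(nat_lit 1), (nat_lit 2), (nat_lit 3), (nat_lit 5), (nat_lit 7)],
  [(nat_lit 1), (nat_lit 2), (nat_lit 3), (nat_lit 5), (nat_lit 8)],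
  [(nat_lit 1), (nat_lit 2), (nat_lit 3), (nat_lit 6), (nat_lit 7)],
  [(nat_lit 1), (nat_lit 2), (nat_lit 3), (nat_lit 6), (nat_lit 8)],
  [(nat_lit 1), (nat_lit 2), (nat_lit 4), (nat_lit 5), (nat_lit 7)],
  [(nat_lit 1), (nat_lit 2), (nat_lit 4), (nat_lit 5), (nat_lit 8)],
  [(nat_lit 1), (nat_lit 2), (nat_lit 4), (nat_lit 6), (nat_lit 7)],
  [(nat_lit 1), (nat_lit 2), (nat_lit 4), (nat_lit 6), (nat_lit 8)],
  [(nat_lit 0), (nat_lit 1), (nat_lit 2), (nat_lit 3), (nat_lit 5), (nat_lit 7)],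
  [(nat_lit 0), (nat_lit 1), (nat_lit 2), (nat_lit 3), (nat_lit 5), (nat_lit 8)],
  [(nat_lit 0), (nat_lit 1), (nat_lit 2), (nat_lit 3), (nat_lit 6), (nat_lit 7)],
  [(nat_lit 0), (nat_lit 1), (nat_lit 2), (nat_lit 3), (nat_lit 6), (nat_lit 8)],
  [(nat_lit 0), (nat_lit 1), (nat_lit 2), (nat_lit 4), (nat_lit 5), (nat_lit 7)],
  [(nat_lit 0), (nat_lit 1), (nat_lit 2), (nat_lit 4), (nat_lit 5), (nat_lit 8)],
  [(nat_lit 0), (nat_lit 1), (nat_lit 2), (nat_lit 4), (nat_lit 6), (nat_lit 7)],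
  [(nat_lit 0), (nat_lit 1), (nat_lit 2), (nat_lit 4), (nat_lit 6), (nat_lit 8)]]
noncomputable def KK2x_lY_h (c : ℕ) : ℕ := Nat.mod c (nat_lit 763)
theorem KK2x_lY_E {G : Type*} [Group G] {R : ℕ → G → Prop} {s u v w e f z d2 d3 s2 s3 s0 : G} {H : Subgroup G}
    (M : Mdl KK2_o KK2x_cs KK2_L R [s, u, v, v⁻¹, w, w⁻¹, e, e⁻¹, f, f⁻¹, z, d2, d3, s2, s3, s0] H) :
    EnumS R KK2x_lY (sp [s, s2, s3, w, w⁻¹, d2, d2⁻¹, d3, d3⁻¹]) :=
  enumS_sp M.μ.1 (M.reps.tms M.μ.1 [(.v (nat_lit 0)), (.v (nat_lit 13)), (.v (nat_lit 14)), (.v (nat_lit 4)), (.inv (.v (nat_lit 4))), (.v (nat_lit 11)), (.inv (.v (nat_lit 11))), (.v (nat_lit 12)), (.inv (.v (nat_lit 12)))] (cs' := [(nat_lit 0x876543120), (nat_lit 0x876453210), (nat_lit 0x786543210), (nat_lit 0x876543021), (nat_lit 0x876543102), (nat_lit 0x876354210), (nat_lit 0x876435210), (nat_lit 0x687543210), (nat_lit 0x768543210)]) (by decide +kernel))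
    (Ws := KK2x_lY_W) (by decide +kernel) (by decide +kernel)
theorem KK2x_lY_c {G : Type*} [Group G] {R : ℕ → G → Prop} {s u v w e f z d2 d3 s2 s3 s0 : G} {H : Subgroup G}
    (M : Mdl KK2_o KK2x_cs KK2_L R [s, u, v, v⁻¹, w, w⁻¹, e, e⁻¹, f, f⁻¹, z, d2, d3, s2, s3, s0] H) :
    #(sp [s, s2, s3, w, w⁻¹, d2, d2⁻¹, d3, d3⁻¹]) = 216 :=
  (KK2x_lY_E M).card M.μ (h := KK2x_lY_h) (by decide +kernel)
noncomputable def KK1x_lL : List ℕ := [(nat_lit 0x876543210), (nat_lit 0x876543021), (nat_lit 0x687354210), (nat_lit 0x876543102), (nat_lit 0x687354021), (nat_lit 0x768435210), (nat_lit 0x687354102), (nat_lit 0x768435021), (nat_lit 0x768435102)]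
noncomputable def KK1x_lL_W : List (List ℕ) := [[],
  [(nat_lit 0)],
  [(nat_lit 1)],
  [(nat_lit 0), (nat_lit 0)],
  [(nat_lit 0), (nat_lit 1)],
  [(nat_lit 1), (nat_lit 1)],
  [(nat_lit 0), (nat_lit 0), (nat_lit 1)],
  [(nat_lit 0), (nat_lit 1), (nat_lit 1)],
  [(nat_lit 0), (nat_lit 0), (nat_lit 1), (nat_lit 1)]]
noncomputable def KK1x_lL_h (c : ℕ) : ℕ := Nat.mod c (nat_lit 13)
theorem KK1x_lL_E {G : Type*} [Group G] {R : ℕ → G → Prop} {s u v w e f z d2 d3 s2 s3 s0 : G} {H : Subgroup G}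
    (M : Mdl KK1_o KK1x_cs KK1_L R [s, u, v, v⁻¹, w, w⁻¹, e, e⁻¹, f, f⁻¹, z, d2, d3, s2, s3, s0] H) :
    EnumS R KK1x_lL (sp [w, e]) :=
  enumS_sp M.μ.1 (M.reps.tms M.μ.1 [(.v (nat_lit 4)), (.v (nat_lit 6))] (cs' := [(nat_lit 0x876543021), (nat_lit 0x687354210)]) (by decide +kernel))
    (Ws := KK1x_lL_W) (by decide +kernel) (by decide +kernel)
theorem KK1x_lL_c {G : Type*} [Group G] {R : ℕ → G → Prop} {s u v w e f z d2 d3 s2 s3 s0 : G} {H : Subgroup G}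
    (M : Mdl KK1_o KK1x_cs KK1_L R [s, u, v, v⁻¹, w, w⁻¹, e, e⁻¹, f, f⁻¹, z, d2, d3, s2, s3, s0] H) :
    #(sp [w, e]) = 9 :=
  (KK1x_lL_E M).card M.μ (h := KK1x_lL_h) (by decide +kernel)
noncomputable def KK2x_lL : List ℕ := [(nat_lit 0x876543210), (nat_lit 0x876543021), (nat_lit 0x687354210), (nat_lit 0x876543102), (nat_lit 0x687354021), (nat_lit 0x768435210), (nat_lit 0x687354102), (nat_lit 0x768435021), (nat_lit 0x768435102)]
noncomputable def KK2x_lL_W : List (List ℕ) := [[],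
  [(nat_lit 0)],
  [(nat_lit 1)],
  [(nat_lit 0), (nat_lit 0)],
  [(nat_lit 0), (nat_lit 1)],
  [(nat_lit 1), (nat_lit 1)],
  [(nat_lit 0), (nat_lit 0), (nat_lit 1)],
  [(nat_lit 0), (nat_lit 1), (nat_lit 1)],
  [(nat_lit 0), (nat_lit 0), (nat_lit 1), (nat_lit 1)]]
noncomputable def KK2x_lL_h (c : ℕ) : ℕ := Nat.mod c (nat_lit 13)
theorem KK2x_lL_E {G : Type*} [Group G] {R : ℕ → G → Prop} {s u v w e f z d2 d3 s2 s3 s0 : G} {H : Subgroup G}
    (M : Mdl KK2_o KK2x_cs KK2_L R [s, u, v, v⁻¹, w, w⁻¹, e, e⁻¹, f, f⁻¹, z, d2, d3, s2, s3, s0] H) :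
    EnumS R KK2x_lL (sp [w, e]) :=
  enumS_sp M.μ.1 (M.reps.tms M.μ.1 [(.v (nat_lit 4)), (.v (nat_lit 6))] (cs' := [(nat_lit 0x876543021), (nat_lit 0x687354210)]) (by decide +kernel))
    (Ws := KK2x_lL_W) (by decide +kernel) (by decide +kernel)
theorem KK2x_lL_c {G : Type*} [Group G] {R : ℕ → G → Prop} {s u v w e f z d2 d3 s2 s3 s0 : G} {H : Subgroup G}
    (M : Mdl KK2_o KK2x_cs KK2_L R [s, u, v, v⁻¹, w, w⁻¹, e, e⁻¹, f, f⁻¹, z, d2, d3, s2, s3, s0] H) :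
    #(sp [w, e]) = 9 :=
  (KK2x_lL_E M).card M.μ (h := KK2x_lL_h) (by decide +kernel)
noncomputable def KK1x_lP : List ℕ := [(nat_lit 0x876543210), (nat_lit 0x876543021), (nat_lit 0x687354210), (nat_lit 0x768354210), (nat_lit 0x210876543), (nat_lit 0x876453120), (nat_lit 0x876543102), (nat_lit 0x687354021), (nat_lit 0x768354021), (nat_lit 0x210876354), (nat_lit 0x876453012), (nat_lit 0x768435210), (nat_lit 0x876435210), (nat_lit 0x21687543), (nat_lit 0x687345120), (nat_lit 0x687435210), (nat_lit 0x102687543), (nat_lit 0x768345120), (nat_lit 0x21876543), (nat_lit 0x210687354), (nat_lit 0x210768354), (nat_lit 0x543210876), (nat_lit 0x120876453), (nat_lit 0x876453201), (nat_lit 0x687534120), (nat_lit 0x768534120), (nat_lit 0x210786453), (nat_lit 0x687354102), (nat_lit 0x768354102), (nat_lit 0x210876435), (nat_lit 0x768435021), (nat_lit 0x876435021), (nat_lit 0x21687354), (nat_lit 0x687345012), (nat_lit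 0x687435021), (nat_lit 0x102687354), (nat_lit 0x768345012), (nat_lit 0x21876354), (nat_lit 0x210687435), (nat_lit 0x210768435), (nat_lit 0x543210687), (nat_lit 0x120876345), (nat_lit 0x687534012), (nat_lit 0x768534012), (nat_lit 0x210786345), (nat_lit 0x687543210), (nat_lit 0x102768543), (nat_lit 0x768543210), (nat_lit 0x210768543), (nat_lit 0x876534120), (nat_lit 0x21768354), (nat_lit 0x354021876), (nat_lit 0x12687453), (nat_lit 0x687345201), (nat_lit 0x768453120), (nat_lit 0x21678453), (nat_lit 0x21768543), (nat_lit 0x210687543), (nat_lit 0x102768354), (nat_lit 0x102876354), (nat_lit 0x435021876), (nat_lit 0x201687453), (nat_lit 0x768345201), (nat_lit 0x687453120), (nat_lit 0x102678453), (nat_lit 0x102876543), (nat_lit 0x354210876), (nat_lit 0x12876453), (nat_lit 0x543021687), (nat_lit 0x120687345), (nat_lit 0x543102687), (nat_lit 0x120768345), (nat_lit 0x543021876), (nat_lit 0x354210687), (nat_lit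 0x354210768), (nat_lit 0x453120876), (nat_lit 0x201876453), (nat_lit 0x120687534), (nat_lit 0x120768534), (nat_lit 0x453210786), (nat_lit 0x687534201), (nat_lit 0x768534201), (nat_lit 0x210786534), (nat_lit 0x876345120), (nat_lit 0x21867453), (nat_lit 0x102867453), (nat_lit 0x21786453), (nat_lit 0x210867534), (nat_lit 0x210678534), (nat_lit 0x543120786), (nat_lit 0x120786543), (nat_lit 0x768435102), (nat_lit 0x876435102), (nat_lit 0x21687435), (nat_lit 0x687435102), (nat_lit 0x102687435), (nat_lit 0x21876435), (nat_lit 0x543210768), (nat_lit 0x120876534), (nat_lit 0x687543021), (nat_lit 0x768543021), (nat_lit 0x876534012), (nat_lit 0x21768435), (nat_lit 0x354021687), (nat_lit 0x12687345), (nat_lit 0x768453012), (nat_lit 0x21678345), (nat_lit 0x102768435), (nat_lit 0x102876435), (nat_lit 0x435021687), (nat_lit 0x201687345), (nat_lit 0x687453012), (nat_lit 0x102678345), (nat_lit 0x12876345), (nat_lit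 0x543021768), (nat_lit 0x543102768), (nat_lit 0x453120687), (nat_lit 0x201876345), (nat_lit 0x120687453), (nat_lit 0x120768453), (nat_lit 0x453210678), (nat_lit 0x876345012), (nat_lit 0x21867345), (nat_lit 0x102867345), (nat_lit 0x21786345), (nat_lit 0x210867453), (nat_lit 0x210678453), (nat_lit 0x543120678), (nat_lit 0x120786354), (nat_lit 0x876354210), (nat_lit 0x435102876), (nat_lit 0x201768453), (nat_lit 0x543102876), (nat_lit 0x876534201), (nat_lit 0x354102687), (nat_lit 0x12768345), (nat_lit 0x354102876), (nat_lit 0x435021768), (nat_lit 0x345012876), (nat_lit 0x12768534), (nat_lit 0x12876534), (nat_lit 0x345021786), (nat_lit 0x768453201), (nat_lit 0x21678534), (nat_lit 0x102786453), (nat_lit 0x21786534), (nat_lit 0x21867534), (nat_lit 0x354012786), (nat_lit 0x12678543), (nat_lit 0x12768453), (nat_lit 0x435102687), (nat_lit 0x201768345), (nat_lit 0x435210687), (nat_lit 0x534012876), (nat_lit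 0x201768534), (nat_lit 0x201876534), (nat_lit 0x534021786), (nat_lit 0x687453201), (nat_lit 0x102678534), (nat_lit 0x102786534), (nat_lit 0x102867534), (nat_lit 0x435012786), (nat_lit 0x201678543), (nat_lit 0x435210876), (nat_lit 0x435210768), (nat_lit 0x345120876), (nat_lit 0x12687534), (nat_lit 0x345210786), (nat_lit 0x354021768), (nat_lit 0x876354021), (nat_lit 0x453012687), (nat_lit 0x453021678), (nat_lit 0x354102768), (nat_lit 0x453201687), (nat_lit 0x453102678), (nat_lit 0x453012876), (nat_lit 0x345120687), (nat_lit 0x687543102), (nat_lit 0x345120768), (nat_lit 0x453201876), (nat_lit 0x534120687), (nat_lit 0x534120768), (nat_lit 0x786453210), (nat_lit 0x201687534), (nat_lit 0x534210786), (nat_lit 0x453021867), (nat_lit 0x453102867), (nat_lit 0x453021786), (nat_lit 0x534210867), (nat_lit 0x534210678), (nat_lit 0x786543120), (nat_lit 0x876345201), (nat_lit 0x210867345), (nat_lit 0x210678345),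 (nat_lit 0x543120867), (nat_lit 0x120786435), (nat_lit 0x354201786), (nat_lit 0x12867543), (nat_lit 0x435201786), (nat_lit 0x201867543), (nat_lit 0x354120786), (nat_lit 0x12786543), (nat_lit 0x543201867), (nat_lit 0x120867435), (nat_lit 0x543012867), (nat_lit 0x120678435), (nat_lit 0x543201786), (nat_lit 0x354120867), (nat_lit 0x354120678), (nat_lit 0x201786543), (nat_lit 0x120867354), (nat_lit 0x120678354), (nat_lit 0x768543102), (nat_lit 0x453120768), (nat_lit 0x453210867), (nat_lit 0x345012687), (nat_lit 0x345021678), (nat_lit 0x102786345), (nat_lit 0x354012678), (nat_lit 0x12678354), (nat_lit 0x435102768), (nat_lit 0x534012687), (nat_lit 0x534021678), (nat_lit 0x435012678), (nat_lit 0x201678354), (nat_lit 0x345210678), (nat_lit 0x876354102), (nat_lit 0x453012768), (nat_lit 0x453201768), (nat_lit 0x534120876), (nat_lit 0x786453021), (nat_lit 0x453102786), (nat_lit 0x786543012), (nat_lit 0x354201678),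 (nat_lit 0x12867354), (nat_lit 0x435201678), (nat_lit 0x201867354), (nat_lit 0x12786354), (nat_lit 0x120867543), (nat_lit 0x543012786), (nat_lit 0x120678543), (nat_lit 0x543201678), (nat_lit 0x201786354), (nat_lit 0x534201876), (nat_lit 0x534102786), (nat_lit 0x345201687), (nat_lit 0x345102678), (nat_lit 0x345201876), (nat_lit 0x534012768), (nat_lit 0x678345210), (nat_lit 0x345102867), (nat_lit 0x345210867), (nat_lit 0x345102786), (nat_lit 0x678354120), (nat_lit 0x354012867), (nat_lit 0x12678435), (nat_lit 0x435120786), (nat_lit 0x12786435), (nat_lit 0x354201867), (nat_lit 0x12867435), (nat_lit 0x435012867), (nat_lit 0x534201687), (nat_lit 0x534102678), (nat_lit 0x345012768), (nat_lit 0x867345210), (nat_lit 0x534102867), (nat_lit 0x345021867), (nat_lit 0x867354120), (nat_lit 0x201678435), (nat_lit 0x435120867), (nat_lit 0x201786435), (nat_lit 0x435201867), (nat_lit 0x201867435), (nat_lit 0x543012678),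 (nat_lit 0x678453210), (nat_lit 0x678543120), (nat_lit 0x786345021), (nat_lit 0x534021867), (nat_lit 0x786354012), (nat_lit 0x345201768), (nat_lit 0x534201768), (nat_lit 0x786534021), (nat_lit 0x786435012), (nat_lit 0x786345210), (nat_lit 0x678453021), (nat_lit 0x678453102), (nat_lit 0x786534210), (nat_lit 0x867453021), (nat_lit 0x867453102), (nat_lit 0x867534210), (nat_lit 0x678534210), (nat_lit 0x867543120), (nat_lit 0x786354201), (nat_lit 0x786435201), (nat_lit 0x786354120), (nat_lit 0x867543201), (nat_lit 0x867543012), (nat_lit 0x435120678), (nat_lit 0x786543201), (nat_lit 0x786453102), (nat_lit 0x678345021), (nat_lit 0x678354012), (nat_lit 0x867345021), (nat_lit 0x867354012), (nat_lit 0x678543012), (nat_lit 0x786345102), (nat_lit 0x786534102), (nat_lit 0x867453210), (nat_lit 0x867534021), (nat_lit 0x678534021), (nat_lit 0x786435120), (nat_lit 0x867435120), (nat_lit 0x678435012), (nat_lit 0x867345102),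 (nat_lit 0x678435201), (nat_lit 0x678543201), (nat_lit 0x678435120), (nat_lit 0x678354201), (nat_lit 0x867435012), (nat_lit 0x678345102), (nat_lit 0x867435201), (nat_lit 0x867354201), (nat_lit 0x678534102), (nat_lit 0x867534102)]
noncomputable def KK1x_lP_W : List (List ℕ) := [[],
  [(nat_lit 0)],
  [(nat_lit 1)],
  [(nat_lit 2)],
  [(nat_lit 3)],
  [(nat_lit 4)],
  [(nat_lit 0), (nat_lit 0)],
  [(nat_lit 0), (nat_lit 1)],
  [(nat_lit 0), (nat_lit 2)],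
  [(nat_lit 0), (nat_lit 3)],
  [(nat_lit 0), (nat_lit 4)],
  [(nat_lit 1), (nat_lit 1)],
  [(nat_lit 1), (nat_lit 2)],
  [(nat_lit 1), (nat_lit 3)],
  [(nat_lit 1), (nat_lit 4)],
  [(nat_lit 2), (nat_lit 2)],
  [(nat_lit 2), (nat_lit 3)],
  [(nat_lit 2), (nat_lit 4)],
  [(nat_lit 3), (nat_lit 0)],
  [(nat_lit 3), (nat_lit 1)],
  [(nat_lit 3), (nat_lit 2)],
  [(nat_lit 3), (nat_lit 3)],
  [(nat_lit 3), (nat_lit 4)],
  [(nat_lit 4), (nat_lit 0)],
  [(nat_lit 4), (nat_lit 1)],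
  [(nat_lit 4), (nat_lit 2)],
  [(nat_lit 4), (nat_lit 3)],
  [(nat_lit 0), (nat_lit 0), (nat_lit 1)],
  [(nat_lit 0), (nat_lit 0), (nat_lit 2)],
  [(nat_lit 0), (nat_lit 0), (nat_lit 3)],
  [(nat_lit 0), (nat_lit 1), (nat_lit 1)],
  [(nat_lit 0), (nat_lit 1), (nat_lit 2)],
  [(nat_lit 0), (nat_lit 1), (nat_lit 3)],
  [(nat_lit 0), (nat_lit 1), (nat_lit 4)],
  [(nat_lit 0), (nat_lit 2), (nat_lit 2)],
  [(nat_lit 0), (nat_lit 2), (nat_lit 3)],
  [(nat_lit 0), (nat_lit 2), (nat_lit 4)],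
  [(nat_lit 0), (nat_lit 3), (nat_lit 0)],
  [(nat_lit 0), (nat_lit 3), (nat_lit 1)],
  [(nat_lit 0), (nat_lit 3), (nat_lit 2)],
  [(nat_lit 0), (nat_lit 3), (nat_lit 3)],
  [(nat_lit 0), (nat_lit 3), (nat_lit 4)],
  [(nat_lit 0), (nat_lit 4), (nat_lit 1)],
  [(nat_lit 0), (nat_lit 4), (nat_lit 2)],
  [(nat_lit 0), (nat_lit 4), (nat_lit 3)],
  [(nat_lit 1), (nat_lit 1), (nat_lit 2)],
  [(nat_lit 1), (nat_lit 1), (nat_lit 3)],
  [(nat_lit 1), (nat_lit 2), (nat_lit 2)],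
  [(nat_lit 1), (nat_lit 2), (nat_lit 3)],
  [(nat_lit 1), (nat_lit 2), (nat_lit 4)],
  [(nat_lit 1), (nat_lit 3), (nat_lit 1)],
  [(nat_lit 1), (nat_lit 3), (nat_lit 3)],
  [(nat_lit 1), (nat_lit 3), (nat_lit 4)],
  [(nat_lit 1), (nat_lit 4), (nat_lit 0)],
  [(nat_lit 1), (nat_lit 4), (nat_lit 1)],
  [(nat_lit 1), (nat_lit 4), (nat_lit 3)],
  [(nat_lit 2), (nat_lit 2), (nat_lit 3)],
  [(nat_lit 2), (nat_lit 3), (nat_lit 0)],
  [(nat_lit 2), (nat_lit 3), (nat_lit 1)],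
  [(nat_lit 2), (nat_lit 3), (nat_lit 2)],
  [(nat_lit 2), (nat_lit 3), (nat_lit 3)],
  [(nat_lit 2), (nat_lit 3), (nat_lit 4)],
  [(nat_lit 2), (nat_lit 4), (nat_lit 0)],
  [(nat_lit 2), (nat_lit 4), (nat_lit 2)],
  [(nat_lit 2), (nat_lit 4), (nat_lit 3)],
  [(nat_lit 3), (nat_lit 0), (nat_lit 0)],
  [(nat_lit 3), (nat_lit 0), (nat_lit 3)],
  [(nat_lit 3), (nat_lit 0), (nat_lit 4)],
  [(nat_lit 3), (nat_lit 1), (nat_lit 3)],
  [(nat_lit 3), (nat_lit 1), (nat_lit 4)],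
  [(nat_lit 3), (nat_lit 2), (nat_lit 3)],
  [(nat_lit 3), (nat_lit 2), (nat_lit 4)],
  [(nat_lit 3), (nat_lit 3), (nat_lit 0)],
  [(nat_lit 3), (nat_lit 3), (nat_lit 1)],
  [(nat_lit 3), (nat_lit 3), (nat_lit 2)],
  [(nat_lit 3), (nat_lit 3), (nat_lit 4)],
  [(nat_lit 3), (nat_lit 4), (nat_lit 0)],
  [(nat_lit 3), (nat_lit 4), (nat_lit 1)],
  [(nat_lit 3), (nat_lit 4), (nat_lit 2)],
  [(nat_lit 3), (nat_lit 4), (nat_lit 3)],
  [(nat_lit 4), (nat_lit 0), (nat_lit 1)],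
  [(nat_lit 4), (nat_lit 0), (nat_lit 2)],
  [(nat_lit 4), (nat_lit 0), (nat_lit 3)],
  [(nat_lit 4), (nat_lit 1), (nat_lit 2)],
  [(nat_lit 4), (nat_lit 1), (nat_lit 3)],
  [(nat_lit 4), (nat_lit 2), (nat_lit 3)],
  [(nat_lit 4), (nat_lit 3), (nat_lit 0)],
  [(nat_lit 4), (nat_lit 3), (nat_lit 1)],
  [(nat_lit 4), (nat_lit 3), (nat_lit 2)],
  [(nat_lit 4), (nat_lit 3), (nat_lit 3)],
  [(nat_lit 4), (nat_lit 3), (nat_lit 4)],
  [(nat_lit 0), (nat_lit 0), (nat_lit 1), (nat_lit 1)],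
  [(nat_lit 0), (nat_lit 0), (nat_lit 1), (nat_lit 2)],
  [(nat_lit 0), (nat_lit 0), (nat_lit 1), (nat_lit 3)],
  [(nat_lit 0), (nat_lit 0), (nat_lit 2), (nat_lit 2)],
  [(nat_lit 0), (nat_lit 0), (nat_lit 2), (nat_lit 3)],
  [(nat_lit 0), (nat_lit 0), (nat_lit 3), (nat_lit 0)],
  [(nat_lit 0), (nat_lit 0), (nat_lit 3), (nat_lit 3)],
  [(nat_lit 0), (nat_lit 0), (nat_lit 3), (nat_lit 4)],
  [(nat_lit 0), (nat_lit 1), (nat_lit 1), (nat_lit 2)],
  [(nat_lit 0), (nat_lit 1), (nat_lit 2), (nat_lit 2)],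
  [(nat_lit 0), (nat_lit 1), (nat_lit 2), (nat_lit 4)],
  [(nat_lit 0), (nat_lit 1), (nat_lit 3), (nat_lit 1)],
  [(nat_lit 0), (nat_lit 1), (nat_lit 3), (nat_lit 3)],
  [(nat_lit 0), (nat_lit 1), (nat_lit 3), (nat_lit 4)],
  [(nat_lit 0), (nat_lit 1), (nat_lit 4), (nat_lit 1)],
  [(nat_lit 0), (nat_lit 1), (nat_lit 4), (nat_lit 3)],
  [(nat_lit 0), (nat_lit 2), (nat_lit 3), (nat_lit 1)],
  [(nat_lit 0), (nat_lit 2), (nat_lit 3), (nat_lit 2)],
  [(nat_lit 0), (nat_lit 2), (nat_lit 3), (nat_lit 3)],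
  [(nat_lit 0), (nat_lit 2), (nat_lit 3), (nat_lit 4)],
  [(nat_lit 0), (nat_lit 2), (nat_lit 4), (nat_lit 2)],
  [(nat_lit 0), (nat_lit 2), (nat_lit 4), (nat_lit 3)],
  [(nat_lit 0), (nat_lit 3), (nat_lit 0), (nat_lit 4)],
  [(nat_lit 0), (nat_lit 3), (nat_lit 1), (nat_lit 3)],
  [(nat_lit 0), (nat_lit 3), (nat_lit 2), (nat_lit 3)],
  [(nat_lit 0), (nat_lit 3), (nat_lit 3), (nat_lit 4)],
  [(nat_lit 0), (nat_lit 3), (nat_lit 4), (nat_lit 0)],
  [(nat_lit 0), (nat_lit 3), (nat_lit 4), (nat_lit 1)],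
  [(nat_lit 0), (nat_lit 3), (nat_lit 4), (nat_lit 2)],
  [(nat_lit 0), (nat_lit 3), (nat_lit 4), (nat_lit 3)],
  [(nat_lit 0), (nat_lit 4), (nat_lit 1), (nat_lit 2)],
  [(nat_lit 0), (nat_lit 4), (nat_lit 1), (nat_lit 3)],
  [(nat_lit 0), (nat_lit 4), (nat_lit 2), (nat_lit 3)],
  [(nat_lit 0), (nat_lit 4), (nat_lit 3), (nat_lit 0)],
  [(nat_lit 0), (nat_lit 4), (nat_lit 3), (nat_lit 1)],
  [(nat_lit 0), (nat_lit 4), (nat_lit 3), (nat_lit 2)],
  [(nat_lit 0), (nat_lit 4), (nat_lit 3), (nat_lit 3)],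
  [(nat_lit 0), (nat_lit 4), (nat_lit 3), (nat_lit 4)],
  [(nat_lit 1), (nat_lit 1), (nat_lit 2), (nat_lit 2)],
  [(nat_lit 1), (nat_lit 1), (nat_lit 3), (nat_lit 3)],
  [(nat_lit 1), (nat_lit 1), (nat_lit 3), (nat_lit 4)],
  [(nat_lit 1), (nat_lit 2), (nat_lit 3), (nat_lit 3)],
  [(nat_lit 1), (nat_lit 2), (nat_lit 4), (nat_lit 0)],
  [(nat_lit 1), (nat_lit 3), (nat_lit 1), (nat_lit 3)],
  [(nat_lit 1), (nat_lit 3), (nat_lit 1), (nat_lit 4)],
  [(nat_lit 1), (nat_lit 3), (nat_lit 3), (nat_lit 0)],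
  [(nat_lit 1), (nat_lit 3), (nat_lit 3), (nat_lit 2)],
  [(nat_lit 1), (nat_lit 3), (nat_lit 3), (nat_lit 4)],
  [(nat_lit 1), (nat_lit 3), (nat_lit 4), (nat_lit 1)],
  [(nat_lit 1), (nat_lit 3), (nat_lit 4), (nat_lit 2)],
  [(nat_lit 1), (nat_lit 3), (nat_lit 4), (nat_lit 3)],
  [(nat_lit 1), (nat_lit 4), (nat_lit 0), (nat_lit 1)],
  [(nat_lit 1), (nat_lit 4), (nat_lit 0), (nat_lit 3)],
  [(nat_lit 1), (nat_lit 4), (nat_lit 1), (nat_lit 3)],
  [(nat_lit 1), (nat_lit 4), (nat_lit 3), (nat_lit 1)],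
  [(nat_lit 1), (nat_lit 4), (nat_lit 3), (nat_lit 2)],
  [(nat_lit 1), (nat_lit 4), (nat_lit 3), (nat_lit 3)],
  [(nat_lit 1), (nat_lit 4), (nat_lit 3), (nat_lit 4)],
  [(nat_lit 2), (nat_lit 2), (nat_lit 3), (nat_lit 4)],
  [(nat_lit 2), (nat_lit 3), (nat_lit 1), (nat_lit 3)],
  [(nat_lit 2), (nat_lit 3), (nat_lit 1), (nat_lit 4)],
  [(nat_lit 2), (nat_lit 3), (nat_lit 2), (nat_lit 3)],
  [(nat_lit 2), (nat_lit 3), (nat_lit 3), (nat_lit 4)],
  [(nat_lit 2), (nat_lit 3), (nat_lit 4), (nat_lit 1)],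
  [(nat_lit 2), (nat_lit 3), (nat_lit 4), (nat_lit 2)],
  [(nat_lit 2), (nat_lit 3), (nat_lit 4), (nat_lit 3)],
  [(nat_lit 2), (nat_lit 4), (nat_lit 0), (nat_lit 2)],
  [(nat_lit 2), (nat_lit 4), (nat_lit 0), (nat_lit 3)],
  [(nat_lit 2), (nat_lit 4), (nat_lit 3), (nat_lit 1)],
  [(nat_lit 2), (nat_lit 4), (nat_lit 3), (nat_lit 2)],
  [(nat_lit 2), (nat_lit 4), (nat_lit 3), (nat_lit 3)],
  [(nat_lit 2), (nat_lit 4), (nat_lit 3), (nat_lit 4)],
  [(nat_lit 3), (nat_lit 0), (nat_lit 0), (nat_lit 3)],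
  [(nat_lit 3), (nat_lit 0), (nat_lit 3), (nat_lit 2)],
  [(nat_lit 3), (nat_lit 0), (nat_lit 3), (nat_lit 4)],
  [(nat_lit 3), (nat_lit 0), (nat_lit 4), (nat_lit 1)],
  [(nat_lit 3), (nat_lit 0), (nat_lit 4), (nat_lit 3)],
  [(nat_lit 3), (nat_lit 1), (nat_lit 3), (nat_lit 1)],
  [(nat_lit 3), (nat_lit 1), (nat_lit 3), (nat_lit 3)],
  [(nat_lit 3), (nat_lit 1), (nat_lit 3), (nat_lit 4)],
  [(nat_lit 3), (nat_lit 1), (nat_lit 4), (nat_lit 3)],
  [(nat_lit 3), (nat_lit 2), (nat_lit 3), (nat_lit 1)],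
  [(nat_lit 3), (nat_lit 2), (nat_lit 3), (nat_lit 4)],
  [(nat_lit 3), (nat_lit 2), (nat_lit 4), (nat_lit 3)],
  [(nat_lit 3), (nat_lit 3), (nat_lit 0), (nat_lit 4)],
  [(nat_lit 3), (nat_lit 3), (nat_lit 1), (nat_lit 4)],
  [(nat_lit 3), (nat_lit 3), (nat_lit 2), (nat_lit 3)],
  [(nat_lit 3), (nat_lit 3), (nat_lit 2), (nat_lit 4)],
  [(nat_lit 3), (nat_lit 3), (nat_lit 4), (nat_lit 0)],
  [(nat_lit 3), (nat_lit 3), (nat_lit 4), (nat_lit 1)],
  [(nat_lit 3), (nat_lit 3), (nat_lit 4), (nat_lit 2)],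
  [(nat_lit 3), (nat_lit 3), (nat_lit 4), (nat_lit 3)],
  [(nat_lit 3), (nat_lit 4), (nat_lit 0), (nat_lit 1)],
  [(nat_lit 3), (nat_lit 4), (nat_lit 0), (nat_lit 3)],
  [(nat_lit 3), (nat_lit 4), (nat_lit 1), (nat_lit 3)],
  [(nat_lit 3), (nat_lit 4), (nat_lit 2), (nat_lit 3)],
  [(nat_lit 3), (nat_lit 4), (nat_lit 3), (nat_lit 0)],
  [(nat_lit 3), (nat_lit 4), (nat_lit 3), (nat_lit 1)],
  [(nat_lit 3), (nat_lit 4), (nat_lit 3), (nat_lit 2)],
  [(nat_lit 3), (nat_lit 4), (nat_lit 3), (nat_lit 3)],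
  [(nat_lit 4), (nat_lit 0), (nat_lit 1), (nat_lit 2)],
  [(nat_lit 4), (nat_lit 0), (nat_lit 3), (nat_lit 1)],
  [(nat_lit 4), (nat_lit 0), (nat_lit 3), (nat_lit 2)],
  [(nat_lit 4), (nat_lit 0), (nat_lit 3), (nat_lit 3)],
  [(nat_lit 4), (nat_lit 0), (nat_lit 3), (nat_lit 4)],
  [(nat_lit 4), (nat_lit 1), (nat_lit 3), (nat_lit 3)],
  [(nat_lit 4), (nat_lit 1), (nat_lit 3), (nat_lit 4)],
  [(nat_lit 4), (nat_lit 2), (nat_lit 3), (nat_lit 3)],
  [(nat_lit 4), (nat_lit 2), (nat_lit 3), (nat_lit 4)],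
  [(nat_lit 4), (nat_lit 3), (nat_lit 0), (nat_lit 3)],
  [(nat_lit 4), (nat_lit 3), (nat_lit 0), (nat_lit 4)],
  [(nat_lit 4), (nat_lit 3), (nat_lit 1), (nat_lit 3)],
  [(nat_lit 4), (nat_lit 3), (nat_lit 1), (nat_lit 4)],
  [(nat_lit 4), (nat_lit 3), (nat_lit 2), (nat_lit 3)],
  [(nat_lit 4), (nat_lit 3), (nat_lit 2), (nat_lit 4)],
  [(nat_lit 4), (nat_lit 3), (nat_lit 3), (nat_lit 0)],
  [(nat_lit 4), (nat_lit 3), (nat_lit 3), (nat_lit 1)],
  [(nat_lit 4), (nat_lit 3), (nat_lit 3), (nat_lit 2)],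
  [(nat_lit 4), (nat_lit 3), (nat_lit 4), (nat_lit 0)],
  [(nat_lit 4), (nat_lit 3), (nat_lit 4), (nat_lit 1)],
  [(nat_lit 4), (nat_lit 3), (nat_lit 4), (nat_lit 2)],
  [(nat_lit 0), (nat_lit 0), (nat_lit 1), (nat_lit 2), (nat_lit 2)],
  [(nat_lit 0), (nat_lit 0), (nat_lit 3), (nat_lit 3), (nat_lit 4)],
  [(nat_lit 0), (nat_lit 0), (nat_lit 3), (nat_lit 4), (nat_lit 3)],
  [(nat_lit 0), (nat_lit 1), (nat_lit 3), (nat_lit 3), (nat_lit 4)],
  [(nat_lit 0), (nat_lit 1), (nat_lit 3), (nat_lit 4), (nat_lit 3)],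
  [(nat_lit 0), (nat_lit 1), (nat_lit 4), (nat_lit 1), (nat_lit 3)],
  [(nat_lit 0), (nat_lit 1), (nat_lit 4), (nat_lit 3), (nat_lit 3)],
  [(nat_lit 0), (nat_lit 1), (nat_lit 4), (nat_lit 3), (nat_lit 4)],
  [(nat_lit 0), (nat_lit 2), (nat_lit 3), (nat_lit 1), (nat_lit 3)],
  [(nat_lit 0), (nat_lit 2), (nat_lit 3), (nat_lit 3), (nat_lit 4)],
  [(nat_lit 0), (nat_lit 2), (nat_lit 3), (nat_lit 4), (nat_lit 3)],
  [(nat_lit 0), (nat_lit 2), (nat_lit 4), (nat_lit 3), (nat_lit 3)],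
  [(nat_lit 0), (nat_lit 2), (nat_lit 4), (nat_lit 3), (nat_lit 4)],
  [(nat_lit 0), (nat_lit 3), (nat_lit 0), (nat_lit 4), (nat_lit 3)],
  [(nat_lit 0), (nat_lit 3), (nat_lit 1), (nat_lit 3), (nat_lit 3)],
  [(nat_lit 0), (nat_lit 3), (nat_lit 1), (nat_lit 3), (nat_lit 4)],
  [(nat_lit 0), (nat_lit 3), (nat_lit 2), (nat_lit 3), (nat_lit 4)],
  [(nat_lit 0), (nat_lit 3), (nat_lit 3), (nat_lit 4), (nat_lit 2)],
  [(nat_lit 0), (nat_lit 3), (nat_lit 3), (nat_lit 4), (nat_lit 3)],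
  [(nat_lit 0), (nat_lit 3), (nat_lit 4), (nat_lit 2), (nat_lit 3)],
  [(nat_lit 0), (nat_lit 3), (nat_lit 4), (nat_lit 3), (nat_lit 3)],
  [(nat_lit 0), (nat_lit 4), (nat_lit 1), (nat_lit 3), (nat_lit 3)],
  [(nat_lit 0), (nat_lit 4), (nat_lit 1), (nat_lit 3), (nat_lit 4)],
  [(nat_lit 0), (nat_lit 4), (nat_lit 2), (nat_lit 3), (nat_lit 3)],
  [(nat_lit 0), (nat_lit 4), (nat_lit 2), (nat_lit 3), (nat_lit 4)],
  [(nat_lit 0), (nat_lit 4), (nat_lit 3), (nat_lit 0), (nat_lit 4)],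
  [(nat_lit 0), (nat_lit 4), (nat_lit 3), (nat_lit 1), (nat_lit 4)],
  [(nat_lit 0), (nat_lit 4), (nat_lit 3), (nat_lit 2), (nat_lit 3)],
  [(nat_lit 0), (nat_lit 4), (nat_lit 3), (nat_lit 2), (nat_lit 4)],
  [(nat_lit 0), (nat_lit 4), (nat_lit 3), (nat_lit 3), (nat_lit 0)],
  [(nat_lit 0), (nat_lit 4), (nat_lit 3), (nat_lit 4), (nat_lit 0)],
  [(nat_lit 1), (nat_lit 1), (nat_lit 3), (nat_lit 3), (nat_lit 4)],
  [(nat_lit 1), (nat_lit 1), (nat_lit 3), (nat_lit 4), (nat_lit 3)],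
  [(nat_lit 1), (nat_lit 3), (nat_lit 1), (nat_lit 3), (nat_lit 4)],
  [(nat_lit 1), (nat_lit 3), (nat_lit 1), (nat_lit 4), (nat_lit 3)],
  [(nat_lit 1), (nat_lit 3), (nat_lit 3), (nat_lit 0), (nat_lit 4)],
  [(nat_lit 1), (nat_lit 3), (nat_lit 3), (nat_lit 2), (nat_lit 4)],
  [(nat_lit 1), (nat_lit 3), (nat_lit 3), (nat_lit 4), (nat_lit 3)],
  [(nat_lit 1), (nat_lit 3), (nat_lit 4), (nat_lit 1), (nat_lit 3)],
  [(nat_lit 1), (nat_lit 3), (nat_lit 4), (nat_lit 2), (nat_lit 3)],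
  [(nat_lit 1), (nat_lit 3), (nat_lit 4), (nat_lit 3), (nat_lit 0)],
  [(nat_lit 1), (nat_lit 3), (nat_lit 4), (nat_lit 3), (nat_lit 3)],
  [(nat_lit 1), (nat_lit 4), (nat_lit 0), (nat_lit 3), (nat_lit 3)],
  [(nat_lit 1), (nat_lit 4), (nat_lit 0), (nat_lit 3), (nat_lit 4)],
  [(nat_lit 1), (nat_lit 4), (nat_lit 1), (nat_lit 3), (nat_lit 3)],
  [(nat_lit 1), (nat_lit 4), (nat_lit 3), (nat_lit 1), (nat_lit 4)],
  [(nat_lit 1), (nat_lit 4), (nat_lit 3), (nat_lit 2), (nat_lit 3)],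
  [(nat_lit 1), (nat_lit 4), (nat_lit 3), (nat_lit 2), (nat_lit 4)],
  [(nat_lit 1), (nat_lit 4), (nat_lit 3), (nat_lit 3), (nat_lit 1)],
  [(nat_lit 2), (nat_lit 3), (nat_lit 1), (nat_lit 3), (nat_lit 4)],
  [(nat_lit 2), (nat_lit 3), (nat_lit 1), (nat_lit 4), (nat_lit 3)],
  [(nat_lit 2), (nat_lit 3), (nat_lit 3), (nat_lit 4), (nat_lit 2)],
  [(nat_lit 2), (nat_lit 3), (nat_lit 3), (nat_lit 4), (nat_lit 3)],
  [(nat_lit 2), (nat_lit 3), (nat_lit 4), (nat_lit 1), (nat_lit 3)],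
  [(nat_lit 2), (nat_lit 3), (nat_lit 4), (nat_lit 3), (nat_lit 1)],
  [(nat_lit 2), (nat_lit 3), (nat_lit 4), (nat_lit 3), (nat_lit 3)],
  [(nat_lit 2), (nat_lit 4), (nat_lit 0), (nat_lit 3), (nat_lit 4)],
  [(nat_lit 2), (nat_lit 4), (nat_lit 3), (nat_lit 1), (nat_lit 3)],
  [(nat_lit 2), (nat_lit 4), (nat_lit 3), (nat_lit 1), (nat_lit 4)],
  [(nat_lit 2), (nat_lit 4), (nat_lit 3), (nat_lit 2), (nat_lit 3)],
  [(nat_lit 2), (nat_lit 4), (nat_lit 3), (nat_lit 2), (nat_lit 4)],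
  [(nat_lit 2), (nat_lit 4), (nat_lit 3), (nat_lit 3), (nat_lit 2)],
  [(nat_lit 3), (nat_lit 0), (nat_lit 3), (nat_lit 4), (nat_lit 3)],
  [(nat_lit 3), (nat_lit 0), (nat_lit 4), (nat_lit 3), (nat_lit 3)],
  [(nat_lit 3), (nat_lit 1), (nat_lit 3), (nat_lit 4), (nat_lit 3)],
  [(nat_lit 3), (nat_lit 1), (nat_lit 4), (nat_lit 3), (nat_lit 2)],
  [(nat_lit 3), (nat_lit 1), (nat_lit 4), (nat_lit 3), (nat_lit 3)],
  [(nat_lit 3), (nat_lit 2), (nat_lit 3), (nat_lit 1), (nat_lit 4)],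
  [(nat_lit 3), (nat_lit 2), (nat_lit 3), (nat_lit 4), (nat_lit 1)],
  [(nat_lit 3), (nat_lit 2), (nat_lit 3), (nat_lit 4), (nat_lit 3)],
  [(nat_lit 3), (nat_lit 2), (nat_lit 4), (nat_lit 3), (nat_lit 3)],
  [(nat_lit 3), (nat_lit 3), (nat_lit 0), (nat_lit 4), (nat_lit 3)],
  [(nat_lit 3), (nat_lit 3), (nat_lit 1), (nat_lit 4), (nat_lit 3)],
  [(nat_lit 3), (nat_lit 3), (nat_lit 2), (nat_lit 4), (nat_lit 3)],
  [(nat_lit 3), (nat_lit 3), (nat_lit 4), (nat_lit 0), (nat_lit 3)],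
  [(nat_lit 3), (nat_lit 3), (nat_lit 4), (nat_lit 1), (nat_lit 3)],
  [(nat_lit 3), (nat_lit 3), (nat_lit 4), (nat_lit 2), (nat_lit 3)],
  [(nat_lit 3), (nat_lit 3), (nat_lit 4), (nat_lit 3), (nat_lit 1)],
  [(nat_lit 3), (nat_lit 3), (nat_lit 4), (nat_lit 3), (nat_lit 2)],
  [(nat_lit 3), (nat_lit 4), (nat_lit 0), (nat_lit 3), (nat_lit 3)],
  [(nat_lit 3), (nat_lit 4), (nat_lit 1), (nat_lit 3), (nat_lit 3)],
  [(nat_lit 3), (nat_lit 4), (nat_lit 2), (nat_lit 3), (nat_lit 3)],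
  [(nat_lit 3), (nat_lit 4), (nat_lit 3), (nat_lit 0), (nat_lit 3)],
  [(nat_lit 3), (nat_lit 4), (nat_lit 3), (nat_lit 1), (nat_lit 3)],
  [(nat_lit 3), (nat_lit 4), (nat_lit 3), (nat_lit 2), (nat_lit 3)],
  [(nat_lit 3), (nat_lit 4), (nat_lit 3), (nat_lit 2), (nat_lit 4)],
  [(nat_lit 3), (nat_lit 4), (nat_lit 3), (nat_lit 3), (nat_lit 0)],
  [(nat_lit 0), (nat_lit 0), (nat_lit 3), (nat_lit 3), (nat_lit 4), (nat_lit 3)],
  [(nat_lit 0), (nat_lit 1), (nat_lit 3), (nat_lit 3), (nat_lit 4), (nat_lit 3)],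
  [(nat_lit 0), (nat_lit 1), (nat_lit 3), (nat_lit 4), (nat_lit 3), (nat_lit 3)],
  [(nat_lit 0), (nat_lit 2), (nat_lit 3), (nat_lit 3), (nat_lit 4), (nat_lit 3)],
  [(nat_lit 0), (nat_lit 2), (nat_lit 3), (nat_lit 4), (nat_lit 3), (nat_lit 3)],
  [(nat_lit 0), (nat_lit 3), (nat_lit 0), (nat_lit 4), (nat_lit 3), (nat_lit 3)],
  [(nat_lit 0), (nat_lit 3), (nat_lit 1), (nat_lit 3), (nat_lit 4), (nat_lit 3)],
  [(nat_lit 0), (nat_lit 3), (nat_lit 2), (nat_lit 3), (nat_lit 4), (nat_lit 3)],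
  [(nat_lit 0), (nat_lit 3), (nat_lit 3), (nat_lit 4), (nat_lit 2), (nat_lit 3)],
  [(nat_lit 0), (nat_lit 3), (nat_lit 3), (nat_lit 4), (nat_lit 3), (nat_lit 1)],
  [(nat_lit 0), (nat_lit 3), (nat_lit 3), (nat_lit 4), (nat_lit 3), (nat_lit 2)],
  [(nat_lit 0), (nat_lit 3), (nat_lit 4), (nat_lit 2), (nat_lit 3), (nat_lit 3)],
  [(nat_lit 1), (nat_lit 1), (nat_lit 3), (nat_lit 4), (nat_lit 3), (nat_lit 3)],
  [(nat_lit 1), (nat_lit 3), (nat_lit 1), (nat_lit 4), (nat_lit 3), (nat_lit 3)],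
  [(nat_lit 1), (nat_lit 3), (nat_lit 3), (nat_lit 2), (nat_lit 4), (nat_lit 3)],
  [(nat_lit 1), (nat_lit 3), (nat_lit 4), (nat_lit 1), (nat_lit 3), (nat_lit 3)],
  [(nat_lit 1), (nat_lit 3), (nat_lit 4), (nat_lit 2), (nat_lit 3), (nat_lit 3)],
  [(nat_lit 1), (nat_lit 3), (nat_lit 4), (nat_lit 3), (nat_lit 0), (nat_lit 3)],
  [(nat_lit 1), (nat_lit 3), (nat_lit 4), (nat_lit 3), (nat_lit 3), (nat_lit 0)],
  [(nat_lit 2), (nat_lit 3), (nat_lit 1), (nat_lit 4), (nat_lit 3), (nat_lit 3)],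
  [(nat_lit 2), (nat_lit 3), (nat_lit 3), (nat_lit 4), (nat_lit 2), (nat_lit 3)],
  [(nat_lit 2), (nat_lit 3), (nat_lit 4), (nat_lit 1), (nat_lit 3), (nat_lit 3)],
  [(nat_lit 2), (nat_lit 3), (nat_lit 4), (nat_lit 3), (nat_lit 3), (nat_lit 0)],
  [(nat_lit 3), (nat_lit 2), (nat_lit 3), (nat_lit 1), (nat_lit 4), (nat_lit 3)],
  [(nat_lit 3), (nat_lit 2), (nat_lit 3), (nat_lit 4), (nat_lit 1), (nat_lit 3)]]
noncomputable def KK1x_lP_h (c : ℕ) : ℕ := Nat.mod c (nat_lit 3889)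
theorem KK1x_lP_E {G : Type*} [Group G] {R : ℕ → G → Prop} {s u v w e f z d2 d3 s2 s3 s0 : G} {H : Subgroup G}
    (M : Mdl KK1_o KK1x_cs KK1_L R [s, u, v, v⁻¹, w, w⁻¹, e, e⁻¹, f, f⁻¹, z, d2, d3, s2, s3, s0] H) :
    EnumS R KK1x_lP (sp [w, e, f, v, s * s2]) :=
  enumS_sp M.μ.1 (M.reps.tms M.μ.1 [(.v (nat_lit 4)), (.v (nat_lit 6)), (.v (nat_lit 8)), (.v (nat_lit 2)), (.mul (.v (nat_lit 0)) (.v (nat_lit 13)))] (cs' := [(nat_lit 0x876543021), (nat_lit 0x687354210), (nat_lit 0x768354210), (nat_lit 0x210876543), (nat_lit 0x876453120)]) (by decide +kernel))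
    (Ws := KK1x_lP_W) (by decide +kernel) (by decide +kernel)
theorem KK1x_lP_c {G : Type*} [Group G] {R : ℕ → G → Prop} {s u v w e f z d2 d3 s2 s3 s0 : G} {H : Subgroup G}
    (M : Mdl KK1_o KK1x_cs KK1_L R [s, u, v, v⁻¹, w, w⁻¹, e, e⁻¹, f, f⁻¹, z, d2, d3, s2, s3, s0] H) :
    #(sp [w, e, f, v, s * s2]) = 324 :=
  (KK1x_lP_E M).card M.μ (h := KK1x_lP_h) (by decide +kernel)
noncomputable def KK2x_lO : List ℕ := [(nat_lit 0x876543210), (nat_lit 0x876543021), (nat_lit 0x687354210), (nat_lit 0x768354210), (nat_lit 0x210876543), (nat_lit 0x876453120), (nat_lit 0x543876120), (nat_lit 0x876543102), (nat_lit 0x687354021), (nat_lit 0x768354021), (nat_lit 0x210876354), (nat_lit 0x876453012), (nat_lit 0x543876012), (nat_lit 0x768435210), (nat_lit 0x876435210), (nat_lit 0x21687543), (nat_lit 0x687345120), (nat_lit 0x354687120), (nat_lit 0x687435210), (nat_lit 0x102687543), (nat_lit 0x768345120), (nat_lit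 0x435687120), (nat_lit 0x21876543), (nat_lit 0x210687354), (nat_lit 0x210768354), (nat_lit 0x543210876), (nat_lit 0x120876453), (nat_lit 0x120543876), (nat_lit 0x876453201), (nat_lit 0x687534120), (nat_lit 0x768534120), (nat_lit 0x210786453), (nat_lit 0x543786210), (nat_lit 0x543876201), (nat_lit 0x354768120), (nat_lit 0x876210453), (nat_lit 0x453876210), (nat_lit 0x687354102), (nat_lit 0x768354102), (nat_lit 0x210876435), (nat_lit 0x768435021), (nat_lit 0x876435021), (nat_lit 0x21687354), (nat_lit 0x687345012), (nat_lit 0x354687012), (nat_lit 0x687435021), (nat_lit 0x102687354), (nat_lit 0x768345012), (nat_lit 0x435687012), (nat_lit 0x21876354), (nat_lit 0x210687435), (nat_lit 0x210768435), (nat_lit 0x543210687), (nat_lit 0x120876345), (nat_lit 0x120543687), (nat_lit 0x687534012), (nat_lit 0x768534012), (nat_lit 0x210786345), (nat_lit 0x543786021), (nat_lit 0x354768012), (nat_lit 0x876210345),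 (nat_lit 0x453876021), (nat_lit 0x687543210), (nat_lit 0x102768543), (nat_lit 0x435768120), (nat_lit 0x768543210), (nat_lit 0x210768543), (nat_lit 0x876534120), (nat_lit 0x543768120), (nat_lit 0x21768354), (nat_lit 0x354021876), (nat_lit 0x12687453), (nat_lit 0x12354876), (nat_lit 0x687345201), (nat_lit 0x768453120), (nat_lit 0x21678453), (nat_lit 0x354678210), (nat_lit 0x354687201), (nat_lit 0x435876120), (nat_lit 0x687021453), (nat_lit 0x345687210), (nat_lit 0x21768543), (nat_lit 0x210687543), (nat_lit 0x102768354), (nat_lit 0x102876354), (nat_lit 0x435021876), (nat_lit 0x201687453), (nat_lit 0x201354876), (nat_lit 0x768345201), (nat_lit 0x687453120), (nat_lit 0x102678453), (nat_lit 0x435678210), (nat_lit 0x435687201), (nat_lit 0x768021453), (nat_lit 0x534687210), (nat_lit 0x102876543), (nat_lit 0x354210876), (nat_lit 0x12876453), (nat_lit 0x12543876), (nat_lit 0x543021687), (nat_lit 0x120687345),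 (nat_lit 0x120354687), (nat_lit 0x543102687), (nat_lit 0x120768345), (nat_lit 0x120435687), (nat_lit 0x543021876), (nat_lit 0x354210687), (nat_lit 0x354210768), (nat_lit 0x453120876), (nat_lit 0x876120543), (nat_lit 0x201876453), (nat_lit 0x120687534), (nat_lit 0x120768534), (nat_lit 0x453210786), (nat_lit 0x210543786), (nat_lit 0x201543876), (nat_lit 0x120354768), (nat_lit 0x210453876), (nat_lit 0x687534201), (nat_lit 0x768534201), (nat_lit 0x210786534), (nat_lit 0x543786102), (nat_lit 0x876345120), (nat_lit 0x21867453), (nat_lit 0x354867210), (nat_lit 0x102867453), (nat_lit 0x435867210), (nat_lit 0x21786453), (nat_lit 0x210867534), (nat_lit 0x210678534), (nat_lit 0x543120786), (nat_lit 0x120786543), (nat_lit 0x120453786), (nat_lit 0x453786120), (nat_lit 0x354768201), (nat_lit 0x876210534), (nat_lit 0x453876102), (nat_lit 0x687102453), (nat_lit 0x345768210), (nat_lit 0x876021453), (nat_lit 0x687210534),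 (nat_lit 0x768210534), (nat_lit 0x534768210), (nat_lit 0x786210543), (nat_lit 0x786543120), (nat_lit 0x768435102), (nat_lit 0x876435102), (nat_lit 0x21687435), (nat_lit 0x687435102), (nat_lit 0x102687435), (nat_lit 0x21876435), (nat_lit 0x543210768), (nat_lit 0x120876534), (nat_lit 0x120543768), (nat_lit 0x687543021), (nat_lit 0x435768012), (nat_lit 0x768543021), (nat_lit 0x876534012), (nat_lit 0x543768012), (nat_lit 0x21768435), (nat_lit 0x354021687), (nat_lit 0x12687345), (nat_lit 0x12354687), (nat_lit 0x768453012), (nat_lit 0x21678345), (nat_lit 0x354678021), (nat_lit 0x435876012), (nat_lit 0x687021345), (nat_lit 0x345687021), (nat_lit 0x102768435), (nat_lit 0x102876435), (nat_lit 0x435021687), (nat_lit 0x201687345), (nat_lit 0x201354687), (nat_lit 0x687453012), (nat_lit 0x102678345), (nat_lit 0x435678021), (nat_lit 0x768021345), (nat_lit 0x534687021), (nat_lit 0x12876345), (nat_lit 0x12543687),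 (nat_lit 0x543021768), (nat_lit 0x543102768), (nat_lit 0x120435768), (nat_lit 0x453120687), (nat_lit 0x876120354), (nat_lit 0x201876345), (nat_lit 0x120687453), (nat_lit 0x120768453), (nat_lit 0x453210678), (nat_lit 0x210543678), (nat_lit 0x201543687), (nat_lit 0x120354876), (nat_lit 0x210453687), (nat_lit 0x876345012), (nat_lit 0x21867345), (nat_lit 0x354867021), (nat_lit 0x102867345), (nat_lit 0x435867021), (nat_lit 0x21786345), (nat_lit 0x210867453), (nat_lit 0x210678453), (nat_lit 0x543120678), (nat_lit 0x120786354), (nat_lit 0x120453678), (nat_lit 0x453786012), (nat_lit 0x687102345), (nat_lit 0x345768021), (nat_lit 0x876021345), (nat_lit 0x687210453), (nat_lit 0x768210453), (nat_lit 0x534768021), (nat_lit 0x786210354), (nat_lit 0x786543012), (nat_lit 0x876354210), (nat_lit 0x354876120), (nat_lit 0x435102876), (nat_lit 0x201768453), (nat_lit 0x201435876), (nat_lit 0x435768201), (nat_lit 0x543687120),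 (nat_lit 0x768102453), (nat_lit 0x543102876), (nat_lit 0x120435876), (nat_lit 0x876534201), (nat_lit 0x543867210), (nat_lit 0x543768201), (nat_lit 0x876102453), (nat_lit 0x453768210), (nat_lit 0x354102687), (nat_lit 0x12768345), (nat_lit 0x12435687), (nat_lit 0x354102876), (nat_lit 0x435021768), (nat_lit 0x345012876), (nat_lit 0x687012543), (nat_lit 0x12768534), (nat_lit 0x12876534), (nat_lit 0x345021786), (nat_lit 0x21354786), (nat_lit 0x12435768), (nat_lit 0x21345876), (nat_lit 0x768453201), (nat_lit 0x21678534), (nat_lit 0x354678102), (nat_lit 0x102786453), (nat_lit 0x435786210), (nat_lit 0x21786534), (nat_lit 0x21867534), (nat_lit 0x354012786), (nat_lit 0x12678543), (nat_lit 0x12345786), (nat_lit 0x345678120), (nat_lit 0x435876201), (nat_lit 0x687021534), (nat_lit 0x345687102), (nat_lit 0x534876210), (nat_lit 0x768021534), (nat_lit 0x876021534), (nat_lit 0x678021543), (nat_lit 0x678354120),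 (nat_lit 0x12768453), (nat_lit 0x12435876), (nat_lit 0x435102687), (nat_lit 0x201768345), (nat_lit 0x201435687), (nat_lit 0x435210687), (nat_lit 0x534012876), (nat_lit 0x768012543), (nat_lit 0x201768534), (nat_lit 0x201876534), (nat_lit 0x534021786), (nat_lit 0x102354786), (nat_lit 0x201435768), (nat_lit 0x102345876), (nat_lit 0x687453201), (nat_lit 0x102678534), (nat_lit 0x435678102), (nat_lit 0x354786210), (nat_lit 0x102786534), (nat_lit 0x102867534), (nat_lit 0x435012786), (nat_lit 0x201678543), (nat_lit 0x201345786), (nat_lit 0x534678120), (nat_lit 0x534687102), (nat_lit 0x345876210), (nat_lit 0x867021543), (nat_lit 0x867354120), (nat_lit 0x435210876), (nat_lit 0x435210768), (nat_lit 0x345120876), (nat_lit 0x687120543), (nat_lit 0x12687534), (nat_lit 0x345210786), (nat_lit 0x21543786), (nat_lit 0x12354768), (nat_lit 0x21453876), (nat_lit 0x354021768), (nat_lit 0x876354021), (nat_lit 0x453012687),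 (nat_lit 0x876012354), (nat_lit 0x453021678), (nat_lit 0x210354678), (nat_lit 0x453687021), (nat_lit 0x210345687), (nat_lit 0x354102768), (nat_lit 0x453201687), (nat_lit 0x876201354), (nat_lit 0x453102678), (nat_lit 0x210435678), (nat_lit 0x453768021), (nat_lit 0x210534687), (nat_lit 0x453012876), (nat_lit 0x876012543), (nat_lit 0x345120687), (nat_lit 0x687120354), (nat_lit 0x687543102), (nat_lit 0x345120768), (nat_lit 0x687120435), (nat_lit 0x453201876), (nat_lit 0x534120687), (nat_lit 0x534120768), (nat_lit 0x786453210), (nat_lit 0x876201543), (nat_lit 0x768120354), (nat_lit 0x201687534), (nat_lit 0x534210786), (nat_lit 0x102543786), (nat_lit 0x453021867), (nat_lit 0x210354867), (nat_lit 0x453102867), (nat_lit 0x210435867), (nat_lit 0x453021786), (nat_lit 0x534210867), (nat_lit 0x534210678), (nat_lit 0x786120453), (nat_lit 0x201354768), (nat_lit 0x102453876), (nat_lit 0x453687102), (nat_lit 0x210345768),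 (nat_lit 0x210534768), (nat_lit 0x876345201), (nat_lit 0x354867102), (nat_lit 0x435867102), (nat_lit 0x210867345), (nat_lit 0x210678345), (nat_lit 0x543120867), (nat_lit 0x120786435), (nat_lit 0x120453867), (nat_lit 0x876120435), (nat_lit 0x453786201), (nat_lit 0x543678210), (nat_lit 0x354201786), (nat_lit 0x12867543), (nat_lit 0x12534786), (nat_lit 0x687201543), (nat_lit 0x345867120), (nat_lit 0x435201786), (nat_lit 0x201867543), (nat_lit 0x201534786), (nat_lit 0x768201543), (nat_lit 0x534867120), (nat_lit 0x354120786), (nat_lit 0x12786543), (nat_lit 0x12453786), (nat_lit 0x543201867), (nat_lit 0x120867435), (nat_lit 0x120534867), (nat_lit 0x543012867), (nat_lit 0x120678435), (nat_lit 0x120345867), (nat_lit 0x543201786), (nat_lit 0x354120867), (nat_lit 0x354120678), (nat_lit 0x201786543), (nat_lit 0x120867354), (nat_lit 0x120678354), (nat_lit 0x201453786), (nat_lit 0x120534678), (nat_lit 0x687102534),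 (nat_lit 0x345768102), (nat_lit 0x687210345), (nat_lit 0x768210345), (nat_lit 0x210543867), (nat_lit 0x534768102), (nat_lit 0x786210435), (nat_lit 0x786543201), (nat_lit 0x768102534), (nat_lit 0x876102534), (nat_lit 0x21435786), (nat_lit 0x453687210), (nat_lit 0x678102543), (nat_lit 0x678435120), (nat_lit 0x210354786), (nat_lit 0x543012786), (nat_lit 0x21543867), (nat_lit 0x102543867), (nat_lit 0x768120435), (nat_lit 0x435120867), (nat_lit 0x867102543), (nat_lit 0x867435120), (nat_lit 0x786021543), (nat_lit 0x867210354), (nat_lit 0x678210354), (nat_lit 0x768543102), (nat_lit 0x12543768), (nat_lit 0x453120768), (nat_lit 0x453210867), (nat_lit 0x201543768), (nat_lit 0x210453768), (nat_lit 0x354876012), (nat_lit 0x543687012), (nat_lit 0x768102345), (nat_lit 0x543867021), (nat_lit 0x876102345), (nat_lit 0x345012687), (nat_lit 0x687012354), (nat_lit 0x345021678), (nat_lit 0x21354678), (nat_lit 0x21345687),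 (nat_lit 0x102786345), (nat_lit 0x435786021), (nat_lit 0x354012678), (nat_lit 0x12678354), (nat_lit 0x12345678), (nat_lit 0x345678012), (nat_lit 0x534876021), (nat_lit 0x678021354), (nat_lit 0x678354012), (nat_lit 0x435102768), (nat_lit 0x534012687), (nat_lit 0x768012354), (nat_lit 0x534021678), (nat_lit 0x102354678), (nat_lit 0x102345687), (nat_lit 0x354786021), (nat_lit 0x435012678), (nat_lit 0x201678354), (nat_lit 0x201345678), (nat_lit 0x534678012), (nat_lit 0x345876021), (nat_lit 0x867021354), (nat_lit 0x867354012), (nat_lit 0x345210678), (nat_lit 0x21543678), (nat_lit 0x21453687), (nat_lit 0x876354102), (nat_lit 0x453012768), (nat_lit 0x876012435), (nat_lit 0x453201768), (nat_lit 0x876201435), (nat_lit 0x453768102), (nat_lit 0x534120876), (nat_lit 0x786453021), (nat_lit 0x102543678), (nat_lit 0x453102786), (nat_lit 0x210435786), (nat_lit 0x786120345), (nat_lit 0x102453687), (nat_lit 0x210345876),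 (nat_lit 0x210534876), (nat_lit 0x543678021), (nat_lit 0x354201678), (nat_lit 0x12867354), (nat_lit 0x12534678), (nat_lit 0x687201354), (nat_lit 0x345867012), (nat_lit 0x435201678), (nat_lit 0x201867354), (nat_lit 0x201534678), (nat_lit 0x768201354), (nat_lit 0x534867012), (nat_lit 0x12786354), (nat_lit 0x12453678), (nat_lit 0x120867543), (nat_lit 0x120534786), (nat_lit 0x120678543), (nat_lit 0x120345786), (nat_lit 0x543201678), (nat_lit 0x201786354), (nat_lit 0x201453678), (nat_lit 0x21435678), (nat_lit 0x678102354), (nat_lit 0x678435012), (nat_lit 0x543012678), (nat_lit 0x768120543), (nat_lit 0x435120786), (nat_lit 0x867102354), (nat_lit 0x867435012), (nat_lit 0x786021354), (nat_lit 0x867210435), (nat_lit 0x678210435), (nat_lit 0x354876201), (nat_lit 0x534201876), (nat_lit 0x534102786), (nat_lit 0x102435786), (nat_lit 0x102534876), (nat_lit 0x543687201), (nat_lit 0x543867102), (nat_lit 0x453867120),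 (nat_lit 0x786102543), (nat_lit 0x786435120), (nat_lit 0x345201687), (nat_lit 0x345102678), (nat_lit 0x21534687), (nat_lit 0x345201876), (nat_lit 0x534012768), (nat_lit 0x768012435), (nat_lit 0x678345210), (nat_lit 0x345102867), (nat_lit 0x21435867), (nat_lit 0x345210867), (nat_lit 0x345102786), (nat_lit 0x678012453), (nat_lit 0x21534768), (nat_lit 0x21453768), (nat_lit 0x435786102), (nat_lit 0x354012867), (nat_lit 0x12678435), (nat_lit 0x12345867), (nat_lit 0x687012435), (nat_lit 0x345678201), (nat_lit 0x534786120), (nat_lit 0x12786435), (nat_lit 0x12453867), (nat_lit 0x354201867), (nat_lit 0x12867435), (nat_lit 0x12534867), (nat_lit 0x435012867), (nat_lit 0x534876102), (nat_lit 0x21354867), (nat_lit 0x678021435), (nat_lit 0x678354201), (nat_lit 0x867210543), (nat_lit 0x867543120), (nat_lit 0x102354867), (nat_lit 0x21534876), (nat_lit 0x534201687), (nat_lit 0x534102678), (nat_lit 0x102435678),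 (nat_lit 0x102534687), (nat_lit 0x345012768), (nat_lit 0x867345210), (nat_lit 0x534102867), (nat_lit 0x102435867), (nat_lit 0x345021867), (nat_lit 0x867012453), (nat_lit 0x102534768), (nat_lit 0x102453768), (nat_lit 0x354786102), (nat_lit 0x201678435), (nat_lit 0x201345867), (nat_lit 0x534678201), (nat_lit 0x345786120), (nat_lit 0x201786435), (nat_lit 0x201453867), (nat_lit 0x435201867), (nat_lit 0x201867435), (nat_lit 0x201534867), (nat_lit 0x345876102), (nat_lit 0x867021435), (nat_lit 0x867354201), (nat_lit 0x678210543), (nat_lit 0x678543120), (nat_lit 0x678453210), (nat_lit 0x678120453), (nat_lit 0x21345768), (nat_lit 0x786345021), (nat_lit 0x534021867), (nat_lit 0x786354012), (nat_lit 0x786012345), (nat_lit 0x120345678), (nat_lit 0x345201768), (nat_lit 0x687201435), (nat_lit 0x534201768), (nat_lit 0x786534021), (nat_lit 0x786102354), (nat_lit 0x768201435), (nat_lit 0x786435012), (nat_lit 0x786201345),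 (nat_lit 0x786345210), (nat_lit 0x678453021), (nat_lit 0x678453102), (nat_lit 0x786534210), (nat_lit 0x867453021), (nat_lit 0x867453102), (nat_lit 0x867534210), (nat_lit 0x678534210), (nat_lit 0x867120453), (nat_lit 0x786354201), (nat_lit 0x786012534), (nat_lit 0x786435201), (nat_lit 0x786201534), (nat_lit 0x786354120), (nat_lit 0x786012453), (nat_lit 0x867543201), (nat_lit 0x867120534), (nat_lit 0x867543012), (nat_lit 0x435120678), (nat_lit 0x867120345), (nat_lit 0x786201453), (nat_lit 0x678120534), (nat_lit 0x102345768), (nat_lit 0x786021435), (nat_lit 0x543678102), (nat_lit 0x345867201), (nat_lit 0x534867201), (nat_lit 0x786120534), (nat_lit 0x786453102), (nat_lit 0x453678120), (nat_lit 0x678201453), (nat_lit 0x867201453), (nat_lit 0x453867201), (nat_lit 0x453678201), (nat_lit 0x453867012), (nat_lit 0x678102435), (nat_lit 0x678435201), (nat_lit 0x867102435), (nat_lit 0x867435201), (nat_lit 0x678120345),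 (nat_lit 0x678345021), (nat_lit 0x678012345), (nat_lit 0x534786012), (nat_lit 0x867345021), (nat_lit 0x867012345), (nat_lit 0x345786012), (nat_lit 0x678543012), (nat_lit 0x786345102), (nat_lit 0x786534102), (nat_lit 0x786102435), (nat_lit 0x867453210), (nat_lit 0x867534021), (nat_lit 0x678534021), (nat_lit 0x453678012), (nat_lit 0x678201345), (nat_lit 0x867201345), (nat_lit 0x867345102), (nat_lit 0x678201534), (nat_lit 0x678543201), (nat_lit 0x867012534), (nat_lit 0x534786201), (nat_lit 0x678012534), (nat_lit 0x678345102), (nat_lit 0x345786201), (nat_lit 0x867201534), (nat_lit 0x678534102), (nat_lit 0x867534102)]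
noncomputable def KK2x_lO_W : List (List ℕ) := [[],
  [(nat_lit 0)],
  [(nat_lit 1)],
  [(nat_lit 2)],
  [(nat_lit 3)],
  [(nat_lit 4)],
  [(nat_lit 5)],
  [(nat_lit 0), (nat_lit 0)],
  [(nat_lit 0), (nat_lit 1)],
  [(nat_lit 0), (nat_lit 2)],
  [(nat_lit 0), (nat_lit 3)],
  [(nat_lit 0), (nat_lit 4)],
  [(nat_lit 0), (nat_lit 5)],
  [(nat_lit 1), (nat_lit 1)],
  [(nat_lit 1), (nat_lit 2)],
  [(nat_lit 1), (nat_lit 3)],
  [(nat_lit 1), (nat_lit 4)],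
  [(nat_lit 1), (nat_lit 5)],
  [(nat_lit 2), (nat_lit 2)],
  [(nat_lit 2), (nat_lit 3)],
  [(nat_lit 2), (nat_lit 4)],
  [(nat_lit 2), (nat_lit 5)],
  [(nat_lit 3), (nat_lit 0)],
  [(nat_lit 3), (nat_lit 1)],
  [(nat_lit 3), (nat_lit 2)],
  [(nat_lit 3), (nat_lit 3)],
  [(nat_lit 3), (nat_lit 4)],
  [(nat_lit 3), (nat_lit 5)],
  [(nat_lit 4), (nat_lit 0)],
  [(nat_lit 4), (nat_lit 1)],
  [(nat_lit 4), (nat_lit 2)],
  [(nat_lit 4), (nat_lit 3)],
  [(nat_lit 4), (nat_lit 5)],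
  [(nat_lit 5), (nat_lit 0)],
  [(nat_lit 5), (nat_lit 2)],
  [(nat_lit 5), (nat_lit 3)],
  [(nat_lit 5), (nat_lit 4)],
  [(nat_lit 0), (nat_lit 0), (nat_lit 1)],
  [(nat_lit 0), (nat_lit 0), (nat_lit 2)],
  [(nat_lit 0), (nat_lit 0), (nat_lit 3)],
  [(nat_lit 0), (nat_lit 1), (nat_lit 1)],
  [(nat_lit 0), (nat_lit 1), (nat_lit 2)],
  [(nat_lit 0), (nat_lit 1), (nat_lit 3)],
  [(nat_lit 0), (nat_lit 1), (nat_lit 4)],
  [(nat_lit 0), (nat_lit 1), (nat_lit 5)],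
  [(nat_lit 0), (nat_lit 2), (nat_lit 2)],
  [(nat_lit 0), (nat_lit 2), (nat_lit 3)],
  [(nat_lit 0), (nat_lit 2), (nat_lit 4)],
  [(nat_lit 0), (nat_lit 2), (nat_lit 5)],
  [(nat_lit 0), (nat_lit 3), (nat_lit 0)],
  [(nat_lit 0), (nat_lit 3), (nat_lit 1)],
  [(nat_lit 0), (nat_lit 3), (nat_lit 2)],
  [(nat_lit 0), (nat_lit 3), (nat_lit 3)],
  [(nat_lit 0), (nat_lit 3), (nat_lit 4)],
  [(nat_lit 0), (nat_lit 3), (nat_lit 5)],
  [(nat_lit 0), (nat_lit 4), (nat_lit 1)],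
  [(nat_lit 0), (nat_lit 4), (nat_lit 2)],
  [(nat_lit 0), (nat_lit 4), (nat_lit 3)],
  [(nat_lit 0), (nat_lit 4), (nat_lit 5)],
  [(nat_lit 0), (nat_lit 5), (nat_lit 2)],
  [(nat_lit 0), (nat_lit 5), (nat_lit 3)],
  [(nat_lit 0), (nat_lit 5), (nat_lit 4)],
  [(nat_lit 1), (nat_lit 1), (nat_lit 2)],
  [(nat_lit 1), (nat_lit 1), (nat_lit 3)],
  [(nat_lit 1), (nat_lit 1), (nat_lit 5)],
  [(nat_lit 1), (nat_lit 2), (nat_lit 2)],
  [(nat_lit 1), (nat_lit 2), (nat_lit 3)],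
  [(nat_lit 1), (nat_lit 2), (nat_lit 4)],
  [(nat_lit 1), (nat_lit 2), (nat_lit 5)],
  [(nat_lit 1), (nat_lit 3), (nat_lit 1)],
  [(nat_lit 1), (nat_lit 3), (nat_lit 3)],
  [(nat_lit 1), (nat_lit 3), (nat_lit 4)],
  [(nat_lit 1), (nat_lit 3), (nat_lit 5)],
  [(nat_lit 1), (nat_lit 4), (nat_lit 0)],
  [(nat_lit 1), (nat_lit 4), (nat_lit 1)],
  [(nat_lit 1), (nat_lit 4), (nat_lit 3)],
  [(nat_lit 1), (nat_lit 4), (nat_lit 5)],
  [(nat_lit 1), (nat_lit 5), (nat_lit 0)],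
  [(nat_lit 1), (nat_lit 5), (nat_lit 2)],
  [(nat_lit 1), (nat_lit 5), (nat_lit 3)],
  [(nat_lit 1), (nat_lit 5), (nat_lit 4)],
  [(nat_lit 2), (nat_lit 2), (nat_lit 3)],
  [(nat_lit 2), (nat_lit 3), (nat_lit 0)],
  [(nat_lit 2), (nat_lit 3), (nat_lit 1)],
  [(nat_lit 2), (nat_lit 3), (nat_lit 2)],
  [(nat_lit 2), (nat_lit 3), (nat_lit 3)],
  [(nat_lit 2), (nat_lit 3), (nat_lit 4)],
  [(nat_lit 2), (nat_lit 3), (nat_lit 5)],
  [(nat_lit 2), (nat_lit 4), (nat_lit 0)],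
  [(nat_lit 2), (nat_lit 4), (nat_lit 2)],
  [(nat_lit 2), (nat_lit 4), (nat_lit 3)],
  [(nat_lit 2), (nat_lit 4), (nat_lit 5)],
  [(nat_lit 2), (nat_lit 5), (nat_lit 0)],
  [(nat_lit 2), (nat_lit 5), (nat_lit 3)],
  [(nat_lit 2), (nat_lit 5), (nat_lit 4)],
  [(nat_lit 3), (nat_lit 0), (nat_lit 0)],
  [(nat_lit 3), (nat_lit 0), (nat_lit 3)],
  [(nat_lit 3), (nat_lit 0), (nat_lit 4)],
  [(nat_lit 3), (nat_lit 0), (nat_lit 5)],
  [(nat_lit 3), (nat_lit 1), (nat_lit 3)],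
  [(nat_lit 3), (nat_lit 1), (nat_lit 4)],
  [(nat_lit 3), (nat_lit 1), (nat_lit 5)],
  [(nat_lit 3), (nat_lit 2), (nat_lit 3)],
  [(nat_lit 3), (nat_lit 2), (nat_lit 4)],
  [(nat_lit 3), (nat_lit 2), (nat_lit 5)],
  [(nat_lit 3), (nat_lit 3), (nat_lit 0)],
  [(nat_lit 3), (nat_lit 3), (nat_lit 1)],
  [(nat_lit 3), (nat_lit 3), (nat_lit 2)],
  [(nat_lit 3), (nat_lit 3), (nat_lit 4)],
  [(nat_lit 3), (nat_lit 3), (nat_lit 5)],
  [(nat_lit 3), (nat_lit 4), (nat_lit 0)],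
  [(nat_lit 3), (nat_lit 4), (nat_lit 1)],
  [(nat_lit 3), (nat_lit 4), (nat_lit 2)],
  [(nat_lit 3), (nat_lit 4), (nat_lit 3)],
  [(nat_lit 3), (nat_lit 4), (nat_lit 5)],
  [(nat_lit 3), (nat_lit 5), (nat_lit 0)],
  [(nat_lit 3), (nat_lit 5), (nat_lit 2)],
  [(nat_lit 3), (nat_lit 5), (nat_lit 4)],
  [(nat_lit 4), (nat_lit 0), (nat_lit 1)],
  [(nat_lit 4), (nat_lit 0), (nat_lit 2)],
  [(nat_lit 4), (nat_lit 0), (nat_lit 3)],
  [(nat_lit 4), (nat_lit 0), (nat_lit 5)],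
  [(nat_lit 4), (nat_lit 1), (nat_lit 2)],
  [(nat_lit 4), (nat_lit 1), (nat_lit 3)],
  [(nat_lit 4), (nat_lit 1), (nat_lit 5)],
  [(nat_lit 4), (nat_lit 2), (nat_lit 3)],
  [(nat_lit 4), (nat_lit 2), (nat_lit 5)],
  [(nat_lit 4), (nat_lit 3), (nat_lit 0)],
  [(nat_lit 4), (nat_lit 3), (nat_lit 1)],
  [(nat_lit 4), (nat_lit 3), (nat_lit 2)],
  [(nat_lit 4), (nat_lit 3), (nat_lit 3)],
  [(nat_lit 4), (nat_lit 3), (nat_lit 4)],
  [(nat_lit 4), (nat_lit 3), (nat_lit 5)],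
  [(nat_lit 4), (nat_lit 5), (nat_lit 4)],
  [(nat_lit 5), (nat_lit 0), (nat_lit 2)],
  [(nat_lit 5), (nat_lit 0), (nat_lit 3)],
  [(nat_lit 5), (nat_lit 0), (nat_lit 4)],
  [(nat_lit 5), (nat_lit 2), (nat_lit 3)],
  [(nat_lit 5), (nat_lit 2), (nat_lit 4)],
  [(nat_lit 5), (nat_lit 3), (nat_lit 0)],
  [(nat_lit 5), (nat_lit 3), (nat_lit 1)],
  [(nat_lit 5), (nat_lit 3), (nat_lit 2)],
  [(nat_lit 5), (nat_lit 4), (nat_lit 2)],
  [(nat_lit 5), (nat_lit 4), (nat_lit 3)],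
  [(nat_lit 5), (nat_lit 4), (nat_lit 5)],
  [(nat_lit 0), (nat_lit 0), (nat_lit 1), (nat_lit 1)],
  [(nat_lit 0), (nat_lit 0), (nat_lit 1), (nat_lit 2)],
  [(nat_lit 0), (nat_lit 0), (nat_lit 1), (nat_lit 3)],
  [(nat_lit 0), (nat_lit 0), (nat_lit 2), (nat_lit 2)],
  [(nat_lit 0), (nat_lit 0), (nat_lit 2), (nat_lit 3)],
  [(nat_lit 0), (nat_lit 0), (nat_lit 3), (nat_lit 0)],
  [(nat_lit 0), (nat_lit 0), (nat_lit 3), (nat_lit 3)],
  [(nat_lit 0), (nat_lit 0), (nat_lit 3), (nat_lit 4)],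
  [(nat_lit 0), (nat_lit 0), (nat_lit 3), (nat_lit 5)],
  [(nat_lit 0), (nat_lit 1), (nat_lit 1), (nat_lit 2)],
  [(nat_lit 0), (nat_lit 1), (nat_lit 1), (nat_lit 5)],
  [(nat_lit 0), (nat_lit 1), (nat_lit 2), (nat_lit 2)],
  [(nat_lit 0), (nat_lit 1), (nat_lit 2), (nat_lit 4)],
  [(nat_lit 0), (nat_lit 1), (nat_lit 2), (nat_lit 5)],
  [(nat_lit 0), (nat_lit 1), (nat_lit 3), (nat_lit 1)],
  [(nat_lit 0), (nat_lit 1), (nat_lit 3), (nat_lit 3)],
  [(nat_lit 0), (nat_lit 1), (nat_lit 3), (nat_lit 4)],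
  [(nat_lit 0), (nat_lit 1), (nat_lit 3), (nat_lit 5)],
  [(nat_lit 0), (nat_lit 1), (nat_lit 4), (nat_lit 1)],
  [(nat_lit 0), (nat_lit 1), (nat_lit 4), (nat_lit 3)],
  [(nat_lit 0), (nat_lit 1), (nat_lit 4), (nat_lit 5)],
  [(nat_lit 0), (nat_lit 1), (nat_lit 5), (nat_lit 2)],
  [(nat_lit 0), (nat_lit 1), (nat_lit 5), (nat_lit 3)],
  [(nat_lit 0), (nat_lit 1), (nat_lit 5), (nat_lit 4)],
  [(nat_lit 0), (nat_lit 2), (nat_lit 3), (nat_lit 1)],
  [(nat_lit 0), (nat_lit 2), (nat_lit 3), (nat_lit 2)],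
  [(nat_lit 0), (nat_lit 2), (nat_lit 3), (nat_lit 3)],
  [(nat_lit 0), (nat_lit 2), (nat_lit 3), (nat_lit 4)],
  [(nat_lit 0), (nat_lit 2), (nat_lit 3), (nat_lit 5)],
  [(nat_lit 0), (nat_lit 2), (nat_lit 4), (nat_lit 2)],
  [(nat_lit 0), (nat_lit 2), (nat_lit 4), (nat_lit 3)],
  [(nat_lit 0), (nat_lit 2), (nat_lit 4), (nat_lit 5)],
  [(nat_lit 0), (nat_lit 2), (nat_lit 5), (nat_lit 3)],
  [(nat_lit 0), (nat_lit 2), (nat_lit 5), (nat_lit 4)],
  [(nat_lit 0), (nat_lit 3), (nat_lit 0), (nat_lit 4)],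
  [(nat_lit 0), (nat_lit 3), (nat_lit 0), (nat_lit 5)],
  [(nat_lit 0), (nat_lit 3), (nat_lit 1), (nat_lit 3)],
  [(nat_lit 0), (nat_lit 3), (nat_lit 2), (nat_lit 3)],
  [(nat_lit 0), (nat_lit 3), (nat_lit 2), (nat_lit 5)],
  [(nat_lit 0), (nat_lit 3), (nat_lit 3), (nat_lit 4)],
  [(nat_lit 0), (nat_lit 3), (nat_lit 3), (nat_lit 5)],
  [(nat_lit 0), (nat_lit 3), (nat_lit 4), (nat_lit 0)],
  [(nat_lit 0), (nat_lit 3), (nat_lit 4), (nat_lit 1)],
  [(nat_lit 0), (nat_lit 3), (nat_lit 4), (nat_lit 2)],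
  [(nat_lit 0), (nat_lit 3), (nat_lit 4), (nat_lit 3)],
  [(nat_lit 0), (nat_lit 3), (nat_lit 4), (nat_lit 5)],
  [(nat_lit 0), (nat_lit 3), (nat_lit 5), (nat_lit 0)],
  [(nat_lit 0), (nat_lit 3), (nat_lit 5), (nat_lit 2)],
  [(nat_lit 0), (nat_lit 3), (nat_lit 5), (nat_lit 4)],
  [(nat_lit 0), (nat_lit 4), (nat_lit 1), (nat_lit 2)],
  [(nat_lit 0), (nat_lit 4), (nat_lit 1), (nat_lit 3)],
  [(nat_lit 0), (nat_lit 4), (nat_lit 1), (nat_lit 5)],
  [(nat_lit 0), (nat_lit 4), (nat_lit 2), (nat_lit 3)],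
  [(nat_lit 0), (nat_lit 4), (nat_lit 2), (nat_lit 5)],
  [(nat_lit 0), (nat_lit 4), (nat_lit 3), (nat_lit 0)],
  [(nat_lit 0), (nat_lit 4), (nat_lit 3), (nat_lit 1)],
  [(nat_lit 0), (nat_lit 4), (nat_lit 3), (nat_lit 2)],
  [(nat_lit 0), (nat_lit 4), (nat_lit 3), (nat_lit 3)],
  [(nat_lit 0), (nat_lit 4), (nat_lit 3), (nat_lit 4)],
  [(nat_lit 0), (nat_lit 4), (nat_lit 3), (nat_lit 5)],
  [(nat_lit 0), (nat_lit 4), (nat_lit 5), (nat_lit 4)],
  [(nat_lit 0), (nat_lit 5), (nat_lit 2), (nat_lit 3)],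
  [(nat_lit 0), (nat_lit 5), (nat_lit 2), (nat_lit 4)],
  [(nat_lit 0), (nat_lit 5), (nat_lit 3), (nat_lit 0)],
  [(nat_lit 0), (nat_lit 5), (nat_lit 3), (nat_lit 1)],
  [(nat_lit 0), (nat_lit 5), (nat_lit 3), (nat_lit 2)],
  [(nat_lit 0), (nat_lit 5), (nat_lit 4), (nat_lit 2)],
  [(nat_lit 0), (nat_lit 5), (nat_lit 4), (nat_lit 3)],
  [(nat_lit 0), (nat_lit 5), (nat_lit 4), (nat_lit 5)],
  [(nat_lit 1), (nat_lit 1), (nat_lit 2), (nat_lit 2)],
  [(nat_lit 1), (nat_lit 1), (nat_lit 2), (nat_lit 5)],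
  [(nat_lit 1), (nat_lit 1), (nat_lit 3), (nat_lit 3)],
  [(nat_lit 1), (nat_lit 1), (nat_lit 3), (nat_lit 4)],
  [(nat_lit 1), (nat_lit 1), (nat_lit 3), (nat_lit 5)],
  [(nat_lit 1), (nat_lit 1), (nat_lit 5), (nat_lit 0)],
  [(nat_lit 1), (nat_lit 1), (nat_lit 5), (nat_lit 2)],
  [(nat_lit 1), (nat_lit 1), (nat_lit 5), (nat_lit 3)],
  [(nat_lit 1), (nat_lit 2), (nat_lit 3), (nat_lit 3)],
  [(nat_lit 1), (nat_lit 2), (nat_lit 3), (nat_lit 5)],
  [(nat_lit 1), (nat_lit 2), (nat_lit 4), (nat_lit 0)],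
  [(nat_lit 1), (nat_lit 2), (nat_lit 4), (nat_lit 5)],
  [(nat_lit 1), (nat_lit 2), (nat_lit 5), (nat_lit 0)],
  [(nat_lit 1), (nat_lit 2), (nat_lit 5), (nat_lit 3)],
  [(nat_lit 1), (nat_lit 2), (nat_lit 5), (nat_lit 4)],
  [(nat_lit 1), (nat_lit 3), (nat_lit 1), (nat_lit 3)],
  [(nat_lit 1), (nat_lit 3), (nat_lit 1), (nat_lit 4)],
  [(nat_lit 1), (nat_lit 3), (nat_lit 1), (nat_lit 5)],
  [(nat_lit 1), (nat_lit 3), (nat_lit 3), (nat_lit 0)],
  [(nat_lit 1), (nat_lit 3), (nat_lit 3), (nat_lit 2)],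
  [(nat_lit 1), (nat_lit 3), (nat_lit 3), (nat_lit 4)],
  [(nat_lit 1), (nat_lit 3), (nat_lit 3), (nat_lit 5)],
  [(nat_lit 1), (nat_lit 3), (nat_lit 4), (nat_lit 1)],
  [(nat_lit 1), (nat_lit 3), (nat_lit 4), (nat_lit 2)],
  [(nat_lit 1), (nat_lit 3), (nat_lit 4), (nat_lit 3)],
  [(nat_lit 1), (nat_lit 3), (nat_lit 4), (nat_lit 5)],
  [(nat_lit 1), (nat_lit 3), (nat_lit 5), (nat_lit 2)],
  [(nat_lit 1), (nat_lit 3), (nat_lit 5), (nat_lit 4)],
  [(nat_lit 1), (nat_lit 4), (nat_lit 0), (nat_lit 1)],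
  [(nat_lit 1), (nat_lit 4), (nat_lit 0), (nat_lit 3)],
  [(nat_lit 1), (nat_lit 4), (nat_lit 0), (nat_lit 5)],
  [(nat_lit 1), (nat_lit 4), (nat_lit 1), (nat_lit 3)],
  [(nat_lit 1), (nat_lit 4), (nat_lit 1), (nat_lit 5)],
  [(nat_lit 1), (nat_lit 4), (nat_lit 3), (nat_lit 1)],
  [(nat_lit 1), (nat_lit 4), (nat_lit 3), (nat_lit 2)],
  [(nat_lit 1), (nat_lit 4), (nat_lit 3), (nat_lit 3)],
  [(nat_lit 1), (nat_lit 4), (nat_lit 3), (nat_lit 4)],
  [(nat_lit 1), (nat_lit 4), (nat_lit 3), (nat_lit 5)],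
  [(nat_lit 1), (nat_lit 4), (nat_lit 5), (nat_lit 4)],
  [(nat_lit 1), (nat_lit 5), (nat_lit 0), (nat_lit 2)],
  [(nat_lit 1), (nat_lit 5), (nat_lit 0), (nat_lit 3)],
  [(nat_lit 1), (nat_lit 5), (nat_lit 0), (nat_lit 4)],
  [(nat_lit 1), (nat_lit 5), (nat_lit 2), (nat_lit 4)],
  [(nat_lit 1), (nat_lit 5), (nat_lit 3), (nat_lit 1)],
  [(nat_lit 1), (nat_lit 5), (nat_lit 3), (nat_lit 2)],
  [(nat_lit 1), (nat_lit 5), (nat_lit 4), (nat_lit 3)],
  [(nat_lit 1), (nat_lit 5), (nat_lit 4), (nat_lit 5)],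
  [(nat_lit 2), (nat_lit 2), (nat_lit 3), (nat_lit 4)],
  [(nat_lit 2), (nat_lit 2), (nat_lit 3), (nat_lit 5)],
  [(nat_lit 2), (nat_lit 3), (nat_lit 1), (nat_lit 3)],
  [(nat_lit 2), (nat_lit 3), (nat_lit 1), (nat_lit 4)],
  [(nat_lit 2), (nat_lit 3), (nat_lit 1), (nat_lit 5)],
  [(nat_lit 2), (nat_lit 3), (nat_lit 2), (nat_lit 3)],
  [(nat_lit 2), (nat_lit 3), (nat_lit 3), (nat_lit 4)],
  [(nat_lit 2), (nat_lit 3), (nat_lit 3), (nat_lit 5)],
  [(nat_lit 2), (nat_lit 3), (nat_lit 4), (nat_lit 1)],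
  [(nat_lit 2), (nat_lit 3), (nat_lit 4), (nat_lit 2)],
  [(nat_lit 2), (nat_lit 3), (nat_lit 4), (nat_lit 3)],
  [(nat_lit 2), (nat_lit 3), (nat_lit 4), (nat_lit 5)],
  [(nat_lit 2), (nat_lit 3), (nat_lit 5), (nat_lit 2)],
  [(nat_lit 2), (nat_lit 3), (nat_lit 5), (nat_lit 4)],
  [(nat_lit 2), (nat_lit 4), (nat_lit 0), (nat_lit 2)],
  [(nat_lit 2), (nat_lit 4), (nat_lit 0), (nat_lit 3)],
  [(nat_lit 2), (nat_lit 4), (nat_lit 0), (nat_lit 5)],
  [(nat_lit 2), (nat_lit 4), (nat_lit 2), (nat_lit 5)],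
  [(nat_lit 2), (nat_lit 4), (nat_lit 3), (nat_lit 1)],
  [(nat_lit 2), (nat_lit 4), (nat_lit 3), (nat_lit 2)],
  [(nat_lit 2), (nat_lit 4), (nat_lit 3), (nat_lit 3)],
  [(nat_lit 2), (nat_lit 4), (nat_lit 3), (nat_lit 4)],
  [(nat_lit 2), (nat_lit 4), (nat_lit 3), (nat_lit 5)],
  [(nat_lit 2), (nat_lit 4), (nat_lit 5), (nat_lit 4)],
  [(nat_lit 2), (nat_lit 5), (nat_lit 0), (nat_lit 4)],
  [(nat_lit 2), (nat_lit 5), (nat_lit 4), (nat_lit 2)],
  [(nat_lit 2), (nat_lit 5), (nat_lit 4), (nat_lit 3)],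
  [(nat_lit 2), (nat_lit 5), (nat_lit 4), (nat_lit 5)],
  [(nat_lit 3), (nat_lit 0), (nat_lit 0), (nat_lit 3)],
  [(nat_lit 3), (nat_lit 0), (nat_lit 3), (nat_lit 2)],
  [(nat_lit 3), (nat_lit 0), (nat_lit 3), (nat_lit 4)],
  [(nat_lit 3), (nat_lit 0), (nat_lit 3), (nat_lit 5)],
  [(nat_lit 3), (nat_lit 0), (nat_lit 4), (nat_lit 1)],
  [(nat_lit 3), (nat_lit 0), (nat_lit 4), (nat_lit 3)],
  [(nat_lit 3), (nat_lit 0), (nat_lit 4), (nat_lit 5)],
  [(nat_lit 3), (nat_lit 0), (nat_lit 5), (nat_lit 2)],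
  [(nat_lit 3), (nat_lit 0), (nat_lit 5), (nat_lit 4)],
  [(nat_lit 3), (nat_lit 1), (nat_lit 3), (nat_lit 1)],
  [(nat_lit 3), (nat_lit 1), (nat_lit 3), (nat_lit 3)],
  [(nat_lit 3), (nat_lit 1), (nat_lit 3), (nat_lit 4)],
  [(nat_lit 3), (nat_lit 1), (nat_lit 3), (nat_lit 5)],
  [(nat_lit 3), (nat_lit 1), (nat_lit 4), (nat_lit 3)],
  [(nat_lit 3), (nat_lit 1), (nat_lit 4), (nat_lit 5)],
  [(nat_lit 3), (nat_lit 1), (nat_lit 5), (nat_lit 3)],
  [(nat_lit 3), (nat_lit 1), (nat_lit 5), (nat_lit 4)],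
  [(nat_lit 3), (nat_lit 2), (nat_lit 3), (nat_lit 1)],
  [(nat_lit 3), (nat_lit 2), (nat_lit 3), (nat_lit 4)],
  [(nat_lit 3), (nat_lit 2), (nat_lit 3), (nat_lit 5)],
  [(nat_lit 3), (nat_lit 2), (nat_lit 4), (nat_lit 3)],
  [(nat_lit 3), (nat_lit 2), (nat_lit 4), (nat_lit 5)],
  [(nat_lit 3), (nat_lit 2), (nat_lit 5), (nat_lit 3)],
  [(nat_lit 3), (nat_lit 2), (nat_lit 5), (nat_lit 4)],
  [(nat_lit 3), (nat_lit 3), (nat_lit 0), (nat_lit 4)],
  [(nat_lit 3), (nat_lit 3), (nat_lit 0), (nat_lit 5)],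
  [(nat_lit 3), (nat_lit 3), (nat_lit 1), (nat_lit 4)],
  [(nat_lit 3), (nat_lit 3), (nat_lit 1), (nat_lit 5)],
  [(nat_lit 3), (nat_lit 3), (nat_lit 2), (nat_lit 3)],
  [(nat_lit 3), (nat_lit 3), (nat_lit 2), (nat_lit 4)],
  [(nat_lit 3), (nat_lit 3), (nat_lit 2), (nat_lit 5)],
  [(nat_lit 3), (nat_lit 3), (nat_lit 4), (nat_lit 0)],
  [(nat_lit 3), (nat_lit 3), (nat_lit 4), (nat_lit 1)],
  [(nat_lit 3), (nat_lit 3), (nat_lit 4), (nat_lit 2)],
  [(nat_lit 3), (nat_lit 3), (nat_lit 4), (nat_lit 3)],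
  [(nat_lit 3), (nat_lit 3), (nat_lit 5), (nat_lit 0)],
  [(nat_lit 3), (nat_lit 3), (nat_lit 5), (nat_lit 2)],
  [(nat_lit 3), (nat_lit 4), (nat_lit 0), (nat_lit 1)],
  [(nat_lit 3), (nat_lit 4), (nat_lit 0), (nat_lit 3)],
  [(nat_lit 3), (nat_lit 4), (nat_lit 0), (nat_lit 5)],
  [(nat_lit 3), (nat_lit 4), (nat_lit 1), (nat_lit 3)],
  [(nat_lit 3), (nat_lit 4), (nat_lit 1), (nat_lit 5)],
  [(nat_lit 3), (nat_lit 4), (nat_lit 2), (nat_lit 3)],
  [(nat_lit 3), (nat_lit 4), (nat_lit 2), (nat_lit 5)],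
  [(nat_lit 3), (nat_lit 4), (nat_lit 3), (nat_lit 0)],
  [(nat_lit 3), (nat_lit 4), (nat_lit 3), (nat_lit 1)],
  [(nat_lit 3), (nat_lit 4), (nat_lit 3), (nat_lit 2)],
  [(nat_lit 3), (nat_lit 4), (nat_lit 3), (nat_lit 5)],
  [(nat_lit 3), (nat_lit 5), (nat_lit 0), (nat_lit 2)],
  [(nat_lit 3), (nat_lit 5), (nat_lit 0), (nat_lit 4)],
  [(nat_lit 3), (nat_lit 5), (nat_lit 2), (nat_lit 3)],
  [(nat_lit 3), (nat_lit 5), (nat_lit 2), (nat_lit 4)],
  [(nat_lit 3), (nat_lit 5), (nat_lit 4), (nat_lit 2)],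
  [(nat_lit 4), (nat_lit 0), (nat_lit 1), (nat_lit 2)],
  [(nat_lit 4), (nat_lit 0), (nat_lit 1), (nat_lit 5)],
  [(nat_lit 4), (nat_lit 0), (nat_lit 2), (nat_lit 5)],
  [(nat_lit 4), (nat_lit 0), (nat_lit 3), (nat_lit 1)],
  [(nat_lit 4), (nat_lit 0), (nat_lit 3), (nat_lit 2)],
  [(nat_lit 4), (nat_lit 0), (nat_lit 3), (nat_lit 3)],
  [(nat_lit 4), (nat_lit 0), (nat_lit 3), (nat_lit 4)],
  [(nat_lit 4), (nat_lit 0), (nat_lit 3), (nat_lit 5)],
  [(nat_lit 4), (nat_lit 0), (nat_lit 5), (nat_lit 3)],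
  [(nat_lit 4), (nat_lit 0), (nat_lit 5), (nat_lit 4)],
  [(nat_lit 4), (nat_lit 1), (nat_lit 2), (nat_lit 5)],
  [(nat_lit 4), (nat_lit 1), (nat_lit 3), (nat_lit 3)],
  [(nat_lit 4), (nat_lit 1), (nat_lit 3), (nat_lit 4)],
  [(nat_lit 4), (nat_lit 1), (nat_lit 3), (nat_lit 5)],
  [(nat_lit 4), (nat_lit 1), (nat_lit 5), (nat_lit 3)],
  [(nat_lit 4), (nat_lit 1), (nat_lit 5), (nat_lit 4)],
  [(nat_lit 4), (nat_lit 2), (nat_lit 3), (nat_lit 3)],
  [(nat_lit 4), (nat_lit 2), (nat_lit 3), (nat_lit 4)],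
  [(nat_lit 4), (nat_lit 2), (nat_lit 3), (nat_lit 5)],
  [(nat_lit 4), (nat_lit 2), (nat_lit 5), (nat_lit 3)],
  [(nat_lit 4), (nat_lit 2), (nat_lit 5), (nat_lit 4)],
  [(nat_lit 4), (nat_lit 3), (nat_lit 0), (nat_lit 3)],
  [(nat_lit 4), (nat_lit 3), (nat_lit 0), (nat_lit 4)],
  [(nat_lit 4), (nat_lit 3), (nat_lit 0), (nat_lit 5)],
  [(nat_lit 4), (nat_lit 3), (nat_lit 1), (nat_lit 3)],
  [(nat_lit 4), (nat_lit 3), (nat_lit 1), (nat_lit 4)],
  [(nat_lit 4), (nat_lit 3), (nat_lit 1), (nat_lit 5)],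
  [(nat_lit 4), (nat_lit 3), (nat_lit 2), (nat_lit 3)],
  [(nat_lit 4), (nat_lit 3), (nat_lit 2), (nat_lit 4)],
  [(nat_lit 4), (nat_lit 3), (nat_lit 2), (nat_lit 5)],
  [(nat_lit 4), (nat_lit 3), (nat_lit 3), (nat_lit 0)],
  [(nat_lit 4), (nat_lit 3), (nat_lit 3), (nat_lit 1)],
  [(nat_lit 4), (nat_lit 3), (nat_lit 3), (nat_lit 2)],
  [(nat_lit 4), (nat_lit 3), (nat_lit 4), (nat_lit 0)],
  [(nat_lit 4), (nat_lit 3), (nat_lit 4), (nat_lit 1)],
  [(nat_lit 4), (nat_lit 3), (nat_lit 4), (nat_lit 2)],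
  [(nat_lit 4), (nat_lit 3), (nat_lit 5), (nat_lit 0)],
  [(nat_lit 4), (nat_lit 3), (nat_lit 5), (nat_lit 2)],
  [(nat_lit 5), (nat_lit 0), (nat_lit 2), (nat_lit 3)],
  [(nat_lit 5), (nat_lit 0), (nat_lit 2), (nat_lit 4)],
  [(nat_lit 5), (nat_lit 0), (nat_lit 3), (nat_lit 1)],
  [(nat_lit 5), (nat_lit 0), (nat_lit 3), (nat_lit 2)],
  [(nat_lit 5), (nat_lit 0), (nat_lit 3), (nat_lit 3)],
  [(nat_lit 5), (nat_lit 0), (nat_lit 4), (nat_lit 2)],
  [(nat_lit 5), (nat_lit 0), (nat_lit 4), (nat_lit 3)],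
  [(nat_lit 5), (nat_lit 0), (nat_lit 4), (nat_lit 5)],
  [(nat_lit 5), (nat_lit 2), (nat_lit 3), (nat_lit 1)],
  [(nat_lit 5), (nat_lit 2), (nat_lit 3), (nat_lit 2)],
  [(nat_lit 5), (nat_lit 2), (nat_lit 3), (nat_lit 3)],
  [(nat_lit 5), (nat_lit 2), (nat_lit 4), (nat_lit 2)],
  [(nat_lit 5), (nat_lit 2), (nat_lit 4), (nat_lit 3)],
  [(nat_lit 5), (nat_lit 2), (nat_lit 4), (nat_lit 5)],
  [(nat_lit 5), (nat_lit 3), (nat_lit 0), (nat_lit 3)],
  [(nat_lit 5), (nat_lit 3), (nat_lit 0), (nat_lit 5)],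
  [(nat_lit 5), (nat_lit 3), (nat_lit 1), (nat_lit 3)],
  [(nat_lit 5), (nat_lit 3), (nat_lit 2), (nat_lit 3)],
  [(nat_lit 5), (nat_lit 3), (nat_lit 2), (nat_lit 4)],
  [(nat_lit 5), (nat_lit 3), (nat_lit 2), (nat_lit 5)],
  [(nat_lit 5), (nat_lit 4), (nat_lit 2), (nat_lit 3)],
  [(nat_lit 5), (nat_lit 4), (nat_lit 2), (nat_lit 5)],
  [(nat_lit 5), (nat_lit 4), (nat_lit 3), (nat_lit 0)],
  [(nat_lit 5), (nat_lit 4), (nat_lit 3), (nat_lit 1)],
  [(nat_lit 5), (nat_lit 4), (nat_lit 3), (nat_lit 2)],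
  [(nat_lit 0), (nat_lit 0), (nat_lit 1), (nat_lit 2), (nat_lit 2)],
  [(nat_lit 0), (nat_lit 0), (nat_lit 3), (nat_lit 0), (nat_lit 5)],
  [(nat_lit 0), (nat_lit 0), (nat_lit 3), (nat_lit 3), (nat_lit 4)],
  [(nat_lit 0), (nat_lit 0), (nat_lit 3), (nat_lit 4), (nat_lit 3)],
  [(nat_lit 0), (nat_lit 0), (nat_lit 3), (nat_lit 5), (nat_lit 0)],
  [(nat_lit 0), (nat_lit 0), (nat_lit 3), (nat_lit 5), (nat_lit 4)],
  [(nat_lit 0), (nat_lit 1), (nat_lit 1), (nat_lit 2), (nat_lit 5)],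
  [(nat_lit 0), (nat_lit 1), (nat_lit 1), (nat_lit 5), (nat_lit 2)],
  [(nat_lit 0), (nat_lit 1), (nat_lit 1), (nat_lit 5), (nat_lit 3)],
  [(nat_lit 0), (nat_lit 1), (nat_lit 2), (nat_lit 4), (nat_lit 5)],
  [(nat_lit 0), (nat_lit 1), (nat_lit 2), (nat_lit 5), (nat_lit 3)],
  [(nat_lit 0), (nat_lit 1), (nat_lit 3), (nat_lit 3), (nat_lit 4)],
  [(nat_lit 0), (nat_lit 1), (nat_lit 3), (nat_lit 3), (nat_lit 5)],
  [(nat_lit 0), (nat_lit 1), (nat_lit 3), (nat_lit 4), (nat_lit 3)],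
  [(nat_lit 0), (nat_lit 1), (nat_lit 3), (nat_lit 4), (nat_lit 5)],
  [(nat_lit 0), (nat_lit 1), (nat_lit 3), (nat_lit 5), (nat_lit 4)],
  [(nat_lit 0), (nat_lit 1), (nat_lit 4), (nat_lit 1), (nat_lit 3)],
  [(nat_lit 0), (nat_lit 1), (nat_lit 4), (nat_lit 1), (nat_lit 5)],
  [(nat_lit 0), (nat_lit 1), (nat_lit 4), (nat_lit 3), (nat_lit 3)],
  [(nat_lit 0), (nat_lit 1), (nat_lit 4), (nat_lit 3), (nat_lit 4)],
  [(nat_lit 0), (nat_lit 1), (nat_lit 4), (nat_lit 3), (nat_lit 5)],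
  [(nat_lit 0), (nat_lit 1), (nat_lit 4), (nat_lit 5), (nat_lit 4)],
  [(nat_lit 0), (nat_lit 1), (nat_lit 5), (nat_lit 2), (nat_lit 4)],
  [(nat_lit 0), (nat_lit 1), (nat_lit 5), (nat_lit 4), (nat_lit 3)],
  [(nat_lit 0), (nat_lit 1), (nat_lit 5), (nat_lit 4), (nat_lit 5)],
  [(nat_lit 0), (nat_lit 2), (nat_lit 3), (nat_lit 1), (nat_lit 3)],
  [(nat_lit 0), (nat_lit 2), (nat_lit 3), (nat_lit 3), (nat_lit 4)],
  [(nat_lit 0), (nat_lit 2), (nat_lit 3), (nat_lit 3), (nat_lit 5)],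
  [(nat_lit 0), (nat_lit 2), (nat_lit 3), (nat_lit 4), (nat_lit 3)],
  [(nat_lit 0), (nat_lit 2), (nat_lit 3), (nat_lit 4), (nat_lit 5)],
  [(nat_lit 0), (nat_lit 2), (nat_lit 3), (nat_lit 5), (nat_lit 4)],
  [(nat_lit 0), (nat_lit 2), (nat_lit 4), (nat_lit 2), (nat_lit 5)],
  [(nat_lit 0), (nat_lit 2), (nat_lit 4), (nat_lit 3), (nat_lit 3)],
  [(nat_lit 0), (nat_lit 2), (nat_lit 4), (nat_lit 3), (nat_lit 4)],
  [(nat_lit 0), (nat_lit 2), (nat_lit 4), (nat_lit 3), (nat_lit 5)],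
  [(nat_lit 0), (nat_lit 2), (nat_lit 4), (nat_lit 5), (nat_lit 4)],
  [(nat_lit 0), (nat_lit 2), (nat_lit 5), (nat_lit 4), (nat_lit 2)],
  [(nat_lit 0), (nat_lit 2), (nat_lit 5), (nat_lit 4), (nat_lit 3)],
  [(nat_lit 0), (nat_lit 2), (nat_lit 5), (nat_lit 4), (nat_lit 5)],
  [(nat_lit 0), (nat_lit 3), (nat_lit 0), (nat_lit 4), (nat_lit 3)],
  [(nat_lit 0), (nat_lit 3), (nat_lit 0), (nat_lit 4), (nat_lit 5)],
  [(nat_lit 0), (nat_lit 3), (nat_lit 0), (nat_lit 5), (nat_lit 4)],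
  [(nat_lit 0), (nat_lit 3), (nat_lit 1), (nat_lit 3), (nat_lit 3)],
  [(nat_lit 0), (nat_lit 3), (nat_lit 1), (nat_lit 3), (nat_lit 4)],
  [(nat_lit 0), (nat_lit 3), (nat_lit 1), (nat_lit 3), (nat_lit 5)],
  [(nat_lit 0), (nat_lit 3), (nat_lit 2), (nat_lit 3), (nat_lit 4)],
  [(nat_lit 0), (nat_lit 3), (nat_lit 2), (nat_lit 3), (nat_lit 5)],
  [(nat_lit 0), (nat_lit 3), (nat_lit 2), (nat_lit 5), (nat_lit 3)],
  [(nat_lit 0), (nat_lit 3), (nat_lit 3), (nat_lit 4), (nat_lit 2)],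
  [(nat_lit 0), (nat_lit 3), (nat_lit 3), (nat_lit 4), (nat_lit 3)],
  [(nat_lit 0), (nat_lit 3), (nat_lit 4), (nat_lit 0), (nat_lit 5)],
  [(nat_lit 0), (nat_lit 3), (nat_lit 4), (nat_lit 2), (nat_lit 3)],
  [(nat_lit 0), (nat_lit 3), (nat_lit 4), (nat_lit 2), (nat_lit 5)],
  [(nat_lit 0), (nat_lit 3), (nat_lit 4), (nat_lit 3), (nat_lit 5)],
  [(nat_lit 0), (nat_lit 3), (nat_lit 5), (nat_lit 0), (nat_lit 4)],
  [(nat_lit 0), (nat_lit 3), (nat_lit 5), (nat_lit 2), (nat_lit 4)],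
  [(nat_lit 0), (nat_lit 3), (nat_lit 5), (nat_lit 4), (nat_lit 2)],
  [(nat_lit 0), (nat_lit 4), (nat_lit 1), (nat_lit 2), (nat_lit 5)],
  [(nat_lit 0), (nat_lit 4), (nat_lit 1), (nat_lit 3), (nat_lit 3)],
  [(nat_lit 0), (nat_lit 4), (nat_lit 1), (nat_lit 3), (nat_lit 4)],
  [(nat_lit 0), (nat_lit 4), (nat_lit 1), (nat_lit 3), (nat_lit 5)],
  [(nat_lit 0), (nat_lit 4), (nat_lit 1), (nat_lit 5), (nat_lit 3)],
  [(nat_lit 0), (nat_lit 4), (nat_lit 1), (nat_lit 5), (nat_lit 4)],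
  [(nat_lit 0), (nat_lit 4), (nat_lit 2), (nat_lit 3), (nat_lit 3)],
  [(nat_lit 0), (nat_lit 4), (nat_lit 2), (nat_lit 3), (nat_lit 4)],
  [(nat_lit 0), (nat_lit 4), (nat_lit 2), (nat_lit 3), (nat_lit 5)],
  [(nat_lit 0), (nat_lit 4), (nat_lit 2), (nat_lit 5), (nat_lit 3)],
  [(nat_lit 0), (nat_lit 4), (nat_lit 2), (nat_lit 5), (nat_lit 4)],
  [(nat_lit 0), (nat_lit 4), (nat_lit 3), (nat_lit 0), (nat_lit 4)],
  [(nat_lit 0), (nat_lit 4), (nat_lit 3), (nat_lit 0), (nat_lit 5)],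
  [(nat_lit 0), (nat_lit 4), (nat_lit 3), (nat_lit 1), (nat_lit 4)],
  [(nat_lit 0), (nat_lit 4), (nat_lit 3), (nat_lit 1), (nat_lit 5)],
  [(nat_lit 0), (nat_lit 4), (nat_lit 3), (nat_lit 2), (nat_lit 4)],
  [(nat_lit 0), (nat_lit 4), (nat_lit 3), (nat_lit 2), (nat_lit 5)],
  [(nat_lit 0), (nat_lit 4), (nat_lit 3), (nat_lit 3), (nat_lit 0)],
  [(nat_lit 0), (nat_lit 4), (nat_lit 3), (nat_lit 4), (nat_lit 0)],
  [(nat_lit 0), (nat_lit 4), (nat_lit 3), (nat_lit 5), (nat_lit 0)],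
  [(nat_lit 0), (nat_lit 5), (nat_lit 2), (nat_lit 3), (nat_lit 3)],
  [(nat_lit 0), (nat_lit 5), (nat_lit 2), (nat_lit 4), (nat_lit 3)],
  [(nat_lit 0), (nat_lit 5), (nat_lit 2), (nat_lit 4), (nat_lit 5)],
  [(nat_lit 0), (nat_lit 5), (nat_lit 3), (nat_lit 0), (nat_lit 5)],
  [(nat_lit 0), (nat_lit 5), (nat_lit 3), (nat_lit 2), (nat_lit 4)],
  [(nat_lit 0), (nat_lit 5), (nat_lit 3), (nat_lit 2), (nat_lit 5)],
  [(nat_lit 0), (nat_lit 5), (nat_lit 4), (nat_lit 2), (nat_lit 3)],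
  [(nat_lit 0), (nat_lit 5), (nat_lit 4), (nat_lit 2), (nat_lit 5)],
  [(nat_lit 0), (nat_lit 5), (nat_lit 4), (nat_lit 3), (nat_lit 0)],
  [(nat_lit 0), (nat_lit 5), (nat_lit 4), (nat_lit 3), (nat_lit 1)],
  [(nat_lit 0), (nat_lit 5), (nat_lit 4), (nat_lit 3), (nat_lit 2)],
  [(nat_lit 1), (nat_lit 1), (nat_lit 2), (nat_lit 5), (nat_lit 0)],
  [(nat_lit 1), (nat_lit 1), (nat_lit 3), (nat_lit 3), (nat_lit 4)],
  [(nat_lit 1), (nat_lit 1), (nat_lit 3), (nat_lit 4), (nat_lit 3)],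
  [(nat_lit 1), (nat_lit 1), (nat_lit 3), (nat_lit 4), (nat_lit 5)],
  [(nat_lit 1), (nat_lit 1), (nat_lit 3), (nat_lit 5), (nat_lit 4)],
  [(nat_lit 1), (nat_lit 1), (nat_lit 5), (nat_lit 0), (nat_lit 2)],
  [(nat_lit 1), (nat_lit 2), (nat_lit 4), (nat_lit 0), (nat_lit 5)],
  [(nat_lit 1), (nat_lit 2), (nat_lit 4), (nat_lit 5), (nat_lit 4)],
  [(nat_lit 1), (nat_lit 2), (nat_lit 5), (nat_lit 4), (nat_lit 3)],
  [(nat_lit 1), (nat_lit 2), (nat_lit 5), (nat_lit 4), (nat_lit 5)],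
  [(nat_lit 1), (nat_lit 3), (nat_lit 1), (nat_lit 3), (nat_lit 4)],
  [(nat_lit 1), (nat_lit 3), (nat_lit 1), (nat_lit 4), (nat_lit 3)],
  [(nat_lit 1), (nat_lit 3), (nat_lit 1), (nat_lit 5), (nat_lit 4)],
  [(nat_lit 1), (nat_lit 3), (nat_lit 3), (nat_lit 0), (nat_lit 4)],
  [(nat_lit 1), (nat_lit 3), (nat_lit 3), (nat_lit 2), (nat_lit 4)],
  [(nat_lit 1), (nat_lit 3), (nat_lit 3), (nat_lit 2), (nat_lit 5)],
  [(nat_lit 1), (nat_lit 3), (nat_lit 3), (nat_lit 4), (nat_lit 3)],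
  [(nat_lit 1), (nat_lit 3), (nat_lit 4), (nat_lit 1), (nat_lit 3)],
  [(nat_lit 1), (nat_lit 3), (nat_lit 4), (nat_lit 1), (nat_lit 5)],
  [(nat_lit 1), (nat_lit 3), (nat_lit 4), (nat_lit 2), (nat_lit 3)],
  [(nat_lit 1), (nat_lit 3), (nat_lit 4), (nat_lit 3), (nat_lit 0)],
  [(nat_lit 1), (nat_lit 3), (nat_lit 4), (nat_lit 3), (nat_lit 5)],
  [(nat_lit 1), (nat_lit 3), (nat_lit 5), (nat_lit 2), (nat_lit 4)],
  [(nat_lit 1), (nat_lit 3), (nat_lit 5), (nat_lit 4), (nat_lit 2)],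
  [(nat_lit 1), (nat_lit 4), (nat_lit 0), (nat_lit 1), (nat_lit 5)],
  [(nat_lit 1), (nat_lit 4), (nat_lit 0), (nat_lit 3), (nat_lit 3)],
  [(nat_lit 1), (nat_lit 4), (nat_lit 0), (nat_lit 3), (nat_lit 4)],
  [(nat_lit 1), (nat_lit 4), (nat_lit 0), (nat_lit 3), (nat_lit 5)],
  [(nat_lit 1), (nat_lit 4), (nat_lit 0), (nat_lit 5), (nat_lit 3)],
  [(nat_lit 1), (nat_lit 4), (nat_lit 0), (nat_lit 5), (nat_lit 4)],
  [(nat_lit 1), (nat_lit 4), (nat_lit 1), (nat_lit 5), (nat_lit 4)],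
  [(nat_lit 1), (nat_lit 4), (nat_lit 3), (nat_lit 1), (nat_lit 4)],
  [(nat_lit 1), (nat_lit 4), (nat_lit 3), (nat_lit 1), (nat_lit 5)],
  [(nat_lit 1), (nat_lit 4), (nat_lit 3), (nat_lit 2), (nat_lit 3)],
  [(nat_lit 1), (nat_lit 4), (nat_lit 3), (nat_lit 2), (nat_lit 4)],
  [(nat_lit 1), (nat_lit 4), (nat_lit 3), (nat_lit 2), (nat_lit 5)],
  [(nat_lit 1), (nat_lit 4), (nat_lit 3), (nat_lit 3), (nat_lit 1)],
  [(nat_lit 1), (nat_lit 5), (nat_lit 0), (nat_lit 2), (nat_lit 4)],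
  [(nat_lit 1), (nat_lit 5), (nat_lit 0), (nat_lit 3), (nat_lit 3)],
  [(nat_lit 1), (nat_lit 5), (nat_lit 0), (nat_lit 4), (nat_lit 3)],
  [(nat_lit 1), (nat_lit 5), (nat_lit 0), (nat_lit 4), (nat_lit 5)],
  [(nat_lit 1), (nat_lit 5), (nat_lit 2), (nat_lit 4), (nat_lit 3)],
  [(nat_lit 1), (nat_lit 5), (nat_lit 2), (nat_lit 4), (nat_lit 5)],
  [(nat_lit 1), (nat_lit 5), (nat_lit 3), (nat_lit 1), (nat_lit 3)],
  [(nat_lit 2), (nat_lit 2), (nat_lit 3), (nat_lit 5), (nat_lit 4)],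
  [(nat_lit 2), (nat_lit 3), (nat_lit 1), (nat_lit 3), (nat_lit 4)],
  [(nat_lit 2), (nat_lit 3), (nat_lit 1), (nat_lit 4), (nat_lit 3)],
  [(nat_lit 2), (nat_lit 3), (nat_lit 1), (nat_lit 4), (nat_lit 5)],
  [(nat_lit 2), (nat_lit 3), (nat_lit 1), (nat_lit 5), (nat_lit 4)],
  [(nat_lit 2), (nat_lit 3), (nat_lit 3), (nat_lit 4), (nat_lit 2)],
  [(nat_lit 2), (nat_lit 3), (nat_lit 3), (nat_lit 4), (nat_lit 3)],
  [(nat_lit 2), (nat_lit 3), (nat_lit 4), (nat_lit 1), (nat_lit 3)],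
  [(nat_lit 2), (nat_lit 3), (nat_lit 4), (nat_lit 1), (nat_lit 5)],
  [(nat_lit 2), (nat_lit 3), (nat_lit 4), (nat_lit 3), (nat_lit 1)],
  [(nat_lit 2), (nat_lit 3), (nat_lit 4), (nat_lit 3), (nat_lit 5)],
  [(nat_lit 2), (nat_lit 3), (nat_lit 5), (nat_lit 2), (nat_lit 4)],
  [(nat_lit 2), (nat_lit 3), (nat_lit 5), (nat_lit 4), (nat_lit 2)],
  [(nat_lit 2), (nat_lit 4), (nat_lit 0), (nat_lit 2), (nat_lit 5)],
  [(nat_lit 2), (nat_lit 4), (nat_lit 0), (nat_lit 3), (nat_lit 4)],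
  [(nat_lit 2), (nat_lit 4), (nat_lit 0), (nat_lit 3), (nat_lit 5)],
  [(nat_lit 2), (nat_lit 4), (nat_lit 0), (nat_lit 5), (nat_lit 4)],
  [(nat_lit 2), (nat_lit 4), (nat_lit 2), (nat_lit 5), (nat_lit 4)],
  [(nat_lit 2), (nat_lit 4), (nat_lit 3), (nat_lit 1), (nat_lit 4)],
  [(nat_lit 2), (nat_lit 4), (nat_lit 3), (nat_lit 1), (nat_lit 5)],
  [(nat_lit 2), (nat_lit 4), (nat_lit 3), (nat_lit 2), (nat_lit 3)],
  [(nat_lit 2), (nat_lit 4), (nat_lit 3), (nat_lit 2), (nat_lit 4)],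
  [(nat_lit 2), (nat_lit 4), (nat_lit 3), (nat_lit 2), (nat_lit 5)],
  [(nat_lit 2), (nat_lit 5), (nat_lit 0), (nat_lit 4), (nat_lit 2)],
  [(nat_lit 2), (nat_lit 5), (nat_lit 0), (nat_lit 4), (nat_lit 3)],
  [(nat_lit 2), (nat_lit 5), (nat_lit 0), (nat_lit 4), (nat_lit 5)],
  [(nat_lit 2), (nat_lit 5), (nat_lit 4), (nat_lit 2), (nat_lit 3)],
  [(nat_lit 2), (nat_lit 5), (nat_lit 4), (nat_lit 2), (nat_lit 5)],
  [(nat_lit 3), (nat_lit 0), (nat_lit 3), (nat_lit 4), (nat_lit 3)],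
  [(nat_lit 3), (nat_lit 0), (nat_lit 4), (nat_lit 3), (nat_lit 5)],
  [(nat_lit 3), (nat_lit 0), (nat_lit 5), (nat_lit 2), (nat_lit 4)],
  [(nat_lit 3), (nat_lit 1), (nat_lit 3), (nat_lit 4), (nat_lit 3)],
  [(nat_lit 3), (nat_lit 1), (nat_lit 4), (nat_lit 3), (nat_lit 2)],
  [(nat_lit 3), (nat_lit 1), (nat_lit 4), (nat_lit 3), (nat_lit 3)],
  [(nat_lit 3), (nat_lit 1), (nat_lit 4), (nat_lit 3), (nat_lit 5)],
  [(nat_lit 3), (nat_lit 1), (nat_lit 4), (nat_lit 5), (nat_lit 4)],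
  [(nat_lit 3), (nat_lit 2), (nat_lit 3), (nat_lit 1), (nat_lit 4)],
  [(nat_lit 3), (nat_lit 2), (nat_lit 3), (nat_lit 1), (nat_lit 5)],
  [(nat_lit 3), (nat_lit 2), (nat_lit 3), (nat_lit 4), (nat_lit 1)],
  [(nat_lit 3), (nat_lit 2), (nat_lit 3), (nat_lit 4), (nat_lit 3)],
  [(nat_lit 3), (nat_lit 2), (nat_lit 3), (nat_lit 4), (nat_lit 5)],
  [(nat_lit 3), (nat_lit 2), (nat_lit 3), (nat_lit 5), (nat_lit 2)],
  [(nat_lit 3), (nat_lit 2), (nat_lit 4), (nat_lit 3), (nat_lit 3)],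
  [(nat_lit 3), (nat_lit 2), (nat_lit 4), (nat_lit 3), (nat_lit 5)],
  [(nat_lit 3), (nat_lit 3), (nat_lit 0), (nat_lit 4), (nat_lit 3)],
  [(nat_lit 3), (nat_lit 3), (nat_lit 1), (nat_lit 4), (nat_lit 3)],
  [(nat_lit 3), (nat_lit 3), (nat_lit 2), (nat_lit 4), (nat_lit 3)],
  [(nat_lit 3), (nat_lit 3), (nat_lit 4), (nat_lit 0), (nat_lit 3)],
  [(nat_lit 3), (nat_lit 3), (nat_lit 4), (nat_lit 1), (nat_lit 3)],
  [(nat_lit 3), (nat_lit 3), (nat_lit 4), (nat_lit 2), (nat_lit 3)],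
  [(nat_lit 3), (nat_lit 3), (nat_lit 4), (nat_lit 3), (nat_lit 1)],
  [(nat_lit 3), (nat_lit 3), (nat_lit 4), (nat_lit 3), (nat_lit 2)],
  [(nat_lit 3), (nat_lit 4), (nat_lit 0), (nat_lit 3), (nat_lit 5)],
  [(nat_lit 3), (nat_lit 4), (nat_lit 1), (nat_lit 3), (nat_lit 3)],
  [(nat_lit 3), (nat_lit 4), (nat_lit 1), (nat_lit 3), (nat_lit 5)],
  [(nat_lit 3), (nat_lit 4), (nat_lit 2), (nat_lit 3), (nat_lit 3)],
  [(nat_lit 3), (nat_lit 4), (nat_lit 2), (nat_lit 3), (nat_lit 5)],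
  [(nat_lit 3), (nat_lit 4), (nat_lit 3), (nat_lit 0), (nat_lit 3)],
  [(nat_lit 3), (nat_lit 4), (nat_lit 3), (nat_lit 0), (nat_lit 5)],
  [(nat_lit 3), (nat_lit 4), (nat_lit 3), (nat_lit 1), (nat_lit 3)],
  [(nat_lit 3), (nat_lit 4), (nat_lit 3), (nat_lit 1), (nat_lit 5)],
  [(nat_lit 3), (nat_lit 4), (nat_lit 3), (nat_lit 2), (nat_lit 3)],
  [(nat_lit 3), (nat_lit 4), (nat_lit 3), (nat_lit 2), (nat_lit 4)],
  [(nat_lit 3), (nat_lit 4), (nat_lit 3), (nat_lit 2), (nat_lit 5)],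
  [(nat_lit 3), (nat_lit 4), (nat_lit 3), (nat_lit 5), (nat_lit 0)],
  [(nat_lit 3), (nat_lit 4), (nat_lit 3), (nat_lit 5), (nat_lit 2)],
  [(nat_lit 3), (nat_lit 5), (nat_lit 0), (nat_lit 2), (nat_lit 4)],
  [(nat_lit 3), (nat_lit 5), (nat_lit 2), (nat_lit 3), (nat_lit 3)],
  [(nat_lit 3), (nat_lit 5), (nat_lit 2), (nat_lit 4), (nat_lit 3)],
  [(nat_lit 4), (nat_lit 0), (nat_lit 1), (nat_lit 5), (nat_lit 4)],
  [(nat_lit 4), (nat_lit 0), (nat_lit 2), (nat_lit 5), (nat_lit 4)],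
  [(nat_lit 4), (nat_lit 0), (nat_lit 5), (nat_lit 4), (nat_lit 3)],
  [(nat_lit 4), (nat_lit 0), (nat_lit 5), (nat_lit 4), (nat_lit 5)],
  [(nat_lit 4), (nat_lit 1), (nat_lit 2), (nat_lit 5), (nat_lit 4)],
  [(nat_lit 4), (nat_lit 1), (nat_lit 5), (nat_lit 4), (nat_lit 3)],
  [(nat_lit 4), (nat_lit 2), (nat_lit 5), (nat_lit 4), (nat_lit 3)],
  [(nat_lit 4), (nat_lit 3), (nat_lit 1), (nat_lit 5), (nat_lit 3)],
  [(nat_lit 4), (nat_lit 3), (nat_lit 2), (nat_lit 5), (nat_lit 3)],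
  [(nat_lit 4), (nat_lit 3), (nat_lit 5), (nat_lit 2), (nat_lit 3)],
  [(nat_lit 5), (nat_lit 0), (nat_lit 2), (nat_lit 4), (nat_lit 3)],
  [(nat_lit 5), (nat_lit 0), (nat_lit 2), (nat_lit 4), (nat_lit 5)],
  [(nat_lit 5), (nat_lit 0), (nat_lit 4), (nat_lit 2), (nat_lit 3)],
  [(nat_lit 5), (nat_lit 0), (nat_lit 4), (nat_lit 2), (nat_lit 5)],
  [(nat_lit 5), (nat_lit 4), (nat_lit 3), (nat_lit 2), (nat_lit 4)],
  [(nat_lit 0), (nat_lit 1), (nat_lit 3), (nat_lit 3), (nat_lit 4), (nat_lit 3)],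
  [(nat_lit 0), (nat_lit 1), (nat_lit 3), (nat_lit 4), (nat_lit 3), (nat_lit 5)],
  [(nat_lit 0), (nat_lit 1), (nat_lit 4), (nat_lit 1), (nat_lit 5), (nat_lit 4)],
  [(nat_lit 0), (nat_lit 2), (nat_lit 3), (nat_lit 3), (nat_lit 4), (nat_lit 3)],
  [(nat_lit 0), (nat_lit 2), (nat_lit 3), (nat_lit 4), (nat_lit 3), (nat_lit 5)],
  [(nat_lit 0), (nat_lit 2), (nat_lit 4), (nat_lit 2), (nat_lit 5), (nat_lit 4)],
  [(nat_lit 0), (nat_lit 2), (nat_lit 5), (nat_lit 4), (nat_lit 2), (nat_lit 5)],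
  [(nat_lit 0), (nat_lit 3), (nat_lit 1), (nat_lit 3), (nat_lit 4), (nat_lit 3)],
  [(nat_lit 0), (nat_lit 3), (nat_lit 2), (nat_lit 3), (nat_lit 4), (nat_lit 3)],
  [(nat_lit 0), (nat_lit 3), (nat_lit 2), (nat_lit 3), (nat_lit 4), (nat_lit 5)],
  [(nat_lit 0), (nat_lit 3), (nat_lit 3), (nat_lit 4), (nat_lit 2), (nat_lit 3)],
  [(nat_lit 0), (nat_lit 3), (nat_lit 3), (nat_lit 4), (nat_lit 3), (nat_lit 1)],
  [(nat_lit 0), (nat_lit 3), (nat_lit 3), (nat_lit 4), (nat_lit 3), (nat_lit 2)],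
  [(nat_lit 0), (nat_lit 4), (nat_lit 1), (nat_lit 2), (nat_lit 5), (nat_lit 4)],
  [(nat_lit 0), (nat_lit 4), (nat_lit 1), (nat_lit 5), (nat_lit 4), (nat_lit 3)],
  [(nat_lit 0), (nat_lit 4), (nat_lit 2), (nat_lit 5), (nat_lit 4), (nat_lit 3)],
  [(nat_lit 1), (nat_lit 3), (nat_lit 3), (nat_lit 2), (nat_lit 4), (nat_lit 3)],
  [(nat_lit 1), (nat_lit 3), (nat_lit 4), (nat_lit 1), (nat_lit 3), (nat_lit 5)],
  [(nat_lit 1), (nat_lit 3), (nat_lit 4), (nat_lit 2), (nat_lit 3), (nat_lit 3)],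
  [(nat_lit 1), (nat_lit 3), (nat_lit 4), (nat_lit 3), (nat_lit 5), (nat_lit 2)],
  [(nat_lit 1), (nat_lit 4), (nat_lit 0), (nat_lit 1), (nat_lit 5), (nat_lit 4)],
  [(nat_lit 1), (nat_lit 4), (nat_lit 0), (nat_lit 5), (nat_lit 4), (nat_lit 3)],
  [(nat_lit 1), (nat_lit 4), (nat_lit 0), (nat_lit 5), (nat_lit 4), (nat_lit 5)],
  [(nat_lit 1), (nat_lit 4), (nat_lit 3), (nat_lit 1), (nat_lit 5), (nat_lit 3)],
  [(nat_lit 2), (nat_lit 3), (nat_lit 4), (nat_lit 1), (nat_lit 3), (nat_lit 5)],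
  [(nat_lit 3), (nat_lit 2), (nat_lit 3), (nat_lit 1), (nat_lit 4), (nat_lit 3)],
  [(nat_lit 3), (nat_lit 2), (nat_lit 3), (nat_lit 4), (nat_lit 1), (nat_lit 3)]]
noncomputable def KK2x_lO_h (c : ℕ) : ℕ := Nat.mod c (nat_lit 20288)
theorem KK2x_lO_E {G : Type*} [Group G] {R : ℕ → G → Prop} {s u v w e f z d2 d3 s2 s3 s0 : G} {H : Subgroup G}
    (M : Mdl KK2_o KK2x_cs KK2_L R [s, u, v, v⁻¹, w, w⁻¹, e, e⁻¹, f, f⁻¹, z, d2, d3, s2, s3, s0] H) :
    EnumS R KK2x_lO (sp [w, e, f, v, s * s2, u * s]) :=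
  enumS_sp M.μ.1 (M.reps.tms M.μ.1 [(.v (nat_lit 4)), (.v (nat_lit 6)), (.v (nat_lit 8)), (.v (nat_lit 2)), (.mul (.v (nat_lit 0)) (.v (nat_lit 13))), (.mul (.v (nat_lit 1)) (.v (nat_lit 0)))] (cs' := [(nat_lit 0x876543021), (nat_lit 0x687354210), (nat_lit 0x768354210), (nat_lit 0x210876543), (nat_lit 0x876453120), (nat_lit 0x543876120)]) (by decide +kernel))
    (Ws := KK2x_lO_W) (by decide +kernel) (by decide +kernel)
theorem KK2x_lO_c {G : Type*} [Group G] {R : ℕ → G → Prop} {s u v w e f z d2 d3 s2 s3 s0 : G} {H : Subgroup G}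
    (M : Mdl KK2_o KK2x_cs KK2_L R [s, u, v, v⁻¹, w, w⁻¹, e, e⁻¹, f, f⁻¹, z, d2, d3, s2, s3, s0] H) :
    #(sp [w, e, f, v, s * s2, u * s]) = 648 :=
  (KK2x_lO_E M).card M.μ (h := KK2x_lO_h) (by decide +kernel)
noncomputable def KK2x_lN : List ℕ := [(nat_lit 0x876543210), (nat_lit 0x876543021), (nat_lit 0x687354210), (nat_lit 0x768354210), (nat_lit 0x210876543), (nat_lit 0x876543120), (nat_lit 0x876543102), (nat_lit 0x687354021), (nat_lit 0x768354021), (nat_lit 0x210876354), (nat_lit 0x876543012), (nat_lit 0x768435210), (nat_lit 0x876435210), (nat_lit 0x21687543), (nat_lit 0x687354120), (nat_lit 0x687435210), (nat_lit 0x102687543), (nat_lit 0x768354120), (nat_lit 0x21876543), (nat_lit 0x210687354), (nat_lit 0x210768354), (nat_lit 0x543210876), (nat_lit 0x120876543), (nat_lit 0x876543201), (nat_lit 0x210876453), (nat_lit 0x687354102), (nat_lit 0x768354102), (nat_lit 0x210876435), (nat_lit 0x768435021),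 (nat_lit 0x876435021), (nat_lit 0x21687354), (nat_lit 0x687354012), (nat_lit 0x687435021), (nat_lit 0x102687354), (nat_lit 0x768354012), (nat_lit 0x21876354), (nat_lit 0x210687435), (nat_lit 0x210768435), (nat_lit 0x543210687), (nat_lit 0x120876354), (nat_lit 0x210876345), (nat_lit 0x687543210), (nat_lit 0x102768543), (nat_lit 0x768435120), (nat_lit 0x768543210), (nat_lit 0x210768543), (nat_lit 0x876435120), (nat_lit 0x21768354), (nat_lit 0x354021876), (nat_lit 0x12687543), (nat_lit 0x687354201), (nat_lit 0x21687453), (nat_lit 0x21768543), (nat_lit 0x687435120), (nat_lit 0x210687543), (nat_lit 0x102768354), (nat_lit 0x102876354), (nat_lit 0x435021876), (nat_lit 0x201687543), (nat_lit 0x768354201), (nat_lit 0x102687453), (nat_lit 0x102876543), (nat_lit 0x354210876), (nat_lit 0x12876543), (nat_lit 0x543021687), (nat_lit 0x120687354), (nat_lit 0x543102687), (nat_lit 0x120768354), (nat_lit 0x543021876),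 (nat_lit 0x354210687), (nat_lit 0x354210768), (nat_lit 0x543120876), (nat_lit 0x201876543), (nat_lit 0x453210876), (nat_lit 0x210876534), (nat_lit 0x21876453), (nat_lit 0x210687534), (nat_lit 0x210768534), (nat_lit 0x543210786), (nat_lit 0x120876453), (nat_lit 0x768435102), (nat_lit 0x876435102), (nat_lit 0x21687435), (nat_lit 0x687435102), (nat_lit 0x102687435), (nat_lit 0x21876435), (nat_lit 0x543210768), (nat_lit 0x120876435), (nat_lit 0x687543021), (nat_lit 0x768435012), (nat_lit 0x768543021), (nat_lit 0x876435012), (nat_lit 0x21768435), (nat_lit 0x354021687), (nat_lit 0x12687354), (nat_lit 0x21687345), (nat_lit 0x687435012), (nat_lit 0x102768435), (nat_lit 0x102876435), (nat_lit 0x435021687), (nat_lit 0x201687354), (nat_lit 0x102687345), (nat_lit 0x12876354), (nat_lit 0x543021768), (nat_lit 0x120687435), (nat_lit 0x543102768), (nat_lit 0x120768435), (nat_lit 0x543120687), (nat_lit 0x201876354),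 (nat_lit 0x453210687), (nat_lit 0x21876345), (nat_lit 0x210687453), (nat_lit 0x210768453), (nat_lit 0x543210678), (nat_lit 0x120876345), (nat_lit 0x876354210), (nat_lit 0x687543120), (nat_lit 0x435102876), (nat_lit 0x201768543), (nat_lit 0x768435201), (nat_lit 0x102768453), (nat_lit 0x768543120), (nat_lit 0x543102876), (nat_lit 0x120768543), (nat_lit 0x876435201), (nat_lit 0x354102687), (nat_lit 0x12768354), (nat_lit 0x354102876), (nat_lit 0x435021768), (nat_lit 0x354012876), (nat_lit 0x120687543), (nat_lit 0x345021876), (nat_lit 0x21687534), (nat_lit 0x21768534), (nat_lit 0x21876534), (nat_lit 0x354021786), (nat_lit 0x12687453), (nat_lit 0x12768543), (nat_lit 0x687435201), (nat_lit 0x21768453), (nat_lit 0x435102687), (nat_lit 0x201768354), (nat_lit 0x435210687), (nat_lit 0x435012876), (nat_lit 0x534021876), (nat_lit 0x102687534), (nat_lit 0x102768534), (nat_lit 0x102876534), (nat_lit 0x435021786),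 (nat_lit 0x201687453), (nat_lit 0x435210876), (nat_lit 0x435210768), (nat_lit 0x354120876), (nat_lit 0x345210876), (nat_lit 0x354021768), (nat_lit 0x876354021), (nat_lit 0x543012687), (nat_lit 0x453021687), (nat_lit 0x354102768), (nat_lit 0x543201687), (nat_lit 0x453102687), (nat_lit 0x543012876), (nat_lit 0x354120687), (nat_lit 0x687543102), (nat_lit 0x354120768), (nat_lit 0x543201876), (nat_lit 0x876453210), (nat_lit 0x534210876), (nat_lit 0x453021876), (nat_lit 0x534210687), (nat_lit 0x534210768), (nat_lit 0x786543210), (nat_lit 0x453120876), (nat_lit 0x210687345), (nat_lit 0x210768345), (nat_lit 0x543210867), (nat_lit 0x120876534), (nat_lit 0x102876453), (nat_lit 0x354210786), (nat_lit 0x12876453), (nat_lit 0x543021867), (nat_lit 0x120687534), (nat_lit 0x543102867), (nat_lit 0x120768534), (nat_lit 0x543021786), (nat_lit 0x354210867), (nat_lit 0x354210678), (nat_lit 0x543120786), (nat_lit 0x201876453),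 (nat_lit 0x453210786), (nat_lit 0x768543102), (nat_lit 0x12687435), (nat_lit 0x201687435), (nat_lit 0x12876435), (nat_lit 0x543120768), (nat_lit 0x201876435), (nat_lit 0x453210768), (nat_lit 0x687543012), (nat_lit 0x102768345), (nat_lit 0x768543012), (nat_lit 0x12768435), (nat_lit 0x354012687), (nat_lit 0x345021687), (nat_lit 0x354021678), (nat_lit 0x12687345), (nat_lit 0x21768345), (nat_lit 0x435102768), (nat_lit 0x201768435), (nat_lit 0x435012687), (nat_lit 0x534021687), (nat_lit 0x435021678), (nat_lit 0x201687345), (nat_lit 0x345210687), (nat_lit 0x876354102), (nat_lit 0x543012768), (nat_lit 0x453021768), (nat_lit 0x543201768), (nat_lit 0x453102768), (nat_lit 0x876453021), (nat_lit 0x786543021), (nat_lit 0x453120687), (nat_lit 0x102876345), (nat_lit 0x12876345), (nat_lit 0x120687453), (nat_lit 0x543102786), (nat_lit 0x120768453), (nat_lit 0x543021678), (nat_lit 0x543120678), (nat_lit 0x201876345),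 (nat_lit 0x453210678), (nat_lit 0x876354120), (nat_lit 0x687543201), (nat_lit 0x435201876), (nat_lit 0x534102876), (nat_lit 0x435102786), (nat_lit 0x201768453), (nat_lit 0x768543201), (nat_lit 0x453102876), (nat_lit 0x354201687), (nat_lit 0x345102687), (nat_lit 0x354201876), (nat_lit 0x435012768), (nat_lit 0x687345210), (nat_lit 0x345102876), (nat_lit 0x678354210), (nat_lit 0x345012876), (nat_lit 0x354021867), (nat_lit 0x12687534), (nat_lit 0x354102867), (nat_lit 0x12768534), (nat_lit 0x12876534), (nat_lit 0x354102786), (nat_lit 0x435021867), (nat_lit 0x354012786), (nat_lit 0x345021786), (nat_lit 0x12768453), (nat_lit 0x435201687), (nat_lit 0x534102687), (nat_lit 0x435120687), (nat_lit 0x435120876), (nat_lit 0x768345210), (nat_lit 0x345021768), (nat_lit 0x867354210), (nat_lit 0x534012876), (nat_lit 0x201687534), (nat_lit 0x435102867), (nat_lit 0x201768534), (nat_lit 0x435210867), (nat_lit 0x201876534),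 (nat_lit 0x435012786), (nat_lit 0x534021786), (nat_lit 0x435120768), (nat_lit 0x687453210), (nat_lit 0x678543210), (nat_lit 0x345120876), (nat_lit 0x354012768), (nat_lit 0x876354012), (nat_lit 0x876345021), (nat_lit 0x534021768), (nat_lit 0x786354021), (nat_lit 0x453012687), (nat_lit 0x354201768), (nat_lit 0x876534021), (nat_lit 0x534102768), (nat_lit 0x786435021), (nat_lit 0x453201687), (nat_lit 0x876345210), (nat_lit 0x687453021), (nat_lit 0x687453102), (nat_lit 0x876534210), (nat_lit 0x687534210), (nat_lit 0x768534210), (nat_lit 0x210786543), (nat_lit 0x876453120), (nat_lit 0x345210768), (nat_lit 0x867543210), (nat_lit 0x534120876), (nat_lit 0x786354210), (nat_lit 0x453012876), (nat_lit 0x867543021), (nat_lit 0x534120687), (nat_lit 0x867543102), (nat_lit 0x534120768), (nat_lit 0x786543120), (nat_lit 0x453201876), (nat_lit 0x786453210), (nat_lit 0x120687345), (nat_lit 0x543102678), (nat_lit 0x120768345),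 (nat_lit 0x543120867), (nat_lit 0x453210867), (nat_lit 0x435210786), (nat_lit 0x435210678), (nat_lit 0x354120786), (nat_lit 0x345210786), (nat_lit 0x876354201), (nat_lit 0x543012867), (nat_lit 0x453021867), (nat_lit 0x354102678), (nat_lit 0x543201867), (nat_lit 0x453102867), (nat_lit 0x543012786), (nat_lit 0x354120867), (nat_lit 0x354120678), (nat_lit 0x543201786), (nat_lit 0x534210786), (nat_lit 0x453021786), (nat_lit 0x534210867), (nat_lit 0x534210678), (nat_lit 0x453120786), (nat_lit 0x876453102), (nat_lit 0x786543102), (nat_lit 0x453120768), (nat_lit 0x435102678), (nat_lit 0x201768345), (nat_lit 0x345102768), (nat_lit 0x687345021), (nat_lit 0x678354021), (nat_lit 0x345012687), (nat_lit 0x354012678), (nat_lit 0x345021678), (nat_lit 0x12768345), (nat_lit 0x435201768), (nat_lit 0x768345021), (nat_lit 0x867354021), (nat_lit 0x534012687), (nat_lit 0x435012678), (nat_lit 0x534021678), (nat_lit 0x678543021),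 (nat_lit 0x345120687), (nat_lit 0x876345102), (nat_lit 0x786354102), (nat_lit 0x453012768), (nat_lit 0x876534102), (nat_lit 0x786435102), (nat_lit 0x453201768), (nat_lit 0x687534021), (nat_lit 0x768534021), (nat_lit 0x210786354), (nat_lit 0x876453012), (nat_lit 0x786543012), (nat_lit 0x786453021), (nat_lit 0x345210678), (nat_lit 0x453102786), (nat_lit 0x543012678), (nat_lit 0x543201678), (nat_lit 0x453021678), (nat_lit 0x453120678), (nat_lit 0x867435210), (nat_lit 0x534201876), (nat_lit 0x435201786), (nat_lit 0x534102786), (nat_lit 0x786435210), (nat_lit 0x678435021), (nat_lit 0x345201687), (nat_lit 0x768345102), (nat_lit 0x768453210), (nat_lit 0x21678543), (nat_lit 0x687345120), (nat_lit 0x678435210), (nat_lit 0x345201876), (nat_lit 0x678354120), (nat_lit 0x678345210), (nat_lit 0x354012867), (nat_lit 0x345021867), (nat_lit 0x354201867), (nat_lit 0x345102867), (nat_lit 0x345210867), (nat_lit 0x354201786),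 (nat_lit 0x435012867), (nat_lit 0x345102786), (nat_lit 0x345012786), (nat_lit 0x867435021), (nat_lit 0x534201687), (nat_lit 0x768453021), (nat_lit 0x102678543), (nat_lit 0x768345120), (nat_lit 0x678354102), (nat_lit 0x345012768), (nat_lit 0x867354120), (nat_lit 0x867345210), (nat_lit 0x534021867), (nat_lit 0x435201867), (nat_lit 0x534102867), (nat_lit 0x435120867), (nat_lit 0x435120786), (nat_lit 0x534012786), (nat_lit 0x768453102), (nat_lit 0x21786543), (nat_lit 0x687453120), (nat_lit 0x678543120), (nat_lit 0x678453210), (nat_lit 0x687345102), (nat_lit 0x210678354), (nat_lit 0x876345012), (nat_lit 0x867354102), (nat_lit 0x534012768), (nat_lit 0x786354012), (nat_lit 0x786345021), (nat_lit 0x687534102), (nat_lit 0x210867354), (nat_lit 0x876534012), (nat_lit 0x867435102), (nat_lit 0x534201768), (nat_lit 0x786435012), (nat_lit 0x786534021), (nat_lit 0x210678543), (nat_lit 0x876345120), (nat_lit 0x21786354),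 (nat_lit 0x687453012), (nat_lit 0x768534102), (nat_lit 0x21786435), (nat_lit 0x687453201), (nat_lit 0x210867543), (nat_lit 0x876534120), (nat_lit 0x21867543), (nat_lit 0x687534120), (nat_lit 0x102867543), (nat_lit 0x768534120), (nat_lit 0x120786543), (nat_lit 0x876453201), (nat_lit 0x210786453), (nat_lit 0x678543102), (nat_lit 0x345120768), (nat_lit 0x867543120), (nat_lit 0x867453210), (nat_lit 0x786354120), (nat_lit 0x786345210), (nat_lit 0x867543012), (nat_lit 0x867453021), (nat_lit 0x867543201), (nat_lit 0x867453102), (nat_lit 0x786543201), (nat_lit 0x786534210), (nat_lit 0x867534210), (nat_lit 0x678534210), (nat_lit 0x786453120), (nat_lit 0x453102678), (nat_lit 0x453120867), (nat_lit 0x435120678), (nat_lit 0x345120786), (nat_lit 0x876345201), (nat_lit 0x786354201), (nat_lit 0x453012867), (nat_lit 0x354201678), (nat_lit 0x876534201), (nat_lit 0x534102678), (nat_lit 0x786435201), (nat_lit 0x453201867),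 (nat_lit 0x534120786), (nat_lit 0x453012786), (nat_lit 0x534120867), (nat_lit 0x534120678), (nat_lit 0x453201786), (nat_lit 0x210786435), (nat_lit 0x786453102), (nat_lit 0x435201678), (nat_lit 0x678435102), (nat_lit 0x345201768), (nat_lit 0x21678354), (nat_lit 0x687345012), (nat_lit 0x678354012), (nat_lit 0x678345021), (nat_lit 0x345102678), (nat_lit 0x345012678), (nat_lit 0x102678354), (nat_lit 0x768345012), (nat_lit 0x867354012), (nat_lit 0x867345021), (nat_lit 0x534012678), (nat_lit 0x678543012), (nat_lit 0x678453021), (nat_lit 0x210678435), (nat_lit 0x786345102), (nat_lit 0x210867435), (nat_lit 0x786534102), (nat_lit 0x21867354), (nat_lit 0x687534012), (nat_lit 0x102867354), (nat_lit 0x768534012), (nat_lit 0x120786354), (nat_lit 0x210786345), (nat_lit 0x867534021), (nat_lit 0x678534021), (nat_lit 0x786453012), (nat_lit 0x345120678), (nat_lit 0x786435120), (nat_lit 0x453012678), (nat_lit 0x453201678),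 (nat_lit 0x867435120), (nat_lit 0x534201786), (nat_lit 0x678435012), (nat_lit 0x102678435), (nat_lit 0x768345201), (nat_lit 0x102786543), (nat_lit 0x768453120), (nat_lit 0x12678543), (nat_lit 0x687345201), (nat_lit 0x21678453), (nat_lit 0x678435120), (nat_lit 0x678354201), (nat_lit 0x678345120), (nat_lit 0x345012867), (nat_lit 0x687534201), (nat_lit 0x678435201), (nat_lit 0x345201867), (nat_lit 0x678543201), (nat_lit 0x345120867), (nat_lit 0x345201786), (nat_lit 0x867435012), (nat_lit 0x102786354), (nat_lit 0x768453012), (nat_lit 0x201678543), (nat_lit 0x102678453), (nat_lit 0x678345102), (nat_lit 0x867354201), (nat_lit 0x867345120), (nat_lit 0x534012867), (nat_lit 0x768534201), (nat_lit 0x867435201), (nat_lit 0x534201867), (nat_lit 0x768453201), (nat_lit 0x102786435), (nat_lit 0x12786543), (nat_lit 0x21786453), (nat_lit 0x678453120), (nat_lit 0x21678435), (nat_lit 0x120678354), (nat_lit 0x210678345),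 (nat_lit 0x867345102), (nat_lit 0x786345012), (nat_lit 0x21867435), (nat_lit 0x120867354), (nat_lit 0x210867345), (nat_lit 0x867534102), (nat_lit 0x786534012), (nat_lit 0x120678543), (nat_lit 0x210678453), (nat_lit 0x12786354), (nat_lit 0x21786345), (nat_lit 0x102867435), (nat_lit 0x12786435), (nat_lit 0x21786534), (nat_lit 0x120867543), (nat_lit 0x210867453), (nat_lit 0x12867543), (nat_lit 0x21867453), (nat_lit 0x201867543), (nat_lit 0x102867453), (nat_lit 0x201786543), (nat_lit 0x210786534), (nat_lit 0x210867534), (nat_lit 0x210678534), (nat_lit 0x120786453), (nat_lit 0x678453102), (nat_lit 0x867453120), (nat_lit 0x786345120), (nat_lit 0x201786354), (nat_lit 0x867453012), (nat_lit 0x678534102), (nat_lit 0x201786435), (nat_lit 0x867453201), (nat_lit 0x786534120), (nat_lit 0x867534120), (nat_lit 0x678534120), (nat_lit 0x786453201), (nat_lit 0x786345201), (nat_lit 0x534201678), (nat_lit 0x786534201),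 (nat_lit 0x120786435), (nat_lit 0x12678354), (nat_lit 0x21678345), (nat_lit 0x678345012), (nat_lit 0x345201678), (nat_lit 0x201678354), (nat_lit 0x102678345), (nat_lit 0x867345012), (nat_lit 0x678453012), (nat_lit 0x120678435), (nat_lit 0x120867435), (nat_lit 0x12867354), (nat_lit 0x21867345), (nat_lit 0x201867354), (nat_lit 0x102867345), (nat_lit 0x120786345), (nat_lit 0x867534012), (nat_lit 0x678534012), (nat_lit 0x201678435), (nat_lit 0x102678534), (nat_lit 0x102786453), (nat_lit 0x21678534), (nat_lit 0x21867534), (nat_lit 0x12678453), (nat_lit 0x678345201), (nat_lit 0x678534201), (nat_lit 0x678453201), (nat_lit 0x102786345), (nat_lit 0x102786534), (nat_lit 0x102867534), (nat_lit 0x201678453), (nat_lit 0x12678435), (nat_lit 0x867345201), (nat_lit 0x867534201), (nat_lit 0x12786453), (nat_lit 0x120678345), (nat_lit 0x12867435), (nat_lit 0x120867345), (nat_lit 0x201867435), (nat_lit 0x120678453),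 (nat_lit 0x12786345), (nat_lit 0x12786534), (nat_lit 0x120867453), (nat_lit 0x12867453), (nat_lit 0x201867453), (nat_lit 0x120786534), (nat_lit 0x120867534), (nat_lit 0x120678534), (nat_lit 0x201786453), (nat_lit 0x201786345), (nat_lit 0x201786534), (nat_lit 0x12678345), (nat_lit 0x201678345), (nat_lit 0x12867345), (nat_lit 0x201867345), (nat_lit 0x201678534), (nat_lit 0x12678534), (nat_lit 0x12867534), (nat_lit 0x201867534)]
noncomputable def KK2x_lN_W : List (List ℕ) := [[],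
  [(nat_lit 0)],
  [(nat_lit 1)],
  [(nat_lit 2)],
  [(nat_lit 3)],
  [(nat_lit 4)],
  [(nat_lit 0), (nat_lit 0)],
  [(nat_lit 0), (nat_lit 1)],
  [(nat_lit 0), (nat_lit 2)],
  [(nat_lit 0), (nat_lit 3)],
  [(nat_lit 0), (nat_lit 4)],
  [(nat_lit 1), (nat_lit 1)],
  [(nat_lit 1), (nat_lit 2)],
  [(nat_lit 1), (nat_lit 3)],
  [(nat_lit 1), (nat_lit 4)],
  [(nat_lit 2), (nat_lit 2)],
  [(nat_lit 2), (nat_lit 3)],
  [(nat_lit 2), (nat_lit 4)],
  [(nat_lit 3), (nat_lit 0)],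
  [(nat_lit 3), (nat_lit 1)],
  [(nat_lit 3), (nat_lit 2)],
  [(nat_lit 3), (nat_lit 3)],
  [(nat_lit 3), (nat_lit 4)],
  [(nat_lit 4), (nat_lit 0)],
  [(nat_lit 4), (nat_lit 3)],
  [(nat_lit 0), (nat_lit 0), (nat_lit 1)],
  [(nat_lit 0), (nat_lit 0), (nat_lit 2)],
  [(nat_lit 0), (nat_lit 0), (nat_lit 3)],
  [(nat_lit 0), (nat_lit 1), (nat_lit 1)],
  [(nat_lit 0), (nat_lit 1), (nat_lit 2)],
  [(nat_lit 0), (nat_lit 1), (nat_lit 3)],
  [(nat_lit 0), (nat_lit 1), (nat_lit 4)],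
  [(nat_lit 0), (nat_lit 2), (nat_lit 2)],
  [(nat_lit 0), (nat_lit 2), (nat_lit 3)],
  [(nat_lit 0), (nat_lit 2), (nat_lit 4)],
  [(nat_lit 0), (nat_lit 3), (nat_lit 0)],
  [(nat_lit 0), (nat_lit 3), (nat_lit 1)],
  [(nat_lit 0), (nat_lit 3), (nat_lit 2)],
  [(nat_lit 0), (nat_lit 3), (nat_lit 3)],
  [(nat_lit 0), (nat_lit 3), (nat_lit 4)],
  [(nat_lit 0), (nat_lit 4), (nat_lit 3)],
  [(nat_lit 1), (nat_lit 1), (nat_lit 2)],
  [(nat_lit 1), (nat_lit 1), (nat_lit 3)],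
  [(nat_lit 1), (nat_lit 1), (nat_lit 4)],
  [(nat_lit 1), (nat_lit 2), (nat_lit 2)],
  [(nat_lit 1), (nat_lit 2), (nat_lit 3)],
  [(nat_lit 1), (nat_lit 2), (nat_lit 4)],
  [(nat_lit 1), (nat_lit 3), (nat_lit 1)],
  [(nat_lit 1), (nat_lit 3), (nat_lit 3)],
  [(nat_lit 1), (nat_lit 3), (nat_lit 4)],
  [(nat_lit 1), (nat_lit 4), (nat_lit 0)],
  [(nat_lit 1), (nat_lit 4), (nat_lit 3)],
  [(nat_lit 2), (nat_lit 2), (nat_lit 3)],
  [(nat_lit 2), (nat_lit 2), (nat_lit 4)],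
  [(nat_lit 2), (nat_lit 3), (nat_lit 0)],
  [(nat_lit 2), (nat_lit 3), (nat_lit 1)],
  [(nat_lit 2), (nat_lit 3), (nat_lit 2)],
  [(nat_lit 2), (nat_lit 3), (nat_lit 3)],
  [(nat_lit 2), (nat_lit 3), (nat_lit 4)],
  [(nat_lit 2), (nat_lit 4), (nat_lit 0)],
  [(nat_lit 2), (nat_lit 4), (nat_lit 3)],
  [(nat_lit 3), (nat_lit 0), (nat_lit 0)],
  [(nat_lit 3), (nat_lit 0), (nat_lit 3)],
  [(nat_lit 3), (nat_lit 0), (nat_lit 4)],
  [(nat_lit 3), (nat_lit 1), (nat_lit 3)],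
  [(nat_lit 3), (nat_lit 1), (nat_lit 4)],
  [(nat_lit 3), (nat_lit 2), (nat_lit 3)],
  [(nat_lit 3), (nat_lit 2), (nat_lit 4)],
  [(nat_lit 3), (nat_lit 3), (nat_lit 0)],
  [(nat_lit 3), (nat_lit 3), (nat_lit 1)],
  [(nat_lit 3), (nat_lit 3), (nat_lit 2)],
  [(nat_lit 3), (nat_lit 3), (nat_lit 4)],
  [(nat_lit 3), (nat_lit 4), (nat_lit 0)],
  [(nat_lit 3), (nat_lit 4), (nat_lit 3)],
  [(nat_lit 4), (nat_lit 0), (nat_lit 3)],
  [(nat_lit 4), (nat_lit 3), (nat_lit 0)],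
  [(nat_lit 4), (nat_lit 3), (nat_lit 1)],
  [(nat_lit 4), (nat_lit 3), (nat_lit 2)],
  [(nat_lit 4), (nat_lit 3), (nat_lit 3)],
  [(nat_lit 4), (nat_lit 3), (nat_lit 4)],
  [(nat_lit 0), (nat_lit 0), (nat_lit 1), (nat_lit 1)],
  [(nat_lit 0), (nat_lit 0), (nat_lit 1), (nat_lit 2)],
  [(nat_lit 0), (nat_lit 0), (nat_lit 1), (nat_lit 3)],
  [(nat_lit 0), (nat_lit 0), (nat_lit 2), (nat_lit 2)],
  [(nat_lit 0), (nat_lit 0), (nat_lit 2), (nat_lit 3)],
  [(nat_lit 0), (nat_lit 0), (nat_lit 3), (nat_lit 0)],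
  [(nat_lit 0), (nat_lit 0), (nat_lit 3), (nat_lit 3)],
  [(nat_lit 0), (nat_lit 0), (nat_lit 3), (nat_lit 4)],
  [(nat_lit 0), (nat_lit 1), (nat_lit 1), (nat_lit 2)],
  [(nat_lit 0), (nat_lit 1), (nat_lit 1), (nat_lit 4)],
  [(nat_lit 0), (nat_lit 1), (nat_lit 2), (nat_lit 2)],
  [(nat_lit 0), (nat_lit 1), (nat_lit 2), (nat_lit 4)],
  [(nat_lit 0), (nat_lit 1), (nat_lit 3), (nat_lit 1)],
  [(nat_lit 0), (nat_lit 1), (nat_lit 3), (nat_lit 3)],
  [(nat_lit 0), (nat_lit 1), (nat_lit 3), (nat_lit 4)],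
  [(nat_lit 0), (nat_lit 1), (nat_lit 4), (nat_lit 3)],
  [(nat_lit 0), (nat_lit 2), (nat_lit 2), (nat_lit 4)],
  [(nat_lit 0), (nat_lit 2), (nat_lit 3), (nat_lit 1)],
  [(nat_lit 0), (nat_lit 2), (nat_lit 3), (nat_lit 2)],
  [(nat_lit 0), (nat_lit 2), (nat_lit 3), (nat_lit 3)],
  [(nat_lit 0), (nat_lit 2), (nat_lit 3), (nat_lit 4)],
  [(nat_lit 0), (nat_lit 2), (nat_lit 4), (nat_lit 3)],
  [(nat_lit 0), (nat_lit 3), (nat_lit 0), (nat_lit 4)],
  [(nat_lit 0), (nat_lit 3), (nat_lit 1), (nat_lit 3)],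
  [(nat_lit 0), (nat_lit 3), (nat_lit 1), (nat_lit 4)],
  [(nat_lit 0), (nat_lit 3), (nat_lit 2), (nat_lit 3)],
  [(nat_lit 0), (nat_lit 3), (nat_lit 2), (nat_lit 4)],
  [(nat_lit 0), (nat_lit 3), (nat_lit 3), (nat_lit 4)],
  [(nat_lit 0), (nat_lit 3), (nat_lit 4), (nat_lit 0)],
  [(nat_lit 0), (nat_lit 3), (nat_lit 4), (nat_lit 3)],
  [(nat_lit 0), (nat_lit 4), (nat_lit 3), (nat_lit 0)],
  [(nat_lit 0), (nat_lit 4), (nat_lit 3), (nat_lit 1)],
  [(nat_lit 0), (nat_lit 4), (nat_lit 3), (nat_lit 2)],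
  [(nat_lit 0), (nat_lit 4), (nat_lit 3), (nat_lit 3)],
  [(nat_lit 0), (nat_lit 4), (nat_lit 3), (nat_lit 4)],
  [(nat_lit 1), (nat_lit 1), (nat_lit 2), (nat_lit 2)],
  [(nat_lit 1), (nat_lit 1), (nat_lit 2), (nat_lit 4)],
  [(nat_lit 1), (nat_lit 1), (nat_lit 3), (nat_lit 3)],
  [(nat_lit 1), (nat_lit 1), (nat_lit 3), (nat_lit 4)],
  [(nat_lit 1), (nat_lit 1), (nat_lit 4), (nat_lit 0)],
  [(nat_lit 1), (nat_lit 1), (nat_lit 4), (nat_lit 3)],
  [(nat_lit 1), (nat_lit 2), (nat_lit 2), (nat_lit 4)],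
  [(nat_lit 1), (nat_lit 2), (nat_lit 3), (nat_lit 3)],
  [(nat_lit 1), (nat_lit 2), (nat_lit 3), (nat_lit 4)],
  [(nat_lit 1), (nat_lit 2), (nat_lit 4), (nat_lit 0)],
  [(nat_lit 1), (nat_lit 3), (nat_lit 1), (nat_lit 3)],
  [(nat_lit 1), (nat_lit 3), (nat_lit 1), (nat_lit 4)],
  [(nat_lit 1), (nat_lit 3), (nat_lit 3), (nat_lit 0)],
  [(nat_lit 1), (nat_lit 3), (nat_lit 3), (nat_lit 2)],
  [(nat_lit 1), (nat_lit 3), (nat_lit 3), (nat_lit 4)],
  [(nat_lit 1), (nat_lit 3), (nat_lit 4), (nat_lit 0)],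
  [(nat_lit 1), (nat_lit 3), (nat_lit 4), (nat_lit 3)],
  [(nat_lit 1), (nat_lit 4), (nat_lit 0), (nat_lit 3)],
  [(nat_lit 1), (nat_lit 4), (nat_lit 3), (nat_lit 1)],
  [(nat_lit 1), (nat_lit 4), (nat_lit 3), (nat_lit 2)],
  [(nat_lit 1), (nat_lit 4), (nat_lit 3), (nat_lit 3)],
  [(nat_lit 1), (nat_lit 4), (nat_lit 3), (nat_lit 4)],
  [(nat_lit 2), (nat_lit 2), (nat_lit 3), (nat_lit 4)],
  [(nat_lit 2), (nat_lit 2), (nat_lit 4), (nat_lit 0)],
  [(nat_lit 2), (nat_lit 2), (nat_lit 4), (nat_lit 3)],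
  [(nat_lit 2), (nat_lit 3), (nat_lit 1), (nat_lit 3)],
  [(nat_lit 2), (nat_lit 3), (nat_lit 1), (nat_lit 4)],
  [(nat_lit 2), (nat_lit 3), (nat_lit 2), (nat_lit 3)],
  [(nat_lit 2), (nat_lit 3), (nat_lit 3), (nat_lit 4)],
  [(nat_lit 2), (nat_lit 3), (nat_lit 4), (nat_lit 3)],
  [(nat_lit 2), (nat_lit 4), (nat_lit 0), (nat_lit 3)],
  [(nat_lit 2), (nat_lit 4), (nat_lit 3), (nat_lit 1)],
  [(nat_lit 2), (nat_lit 4), (nat_lit 3), (nat_lit 2)],
  [(nat_lit 2), (nat_lit 4), (nat_lit 3), (nat_lit 3)],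
  [(nat_lit 2), (nat_lit 4), (nat_lit 3), (nat_lit 4)],
  [(nat_lit 3), (nat_lit 0), (nat_lit 0), (nat_lit 3)],
  [(nat_lit 3), (nat_lit 0), (nat_lit 3), (nat_lit 2)],
  [(nat_lit 3), (nat_lit 0), (nat_lit 3), (nat_lit 4)],
  [(nat_lit 3), (nat_lit 0), (nat_lit 4), (nat_lit 3)],
  [(nat_lit 3), (nat_lit 1), (nat_lit 3), (nat_lit 1)],
  [(nat_lit 3), (nat_lit 1), (nat_lit 3), (nat_lit 3)],
  [(nat_lit 3), (nat_lit 1), (nat_lit 3), (nat_lit 4)],
  [(nat_lit 3), (nat_lit 1), (nat_lit 4), (nat_lit 3)],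
  [(nat_lit 3), (nat_lit 2), (nat_lit 3), (nat_lit 1)],
  [(nat_lit 3), (nat_lit 2), (nat_lit 3), (nat_lit 4)],
  [(nat_lit 3), (nat_lit 2), (nat_lit 4), (nat_lit 3)],
  [(nat_lit 3), (nat_lit 3), (nat_lit 0), (nat_lit 4)],
  [(nat_lit 3), (nat_lit 3), (nat_lit 1), (nat_lit 4)],
  [(nat_lit 3), (nat_lit 3), (nat_lit 2), (nat_lit 3)],
  [(nat_lit 3), (nat_lit 3), (nat_lit 2), (nat_lit 4)],
  [(nat_lit 3), (nat_lit 3), (nat_lit 4), (nat_lit 0)],
  [(nat_lit 3), (nat_lit 3), (nat_lit 4), (nat_lit 3)],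
  [(nat_lit 3), (nat_lit 4), (nat_lit 0), (nat_lit 3)],
  [(nat_lit 3), (nat_lit 4), (nat_lit 3), (nat_lit 0)],
  [(nat_lit 3), (nat_lit 4), (nat_lit 3), (nat_lit 1)],
  [(nat_lit 3), (nat_lit 4), (nat_lit 3), (nat_lit 2)],
  [(nat_lit 3), (nat_lit 4), (nat_lit 3), (nat_lit 3)],
  [(nat_lit 3), (nat_lit 4), (nat_lit 3), (nat_lit 4)],
  [(nat_lit 4), (nat_lit 0), (nat_lit 3), (nat_lit 1)],
  [(nat_lit 4), (nat_lit 0), (nat_lit 3), (nat_lit 2)],
  [(nat_lit 4), (nat_lit 0), (nat_lit 3), (nat_lit 3)],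
  [(nat_lit 4), (nat_lit 0), (nat_lit 3), (nat_lit 4)],
  [(nat_lit 4), (nat_lit 3), (nat_lit 0), (nat_lit 0)],
  [(nat_lit 4), (nat_lit 3), (nat_lit 0), (nat_lit 3)],
  [(nat_lit 4), (nat_lit 3), (nat_lit 0), (nat_lit 4)],
  [(nat_lit 4), (nat_lit 3), (nat_lit 1), (nat_lit 3)],
  [(nat_lit 4), (nat_lit 3), (nat_lit 1), (nat_lit 4)],
  [(nat_lit 4), (nat_lit 3), (nat_lit 2), (nat_lit 3)],
  [(nat_lit 4), (nat_lit 3), (nat_lit 2), (nat_lit 4)],
  [(nat_lit 4), (nat_lit 3), (nat_lit 3), (nat_lit 0)],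
  [(nat_lit 4), (nat_lit 3), (nat_lit 3), (nat_lit 1)],
  [(nat_lit 4), (nat_lit 3), (nat_lit 3), (nat_lit 2)],
  [(nat_lit 4), (nat_lit 3), (nat_lit 3), (nat_lit 4)],
  [(nat_lit 4), (nat_lit 3), (nat_lit 4), (nat_lit 0)],
  [(nat_lit 4), (nat_lit 3), (nat_lit 4), (nat_lit 3)],
  [(nat_lit 0), (nat_lit 0), (nat_lit 1), (nat_lit 2), (nat_lit 2)],
  [(nat_lit 0), (nat_lit 0), (nat_lit 1), (nat_lit 3), (nat_lit 4)],
  [(nat_lit 0), (nat_lit 0), (nat_lit 2), (nat_lit 3), (nat_lit 4)],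
  [(nat_lit 0), (nat_lit 0), (nat_lit 3), (nat_lit 0), (nat_lit 4)],
  [(nat_lit 0), (nat_lit 0), (nat_lit 3), (nat_lit 3), (nat_lit 4)],
  [(nat_lit 0), (nat_lit 0), (nat_lit 3), (nat_lit 4), (nat_lit 0)],
  [(nat_lit 0), (nat_lit 0), (nat_lit 3), (nat_lit 4), (nat_lit 3)],
  [(nat_lit 0), (nat_lit 1), (nat_lit 1), (nat_lit 2), (nat_lit 4)],
  [(nat_lit 0), (nat_lit 1), (nat_lit 1), (nat_lit 4), (nat_lit 3)],
  [(nat_lit 0), (nat_lit 1), (nat_lit 2), (nat_lit 2), (nat_lit 4)],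
  [(nat_lit 0), (nat_lit 1), (nat_lit 3), (nat_lit 1), (nat_lit 4)],
  [(nat_lit 0), (nat_lit 1), (nat_lit 3), (nat_lit 3), (nat_lit 4)],
  [(nat_lit 0), (nat_lit 1), (nat_lit 3), (nat_lit 4), (nat_lit 3)],
  [(nat_lit 0), (nat_lit 1), (nat_lit 4), (nat_lit 3), (nat_lit 3)],
  [(nat_lit 0), (nat_lit 1), (nat_lit 4), (nat_lit 3), (nat_lit 4)],
  [(nat_lit 0), (nat_lit 2), (nat_lit 2), (nat_lit 4), (nat_lit 3)],
  [(nat_lit 0), (nat_lit 2), (nat_lit 3), (nat_lit 1), (nat_lit 3)],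
  [(nat_lit 0), (nat_lit 2), (nat_lit 3), (nat_lit 1), (nat_lit 4)],
  [(nat_lit 0), (nat_lit 2), (nat_lit 3), (nat_lit 3), (nat_lit 4)],
  [(nat_lit 0), (nat_lit 2), (nat_lit 3), (nat_lit 4), (nat_lit 3)],
  [(nat_lit 0), (nat_lit 2), (nat_lit 4), (nat_lit 3), (nat_lit 3)],
  [(nat_lit 0), (nat_lit 2), (nat_lit 4), (nat_lit 3), (nat_lit 4)],
  [(nat_lit 0), (nat_lit 3), (nat_lit 0), (nat_lit 4), (nat_lit 3)],
  [(nat_lit 0), (nat_lit 3), (nat_lit 1), (nat_lit 3), (nat_lit 3)],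
  [(nat_lit 0), (nat_lit 3), (nat_lit 1), (nat_lit 3), (nat_lit 4)],
  [(nat_lit 0), (nat_lit 3), (nat_lit 1), (nat_lit 4), (nat_lit 3)],
  [(nat_lit 0), (nat_lit 3), (nat_lit 2), (nat_lit 3), (nat_lit 4)],
  [(nat_lit 0), (nat_lit 3), (nat_lit 2), (nat_lit 4), (nat_lit 3)],
  [(nat_lit 0), (nat_lit 3), (nat_lit 3), (nat_lit 4), (nat_lit 3)],
  [(nat_lit 0), (nat_lit 3), (nat_lit 4), (nat_lit 3), (nat_lit 3)],
  [(nat_lit 0), (nat_lit 3), (nat_lit 4), (nat_lit 3), (nat_lit 4)],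
  [(nat_lit 0), (nat_lit 4), (nat_lit 3), (nat_lit 0), (nat_lit 0)],
  [(nat_lit 0), (nat_lit 4), (nat_lit 3), (nat_lit 0), (nat_lit 4)],
  [(nat_lit 0), (nat_lit 4), (nat_lit 3), (nat_lit 1), (nat_lit 4)],
  [(nat_lit 0), (nat_lit 4), (nat_lit 3), (nat_lit 2), (nat_lit 3)],
  [(nat_lit 0), (nat_lit 4), (nat_lit 3), (nat_lit 2), (nat_lit 4)],
  [(nat_lit 0), (nat_lit 4), (nat_lit 3), (nat_lit 3), (nat_lit 0)],
  [(nat_lit 0), (nat_lit 4), (nat_lit 3), (nat_lit 3), (nat_lit 4)],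
  [(nat_lit 0), (nat_lit 4), (nat_lit 3), (nat_lit 4), (nat_lit 0)],
  [(nat_lit 0), (nat_lit 4), (nat_lit 3), (nat_lit 4), (nat_lit 3)],
  [(nat_lit 1), (nat_lit 1), (nat_lit 2), (nat_lit 2), (nat_lit 4)],
  [(nat_lit 1), (nat_lit 1), (nat_lit 2), (nat_lit 4), (nat_lit 0)],
  [(nat_lit 1), (nat_lit 1), (nat_lit 3), (nat_lit 3), (nat_lit 4)],
  [(nat_lit 1), (nat_lit 1), (nat_lit 3), (nat_lit 4), (nat_lit 3)],
  [(nat_lit 1), (nat_lit 1), (nat_lit 4), (nat_lit 3), (nat_lit 3)],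
  [(nat_lit 1), (nat_lit 1), (nat_lit 4), (nat_lit 3), (nat_lit 4)],
  [(nat_lit 1), (nat_lit 2), (nat_lit 2), (nat_lit 4), (nat_lit 0)],
  [(nat_lit 1), (nat_lit 2), (nat_lit 3), (nat_lit 4), (nat_lit 3)],
  [(nat_lit 1), (nat_lit 3), (nat_lit 1), (nat_lit 3), (nat_lit 4)],
  [(nat_lit 1), (nat_lit 3), (nat_lit 1), (nat_lit 4), (nat_lit 3)],
  [(nat_lit 1), (nat_lit 3), (nat_lit 3), (nat_lit 0), (nat_lit 4)],
  [(nat_lit 1), (nat_lit 3), (nat_lit 3), (nat_lit 2), (nat_lit 4)],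
  [(nat_lit 1), (nat_lit 3), (nat_lit 3), (nat_lit 4), (nat_lit 3)],
  [(nat_lit 1), (nat_lit 3), (nat_lit 4), (nat_lit 3), (nat_lit 0)],
  [(nat_lit 1), (nat_lit 3), (nat_lit 4), (nat_lit 3), (nat_lit 3)],
  [(nat_lit 1), (nat_lit 3), (nat_lit 4), (nat_lit 3), (nat_lit 4)],
  [(nat_lit 1), (nat_lit 4), (nat_lit 0), (nat_lit 3), (nat_lit 3)],
  [(nat_lit 1), (nat_lit 4), (nat_lit 0), (nat_lit 3), (nat_lit 4)],
  [(nat_lit 1), (nat_lit 4), (nat_lit 3), (nat_lit 1), (nat_lit 3)],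
  [(nat_lit 1), (nat_lit 4), (nat_lit 3), (nat_lit 1), (nat_lit 4)],
  [(nat_lit 1), (nat_lit 4), (nat_lit 3), (nat_lit 2), (nat_lit 4)],
  [(nat_lit 1), (nat_lit 4), (nat_lit 3), (nat_lit 3), (nat_lit 0)],
  [(nat_lit 1), (nat_lit 4), (nat_lit 3), (nat_lit 3), (nat_lit 1)],
  [(nat_lit 1), (nat_lit 4), (nat_lit 3), (nat_lit 3), (nat_lit 4)],
  [(nat_lit 1), (nat_lit 4), (nat_lit 3), (nat_lit 4), (nat_lit 3)],
  [(nat_lit 2), (nat_lit 2), (nat_lit 4), (nat_lit 3), (nat_lit 4)],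
  [(nat_lit 2), (nat_lit 3), (nat_lit 1), (nat_lit 3), (nat_lit 4)],
  [(nat_lit 2), (nat_lit 3), (nat_lit 1), (nat_lit 4), (nat_lit 3)],
  [(nat_lit 2), (nat_lit 3), (nat_lit 2), (nat_lit 3), (nat_lit 4)],
  [(nat_lit 2), (nat_lit 3), (nat_lit 3), (nat_lit 4), (nat_lit 0)],
  [(nat_lit 2), (nat_lit 3), (nat_lit 3), (nat_lit 4), (nat_lit 3)],
  [(nat_lit 2), (nat_lit 3), (nat_lit 4), (nat_lit 3), (nat_lit 2)],
  [(nat_lit 2), (nat_lit 3), (nat_lit 4), (nat_lit 3), (nat_lit 3)],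
  [(nat_lit 2), (nat_lit 3), (nat_lit 4), (nat_lit 3), (nat_lit 4)],
  [(nat_lit 2), (nat_lit 4), (nat_lit 0), (nat_lit 3), (nat_lit 4)],
  [(nat_lit 2), (nat_lit 4), (nat_lit 3), (nat_lit 1), (nat_lit 3)],
  [(nat_lit 2), (nat_lit 4), (nat_lit 3), (nat_lit 1), (nat_lit 4)],
  [(nat_lit 2), (nat_lit 4), (nat_lit 3), (nat_lit 2), (nat_lit 3)],
  [(nat_lit 2), (nat_lit 4), (nat_lit 3), (nat_lit 2), (nat_lit 4)],
  [(nat_lit 2), (nat_lit 4), (nat_lit 3), (nat_lit 3), (nat_lit 4)],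
  [(nat_lit 2), (nat_lit 4), (nat_lit 3), (nat_lit 4), (nat_lit 3)],
  [(nat_lit 3), (nat_lit 0), (nat_lit 3), (nat_lit 2), (nat_lit 4)],
  [(nat_lit 3), (nat_lit 0), (nat_lit 3), (nat_lit 4), (nat_lit 3)],
  [(nat_lit 3), (nat_lit 0), (nat_lit 4), (nat_lit 3), (nat_lit 3)],
  [(nat_lit 3), (nat_lit 0), (nat_lit 4), (nat_lit 3), (nat_lit 4)],
  [(nat_lit 3), (nat_lit 1), (nat_lit 3), (nat_lit 1), (nat_lit 4)],
  [(nat_lit 3), (nat_lit 1), (nat_lit 3), (nat_lit 3), (nat_lit 4)],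
  [(nat_lit 3), (nat_lit 1), (nat_lit 3), (nat_lit 4), (nat_lit 3)],
  [(nat_lit 3), (nat_lit 1), (nat_lit 4), (nat_lit 3), (nat_lit 1)],
  [(nat_lit 3), (nat_lit 1), (nat_lit 4), (nat_lit 3), (nat_lit 3)],
  [(nat_lit 3), (nat_lit 1), (nat_lit 4), (nat_lit 3), (nat_lit 4)],
  [(nat_lit 3), (nat_lit 2), (nat_lit 3), (nat_lit 1), (nat_lit 4)],
  [(nat_lit 3), (nat_lit 2), (nat_lit 3), (nat_lit 4), (nat_lit 3)],
  [(nat_lit 3), (nat_lit 2), (nat_lit 4), (nat_lit 3), (nat_lit 1)],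
  [(nat_lit 3), (nat_lit 2), (nat_lit 4), (nat_lit 3), (nat_lit 3)],
  [(nat_lit 3), (nat_lit 2), (nat_lit 4), (nat_lit 3), (nat_lit 4)],
  [(nat_lit 3), (nat_lit 3), (nat_lit 0), (nat_lit 4), (nat_lit 3)],
  [(nat_lit 3), (nat_lit 3), (nat_lit 1), (nat_lit 4), (nat_lit 3)],
  [(nat_lit 3), (nat_lit 3), (nat_lit 2), (nat_lit 4), (nat_lit 3)],
  [(nat_lit 3), (nat_lit 3), (nat_lit 4), (nat_lit 0), (nat_lit 3)],
  [(nat_lit 3), (nat_lit 3), (nat_lit 4), (nat_lit 3), (nat_lit 1)],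
  [(nat_lit 3), (nat_lit 3), (nat_lit 4), (nat_lit 3), (nat_lit 2)],
  [(nat_lit 3), (nat_lit 3), (nat_lit 4), (nat_lit 3), (nat_lit 3)],
  [(nat_lit 3), (nat_lit 3), (nat_lit 4), (nat_lit 3), (nat_lit 4)],
  [(nat_lit 3), (nat_lit 4), (nat_lit 0), (nat_lit 3), (nat_lit 2)],
  [(nat_lit 3), (nat_lit 4), (nat_lit 0), (nat_lit 3), (nat_lit 3)],
  [(nat_lit 3), (nat_lit 4), (nat_lit 0), (nat_lit 3), (nat_lit 4)],
  [(nat_lit 3), (nat_lit 4), (nat_lit 3), (nat_lit 0), (nat_lit 3)],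
  [(nat_lit 3), (nat_lit 4), (nat_lit 3), (nat_lit 0), (nat_lit 4)],
  [(nat_lit 3), (nat_lit 4), (nat_lit 3), (nat_lit 1), (nat_lit 3)],
  [(nat_lit 3), (nat_lit 4), (nat_lit 3), (nat_lit 1), (nat_lit 4)],
  [(nat_lit 3), (nat_lit 4), (nat_lit 3), (nat_lit 2), (nat_lit 3)],
  [(nat_lit 3), (nat_lit 4), (nat_lit 3), (nat_lit 2), (nat_lit 4)],
  [(nat_lit 3), (nat_lit 4), (nat_lit 3), (nat_lit 3), (nat_lit 4)],
  [(nat_lit 3), (nat_lit 4), (nat_lit 3), (nat_lit 4), (nat_lit 0)],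
  [(nat_lit 3), (nat_lit 4), (nat_lit 3), (nat_lit 4), (nat_lit 3)],
  [(nat_lit 4), (nat_lit 0), (nat_lit 3), (nat_lit 1), (nat_lit 4)],
  [(nat_lit 4), (nat_lit 0), (nat_lit 3), (nat_lit 2), (nat_lit 3)],
  [(nat_lit 4), (nat_lit 0), (nat_lit 3), (nat_lit 2), (nat_lit 4)],
  [(nat_lit 4), (nat_lit 0), (nat_lit 3), (nat_lit 3), (nat_lit 4)],
  [(nat_lit 4), (nat_lit 0), (nat_lit 3), (nat_lit 4), (nat_lit 3)],
  [(nat_lit 4), (nat_lit 3), (nat_lit 0), (nat_lit 0), (nat_lit 3)],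
  [(nat_lit 4), (nat_lit 3), (nat_lit 0), (nat_lit 3), (nat_lit 2)],
  [(nat_lit 4), (nat_lit 3), (nat_lit 0), (nat_lit 3), (nat_lit 4)],
  [(nat_lit 4), (nat_lit 3), (nat_lit 0), (nat_lit 4), (nat_lit 3)],
  [(nat_lit 4), (nat_lit 3), (nat_lit 1), (nat_lit 3), (nat_lit 3)],
  [(nat_lit 4), (nat_lit 3), (nat_lit 1), (nat_lit 3), (nat_lit 4)],
  [(nat_lit 4), (nat_lit 3), (nat_lit 1), (nat_lit 4), (nat_lit 3)],
  [(nat_lit 4), (nat_lit 3), (nat_lit 2), (nat_lit 3), (nat_lit 1)],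
  [(nat_lit 4), (nat_lit 3), (nat_lit 2), (nat_lit 3), (nat_lit 4)],
  [(nat_lit 4), (nat_lit 3), (nat_lit 2), (nat_lit 4), (nat_lit 3)],
  [(nat_lit 4), (nat_lit 3), (nat_lit 3), (nat_lit 0), (nat_lit 4)],
  [(nat_lit 4), (nat_lit 3), (nat_lit 3), (nat_lit 1), (nat_lit 4)],
  [(nat_lit 4), (nat_lit 3), (nat_lit 3), (nat_lit 2), (nat_lit 4)],
  [(nat_lit 4), (nat_lit 3), (nat_lit 3), (nat_lit 4), (nat_lit 0)],
  [(nat_lit 4), (nat_lit 3), (nat_lit 4), (nat_lit 0), (nat_lit 3)],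
  [(nat_lit 4), (nat_lit 3), (nat_lit 4), (nat_lit 3), (nat_lit 0)],
  [(nat_lit 4), (nat_lit 3), (nat_lit 4), (nat_lit 3), (nat_lit 1)],
  [(nat_lit 4), (nat_lit 3), (nat_lit 4), (nat_lit 3), (nat_lit 2)],
  [(nat_lit 4), (nat_lit 3), (nat_lit 4), (nat_lit 3), (nat_lit 4)],
  [(nat_lit 0), (nat_lit 0), (nat_lit 3), (nat_lit 3), (nat_lit 4), (nat_lit 3)],
  [(nat_lit 0), (nat_lit 0), (nat_lit 3), (nat_lit 4), (nat_lit 3), (nat_lit 3)],
  [(nat_lit 0), (nat_lit 0), (nat_lit 3), (nat_lit 4), (nat_lit 3), (nat_lit 4)],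
  [(nat_lit 0), (nat_lit 1), (nat_lit 1), (nat_lit 4), (nat_lit 3), (nat_lit 3)],
  [(nat_lit 0), (nat_lit 1), (nat_lit 1), (nat_lit 4), (nat_lit 3), (nat_lit 4)],
  [(nat_lit 0), (nat_lit 1), (nat_lit 3), (nat_lit 1), (nat_lit 4), (nat_lit 3)],
  [(nat_lit 0), (nat_lit 1), (nat_lit 3), (nat_lit 3), (nat_lit 4), (nat_lit 3)],
  [(nat_lit 0), (nat_lit 1), (nat_lit 3), (nat_lit 4), (nat_lit 3), (nat_lit 3)],
  [(nat_lit 0), (nat_lit 1), (nat_lit 3), (nat_lit 4), (nat_lit 3), (nat_lit 4)],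
  [(nat_lit 0), (nat_lit 1), (nat_lit 4), (nat_lit 3), (nat_lit 3), (nat_lit 4)],
  [(nat_lit 0), (nat_lit 1), (nat_lit 4), (nat_lit 3), (nat_lit 4), (nat_lit 3)],
  [(nat_lit 0), (nat_lit 2), (nat_lit 2), (nat_lit 4), (nat_lit 3), (nat_lit 4)],
  [(nat_lit 0), (nat_lit 2), (nat_lit 3), (nat_lit 1), (nat_lit 3), (nat_lit 4)],
  [(nat_lit 0), (nat_lit 2), (nat_lit 3), (nat_lit 3), (nat_lit 4), (nat_lit 3)],
  [(nat_lit 0), (nat_lit 2), (nat_lit 3), (nat_lit 4), (nat_lit 3), (nat_lit 3)],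
  [(nat_lit 0), (nat_lit 2), (nat_lit 3), (nat_lit 4), (nat_lit 3), (nat_lit 4)],
  [(nat_lit 0), (nat_lit 2), (nat_lit 4), (nat_lit 3), (nat_lit 3), (nat_lit 4)],
  [(nat_lit 0), (nat_lit 2), (nat_lit 4), (nat_lit 3), (nat_lit 4), (nat_lit 3)],
  [(nat_lit 0), (nat_lit 3), (nat_lit 0), (nat_lit 4), (nat_lit 3), (nat_lit 3)],
  [(nat_lit 0), (nat_lit 3), (nat_lit 0), (nat_lit 4), (nat_lit 3), (nat_lit 4)],
  [(nat_lit 0), (nat_lit 3), (nat_lit 1), (nat_lit 3), (nat_lit 4), (nat_lit 3)],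
  [(nat_lit 0), (nat_lit 3), (nat_lit 1), (nat_lit 4), (nat_lit 3), (nat_lit 3)],
  [(nat_lit 0), (nat_lit 3), (nat_lit 1), (nat_lit 4), (nat_lit 3), (nat_lit 4)],
  [(nat_lit 0), (nat_lit 3), (nat_lit 2), (nat_lit 3), (nat_lit 4), (nat_lit 3)],
  [(nat_lit 0), (nat_lit 3), (nat_lit 2), (nat_lit 4), (nat_lit 3), (nat_lit 3)],
  [(nat_lit 0), (nat_lit 3), (nat_lit 2), (nat_lit 4), (nat_lit 3), (nat_lit 4)],
  [(nat_lit 0), (nat_lit 3), (nat_lit 3), (nat_lit 4), (nat_lit 3), (nat_lit 1)],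
  [(nat_lit 0), (nat_lit 3), (nat_lit 3), (nat_lit 4), (nat_lit 3), (nat_lit 2)],
  [(nat_lit 0), (nat_lit 3), (nat_lit 3), (nat_lit 4), (nat_lit 3), (nat_lit 3)],
  [(nat_lit 0), (nat_lit 3), (nat_lit 3), (nat_lit 4), (nat_lit 3), (nat_lit 4)],
  [(nat_lit 0), (nat_lit 3), (nat_lit 4), (nat_lit 3), (nat_lit 3), (nat_lit 4)],
  [(nat_lit 0), (nat_lit 3), (nat_lit 4), (nat_lit 3), (nat_lit 4), (nat_lit 3)],
  [(nat_lit 0), (nat_lit 4), (nat_lit 3), (nat_lit 0), (nat_lit 4), (nat_lit 3)],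
  [(nat_lit 0), (nat_lit 4), (nat_lit 3), (nat_lit 2), (nat_lit 4), (nat_lit 3)],
  [(nat_lit 0), (nat_lit 4), (nat_lit 3), (nat_lit 3), (nat_lit 0), (nat_lit 4)],
  [(nat_lit 0), (nat_lit 4), (nat_lit 3), (nat_lit 3), (nat_lit 4), (nat_lit 0)],
  [(nat_lit 0), (nat_lit 4), (nat_lit 3), (nat_lit 4), (nat_lit 3), (nat_lit 0)],
  [(nat_lit 0), (nat_lit 4), (nat_lit 3), (nat_lit 4), (nat_lit 3), (nat_lit 4)],
  [(nat_lit 1), (nat_lit 1), (nat_lit 3), (nat_lit 4), (nat_lit 3), (nat_lit 3)],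
  [(nat_lit 1), (nat_lit 1), (nat_lit 3), (nat_lit 4), (nat_lit 3), (nat_lit 4)],
  [(nat_lit 1), (nat_lit 1), (nat_lit 4), (nat_lit 3), (nat_lit 3), (nat_lit 4)],
  [(nat_lit 1), (nat_lit 1), (nat_lit 4), (nat_lit 3), (nat_lit 4), (nat_lit 3)],
  [(nat_lit 1), (nat_lit 2), (nat_lit 3), (nat_lit 4), (nat_lit 3), (nat_lit 3)],
  [(nat_lit 1), (nat_lit 3), (nat_lit 1), (nat_lit 4), (nat_lit 3), (nat_lit 3)],
  [(nat_lit 1), (nat_lit 3), (nat_lit 1), (nat_lit 4), (nat_lit 3), (nat_lit 4)],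
  [(nat_lit 1), (nat_lit 3), (nat_lit 3), (nat_lit 2), (nat_lit 4), (nat_lit 3)],
  [(nat_lit 1), (nat_lit 3), (nat_lit 3), (nat_lit 4), (nat_lit 3), (nat_lit 1)],
  [(nat_lit 1), (nat_lit 3), (nat_lit 3), (nat_lit 4), (nat_lit 3), (nat_lit 3)],
  [(nat_lit 1), (nat_lit 3), (nat_lit 3), (nat_lit 4), (nat_lit 3), (nat_lit 4)],
  [(nat_lit 1), (nat_lit 3), (nat_lit 4), (nat_lit 3), (nat_lit 0), (nat_lit 3)],
  [(nat_lit 1), (nat_lit 3), (nat_lit 4), (nat_lit 3), (nat_lit 0), (nat_lit 4)],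
  [(nat_lit 1), (nat_lit 3), (nat_lit 4), (nat_lit 3), (nat_lit 3), (nat_lit 4)],
  [(nat_lit 1), (nat_lit 3), (nat_lit 4), (nat_lit 3), (nat_lit 4), (nat_lit 3)],
  [(nat_lit 1), (nat_lit 4), (nat_lit 0), (nat_lit 3), (nat_lit 3), (nat_lit 4)],
  [(nat_lit 1), (nat_lit 4), (nat_lit 0), (nat_lit 3), (nat_lit 4), (nat_lit 3)],
  [(nat_lit 1), (nat_lit 4), (nat_lit 3), (nat_lit 1), (nat_lit 3), (nat_lit 4)],
  [(nat_lit 1), (nat_lit 4), (nat_lit 3), (nat_lit 1), (nat_lit 4), (nat_lit 3)],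
  [(nat_lit 1), (nat_lit 4), (nat_lit 3), (nat_lit 2), (nat_lit 4), (nat_lit 3)],
  [(nat_lit 1), (nat_lit 4), (nat_lit 3), (nat_lit 3), (nat_lit 0), (nat_lit 4)],
  [(nat_lit 1), (nat_lit 4), (nat_lit 3), (nat_lit 3), (nat_lit 1), (nat_lit 4)],
  [(nat_lit 1), (nat_lit 4), (nat_lit 3), (nat_lit 4), (nat_lit 3), (nat_lit 0)],
  [(nat_lit 1), (nat_lit 4), (nat_lit 3), (nat_lit 4), (nat_lit 3), (nat_lit 4)],
  [(nat_lit 2), (nat_lit 3), (nat_lit 1), (nat_lit 4), (nat_lit 3), (nat_lit 3)],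
  [(nat_lit 2), (nat_lit 3), (nat_lit 1), (nat_lit 4), (nat_lit 3), (nat_lit 4)],
  [(nat_lit 2), (nat_lit 3), (nat_lit 2), (nat_lit 3), (nat_lit 4), (nat_lit 3)],
  [(nat_lit 2), (nat_lit 3), (nat_lit 3), (nat_lit 4), (nat_lit 3), (nat_lit 3)],
  [(nat_lit 2), (nat_lit 3), (nat_lit 3), (nat_lit 4), (nat_lit 3), (nat_lit 4)],
  [(nat_lit 2), (nat_lit 3), (nat_lit 4), (nat_lit 3), (nat_lit 2), (nat_lit 3)],
  [(nat_lit 2), (nat_lit 3), (nat_lit 4), (nat_lit 3), (nat_lit 2), (nat_lit 4)],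
  [(nat_lit 2), (nat_lit 3), (nat_lit 4), (nat_lit 3), (nat_lit 3), (nat_lit 4)],
  [(nat_lit 2), (nat_lit 3), (nat_lit 4), (nat_lit 3), (nat_lit 4), (nat_lit 3)],
  [(nat_lit 2), (nat_lit 4), (nat_lit 0), (nat_lit 3), (nat_lit 4), (nat_lit 3)],
  [(nat_lit 2), (nat_lit 4), (nat_lit 3), (nat_lit 1), (nat_lit 3), (nat_lit 4)],
  [(nat_lit 2), (nat_lit 4), (nat_lit 3), (nat_lit 1), (nat_lit 4), (nat_lit 3)],
  [(nat_lit 2), (nat_lit 4), (nat_lit 3), (nat_lit 2), (nat_lit 3), (nat_lit 4)],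
  [(nat_lit 2), (nat_lit 4), (nat_lit 3), (nat_lit 3), (nat_lit 4), (nat_lit 0)],
  [(nat_lit 2), (nat_lit 4), (nat_lit 3), (nat_lit 4), (nat_lit 3), (nat_lit 4)],
  [(nat_lit 3), (nat_lit 0), (nat_lit 3), (nat_lit 2), (nat_lit 4), (nat_lit 3)],
  [(nat_lit 3), (nat_lit 0), (nat_lit 3), (nat_lit 4), (nat_lit 3), (nat_lit 3)],
  [(nat_lit 3), (nat_lit 0), (nat_lit 3), (nat_lit 4), (nat_lit 3), (nat_lit 4)],
  [(nat_lit 3), (nat_lit 0), (nat_lit 4), (nat_lit 3), (nat_lit 3), (nat_lit 4)],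
  [(nat_lit 3), (nat_lit 0), (nat_lit 4), (nat_lit 3), (nat_lit 4), (nat_lit 3)],
  [(nat_lit 3), (nat_lit 1), (nat_lit 3), (nat_lit 1), (nat_lit 4), (nat_lit 3)],
  [(nat_lit 3), (nat_lit 1), (nat_lit 3), (nat_lit 4), (nat_lit 3), (nat_lit 3)],
  [(nat_lit 3), (nat_lit 1), (nat_lit 3), (nat_lit 4), (nat_lit 3), (nat_lit 4)],
  [(nat_lit 3), (nat_lit 1), (nat_lit 4), (nat_lit 3), (nat_lit 1), (nat_lit 3)],
  [(nat_lit 3), (nat_lit 1), (nat_lit 4), (nat_lit 3), (nat_lit 1), (nat_lit 4)],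
  [(nat_lit 3), (nat_lit 1), (nat_lit 4), (nat_lit 3), (nat_lit 3), (nat_lit 4)],
  [(nat_lit 3), (nat_lit 1), (nat_lit 4), (nat_lit 3), (nat_lit 4), (nat_lit 3)],
  [(nat_lit 3), (nat_lit 2), (nat_lit 3), (nat_lit 1), (nat_lit 4), (nat_lit 3)],
  [(nat_lit 3), (nat_lit 2), (nat_lit 3), (nat_lit 4), (nat_lit 3), (nat_lit 3)],
  [(nat_lit 3), (nat_lit 2), (nat_lit 3), (nat_lit 4), (nat_lit 3), (nat_lit 4)],
  [(nat_lit 3), (nat_lit 2), (nat_lit 4), (nat_lit 3), (nat_lit 1), (nat_lit 3)],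
  [(nat_lit 3), (nat_lit 2), (nat_lit 4), (nat_lit 3), (nat_lit 1), (nat_lit 4)],
  [(nat_lit 3), (nat_lit 2), (nat_lit 4), (nat_lit 3), (nat_lit 3), (nat_lit 4)],
  [(nat_lit 3), (nat_lit 2), (nat_lit 4), (nat_lit 3), (nat_lit 4), (nat_lit 3)],
  [(nat_lit 3), (nat_lit 3), (nat_lit 0), (nat_lit 4), (nat_lit 3), (nat_lit 3)],
  [(nat_lit 3), (nat_lit 3), (nat_lit 0), (nat_lit 4), (nat_lit 3), (nat_lit 4)],
  [(nat_lit 3), (nat_lit 3), (nat_lit 1), (nat_lit 4), (nat_lit 3), (nat_lit 3)],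
  [(nat_lit 3), (nat_lit 3), (nat_lit 1), (nat_lit 4), (nat_lit 3), (nat_lit 4)],
  [(nat_lit 3), (nat_lit 3), (nat_lit 2), (nat_lit 4), (nat_lit 3), (nat_lit 1)],
  [(nat_lit 3), (nat_lit 3), (nat_lit 2), (nat_lit 4), (nat_lit 3), (nat_lit 3)],
  [(nat_lit 3), (nat_lit 3), (nat_lit 2), (nat_lit 4), (nat_lit 3), (nat_lit 4)],
  [(nat_lit 3), (nat_lit 3), (nat_lit 4), (nat_lit 0), (nat_lit 3), (nat_lit 3)],
  [(nat_lit 3), (nat_lit 3), (nat_lit 4), (nat_lit 0), (nat_lit 3), (nat_lit 4)],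
  [(nat_lit 3), (nat_lit 3), (nat_lit 4), (nat_lit 3), (nat_lit 1), (nat_lit 3)],
  [(nat_lit 3), (nat_lit 3), (nat_lit 4), (nat_lit 3), (nat_lit 1), (nat_lit 4)],
  [(nat_lit 3), (nat_lit 3), (nat_lit 4), (nat_lit 3), (nat_lit 2), (nat_lit 3)],
  [(nat_lit 3), (nat_lit 3), (nat_lit 4), (nat_lit 3), (nat_lit 2), (nat_lit 4)],
  [(nat_lit 3), (nat_lit 3), (nat_lit 4), (nat_lit 3), (nat_lit 3), (nat_lit 4)],
  [(nat_lit 3), (nat_lit 3), (nat_lit 4), (nat_lit 3), (nat_lit 4), (nat_lit 0)],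
  [(nat_lit 3), (nat_lit 3), (nat_lit 4), (nat_lit 3), (nat_lit 4), (nat_lit 3)],
  [(nat_lit 3), (nat_lit 4), (nat_lit 0), (nat_lit 3), (nat_lit 2), (nat_lit 3)],
  [(nat_lit 3), (nat_lit 4), (nat_lit 0), (nat_lit 3), (nat_lit 2), (nat_lit 4)],
  [(nat_lit 3), (nat_lit 4), (nat_lit 0), (nat_lit 3), (nat_lit 3), (nat_lit 4)],
  [(nat_lit 3), (nat_lit 4), (nat_lit 0), (nat_lit 3), (nat_lit 4), (nat_lit 3)],
  [(nat_lit 3), (nat_lit 4), (nat_lit 3), (nat_lit 0), (nat_lit 3), (nat_lit 4)],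
  [(nat_lit 3), (nat_lit 4), (nat_lit 3), (nat_lit 0), (nat_lit 4), (nat_lit 3)],
  [(nat_lit 3), (nat_lit 4), (nat_lit 3), (nat_lit 1), (nat_lit 3), (nat_lit 4)],
  [(nat_lit 3), (nat_lit 4), (nat_lit 3), (nat_lit 1), (nat_lit 4), (nat_lit 3)],
  [(nat_lit 3), (nat_lit 4), (nat_lit 3), (nat_lit 2), (nat_lit 3), (nat_lit 4)],
  [(nat_lit 3), (nat_lit 4), (nat_lit 3), (nat_lit 2), (nat_lit 4), (nat_lit 3)],
  [(nat_lit 3), (nat_lit 4), (nat_lit 3), (nat_lit 3), (nat_lit 4), (nat_lit 0)],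
  [(nat_lit 3), (nat_lit 4), (nat_lit 3), (nat_lit 4), (nat_lit 0), (nat_lit 3)],
  [(nat_lit 3), (nat_lit 4), (nat_lit 3), (nat_lit 4), (nat_lit 3), (nat_lit 1)],
  [(nat_lit 3), (nat_lit 4), (nat_lit 3), (nat_lit 4), (nat_lit 3), (nat_lit 2)],
  [(nat_lit 3), (nat_lit 4), (nat_lit 3), (nat_lit 4), (nat_lit 3), (nat_lit 4)],
  [(nat_lit 4), (nat_lit 0), (nat_lit 3), (nat_lit 2), (nat_lit 4), (nat_lit 3)],
  [(nat_lit 4), (nat_lit 0), (nat_lit 3), (nat_lit 4), (nat_lit 3), (nat_lit 4)],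
  [(nat_lit 4), (nat_lit 3), (nat_lit 0), (nat_lit 3), (nat_lit 2), (nat_lit 4)],
  [(nat_lit 4), (nat_lit 3), (nat_lit 0), (nat_lit 4), (nat_lit 3), (nat_lit 4)],
  [(nat_lit 4), (nat_lit 3), (nat_lit 1), (nat_lit 3), (nat_lit 4), (nat_lit 3)],
  [(nat_lit 4), (nat_lit 3), (nat_lit 1), (nat_lit 4), (nat_lit 3), (nat_lit 3)],
  [(nat_lit 4), (nat_lit 3), (nat_lit 1), (nat_lit 4), (nat_lit 3), (nat_lit 4)],
  [(nat_lit 4), (nat_lit 3), (nat_lit 2), (nat_lit 3), (nat_lit 1), (nat_lit 4)],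
  [(nat_lit 4), (nat_lit 3), (nat_lit 2), (nat_lit 3), (nat_lit 4), (nat_lit 3)],
  [(nat_lit 4), (nat_lit 3), (nat_lit 2), (nat_lit 4), (nat_lit 3), (nat_lit 1)],
  [(nat_lit 4), (nat_lit 3), (nat_lit 2), (nat_lit 4), (nat_lit 3), (nat_lit 3)],
  [(nat_lit 4), (nat_lit 3), (nat_lit 2), (nat_lit 4), (nat_lit 3), (nat_lit 4)],
  [(nat_lit 4), (nat_lit 3), (nat_lit 4), (nat_lit 0), (nat_lit 3), (nat_lit 4)],
  [(nat_lit 4), (nat_lit 3), (nat_lit 4), (nat_lit 3), (nat_lit 0), (nat_lit 4)],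
  [(nat_lit 4), (nat_lit 3), (nat_lit 4), (nat_lit 3), (nat_lit 1), (nat_lit 4)],
  [(nat_lit 4), (nat_lit 3), (nat_lit 4), (nat_lit 3), (nat_lit 2), (nat_lit 4)],
  [(nat_lit 4), (nat_lit 3), (nat_lit 4), (nat_lit 3), (nat_lit 4), (nat_lit 0)],
  [(nat_lit 0), (nat_lit 0), (nat_lit 3), (nat_lit 3), (nat_lit 4), (nat_lit 3), (nat_lit 3)],
  [(nat_lit 0), (nat_lit 0), (nat_lit 3), (nat_lit 4), (nat_lit 3), (nat_lit 4), (nat_lit 3)],
  [(nat_lit 0), (nat_lit 1), (nat_lit 1), (nat_lit 4), (nat_lit 3), (nat_lit 3), (nat_lit 4)],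
  [(nat_lit 0), (nat_lit 1), (nat_lit 3), (nat_lit 1), (nat_lit 4), (nat_lit 3), (nat_lit 3)],
  [(nat_lit 0), (nat_lit 1), (nat_lit 3), (nat_lit 1), (nat_lit 4), (nat_lit 3), (nat_lit 4)],
  [(nat_lit 0), (nat_lit 1), (nat_lit 3), (nat_lit 3), (nat_lit 4), (nat_lit 3), (nat_lit 3)],
  [(nat_lit 0), (nat_lit 1), (nat_lit 3), (nat_lit 3), (nat_lit 4), (nat_lit 3), (nat_lit 4)],
  [(nat_lit 0), (nat_lit 1), (nat_lit 3), (nat_lit 4), (nat_lit 3), (nat_lit 3), (nat_lit 4)],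
  [(nat_lit 0), (nat_lit 1), (nat_lit 3), (nat_lit 4), (nat_lit 3), (nat_lit 4), (nat_lit 3)],
  [(nat_lit 0), (nat_lit 1), (nat_lit 4), (nat_lit 3), (nat_lit 4), (nat_lit 3), (nat_lit 0)],
  [(nat_lit 0), (nat_lit 1), (nat_lit 4), (nat_lit 3), (nat_lit 4), (nat_lit 3), (nat_lit 4)],
  [(nat_lit 0), (nat_lit 2), (nat_lit 3), (nat_lit 3), (nat_lit 4), (nat_lit 3), (nat_lit 3)],
  [(nat_lit 0), (nat_lit 2), (nat_lit 3), (nat_lit 3), (nat_lit 4), (nat_lit 3), (nat_lit 4)],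
  [(nat_lit 0), (nat_lit 2), (nat_lit 3), (nat_lit 4), (nat_lit 3), (nat_lit 3), (nat_lit 4)],
  [(nat_lit 0), (nat_lit 2), (nat_lit 3), (nat_lit 4), (nat_lit 3), (nat_lit 4), (nat_lit 3)],
  [(nat_lit 0), (nat_lit 2), (nat_lit 4), (nat_lit 3), (nat_lit 4), (nat_lit 3), (nat_lit 4)],
  [(nat_lit 0), (nat_lit 3), (nat_lit 0), (nat_lit 4), (nat_lit 3), (nat_lit 3), (nat_lit 4)],
  [(nat_lit 0), (nat_lit 3), (nat_lit 0), (nat_lit 4), (nat_lit 3), (nat_lit 4), (nat_lit 3)],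
  [(nat_lit 0), (nat_lit 3), (nat_lit 1), (nat_lit 3), (nat_lit 4), (nat_lit 3), (nat_lit 3)],
  [(nat_lit 0), (nat_lit 3), (nat_lit 1), (nat_lit 4), (nat_lit 3), (nat_lit 4), (nat_lit 3)],
  [(nat_lit 0), (nat_lit 3), (nat_lit 2), (nat_lit 3), (nat_lit 4), (nat_lit 3), (nat_lit 3)],
  [(nat_lit 0), (nat_lit 3), (nat_lit 2), (nat_lit 4), (nat_lit 3), (nat_lit 4), (nat_lit 3)],
  [(nat_lit 0), (nat_lit 3), (nat_lit 3), (nat_lit 4), (nat_lit 3), (nat_lit 1), (nat_lit 3)],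
  [(nat_lit 0), (nat_lit 3), (nat_lit 3), (nat_lit 4), (nat_lit 3), (nat_lit 1), (nat_lit 4)],
  [(nat_lit 0), (nat_lit 3), (nat_lit 3), (nat_lit 4), (nat_lit 3), (nat_lit 2), (nat_lit 3)],
  [(nat_lit 0), (nat_lit 3), (nat_lit 3), (nat_lit 4), (nat_lit 3), (nat_lit 2), (nat_lit 4)],
  [(nat_lit 0), (nat_lit 3), (nat_lit 3), (nat_lit 4), (nat_lit 3), (nat_lit 3), (nat_lit 4)],
  [(nat_lit 0), (nat_lit 3), (nat_lit 3), (nat_lit 4), (nat_lit 3), (nat_lit 4), (nat_lit 3)],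
  [(nat_lit 0), (nat_lit 3), (nat_lit 4), (nat_lit 3), (nat_lit 4), (nat_lit 3), (nat_lit 1)],
  [(nat_lit 0), (nat_lit 3), (nat_lit 4), (nat_lit 3), (nat_lit 4), (nat_lit 3), (nat_lit 2)],
  [(nat_lit 0), (nat_lit 3), (nat_lit 4), (nat_lit 3), (nat_lit 4), (nat_lit 3), (nat_lit 4)],
  [(nat_lit 0), (nat_lit 4), (nat_lit 3), (nat_lit 0), (nat_lit 4), (nat_lit 3), (nat_lit 4)],
  [(nat_lit 0), (nat_lit 4), (nat_lit 3), (nat_lit 2), (nat_lit 4), (nat_lit 3), (nat_lit 3)],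
  [(nat_lit 0), (nat_lit 4), (nat_lit 3), (nat_lit 4), (nat_lit 3), (nat_lit 0), (nat_lit 4)],
  [(nat_lit 0), (nat_lit 4), (nat_lit 3), (nat_lit 4), (nat_lit 3), (nat_lit 4), (nat_lit 0)],
  [(nat_lit 1), (nat_lit 1), (nat_lit 3), (nat_lit 4), (nat_lit 3), (nat_lit 3), (nat_lit 4)],
  [(nat_lit 1), (nat_lit 1), (nat_lit 4), (nat_lit 3), (nat_lit 4), (nat_lit 3), (nat_lit 4)],
  [(nat_lit 1), (nat_lit 3), (nat_lit 1), (nat_lit 4), (nat_lit 3), (nat_lit 3), (nat_lit 4)],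
  [(nat_lit 1), (nat_lit 3), (nat_lit 3), (nat_lit 2), (nat_lit 4), (nat_lit 3), (nat_lit 3)],
  [(nat_lit 1), (nat_lit 3), (nat_lit 3), (nat_lit 2), (nat_lit 4), (nat_lit 3), (nat_lit 4)],
  [(nat_lit 1), (nat_lit 3), (nat_lit 3), (nat_lit 4), (nat_lit 3), (nat_lit 1), (nat_lit 3)],
  [(nat_lit 1), (nat_lit 3), (nat_lit 3), (nat_lit 4), (nat_lit 3), (nat_lit 1), (nat_lit 4)],
  [(nat_lit 1), (nat_lit 3), (nat_lit 3), (nat_lit 4), (nat_lit 3), (nat_lit 3), (nat_lit 4)],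
  [(nat_lit 1), (nat_lit 3), (nat_lit 3), (nat_lit 4), (nat_lit 3), (nat_lit 4), (nat_lit 0)],
  [(nat_lit 1), (nat_lit 3), (nat_lit 3), (nat_lit 4), (nat_lit 3), (nat_lit 4), (nat_lit 3)],
  [(nat_lit 1), (nat_lit 3), (nat_lit 4), (nat_lit 3), (nat_lit 0), (nat_lit 3), (nat_lit 4)],
  [(nat_lit 1), (nat_lit 3), (nat_lit 4), (nat_lit 3), (nat_lit 3), (nat_lit 4), (nat_lit 0)],
  [(nat_lit 1), (nat_lit 3), (nat_lit 4), (nat_lit 3), (nat_lit 4), (nat_lit 3), (nat_lit 4)],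
  [(nat_lit 1), (nat_lit 4), (nat_lit 0), (nat_lit 3), (nat_lit 4), (nat_lit 3), (nat_lit 4)],
  [(nat_lit 1), (nat_lit 4), (nat_lit 3), (nat_lit 1), (nat_lit 3), (nat_lit 4), (nat_lit 3)],
  [(nat_lit 1), (nat_lit 4), (nat_lit 3), (nat_lit 1), (nat_lit 4), (nat_lit 3), (nat_lit 3)],
  [(nat_lit 1), (nat_lit 4), (nat_lit 3), (nat_lit 1), (nat_lit 4), (nat_lit 3), (nat_lit 4)],
  [(nat_lit 1), (nat_lit 4), (nat_lit 3), (nat_lit 2), (nat_lit 4), (nat_lit 3), (nat_lit 3)],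
  [(nat_lit 1), (nat_lit 4), (nat_lit 3), (nat_lit 2), (nat_lit 4), (nat_lit 3), (nat_lit 4)],
  [(nat_lit 1), (nat_lit 4), (nat_lit 3), (nat_lit 4), (nat_lit 3), (nat_lit 0), (nat_lit 4)],
  [(nat_lit 2), (nat_lit 3), (nat_lit 1), (nat_lit 4), (nat_lit 3), (nat_lit 3), (nat_lit 4)],
  [(nat_lit 2), (nat_lit 3), (nat_lit 2), (nat_lit 3), (nat_lit 4), (nat_lit 3), (nat_lit 3)],
  [(nat_lit 2), (nat_lit 3), (nat_lit 2), (nat_lit 3), (nat_lit 4), (nat_lit 3), (nat_lit 4)],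
  [(nat_lit 2), (nat_lit 3), (nat_lit 3), (nat_lit 4), (nat_lit 3), (nat_lit 3), (nat_lit 4)],
  [(nat_lit 2), (nat_lit 3), (nat_lit 3), (nat_lit 4), (nat_lit 3), (nat_lit 4), (nat_lit 3)],
  [(nat_lit 2), (nat_lit 3), (nat_lit 4), (nat_lit 3), (nat_lit 2), (nat_lit 4), (nat_lit 3)],
  [(nat_lit 2), (nat_lit 3), (nat_lit 4), (nat_lit 3), (nat_lit 3), (nat_lit 4), (nat_lit 0)],
  [(nat_lit 2), (nat_lit 3), (nat_lit 4), (nat_lit 3), (nat_lit 4), (nat_lit 3), (nat_lit 4)],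
  [(nat_lit 2), (nat_lit 4), (nat_lit 0), (nat_lit 3), (nat_lit 4), (nat_lit 3), (nat_lit 4)],
  [(nat_lit 2), (nat_lit 4), (nat_lit 3), (nat_lit 1), (nat_lit 3), (nat_lit 4), (nat_lit 3)],
  [(nat_lit 2), (nat_lit 4), (nat_lit 3), (nat_lit 1), (nat_lit 4), (nat_lit 3), (nat_lit 3)],
  [(nat_lit 2), (nat_lit 4), (nat_lit 3), (nat_lit 1), (nat_lit 4), (nat_lit 3), (nat_lit 4)],
  [(nat_lit 2), (nat_lit 4), (nat_lit 3), (nat_lit 2), (nat_lit 3), (nat_lit 4), (nat_lit 3)],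
  [(nat_lit 3), (nat_lit 0), (nat_lit 3), (nat_lit 2), (nat_lit 4), (nat_lit 3), (nat_lit 3)],
  [(nat_lit 3), (nat_lit 0), (nat_lit 3), (nat_lit 4), (nat_lit 3), (nat_lit 3), (nat_lit 4)],
  [(nat_lit 3), (nat_lit 0), (nat_lit 3), (nat_lit 4), (nat_lit 3), (nat_lit 4), (nat_lit 3)],
  [(nat_lit 3), (nat_lit 0), (nat_lit 4), (nat_lit 3), (nat_lit 4), (nat_lit 3), (nat_lit 4)],
  [(nat_lit 3), (nat_lit 1), (nat_lit 3), (nat_lit 1), (nat_lit 4), (nat_lit 3), (nat_lit 3)],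
  [(nat_lit 3), (nat_lit 1), (nat_lit 3), (nat_lit 4), (nat_lit 3), (nat_lit 3), (nat_lit 4)],
  [(nat_lit 3), (nat_lit 1), (nat_lit 3), (nat_lit 4), (nat_lit 3), (nat_lit 4), (nat_lit 3)],
  [(nat_lit 3), (nat_lit 1), (nat_lit 4), (nat_lit 3), (nat_lit 1), (nat_lit 4), (nat_lit 3)],
  [(nat_lit 3), (nat_lit 1), (nat_lit 4), (nat_lit 3), (nat_lit 4), (nat_lit 3), (nat_lit 4)],
  [(nat_lit 3), (nat_lit 2), (nat_lit 3), (nat_lit 1), (nat_lit 4), (nat_lit 3), (nat_lit 3)],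
  [(nat_lit 3), (nat_lit 2), (nat_lit 3), (nat_lit 4), (nat_lit 3), (nat_lit 3), (nat_lit 4)],
  [(nat_lit 3), (nat_lit 2), (nat_lit 3), (nat_lit 4), (nat_lit 3), (nat_lit 4), (nat_lit 3)],
  [(nat_lit 3), (nat_lit 2), (nat_lit 4), (nat_lit 3), (nat_lit 1), (nat_lit 4), (nat_lit 3)],
  [(nat_lit 3), (nat_lit 2), (nat_lit 4), (nat_lit 3), (nat_lit 4), (nat_lit 3), (nat_lit 4)],
  [(nat_lit 3), (nat_lit 3), (nat_lit 0), (nat_lit 4), (nat_lit 3), (nat_lit 3), (nat_lit 4)],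
  [(nat_lit 3), (nat_lit 3), (nat_lit 0), (nat_lit 4), (nat_lit 3), (nat_lit 4), (nat_lit 3)],
  [(nat_lit 3), (nat_lit 3), (nat_lit 1), (nat_lit 4), (nat_lit 3), (nat_lit 3), (nat_lit 4)],
  [(nat_lit 3), (nat_lit 3), (nat_lit 1), (nat_lit 4), (nat_lit 3), (nat_lit 4), (nat_lit 3)],
  [(nat_lit 3), (nat_lit 3), (nat_lit 2), (nat_lit 4), (nat_lit 3), (nat_lit 1), (nat_lit 3)],
  [(nat_lit 3), (nat_lit 3), (nat_lit 2), (nat_lit 4), (nat_lit 3), (nat_lit 3), (nat_lit 4)],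
  [(nat_lit 3), (nat_lit 3), (nat_lit 2), (nat_lit 4), (nat_lit 3), (nat_lit 4), (nat_lit 3)],
  [(nat_lit 3), (nat_lit 3), (nat_lit 4), (nat_lit 0), (nat_lit 3), (nat_lit 3), (nat_lit 4)],
  [(nat_lit 3), (nat_lit 3), (nat_lit 4), (nat_lit 0), (nat_lit 3), (nat_lit 4), (nat_lit 3)],
  [(nat_lit 3), (nat_lit 3), (nat_lit 4), (nat_lit 3), (nat_lit 1), (nat_lit 3), (nat_lit 4)],
  [(nat_lit 3), (nat_lit 3), (nat_lit 4), (nat_lit 3), (nat_lit 1), (nat_lit 4), (nat_lit 3)],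
  [(nat_lit 3), (nat_lit 3), (nat_lit 4), (nat_lit 3), (nat_lit 2), (nat_lit 3), (nat_lit 4)],
  [(nat_lit 3), (nat_lit 3), (nat_lit 4), (nat_lit 3), (nat_lit 2), (nat_lit 4), (nat_lit 3)],
  [(nat_lit 3), (nat_lit 3), (nat_lit 4), (nat_lit 3), (nat_lit 3), (nat_lit 4), (nat_lit 0)],
  [(nat_lit 3), (nat_lit 3), (nat_lit 4), (nat_lit 3), (nat_lit 4), (nat_lit 0), (nat_lit 3)],
  [(nat_lit 3), (nat_lit 3), (nat_lit 4), (nat_lit 3), (nat_lit 4), (nat_lit 3), (nat_lit 1)],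
  [(nat_lit 3), (nat_lit 3), (nat_lit 4), (nat_lit 3), (nat_lit 4), (nat_lit 3), (nat_lit 2)],
  [(nat_lit 3), (nat_lit 3), (nat_lit 4), (nat_lit 3), (nat_lit 4), (nat_lit 3), (nat_lit 4)],
  [(nat_lit 3), (nat_lit 4), (nat_lit 0), (nat_lit 3), (nat_lit 2), (nat_lit 4), (nat_lit 3)],
  [(nat_lit 3), (nat_lit 4), (nat_lit 0), (nat_lit 3), (nat_lit 4), (nat_lit 3), (nat_lit 4)],
  [(nat_lit 3), (nat_lit 4), (nat_lit 3), (nat_lit 0), (nat_lit 4), (nat_lit 3), (nat_lit 4)],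
  [(nat_lit 3), (nat_lit 4), (nat_lit 3), (nat_lit 1), (nat_lit 4), (nat_lit 3), (nat_lit 3)],
  [(nat_lit 3), (nat_lit 4), (nat_lit 3), (nat_lit 1), (nat_lit 4), (nat_lit 3), (nat_lit 4)],
  [(nat_lit 3), (nat_lit 4), (nat_lit 3), (nat_lit 2), (nat_lit 4), (nat_lit 3), (nat_lit 1)],
  [(nat_lit 3), (nat_lit 4), (nat_lit 3), (nat_lit 2), (nat_lit 4), (nat_lit 3), (nat_lit 3)],
  [(nat_lit 3), (nat_lit 4), (nat_lit 3), (nat_lit 2), (nat_lit 4), (nat_lit 3), (nat_lit 4)],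
  [(nat_lit 3), (nat_lit 4), (nat_lit 3), (nat_lit 4), (nat_lit 0), (nat_lit 3), (nat_lit 4)],
  [(nat_lit 3), (nat_lit 4), (nat_lit 3), (nat_lit 4), (nat_lit 3), (nat_lit 1), (nat_lit 4)],
  [(nat_lit 3), (nat_lit 4), (nat_lit 3), (nat_lit 4), (nat_lit 3), (nat_lit 2), (nat_lit 4)],
  [(nat_lit 3), (nat_lit 4), (nat_lit 3), (nat_lit 4), (nat_lit 3), (nat_lit 4), (nat_lit 0)],
  [(nat_lit 4), (nat_lit 3), (nat_lit 1), (nat_lit 4), (nat_lit 3), (nat_lit 4), (nat_lit 3)],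
  [(nat_lit 4), (nat_lit 3), (nat_lit 2), (nat_lit 4), (nat_lit 3), (nat_lit 1), (nat_lit 4)],
  [(nat_lit 4), (nat_lit 3), (nat_lit 2), (nat_lit 4), (nat_lit 3), (nat_lit 4), (nat_lit 3)],
  [(nat_lit 0), (nat_lit 0), (nat_lit 3), (nat_lit 3), (nat_lit 4), (nat_lit 3), (nat_lit 3), (nat_lit 4)],
  [(nat_lit 0), (nat_lit 1), (nat_lit 3), (nat_lit 3), (nat_lit 4), (nat_lit 3), (nat_lit 3), (nat_lit 4)],
  [(nat_lit 0), (nat_lit 1), (nat_lit 3), (nat_lit 3), (nat_lit 4), (nat_lit 3), (nat_lit 4), (nat_lit 3)],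
  [(nat_lit 0), (nat_lit 1), (nat_lit 3), (nat_lit 4), (nat_lit 3), (nat_lit 4), (nat_lit 3), (nat_lit 4)],
  [(nat_lit 0), (nat_lit 1), (nat_lit 4), (nat_lit 3), (nat_lit 4), (nat_lit 3), (nat_lit 0), (nat_lit 4)],
  [(nat_lit 0), (nat_lit 2), (nat_lit 3), (nat_lit 3), (nat_lit 4), (nat_lit 3), (nat_lit 3), (nat_lit 4)],
  [(nat_lit 0), (nat_lit 2), (nat_lit 3), (nat_lit 3), (nat_lit 4), (nat_lit 3), (nat_lit 4), (nat_lit 3)],
  [(nat_lit 0), (nat_lit 2), (nat_lit 3), (nat_lit 4), (nat_lit 3), (nat_lit 4), (nat_lit 3), (nat_lit 4)],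
  [(nat_lit 0), (nat_lit 3), (nat_lit 0), (nat_lit 4), (nat_lit 3), (nat_lit 4), (nat_lit 3), (nat_lit 4)],
  [(nat_lit 0), (nat_lit 3), (nat_lit 1), (nat_lit 3), (nat_lit 4), (nat_lit 3), (nat_lit 3), (nat_lit 4)],
  [(nat_lit 0), (nat_lit 3), (nat_lit 2), (nat_lit 3), (nat_lit 4), (nat_lit 3), (nat_lit 3), (nat_lit 4)],
  [(nat_lit 0), (nat_lit 3), (nat_lit 3), (nat_lit 4), (nat_lit 3), (nat_lit 1), (nat_lit 3), (nat_lit 4)],
  [(nat_lit 0), (nat_lit 3), (nat_lit 3), (nat_lit 4), (nat_lit 3), (nat_lit 1), (nat_lit 4), (nat_lit 3)],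
  [(nat_lit 0), (nat_lit 3), (nat_lit 3), (nat_lit 4), (nat_lit 3), (nat_lit 2), (nat_lit 3), (nat_lit 4)],
  [(nat_lit 0), (nat_lit 3), (nat_lit 3), (nat_lit 4), (nat_lit 3), (nat_lit 2), (nat_lit 4), (nat_lit 3)],
  [(nat_lit 0), (nat_lit 3), (nat_lit 3), (nat_lit 4), (nat_lit 3), (nat_lit 4), (nat_lit 3), (nat_lit 4)],
  [(nat_lit 0), (nat_lit 3), (nat_lit 4), (nat_lit 3), (nat_lit 4), (nat_lit 3), (nat_lit 1), (nat_lit 4)],
  [(nat_lit 0), (nat_lit 3), (nat_lit 4), (nat_lit 3), (nat_lit 4), (nat_lit 3), (nat_lit 2), (nat_lit 4)],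
  [(nat_lit 1), (nat_lit 3), (nat_lit 3), (nat_lit 2), (nat_lit 4), (nat_lit 3), (nat_lit 3), (nat_lit 4)],
  [(nat_lit 1), (nat_lit 3), (nat_lit 3), (nat_lit 2), (nat_lit 4), (nat_lit 3), (nat_lit 4), (nat_lit 3)],
  [(nat_lit 1), (nat_lit 3), (nat_lit 3), (nat_lit 4), (nat_lit 3), (nat_lit 1), (nat_lit 4), (nat_lit 3)],
  [(nat_lit 1), (nat_lit 3), (nat_lit 3), (nat_lit 4), (nat_lit 3), (nat_lit 4), (nat_lit 0), (nat_lit 3)],
  [(nat_lit 1), (nat_lit 3), (nat_lit 3), (nat_lit 4), (nat_lit 3), (nat_lit 4), (nat_lit 3), (nat_lit 2)],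
  [(nat_lit 1), (nat_lit 3), (nat_lit 3), (nat_lit 4), (nat_lit 3), (nat_lit 4), (nat_lit 3), (nat_lit 4)],
  [(nat_lit 1), (nat_lit 3), (nat_lit 4), (nat_lit 3), (nat_lit 4), (nat_lit 3), (nat_lit 4), (nat_lit 0)],
  [(nat_lit 1), (nat_lit 4), (nat_lit 3), (nat_lit 1), (nat_lit 4), (nat_lit 3), (nat_lit 4), (nat_lit 3)],
  [(nat_lit 1), (nat_lit 4), (nat_lit 3), (nat_lit 2), (nat_lit 4), (nat_lit 3), (nat_lit 4), (nat_lit 3)],
  [(nat_lit 2), (nat_lit 3), (nat_lit 2), (nat_lit 3), (nat_lit 4), (nat_lit 3), (nat_lit 4), (nat_lit 3)],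
  [(nat_lit 2), (nat_lit 3), (nat_lit 3), (nat_lit 4), (nat_lit 3), (nat_lit 4), (nat_lit 3), (nat_lit 1)],
  [(nat_lit 2), (nat_lit 3), (nat_lit 3), (nat_lit 4), (nat_lit 3), (nat_lit 4), (nat_lit 3), (nat_lit 2)],
  [(nat_lit 2), (nat_lit 3), (nat_lit 3), (nat_lit 4), (nat_lit 3), (nat_lit 4), (nat_lit 3), (nat_lit 4)],
  [(nat_lit 2), (nat_lit 3), (nat_lit 4), (nat_lit 3), (nat_lit 2), (nat_lit 4), (nat_lit 3), (nat_lit 3)],
  [(nat_lit 2), (nat_lit 3), (nat_lit 4), (nat_lit 3), (nat_lit 4), (nat_lit 3), (nat_lit 4), (nat_lit 0)],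
  [(nat_lit 2), (nat_lit 4), (nat_lit 3), (nat_lit 1), (nat_lit 4), (nat_lit 3), (nat_lit 4), (nat_lit 3)],
  [(nat_lit 3), (nat_lit 0), (nat_lit 3), (nat_lit 4), (nat_lit 3), (nat_lit 4), (nat_lit 3), (nat_lit 4)],
  [(nat_lit 3), (nat_lit 1), (nat_lit 3), (nat_lit 4), (nat_lit 3), (nat_lit 4), (nat_lit 3), (nat_lit 4)],
  [(nat_lit 3), (nat_lit 2), (nat_lit 3), (nat_lit 1), (nat_lit 4), (nat_lit 3), (nat_lit 3), (nat_lit 4)],
  [(nat_lit 3), (nat_lit 2), (nat_lit 3), (nat_lit 4), (nat_lit 3), (nat_lit 4), (nat_lit 3), (nat_lit 4)],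
  [(nat_lit 3), (nat_lit 2), (nat_lit 4), (nat_lit 3), (nat_lit 1), (nat_lit 4), (nat_lit 3), (nat_lit 3)],
  [(nat_lit 3), (nat_lit 3), (nat_lit 0), (nat_lit 4), (nat_lit 3), (nat_lit 4), (nat_lit 3), (nat_lit 4)],
  [(nat_lit 3), (nat_lit 3), (nat_lit 1), (nat_lit 4), (nat_lit 3), (nat_lit 4), (nat_lit 3), (nat_lit 4)],
  [(nat_lit 3), (nat_lit 3), (nat_lit 2), (nat_lit 4), (nat_lit 3), (nat_lit 4), (nat_lit 3), (nat_lit 4)],
  [(nat_lit 3), (nat_lit 3), (nat_lit 4), (nat_lit 0), (nat_lit 3), (nat_lit 4), (nat_lit 3), (nat_lit 4)],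
  [(nat_lit 3), (nat_lit 3), (nat_lit 4), (nat_lit 3), (nat_lit 1), (nat_lit 4), (nat_lit 3), (nat_lit 4)],
  [(nat_lit 3), (nat_lit 3), (nat_lit 4), (nat_lit 3), (nat_lit 2), (nat_lit 4), (nat_lit 3), (nat_lit 4)],
  [(nat_lit 3), (nat_lit 3), (nat_lit 4), (nat_lit 3), (nat_lit 4), (nat_lit 0), (nat_lit 3), (nat_lit 4)],
  [(nat_lit 3), (nat_lit 3), (nat_lit 4), (nat_lit 3), (nat_lit 4), (nat_lit 3), (nat_lit 1), (nat_lit 4)],
  [(nat_lit 3), (nat_lit 3), (nat_lit 4), (nat_lit 3), (nat_lit 4), (nat_lit 3), (nat_lit 2), (nat_lit 4)],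
  [(nat_lit 3), (nat_lit 3), (nat_lit 4), (nat_lit 3), (nat_lit 4), (nat_lit 3), (nat_lit 4), (nat_lit 0)],
  [(nat_lit 3), (nat_lit 4), (nat_lit 3), (nat_lit 1), (nat_lit 4), (nat_lit 3), (nat_lit 4), (nat_lit 3)],
  [(nat_lit 3), (nat_lit 4), (nat_lit 3), (nat_lit 2), (nat_lit 4), (nat_lit 3), (nat_lit 4), (nat_lit 3)],
  [(nat_lit 0), (nat_lit 1), (nat_lit 3), (nat_lit 3), (nat_lit 4), (nat_lit 3), (nat_lit 4), (nat_lit 3), (nat_lit 4)],
  [(nat_lit 0), (nat_lit 2), (nat_lit 3), (nat_lit 3), (nat_lit 4), (nat_lit 3), (nat_lit 4), (nat_lit 3), (nat_lit 4)],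
  [(nat_lit 0), (nat_lit 3), (nat_lit 3), (nat_lit 4), (nat_lit 3), (nat_lit 1), (nat_lit 4), (nat_lit 3), (nat_lit 4)],
  [(nat_lit 0), (nat_lit 3), (nat_lit 3), (nat_lit 4), (nat_lit 3), (nat_lit 2), (nat_lit 4), (nat_lit 3), (nat_lit 4)],
  [(nat_lit 1), (nat_lit 3), (nat_lit 3), (nat_lit 2), (nat_lit 4), (nat_lit 3), (nat_lit 4), (nat_lit 3), (nat_lit 4)],
  [(nat_lit 1), (nat_lit 3), (nat_lit 3), (nat_lit 4), (nat_lit 3), (nat_lit 4), (nat_lit 0), (nat_lit 3), (nat_lit 4)],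
  [(nat_lit 1), (nat_lit 3), (nat_lit 3), (nat_lit 4), (nat_lit 3), (nat_lit 4), (nat_lit 3), (nat_lit 2), (nat_lit 4)],
  [(nat_lit 2), (nat_lit 3), (nat_lit 3), (nat_lit 4), (nat_lit 3), (nat_lit 4), (nat_lit 3), (nat_lit 2), (nat_lit 4)]]
noncomputable def KK2x_lN_h (c : ℕ) : ℕ := Nat.mod c (nat_lit 20032)
theorem KK2x_lN_E {G : Type*} [Group G] {R : ℕ → G → Prop} {s u v w e f z d2 d3 s2 s3 s0 : G} {H : Subgroup G}
    (M : Mdl KK2_o KK2x_cs KK2_L R [s, u, v, v⁻¹, w, w⁻¹, e, e⁻¹, f, f⁻¹, z, d2, d3, s2, s3, s0] H) :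
    EnumS R KK2x_lN (sp [w, e, f, v, s]) :=
  enumS_sp M.μ.1 (M.reps.tms M.μ.1 [(.v (nat_lit 4)), (.v (nat_lit 6)), (.v (nat_lit 8)), (.v (nat_lit 2)), (.v (nat_lit 0))] (cs' := [(nat_lit 0x876543021), (nat_lit 0x687354210), (nat_lit 0x768354210), (nat_lit 0x210876543), (nat_lit 0x876543120)]) (by decide +kernel))
    (Ws := KK2x_lN_W) (by decide +kernel) (by decide +kernel)
theorem KK2x_lN_c {G : Type*} [Group G] {R : ℕ → G → Prop} {s u v w e f z d2 d3 s2 s3 s0 : G} {H : Subgroup G}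
    (M : Mdl KK2_o KK2x_cs KK2_L R [s, u, v, v⁻¹, w, w⁻¹, e, e⁻¹, f, f⁻¹, z, d2, d3, s2, s3, s0] H) :
    #(sp [w, e, f, v, s]) = 648 :=
  (KK2x_lN_E M).card M.μ (h := KK2x_lN_h) (by decide +kernel)
noncomputable def KK1x_ed_F : Fm := (.qf (.and (.eq (.v (nat_lit 6)) (.mul (.v (nat_lit 11)) (.v (nat_lit 12)))) (.and (.eq (.v (nat_lit 8)) (.mul (.mul (.v (nat_lit 11)) (.v (nat_lit 12))) (.v (nat_lit 12)))) (.and (.eq (.v (nat_lit 10)) (.mul (.mul (.v (nat_lit 11)) (.v (nat_lit 12))) (.v (nat_lit 4)))) (.and (.eq (.v (nat_lit 11)) (.mul (.mul (.v (nat_lit 2)) (.v (nat_lit 4))) (.inv (.v (nat_lit 2))))) (.and (.eq (.v (nat_lit 12)) (.mul (.mul (.v (nat_lit 2)) (.v (nat_lit 11))) (.inv (.v (nat_lit 2))))) (.and (.eq (.v (nat_lit 15)) (.mul (.v (nat_lit 0)) (.mul (.v (nat_lit 13)) (.v (nat_lit 14))))) (.eq (.mul (.v (nat_lit 0)) (.v (nat_lit 15))) (.mul (.v (nat_lit 13)) (.v (nat_lit 14)))))))))))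
theorem KK1x_ed_chk : Fm.chk KK1_o KK1x_ed_F KK1x_cs = true := by decide +kernel
theorem KK1x_ed {G : Type*} [Group G] {R : ℕ → G → Prop} {s u v w e f z d2 d3 s2 s3 s0 : G} {H : Subgroup G}
    (M : Mdl KK1_o KK1x_cs KK1_L R [s, u, v, v⁻¹, w, w⁻¹, e, e⁻¹, f, f⁻¹, z, d2, d3, s2, s3, s0] H) :
    e = d2 * d3 ∧ f = d2 * d3 * d3 ∧ z = d2 * d3 * w ∧ d2 = v * w * v⁻¹ ∧ d3 = v * d2 * v⁻¹ ∧ s0 = s * (s2 * s3) ∧ s * s0 = s2 * s3 :=
  Fm.sound M.μ KK1x_ed_F KK1x_ed_chk M.reps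
noncomputable def KK2x_ed_F : Fm := (.qf (.and (.eq (.v (nat_lit 6)) (.mul (.v (nat_lit 11)) (.v (nat_lit 12)))) (.and (.eq (.v (nat_lit 8)) (.mul (.mul (.v (nat_lit 11)) (.v (nat_lit 12))) (.v (nat_lit 12)))) (.and (.eq (.v (nat_lit 10)) (.mul (.mul (.v (nat_lit 11)) (.v (nat_lit 12))) (.v (nat_lit 4)))) (.and (.eq (.v (nat_lit 11)) (.mul (.mul (.v (nat_lit 2)) (.v (nat_lit 4))) (.inv (.v (nat_lit 2))))) (.and (.eq (.v (nat_lit 12)) (.mul (.mul (.v (nat_lit 2)) (.v (nat_lit 11))) (.inv (.v (nat_lit 2))))) (.and (.eq (.v (nat_lit 15)) (.mul (.v (nat_lit 0)) (.mul (.v (nat_lit 13)) (.v (nat_lit 14))))) (.eq (.mul (.v (nat_lit 0)) (.v (nat_lit 15))) (.mul (.v (nat_lit 13)) (.v (nat_lit 14)))))))))))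
theorem KK2x_ed_chk : Fm.chk KK2_o KK2x_ed_F KK2x_cs = true := by decide +kernel
theorem KK2x_ed {G : Type*} [Group G] {R : ℕ → G → Prop} {s u v w e f z d2 d3 s2 s3 s0 : G} {H : Subgroup G}
    (M : Mdl KK2_o KK2x_cs KK2_L R [s, u, v, v⁻¹, w, w⁻¹, e, e⁻¹, f, f⁻¹, z, d2, d3, s2, s3, s0] H) :
    e = d2 * d3 ∧ f = d2 * d3 * d3 ∧ z = d2 * d3 * w ∧ d2 = v * w * v⁻¹ ∧ d3 = v * d2 * v⁻¹ ∧ s0 = s * (s2 * s3) ∧ s * s0 = s2 * s3 :=
  Fm.sound M.μ KK2x_ed_F KK2x_ed_chk M.reps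
noncomputable def KK1x_sm_F : Fm := (.qf (.and (.eq (.mul (.v (nat_lit 15)) (.v (nat_lit 15))) .one) (.and (.not (.eq (.v (nat_lit 15)) .one)) (.and (.eq (.mul (.v (nat_lit 15)) (.v (nat_lit 2))) (.mul (.v (nat_lit 2)) (.v (nat_lit 15)))) (.and (.eq (.mul (.mul (.v (nat_lit 15)) (.v (nat_lit 4))) (.inv (.v (nat_lit 15)))) (.inv (.v (nat_lit 4)))) (.and (.eq (.mul (.mul (.v (nat_lit 15)) (.v (nat_lit 6))) (.inv (.v (nat_lit 15)))) (.inv (.v (nat_lit 6)))) (.and (.eq (.mul (.mul (.v (nat_lit 15)) (.v (nat_lit 8))) (.inv (.v (nat_lit 15)))) (.inv (.v (nat_lit 8)))) (.and (.not (.eq (.v (nat_lit 11)) .one)) (.and (.not (.eq (.v (nat_lit 12)) .one)) (.and (.not (.eq (.v (nat_lit 10)) .one)) (.and (.not (.eq (.v (nat_lit 6)) .one)) (.and (.not (.eq (.v (nat_lit 8)) .one)) (.and (.not (.eq (.v (nat_lit 2)) .one)) (.and (.eq (.pw (.v (nat_lit 10)) (nat_lit 3)) .one) (.and (.eq (.mul (.mul (.v (nat_lit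 1)) (.v (nat_lit 0))) (.v (nat_lit 6))) (.mul (.v (nat_lit 6)) (.mul (.v (nat_lit 1)) (.v (nat_lit 0))))) (.and (.eq (.mul (.v (nat_lit 1)) (.v (nat_lit 10))) (.mul (.v (nat_lit 10)) (.v (nat_lit 1)))) (.eq (.mul (.mul (.v (nat_lit 13)) (.v (nat_lit 14))) (.v (nat_lit 4))) (.mul (.v (nat_lit 4)) (.mul (.v (nat_lit 13)) (.v (nat_lit 14)))))))))))))))))))))
theorem KK1x_sm_chk : Fm.chk KK1_o KK1x_sm_F KK1x_cs = true := by decide +kernel
theorem KK1x_sm {G : Type*} [Group G] {R : ℕ → G → Prop} {s u v w e f z d2 d3 s2 s3 s0 : G} {H : Subgroup G}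
    (M : Mdl KK1_o KK1x_cs KK1_L R [s, u, v, v⁻¹, w, w⁻¹, e, e⁻¹, f, f⁻¹, z, d2, d3, s2, s3, s0] H) :
    s0 * s0 = 1 ∧ s0 ≠ 1 ∧ s0 * v = v * s0 ∧ s0 * w * s0⁻¹ = w⁻¹ ∧ s0 * e * s0⁻¹ = e⁻¹ ∧ s0 * f * s0⁻¹ = f⁻¹ ∧ d2 ≠ 1 ∧ d3 ≠ 1 ∧ z ≠ 1 ∧ e ≠ 1 ∧ f ≠ 1 ∧ v ≠ 1 ∧ z ^ 3 = 1 ∧ u * s * e = e * (u * s) ∧ u * z = z * u ∧ s2 * s3 * w = w * (s2 * s3) :=
  Fm.sound M.μ KK1x_sm_F KK1x_sm_chk M.reps
noncomputable def KK2x_sm_F : Fm := (.qf (.and (.eq (.mul (.v (nat_lit 15)) (.v (nat_lit 15))) .one) (.and (.not (.eq (.v (nat_lit 15)) .one)) (.and (.eq (.mul (.v (nat_lit 15)) (.v (nat_lit 2))) (.mul (.v (nat_lit 2)) (.v (nat_lit 15)))) (.and (.eq (.mul (.mul (.v (nat_lit 15)) (.v (nat_lit 4))) (.inv (.v (nat_lit 15)))) (.inv (.v (nat_lit 4)))) (.and (.eq (.mul (.mul (.v (nat_lit 15)) (.v (nat_lit 6))) (.inv (.v (nat_lit 15)))) (.inv (.v (nat_lit 6)))) (.and (.eq (.mul (.mul (.v (nat_lit 15)) (.v (nat_lit 8)))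 (.inv (.v (nat_lit 15)))) (.inv (.v (nat_lit 8)))) (.and (.not (.eq (.v (nat_lit 11)) .one)) (.and (.not (.eq (.v (nat_lit 12)) .one)) (.and (.not (.eq (.v (nat_lit 10)) .one)) (.and (.not (.eq (.v (nat_lit 6)) .one)) (.and (.not (.eq (.v (nat_lit 8)) .one)) (.and (.not (.eq (.v (nat_lit 2)) .one)) (.and (.eq (.pw (.v (nat_lit 10)) (nat_lit 3)) .one) (.and (.eq (.mul (.mul (.v (nat_lit 1)) (.v (nat_lit 0))) (.v (nat_lit 6))) (.mul (.v (nat_lit 6)) (.mul (.v (nat_lit 1)) (.v (nat_lit 0))))) (.and (.eq (.mul (.v (nat_lit 1)) (.v (nat_lit 10))) (.mul (.v (nat_lit 10)) (.v (nat_lit 1)))) (.eq (.mul (.mul (.v (nat_lit 13)) (.v (nat_lit 14))) (.v (nat_lit 4))) (.mul (.v (nat_lit 4)) (.mul (.v (nat_lit 13)) (.v (nat_lit 14)))))))))))))))))))))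
theorem KK2x_sm_chk : Fm.chk KK2_o KK2x_sm_F KK2x_cs = true := by decide +kernel
theorem KK2x_sm {G : Type*} [Group G] {R : ℕ → G → Prop} {s u v w e f z d2 d3 s2 s3 s0 : G} {H : Subgroup G}
    (M : Mdl KK2_o KK2x_cs KK2_L R [s, u, v, v⁻¹, w, w⁻¹, e, e⁻¹, f, f⁻¹, z, d2, d3, s2, s3, s0] H) :
    s0 * s0 = 1 ∧ s0 ≠ 1 ∧ s0 * v = v * s0 ∧ s0 * w * s0⁻¹ = w⁻¹ ∧ s0 * e * s0⁻¹ = e⁻¹ ∧ s0 * f * s0⁻¹ = f⁻¹ ∧ d2 ≠ 1 ∧ d3 ≠ 1 ∧ z ≠ 1 ∧ e ≠ 1 ∧ f ≠ 1 ∧ v ≠ 1 ∧ z ^ 3 = 1 ∧ u * s * e = e * (u * s) ∧ u * z = z * u ∧ s2 * s3 * w = w * (s2 * s3) :=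
  Fm.sound M.μ KK2x_sm_F KK2x_sm_chk M.reps
noncomputable def KK1x_tr_f_F : Fm := (.qf (.and (.eq (.mul (.v (nat_lit 0)) (.v (nat_lit 0))) .one) (.and (.eq (.mul (.v (nat_lit 13)) (.v (nat_lit 13))) .one) (.and (.eq (.mul (.v (nat_lit 14)) (.v (nat_lit 14))) .one) (.and (.eq (.pw (.v (nat_lit 4)) (nat_lit 3)) .one) (.and (.eq (.pw (.v (nat_lit 11)) (nat_lit 3)) .one) (.and (.eq (.pw (.v (nat_lit 12)) (nat_lit 3)) .one) (.and (.eq (.mul (.v (nat_lit 0)) (.v (nat_lit 13))) (.mul (.v (nat_lit 13)) (.v (nat_lit 0)))) (.and (.eq (.mul (.v (nat_lit 0)) (.v (nat_lit 14))) (.mul (.v (nat_lit 14)) (.v (nat_lit 0)))) (.and (.eq (.mul (.v (nat_lit 13)) (.v (nat_lit 14))) (.mul (.v (nat_lit 14)) (.v (nat_lit 13)))) (.and (.eq (.mul (.v (nat_lit 4)) (.v (nat_lit 11))) (.mul (.v (nat_lit 11)) (.v (nat_lit 4)))) (.and (.eq (.mul (.v (nat_lit 4)) (.v (nat_lit 12))) (.mul (.v (nat_lit 12)) (.v (nat_lit 4)))) (.and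 (.eq (.mul (.v (nat_lit 11)) (.v (nat_lit 12))) (.mul (.v (nat_lit 12)) (.v (nat_lit 11)))) (.and (.eq (.mul (.mul (.v (nat_lit 0)) (.v (nat_lit 4))) (.inv (.v (nat_lit 0)))) (.inv (.v (nat_lit 4)))) (.and (.eq (.mul (.mul (.v (nat_lit 13)) (.v (nat_lit 11))) (.inv (.v (nat_lit 13)))) (.inv (.v (nat_lit 11)))) (.and (.eq (.mul (.mul (.v (nat_lit 14)) (.v (nat_lit 12))) (.inv (.v (nat_lit 14)))) (.inv (.v (nat_lit 12)))) (.and (.eq (.mul (.v (nat_lit 0)) (.v (nat_lit 11))) (.mul (.v (nat_lit 11)) (.v (nat_lit 0)))) (.and (.eq (.mul (.v (nat_lit 0)) (.v (nat_lit 12))) (.mul (.v (nat_lit 12)) (.v (nat_lit 0)))) (.and (.eq (.mul (.v (nat_lit 13)) (.v (nat_lit 4))) (.mul (.v (nat_lit 4)) (.v (nat_lit 13)))) (.and (.eq (.mul (.v (nat_lit 13)) (.v (nat_lit 12))) (.mul (.v (nat_lit 12)) (.v (nat_lit 13)))) (.and (.eq (.mul (.v (nat_lit 14)) (.v (nat_lit 4))) (.mul (.v (nat_lit 4)) (.v (nat_lit 14)))) (.eq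 (.mul (.v (nat_lit 14)) (.v (nat_lit 11))) (.mul (.v (nat_lit 11)) (.v (nat_lit 14)))))))))))))))))))))))))
theorem KK1x_tr_f_chk : Fm.chk KK1_o KK1x_tr_f_F KK1x_cs = true := by decide +kernel
theorem KK1x_tr_f {G : Type*} [Group G] {R : ℕ → G → Prop} {s u v w e f z d2 d3 s2 s3 s0 : G} {H : Subgroup G}
    (M : Mdl KK1_o KK1x_cs KK1_L R [s, u, v, v⁻¹, w, w⁻¹, e, e⁻¹, f, f⁻¹, z, d2, d3, s2, s3, s0] H) :
    s * s = 1 ∧ s2 * s2 = 1 ∧ s3 * s3 = 1 ∧ w ^ 3 = 1 ∧ d2 ^ 3 = 1 ∧ d3 ^ 3 = 1 ∧ s * s2 = s2 * s ∧ s * s3 = s3 * s ∧ s2 * s3 = s3 * s2 ∧ w * d2 = d2 * w ∧ w * d3 = d3 * w ∧ d2 * d3 = d3 * d2 ∧ s * w * s⁻¹ = w⁻¹ ∧ s2 * d2 * s2⁻¹ = d2⁻¹ ∧ s3 * d3 * s3⁻¹ = d3⁻¹ ∧ s * d2 = d2 * s ∧ s * d3 = d3 * s ∧ s2 * w = w * s2 ∧ s2 * d3 = d3 * s2 ∧ s3 * w = w * s3 ∧ s3 * d2 = d2 * s3 :=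
  Fm.sound M.μ KK1x_tr_f_F KK1x_tr_f_chk M.reps
theorem KK1x_tr {G : Type*} [Group G] {R : ℕ → G → Prop} {s u v w e f z d2 d3 s2 s3 s0 : G} {H : Subgroup G}
    (M : Mdl KK1_o KK1x_cs KK1_L R [s, u, v, v⁻¹, w, w⁻¹, e, e⁻¹, f, f⁻¹, z, d2, d3, s2, s3, s0] H) :
    TR s s2 s3 w d2 d3 :=
  have h := KK1x_tr_f M
  ⟨h.1, h.2.1, h.2.2.1, h.2.2.2.1, h.2.2.2.2.1, h.2.2.2.2.2.1, h.2.2.2.2.2.2.1, h.2.2.2.2.2.2.2.1, h.2.2.2.2.2.2.2.2.1, h.2.2.2.2.2.2.2.2.2.1, h.2.2.2.2.2.2.2.2.2.2.1, h.2.2.2.2.2.2.2.2.2.2.2.1, h.2.2.2.2.2.2.2.2.2.2.2.2.1, h.2.2.2.2.2.2.2.2.2.2.2.2.2.1, h.2.2.2.2.2.2.2.2.2.2.2.2.2.2.1, h.2.2.2.2.2.2.2.2.2.2.2.2.2.2.2.1, h.2.2.2.2.2.2.2.2.2.2.2.2.2.2.2.2.1, h.2.2.2.2.2.2.2.2.2.2.2.2.2.2.2.2.2.1, h.2.2.2.2.2.2.2.2.2.2.2.2.2.2.2.2.2.2.1, h.2.2.2.2.2.2.2.2.2.2.2.2.2.2.2.2.2.2.2.1, h.2.2.2.2.2.2.2.2.2.2.2.2.2.2.2.2.2.2.2.2, trivial⟩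
noncomputable def KK2x_tr_f_F : Fm := (.qf (.and (.eq (.mul (.v (nat_lit 0)) (.v (nat_lit 0))) .one) (.and (.eq (.mul (.v (nat_lit 13)) (.v (nat_lit 13))) .one) (.and (.eq (.mul (.v (nat_lit 14)) (.v (nat_lit 14))) .one) (.and (.eq (.pw (.v (nat_lit 4)) (nat_lit 3)) .one) (.and (.eq (.pw (.v (nat_lit 11)) (nat_lit 3)) .one) (.and (.eq (.pw (.v (nat_lit 12)) (nat_lit 3)) .one) (.and (.eq (.mul (.v (nat_lit 0)) (.v (nat_lit 13))) (.mul (.v (nat_lit 13)) (.v (nat_lit 0)))) (.and (.eq (.mul (.v (nat_lit 0)) (.v (nat_lit 14))) (.mul (.v (nat_lit 14)) (.v (nat_lit 0)))) (.and (.eq (.mul (.v (nat_lit 13)) (.v (nat_lit 14))) (.mul (.v (nat_lit 14)) (.v (nat_lit 13)))) (.and (.eq (.mul (.v (nat_lit 4)) (.v (nat_lit 11))) (.mul (.v (nat_lit 11)) (.v (nat_lit 4)))) (.and (.eq (.mul (.v (nat_lit 4)) (.v (nat_lit 12))) (.mul (.v (nat_lit 12)) (.v (nat_lit 4)))) (.and (.eq (.mul (.v (nat_lit 11)) (.v (nat_lit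 12))) (.mul (.v (nat_lit 12)) (.v (nat_lit 11)))) (.and (.eq (.mul (.mul (.v (nat_lit 0)) (.v (nat_lit 4))) (.inv (.v (nat_lit 0)))) (.inv (.v (nat_lit 4)))) (.and (.eq (.mul (.mul (.v (nat_lit 13)) (.v (nat_lit 11))) (.inv (.v (nat_lit 13)))) (.inv (.v (nat_lit 11)))) (.and (.eq (.mul (.mul (.v (nat_lit 14)) (.v (nat_lit 12))) (.inv (.v (nat_lit 14)))) (.inv (.v (nat_lit 12)))) (.and (.eq (.mul (.v (nat_lit 0)) (.v (nat_lit 11))) (.mul (.v (nat_lit 11)) (.v (nat_lit 0)))) (.and (.eq (.mul (.v (nat_lit 0)) (.v (nat_lit 12))) (.mul (.v (nat_lit 12)) (.v (nat_lit 0)))) (.and (.eq (.mul (.v (nat_lit 13)) (.v (nat_lit 4))) (.mul (.v (nat_lit 4)) (.v (nat_lit 13)))) (.and (.eq (.mul (.v (nat_lit 13)) (.v (nat_lit 12))) (.mul (.v (nat_lit 12)) (.v (nat_lit 13)))) (.and (.eq (.mul (.v (nat_lit 14)) (.v (nat_lit 4))) (.mul (.v (nat_lit 4)) (.v (nat_lit 14)))) (.eq (.mul (.v (nat_lit 14)) (.v (nat_lit 11)))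 (.mul (.v (nat_lit 11)) (.v (nat_lit 14)))))))))))))))))))))))))
theorem KK2x_tr_f_chk : Fm.chk KK2_o KK2x_tr_f_F KK2x_cs = true := by decide +kernel
theorem KK2x_tr_f {G : Type*} [Group G] {R : ℕ → G → Prop} {s u v w e f z d2 d3 s2 s3 s0 : G} {H : Subgroup G}
    (M : Mdl KK2_o KK2x_cs KK2_L R [s, u, v, v⁻¹, w, w⁻¹, e, e⁻¹, f, f⁻¹, z, d2, d3, s2, s3, s0] H) :
    s * s = 1 ∧ s2 * s2 = 1 ∧ s3 * s3 = 1 ∧ w ^ 3 = 1 ∧ d2 ^ 3 = 1 ∧ d3 ^ 3 = 1 ∧ s * s2 = s2 * s ∧ s * s3 = s3 * s ∧ s2 * s3 = s3 * s2 ∧ w * d2 = d2 * w ∧ w * d3 = d3 * w ∧ d2 * d3 = d3 * d2 ∧ s * w * s⁻¹ = w⁻¹ ∧ s2 * d2 * s2⁻¹ = d2⁻¹ ∧ s3 * d3 * s3⁻¹ = d3⁻¹ ∧ s * d2 = d2 * s ∧ s * d3 = d3 * s ∧ s2 * w = w * s2 ∧ s2 * d3 = d3 * s2 ∧ s3 * w = w * s3 ∧ s3 * d2 = d2 * s3 :=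
  Fm.sound M.μ KK2x_tr_f_F KK2x_tr_f_chk M.reps
theorem KK2x_tr {G : Type*} [Group G] {R : ℕ → G → Prop} {s u v w e f z d2 d3 s2 s3 s0 : G} {H : Subgroup G}
    (M : Mdl KK2_o KK2x_cs KK2_L R [s, u, v, v⁻¹, w, w⁻¹, e, e⁻¹, f, f⁻¹, z, d2, d3, s2, s3, s0] H) :
    TR s s2 s3 w d2 d3 :=
  have h := KK2x_tr_f M
  ⟨h.1, h.2.1, h.2.2.1, h.2.2.2.1, h.2.2.2.2.1, h.2.2.2.2.2.1, h.2.2.2.2.2.2.1, h.2.2.2.2.2.2.2.1, h.2.2.2.2.2.2.2.2.1, h.2.2.2.2.2.2.2.2.2.1, h.2.2.2.2.2.2.2.2.2.2.1, h.2.2.2.2.2.2.2.2.2.2.2.1, h.2.2.2.2.2.2.2.2.2.2.2.2.1, h.2.2.2.2.2.2.2.2.2.2.2.2.2.1, h.2.2.2.2.2.2.2.2.2.2.2.2.2.2.1, h.2.2.2.2.2.2.2.2.2.2.2.2.2.2.2.1, h.2.2.2.2.2.2.2.2.2.2.2.2.2.2.2.2.1, h.2.2.2.2.2.2.2.2.2.2.2.2.2.2.2.2.2.1, h.2.2.2.2.2.2.2.2.2.2.2.2.2.2.2.2.2.2.1, h.2.2.2.2.2.2.2.2.2.2.2.2.2.2.2.2.2.2.2.1, h.2.2.2.2.2.2.2.2.2.2.2.2.2.2.2.2.2.2.2.2, trivial⟩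
noncomputable def KK2x_b1_f_F : Fm := (.qf (.and (.eq (.pw (.v (nat_lit 11)) (nat_lit 3)) .one) (.and (.eq (.pw (.v (nat_lit 12)) (nat_lit 3)) .one) (.and (.eq (.pw (.v (nat_lit 4)) (nat_lit 3)) .one) (.and (.eq (.mul (.v (nat_lit 11)) (.v (nat_lit 12))) (.mul (.v (nat_lit 12)) (.v (nat_lit 11)))) (.and (.eq (.mul (.v (nat_lit 11)) (.v (nat_lit 4))) (.mul (.v (nat_lit 4)) (.v (nat_lit 11)))) (.and (.eq (.mul (.v (nat_lit 12)) (.v (nat_lit 4))) (.mul (.v (nat_lit 4)) (.v (nat_lit 12)))) (.and (.eq (.pw (.v (nat_lit 2)) (nat_lit 3)) .one) (.and (.eq (.mul (.mul (.v (nat_lit 2)) (.v (nat_lit 4))) (.inv (.v (nat_lit 2)))) (.v (nat_lit 11))) (.and (.eq (.mul (.mul (.v (nat_lit 2)) (.v (nat_lit 11))) (.inv (.v (nat_lit 2)))) (.v (nat_lit 12))) (.and (.eq (.mul (.mul (.v (nat_lit 2)) (.v (nat_lit 12))) (.inv (.v (nat_lit 2)))) (.v (nat_lit 4))) (.and (.eq (.mul (.v (nat_lit 1)) (.v (nat_lit 1))) .one)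 (.and (.eq (.mul (.mul (.v (nat_lit 1)) (.v (nat_lit 2))) (.inv (.v (nat_lit 1)))) (.inv (.v (nat_lit 2)))) (.and (.eq (.mul (.v (nat_lit 1)) (.v (nat_lit 4))) (.mul (.v (nat_lit 4)) (.v (nat_lit 1)))) (.eq (.mul (.mul (.v (nat_lit 1)) (.v (nat_lit 11))) (.inv (.v (nat_lit 1)))) (.v (nat_lit 12)))))))))))))))))
theorem KK2x_b1_f_chk : Fm.chk KK2_o KK2x_b1_f_F KK2x_cs = true := by decide +kernel
theorem KK2x_b1_f {G : Type*} [Group G] {R : ℕ → G → Prop} {s u v w e f z d2 d3 s2 s3 s0 : G} {H : Subgroup G}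
    (M : Mdl KK2_o KK2x_cs KK2_L R [s, u, v, v⁻¹, w, w⁻¹, e, e⁻¹, f, f⁻¹, z, d2, d3, s2, s3, s0] H) :
    d2 ^ 3 = 1 ∧ d3 ^ 3 = 1 ∧ w ^ 3 = 1 ∧ d2 * d3 = d3 * d2 ∧ d2 * w = w * d2 ∧ d3 * w = w * d3 ∧ v ^ 3 = 1 ∧ v * w * v⁻¹ = d2 ∧ v * d2 * v⁻¹ = d3 ∧ v * d3 * v⁻¹ = w ∧ u * u = 1 ∧ u * v * u⁻¹ = v⁻¹ ∧ u * w = w * u ∧ u * d2 * u⁻¹ = d3 :=
  Fm.sound M.μ KK2x_b1_f_F KK2x_b1_f_chk M.reps
theorem KK2x_b1 {G : Type*} [Group G] {R : ℕ → G → Prop} {s u v w e f z d2 d3 s2 s3 s0 : G} {H : Subgroup G}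
    (M : Mdl KK2_o KK2x_cs KK2_L R [s, u, v, v⁻¹, w, w⁻¹, e, e⁻¹, f, f⁻¹, z, d2, d3, s2, s3, s0] H) :
    B1 d2 d3 w v u :=
  have h := KK2x_b1_f M
  ⟨h.1, h.2.1, h.2.2.1, h.2.2.2.1, h.2.2.2.2.1, h.2.2.2.2.2.1, h.2.2.2.2.2.2.1, h.2.2.2.2.2.2.2.1, h.2.2.2.2.2.2.2.2.1, h.2.2.2.2.2.2.2.2.2.1, h.2.2.2.2.2.2.2.2.2.2.1, h.2.2.2.2.2.2.2.2.2.2.2.1, h.2.2.2.2.2.2.2.2.2.2.2.2.1, h.2.2.2.2.2.2.2.2.2.2.2.2.2, trivial⟩
noncomputable def KK1x_dd_F : Fm := (.allS KK1x_lD (.qf (.and (.eq (.pw (.v (nat_lit 0)) (nat_lit 3)) .one) (.and (.eq (.mul (.v (nat_lit 0)) (.v (nat_lit 5))) (.mul (.v (nat_lit 5)) (.v (nat_lit 0)))) (.and (.eq (.mul (.v (nat_lit 0)) (.v (nat_lit 7))) (.mul (.v (nat_lit 7)) (.v (nat_lit 0)))) (.eq (.mul (.v (nat_lit 0)) (.v (nat_lit 9))) (.mul (.v (nat_lit 9)) (.v (nat_lit 0)))))))))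
theorem KK1x_dd_chk : Fm.chk KK1_o KK1x_dd_F KK1x_cs = true := by decide +kernel
theorem KK1x_dd {G : Type*} [Group G] {R : ℕ → G → Prop} {s u v w e f z d2 d3 s2 s3 s0 : G} {H : Subgroup G}
    (M : Mdl KK1_o KK1x_cs KK1_L R [s, u, v, v⁻¹, w, w⁻¹, e, e⁻¹, f, f⁻¹, z, d2, d3, s2, s3, s0] H) :
    ∀ d ∈ sp [w, e, f], d ^ 3 = 1 ∧ d * w = w * d ∧ d * e = e * d ∧ d * f = f * d :=
  have h : ∀ d, InS R KK1x_lD d → d ^ 3 = 1 ∧ d * w = w * d ∧ d * e = e * d ∧ d * f = f * d :=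
    Fm.sound M.μ KK1x_dd_F KK1x_dd_chk M.reps
  (fun d h0 => (h d ((KK1x_lD_E M).iff.2 h0)))
noncomputable def KK2x_dd_F : Fm := (.allS KK2x_lD (.qf (.and (.eq (.pw (.v (nat_lit 0)) (nat_lit 3)) .one) (.and (.eq (.mul (.v (nat_lit 0)) (.v (nat_lit 5))) (.mul (.v (nat_lit 5)) (.v (nat_lit 0)))) (.and (.eq (.mul (.v (nat_lit 0)) (.v (nat_lit 7))) (.mul (.v (nat_lit 7)) (.v (nat_lit 0)))) (.eq (.mul (.v (nat_lit 0)) (.v (nat_lit 9))) (.mul (.v (nat_lit 9)) (.v (nat_lit 0)))))))))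
theorem KK2x_dd_chk : Fm.chk KK2_o KK2x_dd_F KK2x_cs = true := by decide +kernel
theorem KK2x_dd {G : Type*} [Group G] {R : ℕ → G → Prop} {s u v w e f z d2 d3 s2 s3 s0 : G} {H : Subgroup G}
    (M : Mdl KK2_o KK2x_cs KK2_L R [s, u, v, v⁻¹, w, w⁻¹, e, e⁻¹, f, f⁻¹, z, d2, d3, s2, s3, s0] H) :
    ∀ d ∈ sp [w, e, f], d ^ 3 = 1 ∧ d * w = w * d ∧ d * e = e * d ∧ d * f = f * d :=
  have h : ∀ d, InS R KK2x_lD d → d ^ 3 = 1 ∧ d * w = w * d ∧ d * e = e * d ∧ d * f = f * d :=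
    Fm.sound M.μ KK2x_dd_F KK2x_dd_chk M.reps
  (fun d h0 => (h d ((KK2x_lD_E M).iff.2 h0)))
noncomputable def KK1x_nD_F : Fm := (.all KK1_L (.and (.qf (.mem (.mul (.mul (.v (nat_lit 0)) (.v (nat_lit 5))) (.inv (.v (nat_lit 0)))) KK1x_lD)) (.and (.qf (.mem (.mul (.mul (.v (nat_lit 0)) (.v (nat_lit 7))) (.inv (.v (nat_lit 0)))) KK1x_lD)) (.and (.qf (.mem (.mul (.mul (.v (nat_lit 0)) (.v (nat_lit 9))) (.inv (.v (nat_lit 0)))) KK1x_lD)) (.and (.imp (.eq (.mul (.v (nat_lit 0)) (.v (nat_lit 5))) (.mul (.v (nat_lit 5)) (.v (nat_lit 0)))) (.imp (.eq (.mul (.v (nat_lit 0)) (.v (nat_lit 7))) (.mul (.v (nat_lit 7)) (.v (nat_lit 0)))) (.imp (.eq (.mul (.v (nat_lit 0)) (.v (nat_lit 9))) (.mul (.v (nat_lit 9)) (.v (nat_lit 0)))) (.qf (.mem (.v (nat_lit 0)) KK1x_lD))))) (.and (.imp (.mem (.mul (.mul (.v (nat_lit 0)) (.v (nat_lit 3))) (.inv (.v (nat_lit 0)))) KK1x_lS) (.qf (.mem (.pw (.v (nat_lit 0)) (nat_lit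 4)) KK1x_lS))) (.imp (.eq (.mul (.v (nat_lit 0)) (.v (nat_lit 11))) (.mul (.v (nat_lit 11)) (.v (nat_lit 0)))) (.qf (.mem (.v (nat_lit 0)) KK1x_lB)))))))))
theorem KK1x_nD_chk : Fm.chk KK1_o KK1x_nD_F KK1x_cs = true := by decide +kernel
theorem KK1x_nD {G : Type*} [Group G] {R : ℕ → G → Prop} {s u v w e f z d2 d3 s2 s3 s0 : G} {H : Subgroup G}
    (M : Mdl KK1_o KK1x_cs KK1_L R [s, u, v, v⁻¹, w, w⁻¹, e, e⁻¹, f, f⁻¹, z, d2, d3, s2, s3, s0] H) :
    ∀ k ∈ H, k * w * k⁻¹ ∈ sp [w, e, f] ∧ k * e * k⁻¹ ∈ sp [w, e, f] ∧ k * f * k⁻¹ ∈ sp [w, e, f] ∧ (k * w = w * k → k * e = e * k → k * f = f * k → k ∈ sp [w, e, f]) ∧ (k * v * k⁻¹ ∈ sp [w, e, f, v] → k ^ 4 ∈ sp [w, e, f, v]) ∧ (k * z = z * k → k ∈ sp [u, d2, d3, w, v]) :=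
  have h : ∀ k, InL KK1_o R KK1_L k → InS R KK1x_lD (k * w * k⁻¹) ∧ InS R KK1x_lD (k * e * k⁻¹) ∧ InS R KK1x_lD (k * f * k⁻¹) ∧ (k * w = w * k → k * e = e * k → k * f = f * k → InS R KK1x_lD (k)) ∧ (InS R KK1x_lS (k * v * k⁻¹) → InS R KK1x_lS (k ^ 4)) ∧ (k * z = z * k → InS R KK1x_lB (k)) :=
    Fm.sound M.μ KK1x_nD_F KK1x_nD_chk M.reps
  (fun k h0 => (And.imp (fun h1 => ((KK1x_lD_E M).iff.1 h1)) (fun h1 => (And.imp (fun h2 => ((KK1x_lD_E M).iff.1 h2)) (fun h2 => (And.imp (fun h3 => ((KK1x_lD_E M).iff.1 h3)) (fun h3 => (And.imp (fun h4 => (fun h5 => (fun h6 => (fun h7 => ((KK1x_lD_E M).iff.1 (((h4 h5) h6) h7)))))) (fun h4 => (And.imp (fun h5 => (fun h6 => ((KK1x_lS_E M).iff.1 (h5 ((KK1x_lS_E M).iff.2 h6))))) (fun h5 => (fun h6 => ((KK1x_lB_E M).iff.1 (h5 h6)))) h4)) h3)) h2)) h1)) (h k (M.H.iff.2 h0))))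
noncomputable def KK2x_nD_F : Fm := (.all KK2_L (.and (.qf (.mem (.mul (.mul (.v (nat_lit 0)) (.v (nat_lit 5))) (.inv (.v (nat_lit 0)))) KK2x_lD)) (.and (.qf (.mem (.mul (.mul (.v (nat_lit 0)) (.v (nat_lit 7))) (.inv (.v (nat_lit 0)))) KK2x_lD)) (.and (.qf (.mem (.mul (.mul (.v (nat_lit 0)) (.v (nat_lit 9))) (.inv (.v (nat_lit 0)))) KK2x_lD)) (.and (.imp (.eq (.mul (.v (nat_lit 0)) (.v (nat_lit 5))) (.mul (.v (nat_lit 5)) (.v (nat_lit 0)))) (.imp (.eq (.mul (.v (nat_lit 0)) (.v (nat_lit 7))) (.mul (.v (nat_lit 7)) (.v (nat_lit 0)))) (.imp (.eq (.mul (.v (nat_lit 0)) (.v (nat_lit 9))) (.mul (.v (nat_lit 9)) (.v (nat_lit 0)))) (.qf (.mem (.v (nat_lit 0)) KK2x_lD))))) (.and (.imp (.mem (.mul (.mul (.v (nat_lit 0)) (.v (nat_lit 3))) (.inv (.v (nat_lit 0)))) KK2x_lS) (.qf (.mem (.pw (.v (nat_lit 0)) (nat_lit 4)) KK2x_lS))) (.imp (.eq (.mul (.v (nat_lit 0)) (.v (nat_lit 11))) (.mul (.v (nat_lit 11))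 (.v (nat_lit 0)))) (.qf (.mem (.v (nat_lit 0)) KK2x_lB)))))))))
theorem KK2x_nD_chk : Fm.chk KK2_o KK2x_nD_F KK2x_cs = true := by decide +kernel
theorem KK2x_nD {G : Type*} [Group G] {R : ℕ → G → Prop} {s u v w e f z d2 d3 s2 s3 s0 : G} {H : Subgroup G}
    (M : Mdl KK2_o KK2x_cs KK2_L R [s, u, v, v⁻¹, w, w⁻¹, e, e⁻¹, f, f⁻¹, z, d2, d3, s2, s3, s0] H) :
    ∀ k ∈ H, k * w * k⁻¹ ∈ sp [w, e, f] ∧ k * e * k⁻¹ ∈ sp [w, e, f] ∧ k * f * k⁻¹ ∈ sp [w, e, f] ∧ (k * w = w * k → k * e = e * k → k * f = f * k → k ∈ sp [w, e, f]) ∧ (k * v * k⁻¹ ∈ sp [w, e, f, v] → k ^ 4 ∈ sp [w, e, f, v]) ∧ (k * z = z * k → k ∈ sp [u, d2, d3, w, v]) :=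
  have h : ∀ k, InL KK2_o R KK2_L k → InS R KK2x_lD (k * w * k⁻¹) ∧ InS R KK2x_lD (k * e * k⁻¹) ∧ InS R KK2x_lD (k * f * k⁻¹) ∧ (k * w = w * k → k * e = e * k → k * f = f * k → InS R KK2x_lD (k)) ∧ (InS R KK2x_lS (k * v * k⁻¹) → InS R KK2x_lS (k ^ 4)) ∧ (k * z = z * k → InS R KK2x_lB (k)) :=
    Fm.sound M.μ KK2x_nD_F KK2x_nD_chk M.reps
  (fun k h0 => (And.imp (fun h1 => ((KK2x_lD_E M).iff.1 h1)) (fun h1 => (And.imp (fun h2 => ((KK2x_lD_E M).iff.1 h2)) (fun h2 => (And.imp (fun h3 => ((KK2x_lD_E M).iff.1 h3)) (fun h3 => (And.imp (fun h4 => (fun h5 => (fun h6 => (fun h7 => ((KK2x_lD_E M).iff.1 (((h4 h5) h6) h7)))))) (fun h4 => (And.imp (fun h5 => (fun h6 => ((KK2x_lS_E M).iff.1 (h5 ((KK2x_lS_E M).iff.2 h6))))) (fun h5 => (fun h6 => ((KK2x_lB_E M).iff.1 (h5 h6)))) h4)) h3)) h2)) h1)) (h k (M.H.iff.2 h0))))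
noncomputable def KK1x_sS_t0 : ST := (.node (nat_lit 32) (.node (nat_lit 13) (.node (nat_lit 4) (.node (nat_lit 1) (.leaf (nat_lit 9)) (.leaf (nat_lit 8))) (.node (nat_lit 5) (.leaf (nat_lit 1)) (.leaf (nat_lit 9)))) (.node (nat_lit 26) (.node (nat_lit 17) (.leaf (nat_lit 2)) (.leaf (nat_lit 6))) (.node (nat_lit 27) (.leaf (nat_lit 0)) (.leaf (nat_lit 3))))) (.node (nat_lit 48) (.node (nat_lit 45) (.node (nat_lit 39) (.leaf (nat_lit 16)) (.leaf (nat_lit 1))) (.node (nat_lit 46) (.leaf (nat_lit 3)) (.leaf (nat_lit 6)))) (.node (nat_lit 54) (.node (nat_lit 49) (.leaf (nat_lit 0)) (.leaf (nat_lit 8))) (.node (nat_lit 61) (.leaf (nat_lit 14)) (.node (nat_lit 62) (.leaf (nat_lit 16)) (.leaf (nat_lit 2)))))))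
noncomputable def KK1x_sS_F : Fm := (.allS KK1x_lS (.and (.or (.qf (.mem (.v (nat_lit 0)) KK1x_lD)) (.allS KK1x_lD (.imp (.eq (.mul (.v (nat_lit 0)) (.v (nat_lit 1))) (.mul (.v (nat_lit 1)) (.v (nat_lit 0)))) (.qf (.or (.eq (.v (nat_lit 0)) .one) (.or (.eq (.v (nat_lit 0)) (.v (nat_lit 12))) (.eq (.v (nat_lit 0)) (.inv (.v (nat_lit 12)))))))))) (.imp (.eq (.pw (.v (nat_lit 0)) (nat_lit 3)) .one) (.or (.qf (.mem (.v (nat_lit 0)) KK1x_lD)) (.exG KK1x_lD (fun cs => KK1x_sS_t0.find (Nat.mod (nth (nat_lit 0) cs (nat_lit 0)) (nat_lit 67))) (.qf (.or (.eq (.mul (.mul (.v (nat_lit 0)) (.v (nat_lit 1))) (.inv (.v (nat_lit 0)))) (.v (nat_lit 4))) (.eq (.mul (.mul (.v (nat_lit 0)) (.v (nat_lit 1))) (.inv (.v (nat_lit 0)))) (.inv (.v (nat_lit 4)))))))))))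
theorem KK1x_sS_chk : Fm.chk KK1_o KK1x_sS_F KK1x_cs = true := by decide +kernel
theorem KK1x_sS {G : Type*} [Group G] {R : ℕ → G → Prop} {s u v w e f z d2 d3 s2 s3 s0 : G} {H : Subgroup G}
    (M : Mdl KK1_o KK1x_cs KK1_L R [s, u, v, v⁻¹, w, w⁻¹, e, e⁻¹, f, f⁻¹, z, d2, d3, s2, s3, s0] H) :
    ∀ k ∈ sp [w, e, f, v], (k ∈ sp [w, e, f] ∨ (∀ d ∈ sp [w, e, f], d * k = k * d → d = 1 ∨ d = z ∨ d = z⁻¹)) ∧ (k ^ 3 = 1 → k ∈ sp [w, e, f] ∨ (∃ m ∈ sp [w, e, f], m * k * m⁻¹ = v ∨ m * k * m⁻¹ = v⁻¹)) :=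
  have h : ∀ k, InS R KK1x_lS k → (InS R KK1x_lD (k) ∨ (∀ d, InS R KK1x_lD d → d * k = k * d → d = 1 ∨ d = z ∨ d = z⁻¹)) ∧ (k ^ 3 = 1 → InS R KK1x_lD (k) ∨ (GoodS R KK1x_lD → KK1x_lD ≠ [] → ∃ m, InS R KK1x_lD m ∧ (m * k * m⁻¹ = v ∨ m * k * m⁻¹ = v⁻¹))) :=
    Fm.sound M.μ KK1x_sS_F KK1x_sS_chk M.reps
  (fun k h0 => (And.imp (fun h1 => (Or.imp (fun h2 => ((KK1x_lD_E M).iff.1 h2)) (fun h2 => (fun d h3 => (h2 d ((KK1x_lD_E M).iff.2 h3)))) h1)) (fun h1 => (fun h2 => (Or.imp (fun h3 => ((KK1x_lD_E M).iff.1 h3)) (fun h3 => (Exists.imp (fun m h4 => ⟨(KK1x_lD_E M).iff.1 h4.1, h4.2⟩) (h3 (KK1x_lD_E M).good (KK1x_lD_E M).ne))) (h1 h2)))) (h k ((KK1x_lS_E M).iff.2 h0))))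
noncomputable def KK2x_sS_t0 : ST := (.node (nat_lit 80) (.node (nat_lit 23) (.node (nat_lit 14) (.node (nat_lit 11) (.leaf (nat_lit 8)) (.leaf (nat_lit 6))) (.node (nat_lit 19) (.leaf (nat_lit 14)) (.leaf (nat_lit 16)))) (.node (nat_lit 48) (.node (nat_lit 28) (.leaf (nat_lit 1)) (.leaf (nat_lit 8))) (.node (nat_lit 53) (.leaf (nat_lit 2)) (.node (nat_lit 78) (.leaf (nat_lit 14)) (.leaf (nat_lit 0)))))) (.node (nat_lit 100) (.node (nat_lit 85) (.node (nat_lit 83) (.leaf (nat_lit 9)) (.leaf (nat_lit 0))) (.node (nat_lit 95) (.leaf (nat_lit 3)) (.leaf (nat_lit 16)))) (.node (nat_lit 117) (.node (nat_lit 112) (.leaf (nat_lit 1)) (.leaf (nat_lit 6))) (.node (nat_lit 127) (.leaf (nat_lit 2)) (.node (nat_lit 132) (.leaf (nat_lit 3)) (.leaf (nat_lit 9)))))))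
noncomputable def KK2x_sS_F : Fm := (.allS KK2x_lS (.and (.or (.qf (.mem (.v (nat_lit 0)) KK2x_lD)) (.allS KK2x_lD (.imp (.eq (.mul (.v (nat_lit 0)) (.v (nat_lit 1))) (.mul (.v (nat_lit 1)) (.v (nat_lit 0)))) (.qf (.or (.eq (.v (nat_lit 0)) .one) (.or (.eq (.v (nat_lit 0)) (.v (nat_lit 12))) (.eq (.v (nat_lit 0)) (.inv (.v (nat_lit 12)))))))))) (.imp (.eq (.pw (.v (nat_lit 0)) (nat_lit 3)) .one) (.or (.qf (.mem (.v (nat_lit 0)) KK2x_lD)) (.exG KK2x_lD (fun cs => KK2x_sS_t0.find (Nat.mod (nth (nat_lit 0) cs (nat_lit 0)) (nat_lit 136))) (.qf (.or (.eq (.mul (.mul (.v (nat_lit 0)) (.v (nat_lit 1))) (.inv (.v (nat_lit 0)))) (.v (nat_lit 4))) (.eq (.mul (.mul (.v (nat_lit 0)) (.v (nat_lit 1))) (.inv (.v (nat_lit 0)))) (.inv (.v (nat_lit 4)))))))))))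
theorem KK2x_sS_chk : Fm.chk KK2_o KK2x_sS_F KK2x_cs = true := by decide +kernel
theorem KK2x_sS {G : Type*} [Group G] {R : ℕ → G → Prop} {s u v w e f z d2 d3 s2 s3 s0 : G} {H : Subgroup G}
    (M : Mdl KK2_o KK2x_cs KK2_L R [s, u, v, v⁻¹, w, w⁻¹, e, e⁻¹, f, f⁻¹, z, d2, d3, s2, s3, s0] H) :
    ∀ k ∈ sp [w, e, f, v], (k ∈ sp [w, e, f] ∨ (∀ d ∈ sp [w, e, f], d * k = k * d → d = 1 ∨ d = z ∨ d = z⁻¹)) ∧ (k ^ 3 = 1 → k ∈ sp [w, e, f] ∨ (∃ m ∈ sp [w, e, f], m * k * m⁻¹ = v ∨ m * k * m⁻¹ = v⁻¹)) :=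
  have h : ∀ k, InS R KK2x_lS k → (InS R KK2x_lD (k) ∨ (∀ d, InS R KK2x_lD d → d * k = k * d → d = 1 ∨ d = z ∨ d = z⁻¹)) ∧ (k ^ 3 = 1 → InS R KK2x_lD (k) ∨ (GoodS R KK2x_lD → KK2x_lD ≠ [] → ∃ m, InS R KK2x_lD m ∧ (m * k * m⁻¹ = v ∨ m * k * m⁻¹ = v⁻¹))) :=
    Fm.sound M.μ KK2x_sS_F KK2x_sS_chk M.reps
  (fun k h0 => (And.imp (fun h1 => (Or.imp (fun h2 => ((KK2x_lD_E M).iff.1 h2)) (fun h2 => (fun d h3 => (h2 d ((KK2x_lD_E M).iff.2 h3)))) h1)) (fun h1 => (fun h2 => (Or.imp (fun h3 => ((KK2x_lD_E M).iff.1 h3)) (fun h3 => (Exists.imp (fun m h4 => ⟨(KK2x_lD_E M).iff.1 h4.1, h4.2⟩) (h3 (KK2x_lD_E M).good (KK2x_lD_E M).ne))) (h1 h2)))) (h k ((KK2x_lS_E M).iff.2 h0))))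
noncomputable def KK1x_irr_t0 : ST := (.node (nat_lit 28) (.node (nat_lit 16) (.node (nat_lit 8) (.node (nat_lit 3) (.leaf (nat_lit 0)) (.leaf (nat_lit 81))) (.node (nat_lit 14) (.leaf (nat_lit 1)) (.leaf (nat_lit 0)))) (.node (nat_lit 19) (.node (nat_lit 18) (.leaf (nat_lit 325)) (.leaf (nat_lit 1))) (.node (nat_lit 22) (.leaf (nat_lit 81)) (.node (nat_lit 27) (.leaf (nat_lit 0)) (.leaf (nat_lit 81)))))) (.node (nat_lit 39) (.node (nat_lit 30) (.node (nat_lit 29) (.leaf (nat_lit 325)) (.leaf (nat_lit 81))) (.node (nat_lit 34) (.leaf (nat_lit 2)) (.node (nat_lit 38) (.leaf (nat_lit 0)) (.leaf (nat_lit 325))))) (.node (nat_lit 41) (.node (nat_lit 40) (.leaf (nat_lit 81)) (.leaf (nat_lit 164))) (.node (nat_lit 42) (.leaf (nat_lit 81)) (.node (nat_lit 44) (.leaf (nat_lit 1)) (.leaf (nat_lit 0)))))))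
noncomputable def KK1x_irr_F : Fm := (.allS KK1x_lD (.or (.qf (.eq (.v (nat_lit 0)) .one)) (.exF KK1_L (fun cs => KK1x_irr_t0.find (Nat.mod (nth (nat_lit 0) cs (nat_lit 0)) (nat_lit 46))) (.qf (.eq (.mul (.mul (.mul (.mul (.mul (.v (nat_lit 0)) (.v (nat_lit 1))) (.inv (.v (nat_lit 0)))) (.v (nat_lit 2))) (.inv (.mul (.mul (.v (nat_lit 0)) (.v (nat_lit 1))) (.inv (.v (nat_lit 0)))))) (.inv (.v (nat_lit 2)))) (.v (nat_lit 6)))))))
theorem KK1x_irr_chk : Fm.chk KK1_o KK1x_irr_F KK1x_cs = true := by decide +kernel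
theorem KK1x_irr {G : Type*} [Group G] {R : ℕ → G → Prop} {s u v w e f z d2 d3 s2 s3 s0 : G} {H : Subgroup G}
    (M : Mdl KK1_o KK1x_cs KK1_L R [s, u, v, v⁻¹, w, w⁻¹, e, e⁻¹, f, f⁻¹, z, d2, d3, s2, s3, s0] H) :
    ∀ d ∈ sp [w, e, f], d = 1 ∨ (∃ k ∈ H, ⁅k * d * k⁻¹, s⁆ = w) :=
  have h : ∀ d, InS R KK1x_lD d → d = 1 ∨ (Good KK1_o R KK1_L → prods KK1_o KK1_L KK1_o.one ≠ [] → ∃ k, InL KK1_o R KK1_L k ∧ ⁅k * d * k⁻¹, s⁆ = w) :=
    Fm.sound M.μ KK1x_irr_F KK1x_irr_chk M.reps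
  (fun d h0 => (Or.imp (fun h1 => h1) (fun h1 => (Exists.imp (fun k h2 => ⟨M.H.iff.1 h2.1, h2.2⟩) (h1 M.H.good M.H.ne))) (h d ((KK1x_lD_E M).iff.2 h0))))
noncomputable def KK2x_irr_t0 : ST := (.node (nat_lit 31) (.node (nat_lit 23) (.node (nat_lit 18) (.node (nat_lit 16) (.leaf (nat_lit 0)) (.leaf (nat_lit 649))) (.node (nat_lit 21) (.leaf (nat_lit 0)) (.leaf (nat_lit 649)))) (.node (nat_lit 27) (.node (nat_lit 26) (.leaf (nat_lit 0)) (.leaf (nat_lit 1))) (.node (nat_lit 28) (.leaf (nat_lit 649)) (.leaf (nat_lit 0))))) (.node (nat_lit 40) (.node (nat_lit 37) (.node (nat_lit 34) (.leaf (nat_lit 1)) (.leaf (nat_lit 0))) (.node (nat_lit 38) (.leaf (nat_lit 1)) (.leaf (nat_lit 334)))) (.node (nat_lit 46) (.node (nat_lit 43) (.leaf (nat_lit 0)) (.leaf (nat_lit 10))) (.node (nat_lit 55) (.leaf (nat_lit 0)) (.leaf (nat_lit 162))))))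
noncomputable def KK2x_irr_F : Fm := (.allS KK2x_lD (.or (.qf (.eq (.v (nat_lit 0)) .one)) (.exF KK2_L (fun cs => KK2x_irr_t0.find (Nat.mod (nth (nat_lit 0) cs (nat_lit 0)) (nat_lit 89))) (.qf (.eq (.mul (.mul (.mul (.mul (.mul (.v (nat_lit 0)) (.v (nat_lit 1))) (.inv (.v (nat_lit 0)))) (.v (nat_lit 2))) (.inv (.mul (.mul (.v (nat_lit 0)) (.v (nat_lit 1))) (.inv (.v (nat_lit 0)))))) (.inv (.v (nat_lit 2)))) (.v (nat_lit 6)))))))
theorem KK2x_irr_chk : Fm.chk KK2_o KK2x_irr_F KK2x_cs = true := by decide +kernel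
theorem KK2x_irr {G : Type*} [Group G] {R : ℕ → G → Prop} {s u v w e f z d2 d3 s2 s3 s0 : G} {H : Subgroup G}
    (M : Mdl KK2_o KK2x_cs KK2_L R [s, u, v, v⁻¹, w, w⁻¹, e, e⁻¹, f, f⁻¹, z, d2, d3, s2, s3, s0] H) :
    ∀ d ∈ sp [w, e, f], d = 1 ∨ (∃ k ∈ H, ⁅k * d * k⁻¹, s⁆ = w) :=
  have h : ∀ d, InS R KK2x_lD d → d = 1 ∨ (Good KK2_o R KK2_L → prods KK2_o KK2_L KK2_o.one ≠ [] → ∃ k, InL KK2_o R KK2_L k ∧ ⁅k * d * k⁻¹, s⁆ = w) :=
    Fm.sound M.μ KK2x_irr_F KK2x_irr_chk M.reps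
  (fun d h0 => (Or.imp (fun h1 => h1) (fun h1 => (Exists.imp (fun k h2 => ⟨M.H.iff.1 h2.1, h2.2⟩) (h1 M.H.good M.H.ne))) (h d ((KK2x_lD_E M).iff.2 h0))))
noncomputable def KK1x_cls_t0 : ST := (.node (nat_lit 38) (.node (nat_lit 13) (.node (nat_lit 9) (.node (nat_lit 6) (.leaf (nat_lit 326)) (.node (nat_lit 8) (.leaf (nat_lit 405)) (.leaf (nat_lit 0)))) (.node (nat_lit 10) (.leaf (nat_lit 2)) (.node (nat_lit 12) (.leaf (nat_lit 486)) (.leaf (nat_lit 163))))) (.node (nat_lit 23) (.node (nat_lit 17) (.leaf (nat_lit 162)) (.node (nat_lit 21) (.leaf (nat_lit 2)) (.leaf (nat_lit 81)))) (.node (nat_lit 27) (.node (nat_lit 26) (.leaf (nat_lit 325)) (.leaf (nat_lit 407))) (.node (nat_lit 30) (.leaf (nat_lit 0)) (.leaf (nat_lit 324)))))) (.node (nat_lit 60) (.node (nat_lit 42) (.node (nat_lit 39) (.leaf (nat_lit 1)) (.node (nat_lit 41) (.leaf (nat_lit 82)) (.leaf (nat_lit 83)))) (.node (nat_lit 45) (.leaf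 (nat_lit 324)) (.node (nat_lit 57) (.leaf (nat_lit 0)) (.leaf (nat_lit 567))))) (.node (nat_lit 71) (.node (nat_lit 63) (.leaf (nat_lit 164)) (.node (nat_lit 67) (.leaf (nat_lit 1)) (.leaf (nat_lit 81)))) (.node (nat_lit 78) (.node (nat_lit 72) (.leaf (nat_lit 244)) (.leaf (nat_lit 243))) (.node (nat_lit 81) (.leaf (nat_lit 162)) (.leaf (nat_lit 486)))))))
noncomputable def KK1x_cls_F : Fm := (.allS KK1x_lD (.or (.qf (.eq (.v (nat_lit 0)) .one)) (.exF KK1_L (fun cs => KK1x_cls_t0.find (Nat.mod (nth (nat_lit 0) cs (nat_lit 0)) (nat_lit 83))) (.qf (.or (.eq (.mul (.mul (.v (nat_lit 0)) (.v (nat_lit 1))) (.inv (.v (nat_lit 0)))) (.v (nat_lit 6))) (.or (.eq (.mul (.mul (.v (nat_lit 0)) (.v (nat_lit 1))) (.inv (.v (nat_lit 0)))) (.v (nat_lit 12))) (.eq (.mul (.mul (.v (nat_lit 0)) (.v (nat_lit 1))) (.inv (.v (nat_lit 0)))) (.v (nat_lit 10)))))))))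
theorem KK1x_cls_chk : Fm.chk KK1_o KK1x_cls_F KK1x_cs = true := by decide +kernel
theorem KK1x_cls {G : Type*} [Group G] {R : ℕ → G → Prop} {s u v w e f z d2 d3 s2 s3 s0 : G} {H : Subgroup G}
    (M : Mdl KK1_o KK1x_cs KK1_L R [s, u, v, v⁻¹, w, w⁻¹, e, e⁻¹, f, f⁻¹, z, d2, d3, s2, s3, s0] H) :
    ∀ d ∈ sp [w, e, f], d = 1 ∨ (∃ k ∈ H, k * d * k⁻¹ = w ∨ k * d * k⁻¹ = z ∨ k * d * k⁻¹ = f) :=
  have h : ∀ d, InS R KK1x_lD d → d = 1 ∨ (Good KK1_o R KK1_L → prods KK1_o KK1_L KK1_o.one ≠ [] → ∃ k, InL KK1_o R KK1_L k ∧ (k * d * k⁻¹ = w ∨ k * d * k⁻¹ = z ∨ k * d * k⁻¹ = f)) :=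
    Fm.sound M.μ KK1x_cls_F KK1x_cls_chk M.reps
  (fun d h0 => (Or.imp (fun h1 => h1) (fun h1 => (Exists.imp (fun k h2 => ⟨M.H.iff.1 h2.1, h2.2⟩) (h1 M.H.good M.H.ne))) (h d ((KK1x_lD_E M).iff.2 h0))))
noncomputable def KK2x_cls_t0 : ST := (.node (nat_lit 57) (.node (nat_lit 27) (.node (nat_lit 13) (.node (nat_lit 10) (.leaf (nat_lit 10)) (.leaf (nat_lit 972))) (.node (nat_lit 18) (.leaf (nat_lit 820)) (.node (nat_lit 20) (.leaf (nat_lit 487)) (.leaf (nat_lit 324))))) (.node (nat_lit 41) (.node (nat_lit 34) (.leaf (nat_lit 172)) (.node (nat_lit 35) (.leaf (nat_lit 972)) (.leaf (nat_lit 648)))) (.node (nat_lit 43) (.leaf (nat_lit 0)) (.node (nat_lit 45) (.leaf (nat_lit 486)) (.leaf (nat_lit 0)))))) (.node (nat_lit 82) (.node (nat_lit 61) (.node (nat_lit 59) (.leaf (nat_lit 1134)) (.leaf (nat_lit 648))) (.node (nat_lit 64) (.leaf (nat_lit 334)) (.node (nat_lit 71) (.leaf (nat_lit 162)) (.leaf (nat_lit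 1))))) (.node (nat_lit 94) (.node (nat_lit 86) (.leaf (nat_lit 810)) (.node (nat_lit 91) (.leaf (nat_lit 10)) (.leaf (nat_lit 658)))) (.node (nat_lit 95) (.leaf (nat_lit 163)) (.node (nat_lit 96) (.leaf (nat_lit 649)) (.leaf (nat_lit 325)))))))
noncomputable def KK2x_cls_F : Fm := (.allS KK2x_lD (.or (.qf (.eq (.v (nat_lit 0)) .one)) (.exF KK2_L (fun cs => KK2x_cls_t0.find (Nat.mod (nth (nat_lit 0) cs (nat_lit 0)) (nat_lit 101))) (.qf (.or (.eq (.mul (.mul (.v (nat_lit 0)) (.v (nat_lit 1))) (.inv (.v (nat_lit 0)))) (.v (nat_lit 6))) (.or (.eq (.mul (.mul (.v (nat_lit 0)) (.v (nat_lit 1))) (.inv (.v (nat_lit 0)))) (.v (nat_lit 12))) (.eq (.mul (.mul (.v (nat_lit 0)) (.v (nat_lit 1))) (.inv (.v (nat_lit 0)))) (.v (nat_lit 10)))))))))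
theorem KK2x_cls_chk : Fm.chk KK2_o KK2x_cls_F KK2x_cs = true := by decide +kernel
theorem KK2x_cls {G : Type*} [Group G] {R : ℕ → G → Prop} {s u v w e f z d2 d3 s2 s3 s0 : G} {H : Subgroup G}
    (M : Mdl KK2_o KK2x_cs KK2_L R [s, u, v, v⁻¹, w, w⁻¹, e, e⁻¹, f, f⁻¹, z, d2, d3, s2, s3, s0] H) :
    ∀ d ∈ sp [w, e, f], d = 1 ∨ (∃ k ∈ H, k * d * k⁻¹ = w ∨ k * d * k⁻¹ = z ∨ k * d * k⁻¹ = f) :=
  have h : ∀ d, InS R KK2x_lD d → d = 1 ∨ (Good KK2_o R KK2_L → prods KK2_o KK2_L KK2_o.one ≠ [] → ∃ k, InL KK2_o R KK2_L k ∧ (k * d * k⁻¹ = w ∨ k * d * k⁻¹ = z ∨ k * d * k⁻¹ = f)) :=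
    Fm.sound M.μ KK2x_cls_F KK2x_cls_chk M.reps
  (fun d h0 => (Or.imp (fun h1 => h1) (fun h1 => (Exists.imp (fun k h2 => ⟨M.H.iff.1 h2.1, h2.2⟩) (h1 M.H.good M.H.ne))) (h d ((KK2x_lD_E M).iff.2 h0))))
noncomputable def KK1x_c1_F : Fm := (.all KK1_L (.imp (.eq (.mul (.v (nat_lit 0)) (.v (nat_lit 1))) (.mul (.v (nat_lit 1)) (.v (nat_lit 0)))) (.and (.qf (.mem (.mul (.v (nat_lit 0)) (.v (nat_lit 0))) KK1x_lT)) (.and (.qf (.and (.or (.eq (.mul (.mul (.v (nat_lit 0)) (.v (nat_lit 12))) (.inv (.v (nat_lit 0)))) (.v (nat_lit 12))) (.eq (.mul (.mul (.v (nat_lit 0)) (.v (nat_lit 12))) (.inv (.v (nat_lit 0)))) (.inv (.v (nat_lit 12))))) (.or (.eq (.mul (.mul (.v (nat_lit 0)) (.v (nat_lit 13))) (.inv (.v (nat_lit 0)))) (.v (nat_lit 13))) (.eq (.mul (.mul (.v (nat_lit 0)) (.v (nat_lit 13))) (.inv (.v (nat_lit 0)))) (.inv (.v (nat_lit 13))))))) (.imp (.eq (.mul (.v (nat_lit 0)) (.v (nat_lit 12))) (.mul (.v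 (nat_lit 12)) (.v (nat_lit 0)))) (.imp (.eq (.mul (.v (nat_lit 0)) (.v (nat_lit 13))) (.mul (.v (nat_lit 13)) (.v (nat_lit 0)))) (.qf (.or (.mem (.v (nat_lit 0)) KK1x_lT) (.mem (.mul (.v (nat_lit 0)) (.v (nat_lit 1))) KK1x_lT)))))))))
theorem KK1x_c1_chk : Fm.chk KK1_o KK1x_c1_F KK1x_cs = true := by decide +kernel
theorem KK1x_c1 {G : Type*} [Group G] {R : ℕ → G → Prop} {s u v w e f z d2 d3 s2 s3 s0 : G} {H : Subgroup G}
    (M : Mdl KK1_o KK1x_cs KK1_L R [s, u, v, v⁻¹, w, w⁻¹, e, e⁻¹, f, f⁻¹, z, d2, d3, s2, s3, s0] H) :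
    ∀ k ∈ H, k * s = s * k → k * k ∈ sp [d2, d3] ∧ ((k * d2 * k⁻¹ = d2 ∨ k * d2 * k⁻¹ = d2⁻¹) ∧ (k * d3 * k⁻¹ = d3 ∨ k * d3 * k⁻¹ = d3⁻¹)) ∧ (k * d2 = d2 * k → k * d3 = d3 * k → k ∈ sp [d2, d3] ∨ k * s ∈ sp [d2, d3]) :=
  have h : ∀ k, InL KK1_o R KK1_L k → k * s = s * k → InS R KK1x_lT (k * k) ∧ ((k * d2 * k⁻¹ = d2 ∨ k * d2 * k⁻¹ = d2⁻¹) ∧ (k * d3 * k⁻¹ = d3 ∨ k * d3 * k⁻¹ = d3⁻¹)) ∧ (k * d2 = d2 * k → k * d3 = d3 * k → InS R KK1x_lT (k) ∨ InS R KK1x_lT (k * s)) :=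
    Fm.sound M.μ KK1x_c1_F KK1x_c1_chk M.reps
  (fun k h0 => (fun h1 => (And.imp (fun h2 => ((KK1x_lT_E M).iff.1 h2)) (fun h2 => (And.imp (fun h3 => h3) (fun h3 => (fun h4 => (fun h5 => ((or_congr (KK1x_lT_E M).iff (KK1x_lT_E M).iff).1 ((h3 h4) h5))))) h2)) ((h k (M.H.iff.2 h0)) h1))))
noncomputable def KK1x_c23_F : Fm := (.all KK1_L (.imp (.eq (.mul (.v (nat_lit 0)) (.mul (.v (nat_lit 14)) (.v (nat_lit 15)))) (.mul (.mul (.v (nat_lit 14)) (.v (nat_lit 15))) (.v (nat_lit 0)))) (.qf (.mem (.mul (.v (nat_lit 0)) (.v (nat_lit 0))) KK1x_lW))))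
theorem KK1x_c23_chk : Fm.chk KK1_o KK1x_c23_F KK1x_cs = true := by decide +kernel
theorem KK1x_c23 {G : Type*} [Group G] {R : ℕ → G → Prop} {s u v w e f z d2 d3 s2 s3 s0 : G} {H : Subgroup G}
    (M : Mdl KK1_o KK1x_cs KK1_L R [s, u, v, v⁻¹, w, w⁻¹, e, e⁻¹, f, f⁻¹, z, d2, d3, s2, s3, s0] H) :
    ∀ k ∈ H, k * (s2 * s3) = s2 * s3 * k → k * k ∈ sp [w] :=
  have h : ∀ k, InL KK1_o R KK1_L k → k * (s2 * s3) = s2 * s3 * k → InS R KK1x_lW (k * k) :=
    Fm.sound M.μ KK1x_c23_F KK1x_c23_chk M.reps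
  (fun k h0 => (fun h1 => ((KK1x_lW_E M).iff.1 ((h k (M.H.iff.2 h0)) h1))))
noncomputable def KK1x_nE_F : Fm := (.all KK1_L (.imp (.mem (.mul (.mul (.v (nat_lit 0)) (.v (nat_lit 1))) (.inv (.v (nat_lit 0)))) KK1x_lE) (.imp (.mem (.mul (.mul (.v (nat_lit 0)) (.v (nat_lit 14))) (.inv (.v (nat_lit 0)))) KK1x_lE) (.imp (.mem (.mul (.mul (.v (nat_lit 0)) (.v (nat_lit 15))) (.inv (.v (nat_lit 0)))) KK1x_lE) (.qf (.mem (.pw (.v (nat_lit 0)) (nat_lit 3)) KK1x_lE))))))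
theorem KK1x_nE_chk : Fm.chk KK1_o KK1x_nE_F KK1x_cs = true := by decide +kernel
theorem KK1x_nE {G : Type*} [Group G] {R : ℕ → G → Prop} {s u v w e f z d2 d3 s2 s3 s0 : G} {H : Subgroup G}
    (M : Mdl KK1_o KK1x_cs KK1_L R [s, u, v, v⁻¹, w, w⁻¹, e, e⁻¹, f, f⁻¹, z, d2, d3, s2, s3, s0] H) :
    ∀ k ∈ H, k * s * k⁻¹ ∈ sp [s, s2, s3] → k * s2 * k⁻¹ ∈ sp [s, s2, s3] → k * s3 * k⁻¹ ∈ sp [s, s2, s3] → k ^ 3 ∈ sp [s, s2, s3] :=
  have h : ∀ k, InL KK1_o R KK1_L k → InS R KK1x_lE (k * s * k⁻¹) → InS R KK1x_lE (k * s2 * k⁻¹) → InS R KK1x_lE (k * s3 * k⁻¹) → InS R KK1x_lE (k ^ 3) :=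
    Fm.sound M.μ KK1x_nE_F KK1x_nE_chk M.reps
  (fun k h0 => (fun h1 => (fun h2 => (fun h3 => ((KK1x_lE_E M).iff.1 ((((h k (M.H.iff.2 h0)) ((KK1x_lE_E M).iff.2 h1)) ((KK1x_lE_E M).iff.2 h2)) ((KK1x_lE_E M).iff.2 h3)))))))
noncomputable def KK1x_od_F : Fm := (.all KK1_L (.qf (.or (.mem (.v (nat_lit 0)) KK1x_lD) (.or (.and (.not (.eq (.pw (.v (nat_lit 0)) (nat_lit 3)) .one)) (.eq (.mul (.pw (.v (nat_lit 0)) (nat_lit 3)) (.pw (.v (nat_lit 0)) (nat_lit 3))) .one)) (.and (.not (.eq (.pw (.mul (.mul (.mul (.v (nat_lit 0)) (.v (nat_lit 1))) (.inv (.v (nat_lit 0)))) (.inv (.v (nat_lit 1)))) (nat_lit 3)) .one)) (.eq (.mul (.pw (.mul (.mul (.mul (.v (nat_lit 0)) (.v (nat_lit 1))) (.inv (.v (nat_lit 0)))) (.inv (.v (nat_lit 1)))) (nat_lit 3)) (.pw (.mul (.mul (.mul (.v (nat_lit 0)) (.v (nat_lit 1))) (.inv (.v (nat_lit 0)))) (.inv (.v (nat_lit 1)))) (nat_lit 3))) .one))))))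
theorem KK1x_od_chk : Fm.chk KK1_o KK1x_od_F KK1x_cs = true := by decide +kernel
theorem KK1x_od {G : Type*} [Group G] {R : ℕ → G → Prop} {s u v w e f z d2 d3 s2 s3 s0 : G} {H : Subgroup G}
    (M : Mdl KK1_o KK1x_cs KK1_L R [s, u, v, v⁻¹, w, w⁻¹, e, e⁻¹, f, f⁻¹, z, d2, d3, s2, s3, s0] H) :
    ∀ k ∈ H, k ∈ sp [w, e, f] ∨ k ^ 3 ≠ 1 ∧ k ^ 3 * k ^ 3 = 1 ∨ ⁅k, s⁆ ^ 3 ≠ 1 ∧ ⁅k, s⁆ ^ 3 * ⁅k, s⁆ ^ 3 = 1 :=
  have h : ∀ k, InL KK1_o R KK1_L k → InS R KK1x_lD (k) ∨ k ^ 3 ≠ 1 ∧ k ^ 3 * k ^ 3 = 1 ∨ ⁅k, s⁆ ^ 3 ≠ 1 ∧ ⁅k, s⁆ ^ 3 * ⁅k, s⁆ ^ 3 = 1 :=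
    Fm.sound M.μ KK1x_od_F KK1x_od_chk M.reps
  (fun k h0 => ((or_congr (KK1x_lD_E M).iff Iff.rfl).1 (h k (M.H.iff.2 h0))))
noncomputable def KK1x_eE_F : Fm := (.allS KK1x_lE (.or (.qf (.eq (.v (nat_lit 0)) .one)) (.or (.qf (.eq (.v (nat_lit 0)) (.v (nat_lit 16)))) (.exS KK1x_lV (.qf (.or (.eq (.mul (.mul (.v (nat_lit 0)) (.v (nat_lit 1))) (.inv (.v (nat_lit 0)))) (.v (nat_lit 2))) (.eq (.mul (.mul (.v (nat_lit 0)) (.v (nat_lit 1))) (.inv (.v (nat_lit 0)))) (.mul (.v (nat_lit 15)) (.v (nat_lit 16))))))))))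
theorem KK1x_eE_chk : Fm.chk KK1_o KK1x_eE_F KK1x_cs = true := by decide +kernel
theorem KK1x_eE {G : Type*} [Group G] {R : ℕ → G → Prop} {s u v w e f z d2 d3 s2 s3 s0 : G} {H : Subgroup G}
    (M : Mdl KK1_o KK1x_cs KK1_L R [s, u, v, v⁻¹, w, w⁻¹, e, e⁻¹, f, f⁻¹, z, d2, d3, s2, s3, s0] H) :
    ∀ i ∈ sp [s, s2, s3], i = 1 ∨ i = s0 ∨ (∃ m ∈ sp [v], m * i * m⁻¹ = s ∨ m * i * m⁻¹ = s2 * s3) :=
  have h : ∀ i, InS R KK1x_lE i → i = 1 ∨ i = s0 ∨ (GoodS R KK1x_lV → ∃ m, InS R KK1x_lV m ∧ (m * i * m⁻¹ = s ∨ m * i * m⁻¹ = s2 * s3)) :=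
    Fm.sound M.μ KK1x_eE_F KK1x_eE_chk M.reps
  (fun i h0 => (Or.imp (fun h1 => h1) (fun h1 => (Or.imp (fun h2 => h2) (fun h2 => (Exists.imp (fun m h3 => ⟨(KK1x_lV_E M).iff.1 h3.1, h3.2⟩) (h2 (KK1x_lV_E M).good))) h1)) (h i ((KK1x_lE_E M).iff.2 h0))))
noncomputable def KK2x_eE_F : Fm := (.allS KK2x_lE (.or (.qf (.eq (.v (nat_lit 0)) .one)) (.or (.qf (.eq (.v (nat_lit 0)) (.v (nat_lit 16)))) (.exS KK2x_lV (.qf (.or (.eq (.mul (.mul (.v (nat_lit 0)) (.v (nat_lit 1))) (.inv (.v (nat_lit 0)))) (.v (nat_lit 2))) (.eq (.mul (.mul (.v (nat_lit 0)) (.v (nat_lit 1))) (.inv (.v (nat_lit 0)))) (.mul (.v (nat_lit 15)) (.v (nat_lit 16))))))))))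
theorem KK2x_eE_chk : Fm.chk KK2_o KK2x_eE_F KK2x_cs = true := by decide +kernel
theorem KK2x_eE {G : Type*} [Group G] {R : ℕ → G → Prop} {s u v w e f z d2 d3 s2 s3 s0 : G} {H : Subgroup G}
    (M : Mdl KK2_o KK2x_cs KK2_L R [s, u, v, v⁻¹, w, w⁻¹, e, e⁻¹, f, f⁻¹, z, d2, d3, s2, s3, s0] H) :
    ∀ i ∈ sp [s, s2, s3], i = 1 ∨ i = s0 ∨ (∃ m ∈ sp [v], m * i * m⁻¹ = s ∨ m * i * m⁻¹ = s2 * s3) :=
  have h : ∀ i, InS R KK2x_lE i → i = 1 ∨ i = s0 ∨ (GoodS R KK2x_lV → ∃ m, InS R KK2x_lV m ∧ (m * i * m⁻¹ = s ∨ m * i * m⁻¹ = s2 * s3)) :=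
    Fm.sound M.μ KK2x_eE_F KK2x_eE_chk M.reps
  (fun i h0 => (Or.imp (fun h1 => h1) (fun h1 => (Or.imp (fun h2 => h2) (fun h2 => (Exists.imp (fun m h3 => ⟨(KK2x_lV_E M).iff.1 h3.1, h3.2⟩) (h2 (KK2x_lV_E M).good))) h1)) (h i ((KK2x_lE_E M).iff.2 h0))))
noncomputable def KK1x_kv_F : Fm := (.all KK1_L (.imp (.eq (.mul (.v (nat_lit 0)) (.v (nat_lit 0))) .one) (.imp (.eq (.mul (.v (nat_lit 0)) (.v (nat_lit 3))) (.mul (.v (nat_lit 3)) (.v (nat_lit 0)))) (.or (.qf (.eq (.v (nat_lit 0)) .one)) (.allS KK1x_lD (.imp (.eq (.mul (.v (nat_lit 1)) (.v (nat_lit 0))) (.mul (.v (nat_lit 0)) (.v (nat_lit 1)))) (.qf (.eq (.v (nat_lit 0)) .one))))))))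
theorem KK1x_kv_chk : Fm.chk KK1_o KK1x_kv_F KK1x_cs = true := by decide +kernel
theorem KK1x_kv {G : Type*} [Group G] {R : ℕ → G → Prop} {s u v w e f z d2 d3 s2 s3 s0 : G} {H : Subgroup G}
    (M : Mdl KK1_o KK1x_cs KK1_L R [s, u, v, v⁻¹, w, w⁻¹, e, e⁻¹, f, f⁻¹, z, d2, d3, s2, s3, s0] H) :
    ∀ k ∈ H, k * k = 1 → k * v = v * k → k = 1 ∨ (∀ d ∈ sp [w, e, f], k * d = d * k → d = 1) :=
  have h : ∀ k, InL KK1_o R KK1_L k → k * k = 1 → k * v = v * k → k = 1 ∨ (∀ d, InS R KK1x_lD d → k * d = d * k → d = 1) :=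
    Fm.sound M.μ KK1x_kv_F KK1x_kv_chk M.reps
  (fun k h0 => (fun h1 => (fun h2 => (Or.imp (fun h3 => h3) (fun h3 => (fun d h4 => (h3 d ((KK1x_lD_E M).iff.2 h4)))) (((h k (M.H.iff.2 h0)) h1) h2)))))
noncomputable def KK2x_kv_F : Fm := (.all KK2_L (.imp (.eq (.mul (.v (nat_lit 0)) (.v (nat_lit 0))) .one) (.imp (.eq (.mul (.v (nat_lit 0)) (.v (nat_lit 3))) (.mul (.v (nat_lit 3)) (.v (nat_lit 0)))) (.or (.qf (.eq (.v (nat_lit 0)) .one)) (.allS KK2x_lD (.imp (.eq (.mul (.v (nat_lit 1)) (.v (nat_lit 0))) (.mul (.v (nat_lit 0)) (.v (nat_lit 1)))) (.qf (.eq (.v (nat_lit 0)) .one))))))))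
theorem KK2x_kv_chk : Fm.chk KK2_o KK2x_kv_F KK2x_cs = true := by decide +kernel
theorem KK2x_kv {G : Type*} [Group G] {R : ℕ → G → Prop} {s u v w e f z d2 d3 s2 s3 s0 : G} {H : Subgroup G}
    (M : Mdl KK2_o KK2x_cs KK2_L R [s, u, v, v⁻¹, w, w⁻¹, e, e⁻¹, f, f⁻¹, z, d2, d3, s2, s3, s0] H) :
    ∀ k ∈ H, k * k = 1 → k * v = v * k → k = 1 ∨ (∀ d ∈ sp [w, e, f], k * d = d * k → d = 1) :=
  have h : ∀ k, InL KK2_o R KK2_L k → k * k = 1 → k * v = v * k → k = 1 ∨ (∀ d, InS R KK2x_lD d → k * d = d * k → d = 1) :=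
    Fm.sound M.μ KK2x_kv_F KK2x_kv_chk M.reps
  (fun k h0 => (fun h1 => (fun h2 => (Or.imp (fun h3 => h3) (fun h3 => (fun d h4 => (h3 d ((KK2x_lD_E M).iff.2 h4)))) (((h k (M.H.iff.2 h0)) h1) h2)))))
noncomputable def KK1x_ki_t0 : ST := (.node (nat_lit 220) (.node (nat_lit 120) (.node (nat_lit 88) (.node (nat_lit 47) (.node (nat_lit 7) (.leaf (nat_lit 2)) (.node (nat_lit 14) (.leaf (nat_lit 11)) (.leaf (nat_lit 2)))) (.node (nat_lit 71) (.node (nat_lit 63) (.leaf (nat_lit 495)) (.leaf (nat_lit 248))) (.node (nat_lit 79) (.leaf (nat_lit 171)) (.leaf (nat_lit 167))))) (.node (nat_lit 104) (.node (nat_lit 94) (.node (nat_lit 91) (.leaf (nat_lit 29)) (.leaf (nat_lit 84))) (.node (nat_lit 95) (.leaf (nat_lit 173)) (.leaf (nat_lit 120)))) (.node (nat_lit 111) (.node (nat_lit 107) (.leaf (nat_lit 84)) (.leaf (nat_lit 3))) (.node (nat_lit 112) (.leaf (nat_lit 39)) (.leaf (nat_lit 353)))))) (.node (nat_lit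 189) (.node (nat_lit 169) (.node (nat_lit 126) (.node (nat_lit 122) (.leaf (nat_lit 3)) (.leaf (nat_lit 0))) (.node (nat_lit 165) (.leaf (nat_lit 36)) (.leaf (nat_lit 111)))) (.node (nat_lit 182) (.node (nat_lit 181) (.leaf (nat_lit 417)) (.leaf (nat_lit 30))) (.node (nat_lit 185) (.leaf (nat_lit 282)) (.leaf (nat_lit 336))))) (.node (nat_lit 200) (.node (nat_lit 196) (.node (nat_lit 193) (.leaf (nat_lit 435)) (.leaf (nat_lit 93))) (.node (nat_lit 198) (.leaf (nat_lit 27)) (.leaf (nat_lit 201)))) (.node (nat_lit 209) (.node (nat_lit 205) (.leaf (nat_lit 333)) (.leaf (nat_lit 354))) (.node (nat_lit 213) (.leaf (nat_lit 12)) (.leaf (nat_lit 198))))))) (.node (nat_lit 328) (.node (nat_lit 272) (.node (nat_lit 242) (.node (nat_lit 224) (.node (nat_lit 223) (.leaf (nat_lit 351)) (.leaf (nat_lit 115))) (.node (nat_lit 239) (.leaf (nat_lit 9)) (.leaf (nat_lit 34)))) (.node (nat_lit 254) (.node (nat_lit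 246) (.leaf (nat_lit 1)) (.leaf (nat_lit 10))) (.node (nat_lit 256) (.leaf (nat_lit 1)) (.leaf (nat_lit 579))))) (.node (nat_lit 297) (.node (nat_lit 287) (.node (nat_lit 280) (.leaf (nat_lit 498)) (.leaf (nat_lit 255))) (.node (nat_lit 296) (.leaf (nat_lit 495)) (.leaf (nat_lit 174)))) (.node (nat_lit 313) (.node (nat_lit 311) (.leaf (nat_lit 412)) (.leaf (nat_lit 171))) (.node (nat_lit 321) (.leaf (nat_lit 331)) (.leaf (nat_lit 88)))))) (.node (nat_lit 439) (.node (nat_lit 361) (.node (nat_lit 337) (.node (nat_lit 333) (.leaf (nat_lit 28)) (.leaf (nat_lit 172))) (.node (nat_lit 352) (.leaf (nat_lit 7)) (.leaf (nat_lit 352)))) (.node (nat_lit 374) (.node (nat_lit 365) (.leaf (nat_lit 0)) (.leaf (nat_lit 36))) (.node (nat_lit 435) (.leaf (nat_lit 0)) (.leaf (nat_lit 27))))) (.node (nat_lit 459) (.node (nat_lit 452) (.node (nat_lit 451) (.leaf (nat_lit 333)) (.leaf (nat_lit 104))) (.node (nat_lit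 455) (.leaf (nat_lit 198)) (.leaf (nat_lit 86)))) (.node (nat_lit 467) (.node (nat_lit 463) (.leaf (nat_lit 351)) (.leaf (nat_lit 9))) (.node (nat_lit 471) (.leaf (nat_lit 23)) (.leaf (nat_lit 5))))))))
noncomputable def KK1x_ki_F : Fm := (.all KK1_L (.imp (.eq (.mul (.v (nat_lit 0)) (.v (nat_lit 0))) .one) (.or (.qf (.eq (.v (nat_lit 0)) .one)) (.exF KK1_L (fun cs => KK1x_ki_t0.find (Nat.mod (nth (nat_lit 0) cs (nat_lit 0)) (nat_lit 479))) (.qf (.or (.or (.eq (.mul (.mul (.v (nat_lit 0)) (.v (nat_lit 1))) (.inv (.v (nat_lit 0)))) (.v (nat_lit 2))) (.or (.eq (.mul (.mul (.v (nat_lit 0)) (.v (nat_lit 1))) (.inv (.v (nat_lit 0)))) (.mul (.v (nat_lit 15)) (.v (nat_lit 16)))) (.or (.eq (.mul (.mul (.v (nat_lit 0)) (.v (nat_lit 1))) (.inv (.v (nat_lit 0)))) (.v (nat_lit 17))) (.eq (.mul (.mul (.v (nat_lit 0)) (.v (nat_lit 1))) (.inv (.v (nat_lit 0)))) (.mul (.v (nat_lit 3)) (.v (nat_lit 2))))))) (.eq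 (.mul (.mul (.v (nat_lit 0)) (.v (nat_lit 1))) (.inv (.v (nat_lit 0)))) (.v (nat_lit 3)))))))))
theorem KK1x_ki_chk : Fm.chk KK1_o KK1x_ki_F KK1x_cs = true := by decide +kernel
theorem KK1x_ki {G : Type*} [Group G] {R : ℕ → G → Prop} {s u v w e f z d2 d3 s2 s3 s0 : G} {H : Subgroup G}
    (M : Mdl KK1_o KK1x_cs KK1_L R [s, u, v, v⁻¹, w, w⁻¹, e, e⁻¹, f, f⁻¹, z, d2, d3, s2, s3, s0] H) :
    ∀ k ∈ H, k * k = 1 → k = 1 ∨ (∃ m ∈ H, (m * k * m⁻¹ = s ∨ m * k * m⁻¹ = s2 * s3 ∨ m * k * m⁻¹ = s0 ∨ m * k * m⁻¹ = u * s) ∨ m * k * m⁻¹ = u) :=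
  have h : ∀ k, InL KK1_o R KK1_L k → k * k = 1 → k = 1 ∨ (Good KK1_o R KK1_L → prods KK1_o KK1_L KK1_o.one ≠ [] → ∃ m, InL KK1_o R KK1_L m ∧ ((m * k * m⁻¹ = s ∨ m * k * m⁻¹ = s2 * s3 ∨ m * k * m⁻¹ = s0 ∨ m * k * m⁻¹ = u * s) ∨ m * k * m⁻¹ = u)) :=
    Fm.sound M.μ KK1x_ki_F KK1x_ki_chk M.reps
  (fun k h0 => (fun h1 => (Or.imp (fun h2 => h2) (fun h2 => (Exists.imp (fun m h3 => ⟨M.H.iff.1 h3.1, h3.2⟩) (h2 M.H.good M.H.ne))) ((h k (M.H.iff.2 h0)) h1))))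
noncomputable def KK2x_ki_t0 : ST := (.node (nat_lit 1675) (.node (nat_lit 820) (.node (nat_lit 493) (.node (nat_lit 265) (.node (nat_lit 159) (.node (nat_lit 134) (.node (nat_lit 94) (.leaf (nat_lit 415)) (.leaf (nat_lit 658))) (.node (nat_lit 150) (.leaf (nat_lit 1191)) (.leaf (nat_lit 1009)))) (.node (nat_lit 245) (.node (nat_lit 239) (.leaf (nat_lit 824)) (.leaf (nat_lit 19))) (.node (nat_lit 256) (.leaf (nat_lit 181)) (.leaf (nat_lit 0))))) (.node (nat_lit 404) (.node (nat_lit 317) (.node (nat_lit 310) (.leaf (nat_lit 561)) (.leaf (nat_lit 543))) (.node (nat_lit 323) (.leaf (nat_lit 19)) (.leaf (nat_lit 181)))) (.node (nat_lit 429) (.node (nat_lit 405) (.leaf (nat_lit 1026)) (.leaf (nat_lit 831))) (.node (nat_lit 481) (.leaf (nat_lit 64)) (.leaf (nat_lit 3)))))) (.node (nat_lit 669) (.node (nat_lit 629) (.node (nat_lit 535) (.node (nat_lit 496) (.leaf (nat_lit 1)) (.leaf (nat_lit 0))) (.node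 (nat_lit 580) (.leaf (nat_lit 396)) (.leaf (nat_lit 378)))) (.node (nat_lit 654) (.node (nat_lit 644) (.leaf (nat_lit 1029)) (.leaf (nat_lit 1026))) (.node (nat_lit 668) (.leaf (nat_lit 662)) (.leaf (nat_lit 219))))) (.node (nat_lit 724) (.node (nat_lit 719) (.node (nat_lit 675) (.leaf (nat_lit 55)) (.leaf (nat_lit 666))) (.node (nat_lit 721) (.leaf (nat_lit 712)) (.leaf (nat_lit 867)))) (.node (nat_lit 762) (.node (nat_lit 760) (.leaf (nat_lit 397)) (.leaf (nat_lit 399))) (.node (nat_lit 775) (.leaf (nat_lit 325)) (.node (nat_lit 805) (.leaf (nat_lit 396)) (.leaf (nat_lit 381)))))))) (.node (nat_lit 1204) (.node (nat_lit 996) (.node (nat_lit 934) (.node (nat_lit 900) (.node (nat_lit 881) (.leaf (nat_lit 378)) (.leaf (nat_lit 874))) (.node (nat_lit 915) (.leaf (nat_lit 669)) (.leaf (nat_lit 666)))) (.node (nat_lit 965) (.node (nat_lit 938) (.leaf (nat_lit 165)) (.leaf (nat_lit 54))) (.node (nat_lit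 991) (.leaf (nat_lit 199)) (.leaf (nat_lit 702))))) (.node (nat_lit 1127) (.node (nat_lit 1012) (.node (nat_lit 999) (.leaf (nat_lit 1171)) (.leaf (nat_lit 559))) (.node (nat_lit 1095) (.leaf (nat_lit 176)) (.leaf (nat_lit 1063)))) (.node (nat_lit 1178) (.node (nat_lit 1163) (.leaf (nat_lit 37)) (.leaf (nat_lit 57))) (.node (nat_lit 1180) (.leaf (nat_lit 54)) (.leaf (nat_lit 167)))))) (.node (nat_lit 1443) (.node (nat_lit 1258) (.node (nat_lit 1228) (.node (nat_lit 1216) (.leaf (nat_lit 0)) (.leaf (nat_lit 705))) (.node (nat_lit 1231) (.leaf (nat_lit 712)) (.leaf (nat_lit 702)))) (.node (nat_lit 1390) (.node (nat_lit 1282) (.leaf (nat_lit 183)) (.leaf (nat_lit 712))) (.node (nat_lit 1429) (.leaf (nat_lit 874)) (.leaf (nat_lit 3))))) (.node (nat_lit 1507) (.node (nat_lit 1487) (.node (nat_lit 1450) (.leaf (nat_lit 194)) (.leaf (nat_lit 19))) (.node (nat_lit 1493) (.leaf (nat_lit 73)) (.leaf (nat_lit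 235)))) (.node (nat_lit 1522) (.node (nat_lit 1521) (.leaf (nat_lit 14)) (.leaf (nat_lit 867))) (.node (nat_lit 1528) (.leaf (nat_lit 703)) (.node (nat_lit 1669) (.leaf (nat_lit 18)) (.leaf (nat_lit 1155))))))))) (.node (nat_lit 2672) (.node (nat_lit 2164) (.node (nat_lit 1938) (.node (nat_lit 1753) (.node (nat_lit 1713) (.node (nat_lit 1690) (.leaf (nat_lit 5)) (.leaf (nat_lit 37))) (.node (nat_lit 1743) (.leaf (nat_lit 1)) (.leaf (nat_lit 813)))) (.node (nat_lit 1791) (.node (nat_lit 1768) (.leaf (nat_lit 21)) (.leaf (nat_lit 18))) (.node (nat_lit 1897) (.leaf (nat_lit 702)) (.leaf (nat_lit 55))))) (.node (nat_lit 2016) (.node (nat_lit 1953) (.node (nat_lit 1939) (.leaf (nat_lit 32)) (.leaf (nat_lit 990))) (.node (nat_lit 2013) (.leaf (nat_lit 10)) (.leaf (nat_lit 648)))) (.node (nat_lit 2067) (.node (nat_lit 2031) (.leaf (nat_lit 705)) (.leaf (nat_lit 702))) (.node (nat_lit 2128) (.leaf (nat_lit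 226)) (.leaf (nat_lit 991)))))) (.node (nat_lit 2313) (.node (nat_lit 2229) (.node (nat_lit 2179) (.node (nat_lit 2166) (.leaf (nat_lit 993)) (.leaf (nat_lit 379))) (.node (nat_lit 2182) (.leaf (nat_lit 990)) (.leaf (nat_lit 230)))) (.node (nat_lit 2250) (.node (nat_lit 2238) (.leaf (nat_lit 523)) (.leaf (nat_lit 651))) (.node (nat_lit 2253) (.leaf (nat_lit 91)) (.leaf (nat_lit 648))))) (.node (nat_lit 2444) (.node (nat_lit 2403) (.node (nat_lit 2391) (.leaf (nat_lit 685)) (.leaf (nat_lit 361))) (.node (nat_lit 2428) (.leaf (nat_lit 1153)) (.leaf (nat_lit 237)))) (.node (nat_lit 2522) (.node (nat_lit 2452) (.leaf (nat_lit 491)) (.leaf (nat_lit 10))) (.node (nat_lit 2576) (.leaf (nat_lit 507)) (.node (nat_lit 2654) (.leaf (nat_lit 226)) (.leaf (nat_lit 219)))))))) (.node (nat_lit 2954) (.node (nat_lit 2891) (.node (nat_lit 2698) (.node (nat_lit 2691) (.node (nat_lit 2677) (.leaf (nat_lit 1)) (.leaf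 (nat_lit 68))) (.node (nat_lit 2692) (.leaf (nat_lit 165)) (.leaf (nat_lit 1)))) (.node (nat_lit 2750) (.node (nat_lit 2714) (.leaf (nat_lit 72)) (.leaf (nat_lit 343))) (.node (nat_lit 2792) (.leaf (nat_lit 703)) (.leaf (nat_lit 342))))) (.node (nat_lit 2923) (.node (nat_lit 2903) (.node (nat_lit 2897) (.leaf (nat_lit 667)) (.leaf (nat_lit 829))) (.node (nat_lit 2913) (.leaf (nat_lit 343)) (.leaf (nat_lit 64)))) (.node (nat_lit 2938) (.node (nat_lit 2924) (.leaf (nat_lit 75)) (.leaf (nat_lit 54))) (.node (nat_lit 2939) (.leaf (nat_lit 72)) (.node (nat_lit 2941) (.leaf (nat_lit 329)) (.leaf (nat_lit 325))))))) (.node (nat_lit 3159) (.node (nat_lit 3017) (.node (nat_lit 2981) (.node (nat_lit 2961) (.leaf (nat_lit 361)) (.leaf (nat_lit 0))) (.node (nat_lit 3012) (.leaf (nat_lit 343)) (.leaf (nat_lit 658)))) (.node (nat_lit 3032) (.node (nat_lit 3019) (.leaf (nat_lit 345)) (.leaf (nat_lit 1027))) (.node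 (nat_lit 3149) (.leaf (nat_lit 342)) (.leaf (nat_lit 57))))) (.node (nat_lit 3201) (.node (nat_lit 3178) (.node (nat_lit 3164) (.leaf (nat_lit 847)) (.leaf (nat_lit 54))) (.node (nat_lit 3186) (.leaf (nat_lit 505)) (.leaf (nat_lit 3)))) (.node (nat_lit 3258) (.node (nat_lit 3256) (.leaf (nat_lit 0)) (.leaf (nat_lit 505))) (.node (nat_lit 3413) (.leaf (nat_lit 739)) (.node (nat_lit 3422) (.leaf (nat_lit 165)) (.leaf (nat_lit 64))))))))))
noncomputable def KK2x_ki_F : Fm := (.all KK2_L (.imp (.eq (.mul (.v (nat_lit 0)) (.v (nat_lit 0))) .one) (.or (.qf (.eq (.v (nat_lit 0)) .one)) (.exF KK2_L (fun cs => KK2x_ki_t0.find (Nat.mod (nth (nat_lit 0) cs (nat_lit 0)) (nat_lit 3427))) (.qf (.or (.or (.eq (.mul (.mul (.v (nat_lit 0)) (.v (nat_lit 1))) (.inv (.v (nat_lit 0)))) (.v (nat_lit 2))) (.or (.eq (.mul (.mul (.v (nat_lit 0)) (.v (nat_lit 1))) (.inv (.v (nat_lit 0)))) (.mul (.v (nat_lit 15)) (.v (nat_lit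 16)))) (.or (.eq (.mul (.mul (.v (nat_lit 0)) (.v (nat_lit 1))) (.inv (.v (nat_lit 0)))) (.v (nat_lit 17))) (.eq (.mul (.mul (.v (nat_lit 0)) (.v (nat_lit 1))) (.inv (.v (nat_lit 0)))) (.mul (.v (nat_lit 3)) (.v (nat_lit 2))))))) (.eq (.mul (.mul (.v (nat_lit 0)) (.v (nat_lit 1))) (.inv (.v (nat_lit 0)))) (.v (nat_lit 3)))))))))
theorem KK2x_ki_chk : Fm.chk KK2_o KK2x_ki_F KK2x_cs = true := by decide +kernel
theorem KK2x_ki {G : Type*} [Group G] {R : ℕ → G → Prop} {s u v w e f z d2 d3 s2 s3 s0 : G} {H : Subgroup G}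
    (M : Mdl KK2_o KK2x_cs KK2_L R [s, u, v, v⁻¹, w, w⁻¹, e, e⁻¹, f, f⁻¹, z, d2, d3, s2, s3, s0] H) :
    ∀ k ∈ H, k * k = 1 → k = 1 ∨ (∃ m ∈ H, (m * k * m⁻¹ = s ∨ m * k * m⁻¹ = s2 * s3 ∨ m * k * m⁻¹ = s0 ∨ m * k * m⁻¹ = u * s) ∨ m * k * m⁻¹ = u) :=
  have h : ∀ k, InL KK2_o R KK2_L k → k * k = 1 → k = 1 ∨ (Good KK2_o R KK2_L → prods KK2_o KK2_L KK2_o.one ≠ [] → ∃ m, InL KK2_o R KK2_L m ∧ ((m * k * m⁻¹ = s ∨ m * k * m⁻¹ = s2 * s3 ∨ m * k * m⁻¹ = s0 ∨ m * k * m⁻¹ = u * s) ∨ m * k * m⁻¹ = u)) :=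
    Fm.sound M.μ KK2x_ki_F KK2x_ki_chk M.reps
  (fun k h0 => (fun h1 => (Or.imp (fun h2 => h2) (fun h2 => (Exists.imp (fun m h3 => ⟨M.H.iff.1 h3.1, h3.2⟩) (h2 M.H.good M.H.ne))) ((h k (M.H.iff.2 h0)) h1))))
noncomputable def KK1x_p1_F : Fm := (.all KK1_L (.qf (.or (.mem (.v (nat_lit 0)) KK1x_lP) (.mem (.mul (.v (nat_lit 0)) (.v (nat_lit 16))) KK1x_lP))))
theorem KK1x_p1_chk : Fm.chk KK1_o KK1x_p1_F KK1x_cs = true := by decide +kernel
theorem KK1x_p1 {G : Type*} [Group G] {R : ℕ → G → Prop} {s u v w e f z d2 d3 s2 s3 s0 : G} {H : Subgroup G}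
    (M : Mdl KK1_o KK1x_cs KK1_L R [s, u, v, v⁻¹, w, w⁻¹, e, e⁻¹, f, f⁻¹, z, d2, d3, s2, s3, s0] H) :
    ∀ k ∈ H, k ∈ sp [w, e, f, v, s * s2] ∨ k * s0 ∈ sp [w, e, f, v, s * s2] :=
  have h : ∀ k, InL KK1_o R KK1_L k → InS R KK1x_lP (k) ∨ InS R KK1x_lP (k * s0) :=
    Fm.sound M.μ KK1x_p1_F KK1x_p1_chk M.reps
  (fun k h0 => ((or_congr (KK1x_lP_E M).iff (KK1x_lP_E M).iff).1 (h k (M.H.iff.2 h0))))
noncomputable def KK2x_p2_F : Fm := (.all KK2_L (.qf (.and (.or (.mem (.v (nat_lit 0)) KK2x_lO) (.mem (.mul (.v (nat_lit 0)) (.v (nat_lit 16))) KK2x_lO)) (.or (.mem (.v (nat_lit 0)) KK2x_lN) (.mem (.mul (.v (nat_lit 0)) (.v (nat_lit 2))) KK2x_lN)))))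
theorem KK2x_p2_chk : Fm.chk KK2_o KK2x_p2_F KK2x_cs = true := by decide +kernel
theorem KK2x_p2 {G : Type*} [Group G] {R : ℕ → G → Prop} {s u v w e f z d2 d3 s2 s3 s0 : G} {H : Subgroup G}
    (M : Mdl KK2_o KK2x_cs KK2_L R [s, u, v, v⁻¹, w, w⁻¹, e, e⁻¹, f, f⁻¹, z, d2, d3, s2, s3, s0] H) :
    ∀ k ∈ H, (k ∈ sp [w, e, f, v, s * s2, u * s] ∨ k * s0 ∈ sp [w, e, f, v, s * s2, u * s]) ∧ (k ∈ sp [w, e, f, v, s] ∨ k * u ∈ sp [w, e, f, v, s]) :=
  have h : ∀ k, InL KK2_o R KK2_L k → (InS R KK2x_lO (k) ∨ InS R KK2x_lO (k * s0)) ∧ (InS R KK2x_lN (k) ∨ InS R KK2x_lN (k * u)) :=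
    Fm.sound M.μ KK2x_p2_F KK2x_p2_chk M.reps
  (fun k h0 => ((and_congr (or_congr (KK2x_lO_E M).iff (KK2x_lO_E M).iff) (or_congr (KK2x_lN_E M).iff (KK2x_lN_E M).iff)).1 (h k (M.H.iff.2 h0))))
noncomputable def KK1x_np_F : Fm := (.qf (.not (.mem (.v (nat_lit 15)) KK1x_lP)))
theorem KK1x_np_chk : Fm.chk KK1_o KK1x_np_F KK1x_cs = true := by decide +kernel
theorem KK1x_np {G : Type*} [Group G] {R : ℕ → G → Prop} {s u v w e f z d2 d3 s2 s3 s0 : G} {H : Subgroup G}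
    (M : Mdl KK1_o KK1x_cs KK1_L R [s, u, v, v⁻¹, w, w⁻¹, e, e⁻¹, f, f⁻¹, z, d2, d3, s2, s3, s0] H) :
    s0 ∉ sp [w, e, f, v, s * s2] :=
  have h : ¬ InS R KK1x_lP (s0) :=
    Fm.sound M.μ KK1x_np_F KK1x_np_chk M.reps
  ((not_congr (KK1x_lP_E M).iff).1 h)
noncomputable def KK2x_no_F : Fm := (.qf (.and (.not (.mem (.v (nat_lit 15)) KK2x_lO)) (.and (.not (.mem (.v (nat_lit 1)) KK2x_lO)) (.not (.mem (.v (nat_lit 1)) KK2x_lN)))))
theorem KK2x_no_chk : Fm.chk KK2_o KK2x_no_F KK2x_cs = true := by decide +kernel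
theorem KK2x_no {G : Type*} [Group G] {R : ℕ → G → Prop} {s u v w e f z d2 d3 s2 s3 s0 : G} {H : Subgroup G}
    (M : Mdl KK2_o KK2x_cs KK2_L R [s, u, v, v⁻¹, w, w⁻¹, e, e⁻¹, f, f⁻¹, z, d2, d3, s2, s3, s0] H) :
    s0 ∉ sp [w, e, f, v, s * s2, u * s] ∧ u ∉ sp [w, e, f, v, s * s2, u * s] ∧ u ∉ sp [w, e, f, v, s] :=
  have h : ¬ InS R KK2x_lO (s0) ∧ ¬ InS R KK2x_lO (u) ∧ ¬ InS R KK2x_lN (u) :=
    Fm.sound M.μ KK2x_no_F KK2x_no_chk M.reps
  ((and_congr (not_congr (KK2x_lO_E M).iff) (and_congr (not_congr (KK2x_lO_E M).iff) (not_congr (KK2x_lN_E M).iff))).1 h)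
noncomputable def KK1x_ky_F : Fm := (.all KK1_L (.exS KK1x_lU (.qf (.mem (.mul (.v (nat_lit 1)) (.v (nat_lit 0))) KK1x_lY))))
theorem KK1x_ky_chk : Fm.chk KK1_o KK1x_ky_F KK1x_cs = true := by decide +kernel
theorem KK1x_ky {G : Type*} [Group G] {R : ℕ → G → Prop} {s u v w e f z d2 d3 s2 s3 s0 : G} {H : Subgroup G}
    (M : Mdl KK1_o KK1x_cs KK1_L R [s, u, v, v⁻¹, w, w⁻¹, e, e⁻¹, f, f⁻¹, z, d2, d3, s2, s3, s0] H) :
    ∀ k ∈ H, ∃ m ∈ sp [u, v], k * m ∈ sp [s, s2, s3, w, w⁻¹, d2, d2⁻¹, d3, d3⁻¹] :=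
  have h : ∀ k, InL KK1_o R KK1_L k → (GoodS R KK1x_lU → ∃ m, InS R KK1x_lU m ∧ InS R KK1x_lY (k * m)) :=
    Fm.sound M.μ KK1x_ky_F KK1x_ky_chk M.reps
  (fun k h0 => (Exists.imp (fun m h1 => ⟨(KK1x_lU_E M).iff.1 h1.1, ((KK1x_lY_E M).iff.1 h1.2)⟩) ((h k (M.H.iff.2 h0)) (KK1x_lU_E M).good)))
noncomputable def KK2x_ky_t0 : ST := (.node (nat_lit 16603) (.node (nat_lit 8855) (.node (nat_lit 5152) (.node (nat_lit 2305) (.node (nat_lit 1232) (.node (nat_lit 381) (.node (nat_lit 202) (.node (nat_lit 20) (.node (nat_lit 9) (.leaf (nat_lit 5)) (.leaf (nat_lit 4))) (.node (nat_lit 66) (.leaf (nat_lit 2)) (.leaf (nat_lit 3)))) (.node (nat_lit 256) (.node (nat_lit 234) (.leaf (nat_lit 5)) (.leaf (nat_lit 4))) (.node (nat_lit 260) (.leaf (nat_lit 5)) (.node (nat_lit 321) (.leaf (nat_lit 2)) (.leaf (nat_lit 3)))))) (.node (nat_lit 876) (.node (nat_lit 515) (.node (nat_lit 457) (.leaf (nat_lit 0)) (.leaf (nat_lit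 5))) (.node (nat_lit 621) (.leaf (nat_lit 2)) (.node (nat_lit 785) (.leaf (nat_lit 0)) (.leaf (nat_lit 4))))) (.node (nat_lit 977) (.node (nat_lit 927) (.leaf (nat_lit 0)) (.leaf (nat_lit 3))) (.node (nat_lit 1025) (.leaf (nat_lit 0)) (.node (nat_lit 1167) (.leaf (nat_lit 4)) (.leaf (nat_lit 3))))))) (.node (nat_lit 1675) (.node (nat_lit 1420) (.node (nat_lit 1340) (.node (nat_lit 1280) (.leaf (nat_lit 0)) (.leaf (nat_lit 4))) (.node (nat_lit 1357) (.leaf (nat_lit 5)) (.leaf (nat_lit 4)))) (.node (nat_lit 1580) (.node (nat_lit 1506) (.leaf (nat_lit 3)) (.leaf (nat_lit 0))) (.node (nat_lit 1612) (.leaf (nat_lit 5)) (.node (nat_lit 1648) (.leaf (nat_lit 4)) (.leaf (nat_lit 5)))))) (.node (nat_lit 2247) (.node (nat_lit 1835) (.node (nat_lit 1746) (.leaf (nat_lit 3)) (.leaf (nat_lit 0))) (.node (nat_lit 1999) (.leaf (nat_lit 5)) (.node (nat_lit 2143) (.leaf (nat_lit 0)) (.leaf (nat_lit 5))))) (.node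 (nat_lit 2262) (.node (nat_lit 2254) (.leaf (nat_lit 1)) (.leaf (nat_lit 0))) (.node (nat_lit 2269) (.leaf (nat_lit 1)) (.node (nat_lit 2271) (.leaf (nat_lit 0)) (.leaf (nat_lit 1)))))))) (.node (nat_lit 4135) (.node (nat_lit 3832) (.node (nat_lit 2707) (.node (nat_lit 2487) (.node (nat_lit 2467) (.leaf (nat_lit 3)) (.leaf (nat_lit 2))) (.node (nat_lit 2545) (.leaf (nat_lit 1)) (.leaf (nat_lit 3)))) (.node (nat_lit 2800) (.node (nat_lit 2742) (.leaf (nat_lit 2)) (.leaf (nat_lit 1))) (.node (nat_lit 2823) (.leaf (nat_lit 3)) (.node (nat_lit 3625) (.leaf (nat_lit 2)) (.leaf (nat_lit 1)))))) (.node (nat_lit 3933) (.node (nat_lit 3890) (.node (nat_lit 3865) (.leaf (nat_lit 2)) (.leaf (nat_lit 1))) (.node (nat_lit 3895) (.leaf (nat_lit 5)) (.node (nat_lit 3905) (.leaf (nat_lit 1)) (.leaf (nat_lit 5))))) (.node (nat_lit 4085) (.node (nat_lit 3977) (.leaf (nat_lit 1)) (.leaf (nat_lit 0))) (.node (nat_lit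 4120) (.leaf (nat_lit 2)) (.node (nat_lit 4130) (.leaf (nat_lit 1)) (.leaf (nat_lit 5))))))) (.node (nat_lit 4428) (.node (nat_lit 4340) (.node (nat_lit 4173) (.node (nat_lit 4160) (.leaf (nat_lit 1)) (.leaf (nat_lit 5))) (.node (nat_lit 4217) (.leaf (nat_lit 1)) (.node (nat_lit 4333) (.leaf (nat_lit 0)) (.leaf (nat_lit 4))))) (.node (nat_lit 4355) (.node (nat_lit 4348) (.leaf (nat_lit 2)) (.leaf (nat_lit 4))) (.node (nat_lit 4357) (.leaf (nat_lit 2)) (.node (nat_lit 4385) (.leaf (nat_lit 4)) (.leaf (nat_lit 5)))))) (.node (nat_lit 4752) (.node (nat_lit 4573) (.node (nat_lit 4472) (.leaf (nat_lit 1)) (.leaf (nat_lit 0))) (.node (nat_lit 4579) (.leaf (nat_lit 4)) (.node (nat_lit 4597) (.leaf (nat_lit 0)) (.leaf (nat_lit 4))))) (.node (nat_lit 4828) (.node (nat_lit 4804) (.leaf (nat_lit 3)) (.leaf (nat_lit 0))) (.node (nat_lit 4912) (.leaf (nat_lit 4)) (.node (nat_lit 4992) (.leaf (nat_lit 5)) (.leaf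 (nat_lit 3))))))))) (.node (nat_lit 6598) (.node (nat_lit 5981) (.node (nat_lit 5625) (.node (nat_lit 5355) (.node (nat_lit 5268) (.node (nat_lit 5247) (.leaf (nat_lit 5)) (.leaf (nat_lit 3))) (.node (nat_lit 5348) (.leaf (nat_lit 5)) (.leaf (nat_lit 3)))) (.node (nat_lit 5407) (.node (nat_lit 5378) (.leaf (nat_lit 0)) (.leaf (nat_lit 3))) (.node (nat_lit 5595) (.leaf (nat_lit 5)) (.node (nat_lit 5603) (.leaf (nat_lit 0)) (.leaf (nat_lit 3)))))) (.node (nat_lit 5850) (.node (nat_lit 5715) (.node (nat_lit 5711) (.leaf (nat_lit 0)) (.leaf (nat_lit 4))) (.node (nat_lit 5726) (.leaf (nat_lit 5)) (.node (nat_lit 5730) (.leaf (nat_lit 4)) (.leaf (nat_lit 5))))) (.node (nat_lit 5927) (.node (nat_lit 5877) (.leaf (nat_lit 0)) (.leaf (nat_lit 3))) (.node (nat_lit 5951) (.leaf (nat_lit 0)) (.node (nat_lit 5957) (.leaf (nat_lit 4)) (.leaf (nat_lit 0))))))) (.node (nat_lit 6197) (.node (nat_lit 6086) (.node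 (nat_lit 6071) (.node (nat_lit 6063) (.leaf (nat_lit 4)) (.leaf (nat_lit 2))) (.node (nat_lit 6078) (.leaf (nat_lit 5)) (.leaf (nat_lit 2)))) (.node (nat_lit 6175) (.node (nat_lit 6117) (.leaf (nat_lit 5)) (.leaf (nat_lit 3))) (.node (nat_lit 6182) (.leaf (nat_lit 1)) (.node (nat_lit 6190) (.leaf (nat_lit 0)) (.leaf (nat_lit 1)))))) (.node (nat_lit 6400) (.node (nat_lit 6303) (.node (nat_lit 6206) (.leaf (nat_lit 0)) (.leaf (nat_lit 4))) (.node (nat_lit 6370) (.leaf (nat_lit 2)) (.node (nat_lit 6395) (.leaf (nat_lit 3)) (.leaf (nat_lit 2))))) (.node (nat_lit 6415) (.node (nat_lit 6410) (.leaf (nat_lit 3)) (.leaf (nat_lit 2))) (.node (nat_lit 6514) (.leaf (nat_lit 1)) (.node (nat_lit 6558) (.leaf (nat_lit 4)) (.leaf (nat_lit 2)))))))) (.node (nat_lit 7793) (.node (nat_lit 7197) (.node (nat_lit 6665) (.node (nat_lit 6635) (.node (nat_lit 6625) (.leaf (nat_lit 5)) (.leaf (nat_lit 3))) (.node (nat_lit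 6640) (.leaf (nat_lit 2)) (.leaf (nat_lit 3)))) (.node (nat_lit 6838) (.node (nat_lit 6670) (.leaf (nat_lit 2)) (.leaf (nat_lit 1))) (.node (nat_lit 6890) (.leaf (nat_lit 5)) (.node (nat_lit 7093) (.leaf (nat_lit 2)) (.leaf (nat_lit 5)))))) (.node (nat_lit 7711) (.node (nat_lit 7467) (.node (nat_lit 7441) (.leaf (nat_lit 1)) (.leaf (nat_lit 2))) (.node (nat_lit 7681) (.leaf (nat_lit 1)) (.node (nat_lit 7692) (.leaf (nat_lit 2)) (.leaf (nat_lit 1))))) (.node (nat_lit 7773) (.node (nat_lit 7745) (.leaf (nat_lit 2)) (.leaf (nat_lit 1))) (.node (nat_lit 7775) (.leaf (nat_lit 2)) (.node (nat_lit 7788) (.leaf (nat_lit 1)) (.leaf (nat_lit 2))))))) (.node (nat_lit 8283) (.node (nat_lit 8043) (.node (nat_lit 8000) (.node (nat_lit 7936) (.leaf (nat_lit 1)) (.leaf (nat_lit 2))) (.node (nat_lit 8013) (.leaf (nat_lit 1)) (.node (nat_lit 8015) (.leaf (nat_lit 2)) (.leaf (nat_lit 1))))) (.node (nat_lit 8261)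 (.node (nat_lit 8048) (.leaf (nat_lit 2)) (.leaf (nat_lit 1))) (.node (nat_lit 8268) (.leaf (nat_lit 4)) (.node (nat_lit 8276) (.leaf (nat_lit 2)) (.leaf (nat_lit 4)))))) (.node (nat_lit 8501) (.node (nat_lit 8356) (.node (nat_lit 8348) (.leaf (nat_lit 2)) (.leaf (nat_lit 3))) (.node (nat_lit 8363) (.leaf (nat_lit 1)) (.node (nat_lit 8371) (.leaf (nat_lit 3)) (.leaf (nat_lit 1))))) (.node (nat_lit 8756) (.node (nat_lit 8588) (.leaf (nat_lit 4)) (.leaf (nat_lit 3))) (.node (nat_lit 8840) (.leaf (nat_lit 4)) (.node (nat_lit 8843) (.leaf (nat_lit 5)) (.leaf (nat_lit 3)))))))))) (.node (nat_lit 13289) (.node (nat_lit 10526) (.node (nat_lit 9388) (.node (nat_lit 9143) (.node (nat_lit 8920) (.node (nat_lit 8883) (.node (nat_lit 8858) (.leaf (nat_lit 5)) (.leaf (nat_lit 3))) (.node (nat_lit 8903) (.leaf (nat_lit 1)) (.leaf (nat_lit 0)))) (.node (nat_lit 8950) (.node (nat_lit 8927) (.leaf (nat_lit 3))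 (.leaf (nat_lit 0))) (.node (nat_lit 9080) (.leaf (nat_lit 3)) (.node (nat_lit 9123) (.leaf (nat_lit 5)) (.leaf (nat_lit 1)))))) (.node (nat_lit 9175) (.node (nat_lit 9153) (.node (nat_lit 9148) (.leaf (nat_lit 0)) (.leaf (nat_lit 5))) (.node (nat_lit 9163) (.leaf (nat_lit 1)) (.node (nat_lit 9167) (.leaf (nat_lit 5)) (.leaf (nat_lit 0))))) (.node (nat_lit 9283) (.node (nat_lit 9197) (.leaf (nat_lit 3)) (.leaf (nat_lit 0))) (.node (nat_lit 9335) (.leaf (nat_lit 4)) (.node (nat_lit 9378) (.leaf (nat_lit 5)) (.leaf (nat_lit 1))))))) (.node (nat_lit 9726) (.node (nat_lit 9422) (.node (nat_lit 9398) (.node (nat_lit 9393) (.leaf (nat_lit 5)) (.leaf (nat_lit 1))) (.node (nat_lit 9418) (.leaf (nat_lit 0)) (.leaf (nat_lit 5)))) (.node (nat_lit 9643) (.node (nat_lit 9523) (.leaf (nat_lit 0)) (.leaf (nat_lit 4))) (.node (nat_lit 9654) (.leaf (nat_lit 5)) (.node (nat_lit 9658) (.leaf (nat_lit 4)) (.leaf (nat_lit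 5)))))) (.node (nat_lit 10281) (.node (nat_lit 9966) (.node (nat_lit 9778) (.leaf (nat_lit 3)) (.leaf (nat_lit 4))) (.node (nat_lit 10086) (.leaf (nat_lit 3)) (.node (nat_lit 10221) (.leaf (nat_lit 4)) (.leaf (nat_lit 3))))) (.node (nat_lit 10442) (.node (nat_lit 10298) (.leaf (nat_lit 0)) (.leaf (nat_lit 3))) (.node (nat_lit 10502) (.leaf (nat_lit 4)) (.node (nat_lit 10521) (.leaf (nat_lit 5)) (.leaf (nat_lit 0)))))))) (.node (nat_lit 11209) (.node (nat_lit 10989) (.node (nat_lit 10742) (.node (nat_lit 10553) (.node (nat_lit 10551) (.leaf (nat_lit 5)) (.leaf (nat_lit 0))) (.node (nat_lit 10589) (.leaf (nat_lit 3)) (.leaf (nat_lit 0)))) (.node (nat_lit 10796) (.node (nat_lit 10776) (.leaf (nat_lit 5)) (.leaf (nat_lit 0))) (.node (nat_lit 10829) (.leaf (nat_lit 5)) (.node (nat_lit 10969) (.leaf (nat_lit 0)) (.leaf (nat_lit 4)))))) (.node (nat_lit 11021) (.node (nat_lit 11004) (.node (nat_lit 10997)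 (.leaf (nat_lit 2)) (.leaf (nat_lit 5))) (.node (nat_lit 11012) (.leaf (nat_lit 2)) (.node (nat_lit 11013) (.leaf (nat_lit 5)) (.leaf (nat_lit 2))))) (.node (nat_lit 11036) (.node (nat_lit 11028) (.leaf (nat_lit 5)) (.leaf (nat_lit 2))) (.node (nat_lit 11084) (.leaf (nat_lit 5)) (.node (nat_lit 11125) (.leaf (nat_lit 0)) (.leaf (nat_lit 1))))))) (.node (nat_lit 12831) (.node (nat_lit 11464) (.node (nat_lit 11239) (.node (nat_lit 11229) (.leaf (nat_lit 4)) (.leaf (nat_lit 2))) (.node (nat_lit 11253) (.leaf (nat_lit 4)) (.node (nat_lit 11365) (.leaf (nat_lit 2)) (.leaf (nat_lit 1))))) (.node (nat_lit 11620) (.node (nat_lit 11484) (.leaf (nat_lit 4)) (.leaf (nat_lit 2))) (.node (nat_lit 12367) (.leaf (nat_lit 1)) (.node (nat_lit 12787) (.leaf (nat_lit 2)) (.leaf (nat_lit 1)))))) (.node (nat_lit 13101) (.node (nat_lit 13027) (.node (nat_lit 12862) (.leaf (nat_lit 0)) (.leaf (nat_lit 2))) (.node (nat_lit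 13071) (.leaf (nat_lit 1)) (.node (nat_lit 13081) (.leaf (nat_lit 0)) (.leaf (nat_lit 1))))) (.node (nat_lit 13211) (.node (nat_lit 13170) (.leaf (nat_lit 0)) (.leaf (nat_lit 2))) (.node (nat_lit 13274) (.leaf (nat_lit 4)) (.node (nat_lit 13282) (.leaf (nat_lit 3)) (.leaf (nat_lit 1))))))))) (.node (nat_lit 15137) (.node (nat_lit 14014) (.node (nat_lit 13519) (.node (nat_lit 13313) (.node (nat_lit 13298) (.node (nat_lit 13297) (.leaf (nat_lit 3)) (.leaf (nat_lit 1))) (.node (nat_lit 13306) (.leaf (nat_lit 3)) (.leaf (nat_lit 1)))) (.node (nat_lit 13326) (.node (nat_lit 13321) (.leaf (nat_lit 3)) (.leaf (nat_lit 1))) (.node (nat_lit 13451) (.leaf (nat_lit 0)) (.node (nat_lit 13514) (.leaf (nat_lit 4)) (.leaf (nat_lit 3)))))) (.node (nat_lit 13769) (.node (nat_lit 13706) (.node (nat_lit 13538) (.leaf (nat_lit 4)) (.leaf (nat_lit 3))) (.node (nat_lit 13742) (.leaf (nat_lit 4)) (.node (nat_lit 13759)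 (.leaf (nat_lit 5)) (.leaf (nat_lit 4))))) (.node (nat_lit 13793) (.node (nat_lit 13789) (.leaf (nat_lit 3)) (.leaf (nat_lit 4))) (.node (nat_lit 13853) (.leaf (nat_lit 3)) (.node (nat_lit 13982) (.leaf (nat_lit 0)) (.leaf (nat_lit 5))))))) (.node (nat_lit 14873) (.node (nat_lit 14569) (.node (nat_lit 14093) (.node (nat_lit 14074) (.leaf (nat_lit 4)) (.leaf (nat_lit 5))) (.node (nat_lit 14237) (.leaf (nat_lit 0)) (.node (nat_lit 14348) (.leaf (nat_lit 5)) (.leaf (nat_lit 0))))) (.node (nat_lit 14656) (.node (nat_lit 14652) (.leaf (nat_lit 5)) (.leaf (nat_lit 3))) (.node (nat_lit 14667) (.leaf (nat_lit 0)) (.node (nat_lit 14671) (.leaf (nat_lit 3)) (.leaf (nat_lit 0)))))) (.node (nat_lit 14932) (.node (nat_lit 14897) (.node (nat_lit 14892) (.leaf (nat_lit 4)) (.leaf (nat_lit 3))) (.node (nat_lit 14917) (.leaf (nat_lit 4)) (.node (nat_lit 14922) (.leaf (nat_lit 2)) (.leaf (nat_lit 3))))) (.node (nat_lit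 15012) (.node (nat_lit 14960) (.leaf (nat_lit 2)) (.leaf (nat_lit 3))) (.node (nat_lit 15113) (.leaf (nat_lit 0)) (.node (nat_lit 15120) (.leaf (nat_lit 4)) (.leaf (nat_lit 5)))))))) (.node (nat_lit 15939) (.node (nat_lit 15390) (.node (nat_lit 15167) (.node (nat_lit 15157) (.node (nat_lit 15147) (.leaf (nat_lit 4)) (.leaf (nat_lit 3))) (.node (nat_lit 15162) (.leaf (nat_lit 2)) (.leaf (nat_lit 3)))) (.node (nat_lit 15200) (.node (nat_lit 15187) (.leaf (nat_lit 4)) (.leaf (nat_lit 2))) (.node (nat_lit 15360) (.leaf (nat_lit 3)) (.node (nat_lit 15368) (.leaf (nat_lit 5)) (.leaf (nat_lit 4)))))) (.node (nat_lit 15467) (.node (nat_lit 15412) (.node (nat_lit 15392) (.leaf (nat_lit 5)) (.leaf (nat_lit 4))) (.node (nat_lit 15452) (.leaf (nat_lit 2)) (.node (nat_lit 15455) (.leaf (nat_lit 5)) (.leaf (nat_lit 3))))) (.node (nat_lit 15539) (.node (nat_lit 15470) (.leaf (nat_lit 5)) (.leaf (nat_lit 3)))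 (.node (nat_lit 15615) (.leaf (nat_lit 0)) (.node (nat_lit 15779) (.leaf (nat_lit 5)) (.leaf (nat_lit 0))))))) (.node (nat_lit 16295) (.node (nat_lit 16034) (.node (nat_lit 15954) (.node (nat_lit 15947) (.leaf (nat_lit 2)) (.leaf (nat_lit 5))) (.node (nat_lit 15962) (.leaf (nat_lit 2)) (.node (nat_lit 16027) (.leaf (nat_lit 5)) (.leaf (nat_lit 1))))) (.node (nat_lit 16049) (.node (nat_lit 16042) (.leaf (nat_lit 0)) (.leaf (nat_lit 1))) (.node (nat_lit 16179) (.leaf (nat_lit 0)) (.node (nat_lit 16267) (.leaf (nat_lit 2)) (.leaf (nat_lit 1)))))) (.node (nat_lit 16522) (.node (nat_lit 16310) (.node (nat_lit 16297) (.leaf (nat_lit 2)) (.leaf (nat_lit 1))) (.node (nat_lit 16359) (.leaf (nat_lit 2)) (.node (nat_lit 16434) (.leaf (nat_lit 1)) (.leaf (nat_lit 2))))) (.node (nat_lit 16537) (.node (nat_lit 16535) (.leaf (nat_lit 1)) (.leaf (nat_lit 2))) (.node (nat_lit 16565) (.leaf (nat_lit 1)) (.node (nat_lit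 16599) (.leaf (nat_lit 2)) (.leaf (nat_lit 1))))))))))) (.node (nat_lit 26642) (.node (nat_lit 20405) (.node (nat_lit 18464) (.node (nat_lit 17915) (.node (nat_lit 17645) (.node (nat_lit 16873) (.node (nat_lit 16742) (.node (nat_lit 16629) (.leaf (nat_lit 2)) (.leaf (nat_lit 1))) (.node (nat_lit 16854) (.leaf (nat_lit 2)) (.leaf (nat_lit 1)))) (.node (nat_lit 17405) (.node (nat_lit 17202) (.leaf (nat_lit 2)) (.leaf (nat_lit 3))) (.node (nat_lit 17442) (.leaf (nat_lit 1)) (.node (nat_lit 17625) (.leaf (nat_lit 3)) (.leaf (nat_lit 2)))))) (.node (nat_lit 17737) (.node (nat_lit 17675) (.node (nat_lit 17670) (.leaf (nat_lit 1)) (.leaf (nat_lit 5))) (.node (nat_lit 17685) (.leaf (nat_lit 1)) (.node (nat_lit 17697) (.leaf (nat_lit 5)) (.leaf (nat_lit 3))))) (.node (nat_lit 17865) (.node (nat_lit 17781) (.leaf (nat_lit 1)) (.leaf (nat_lit 0))) (.node (nat_lit 17900) (.leaf (nat_lit 2)) (.node (nat_lit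 17910) (.leaf (nat_lit 1)) (.leaf (nat_lit 5))))))) (.node (nat_lit 18224) (.node (nat_lit 18113) (.node (nat_lit 17977) (.node (nat_lit 17923) (.leaf (nat_lit 1)) (.leaf (nat_lit 5))) (.node (nat_lit 18021) (.leaf (nat_lit 1)) (.leaf (nat_lit 0)))) (.node (nat_lit 18128) (.node (nat_lit 18120) (.leaf (nat_lit 4)) (.leaf (nat_lit 2))) (.node (nat_lit 18135) (.leaf (nat_lit 4)) (.node (nat_lit 18163) (.leaf (nat_lit 2)) (.leaf (nat_lit 5)))))) (.node (nat_lit 18353) (.node (nat_lit 18239) (.node (nat_lit 18232) (.leaf (nat_lit 3)) (.leaf (nat_lit 1))) (.node (nat_lit 18247) (.leaf (nat_lit 3)) (.node (nat_lit 18276) (.leaf (nat_lit 1)) (.leaf (nat_lit 0))))) (.node (nat_lit 18383) (.node (nat_lit 18359) (.leaf (nat_lit 4)) (.leaf (nat_lit 0))) (.node (nat_lit 18418) (.leaf (nat_lit 4)) (.node (nat_lit 18445) (.leaf (nat_lit 5)) (.leaf (nat_lit 4)))))))) (.node (nat_lit 19683) (.node (nat_lit 18940)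 (.node (nat_lit 18608) (.node (nat_lit 18595) (.node (nat_lit 18584) (.leaf (nat_lit 3)) (.leaf (nat_lit 0))) (.node (nat_lit 18599) (.leaf (nat_lit 3)) (.leaf (nat_lit 0)))) (.node (nat_lit 18715) (.node (nat_lit 18692) (.leaf (nat_lit 4)) (.leaf (nat_lit 5))) (.node (nat_lit 18719) (.leaf (nat_lit 4)) (.node (nat_lit 18932) (.leaf (nat_lit 3)) (.leaf (nat_lit 5)))))) (.node (nat_lit 19187) (.node (nat_lit 19027) (.node (nat_lit 18962) (.leaf (nat_lit 4)) (.leaf (nat_lit 5))) (.node (nat_lit 19048) (.leaf (nat_lit 3)) (.node (nat_lit 19075) (.leaf (nat_lit 5)) (.leaf (nat_lit 3))))) (.node (nat_lit 19443) (.node (nat_lit 19383) (.leaf (nat_lit 5)) (.leaf (nat_lit 3))) (.node (nat_lit 19491) (.leaf (nat_lit 0)) (.node (nat_lit 19543) (.leaf (nat_lit 4)) (.leaf (nat_lit 5))))))) (.node (nat_lit 19977) (.node (nat_lit 19910) (.node (nat_lit 19737) (.node (nat_lit 19731) (.leaf (nat_lit 0)) (.leaf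 (nat_lit 4))) (.node (nat_lit 19761) (.leaf (nat_lit 0)) (.node (nat_lit 19867) (.leaf (nat_lit 4)) (.leaf (nat_lit 2))))) (.node (nat_lit 19955) (.node (nat_lit 19938) (.leaf (nat_lit 3)) (.leaf (nat_lit 0))) (.node (nat_lit 19962) (.leaf (nat_lit 1)) (.node (nat_lit 19970) (.leaf (nat_lit 0)) (.leaf (nat_lit 1)))))) (.node (nat_lit 20180) (.node (nat_lit 20107) (.node (nat_lit 19986) (.leaf (nat_lit 0)) (.leaf (nat_lit 4))) (.node (nat_lit 20150) (.leaf (nat_lit 2)) (.node (nat_lit 20175) (.leaf (nat_lit 3)) (.leaf (nat_lit 2))))) (.node (nat_lit 20195) (.node (nat_lit 20190) (.leaf (nat_lit 3)) (.leaf (nat_lit 2))) (.node (nat_lit 20318) (.leaf (nat_lit 1)) (.node (nat_lit 20362) (.leaf (nat_lit 4)) (.leaf (nat_lit 2))))))))) (.node (nat_lit 23558) (.node (nat_lit 22152) (.node (nat_lit 21573) (.node (nat_lit 20448) (.node (nat_lit 20420) (.node (nat_lit 20415) (.leaf (nat_lit 3)) (.leaf (nat_lit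 2))) (.node (nat_lit 20445) (.leaf (nat_lit 3)) (.leaf (nat_lit 2)))) (.node (nat_lit 20703) (.node (nat_lit 20670) (.leaf (nat_lit 1)) (.leaf (nat_lit 2))) (.node (nat_lit 21495) (.leaf (nat_lit 1)) (.node (nat_lit 21529) (.leaf (nat_lit 5)) (.leaf (nat_lit 2)))))) (.node (nat_lit 22024) (.node (nat_lit 21769) (.node (nat_lit 21735) (.leaf (nat_lit 1)) (.leaf (nat_lit 5))) (.node (nat_lit 21828) (.leaf (nat_lit 2)) (.node (nat_lit 21990) (.leaf (nat_lit 1)) (.leaf (nat_lit 5))))) (.node (nat_lit 22048) (.node (nat_lit 22041) (.leaf (nat_lit 2)) (.leaf (nat_lit 4))) (.node (nat_lit 22056) (.leaf (nat_lit 2)) (.node (nat_lit 22063) (.leaf (nat_lit 4)) (.leaf (nat_lit 2))))))) (.node (nat_lit 22923) (.node (nat_lit 22647) (.node (nat_lit 22392) (.node (nat_lit 22281) (.leaf (nat_lit 3)) (.leaf (nat_lit 4))) (.node (nat_lit 22534) (.leaf (nat_lit 3)) (.node (nat_lit 22596) (.leaf (nat_lit 4)) (.leaf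 (nat_lit 5))))) (.node (nat_lit 22700) (.node (nat_lit 22683) (.leaf (nat_lit 3)) (.leaf (nat_lit 0))) (.node (nat_lit 22789) (.leaf (nat_lit 3)) (.node (nat_lit 22836) (.leaf (nat_lit 4)) (.leaf (nat_lit 5)))))) (.node (nat_lit 23178) (.node (nat_lit 23015) (.node (nat_lit 22955) (.leaf (nat_lit 0)) (.leaf (nat_lit 3))) (.node (nat_lit 23063) (.leaf (nat_lit 0)) (.node (nat_lit 23089) (.leaf (nat_lit 4)) (.leaf (nat_lit 5))))) (.node (nat_lit 23344) (.node (nat_lit 23303) (.leaf (nat_lit 0)) (.leaf (nat_lit 4))) (.node (nat_lit 23419) (.leaf (nat_lit 5)) (.node (nat_lit 23510) (.leaf (nat_lit 4)) (.leaf (nat_lit 0)))))))) (.node (nat_lit 24881) (.node (nat_lit 24214) (.node (nat_lit 23974) (.node (nat_lit 23814) (.node (nat_lit 23780) (.leaf (nat_lit 4)) (.leaf (nat_lit 1))) (.node (nat_lit 23914) (.leaf (nat_lit 3)) (.leaf (nat_lit 4)))) (.node (nat_lit 24054) (.node (nat_lit 24020) (.leaf (nat_lit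 5)) (.leaf (nat_lit 1))) (.node (nat_lit 24061) (.leaf (nat_lit 3)) (.node (nat_lit 24078) (.leaf (nat_lit 0)) (.leaf (nat_lit 3)))))) (.node (nat_lit 24333) (.node (nat_lit 24301) (.node (nat_lit 24275) (.leaf (nat_lit 5)) (.leaf (nat_lit 1))) (.node (nat_lit 24309) (.leaf (nat_lit 0)) (.node (nat_lit 24331) (.leaf (nat_lit 3)) (.leaf (nat_lit 0))))) (.node (nat_lit 24469) (.node (nat_lit 24393) (.leaf (nat_lit 3)) (.leaf (nat_lit 0))) (.node (nat_lit 24556) (.leaf (nat_lit 5)) (.node (nat_lit 24769) (.leaf (nat_lit 0)) (.leaf (nat_lit 2))))))) (.node (nat_lit 25629) (.node (nat_lit 25009) (.node (nat_lit 24896) (.node (nat_lit 24888) (.leaf (nat_lit 1)) (.leaf (nat_lit 0))) (.node (nat_lit 24903) (.leaf (nat_lit 1)) (.node (nat_lit 24905) (.leaf (nat_lit 0)) (.leaf (nat_lit 1))))) (.node (nat_lit 25264) (.node (nat_lit 25121) (.leaf (nat_lit 2)) (.leaf (nat_lit 1))) (.node (nat_lit 25374) (.leaf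 (nat_lit 2)) (.node (nat_lit 25596) (.leaf (nat_lit 1)) (.leaf (nat_lit 2)))))) (.node (nat_lit 26387) (.node (nat_lit 26147) (.node (nat_lit 25866) (.leaf (nat_lit 1)) (.leaf (nat_lit 4))) (.node (nat_lit 26259) (.leaf (nat_lit 2)) (.node (nat_lit 26361) (.leaf (nat_lit 1)) (.leaf (nat_lit 4))))) (.node (nat_lit 26479) (.node (nat_lit 26421) (.leaf (nat_lit 2)) (.leaf (nat_lit 5))) (.node (nat_lit 26499) (.leaf (nat_lit 2)) (.node (nat_lit 26611) (.leaf (nat_lit 1)) (.leaf (nat_lit 0)))))))))) (.node (nat_lit 30345) (.node (nat_lit 28585) (.node (nat_lit 27386) (.node (nat_lit 26982) (.node (nat_lit 26777) (.node (nat_lit 26719) (.node (nat_lit 26661) (.leaf (nat_lit 2)) (.leaf (nat_lit 5))) (.node (nat_lit 26754) (.leaf (nat_lit 2)) (.leaf (nat_lit 1)))) (.node (nat_lit 26916) (.node (nat_lit 26851) (.leaf (nat_lit 5)) (.leaf (nat_lit 0))) (.node (nat_lit 26967) (.leaf (nat_lit 5)) (.node (nat_lit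 26974) (.leaf (nat_lit 4)) (.leaf (nat_lit 2)))))) (.node (nat_lit 27104) (.node (nat_lit 26991) (.node (nat_lit 26989) (.leaf (nat_lit 4)) (.leaf (nat_lit 2))) (.node (nat_lit 27017) (.leaf (nat_lit 4)) (.node (nat_lit 27054) (.leaf (nat_lit 5)) (.leaf (nat_lit 3))))) (.node (nat_lit 27272) (.node (nat_lit 27207) (.leaf (nat_lit 0)) (.leaf (nat_lit 4))) (.node (nat_lit 27294) (.leaf (nat_lit 5)) (.node (nat_lit 27359) (.leaf (nat_lit 3)) (.leaf (nat_lit 0))))))) (.node (nat_lit 27786) (.node (nat_lit 27561) (.node (nat_lit 27546) (.node (nat_lit 27460) (.leaf (nat_lit 3)) (.leaf (nat_lit 4))) (.node (nat_lit 27549) (.leaf (nat_lit 5)) (.leaf (nat_lit 3)))) (.node (nat_lit 27633) (.node (nat_lit 27564) (.leaf (nat_lit 5)) (.leaf (nat_lit 3))) (.node (nat_lit 27656) (.leaf (nat_lit 0)) (.node (nat_lit 27715) (.leaf (nat_lit 3)) (.leaf (nat_lit 4)))))) (.node (nat_lit 28128) (.node (nat_lit 27881)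 (.node (nat_lit 27873) (.leaf (nat_lit 5)) (.leaf (nat_lit 0))) (.node (nat_lit 27903) (.leaf (nat_lit 3)) (.node (nat_lit 28039) (.leaf (nat_lit 0)) (.leaf (nat_lit 5))))) (.node (nat_lit 28345) (.node (nat_lit 28294) (.leaf (nat_lit 0)) (.leaf (nat_lit 5))) (.node (nat_lit 28432) (.leaf (nat_lit 4)) (.node (nat_lit 28484) (.leaf (nat_lit 3)) (.leaf (nat_lit 0)))))))) (.node (nat_lit 29207) (.node (nat_lit 28927) (.node (nat_lit 28706) (.node (nat_lit 28697) (.node (nat_lit 28672) (.leaf (nat_lit 4)) (.leaf (nat_lit 3))) (.node (nat_lit 28702) (.leaf (nat_lit 2)) (.leaf (nat_lit 3)))) (.node (nat_lit 28721) (.node (nat_lit 28712) (.leaf (nat_lit 1)) (.leaf (nat_lit 2))) (.node (nat_lit 28764) (.leaf (nat_lit 1)) (.node (nat_lit 28840) (.leaf (nat_lit 3)) (.leaf (nat_lit 4)))))) (.node (nat_lit 28976) (.node (nat_lit 28942) (.node (nat_lit 28937) (.leaf (nat_lit 3)) (.leaf (nat_lit 2))) (.node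 (nat_lit 28946) (.leaf (nat_lit 3)) (.node (nat_lit 28950) (.leaf (nat_lit 1)) (.leaf (nat_lit 2))))) (.node (nat_lit 29062) (.node (nat_lit 29004) (.leaf (nat_lit 1)) (.leaf (nat_lit 3))) (.node (nat_lit 29190) (.leaf (nat_lit 1)) (.node (nat_lit 29201) (.leaf (nat_lit 2)) (.leaf (nat_lit 1))))))) (.node (nat_lit 30017) (.node (nat_lit 29445) (.node (nat_lit 29220) (.node (nat_lit 29216) (.leaf (nat_lit 2)) (.leaf (nat_lit 1))) (.node (nat_lit 29259) (.leaf (nat_lit 2)) (.node (nat_lit 29302) (.leaf (nat_lit 3)) (.leaf (nat_lit 1))))) (.node (nat_lit 29719) (.node (nat_lit 29557) (.leaf (nat_lit 2)) (.leaf (nat_lit 1))) (.node (nat_lit 29831) (.leaf (nat_lit 2)) (.node (nat_lit 29959) (.leaf (nat_lit 1)) (.leaf (nat_lit 2)))))) (.node (nat_lit 30099) (.node (nat_lit 30075) (.node (nat_lit 30071) (.leaf (nat_lit 5)) (.leaf (nat_lit 1))) (.node (nat_lit 30084) (.leaf (nat_lit 2)) (.node (nat_lit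 30090) (.leaf (nat_lit 1)) (.leaf (nat_lit 2))))) (.node (nat_lit 30257) (.node (nat_lit 30214) (.leaf (nat_lit 1)) (.leaf (nat_lit 2))) (.node (nat_lit 30315) (.leaf (nat_lit 5)) (.node (nat_lit 30324) (.leaf (nat_lit 2)) (.leaf (nat_lit 1))))))))) (.node (nat_lit 32285) (.node (nat_lit 31287) (.node (nat_lit 30589) (.node (nat_lit 30436) (.node (nat_lit 30354) (.node (nat_lit 30349) (.leaf (nat_lit 2)) (.leaf (nat_lit 5))) (.node (nat_lit 30364) (.leaf (nat_lit 1)) (.leaf (nat_lit 5)))) (.node (nat_lit 30570) (.node (nat_lit 30512) (.leaf (nat_lit 0)) (.leaf (nat_lit 5))) (.node (nat_lit 30579) (.leaf (nat_lit 2)) (.node (nat_lit 30585) (.leaf (nat_lit 1)) (.leaf (nat_lit 2)))))) (.node (nat_lit 30844) (.node (nat_lit 30619) (.node (nat_lit 30594) (.leaf (nat_lit 5)) (.leaf (nat_lit 1))) (.node (nat_lit 30676) (.leaf (nat_lit 5)) (.node (nat_lit 30792) (.leaf (nat_lit 0)) (.leaf (nat_lit 4)))))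 (.node (nat_lit 30982) (.node (nat_lit 30931) (.leaf (nat_lit 5)) (.leaf (nat_lit 0))) (.node (nat_lit 31032) (.leaf (nat_lit 3)) (.node (nat_lit 31222) (.leaf (nat_lit 4)) (.leaf (nat_lit 3))))))) (.node (nat_lit 31745) (.node (nat_lit 31635) (.node (nat_lit 31418) (.node (nat_lit 31395) (.leaf (nat_lit 4)) (.leaf (nat_lit 5))) (.node (nat_lit 31475) (.leaf (nat_lit 4)) (.node (nat_lit 31537) (.leaf (nat_lit 3)) (.leaf (nat_lit 0))))) (.node (nat_lit 31665) (.node (nat_lit 31643) (.leaf (nat_lit 5)) (.leaf (nat_lit 4))) (.node (nat_lit 31730) (.leaf (nat_lit 5)) (.node (nat_lit 31742) (.leaf (nat_lit 3)) (.leaf (nat_lit 5)))))) (.node (nat_lit 32004) (.node (nat_lit 31890) (.node (nat_lit 31777) (.leaf (nat_lit 3)) (.leaf (nat_lit 0))) (.node (nat_lit 31917) (.leaf (nat_lit 5)) (.node (nat_lit 31967) (.leaf (nat_lit 4)) (.leaf (nat_lit 5))))) (.node (nat_lit 32157) (.node (nat_lit 32030) (.leaf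 (nat_lit 3)) (.leaf (nat_lit 0))) (.node (nat_lit 32222) (.leaf (nat_lit 4)) (.node (nat_lit 32244) (.leaf (nat_lit 5)) (.leaf (nat_lit 3)))))))) (.node (nat_lit 33129) (.node (nat_lit 32542) (.node (nat_lit 32324) (.node (nat_lit 32309) (.node (nat_lit 32302) (.leaf (nat_lit 0)) (.leaf (nat_lit 1))) (.node (nat_lit 32317) (.leaf (nat_lit 0)) (.leaf (nat_lit 1)))) (.node (nat_lit 32410) (.node (nat_lit 32360) (.leaf (nat_lit 0)) (.leaf (nat_lit 3))) (.node (nat_lit 32499) (.leaf (nat_lit 4)) (.node (nat_lit 32522) (.leaf (nat_lit 3)) (.leaf (nat_lit 2)))))) (.node (nat_lit 32797) (.node (nat_lit 32634) (.node (nat_lit 32600) (.leaf (nat_lit 1)) (.leaf (nat_lit 3))) (.node (nat_lit 32665) (.leaf (nat_lit 1)) (.node (nat_lit 32762) (.leaf (nat_lit 4)) (.leaf (nat_lit 2))))) (.node (nat_lit 32874) (.node (nat_lit 32855) (.leaf (nat_lit 1)) (.leaf (nat_lit 3))) (.node (nat_lit 32915) (.leaf (nat_lit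 1)) (.node (nat_lit 33017) (.leaf (nat_lit 0)) (.leaf (nat_lit 2))))))) (.node (nat_lit 34395) (.node (nat_lit 33920) (.node (nat_lit 33623) (.node (nat_lit 33155) (.leaf (nat_lit 1)) (.leaf (nat_lit 0))) (.node (nat_lit 33680) (.leaf (nat_lit 2)) (.node (nat_lit 33863) (.leaf (nat_lit 1)) (.leaf (nat_lit 2))))) (.node (nat_lit 34175) (.node (nat_lit 34116) (.leaf (nat_lit 1)) (.leaf (nat_lit 2))) (.node (nat_lit 34371) (.leaf (nat_lit 1)) (.node (nat_lit 34388) (.leaf (nat_lit 2)) (.leaf (nat_lit 4)))))) (.node (nat_lit 34807) (.node (nat_lit 34410) (.node (nat_lit 34403) (.leaf (nat_lit 2)) (.leaf (nat_lit 4))) (.node (nat_lit 34507) (.leaf (nat_lit 2)) (.node (nat_lit 34628) (.leaf (nat_lit 1)) (.leaf (nat_lit 4))))) (.node (nat_lit 34943) (.node (nat_lit 34883) (.leaf (nat_lit 3)) (.leaf (nat_lit 4))) (.node (nat_lit 34960) (.leaf (nat_lit 5)) (.node (nat_lit 34967) (.leaf (nat_lit 4)) (.leaf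 (nat_lit 5))))))))))))
noncomputable def KK2x_ky_F : Fm := (.all KK2_L (.exG KK2x_lU (fun cs => KK2x_ky_t0.find (Nat.mod (nth (nat_lit 0) cs (nat_lit 0)) (nat_lit 34981))) (.qf (.mem (.mul (.v (nat_lit 1)) (.v (nat_lit 0))) KK2x_lY))))
theorem KK2x_ky_chk : Fm.chk KK2_o KK2x_ky_F KK2x_cs = true := by decide +kernel
theorem KK2x_ky {G : Type*} [Group G] {R : ℕ → G → Prop} {s u v w e f z d2 d3 s2 s3 s0 : G} {H : Subgroup G}
    (M : Mdl KK2_o KK2x_cs KK2_L R [s, u, v, v⁻¹, w, w⁻¹, e, e⁻¹, f, f⁻¹, z, d2, d3, s2, s3, s0] H) :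
    ∀ k ∈ H, ∃ m ∈ sp [u, v], k * m ∈ sp [s, s2, s3, w, w⁻¹, d2, d2⁻¹, d3, d3⁻¹] :=
  have h : ∀ k, InL KK2_o R KK2_L k → (GoodS R KK2x_lU → KK2x_lU ≠ [] → ∃ m, InS R KK2x_lU m ∧ InS R KK2x_lY (k * m)) :=
    Fm.sound M.μ KK2x_ky_F KK2x_ky_chk M.reps
  (fun k h0 => (Exists.imp (fun m h1 => ⟨(KK2x_lU_E M).iff.1 h1.1, ((KK2x_lY_E M).iff.1 h1.2)⟩) ((h k (M.H.iff.2 h0)) (KK2x_lU_E M).good (KK2x_lU_E M).ne)))
noncomputable def KK2x_u1_F : Fm := (.qf (.not (.eq (.v (nat_lit 1)) .one)))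
theorem KK2x_u1_chk : Fm.chk KK2_o KK2x_u1_F KK2x_cs = true := by decide +kernel
theorem KK2x_u1 {G : Type*} [Group G] {R : ℕ → G → Prop} {s u v w e f z d2 d3 s2 s3 s0 : G} {H : Subgroup G}
    (M : Mdl KK2_o KK2x_cs KK2_L R [s, u, v, v⁻¹, w, w⁻¹, e, e⁻¹, f, f⁻¹, z, d2, d3, s2, s3, s0] H) :
    u ≠ 1 :=
  Fm.sound M.μ KK2x_u1_F KK2x_u1_chk M.reps
noncomputable def KK1x_u0_F : Fm := (.qf (.eq (.v (nat_lit 1)) .one))
theorem KK1x_u0_chk : Fm.chk KK1_o KK1x_u0_F KK1x_cs = true := by decide +kernel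
theorem KK1x_u0 {G : Type*} [Group G] {R : ℕ → G → Prop} {s u v w e f z d2 d3 s2 s3 s0 : G} {H : Subgroup G}
    (M : Mdl KK1_o KK1x_cs KK1_L R [s, u, v, v⁻¹, w, w⁻¹, e, e⁻¹, f, f⁻¹, z, d2, d3, s2, s3, s0] H) :
    u = 1 :=
  Fm.sound M.μ KK1x_u0_F KK1x_u0_chk M.reps
structure KF {G : Type*} [Group G] (s u v w e f z d2 d3 s2 s3 s0 : G) : Prop where
  df : z = w * e ∧ d2 = (e * f)⁻¹ ∧ d3 = e⁻¹ * f ∧ s2 = v * s * v⁻¹ ∧ s3 = v⁻¹ * s * v ∧ s0 = (s * v) ^ 3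
  cD : #(sp [w, e, f]) = 27
  cS : #(sp [w, e, f, v]) = 81
  cT : #(sp [d2, d3]) = 9
  cE : #(sp [s, s2, s3]) = 8
  cU : u = 1 ∧ #(sp [u, v]) = 3 ∨ u ≠ 1 ∧ #(sp [u, v]) = 6
  cY : #(sp [s, s2, s3, w, w⁻¹, d2, d2⁻¹, d3, d3⁻¹]) = 216
  cL : #(sp [w, e]) = 9
  ed : e = d2 * d3 ∧ f = d2 * d3 * d3 ∧ z = d2 * d3 * w ∧ d2 = v * w * v⁻¹ ∧ d3 = v * d2 * v⁻¹ ∧ s0 = s * (s2 * s3) ∧ s * s0 = s2 * s3
  sm : s0 * s0 = 1 ∧ s0 ≠ 1 ∧ s0 * v = v * s0 ∧ s0 * w * s0⁻¹ = w⁻¹ ∧ s0 * e * s0⁻¹ = e⁻¹ ∧ s0 * f * s0⁻¹ = f⁻¹ ∧ d2 ≠ 1 ∧ d3 ≠ 1 ∧ z ≠ 1 ∧ e ≠ 1 ∧ f ≠ 1 ∧ v ≠ 1 ∧ z ^ 3 = 1 ∧ u * s * e = e * (u * s) ∧ u * z = z * u ∧ s2 * s3 * w = w * (s2 * s3)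
  tr : TR s s2 s3 w d2 d3
  b1 : u ≠ 1 → B1 d2 d3 w v u
  dd : ∀ d ∈ sp [w, e, f], d ^ 3 = 1 ∧ d * w = w * d ∧ d * e = e * d ∧ d * f = f * d
  nD : ∀ k ∈ sp [s, u, v, v⁻¹, w, w⁻¹, e, e⁻¹, f, f⁻¹], k * w * k⁻¹ ∈ sp [w, e, f] ∧ k * e * k⁻¹ ∈ sp [w, e, f] ∧ k * f * k⁻¹ ∈ sp [w, e, f] ∧ (k * w = w * k → k * e = e * k → k * f = f * k → k ∈ sp [w, e, f]) ∧ (k * v * k⁻¹ ∈ sp [w, e, f, v] → k ^ 4 ∈ sp [w, e, f, v]) ∧ (k * z = z * k → k ∈ sp [u, d2, d3, w, v])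
  sS : ∀ k ∈ sp [w, e, f, v], (k ∈ sp [w, e, f] ∨ (∀ d ∈ sp [w, e, f], d * k = k * d → d = 1 ∨ d = z ∨ d = z⁻¹)) ∧ (k ^ 3 = 1 → k ∈ sp [w, e, f] ∨ (∃ m ∈ sp [w, e, f], m * k * m⁻¹ = v ∨ m * k * m⁻¹ = v⁻¹))
  irr : ∀ d ∈ sp [w, e, f], d = 1 ∨ (∃ k ∈ sp [s, u, v, v⁻¹, w, w⁻¹, e, e⁻¹, f, f⁻¹], ⁅k * d * k⁻¹, s⁆ = w)
  cls : ∀ d ∈ sp [w, e, f], d = 1 ∨ (∃ k ∈ sp [s, u, v, v⁻¹, w, w⁻¹, e, e⁻¹, f, f⁻¹], k * d * k⁻¹ = w ∨ k * d * k⁻¹ = z ∨ k * d * k⁻¹ = f)
  c1 : u = 1 → ∀ k ∈ sp [s, u, v, v⁻¹, w, w⁻¹, e, e⁻¹, f, f⁻¹], k * s = s * k → k * k ∈ sp [d2, d3] ∧ ((k * d2 * k⁻¹ = d2 ∨ k * d2 * k⁻¹ = d2⁻¹) ∧ (k * d3 * k⁻¹ = d3 ∨ k * d3 * k⁻¹ = d3⁻¹)) ∧ (k * d2 = d2 * k → k * d3 = d3 * k → k ∈ sp [d2, d3] ∨ k * s ∈ sp [d2, d3])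
  c23 : u = 1 → ∀ k ∈ sp [s, u, v, v⁻¹, w, w⁻¹, e, e⁻¹, f, f⁻¹], k * (s2 * s3) = s2 * s3 * k → k * k ∈ sp [w]
  nE : u = 1 → ∀ k ∈ sp [s, u, v, v⁻¹, w, w⁻¹, e, e⁻¹, f, f⁻¹], k * s * k⁻¹ ∈ sp [s, s2, s3] → k * s2 * k⁻¹ ∈ sp [s, s2, s3] → k * s3 * k⁻¹ ∈ sp [s, s2, s3] → k ^ 3 ∈ sp [s, s2, s3]
  od : u = 1 → ∀ k ∈ sp [s, u, v, v⁻¹, w, w⁻¹, e, e⁻¹, f, f⁻¹], k ∈ sp [w, e, f] ∨ k ^ 3 ≠ 1 ∧ k ^ 3 * k ^ 3 = 1 ∨ ⁅k, s⁆ ^ 3 ≠ 1 ∧ ⁅k, s⁆ ^ 3 * ⁅k, s⁆ ^ 3 = 1
  eE : ∀ i ∈ sp [s, s2, s3], i = 1 ∨ i = s0 ∨ (∃ m ∈ sp [v], m * i * m⁻¹ = s ∨ m * i * m⁻¹ = s2 * s3)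
  kv : ∀ k ∈ sp [s, u, v, v⁻¹, w, w⁻¹, e, e⁻¹, f, f⁻¹], k * k = 1 → k * v = v * k → k = 1 ∨ (∀ d ∈ sp [w, e, f], k * d = d * k → d = 1)
  ki : ∀ k ∈ sp [s, u, v, v⁻¹, w, w⁻¹, e, e⁻¹, f, f⁻¹], k * k = 1 → k = 1 ∨ (∃ m ∈ sp [s, u, v, v⁻¹, w, w⁻¹, e, e⁻¹, f, f⁻¹], (m * k * m⁻¹ = s ∨ m * k * m⁻¹ = s2 * s3 ∨ m * k * m⁻¹ = s0 ∨ m * k * m⁻¹ = u * s) ∨ m * k * m⁻¹ = u)
  p1 : u = 1 → ∀ k ∈ sp [s, u, v, v⁻¹, w, w⁻¹, e, e⁻¹, f, f⁻¹], k ∈ sp [w, e, f, v, s * s2] ∨ k * s0 ∈ sp [w, e, f, v, s * s2]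
  p2 : u ≠ 1 → ∀ k ∈ sp [s, u, v, v⁻¹, w, w⁻¹, e, e⁻¹, f, f⁻¹], (k ∈ sp [w, e, f, v, s * s2, u * s] ∨ k * s0 ∈ sp [w, e, f, v, s * s2, u * s]) ∧ (k ∈ sp [w, e, f, v, s] ∨ k * u ∈ sp [w, e, f, v, s])
  np : u = 1 → s0 ∉ sp [w, e, f, v, s * s2]
  no : u ≠ 1 → s0 ∉ sp [w, e, f, v, s * s2, u * s] ∧ u ∉ sp [w, e, f, v, s * s2, u * s] ∧ u ∉ sp [w, e, f, v, s]
  ky : ∀ k ∈ sp [s, u, v, v⁻¹, w, w⁻¹, e, e⁻¹, f, f⁻¹], ∃ m ∈ sp [u, v], k * m ∈ sp [s, s2, s3, w, w⁻¹, d2, d2⁻¹, d3, d3⁻¹]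
theorem KK1x_all {G : Type*} [Group G] {R : ℕ → G → Prop} {s u v w e f z d2 d3 s2 s3 s0 : G}
    (M : Mdl KK1_o KK1x_cs KK1_L R [s, u, v, v⁻¹, w, w⁻¹, e, e⁻¹, f, f⁻¹, z, d2, d3, s2, s3, s0] (sp [s, u, v, v⁻¹, w, w⁻¹, e, e⁻¹, f, f⁻¹])) :
    KF s u v w e f z d2 d3 s2 s3 s0 :=
  have r := KK1x_u0 M
  ⟨KK1x_df M,
   KK1x_lD_c M,
   KK1x_lS_c M,
   KK1x_lT_c M,
   KK1x_lE_c M,
   .inl ⟨r, KK1x_lU_c M⟩,
   KK1x_lY_c M,
   KK1x_lL_c M,
   KK1x_ed M,
   KK1x_sm M,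
   KK1x_tr M,
   fun h => (h r).elim,
   KK1x_dd M,
   KK1x_nD M,
   KK1x_sS M,
   KK1x_irr M,
   KK1x_cls M,
   fun _ => KK1x_c1 M,
   fun _ => KK1x_c23 M,
   fun _ => KK1x_nE M,
   fun _ => KK1x_od M,
   KK1x_eE M,
   KK1x_kv M,
   KK1x_ki M,
   fun _ => KK1x_p1 M,
   fun h => (h r).elim,
   fun _ => KK1x_np M,
   fun h => (h r).elim,
   KK1x_ky M⟩
theorem KK1_fin {G : Type*} [Group G] {s u v w e f : G}
    (h : KR w e f v s u)
    (r : u = 1)
    (n1 : w ≠ 1) : KF s u v w e f (w * e) ((e * f)⁻¹) (e⁻¹ * f) (v * s * v⁻¹) (v⁻¹ * s * v) ((s * v) ^ 3) ∧ #(sp [s, u, v, v⁻¹, w, w⁻¹, e, e⁻¹, f, f⁻¹]) = 648 :=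
  have ⟨_, M, c⟩ := KK1_mdl h r n1 (mt conj_eq_one_iff.1 n1)
  ⟨KK1x_all (KK1x_ext M), c⟩
theorem KK2x_all {G : Type*} [Group G] {R : ℕ → G → Prop} {s u v w e f z d2 d3 s2 s3 s0 : G}
    (M : Mdl KK2_o KK2x_cs KK2_L R [s, u, v, v⁻¹, w, w⁻¹, e, e⁻¹, f, f⁻¹, z, d2, d3, s2, s3, s0] (sp [s, u, v, v⁻¹, w, w⁻¹, e, e⁻¹, f, f⁻¹])) :
    KF s u v w e f z d2 d3 s2 s3 s0 :=
  ⟨KK2x_df M,
   KK2x_lD_c M,
   KK2x_lS_c M,
   KK2x_lT_c M,
   KK2x_lE_c M,
   .inr ⟨KK2x_u1 M, KK2x_lU_c M⟩,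
   KK2x_lY_c M,
   KK2x_lL_c M,
   KK2x_ed M,
   KK2x_sm M,
   KK2x_tr M,
   fun _ => KK2x_b1 M,
   KK2x_dd M,
   KK2x_nD M,
   KK2x_sS M,
   KK2x_irr M,
   KK2x_cls M,
   fun h => (KK2x_u1 M h).elim,
   fun h => (KK2x_u1 M h).elim,
   fun h => (KK2x_u1 M h).elim,
   fun h => (KK2x_u1 M h).elim,
   KK2x_eE M,
   KK2x_kv M,
   KK2x_ki M,
   fun h => (KK2x_u1 M h).elim,
   fun _ => KK2x_p2 M,
   fun h => (KK2x_u1 M h).elim,
   fun _ => KK2x_no M,
   KK2x_ky M⟩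
theorem KK2_fin {G : Type*} [Group G] {s u v w e f : G}
    (h : KR w e f v s u)
    (r : U1 f v u)
    (n1 : w ≠ 1) : KF s u v w e f (w * e) ((e * f)⁻¹) (e⁻¹ * f) (v * s * v⁻¹) (v⁻¹ * s * v) ((s * v) ^ 3) ∧ #(sp [s, u, v, v⁻¹, w, w⁻¹, e, e⁻¹, f, f⁻¹]) = 1296 :=
  have ⟨_, M, c⟩ := KK2_mdl h r n1 (mt conj_eq_one_iff.1 n1)
  ⟨KK2x_all (KK2x_ext M), c⟩

end H2.O8
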