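import Cfsg.Agent.H1.PA1

/-! S2198: involutions of the Conway group and of the centralizer of a singular involution. -/

set_option autoImplicit false

namespace H2.PA
open Cfsg H15 H19 H0 H0.Mo H0.Y H15.ML H15.MX Subgroup H1.PA
open scoped symmDiff

theorem lift0 {γ δ : Co0} (c : IsConj (pc1 δ) (pc1 γ)) : ∃ g, γ = g * δ * g⁻¹ ∨ γ = coN * (g * δ * g⁻¹) := by
  obtain ⟨g, e⟩ := isConj_iff.1 c
  obtain ⟨g, rfl⟩ := pc1_surj g
  rw [← map_inv, ← map_mul, ← map_mul, eq_comm, ← mul_inv_eq_one, ← map_inv, ← map_mul] at e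
  exact ⟨g, (H15.mem_center_iff.1 ((QuotientGroup.eq_one_iff _).1 e)).imp mul_inv_eq_one.1 mul_inv_eq_iff_eq_mul.1⟩

theorem cε {v : Spor.Co1} (t : IsConj (pc1 Cfsg.Agent.S5388.w) v) : IsConj (pc1 ε) v := by
  rw [show ε = mo 1 (S 8536111) from (mo_eq (one_mem _) O0_mem.1).symm]; exact (isConj_of Co1I.tO).trans t

theorem N_sgn {D : Finset GolayPt} (hD : D ∈ cw) : coN * sgn hD = sgn (cw_compl hD) :=
  (sgn_mul cw_univ hD).trans (by congr 1; exact top_symmDiff D)

theorem ki : KI := fun γ e => by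
  have nc : ∀ g δ : Co0, coN * (g * δ * g⁻¹) = g * (coN * δ) * g⁻¹ := fun g δ => by
    rw [← mul_assoc, ← mul_assoc, ← N_cm g, mul_assoc g]
  obtain t | t | t | t := Co1I.inv (pc1 γ) (by rw [← map_pow, pow_two, e, map_one])
  · exact .inl ((QuotientGroup.eq_one_iff _).1 t)
  · obtain ⟨g, rfl | rfl⟩ := lift0 (cε t)
    · exact .inr (.inl (isConj_iff.2 ⟨g, rfl⟩))
    · exact .inr (.inr (.inl (isConj_iff.2 ⟨g, by rw [← mul_assoc coN, coN_mul_self, one_mul]⟩)))
  · refine absurd ?_ coN_ne_one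
    obtain ⟨g, rfl | rfl⟩ := lift0 t
    · rwa [conj_mul, h77, conj_eq_one_iff] at e
    · rwa [nc, conj_mul, conj_eq_one_iff, mul_assoc, ← mul_assoc _ coN, N_cm, ← mul_assoc, ← mul_assoc, coN_mul_self,
        one_mul, h77] at e
  · refine .inr (.inr (.inr ?_))
    have c := S_mem_dodecads isD_D0
    obtain ⟨g, rfl | rfl⟩ := lift0 t
    · exact ⟨_, c.1, g, c.2, by rw [h3]⟩
    · exact ⟨_, cw_compl c.1, g, by rw [Finset.card_compl, card_pt, c.2], by rw [nc, h3, N_sgn]⟩

theorem kl : KL := fun G _ _ z w f R m M cu ww nQ => by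
  obtain ⟨γ, a⟩ := A.tot (f := f) cu
  obtain t | t | t | t := Co1I.inv (pc1 γ) (by
    rw [← map_pow, pow_two]; exact (QuotientGroup.eq_one_iff _).2 (ww ▸ a.mul a).cen)
  · exact absurd ((M.aker a).2 ((QuotientGroup.eq_one_iff _).1 t)) nQ
  · obtain ⟨g, q⟩ := lift_conj a (cε t)
    exact .inl ⟨_, isConj_iff.2 ⟨g, rfl⟩, q⟩
  · obtain ⟨δ, q⟩ := lift_conj a t
    exact (not7 kc m (M.twist δ) ww (by simpa [mul_assoc] using twA q δ)).elim
  · obtain ⟨δ, q⟩ := lift_conj a t
    rw [h3] at q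
    exact .inr ⟨kc G z f R m M _ _ (S_mem_dodecads isD_D0).2 w δ ww q, _, _, δ, (S_mem_dodecads isD_D0).2, q⟩

theorem n32 {v : Lam} (e : ε • v = -v) : 32 ∣ sqNorm (cf v) := by
  have o : ∀ i ∉ O0, cf v i = 0 := fun i n => by
    have := cf_sgn O0_mem.1 v i
    rw [if_neg n, show sgn O0_mem.1 • v = -v from e] at this
    change -cf v i = _ at this
    omega
  obtain ⟨m, c, l⟩ := mem_leech.1 v.2
  have r : ∀ i, cf v i % 4 = _ := l.res
  have p := l.par
  have m0 := r (pt 4)
  rw [o _ (by decide +kernel)] at m0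
  obtain rfl : m = 0 := by split_ifs at m0 <;> omega
  have s : (∑ i, cf v i) % 8 = _ := l.sum
  unfold sqNorm
  rcases cw_sub l.cw (fun i n k => by have := r i; rw [o i n, if_pos k] at this; omega) with rfl | rfl
  · have := dvd_sum_sub Finset.univ (fun i => cf v i ^ 2) (fun i => 4 * cf v i) 32 fun i _ => by
      obtain ⟨k, e⟩ : 4 ∣ cf v i := by have := r i; simp at this; omega
      obtain ⟨j, t⟩ := Int.even_mul_pred_self k
      exact ⟨j, by rw [e]; linear_combination 16 * t⟩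
    rw [← Finset.mul_sum] at this
    omega
  · have := dvd_sum_sub Finset.univ (fun i => cf v i ^ 2) (fun i => if i ∈ O0 then 4 else 0) 32 fun i _ => by
      by_cases n : i ∈ O0
      · obtain ⟨k, e⟩ : ∃ k, cf v i = 4 * k + 2 := ⟨cf v i / 4, by have := r i; rw [if_pos n] at this; omega⟩
        obtain ⟨j, t⟩ := Int.even_mul_succ_self k
        exact ⟨j, by rw [e, if_pos n]; linear_combination 16 * t⟩
      · simp [o i n, n]
    rw [sum_ind, O0_mem.2] at this
    omega

theorem d16 {u v : Lam} (a : ε • u = -u) (b : ε • v = -v) : 16 ∣ dotInt (cf u) (cf v) := by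
  have := n32 (v := u + v) (by rw [co_add, a, b, neg_add])
  have h1 := n32 a
  have h2 := n32 b
  rw [show cf (u + v) = cf u + cf v from rfl, sqNorm_add] at this
  omega

theorem half {u v : Lam} (e : v + v = u - ε • u) : ε • v = -v := Subtype.ext (funext fun i => by
  have := congrArg (fun x => cf (ε • x) i) e
  have t := congrArg (fun x => cf x i) e
  simp only [co_add, co_sub, ← mul_smul, show ε * ε = 1 from sgn_sq _, one_smul] at this
  change cf (ε • v) i + cf (ε • v) i = cf (ε • u) i - cf u i at this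
  change cf v i + cf v i = cf u i - cf (ε • u) i at t
  change cf (ε • v) i = -cf v i
  omega)

theorem t4l : T4L := fun δ v c e => by
  obtain ⟨g, rfl⟩ := isConj_iff.1 c
  obtain ⟨v, rfl⟩ := MulAction.surjective g v
  rw [mul_smul, inv_smul_smul, mul_smul, ← co_neg, smul_left_cancel_iff] at e
  rw [co_norm]
  have n := n32 e
  refine ⟨n, fun h n0 => ?_⟩
  obtain c | ⟨k, c | c | c⟩ := std v
  · exact absurd (co_zero g ▸ c.smul g) n0
  · have nw : sqNorm (cf (k • lU)) = 32 := (co_norm _ _).trans norm_U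
    generalize k • lU = w at c nw
    have c1 : Cg (ε • w) w := (c.smul ε).symm.trans (e ▸ (Cg.neg v).trans c)
    obtain ⟨u, t⟩ := c
    have t1 : cf v - cf w = 2 • cf u := congrArg cf t
    have ev : (16 : ℤ) ∣ sqNorm (cf u) := leech_even u.2
    exfalso
    rcases c1.short (by rw [co_norm]; omega) (by omega) with a | a
    · have d := co_dot ε v w
      rw [e, a, show cf (-v) = -cf v from rfl, dotInt_neg_left] at d
      have := congrArg sqNorm t1
      rw [sqNorm_sub, sqNorm_two_nsmul] at this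
      omega
    · have := d16 a (v := u) (Subtype.ext (funext fun i => by
        have x := congrArg (fun x => cf (ε • x) i) t
        simp only [co_sub, e, a, two_smul, co_add] at x
        have y := congrFun t1 i
        change -cf v i - -cf w i = cf (ε • u) i + cf (ε • u) i at x
        change cf v i - cf w i = 2 * cf u i at y
        change cf (ε • u) i = -cf u i
        omega))
      rw [eq_add_of_sub_eq' t1, sqNorm_add, sqNorm_two_nsmul, two_smul, dotInt_add_right] at h
      omega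
  · have := c.norm
    rw [co_norm, norm_V] at this
    omega
  · exact ⟨g * k, by rw [mul_smul]; exact c.smul g⟩

theorem dl (cdk : CDK) (gc : GC1) : DL := fun G _ _ z w f R h M D hD k h12 a ww => by
  have a' := twA a k
  rw [show k⁻¹ * (k * sgn hD * k⁻¹) * k = sgn hD by group] at a'
  have M' := M.twist k
  obtain ⟨s, r⟩ := M'.sur lE
  have c := cdk G z s _ _ h M' r
  obtain ⟨b, L⟩ := bs0 h M' r
  have nt : ∀ C : Finset GolayPt, C.card = 12 → ¬ Tr C := by
    rintro _ e (rfl | rfl)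
    exacts [absurd e (by decide), absurd (card_pt.symm.trans e) (by decide)]
  obtain ⟨C, D', d⟩ := c.ex w (c.inO hD a' (nt D h12) ww)
  obtain ⟨hD', hC, q, p, v, rq, -, ap, rfl, -⟩ := id d
  have c12 : C.card = 12 := by
    rcases A_two a' ((M'.aQ (M'.mem rq)).mul ap) with e | e <;> rw [one_mul] at e
    · rw [(mono_inj _ _ hC hD e).2, h12]
    · rw [(mono_inj _ _ hC (cw_compl hD) (e.trans (N_sgn hD))).2, Finset.card_compl, card_pt, h12]
  have n : s ≠ z := fun e => L.notMem (e ▸ mem_zpowers _)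
  have k : ∀ u, IsConj z u → u ≠ z → q * p ∈ Qo u → q * p * (q * p) = 1 := fun u bu n m =>
    ((es h bu).sq _ m).resolve_right fun e => (M.le.es.mem_zp.1 (e ▸ ww)).elim (ne1 h bu) n
  by_cases t1 : Tr D'
  · exact k s b n (c.k2 d t1)
  by_cases t2 : Tr (C ∆ D')
  · exact k _ (mul_b h (.refl z) b L.tQ n) (by simpa using ne1 h b) (c.k3 d t2)
  have := gc C D' ⟨hC, hD', c.sq d ww, nt C c12, t1, t2⟩
  omega

theorem ak (cdk : CDK) : AK := fun G _ _ z s w f R h M δ v c a ww r e b n => by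
  obtain ⟨g, rfl⟩ := isConj_iff.1 c
  obtain ⟨v, rfl⟩ := MulAction.surjective g v
  rw [mul_smul, inv_smul_smul, mul_smul, ← co_neg, smul_left_cancel_iff] at e
  have a' := twA a g
  rw [show g⁻¹ * (g * ε * g⁻¹) * g = ε by group] at a'
  have M' := M.twist g
  obtain ⟨s₀, r₀⟩ := M'.sur lE
  have L₀ := (bs0 h M' r₀).2
  obtain ⟨x, T⟩ := ten M' L₀ r₀
  have ar := ark0 T 1
  rw [cj_one] at ar
  have la := H2.MX.la G z _ h ar
  have lc := H2.MX.lc G z _ h ar la
  have zE := T.WE T.zW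
  have z0 := IsConj.refl z
  have q : w * (x f0)⁻¹ ∈ Qo z := (M'.aker (a'.mul T.aε.inv)).2 (by simp)
  have wE : w ∈ Qo z ⊔ T.E := by simpa using mul_mem_sup q (T.par.mem f0)
  have wQ : w ∉ Qo z := fun m => T.nQ (by simpa using mul_mem (inv_mem q) m)
  have sE : s ∈ T.E := ar.cD z zE z0 (mem_cent.2 fun d hd => by
    obtain ⟨u, ru⟩ := M'.tot d hd.1
    obtain ⟨u', t⟩ := (M'.uniq ru (M'.act T.aε ru)).2 (.inl (mul_inv_eq_iff_eq_mul.2 (mem_cent.1 hd.2 _ (T.par.mem f0))))
    refine (M'.comm_iff L₀ ru r).2 ?_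
    have d1 := d16 (half (u := u) ((two_smul ℕ u').symm.trans t.symm)) e
    have d2 := co_dot ε (ε • u) v
    rw [← mul_smul, show ε * ε = 1 from sgn_sq _, one_smul, e, show cf (-v) = -cf v from rfl, dotInt_neg_right] at d2
    have d3 := congrArg (fun y => dotInt (cf y) (cf v)) t
    change dotInt (cf u - cf (ε • u)) _ = dotInt (2 • cf u') _ at d3
    rw [dotInt_sub_left, two_smul, dotInt_add_left] at d3
    omega)
  obtain ⟨d, hd, c, hc, rfl⟩ := lc.dec z zE z0 w wE (ar.e3 z zE z0 w wE wQ ww)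
  refine mul_mem (mem_sup_right ⟨hd.1, cent_le_cent1 sE hd.2⟩) ?_
  have cz := cent_le_cent1 zE (la.EC hc)
  by_cases c1 : c ∈ Qo z
  · exact mem_sup_right ⟨c1, cent_le_cent1 sE (la.EC hc)⟩
  by_cases c2 : c ∈ Qo s
  · exact mem_sup_left ⟨c2, cz⟩
  have sQ := M'.mem r
  have bs := mul_b h z0 b sQ n
  obtain ⟨k, rk⟩ := M.typ4 (h.lp sQ b n)
  refine (cdk G z s _ _ h (M.twist k) rk).sz ⟨by_contra fun c3 => ?_, cz⟩
  have := la.hyp _ (mul_mem sE zE) bs _ (mul_mem hc zE) fun m =>
    c3 ((mul_mem_cancel_right (symm h z0 bs (mul_mem sQ (self h z0)))).1 m)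
  rw [show c * z * (s * z) = c * s by
    rw [M.le.es.cent s sQ, mul_assoc, ← mul_assoc z, M.le.es.zz, one_mul]] at this
  have h1 := la.hyp z zE z0 c hc c1
  have h2 := la.hyp s sE b c hc c2
  tauto

end H2.PA
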