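import Cfsg.Agent.H1.PA0
import Cfsg.Agent.H14.E6loc

/-! S2198: elements of order 17 and 19 of the twisted group of type E6 over the field with four elements. -/

set_option autoImplicit false
set_option maxRecDepth 100000
set_option synthInstance.maxSize 10000

namespace H2.PA
open Matrix H14 H14.E6 H14.RootSys H14.PreSt H14.St Cfsg.Lie

theorem odd_cent {K : Type} [Field K] [Fintype K] (hK : Fintype.card K = 4) (L : List (Fin chevE6.rank))
    (M : List (List ℤ)) (u : List ℤ) (j : Fin chevE6.rank) {p : ℕ} [Fact p.Prime]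
    (hM : (of fun i j => 2 * goodE6.R.co (L.foldr goodE6.R.sref (okgrE6.rho (goodE6.R.simple i))) j) = lmat _ M)
    (h : ¬ 2 ∣ p ∧ p.Coprime 3 ∧ ¬ p ^ (1 + 1) ∣ 76532479683774853939200 ∧
      (∀ (a : Fin 1) j, (p : ℤ) ∣ (lm 1 [u] a ᵥ* lmat chevE6.rank M) j - lm 1 [u] a j) ∧
      ∀ a b : Fin 1, lm 1 [u] a j = if a = b then 1 else 0)
    (h1 : ∀ a < p, a ≠ 0 → cnt p ((fun _ : Fin 1 => (a : ℤ)) ᵥ* of (lm 1 [u])) = 0)
    {x : twistedE6 K 2} (o : orderOf x = p) : ¬ 2 ∣ Nat.card (Subgroup.centralizer {x}) := fun d => by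
  have : CharP K 2 := charP_of_card_eq_prime_pow (f := 2) hK
  have : Finite (twistedE6 K 2) := Nat.finite_of_card_ne_zero (by simp [card_two hK])
  obtain ⟨X, z, hz, ψ, -, a2, a3⟩ := exists_mod hK L hM (lm 1 [u]) (fun _ => j) h
    (IsPGroup.of_card (n := 1) ((Nat.card_zpowers x).trans (o.trans (pow_one p).symm)))
  obtain ⟨v, rfl⟩ := a2 (Subgroup.mem_zpowers x)
  obtain ⟨b, rfl⟩ : ∃ b, v = .ofAdd fun _ => b := ⟨v.toAdd 0, congrArg Multiplicative.ofAdd (funext fun i => by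
    rw [Subsingleton.elim i 0]; rfl)⟩
  have hi : Function.Injective X.F.hmul.tor := stb_tor_injectiveE6 _
  obtain ⟨k, k1, k2⟩ := X.F.card_cent_p X.aut (a3 _ ▸ (ψ (.ofAdd fun _ => b)).2) 2 X.hq one_lt_two dvd_rfl hi
    ((goodE6.alg_stb K 2 hi three_ne_zero kerE6).finOrder _)
  rw [ncard_eq, hz, ← a3] at k2
  replace k2 := k2.trans ((congrArg (2 ^ · * k) (h1 _ b.val_lt fun e => by
    obtain rfl := (ZMod.val_eq_zero _).1 e
    exact (Fact.out : p.Prime).one_lt.ne ((orderOf_eq_one_iff.2 (map_one (X.π.comp ψ))).symm.trans o))).trans (one_mul k))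
  obtain ⟨⟨y, hy⟩, oy⟩ := exists_prime_orderOf_dvd_card' 2 d
  obtain ⟨g, rfl⟩ := X.surj y
  have c := commute_of_map (fun g h => ⟨(X.ker g h).1, Subgroup.mem_center_iff.2 fun a => Subtype.ext
    (Subgroup.mem_center_iff.1 (X.ker g h).2 a)⟩) h.2.1 (s := ψ (.ofAdd fun _ => b)) (g := g)
    (by rw [← map_pow, show Multiplicative.ofAdd (fun _ => b) ^ p = 1 from toAdd_eq_zero.1 (funext fun i => by simp),
      _root_.map_one]) (Subgroup.mem_centralizer_singleton_iff.1 hy)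
  rw [Subgroup.orderOf_mk] at oy
  have t := orderOf_map_dvd X.π g
  rw [oy, ← Subgroup.orderOf_coe] at t
  exact k1 (k2 ▸ t.trans (Subgroup.orderOf_dvd_natCard _
    ⟨Subgroup.mem_centralizer_singleton_iff.2 (congrArg Subtype.val c), g.2⟩))

theorem e6a : H1.PA.E6a := fun _ _ _ hK _ o => o.elim
  (fun o => have := Fact.mk (by decide : Nat.Prime 17)
    odd_cent hK [1, 2, 3]
      [[0, 0, 0, 0, 0, 2], [0, 0, 2, 2, 0, 0], [0, 2, 2, 2, 2, 0], [0, -2, -2, -2, 0, 0], [0, 2, 0, 2, 0, 0], [2, 0, 2, 0, 0, 0]]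
      [0, 15, 9, 11, 1, 0] 4 (by decide +kernel) (by decide +kernel) (by decide +kernel) o)
  fun o => have := Fact.mk (by decide : Nat.Prime 19)
    odd_cent hK [0, 1, 2, 3]
      [[0, 0, 0, 0, 0, 2], [2, 0, 2, 2, 0, 0], [2, 2, 2, 2, 2, 0], [-2, -2, -2, -2, 0, 0], [0, 2, 0, 2, 0, 0], [0, 0, 2, 0, 0, 0]]
      [10, 13, 12, 1, 5, 1] 5 (by decide +kernel) (by decide +kernel) (by decide +kernel) o

end H2.PA
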