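import Cfsg.Agent.H1.PA1
import Cfsg.Agent.H2.PA2
import Cfsg.Agent.H14.Mn26
import Cfsg.Agent.H3.FrobAction

/-! S2198: the 2A-involutions of the Monster. -/

set_option autoImplicit false

namespace H2.PA
open Cfsg H15 H19 H0 H0.Mo H0.Y H15.ML H15.MX Subgroup H1.PA Function

section
variable {G : Type} [Group G] [Finite G] {z p q : G}

theorem nd17 (h : MG z) (c : IsConj z p) : ¬ 17 ∣ #C[p] := by
  obtain ⟨f, R, M⟩ := (h.conj c).1
  rw [card_eq_card_quotient_mul_card_subgroup f.ker, Nat.card_congr (QuotientGroup.quotientKerEquivOfSurjective f M.surj).toEquiv,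
    card_Co1, show f.ker = (Qo p).subgroupOf C[p] from ext M.ker, card_subgroupOf' M.le.es.le_cent, M.card]
  decide

omit [Finite G] in
theorem pure_zp (a : A2 z p) : Pure z (zpowers p) ∧ #(zpowers p) = 2 := by
  have := Fact.mk Nat.prime_two
  have c : #(zpowers p) = 2 := (Nat.card_zpowers p).trans (orderOf_eq_prime (by rw [pow_two, a.1]) a.2.1)
  refine ⟨fun x m n => ?_, c⟩
  obtain ⟨y, -, e⟩ := (Nat.card_eq_two_iff' (1 : zpowers p)).1 c
  rwa [show x = p from congrArg Subtype.val ((e ⟨x, m⟩ (mt (congrArg Subtype.val) n)).trans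
    (e ⟨p, mem_zpowers p⟩ (mt (congrArg Subtype.val) a.2.1)).symm)]

/-- the 2A-involutions are conjugate -/
theorem a2_conj (h : MG z) (a : A2 z p) (b : A2 z q) : ∃ g, g * p * g⁻¹ = q := by
  obtain ⟨g, e⟩ := pure_conj h (pure_zp a).1 (pure_zp b).1 ((pure_zp a).2.trans (pure_zp b).2.symm)
  obtain ⟨y, -, k⟩ := (Nat.card_eq_two_iff' (1 : zpowers q)).1 (pure_zp b).2
  exact ⟨g, congrArg Subtype.val ((k ⟨_, e.le (conj_mem_cj.2 (mem_zpowers p))⟩
    (mt (congrArg Subtype.val) (a.cj g).2.1)).trans (k ⟨q, mem_zpowers q⟩ (mt (congrArg Subtype.val) b.2.1)).symm)⟩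
end

open H14.Mn in
theorem six (iso : Nonempty (Spor.Monster ≃* Mon)) : SIX := fun z h p q a b => by
  obtain ⟨e⟩ := iso
  have := Finite.of_equiv _ e.symm.toEquiv
  have t : A2 z (e.symm (tt a0)) := ⟨by rw [← map_mul, tt_sq a0_mem, map_one],
    by simpa using tt_ne_one a0_mem, fun c => nd17 h c (by
      rw [show C[e.symm (tt a0)] = St.map e.symm.toMonoidHom from ext fun x => by
        rw [mem_map_equiv, mem_St, mem_cent1, mem_cent1, ← e.injective.eq_iff]; simp,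
        card_map_of_injective e.symm.injective, card_St]
      decide)⟩
  have k : ∀ p, A2 z p → ∃ x ∈ Xa, tt x = e p := fun p a =>
    let ⟨g, c⟩ := a2_conj h t a
    conj_tt.le (isConj_iff.2 ⟨e g, by rw [← c]; simp⟩)
  obtain ⟨x, hx, ex⟩ := k p a
  obtain ⟨y, hy, ey⟩ := k q b
  rw [← e.orderOf_eq, map_mul, ← ex, ← ey]
  exact ord6 hx hy

/-- the fields `a2 b2 cm a1 b1 ab h` of `H15.TE.D4` -/
def D4M : Prop := ∃ (K : Type) (_ : Field K) (_ : Fintype K) (a b : Spor.Monster), Fintype.card K = 4 ∧ a * a = 1 ∧ b * b = 1 ∧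
  a * b = b * a ∧ a ≠ 1 ∧ b ≠ 1 ∧ a ≠ b ∧ ∃ (H : Type) (_ : Group H) (ι : H →* Spor.Monster) (σ : H →* Lie.twistedE6 K 2),
    Surjective σ ∧ (∀ x, x ∈ C[a] ⊓ C[b] ↔ ∃ y, ι y = x) ∧ (∀ x, σ x = 1 ↔ ι x ∈ zpowers a ⊔ zpowers b) ∧
      ∃ x ∈ commutator H, ι x = a

theorem e6b [Finite Spor.Monster] (d4 : D4M) : E6b := fun ea z h E pE cE P pP EP PC x hx y hy ox oy => by
  obtain ⟨K, _, _, a, b, hK, a2, b2, cm, a1, b1, ab, H, _, ι, σ, sj, r, k, -⟩ := d4
  have := Fact.mk Nat.prime_two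
  have cT := H14.E6.card_two hK
  have : Finite (Lie.twistedE6 K 2) := Nat.finite_of_card_ne_zero (by simp [cT])
  have ca : #(zpowers a) = 2 := (Nat.card_zpowers a).trans (orderOf_eq_prime (by rw [pow_two, a2]) a1)
  have cb : #(zpowers b) = 2 := (Nat.card_zpowers b).trans (orderOf_eq_prime (by rw [pow_two, b2]) b1)
  have nb : zpowers b ≤ C(zpowers a) := zpowers_le.2 (cent_zpowers a ▸ mem_cent1.2 cm.symm)
  have c4 : #(zpowers a ⊔ zpowers b) = 4 := by
    rw [card_sup_of_disjoint (norms_of_cents nb) (inf_eq_bot_of_prime (ca ▸ Nat.prime_two) fun l => ?_), ca, cb]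
    obtain ⟨y, -, e⟩ := (Nat.card_eq_two_iff' (1 : zpowers b)).1 cb
    exact ab (congrArg Subtype.val ((e ⟨a, l (mem_zpowers a)⟩ (mt (congrArg Subtype.val) a1)).trans
      (e ⟨b, mem_zpowers b⟩ (mt (congrArg Subtype.val) b1)).symm))
  have sq : ∀ u ∈ zpowers a ⊔ zpowers b, u * u = 1 := abelem2_iff.1 (abelem_sup
    (abelem_zpowers (by rw [pow_two, a2])) (abelem_zpowers (by rw [pow_two, b2])) (cents_symm nb))
  rw [← cent_zpowers a, ← cent_zpowers b, ← cent_sup] at r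
  generalize zpowers a ⊔ zpowers b = E₀ at r k c4 sq
  let ι' : H →* C(E₀) := ι.codRestrict _ fun y => (r _).2 ⟨y, rfl⟩
  have si : Surjective ι' := fun u => let ⟨y, e⟩ := (r u).1 u.2; ⟨y, Subtype.ext e⟩
  let φ := ι'.liftOfSurjective si ⟨σ, fun y e => (k y).2 ((show ι y = 1 from congrArg Subtype.val e).symm ▸ one_mem _)⟩
  have e : ∀ y, φ (ι' y) = σ y := fun y => ι'.liftOfRightInverse_comp_apply _ _ _ y
  have sφ : Surjective φ := fun t => let ⟨y, c⟩ := sj t; ⟨_, (e y).trans c⟩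
  have kφ : ∀ u, φ u = 1 → u.1 ∈ E₀ := fun u c => by
    obtain ⟨y, rfl⟩ := si u
    exact (k y).1 ((e y).symm.trans c)
  obtain ⟨g, rfl⟩ := pure_conj h (X := E₀) (fun u m n => ⟨sq u m, n, fun c => nd17 h c (.trans (by rw [cT]; decide)
    ((card_dvd_of_surjective φ sφ).trans (card_dvd (cent_le_cent1 m))))⟩) pE (c4.trans cE.symm)
  obtain ⟨P, rfl⟩ : ∃ P', cj g P' = P := ⟨cj g⁻¹ P, by simp⟩
  obtain ⟨x, rfl⟩ := (MulAut.conj g).surjective x
  obtain ⟨y, rfl⟩ := (MulAut.conj g).surjective y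
  rw [MulEquiv.orderOf_eq] at ox oy
  simp only [MulAut.conj_apply, ← cj_cent, ← cj_norm, ← cj_inf, conj_mem_cj, cj_le_cj] at hx hy PC ⊢
  have pQ : PG 2 (im φ P) := PiN.im (by rwa [PG, PiG, card_cj] at pP) φ
  have dv : ∀ (r : ℕ) (x : Spor.Monster), r = 17 ∨ r = 19 → x ∈ C(E₀) ⊓ N(P) → orderOf x = r → r ∣ #(im φ P) - 1 :=
    fun r x hr hx o => by
    have pr : r.Prime := by rcases hr with rfl | rfl <;> norm_num
    have := Fact.mk pr
    have o' : orderOf (φ ⟨x, hx.1⟩) = r := orderOf_eq_prime (by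
      rw [← map_pow, show (⟨x, hx.1⟩ ^ r : C(E₀)) = 1 from Subtype.ext (o ▸ pow_orderOf_eq_one x), map_one]) fun c => by
        have := orderOf_dvd_of_pow_eq_one ((pow_two x).trans (sq x (kφ _ c)))
        rw [o] at this
        rcases hr with rfl | rfl <;> omega
    have c := (Nat.card_zpowers _).trans o'
    refine c ▸ H3.card_dvd_card_sub_one_of_fpf (im_zpowers (f := φ) ⟨x, hx.1⟩ ▸ im_norms (zpowers_le.2 hx.2)) fun u m n =>
      by_contra fun t => ea K hK u ?_ (((pQ.infl _).dvd_of_ne_bot t).trans (card_dvd inf_le_right))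
    rwa [← Nat.card_zpowers, eq_zpowers_of_prime (c ▸ pr) m n, c]
  obtain ⟨n, c⟩ := pQ.exists_pow (card_ne_zero _)
  have l : n < 37 := not_le.1 fun l => by
    have := card_subgroup_dvd_card (im φ P)
    rw [c, cT] at this
    exact absurd ((pow_dvd_pow 2 l).trans this) (by decide)
  have := (by decide +kernel : ∀ n < 37, 17 ∣ 2 ^ n - 1 → 19 ∣ 2 ^ n - 1 → n = 0) n l (c ▸ dv 17 x (.inl rfl) hx ox)
    (c ▸ dv 19 y (.inr rfl) hy oy)
  rw [this, pow_zero, card_eq_one] at c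
  exact fun u m => kφ ⟨u, PC m⟩ (c.le (mem_im_of m))

end H2.PA
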