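import Cfsg.Agent.H1.PA1
import Cfsg.Agent.H9.PA3

/-! S2198: the O'Nan group and its triple cover are not subgroups of a group of Monster type. -/

set_option autoImplicit false

namespace H2.PA
open Cfsg H15 H19 H0 H0.Mo H0.Y H15.ML H15.MX Subgroup H1.PA Function Finset
open H14.Mn (cm rl cm_vec cm_mul)
open scoped commutatorElement

theorem sum_fix {g : Co0} {v : Lam} {p : ℕ} (h : g ^ p • v = v) : ∑ i ∈ range p, g ^ i • v ∈ Fx g := by
  show g • _ = _
  have := sum_range_succ' (fun i => g ^ i • v) p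
  rw [sum_range_succ, h, pow_zero, one_smul, add_left_inj] at this
  rw [co_sum, this]
  simp only [pow_succ', mul_smul]

theorem sum_fix' {g h : Co0} {v : Lam} {p : ℕ} (e : ∀ i : ℕ, h • g ^ i • v = g ^ i • v) :
    ∑ i ∈ range p, g ^ i • v ∈ Fx h := by
  show h • _ = _
  rw [co_sum]; exact sum_congr rfl fun i _ => e i

theorem sum_vec (g : Co0) (v : Lam) (p : ℕ) :
    (∑ i ∈ range p, cm (g ^ i)).mulVec (rl v) = rl (∑ i ∈ range p, g ^ i • v) := by
  rw [Matrix.sum_mulVec, H9.PA.rl_sum]; simp only [cm_vec]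

theorem sum_vec' {g : Co0} {v : Lam} (h : v ∈ Fx g) (p : ℕ) :
    (∑ i ∈ range p, cm (g ^ i)).mulVec (rl v) = (p : ℝ) • rl v := by
  rw [Matrix.sum_mulVec]
  simp only [cm_vec, pow_fix h, sum_const, card_range, Nat.cast_smul_eq_nsmul]

/-- an element normalizing a fixed-point-free group of order seven has trace zero -/
theorem tr_zero {x h : Co0} (x7 : x ^ 7 = 1) (r : Module.finrank ℤ (Fx x) = 0) (e : h * x * h⁻¹ = x ^ 2) : H1.PA.tr h = 0 := by
  have := H9.PA.finL (Fx x)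
  have := H9.PA.freeL (Fx x)
  have := Module.finrank_zero_iff.1 r
  have s : ∑ i ∈ range 7, cm (x ^ i) = 0 := H14.Mn.mat_ext fun v => by
    rw [sum_vec, show ∑ i ∈ range 7, x ^ i • v = 0 from congrArg Subtype.val
      (Subsingleton.elim (⟨_, sum_fix (v := v) (by rw [x7, one_smul])⟩ : Fx x) 0), Matrix.zero_mulVec]
    funext i; simp [rl, H15.cf]
  have k : ∀ i : ℕ, H1.PA.tr (x ^ i * h) = H1.PA.tr h := fun i => by
    rw [← H9.PA.tr.cj (x ^ i)⁻¹ h, inv_inv, mul_assoc, ← inv_mul_cancel_right (h * x ^ i) h, ← conj_pow, e, ← pow_mul,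
      two_mul, pow_add]
    group
  have : ∑ i ∈ range 7, H1.PA.tr (x ^ i * h) = 0 := by
    simp only [H1.PA.tr, cm_mul]
    rw [← Matrix.trace_sum, ← sum_mul, s, zero_mul, Matrix.trace_zero]
  simp only [k, sum_const, card_range] at this
  simpa using this

/-- the common fixed lattice of an extraspecial group of order 27 with vanishing traces -/
theorem rank27 {n m c : Co0} (c3 : c ^ 3 = 1) (cn : c * n = n * c) (cm' : c * m = m * c) {a b d : ℕ} (n3 : n ^ 3 = c ^ a)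
    (m3 : m ^ 3 = c ^ b) (nm : n * m = c ^ d * (m * n)) (t : ∀ i < 3, ∀ j < 3, i + j ≠ 0 → ∀ k, H1.PA.tr (n ^ i * m ^ j * c ^ k) = 0) :
    9 ∣ Module.finrank ℤ (Fx c) := by
  have fc : ∀ {g v}, c * g = g * c → v ∈ Fx c → ∀ i : ℕ, c • g ^ i • v = g ^ i • v := fun {g v} e h i => by
    rw [← mul_smul, (show Commute c g from e).pow_right i, mul_smul, show c • v = v from h]
  have mn : ∀ {v}, v ∈ Fx c → v ∈ Fx m → ∀ i : ℕ, m • n ^ i • v = n ^ i • v := fun {v} h h' i => by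
    induction i with
    | zero => rw [pow_zero, one_smul]; exact h'
    | succ i ih =>
      have := congrArg (· • n ^ i • v) nm
      simp only [mul_smul] at this
      rw [ih, ← mul_smul m, ← mul_smul (c ^ d), ← mul_assoc, ((show Commute c m from cm').pow_left d).eq, mul_assoc,
        ((show Commute c n from cn).pow_left d).eq, mul_smul, mul_smul, pow_fix (fc cn h i)] at this
      rw [pow_succ', mul_smul, ← this]
  have := H9.PA.tr.rk (Fx n ⊓ Fx m ⊓ Fx c) ((27 : ℝ)⁻¹ • ((∑ i ∈ range 3, cm (n ^ i)) * (∑ i ∈ range 3, cm (m ^ i)) *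
    ∑ i ∈ range 3, cm (c ^ i))) 27 (by norm_num) (fun v => ?_) fun v hv => ?_
  · have e := H9.PA.tr.fx c 3 c3
    simp only [sum_mul, mul_sum, ← cm_mul, Matrix.trace_smul, Matrix.trace_sum] at this
    rw [sum_congr rfl (g := fun k => H1.PA.tr (c ^ k)) fun k _ => ?_, e, smul_eq_mul] at this
    · exact ⟨Module.finrank ℤ ↥(Fx n ⊓ Fx m ⊓ Fx c), by
        have : (Module.finrank ℤ (Fx c) : ℝ) = 9 * Module.finrank ℤ ↥(Fx n ⊓ Fx m ⊓ Fx c) := by
          rw [← this]; push_cast; ring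
        exact_mod_cast this⟩
    · show ∑ j ∈ range 3, ∑ i ∈ range 3, H1.PA.tr (n ^ i * m ^ j * c ^ k) = _
      rw [sum_eq_single 0 (fun j hj j0 => sum_eq_zero fun i hi => t i (mem_range.1 hi) j (mem_range.1 hj) (by omega) k)
        (by simp), sum_eq_single 0 (fun i hi i0 => t i (mem_range.1 hi) 0 (by omega) (by omega) k) (by simp)]
      simp
  · have h1 : ∑ i ∈ range 3, c ^ i • v ∈ Fx c := sum_fix (by rw [c3, one_smul])
    have h2 := sum_fix' (p := 3) (fc cm' h1)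
    have h3 := sum_fix (g := m) (p := 3) (by rw [m3]; exact pow_fix h1 b)
    refine ⟨_, ⟨⟨sum_fix (g := n) (p := 3) (by rw [n3]; exact pow_fix h2 a), sum_fix' (mn h2 h3)⟩, sum_fix' (fc cn h2)⟩, ?_⟩
    rw [Matrix.smul_mulVec, smul_smul, mul_inv_cancel₀ (by norm_num), one_smul, ← Matrix.mulVec_mulVec,
      ← Matrix.mulVec_mulVec, sum_vec, sum_vec, sum_vec]
  · rw [Matrix.smul_mulVec, ← Matrix.mulVec_mulVec, ← Matrix.mulVec_mulVec, sum_vec' hv.2, Matrix.mulVec_smul,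
      sum_vec' hv.1.2, Matrix.mulVec_smul, Matrix.mulVec_smul, sum_vec' hv.1.1]
    simp only [smul_smul]; norm_num

theorem om (he : HE) (fx : FX) (fpf : FPF) (x4 : X4) : OM := fun G _ _ c z w x n m p q h o => by
  obtain ⟨s0, f, R, L, -, M, -⟩ := h.ex
  have E := M.le.es
  have x7 : x ^ 7 = 1 := o.ox ▸ pow_orderOf_eq_one x
  have cp : ∀ {g}, c * g = g * c → ∀ k : ℕ, Commute (c ^ k) g := fun e k => (show Commute c _ from e).pow_left k
  have ck : ∀ k : ℕ, (c ^ k) ^ 3 = 1 := fun k => by rw [← pow_mul, mul_comm, pow_mul, o.c3, one_pow]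
  obtain ⟨ξ, ax, ξ7⟩ := A_odd (f := f) (by decide) (mem_cent1.2 o.xz) x7
  have fix : ∀ {g y γ v}, A f g γ → R y v → y ∈ C[g] → Cg (γ • v) v := fun a r k =>
    (M.uniq (M.act a r) r).2 (.inl (by rw [← mem_cent1.1 k, mul_inv_cancel_right]))
  by_cases c1 : Qo z ⊓ C[x] ≤ zpowers z
  swap
  · obtain ⟨y, y1, y2⟩ := SetLike.not_le_iff_exists.1 c1
    obtain ⟨v, r⟩ := M.tot y y1.1
    have : Fact (Nat.Prime 7) := ⟨by norm_num⟩
    obtain ⟨k, e⟩ := (fx ξ v (fix ax r y1.2) (mt (M.rk r).2 y2)).2 (orderOf_eq_prime ξ7 fun e => by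
      have := orderOf_dvd_of_pow_eq_one (E.pow4 ((M.aker ax).2 (e ▸ one_mem _)))
      rw [o.ox] at this; omega)
    obtain ⟨s, r⟩ := M.sur (k • lE)
    obtain ⟨s1, s2⟩ := (M.conj_iff L (M.mem r)).2 ⟨k, r⟩
    refine he G z s x h s1 (M.mem r) s2 ax.1 (mem_cent1.2 (odd_fix (by decide) x7 E.zz o.xz
      ((M.uniq r (M.act ax r)).1 e.symm))) o.ox ?_
    obtain ⟨k, e⟩ := o.pq
    have := pow_mem (commutator_mem_commutator (mem_cent1.2 o.px) (mem_cent1.2 o.qx)) (3 * 5)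
    rwa [e, pow_mul, (cp o.cx k).symm.mul_pow, ck, mul_one, ← pow_mul, show 3 * 5 = 7 * 2 + 1 from rfl, pow_succ,
      pow_mul, x7, one_pow, one_mul] at this
  have r0 : Module.finrank ℤ (Fx ξ) = 0 := by
    have := card_le_of_le c1
    rw [M.card_fix (by decide) x7 ξ7 ax, E.card_zp, pow_succ] at this
    exact (Nat.pow_eq_one.1 (le_antisymm (Nat.le_of_mul_le_mul_right (by rwa [one_mul]) two_pos) Nat.one_le_two_pow)).resolve_left
      (by decide)
  obtain ⟨a, n3⟩ := o.n3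
  obtain ⟨b, m3⟩ := o.m3
  obtain ⟨d, nm⟩ := o.nm
  have n9 : n ^ 9 = 1 := by rw [show 9 = 3 * 3 from rfl, pow_mul, n3, ck]
  have m9 : m ^ 9 = 1 := by rw [show 9 = 3 * 3 from rfl, pow_mul, m3, ck]
  obtain ⟨γ, ac, γ3⟩ := A_odd (f := f) (by decide) (mem_cent1.2 o.cz) o.c3
  obtain ⟨ν, an, ν9⟩ := A_odd (f := f) (by decide) (mem_cent1.2 o.nz) n9
  obtain ⟨μ, am, μ9⟩ := A_odd (f := f) (by decide) (mem_cent1.2 o.mz) m9
  have γk : ∀ k : ℕ, (γ ^ k) ^ 3 = 1 := fun k => by rw [← pow_mul, mul_comm, pow_mul, γ3, one_pow]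
  have cj : ∀ {g g' y y' u k}, Odd k → A f g g' → A f y y' → y' ^ k = 1 → A f (g * y * g⁻¹) u → u ^ k = 1 →
      g' * y' * g'⁻¹ = u := fun o a b e a' e' => A_odd_eq o a' ((a.mul b).mul a.inv) e' (by rw [conj_pow, e, mul_one, mul_inv_cancel])
  have cc : ∀ {g g'}, A f g g' → c * g = g * c → γ * g' = g' * γ := fun a e =>
    (mul_inv_eq_iff_eq_mul.1 (cj (by decide) a ac γ3 (by rwa [← e, mul_inv_cancel_right]) γ3)).symm
  have t0 : ∀ k δ, A f (n * c ^ k) δ → H1.PA.tr δ = 0 := fun k δ a => tr_zero ξ7 r0 (cj (by decide) a ax ξ7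
    (by rw [mul_assoc n, (cp o.cx k).eq, mul_inv_rev, ← mul_assoc, ← mul_assoc, mul_inv_cancel_right, o.nx]; exact ax.pow 2)
    (by rw [← pow_mul, mul_comm, pow_mul, ξ7, one_pow]))
  obtain ⟨r, hr⟩ := rank27 γ3 (cc an o.cn) (cc am o.cm) (a := a) (b := b) (d := d)
    (A_odd_eq (n := 3) (by decide) (ac.pow a) (n3 ▸ an.pow 3) (γk a) (by rw [← pow_mul, ν9]))
    (A_odd_eq (n := 3) (by decide) (ac.pow b) (m3 ▸ am.pow 3) (γk b) (by rw [← pow_mul, μ9]))
    (by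
      rw [← mul_assoc, ← mul_inv_eq_iff_eq_mul]
      refine cj (k := 9) (by decide) an am μ9 (by rw [nm, ← mul_assoc, mul_inv_cancel_right]; exact (ac.pow d).mul am) ?_
      rw [((show Commute γ μ from cc am o.cm).pow_left d).mul_pow, μ9, show 9 = 3 * 3 from rfl, pow_mul, γk, one_pow, mul_one])
    fun i hi j hj ij k => by
      obtain ⟨g, l, g1, g2, g3⟩ := o.cj i hi j hj ij
      obtain ⟨g', ag⟩ := A.tot (f := f) (mem_cent1.2 g1)
      rw [← H9.PA.tr.cj g']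
      refine t0 (l + k) _ ?_
      have := (ag.mul (((an.pow i).mul (am.pow j)).mul (ac.pow k))).mul ag.inv
      rwa [← conj_mul, g3, ← (cp g2.symm k).eq, mul_inv_cancel_right, mul_assoc n, ← pow_add] at this
  have cf := M.card_fix (by decide) o.c3 γ3 ac
  have zl : zpowers z ≤ Qo z ⊓ C[c] := zpowers_le_of_mem ⟨E.zQ, mem_cent1.2 o.cz.symm⟩
  have e := H9.PA.tr.fx γ 3 γ3
  have t1 : H1.PA.tr 1 = 24 := by simpa [sgn_empty] using H9.PA.tr.sgn cw_empty
  rw [hr, sum_range_succ, sum_range_succ, sum_range_one, pow_zero, pow_one, t1,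
    show γ ^ 2 = γ⁻¹ from eq_inv_of_mul_eq_one_left (by rw [← pow_succ, γ3]), H9.PA.tr.inv] at e
  rcases Nat.eq_zero_or_pos r with rfl | r1
  · refine fpf G z w c h (mem_cent1.2 o.wz) o.c1 o.c2 ac.1 (mem_cent1.2 o.cw)
      (Odd.of_dvd_nat (by decide) (orderOf_dvd_of_pow_eq_one o.c3)) (eq_of_le_of_card_ge zl ?_).ge
    rw [cf, hr, E.card_zp]; rfl
  obtain ⟨s, s0, s1, s2⟩ := x4 G z h _ inf_le_left (zl (mem_zpowers z))
    (by rw [cf, hr]; exact Nat.pow_le_pow_right two_pos (by omega))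
  obtain ⟨k, rs⟩ := (M.conj_iff L s0.1).1 ⟨s1, s2⟩
  have k1 : k⁻¹ * γ * k⁻¹⁻¹ ∈ NN := stab_E.1 (Cg.of_smul (g := k) (by simpa [mul_smul] using fix ac rs s0.2))
  by_cases k2 : k⁻¹ * γ * k⁻¹⁻¹ ∈ EE
  · have := EE_sq k2
    rw [conj_mul, conj_eq_one_iff] at this
    rw [pow_three, this, mul_one] at γ3
    rw [γ3, t1] at e
    have : (24 + 24 + 24 : ℤ) = 3 * (9 * r) := by exact_mod_cast e
    omega
  obtain ⟨t, t2, t3⟩ := H9.PA.tr.nn _ k1 k2
  rw [H9.PA.tr.cj] at t2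
  rw [t2] at e
  have : (24 + t + t : ℤ) = 3 * (9 * r) := by exact_mod_cast e
  omega

end H2.PA
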