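/-
Fusion systems on a Sylow `p`-subgroup of `PSU₄(q)`: the flag `Z < Z₂ < J`.
-/
import Cfsg.Agent.H7.PV2

set_option autoImplicit false
set_option linter.unusedSectionVars false
set_option linter.unusedSimpArgs false

namespace H2.PV
open Subgroup H25 H8.PU H7.PV H7.PV.Cu
open H24.SP (mul_ap one_ap inv_ap ap_inv inv_fix inv_eq_of inv_pres pow_shift ht_abs)
universe u v

section gen
variable {X : Type*} [AddCommGroup X] [Finite X] {p : ℕ} [Fact p.Prime] {U L : Subgroup (H24.SP.Au X)} {g t : H24.SP.Au X}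
  {y δ : X}
/-- the cocycle trick modulo an invariant subgroup -/
theorem htm (hs : Syl p U L) (Z : AddSubgroup X) (hp : p • δ = 0)
    (hU : ∀ g ∈ U, (∀ z ∈ Z, g z ∈ Z) ∧ g δ - δ ∈ Z ∧ g y - y ∈ Z) (ht : t ∈ L) (h0 : ∀ z ∈ Z, t z ∈ Z) (h1 : t δ - δ ∈ Z)
    (h2 : t y - y - δ ∈ Z) : δ ∈ Z := by
  have := ht_abs hs (fun m g => (∀ z ∈ Z, g z ∈ Z) ∧ g δ - δ ∈ Z ∧ g y - y - m • δ ∈ Z) (fun g hg => by simpa using hU g hg)
    (by simp [one_ap]) (fun m n g h ⟨a0, a1, a2⟩ ⟨b0, b1, b2⟩ => ⟨fun z hz => a0 _ (b0 z hz), ?_, ?_⟩)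
    (fun m g ⟨a0, a1, a2⟩ => ⟨inv_pres a0, ?_, ?_⟩)
    (fun m g ⟨a0, a1, a2⟩ => ⟨a0, a1, by rwa [mul_comm, mul_smul, natCast_zsmul, hp, smul_zero, ← zero_smul ℤ δ] at a2⟩) ht
    ⟨h0, h1, by simpa using h2⟩
  · simpa using sub_mem this.2.2 h2
  · convert add_mem (a0 _ b1) a1 using 1
    rw [map_sub, mul_ap]; abel
  · convert add_mem (add_mem (a0 _ b2) a2) (zsmul_mem a1 n) using 1
    simp only [map_sub, map_zsmul, mul_ap, add_smul, smul_sub]; abel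
  · simpa using neg_mem (inv_pres a0 _ a1)
  · have e : g⁻¹ δ - δ ∈ Z := by simpa using neg_mem (inv_pres a0 _ a1)
    convert sub_mem (neg_mem (inv_pres a0 _ a2)) (zsmul_mem e m) using 1
    simp only [map_sub, map_zsmul, inv_ap, neg_smul, smul_sub]; abel
/-- the stabilizer of the chain `X ≥ Q ≥ P ≥ 0` -/
def st (P Q : AddSubgroup X) : Subgroup (H24.SP.Au X) where
  carrier := {g | (∀ v, g v - v ∈ Q) ∧ (∀ v ∈ Q, g v - v ∈ P) ∧ ∀ v ∈ P, g v = v}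
  one_mem' := ⟨fun v => by simp, fun v _ => by simp, fun _ _ => rfl⟩
  mul_mem' := by
    rintro g h ⟨a1, a2, a3⟩ ⟨b1, b2, b3⟩
    refine ⟨fun v => ?_, fun v hv => ?_, fun v hv => by rw [mul_ap, b3 v hv, a3 v hv]⟩
    · simpa using add_mem (a1 (h v)) (b1 v)
    · have : h v ∈ Q := by simpa using add_mem (b1 v) hv
      simpa using add_mem (a2 _ this) (b2 v hv)
  inv_mem' := by
    rintro g ⟨a1, a2, a3⟩
    refine ⟨fun v => ?_, fun v hv => ?_, fun v hv => inv_fix (a3 v hv)⟩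
    · simpa using neg_mem (a1 (g⁻¹ v))
    · have : g⁻¹ v ∈ Q := by simpa using sub_mem hv (a1 (g⁻¹ v))
      simpa using neg_mem (a2 _ this)
theorem m_st {P Q : AddSubgroup X} : g ∈ st P Q ↔ (∀ v, g v - v ∈ Q) ∧ (∀ v ∈ Q, g v - v ∈ P) ∧ ∀ v ∈ P, g v = v := Iff.rfl
theorem p_st (hp : ∀ x : X, p • x = 0) (P Q : AddSubgroup X) : IsPGroup p (st P Q) := by
  rintro ⟨g, a1, a2, a3⟩
  refine ⟨2, Subtype.ext (LinearEquiv.ext fun v => ?_)⟩
  have e1 : ∀ v ∈ Q, (g ^ p) v = v := fun v hv => by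
    rw [pow_shift (δ := g v - v) (by simp) (a3 _ (a2 v hv)), hp, add_zero]
  have e2 : (g ^ p) v - v ∈ Q := ((st P Q).pow_mem (x := g) ⟨a1, a2, a3⟩ p).1 v
  show (g ^ p ^ 2) v = v
  rw [pow_two, pow_mul, pow_shift (δ := (g ^ p) v - v) (by simp) (e1 _ e2), hp, add_zero]
theorem nz_st {P Q : AddSubgroup X} (h1 : ∀ v ∈ P, g v ∈ P) (h2 : ∀ v ∈ Q, g v ∈ Q) : g ∈ nz (st P Q) := by
  refine mem_nz_of_conj_mem fun a ⟨a1, a2, a3⟩ => ?_
  have e : ∀ v, (g * a * g⁻¹) v - v = g (a (g⁻¹ v) - g⁻¹ v) := fun v => by simp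
  exact ⟨fun v => e v ▸ h2 _ (a1 _), fun v hv => e v ▸ h1 _ (a2 _ (inv_pres h2 v hv)), fun v hv => by
    rw [mul_ap, mul_ap, a3 _ (inv_pres h1 v hv), ap_inv]⟩
/-- the pointwise stabilizer -/
def fixs (s : Set X) : Subgroup (H24.SP.Au X) where
  carrier := {g | ∀ x ∈ s, g x = x}
  one_mem' := fun _ _ => rfl
  mul_mem' := fun a b x hx => by rw [mul_ap, b x hx, a x hx]
  inv_mem' := fun a x hx => inv_fix (a x hx)
end gen

variable {K : Type v} [Field K] [Finite K] {σ : K →+* K} [IV σ] {p : ℕ} [Fact p.Prime] [CharP K p]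
  {G : Subgroup (A2 σ)} {g g' : A2 σ} {x y : Jv σ} {t t' : K}

/-- normalization of coordinates on `J` -/
macro "js" "[" ls:Lean.Parser.Tactic.simpLemma,* "]" loc:(Lean.Parser.Tactic.location)? : tactic => `(tactic|
  simp only [Jv.ext_iff, u2_u, u2_s, u2_v, xt_t, Jv.jv_u, Jv.jv_s, Jv.jv_v, Jv.zero_u, Jv.zero_s, Jv.zero_v, Jv.add_u, Jv.add_s,
    Jv.add_v, Jv.neg_u, Jv.neg_s, Jv.neg_v, Jv.sub_u, Jv.sub_s, Jv.sub_v, Jv.su, Jv.sv, ss, RingHom.map_add, RingHom.map_mul,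
    RingHom.map_sub, RingHom.map_neg, RingHom.map_zero, RingHom.map_one, RingHom.map_pow, map_inv₀, map_div₀, RingEquiv.refl_apply,
    mul_zero, zero_mul, add_zero, zero_add, sub_zero, neg_zero, mul_one, one_mul, sub_self, add_sub_cancel_left,
    and_self, and_true, true_and, $ls,*] $[$loc]?)

variable (σ) in
/-- `Z`, `Z₂`, `T` -/
def ZZ : AddSubgroup (Jv σ) where
  carrier := {x | x.u = 0 ∧ x.s = 0}
  zero_mem' := ⟨rfl, rfl⟩
  add_mem' := fun a b => ⟨by simp [a.1, b.1], by simp [a.2, b.2]⟩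
  neg_mem' := fun a => ⟨by simp [a.1], by simp [a.2]⟩
variable (σ) in
def ZT : AddSubgroup (Jv σ) where
  carrier := {x | x.u = 0}
  zero_mem' := rfl
  add_mem' := fun {a b} (h : a.u = 0) (k : b.u = 0) => show (a + b).u = 0 by simp [h, k]
  neg_mem' := fun {a} (h : a.u = 0) => show (-a).u = 0 by simp [h]
theorem mZZ : x ∈ ZZ σ ↔ x.u = 0 ∧ x.s = 0 := Iff.rfl
theorem mZT : x ∈ ZT σ ↔ x.u = 0 := Iff.rfl
variable (σ) in
abbrev TT : Subgroup (A2 σ) := (u2 (σ := σ)).range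
abbrev xx (t : K) : A2 σ := u2 (xt t)
/-- the vectors `(0, s, 0)`, `(0, 0, v)`, `(u, 0, 0)` -/
def es (s : K) : Jv σ := jv 0 s 0 (map_zero σ) (map_zero σ)
theorem es_u (s : K) : (es s : Jv σ).u = 0 := rfl
theorem es_s (s : K) : (es s : Jv σ).s = s := rfl
theorem es_v (s : K) : (es s : Jv σ).v = 0 := rfl
theorem es_add (a b : K) : (es (a + b) : Jv σ) = es a + es b := by js [es]
theorem es_sub (a b : K) : (es (a - b) : Jv σ) = es a - es b := by js [es]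
theorem u2_eq (c : Cu σ) : u2 c = xx c.t := rfl
theorem xx_mem (t : K) : xx t ∈ TT σ := ⟨_, rfl⟩
theorem mTT : g ∈ TT σ ↔ ∃ t, g = xx t := ⟨fun ⟨c, e⟩ => ⟨c.t, e.symm⟩, fun ⟨t, e⟩ => e ▸ xx_mem t⟩
theorem xx_add (t t' : K) : (xx (t + t') : A2 σ) = xx t * xx t' := by rw [← map_mul]; rfl
theorem xx_zero : (xx 0 : A2 σ) = 1 := map_one u2
theorem xx_inv (t : K) : (xx t : A2 σ)⁻¹ = xx (-t) := by rw [← map_inv]; rfl
theorem xx_inj (h : (xx t : A2 σ) = xx t') : t = t' := by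
  simpa [u2_s] using congrArg (fun g : A2 σ => (g (jv 1 0 0 (map_one σ) (map_zero σ))).s) h
theorem xx_pow (t : K) (n : ℕ) : (xx t : A2 σ) ^ n = xx (n * t) := by
  induction n with
  | zero => simp [xx_zero]
  | succ n ih => rw [pow_succ, ih, ← xx_add]; congr 1; push_cast; ring
theorem xx_p (t : K) : (xx t : A2 σ) ^ p = 1 := by rw [xx_pow, CharP.cast_eq_zero, zero_mul, xx_zero]
theorem xx_fix (h : x ∈ ZZ σ) (t : K) : (xx t : A2 σ) x = x := by js [h.1, h.2]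
theorem p_smul (x : Jv σ) : p • x = 0 := by
  rw [← natCast_zsmul]; js [Jv.zs_u, Jv.zs_s, Jv.zs_v, Int.cast_natCast, CharP.cast_eq_zero]
theorem pT : IsPGroup p (TT σ) := fun ⟨g, hg⟩ => ⟨1, Subtype.ext (by
  obtain ⟨t, rfl⟩ := mTT.1 hg; simpa using xx_p (p := p) t)⟩
theorem b2_iff : B2 g ↔ ∀ x ∈ ZZ σ, g x ∈ ZZ σ := ⟨fun h x hx => h x hx.1 hx.2, fun h x a b => h x ⟨a, b⟩⟩
theorem b2_inv (h : B2 g) : B2 g⁻¹ := b2_iff.2 (inv_pres (b2_iff.1 h))
theorem b2_mul (h : B2 g) (h' : B2 g') : B2 (g * g') := fun x a b => h _ (h' x a b).1 (h' x a b).2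
theorem b2_xx (t : K) : B2 (xx t : A2 σ) := b2_iff.2 fun x hx => by rwa [xx_fix hx]
theorem T_st : TT σ ≤ st (ZZ σ) (ZT σ) := fun g hg => by
  obtain ⟨t, rfl⟩ := mTT.1 hg
  exact ⟨fun v => by js [mZT], fun v hv => by js [mZZ, mZT.1 hv], fun v hv => xx_fix hv t⟩
theorem st_eq (h : Syl p (TT σ) G) : G ⊓ st (ZZ σ) (ZT σ) = TT σ :=
  h.eq_of_le ((p_st p_smul _ _).to_le inf_le_right) (le_inf h.le T_st) inf_le_left
theorem ker_ex (f : K → K) (h0 : ∀ x, σ (f x) = f x) (h : ∀ x y, f (x - y) = f x - f y) : ∃ s, s ≠ 0 ∧ f s = 0 := by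
  by_contra! c
  refine (fx_lt σ).not_ge (Nat.card_le_card_of_injective (fun x => (⟨f x, h0 x⟩ : Fx σ)) fun x y e => by_contra fun n => ?_)
  exact c _ (sub_ne_zero.2 n) (by rw [h, sub_eq_zero]; exact congrArg Subtype.val e)

theorem j0 : J0 σ p := fun G h g hg b => by
  have z2 : ∀ x ∈ ZT σ, g x ∈ ZT σ := by
    by_contra n
    obtain ⟨y, hy, n⟩ : ∃ y ∈ ZT σ, (g⁻¹ y).u ≠ 0 := by
      by_contra! c
      exact n (inv_inv g ▸ inv_pres (g := g⁻¹) c)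
    obtain ⟨s, s0, hs⟩ := ker_ex (σ := σ) (fun s => (g (es s)).u) (fun _ => Jv.su _) fun a b => by rw [es_sub, map_sub]; rfl
    have bz := b2_iff.1 b
    have := htm h (ZZ σ) (y := y) (δ := g (es s)) (t := g * xx (s / (g⁻¹ y).u) * g⁻¹) (p_smul _) (fun a ha =>
      ⟨fun z hz => by rwa [(T_st ha).2.2 z hz], (T_st ha).2.1 _ hs, (T_st ha).2.1 _ hy⟩)
      (mul_mem (mul_mem hg (h.le (xx_mem _))) (inv_mem hg)) (b2_iff.1 (b2_mul (b2_mul b (b2_xx _)) (b2_inv b)))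
      (by rw [mul_ap, mul_ap, inv_ap, ← map_sub]; exact bz _ ((T_st (xx_mem _)).2.1 _ rfl)) ?_
    · exact s0 (by simpa [es_s] using (b2_iff.1 (b2_inv b) _ this).2)
    · rw [mul_ap, mul_ap, ← ap_inv g y, ← map_sub, ← map_sub, inv_ap]
      refine bz _ ?_
      js [mZZ, es, div_mul_cancel₀ s n]
  refine ⟨?_, z2⟩
  have := mem_nz_inf (le_nz_self G hg) (nz_st (b2_iff.1 b) z2)
  rwa [st_eq h] at this

theorem memT (h : Syl p (TT σ) G) (hg : g ∈ G) (b : B2 g) (e : g ^ p = 1) : g ∈ TT σ :=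
  (h.mono_right (le_inf h.le (le_nz_self _)) inf_le_left).mem_of_pel inf_le_right ⟨hg, (j0 G h g hg b).1⟩
    ⟨1, by rw [pow_one, e]; exact one_mem _⟩
theorem cj_p (g : A2 σ) (t : K) : (g * xx t * g⁻¹) ^ p = 1 := by rw [conj_pow, xx_p]; simp

theorem jt : JT σ p := fun n2 G h g hg x xu xs gu => by_contra fun s0 => by
  obtain ⟨ε, ε0, hε⟩ := ex_ep σ
  have t0 := mul_ne_zero ε0 s0
  have fx : (xx (ε * (g x).s) : A2 σ) (g x) = g x := by js [gu, hε]; ring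
  generalize ε * (g x).s = t at t0 fx
  have sy : ∀ g ∈ G, ∀ C, cj g (TT σ) ≤ C → Syl p (cj g (TT σ)) (G ⊓ C) := fun g hg C hC =>
    have := cj_eq_of_mem hg ▸ h.cj g
    this.mono_right (le_inf this.le hC) inf_le_left
  obtain ⟨k, hk, e⟩ := (sy g hg (fixs {g x}) (cj_le.2 fun a ha y hy => by
    rw [hy, mul_ap, mul_ap, inv_ap, (T_st ha).2.2 x ⟨xu, xs⟩])).exists_cj_le (X := zpowers (xx t))
    (pT.to_le (zpowers_le.2 (xx_mem t))) (zpowers_le.2 ⟨h.le (xx_mem t), fun y hy => hy ▸ fx⟩)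
  rw [cj_le_iff, cj_cj, zpowers_le] at e
  have ex : (k⁻¹ * g : A2 σ) x = g x := inv_fix (hk.2 _ rfl)
  have m := mul_mem (inv_mem (mem_inf.1 hk).1) hg
  rw [← ex] at s0 gu
  clear ex fx hk hg
  generalize k⁻¹ * g = g at *
  by_cases h2 : (2 : K) = 0
  swap
  · obtain ⟨a, ha, e⟩ := e
    obtain ⟨a, rfl⟩ := mTT.1 ha
    replace e : ∀ y, g (xx a y) = xx t (g y) := fun y => by rw [← e]; simp
    have a0 : a ≠ 0 := fun k => t0 (xx_inj (σ := σ) (LinearEquiv.ext fun y => by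
      rw [← ap_inv g y, ← e, k, xx_zero]; rfl))
    have sa := sn (σ := σ) a0
    let w : Jv σ := jv (x.v / (2 * a * σ a)) 0 0 (by js [map_ofNat]; ring) (map_zero σ)
    have : x = xx a (xx a w - w) - (xx a w - w) := by js [w, xu, xs, map_ofNat]; field_simp; ring
    rw [this, map_sub, e, map_sub, e] at s0
    js [] at s0
    exact s0 trivial
  obtain ⟨l, hl, l0⟩ : ∃ l, σ l = l ∧ ¬ (l = 0 ∨ l = 1) := by simpa only [F2, not_forall, exists_prop] using n2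
  rw [not_or] at l0
  let Y : AddSubgroup (Jv σ) := ((xx t : A2 σ).toLinearMap - LinearMap.id).ker.toAddSubgroup
  have mY : ∀ y, y ∈ Y ↔ (xx t : A2 σ) y = y := fun y => sub_eq_zero
  have cm : ∀ a ∈ cj g (TT σ), ∀ b ∈ cj g (TT σ), ∀ y, a (b y) = b (a y) := by
    rintro _ ⟨a, ha, rfl⟩ _ ⟨b, hb, rfl⟩ y
    obtain ⟨a, rfl⟩ := mTT.1 ha
    obtain ⟨b, rfl⟩ := mTT.1 hb
    simp only [MulEquiv.coe_toMonoidHom, MulAut.conj_apply, mul_ap, inv_ap]
    rw [← mul_ap (xx a), ← xx_add, add_comm, xx_add, mul_ap]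
  have le := (sy g m (cz (zpowers (xx t))) fun a ha => mem_cz_zpowers.2 (mul_inv_eq_of_eq_mul
    (LinearEquiv.ext (cm a ha _ e)))).le_of_normal (X := (G ⊓ cz (zpowers (xx t))) ⊓ st ⊥ Y)
    ((p_st p_smul _ _).to_le inf_le_right) inf_le_left fun a ha => mem_nz_inf (le_nz_self _ ha) (nz_st (by simp) fun y hy => by
      rw [mY, ← mul_ap, ← mul_inv_eq_iff_eq_mul.1 (mem_cz_zpowers.1 ha.2), mul_ap, (mY y).1 hy])
  have lm : ∀ l, σ l = l → xx (l * t) ∈ cj g (TT σ) := fun l hl => le ⟨⟨h.le (xx_mem _), mem_cz_zpowers.2 (by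
    rw [← xx_add, add_comm, xx_add, mul_inv_cancel_right])⟩, fun y => by
      js [mY, hl]; linear_combination (l * t * σ t * y.u) * h2, fun y hy => by
      have := (mY y).1 hy
      js [add_eq_left, mul_eq_zero, t0, false_or] at this
      js [this.1, AddSubgroup.mem_bot, hl] at this ⊢
      linear_combination l * this, by simp⟩
  have nT : cj g (TT σ) ≤ TT σ := fun y hy => by
    have z2 : ∀ j : Jv σ, j.u = 0 → (y j).u = 0 := fun j hj => by
      have c : ∀ a b, σ a = a → σ b = b → ∀ j j' : Jv σ, xx (a * t) j - j = xx (b * t) j' - j' →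
          xx (a * t) (y j) - y j = xx (b * t) (y j') - y j' := fun a b ha hb j j' e => by
        rw [← cm y hy _ (lm a ha), ← cm y hy _ (lm b hb), ← map_sub, ← map_sub, e]
      have e1 := c 1 l (map_one σ) hl (es (l * j.s)) j (by js [es, hl, hj]; ring)
      have e2 := c l (l * l) hl (by js [hl]) (es (l * j.s)) j (by js [es, hl, hj]; ring)
      generalize y j = w at *
      generalize y (es (l * j.s)) = w' at *
      js [hl] at e1 e2
      have : (l * (l - 1)) ^ 2 * (t * σ t) * w.u = 0 := by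
        linear_combination -e2.2 + l * e1.2 - (l - l * l) * σ t * e1.1
      simpa [l0, sub_eq_zero, t0, sn t0] using this
    obtain ⟨a, ha, rfl⟩ := id hy
    obtain ⟨a, rfl⟩ := mTT.1 ha
    refine memT h (mul_mem (mul_mem m (h.le ha)) (inv_mem m)) (fun z zu zs => ?_) (cj_p g a)
    obtain ⟨s, hs⟩ := ex_ts (σ := σ) z.sv t0
    have k := z2 (es s) rfl
    rw [show z = xx t (es s) - es s by js [es, zu, zs, hs], map_sub]
    erw [cm _ hy _ e]
    js [k]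
  refine s0 (ts0 (σ := σ) fun s => ?_)
  obtain ⟨a, ha, e⟩ := mem_cj'.1 ((cj_eq_of_le nT).ge (xx_mem s))
  have : xx s (g x) = g x := by rw [← e, mul_ap, mul_ap, inv_ap, (T_st ha).2.2 x ⟨xu, xs⟩]
  js [gu] at this
  linear_combination this

end H2.PV
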