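/-
Fusion systems on a Sylow `p`-subgroup of `PSU₄(q)`: the points of `J` (a Gauss sum estimate).
-/
import Cfsg.Agent.H2.PV1

set_option autoImplicit false
set_option linter.unusedSectionVars false
set_option linter.unusedSimpArgs false

namespace H2.PV
open Subgroup H25 H8.PU H7.PV H7.PV.Cu
open H24.SP (mul_ap one_ap inv_ap ap_inv inv_fix inv_eq_of inv_pres)
universe u v

/-- values of a quadratic map -/
theorem cs {X A : Type*} [AddCommGroup X] [Finite X] [AddCommGroup A] [Finite A] (hc : Nat.card X = Nat.card A ^ 2)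
    (f : X → A) (B : AddSubgroup A) (b : X → X →+ A) (f0 : f 0 = 0) (hf : ∀ t h, f (t + h) = f t + f h + b h t)
    (hb : ∀ h t, b h t ∈ B) (hb' : ∀ h, h ≠ 0 → ∀ a ∈ B, ∃ t, b h t = a) {δ : A} (hδ : δ ∈ B) :
    (∃ t, f t = δ) ∧ (B ≠ ⊤ → ∀ t0, ∃ t, t ≠ t0 ∧ f t = δ) := by
  classical
  have := Fintype.ofFinite X
  have := Fintype.ofFinite A
  rw [Nat.card_eq_fintype_card, Nat.card_eq_fintype_card] at hc
  have q0 : (0 : ℝ) < Fintype.card A := by exact_mod_cast Fintype.card_pos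
  let a : AddChar A ℂ → ℝ := fun ψ => (∑ t, ψ (f t - δ)).re + Fintype.card A
  have tr : ∀ ψ : AddChar A ℂ, (∀ x ∈ B, ψ x = 1) → (Fintype.card A : ℝ) ≤ a ψ := fun ψ h => by
    let χ : AddChar X ℂ := ⟨fun t => ψ (f t), by rw [f0, ψ.map_zero_eq_one], fun t t' => by
      rw [hf, ψ.map_add_eq_mul, ψ.map_add_eq_mul, h _ (hb _ _), mul_one]⟩
    have : ∑ t, ψ (f t - δ) = ∑ t, χ t := Finset.sum_congr rfl fun t _ => by rw [ψ.map_sub_eq_div, h _ hδ, div_one]; rfl
    simp only [a, this, AddChar.sum_eq_ite]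
    split_ifs <;> simp
  have nn : ∀ ψ, 0 ≤ a ψ := fun ψ => by
    by_cases h : ∀ x ∈ B, ψ x = 1
    · exact q0.le.trans (tr ψ h)
    push Not at h
    obtain ⟨x, hx, h⟩ := h
    have e : (starRingEnd ℂ) (∑ t, ψ (f t - δ)) * ∑ t, ψ (f t - δ) = (Fintype.card A : ℂ) ^ 2 := by
      simp only [map_sum, ← AddChar.map_neg_eq_conj, Finset.sum_mul]
      have e1 : ∀ t, ψ (-(f t - δ)) * ∑ t', ψ (f t' - δ) = ∑ h, ψ (f h) * ψ.compAddMonoidHom (b h) t := fun t => by
        rw [Finset.mul_sum, ← Equiv.sum_comp (Equiv.addLeft t)]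
        refine Finset.sum_congr rfl fun h _ => ?_
        rw [AddChar.compAddMonoidHom_apply, ← ψ.map_add_eq_mul, ← ψ.map_add_eq_mul, Equiv.coe_addLeft, hf]
        congr 1; abel
      simp only [e1]
      rw [Finset.sum_comm, Finset.sum_eq_single 0]
      · have : ∀ t, b 0 t = 0 := fun t => by simpa [f0] using hf t 0
        simp [this, f0, hc]
      · intro h _ h0
        obtain ⟨t, ht⟩ := hb' h h0 x hx
        rw [← Finset.mul_sum, AddChar.sum_eq_zero_iff_ne_zero.2 fun e => ?_, mul_zero]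
        have := DFunLike.congr_fun e t
        rw [AddChar.compAddMonoidHom_apply, ht] at this
        contradiction
      · simp
    rw [Complex.conj_mul'] at e
    have e' : ‖∑ t, ψ (f t - δ)‖ = Fintype.card A := (pow_left_inj₀ (norm_nonneg _) q0.le two_ne_zero).1 (by exact_mod_cast e)
    have := (abs_le.1 (Complex.abs_re_le_norm (∑ t, ψ (f t - δ)))).1
    simp only [a]; linarith
  have tot : ∑ ψ, a ψ = (Finset.univ.filter (f · = δ)).card * Fintype.card A + (Fintype.card A : ℝ) ^ 2 := by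
    simp only [a, Finset.sum_add_distrib, ← Complex.re_sum]
    rw [Finset.sum_comm]
    simp only [AddChar.sum_apply_eq_ite, sub_eq_zero, ← Finset.sum_filter]
    simp [sq]
  have a0 : a 0 = (Fintype.card A : ℝ) ^ 2 + Fintype.card A := by simp [a, hc, sq]
  refine ⟨?_, fun n t0 => ?_⟩
  · have := Finset.single_le_sum (fun ψ _ => nn ψ) (Finset.mem_univ 0)
    rw [tot, a0] at this
    obtain ⟨t, ht⟩ := Finset.card_pos.1 (show 0 < (Finset.univ.filter (f · = δ)).card from Nat.cast_pos.1 (by nlinarith : (0 : ℝ) < _))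
    exact ⟨t, (Finset.mem_filter.1 ht).2⟩
  · obtain ⟨x, hx⟩ : ∃ x, x ∉ B := by simpa [AddSubgroup.eq_top_iff'] using n
    obtain ⟨ψ, hψ⟩ := (AddChar.exists_apply_ne_zero (a := (x : A ⧸ B))).2 (by rwa [Ne, QuotientAddGroup.eq_zero_iff])
    have n0 : (0 : AddChar A ℂ) ≠ ψ.compAddMonoidHom (QuotientAddGroup.mk' B) := fun e => hψ (DFunLike.congr_fun e x).symm
    have := Finset.sum_le_sum_of_subset_of_nonneg (Finset.subset_univ {0, ψ.compAddMonoidHom (QuotientAddGroup.mk' B)})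
      fun ψ _ _ => nn ψ
    have t1 := tr (ψ.compAddMonoidHom (QuotientAddGroup.mk' B)) fun y hy => by
      rw [AddChar.compAddMonoidHom_apply, QuotientAddGroup.mk'_apply, (QuotientAddGroup.eq_zero_iff y).2 hy, ψ.map_zero_eq_one]
    rw [tot, Finset.sum_pair n0, a0] at this
    obtain ⟨t, ht, k⟩ := Finset.exists_mem_ne (show 1 < (Finset.univ.filter (f · = δ)).card from
      Nat.one_lt_cast.1 (by nlinarith : (1 : ℝ) < _)) t0
    exact ⟨t, k, (Finset.mem_filter.1 ht).2⟩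

variable {K : Type v} [Field K] [Finite K] {σ : K →+* K} [IV σ] {p : ℕ} [Fact p.Prime] [CharP K p]
  {G : Subgroup (A2 σ)} {g g' : A2 σ} {x y : Jv σ} {t t' : K}

variable (σ) in
/-- the fixed field -/
def Fs : Subfield K := σ.eqLocusField (RingHom.id K)
def ez (v : Fs σ) : Jv σ := jv 0 0 v (map_zero σ) v.2
theorem ez_add (a b : Fs σ) : ez (a + b) = ez a + ez b := Jv.ext (add_zero _).symm (add_zero _).symm rfl
/-- `v ↦ u (g (0, 0, v))` -/
def bz (g : A2 σ) : Fs σ →+ Fs σ := AddMonoidHom.mk' (fun v => ⟨(g (ez v)).u, Jv.su _⟩) fun a b =>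
  Subtype.ext (by rw [ez_add, map_add]; rfl)

theorem cs' (g : A2 σ) {w : Jv σ} (hw : w.u ≠ 0) {δ : Fs σ} (hδ : δ ∈ (bz g).range) :
    (∃ t, (g (xx t w - w)).u = δ) ∧ ((bz g).range ≠ ⊤ → ∃ t, t ≠ 0 ∧ (g (xx t w - w)).u = δ) := by
  let c : K → K →+ Fs σ := fun h => {
    toFun t := ⟨(t * σ h + σ t * h) * w.u, show σ _ = (t * σ h + σ t * h) * w.u by js []; ring⟩
    map_zero' := Subtype.ext (by simp)
    map_add' a b := Subtype.ext (by simp; ring) }
  have := cs (A := Fs σ) (card_K σ) (fun t => (⟨(g (xx t w - w)).u, Jv.su _⟩ : Fs σ)) (bz g).range (fun h => (bz g).comp (c h))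
    (Subtype.ext (by simp [xx_zero])) (fun t h => Subtype.ext ?_) (fun h t => ⟨_, rfl⟩) (fun h h0 a ⟨v, e⟩ => ?_) hδ
  · exact ⟨this.1.imp fun t e => congrArg Subtype.val e, fun n => (this.2 n 0).imp fun t e => ⟨e.1, congrArg Subtype.val e.2⟩⟩
  · show (g _).u = (g _).u + (g _).u + (g (ez (c h t))).u
    rw [← Jv.add_u, ← Jv.add_u, ← map_add, ← map_add]
    congr 2
    js [c, ez, AddMonoidHom.coe_mk, ZeroHom.coe_mk]; cg
  · obtain ⟨s, hs⟩ := ex_ts (σ := σ) (v := v / w.u) (by js [show σ v = v from v.2]) h0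
    exact ⟨s, e ▸ congrArg (bz g) (Subtype.ext (show (s * σ h + σ s * h) * w.u = v by
      rw [← div_mul_cancel₀ (v : K) hw, ← hs]; ring))⟩

theorem ex_u (sv : SV G) (hg : g ∈ G) (n : ¬ B2 g) : ∃ x : Jv σ, x.u = 0 ∧ x.s = 0 ∧ (g x).u ≠ 0 := by
  by_contra! c
  exact n fun x a b => ⟨c x a b, sv g hg x a b (c x a b)⟩

theorem j2 : J2 σ p := fun G h sv => by
  have op : Op G := fun g hg n x xu xs gu => by_contra fun x0 => by
    obtain ⟨y, yu, ys, w0⟩ := ex_u sv hg n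
    have gs := sv g hg x xu xs gu
    obtain ⟨t, t0, e⟩ := (cs' g⁻¹ w0 (zero_mem _)).2 fun e => x0 (g.injective (by
      have := (injective_iff_map_eq_zero _).1 (Finite.injective_iff_surjective.2 (AddMonoidHom.range_eq_top.1 e))
        ⟨(g x).v, Jv.sv _⟩ (Subtype.ext (show (g⁻¹ (ez _)).u = 0 by
          rw [show ez ⟨(g x).v, Jv.sv _⟩ = g x from Jv.ext gu.symm gs.symm rfl, inv_ap, xu]))
      js [map_zero, gu, gs]
      exact congrArg Subtype.val this))
    rw [map_sub, inv_ap] at e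
    js [yu, Subfield.coe_zero] at e
    have e1 := sv _ (mul_mem (mul_mem (inv_mem hg) (h.le (xx_mem t))) hg) y yu ys e
    have := sv g hg (g⁻¹ (xx t (g y)) - y) (by js [e, yu]) (by rw [Jv.sub_s, ys, sub_zero]; exact e1) (by js [map_sub, ap_inv])
    js [map_sub, ap_inv] at this
    exact mul_ne_zero t0 w0 this
  refine ⟨op, fun g hg g' hg' n n' => ?_⟩
  obtain ⟨y, yu, ys, w0⟩ := ex_u sv hg n
  have on : Function.Surjective (bz g'⁻¹) := Finite.injective_iff_surjective.1 ((injective_iff_map_eq_zero _).2 fun v e =>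
    Subtype.ext (congrArg Jv.v (op _ (inv_mem hg') (fun b => n' (inv_inv g' ▸ b2_inv b)) (ez v) rfl rfl (congrArg Subtype.val e))))
  obtain ⟨t, e⟩ := (cs' g'⁻¹ w0 (on (-⟨(g'⁻¹ (g y)).u, Jv.su _⟩))).1
  refine ⟨xt t, by_contra fun b => w0 ?_⟩
  rw [op _ (mul_mem (mul_mem (inv_mem hg') (h.le (xx_mem t))) hg) b y yu ys ?_, map_zero]
  · rfl
  rw [map_sub, Jv.sub_u, Subfield.coe_neg] at e
  exact (sub_eq_neg_self.1 e :)

end H2.PV
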