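/-
Fusion systems on a Sylow `p`-subgroup of `PSU₄(q)`: recognition of `L₂(q²)` on `J`.
-/
import Cfsg.Agent.H2.PV2

set_option autoImplicit false
set_option linter.unusedSectionVars false
set_option linter.unusedSimpArgs false

namespace H2.PV
open Subgroup H25 H8.PU H7.PV H7.PV.Cu
open H24.SP (mul_ap one_ap inv_ap ap_inv inv_fix inv_eq_of inv_pres)
universe u v
variable {K : Type v} [Field K] [Finite K] {σ : K →+* K} [IV σ] {p : ℕ} [Fact p.Prime] [CharP K p]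
  {G : Subgroup (A2 σ)} {g g' : A2 σ} {x y : Jv σ} {t t' c : K}

def e1 : Jv σ := jv 1 0 0 (map_one σ) (map_zero σ)
def e3 : Jv σ := jv 0 0 1 (map_zero σ) (map_one σ)
theorem ez_u (v : Fs σ) : (ez v).u = 0 := rfl
theorem ez_s (v : Fs σ) : (ez v).s = 0 := rfl
theorem ez_v (v : Fs σ) : (ez v).v = v := rfl
theorem w2_inv : (w2 : A2 σ)⁻¹ = w2 := rfl
theorem nb_of (h : ∀ x, (g⁻¹ x).u = 0 ↔ x.v + c * x.u = 0) : ¬ B2 g := fun b => by
  simpa [e3] using (h e3).1 (b2_inv b e3 rfl rfl).1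
theorem nb_mul (b : B2 g) (n : ¬ B2 g') : ¬ B2 (g * g') := fun k => n (inv_mul_cancel_left g g' ▸ b2_mul (b2_inv b) k)

/-- a linear equation for `g Z₂` -/
theorem lam (op : Op G) (hg : g ∈ G) (n : ¬ B2 g) : ∃ l : Jv σ →+ K, (∀ x, σ (l x) = l x) ∧
    (∀ x, x.u = 0 → x.s = 0 → l x = x.v) ∧ ∀ x, (g⁻¹ x).u = 0 ↔ l x = 0 := by
  have inj : Function.Injective (bz g⁻¹) := (injective_iff_map_eq_zero _).2 fun v e =>
    Subtype.ext (congrArg Jv.v (op _ (inv_mem hg) (fun b => n (inv_inv g ▸ b2_inv b)) (ez v) rfl rfl (congrArg Subtype.val e)))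
  let β := AddEquiv.ofBijective _ (Finite.injective_iff_bijective.1 inj)
  let π : Jv σ →+ Fs σ := AddMonoidHom.mk' (fun x => ⟨(g⁻¹ x).u, Jv.su _⟩) fun a b => Subtype.ext (by rw [map_add]; rfl)
  refine ⟨(Fs σ).subtype.toAddMonoidHom.comp (β.symm.toAddMonoidHom.comp π), fun x => (β.symm (π x)).2, fun x a b => ?_, fun x => ?_⟩
  · exact congrArg Subtype.val ((β.symm_apply_eq (x := π x) (y := ⟨x.v, x.sv⟩)).2 (Subtype.ext (congrArg (fun z => (g⁻¹ z).u)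
      (show x = ez ⟨x.v, x.sv⟩ from Jv.ext a b rfl))))
  · exact Iff.trans (by simp [π, Subtype.ext_iff]) (β.symm.map_eq_zero_iff.symm.trans Subtype.ext_iff)

theorem norm (h : Syl p (TT σ) G) (op : Op G) (tr : Tr G) (hg : g ∈ G) (n : ¬ B2 g)
    (k : Pr σ ∨ ∃ g ∈ G, ∃ ν, σ ν = ν ∧ ν ≠ 0 ∧ ν ^ 2 ≠ 1 ∧ D2 g ν⁻¹ (ν ^ 2) (.refl K)) :
    ∃ g ∈ G, ∃ c, σ c = c ∧ ∀ x, (g⁻¹ x).u = 0 ↔ x.v + c * x.u = 0 := by
  rcases k with pr | ⟨k, hk, ν, hν, ν0, ν2, d⟩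
  · obtain ⟨l, l1, l2, l3⟩ := lam op hg n
    obtain ⟨a, ha⟩ := lin_fn (σ := σ) (fun s => l (es s)) (fun _ => l1 _) (fun x y => by rw [es_add, map_add])
      fun r x hr => pr.lin (fun s => l (es s)) (fun x y => by rw [es_add, map_add]) r x hr
    refine ⟨xx a * g, mul_mem (h.le (xx_mem a)) hg, l (xx (-a) e1), l1 _, fun x => ?_⟩
    obtain ⟨m, hm⟩ := pr _ x.su
    rw [mul_inv_rev, mul_ap, l3, xx_inv, show xx (-a) x = m • xx (-a) e1 + es x.s + (xx (-a) (x - m • e1) - es x.s) by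
      rw [map_sub, map_zsmul]; abel, map_add, map_add, map_zsmul, ha, l2 (_ - _) (by js [e1, es, Jv.zs_u, hm]) (by
        js [e1, es, Jv.zs_u, Jv.zs_s, hm]), zsmul_eq_mul]
    js [e1, es, Jv.zs_u, Jv.zs_s, Jv.zs_v, hm]
    constructor <;> intro e <;> linear_combination e
  have bk : B2 k := fun x a b => by simp [d x, a, b]
  obtain ⟨a, b⟩ := tr _ (mul_mem hk hg) g hg (nb_mul bk n) n
  have ν1 : ν - 1 ≠ 0 := sub_ne_zero.2 fun e => ν2 (by simp [e])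
  have ν3 : 1 - ν ≠ 0 := fun e => ν1 (by linear_combination -e)
  have m := mul_mem (h.le (xx_mem (a.t * ν / (1 - ν)))) hg
  have n' := nb_mul (b2_xx (a.t * ν / (1 - ν))) n
  have e : (xx (a.t * ν / (1 - ν)) * g)⁻¹ * k * (xx (a.t * ν / (1 - ν)) * g) = g⁻¹ * u2 a * (k * g) := by
    have : (xx (a.t * ν / (1 - ν)))⁻¹ * k * xx (a.t * ν / (1 - ν)) = u2 a * k := LinearEquiv.ext fun x => by
      js [xx_inv, mul_ap, d _, hν]
      constructor <;> field_simp <;> ring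
    rw [mul_inv_rev, mul_assoc g⁻¹, mul_assoc g⁻¹, ← mul_assoc _ _ g, this]; group
  rw [← e] at b
  generalize xx (a.t * ν / (1 - ν)) * g = g at m n' b
  obtain ⟨l, l1, l2, l3⟩ := lam op m n'
  have z2 := (j0 G h _ (mul_mem (mul_mem (inv_mem m) hk) m) b).2
  have inv : ∀ x, l (k x) = l x := fun x => by
    have := z2 _ ((l3 (x - ez ⟨l x, l1 x⟩)).2 (by rw [map_sub, l2 (ez _) rfl rfl]; exact sub_self _))
    rw [mul_ap, mul_ap, ap_inv, l3, map_sub, map_sub, l2 (k (ez _)) (bk _ rfl rfl).1 (bk _ rfl rfl).2, sub_eq_zero] at this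
    rw [this, (d _).2.2]
    js [ez_v, hν]; field_simp
  refine ⟨g, m, 0, map_zero σ, fun x => ?_⟩
  have ν4 := sub_ne_zero.2 ν2
  let y : Jv σ := jv (x.u / (ν ^ 2 - 1)) (x.s / (ν - 1)) 0 (by js [hν]) (map_zero σ)
  rw [l3, show l x = l (k y - y + ez ⟨x.v, x.sv⟩) by
    congr 1; js [y, ez_u, ez_s, ez_v, d _, hν]; constructor <;> field_simp, map_add, map_sub, inv, l2 (ez _) rfl rfl]
  js [ez_v]

theorem std (h : Syl p (TT σ) G) (sv : SV G) (hg : g ∈ G) (r : ∀ x, (g⁻¹ x).u = 0 ↔ x.v = 0) : St2 G := by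
  obtain ⟨op, tr⟩ := j2 G h sv
  have n : ¬ B2 g := nb_of (c := 0) (by simpa using r)
  have rv : ∀ x : Jv σ, x.u = 0 → (g x).v = 0 := fun x a => (r _).1 (by rwa [inv_ap])
  obtain ⟨ω, ω1, nω⟩ : ∃ ω : K, ω ≠ 1 ∧ ω * σ ω = 1 := by
    obtain ⟨a, ha⟩ := IV.ne (σ := σ)
    have a0 : a ≠ 0 := fun e => ha (by simp [e])
    have := sn (σ := σ) a0
    exact ⟨σ a / a, fun e => ha ((div_eq_one_iff_eq a0).1 e), by js []; field_simp⟩
  have rs : ∀ x : Jv σ, x.u = 0 → x.s = 0 → (g x).s = 0 := fun x a b => by_contra fun s0 => by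
    have u0 : (g x).u ≠ 0 := fun e => s0 (sv g hg x a b e)
    have e : (g⁻¹ (xx ((ω - 1) * (g x).s / (g x).u) (g x))).u = 0 := (r _).2 (by
      js [rv x a]; field_simp; linear_combination (g x).s * σ (g x).s * nω)
    have t0 : (ω - 1) * (g x).s / (g x).u ≠ 0 := div_ne_zero (mul_ne_zero (sub_ne_zero.2 ω1) s0) u0
    generalize (ω - 1) * (g x).s / (g x).u = t at e t0
    have e1 := sv _ (mul_mem (mul_mem (inv_mem hg) (h.le (xx_mem t))) hg) x a b e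
    have := sv g hg (g⁻¹ (xx t (g x)) - x) (by js [e, a]) (by rw [Jv.sub_s, b, sub_zero]; exact e1) (by js [map_sub, ap_inv])
    js [map_sub, ap_inv] at this
    exact mul_ne_zero t0 u0 this
  have zz : ∀ x : Jv σ, x.s = 0 → x.v = 0 → (g⁻¹ x).s = 0 := fun x a b => by
    obtain ⟨v, hv⟩ := Finite.injective_iff_surjective.1 ((injective_iff_map_eq_zero (bz g)).2 fun v e =>
      Subtype.ext (congrArg Jv.v (op g hg n (ez v) rfl rfl (congrArg Subtype.val e)))) ⟨x.u, x.su⟩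
    rw [show x = g (ez v) from Jv.ext (congrArg Subtype.val hv).symm (by rw [a, rs _ rfl rfl]) (by rw [b, rv _ rfl]), inv_ap]; rfl
  have pts : ∀ k ∈ G, B2 k ∨ ∃ t, ∀ x : Jv σ, x.u = 0 → x.s = 0 → (k x).s = t * (k x).u ∧ (k x).v = t * σ t * (k x).u :=
    fun k hk => or_iff_not_imp_left.2 fun nk => by
      obtain ⟨c, b⟩ := tr k hk g hg nk n
      refine ⟨-c.t, fun x a a' => ?_⟩
      have e1 := rs _ (b x a a').1 (b x a a').2
      have e2 := rv _ (b x a a').1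
      rw [mul_ap, mul_ap, ap_inv] at e1 e2
      have e3 := congrArg σ e1
      js [] at e1 e2 e3 ⊢
      exact ⟨by linear_combination e1, by linear_combination e2 - c.t * e3 - σ c.t * e1⟩
  have sg : ∀ k ∈ G, ∀ x : Jv σ, x.u = 0 → x.s = 0 → (k x).u * (k x).v = (k x).s * σ (k x).s := fun k hk x a b => by
    rcases pts k hk with c | ⟨t, c⟩
    · rw [(c x a b).1, (c x a b).2, zero_mul, zero_mul]
    · js [c x a b]; ring
  have le : cj (w2⁻¹ * g) (TT σ) ≤ TT σ := cj_le.2 fun y hy => by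
    obtain ⟨t, rfl⟩ := mTT.1 hy
    have m := mul_mem (mul_mem hg (h.le hy)) (inv_mem hg)
    have f1 : ∀ x : Jv σ, x.s = 0 → x.v = 0 → (g * xx t * g⁻¹ : A2 σ) x = x := fun x a b => by
      rw [mul_ap, mul_ap, xx_fix ⟨(r x).2 b, zz x a b⟩, ap_inv]
    have e : ∀ x, (g * xx t * g⁻¹ : A2 σ) x - x = g (xx t (g⁻¹ x) - g⁻¹ x) := fun x => by simp
    have f2 : ∀ x : Jv σ, x.v = 0 → ((g * xx t * g⁻¹ : A2 σ) x).s = x.s := fun x b => by
      rw [← sub_eq_zero, ← Jv.sub_s, e]; exact rs _ (by js []) (by js [(r x).2 b])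
    have f3 : ∀ x : Jv σ, ((g * xx t * g⁻¹ : A2 σ) x).v = x.v := fun x => by
      rw [← sub_eq_zero, ← Jv.sub_v, e]; exact rv _ (by js [])
    have pp := cj_p (p := p) g t
    suffices ∃ a, g * xx t * g⁻¹ = w2 * xx a * w2⁻¹ by
      obtain ⟨a, e⟩ := this
      rw [show w2⁻¹ * g * xx t * (w2⁻¹ * g)⁻¹ = w2⁻¹ * (g * xx t * g⁻¹) * w2 by group, e]
      simp [mul_assoc]
    clear e
    generalize g * xx t * g⁻¹ = y at *
    rcases pts y m with b | ⟨t, b⟩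
    · obtain ⟨a, rfl⟩ := mTT.1 (memT h m b pp)
      have := f1 e1 rfl rfl
      js [e1] at this
      exact ⟨0, by simp [this.1, xx_zero]⟩
    have t0 : t ≠ 0 := fun e => by simpa [e, f3, e3] using (b e3 rfl rfl).2
    have st := sn (σ := σ) t0
    have g3 : ∀ x : Jv σ, x.u = 0 → x.s = 0 → (y x).u = x.v / (t * σ t) ∧ (y x).s = x.v / σ t := fun x a a' => by
      obtain ⟨c, d⟩ := b x a a'
      rw [f3] at d
      rw [c, d]; constructor <;> field_simp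
    have dec : ∀ x : Jv σ, (y x).u = x.u + (y (es x.s)).u + x.v / (t * σ t) ∧ (y x).s = x.s + x.v / σ t := fun x => by
      have := g3 (ez ⟨x.v, x.sv⟩) rfl rfl
      rw [show y x = y (jv x.u 0 0 x.su (map_zero σ) + es x.s + ez ⟨x.v, x.sv⟩) by congr 1; js [es, ez_u, ez_s, ez_v], map_add, map_add,
        f1 _ rfl rfl]
      js [this, f2 (es x.s) rfl, es_s, ez_v]
    have g2 : ∀ s, (y (es s)).u = s / t + σ s / σ t := fun s => by
      by_cases s0 : s = 0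
      · rw [s0, show es 0 = (0 : Jv σ) from rfl]; simp
      have := sg _ (mul_mem (mul_mem m (h.le (xx_mem s))) hg) (g⁻¹ e1) ((r _).2 rfl) (zz _ rfl rfl)
      rw [mul_ap, mul_ap, ap_inv, f3, (dec _).1, (dec _).2] at this
      js [e1] at this
      have s1 := sn (σ := σ) s0
      field_simp at this ⊢
      linear_combination this
    refine ⟨-t⁻¹, LinearEquiv.ext fun x => ?_⟩
    js [dec x, g2, f3, mul_ap, w2_inv, w2_ap, neg_neg]
    constructor <;> field_simp <;> ring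
  have lo : ∀ t, w2 * xx t * w2⁻¹ ∈ G := fun t => by
    obtain ⟨a, ha, e⟩ := mem_cj'.1 ((cj_eq_of_le le).ge (xx_mem t))
    rw [← e, show w2 * (w2⁻¹ * g * a * (w2⁻¹ * g)⁻¹) * w2⁻¹ = g * a * g⁻¹ by group]
    exact mul_mem (mul_mem hg (h.le ha)) (inv_mem hg)
  have wl : ∀ l, xx l * (w2 * xx l⁻¹ * w2⁻¹) * xx l ∈ G := fun l => mul_mem (mul_mem (h.le (xx_mem l)) (lo _)) (h.le (xx_mem l))
  have hw : w2 ∈ G := by
    convert wl 1 using 1
    refine LinearEquiv.ext fun x => ?_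
    js [mul_ap, w2_inv, w2_ap, inv_one]; cg
  refine ⟨hw, fun l l0 => ⟨_, mul_mem (wl l) hw, fun x => ?_⟩, fun k hk => or_iff_not_imp_left.2 fun nk =>
    tr k hk w2 hw nk fun b => by simpa [w2_ap, e3] using (b e3 rfl rfl).1⟩
  have := sn (σ := σ) l0
  js [mul_ap, w2_inv, w2_ap]
  refine ⟨?_, ?_, ?_⟩ <;> field_simp <;> ring

theorem j3 : J3 σ p := fun G h sv op tr ⟨g, hg, n⟩ k => by
  obtain ⟨g, hg, c, hc, r⟩ := norm h op tr hg n k
  have n := nb_of r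
  refine ⟨c, hc, fun k hk a b φ d => ?_, ?_⟩
  · have ab : a * b ≠ 0 := fun e => one_ne_zero (α := K) (congrArg Jv.s (k.injective (show k (es 1) = k 0 by
      js [map_zero, d _, es, e])))
    obtain ⟨w, e⟩ := tr _ (mul_mem hk hg) g hg (nb_mul (fun x a b => by simp [d x, a, b]) n) n
    have z2 : ∀ x : Jv σ, x.v + c * x.u = 0 → (u2 w (k x)).v + c * (u2 w (k x)).u = 0 := fun x hx => by
      have := (j0 G h _ (mul_mem (mul_mem (inv_mem hg) (h.le ⟨w, rfl⟩)) (mul_mem hk hg)) e).2 _ ((r x).2 hx)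
      rwa [mul_ap, mul_ap, mul_ap, ap_inv, r] at this
    have w0 : w.t = 0 := ts0 (σ := σ) fun s => by
      have := z2 (es (φ.symm (s / (a * b)))) (by js [es])
      rw [u2_v, u2_u, (d _).1, (d _).2.1, (d _).2.2, es_s, RingEquiv.apply_symm_apply, mul_div_cancel₀ _ ab] at this
      simpa [es] using this
    have := z2 (jv 1 0 (-c) (map_one σ) (by js [hc])) (by js [neg_add_cancel])
    js [d _, w0, map_one, map_neg, map_zero] at this
    exact mul_left_cancel₀ (right_ne_zero_of_mul ab) (by linear_combination -this)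
  have ti : ∀ x, ((t2 c hc)⁻¹ x).u = x.u ∧ ((t2 c hc)⁻¹ x).s = x.s ∧ ((t2 c hc)⁻¹ x).v = x.v - c * x.u := fun _ => ⟨rfl, rfl, rfl⟩
  have e : cj (t2 c hc) (TT σ) = TT σ := cj_eq_of_le (cj_le.2 fun y hy => by
    obtain ⟨t, rfl⟩ := mTT.1 hy
    exact mTT.2 ⟨t, LinearEquiv.ext fun x => by js [mul_ap, t2_ap, ti]; ring⟩)
  refine std (p := p) (e ▸ h.cj (t2 c hc)) ?_ (mem_cj'.2 ⟨g, hg, rfl⟩) fun x => ?_
  · rintro _ ⟨k, hk, rfl⟩ x a b e
    exact sv k hk _ a b e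
  · exact (r ((t2 c hc)⁻¹ x)).trans (by js [ti, sub_add_cancel])

end H2.PV
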