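/-
Fusion systems on a Sylow `p`-subgroup of `PSU₄(q)`: recognition of `SL₂(q)` on `Q₁ / Z`.
-/
import Cfsg.Agent.H7.PV2

set_option autoImplicit false
set_option linter.unusedSectionVars false
set_option linter.unusedSimpArgs false

namespace H2.PV
open Subgroup H25 H8.PU H7.PV H7.PV.Cu
open H24.SP (mul_ap one_ap inv_ap ap_inv inv_fix inv_eq_of inv_pres)
universe u v
variable {K : Type v} [Field K] [Finite K] {σ : K →+* K} [IV σ] {p : ℕ} [Fact p.Prime] [CharP K p]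
  {G : Subgroup (A1 K)} {g g' : A1 K} {v w : K × K} {a b l s β : K}

/-- root elements -/
def yy (u : K) (h : σ u = u) : A1 K := u1 (xu u h)
theorem yy_ap (h : σ l = l) (v : K × K) : yy l h v = (v.1, v.2 - l * v.1) := rfl
variable (σ) in
def lo (a b l : K) : A1 K where
  toFun v := (v.1 + l * (a * v.2 + b * σ v.2), v.2)
  invFun v := (v.1 - l * (a * v.2 + b * σ v.2), v.2)
  map_add' v w := by ext <;> simp; ring
  map_smul' n v := by ext <;> simp; ring
  left_inv v := by simp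
  right_inv v := by simp
theorem lo_ap (a b l : K) (v : K × K) : lo σ a b l v = (v.1 + l * (a * v.2 + b * σ v.2), v.2) := rfl
theorem t1_inv (β : K) (v : K × K) : (t1 σ β)⁻¹ v = (v.1, v.2 - β * σ v.1) := rfl
/-- normalization of coordinates on `V` -/
macro "bs" "[" ls:Lean.Parser.Tactic.simpLemma,* "]" loc:(Lean.Parser.Tactic.location)? : tactic => `(tactic|
  simp only [bf, qf, yy_ap, lo_ap, u1_ap, w1_ap, t1_ap, t1_inv, mul_ap, Prod.ext_iff, Prod.fst_add, Prod.snd_add, Prod.fst_sub,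
    Prod.snd_sub, Prod.fst_neg, Prod.snd_neg, Prod.smul_fst, Prod.smul_snd, Prod.fst_zero, Prod.snd_zero, smul_eq_mul, Cu.su, ss,
    RingHom.map_add, RingHom.map_mul, RingHom.map_sub, RingHom.map_neg, RingHom.map_zero, RingHom.map_one, RingHom.map_pow,
    map_inv₀, map_div₀, RingEquiv.refl_apply, mul_zero, zero_mul, add_zero, zero_add, sub_zero, neg_zero, mul_one, one_mul,
    sub_self, and_self, and_true, true_and, $ls,*] $[$loc]?)

theorem rep2 (J : K → K) (h1 : ∀ x y, J (x + y) = J x + J y) (h2 : ∀ l x, σ l = l → J (l * x) = l * J x) :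
    ∃ a b, ∀ x, J x = a * x + b * σ x := by
  obtain ⟨η, hη⟩ := IV.ne (σ := σ)
  have n := sub_ne_zero.2 hη.symm
  have n' := sub_ne_zero.2 hη
  refine ⟨J 1 - (η * J 1 - J η) / (η - σ η), (η * J 1 - J η) / (η - σ η), fun x => ?_⟩
  have e : σ ((x - σ x) / (η - σ η)) = (x - σ x) / (η - σ η) := by bs []; field_simp; ring
  rw [show J x = J ((x - (x - σ x) / (η - σ η) * η) * 1 + (x - σ x) / (η - σ η) * η) by congr 1; ring, h1, h2 _ _ e,
    h2 _ _ (by rw [map_sub, map_mul, e]; field_simp; ring)]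
  ring
theorem ind2 (h : ∀ x, a * x + b * σ x = 0) : a = 0 ∧ b = 0 := by
  obtain ⟨η, hη⟩ := IV.ne (σ := σ)
  have e := h 1
  rw [map_one] at e
  have := (mul_eq_zero.1 (show b * (σ η - η) = 0 by linear_combination h η - η * e)).resolve_right (sub_ne_zero.2 hη)
  exact ⟨by linear_combination e - this, this⟩
theorem bf_nd (h : ∀ w, bf σ v w = 0) : v = 0 := Prod.ext (ts0 (σ := σ) fun s => by simpa [bf] using h (0, s))
  (ts0 (σ := σ) fun s => by have := h (s, 0); bs [] at this; linear_combination -this)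
variable (σ) in
/-- the isometries -/
def iso : Subgroup (A1 K) where
  carrier := {g | ∀ v w, bf σ (g v) (g w) = bf σ v w}
  one_mem' := fun _ _ => rfl
  mul_mem' := fun a b v w => by rw [mul_ap, mul_ap, a, b]
  inv_mem' := fun {g} a v w => by rw [← a, ap_inv, ap_inv]
theorem lin (h : g ∈ iso σ) (hl : σ l = l) (v : K × K) : g (l • v) = l • g v := sub_eq_zero.1 (bf_nd (σ := σ) fun w => by
  have e1 := h (l • v) (g⁻¹ w)
  have e2 := h v (g⁻¹ w)
  bs [ap_inv, hl] at e1 e2 ⊢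
  linear_combination e1 - l * e2)
theorem u_iso (x : Cu σ) : u1 x ∈ iso σ := fun v w => by bs []; ring
theorem b1_mul (h : B1 g) (h' : B1 g') : B1 (g * g') := fun s => by
  rw [mul_ap, show g' (0, s) = (0, (g' (0, s)).2) from Prod.ext (h' s) rfl, h]
theorem b1_inv (h : B1 g) : B1 g⁻¹ := fun s => inv_pres (P := fun v : K × K => v.1 = 0) (fun v e => by
  rw [show v = (0, v.2) from Prod.ext e rfl, h]) _ rfl
theorem cj_ap (h : g ∈ iso σ) (hl : σ l = l) (v : K × K) : (g * yy l hl * g⁻¹) v = v - l • g (0, (g⁻¹ v).1) := by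
  rw [← lin h hl, ← ap_inv g v, ← map_sub, inv_ap, mul_ap, mul_ap, inv_ap]
  congr 1; bs []

theorem pick {x y ν : K} (h2 : (2 : K) ≠ 0) (h : ν ^ 2 ≠ 1) (c1 : 1 + 1 * x ≠ 0 → 1 + 1 * y = 0)
    (c2 : 1 + -1 * x ≠ 0 → 1 + -1 * y = 0) (c3 : 1 + ν * x ≠ 0 → 1 + ν * y = 0) : False := by
  have k : ∀ {m m' z : K}, m ≠ m' → 1 + m * z = 0 → 1 + m' * z = 0 → False := fun {m m' z} n a b =>
    n (by linear_combination m * b - m' * a)
  have n1 : (1 : K) ≠ -1 := fun e => h2 (by linear_combination e)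
  have n2 : (1 : K) ≠ ν := fun e => h (by simp [← e])
  have n3 : (-1 : K) ≠ ν := fun e => h (by simp [← e])
  by_cases a : 1 + 1 * x = 0
  · exact k n3 (c2 (k n1 a)) (c3 (k n2 a))
  by_cases b : 1 + -1 * x = 0
  · exact k n2 (c1 a) (c3 (k n3 b))
  · exact k n1 (c1 a) (c2 b)
theorem pU : IsPGroup p (u1 (σ := σ)).range := fun ⟨_, x, e⟩ => ⟨1, Subtype.ext (by
  have : (x ^ p).u = 0 := pw_add Cu.u (fun _ _ _ _ => rfl) (mem_top x)
  subst e
  exact (map_pow u1 x _).symm.trans (LinearEquiv.ext fun v => by bs [pow_one, this, OneMemClass.coe_one, one_ap]))⟩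

namespace H1'
variable (h : H1 σ p G)
include h
theorem yG (hl : σ l = l) : yy l hl ∈ G := h.syl.le ⟨_, rfl⟩
theorem cG (hg : g ∈ G) (hl : σ l = l) : g * yy l hl * g⁻¹ ∈ G := mul_mem (mul_mem hg (yG h hl)) (inv_mem hg)
theorem red (hg : g ∈ G) : ∃ k ∈ G, k ∈ iso σ ∧ B1 (k⁻¹ * g) := by
  obtain ⟨k, hk, e⟩ := (h.syl.mono_right (K := G ⊓ iso σ) (le_inf h.syl.le fun _ ⟨x, e⟩ => e ▸ u_iso x) inf_le_left).exists_cj_le
    (X := cj g (u1 (σ := σ)).range) (IsPGroup.map pU _)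
    (cj_le.2 fun y hy => mem_inf.2 ⟨mul_mem (mul_mem hg (h.syl.le hy)) (inv_mem hg), fun v w => by
      obtain ⟨ζ, f⟩ := h.fm g hg
      obtain ⟨x, rfl⟩ := hy
      rw [mul_ap, mul_ap, mul_ap, mul_ap, f, u_iso, ← f, ap_inv, ap_inv]⟩)
  refine ⟨k⁻¹, inv_mem (mem_inf.1 hk).1, inv_mem (mem_inf.1 hk).2, fun s => ?_⟩
  rw [cj_cj] at e
  obtain ⟨_, ⟨x, rfl⟩, e⟩ := mem_cj'.1 ((cj_eq_of_le e).ge ⟨xu 1 (map_one σ), rfl⟩)
  have : yy 1 (map_one σ) ((k * g) (0, s)) = (k * g) (0, s) := by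
    rw [yy, ← e, mul_ap _ (k * g)⁻¹, inv_ap, mul_ap]; congr 1; bs []
  rw [inv_inv]
  generalize (k * g) (0, s) = v at *
  bs [] at this
  linear_combination -this
/-- the action of the Borel subgroup on `W` -/
theorem bw (h2 : (2 : K) ≠ 0) (hg : g ∈ G) {c d : K} (c0 : c ≠ 0) (e : ∀ s, g (0, c * s) = (0, c * (a * s + d * σ s))) : a * d = 0 := by
  obtain ⟨x, r, b, φ, r0, b0, -, f⟩ := h.bor g hg fun s => by rw [← mul_div_cancel₀ s c0, e]
  have k : ∀ s, r * b * φ c * φ s = c * (a * s + d * σ s) := fun s => by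
    have := f (0, c * s)
    rw [mul_ap, e, ← map_inv] at this
    bs [map_mul] at this
    linear_combination -this.2
  obtain ⟨ε, ε0, hε⟩ := ex_ep σ
  have k1 := k 1
  have k2 := k ε
  have k3 := k (ε * ε)
  bs [hε, map_one, map_mul] at k1 k2 k3
  rw [k1] at k2 k3
  refine mul_left_cancel₀ (mul_ne_zero (mul_ne_zero h2 h2) (pow_ne_zero 2 (mul_ne_zero c0 ε0))) ?_
  linear_combination (c * (a + d) * φ ε + c * (a * ε - d * ε)) * k2 - c * (a + d) * k3

theorem one (n3 : ¬ F3 σ) (hg : g ∈ G) (i : g ∈ iso σ) (n : ¬ B1 g) (e : (g (0, s)).1 = 0) : s = 0 := by_contra fun s0 => by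
  have fw : ∀ l (hl : σ l = l), (g * yy l hl * g⁻¹ : A1 K) (g (0, s)) = g (0, s) := fun l hl => by simp [cj_ap i]
  have w0 : (g (0, s)).2 ≠ 0 := fun k => s0 (congrArg Prod.snd (g.map_eq_zero_iff.1 (Prod.ext e k)))
  have is : ∀ z, bf σ (g (0, z)) (g (0, s)) = 0 := fun z => by rw [i]; bs []
  obtain ⟨y, hy⟩ : ∃ y, (g⁻¹ (0, y)).1 ≠ 0 := not_forall.1 fun b => n (inv_inv g ▸ b1_inv b)
  have hw : g⁻¹ (0, (g (0, s)).2) = (0, s) := inv_eq_of (Prod.ext e rfl)
  rw [show g (0, s) = (0, (g (0, s)).2) from Prod.ext e rfl] at fw is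
  generalize (g (0, s)).2 = w at *
  have an : ∀ y, bf σ (0, y) (g (0, (g⁻¹ (0, y)).1)) = 2 * ((g⁻¹ (0, y)).1 * σ (g⁻¹ (0, y)).1) := fun y => by
    rw [← ap_inv g (0, y), i, inv_ap]; bs []; ring
  have li : ∀ l y, σ l = l → g⁻¹ (0, l * y) = l • g⁻¹ (0, y) := fun l y hl => by rw [← lin (inv_mem i) hl]; simp
  by_cases h2 : (2 : K) = 0
  · have ind : σ w * y ≠ w * σ y := fun k => by
      obtain ⟨l, hl, rfl⟩ := ex_fx w0 k
      simp [li _ _ hl, hw] at hy
    have f0 : (g (0, (g⁻¹ (0, y)).1)).1 = 0 := by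
      have e1 := is (g⁻¹ (0, y)).1
      have e2 := an y
      generalize g (0, (g⁻¹ (0, y)).1) = f at *
      bs [h2] at e1 e2
      exact eq0 ind (by linear_combination e1 - σ f.1 * w * h2) (by linear_combination -e2 - σ f.1 * y * h2)
    have := H24.SP.ht h.syl (y := (0, y)) (δ := -g (0, (g⁻¹ (0, y)).1)) (by ext <;> simp) (fun _ ⟨x, e⟩ => by
      subst e; bs [f0]) (cG h hg (map_one σ)) (by simp [cj_ap i]) (by simp [cj_ap i, sub_eq_add_neg])
    exact hy (congrArg Prod.snd (g.map_eq_zero_iff.1 (neg_eq_zero.1 this)))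
  obtain ⟨ν, hν, ν0, ν2⟩ := ((tri σ).resolve_left fun k => h2 k.two).resolve_left n3
  obtain ⟨ε, ε0, hε⟩ := ex_ep σ
  have dec : ∀ z : K, ∃ x y, σ x = x ∧ σ y = y ∧ z = x * ε + y ∧ σ z = y - x * ε := fun z =>
    ⟨(z - σ z) / (2 * ε), (z + σ z) / 2, by bs [hε, map_ofNat]; field_simp; ring, by bs [map_ofNat, add_comm],
      by field_simp; ring, by field_simp; ring⟩
  have z0 : (g⁻¹ (0, ε * w)).1 ≠ 0 := fun k => hy (by
    obtain ⟨a, b, ha, hb, e, -⟩ := dec (y / w)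
    rw [show (0, y) = ((0, a * (ε * w)) + (0, b * w) : K × K) by bs []; rw [← div_mul_cancel₀ y w0, e]; ring, map_add, li _ _ ha,
      li _ _ hb, hw]
    bs [k])
  have e1 := is (g⁻¹ (0, ε * w)).1
  have e2 := an (ε * w)
  have fe : ∀ l (hl : σ l = l), (g * yy l hl * g⁻¹ : A1 K) (0, ε * w) = (0, ε * w) - l • g (0, (g⁻¹ (0, ε * w)).1) := fun l hl => cj_ap i hl _
  have ff : ∀ l (hl : σ l = l), (g * yy l hl * g⁻¹ : A1 K) (g (0, (g⁻¹ (0, ε * w)).1)) = g (0, (g⁻¹ (0, ε * w)).1) := fun l hl => by simp [cj_ap i]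
  replace e2 := e2.trans_ne (mul_ne_zero h2 (mul_ne_zero z0 (sn z0)))
  generalize g (0, (g⁻¹ (0, ε * w)).1) = f at *
  obtain ⟨c, hc, ec⟩ := ex_fx (σ := σ) (c := f.1) (mul_ne_zero ε0 w0) (by bs [hε] at e1 ⊢; linear_combination -ε * e1)
  have c0 : c ≠ 0 := fun k => e2 (by bs [ec, k])
  have A : ∀ l (hl : σ l = l) x y z, σ x = x → σ y = y → σ z = z → (g * yy l hl * g⁻¹ : A1 K) (x • (0, ε * w) + y • f + z • (0, w)) =
      x • (0, ε * w) + (y - l * x) • f + z • (0, w) := fun l hl x y z hx hy hz => by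
    have m := mul_mem (mul_mem i (u_iso (xu l hl))) (inv_mem i)
    erw [map_add, map_add, lin m hx, lin m hy, lin m hz, fe, ff, fw]
    module
  have B : ∀ l (hl : σ l = l) (x y z : K), yy l hl (x • (0, ε * w) + y • f + z • (0, w)) =
      (x - l * c * y) • (0, ε * w) + y • f + z • (0, w) := fun l hl x y z => by bs [ec]; ring
  have h1 : σ (-(c * ν)⁻¹) = -(c * ν)⁻¹ := by bs [hc, hν]
  have h3 : σ c⁻¹ = c⁻¹ := by bs [hc]
  have h4 : σ (-1) = -1 := by bs []
  have := bw h h2 (c := w) (a := (1 + ν⁻¹) / 2) (d := (1 - ν⁻¹) / 2) (mul_mem (mul_mem (mul_mem (cG h hg hν) (yG h h1)) (cG h hg hν))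
    (mul_mem (mul_mem (cG h hg h4) (yG h h3)) (cG h hg h4))) w0 fun z => by
      obtain ⟨a, b, ha, hb, e, e'⟩ := dec z
      rw [show (0, w * z) = a • ((0, ε * w) : K × K) + (0 : K) • f + b • (0, w) by bs [e]; ring, mul_ap, mul_ap _ (g * _ * _), mul_ap _ (yy _ _),
        mul_ap _ (g * _ * _), mul_ap _ (yy _ _), A _ _ _ _ _ ha (map_zero σ) hb, B, A _ _ _ _ _ (by bs [ha, hc]) (by bs [ha]) hb,
        A _ _ _ _ _ (by bs [ha, hc]) (by bs [ha, hc]) hb, B, A _ _ _ _ _ (by bs [ha, hc, hν]) (by bs [ha, hc, hν]) hb, e', e]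
      bs []
      constructor <;> field_simp <;> ring
  field_simp at this
  exact ν2 (by linear_combination this)

/-- the second point is the graph of `t ↦ α t + β t̄` -/
theorem gr (n3 : ¬ F3 σ) (hg : g ∈ G) (i : g ∈ iso σ) (n : ¬ B1 g) :
    ∃ α β, σ α = α ∧ ∀ s, (g (0, s)).2 = α * (g (0, s)).1 + β * σ (g (0, s)).1 := by
  have ad : ∀ a b, g (0, a + b) = g (0, a) + g (0, b) := fun a b => by rw [← map_add]; simp
  have inj : Function.Injective fun s => (g (0, s)).1 := fun a b e => sub_eq_zero.1 (one h n3 hg i n (by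
    rw [show ((0, a - b) : K × K) = (0, a) - (0, b) by simp, map_sub]; exact sub_eq_zero.2 e))
  choose r hr using Finite.injective_iff_surjective.1 inj
  have li : ∀ l y, σ l = l → g (0, l * y) = l • g (0, y) := fun l y hl => by rw [← lin i hl]; simp
  obtain ⟨α, β, e⟩ := rep2 (σ := σ) (fun t => (g (0, r t)).2) (fun x y => by
    rw [show r (x + y) = r x + r y from inj (by simp only [ad, Prod.fst_add, hr]), ad]; rfl) fun l x hl => by
    rw [show r (l * x) = l * r x from inj (by simp only [li _ _ hl, Prod.smul_fst, hr, smul_eq_mul]), li _ _ hl]; rfl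
  refine ⟨α, β, (sub_eq_zero.1 (ts0 (σ := σ) fun s => ?_)).symm, fun s => by rw [← e, show r (g (0, s)).1 = s from inj (hr _)]⟩
  have := i (0, r s) (0, r 1)
  bs [hr, e] at this ⊢
  linear_combination this

theorem op (n3 : ¬ F3 σ) (hg : g ∈ G) (i : g ∈ iso σ) (n : ¬ B1 g) (e : ∀ s, (g (0, s)).2 = β * σ (g (0, s)).1) :
    β = 0 ∧ ∀ l, σ l = l → lo σ 1 0 l ∈ G := by
  have n' : ¬ B1 g⁻¹ := fun b => n (inv_inv g ▸ b1_inv b)
  have li : ∀ {g : A1 K}, g ∈ iso σ → ∀ l y, σ l = l → g (0, l * y) = l • g (0, y) := fun i l y hl => by rw [← lin i hl]; simp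
  have ad : ∀ (g : A1 K) a b, g (0, a + b) = g (0, a) + g (0, b) := fun g a b => by rw [← map_add]; simp
  have on : ∀ t, ∃ s, (g (0, s)).1 = t := Finite.injective_iff_surjective.1 fun a b e => sub_eq_zero.1 (one h n3 hg i n (by
    rw [show ((0, a - b) : K × K) = (0, a) - (0, b) by simp, map_sub]; exact sub_eq_zero.2 e))
  obtain ⟨a, b, θ⟩ := rep2 (σ := σ) (fun s => -(g (0, (g⁻¹ (0, s)).1)).1) (fun x y => by bs [ad]; ring) fun l x hl => by
    bs [li i _ _ hl, li (inv_mem i) _ _ hl]; ring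
  have θ0 : ∀ s, a * s + b * σ s = 0 → s = 0 := fun s k =>
    one h n3 (inv_mem hg) (inv_mem i) n' (one h n3 hg i n (neg_eq_zero.1 ((θ s).trans k)))
  have lg : ∀ l (hl : σ l = l), g * yy l hl * g⁻¹ = t1 σ β * lo σ a b l * (t1 σ β)⁻¹ := fun l hl => LinearEquiv.ext fun v => by
    obtain ⟨s, hs⟩ := on v.1
    have : (g⁻¹ v).1 = (g⁻¹ (0, v.2 - β * σ v.1)).1 := by
      rw [show v = (0, v.2 - β * σ v.1) + g (0, s) by bs [e, hs, sub_add_cancel], map_add, inv_ap]
      bs [e, hs, add_sub_cancel_right]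
    rw [cj_ap i, this, mul_ap, mul_ap, t1_inv, lo_ap, ← θ]
    bs [e, hl]; cg
  have G' : ∀ {k}, k ∈ cj (t1 σ β)⁻¹ G ↔ t1 σ β * k * (t1 σ β)⁻¹ ∈ G := by intro k; rw [mem_cj, inv_inv]
  have mL : ∀ l, σ l = l → lo σ a b l ∈ cj (t1 σ β)⁻¹ G := fun l hl => G'.2 (lg l hl ▸ cG h hg hl)
  have mY : ∀ l (hl : σ l = l), yy l hl ∈ cj (t1 σ β)⁻¹ G := fun l hl => G'.2 (by
    convert yG h hl using 1; exact LinearEquiv.ext fun v => by bs []; ring)
  have ha : σ a = a := (sub_eq_zero.1 (ts0 (σ := σ) fun s => by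
    have := (lg 1 (map_one σ) ▸ mul_mem (mul_mem i (u_iso _)) (inv_mem i)) (0, s) (0, 1)
    bs [] at this ⊢
    linear_combination -this)).symm
  have sq : ∀ c : K, (2 : K) = 0 → (∀ x, c * σ (x * x) + σ c * (x * x) = 0) → c = 0 := fun c h2 k => ts0 (σ := σ) fun s => by
    have : CharP K 2 := CharTwo.of_one_ne_zero_of_two_eq_zero one_ne_zero h2
    obtain ⟨x, rfl⟩ := (bijective_frobenius K 2).2 s
    rw [frobenius_def, pow_two]; exact k x
  have tr : ∀ {k}, k ∈ cj (t1 σ β)⁻¹ G → ∀ s, (k (0, s)).1 = 0 → s = 0 ∨ ∀ s, (k (0, s)).1 = 0 := fun {k} hk s e => by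
    obtain ⟨j, hj, ij, b⟩ := red h (G'.1 hk)
    refine or_iff_not_imp_right.2 fun n => ?_
    have nj : ¬ B1 j := fun c => n fun s => by
      have := b1_mul c b s
      rw [mul_inv_cancel_left] at this
      bs [] at this; exact this
    have := one h n3 hj ij nj (s := ((j⁻¹ * (t1 σ β * k * (t1 σ β)⁻¹) : A1 K) (0, s)).2) (by
      rw [show ((0, _) : K × K) = (j⁻¹ * (t1 σ β * k * (t1 σ β)⁻¹) : A1 K) (0, s) from Prod.ext (b s).symm rfl, mul_ap, ap_inv]
      bs [e])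
    exact congrArg Prod.snd ((LinearEquiv.map_eq_zero_iff _).1 (Prod.ext (b s) this))
  have b0 : b = 0 := by
    by_cases h2 : (2 : K) = 0
    · refine sq b h2 fun x => ?_
      have : bf σ (0, x) ((g * yy 1 (map_one σ) * g⁻¹ : A1 K) (0, x)) = 0 := by
        rw [← ap_inv g (0, x), mul_ap, mul_ap, inv_ap, i]; bs []; linear_combination -((g⁻¹ (0, x)).1 * σ (g⁻¹ (0, x)).1) * h2
      bs [lg, ha] at this ⊢
      linear_combination -this - a * x * σ x * h2
    by_contra b0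
    obtain ⟨ν, hν, ν0, ν2⟩ := ((tri σ).resolve_left fun k => h2 k.two).resolve_left n3
    obtain ⟨μ, hμ, μ0, μ1, μ2⟩ : ∃ μ, σ μ = μ ∧ μ ≠ 0 ∧ 1 + μ * (1 - a) ≠ 0 ∧ 1 + μ * ((1 - a) ^ 2 - b * σ b) ≠ 0 := by
      by_contra! c
      exact pick h2 ν2 (c 1 (map_one σ) one_ne_zero) (c (-1) (by simp) (by simp)) (c ν hν ν0)
    have nC : (1 + μ * (1 - a)) ^ 2 - μ ^ 2 * (b * σ b) ≠ 0 := fun k => by
      have m := mul_mem (mul_mem (mL μ hμ) (mY 1 (map_one σ))) (mL 1 (map_one σ))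
      have z : ∀ x, (1 + μ * (1 - a)) * x + μ * b * σ x = 0 := fun x => (tr m _ (by
        bs [ha, hμ]; linear_combination (a * x + b * σ x) * k)).elim id fun z => by
          have := ind2 (σ := σ) (a := 1 + μ * (1 - a)) (b := -(μ * b)) fun s => θ0 _ (by
            have := z s
            bs [ha, hμ] at this ⊢
            linear_combination this)
          exact (μ1 this.1).elim
      exact μ1 (ind2 z).1
    generalize hN : (1 + μ * (1 - a)) ^ 2 - μ ^ 2 * (b * σ b) = N at nC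
    generalize hM : 1 + μ * ((1 - a) ^ 2 - b * σ b) = M at μ2
    have sN : σ N = N := by rw [← hN]; bs [ha, hμ]; ring
    have sM : σ M = M := by rw [← hM]; bs [ha, hμ]; ring
    have := bw h h2 (c := 1) (a := M / N * (1 + μ * (1 - a))) (d := -(M / N * μ * b)) (G'.1 (mul_mem (mul_mem (mL (-(N / M)) (by bs [sN, sM]))
      (mY (-N⁻¹) (by bs [sN]))) (mul_mem (mul_mem (mL μ hμ) (mY 1 (map_one σ))) (mL 1 (map_one σ))))) one_ne_zero fun s => by
        have k : ((lo σ a b (-(N / M)) * yy (σ := σ) (-N⁻¹) (by bs [sN]) * (lo σ a b μ * yy 1 (map_one σ) * lo σ a b 1) : A1 K) (0, s)) =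
            (0, M / N * (1 + μ * (1 - a)) * s + -(M / N * μ * b) * σ s) := by
          bs [ha, hμ, sN, sM]
          constructor <;> field_simp <;> rw [← hN, ← hM] <;> ring
        rw [mul_ap, mul_ap, t1_inv]
        simp only [map_zero, mul_zero, sub_zero, one_mul, k, t1_ap, add_zero]
    simp [μ0, μ1, μ2, nC, b0] at this
  subst b0
  have a0 : a ≠ 0 := fun k => one_ne_zero (θ0 1 (by simp [k]))
  replace mL : ∀ l, σ l = l → lo σ 1 0 l ∈ cj (t1 σ β)⁻¹ G := fun l hl => by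
    convert mL (l / a) (by bs [hl, ha]) using 1
    exact LinearEquiv.ext fun v => by bs []; field_simp
  have β0 : β = 0 := by
    by_cases h2 : (2 : K) = 0
    · refine sq β h2 fun x => ?_
      obtain ⟨s, rfl⟩ := on x
      have := h.sq ((Nat.prime_dvd_prime_iff_eq Fact.out Nat.prime_two).1 ((CharP.cast_eq_zero_iff K p 2).1 (by simpa using h2)))
        g hg (0, s) (by bs [])
      bs [e] at this ⊢
      linear_combination this
    obtain ⟨ν, hν, ν0, ν2⟩ := ((tri σ).resolve_left fun k => h2 k.two).resolve_left n3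
    have h1 : σ ν⁻¹ = ν⁻¹ := by bs [hν]
    have h4 : σ (-1) = -1 := by bs []
    have m := G'.1 (mul_mem (mul_mem (mul_mem (mL ν hν) (mY _ h1)) (mL ν hν)) (mul_mem (mul_mem (mL _ h4) (mY _ h4)) (mL _ h4)))
    obtain ⟨x, r, b, φ, -, -, -, f⟩ := h.bor _ m fun s => by bs []; field_simp; ring
    have := (ind2 (σ := σ) (a := x.u * ν) (b := β * (ν - ν⁻¹)) fun t => by
      have := congrArg Prod.snd (f (t, 0))
      rw [← map_inv] at this
      bs [hν, inv_u, map_zero] at this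
      field_simp at this ⊢
      linear_combination this).2
    exact (mul_eq_zero.1 this).resolve_right fun k => ν2 (by field_simp at k; linear_combination k)
  subst β0
  refine ⟨rfl, fun l hl => ?_⟩
  convert G'.1 (mL l hl) using 1
  exact LinearEquiv.ext fun v => by bs []
end H1'
open H1'

theorem l1 : H7.PV.L1 σ p := fun n3 G h => by
  have key : ∀ g ∈ G, ¬ B1 g → (∃ x : Cu σ, B1 (w1 * u1 x * g)) ∧ ∀ l, σ l = l → lo σ 1 0 l ∈ G := fun g hg n => by
    obtain ⟨k, hk, i, b⟩ := red h hg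
    have nk : ¬ B1 k := fun c => n (mul_inv_cancel_left k g ▸ b1_mul c b)
    obtain ⟨α, β, hα, e⟩ := gr h n3 hk i nk
    obtain ⟨rfl, m⟩ := op h (β := β) n3 (mul_mem (yG h hα) hk) (mul_mem (u_iso _) i) nk fun s => by bs [e]; ring
    refine ⟨⟨xu α hα, ?_⟩, m⟩
    rw [← mul_inv_cancel_left k g, ← mul_assoc]
    exact b1_mul (fun s => by bs [e, xu_u]) b
  obtain ⟨g, hg, n⟩ := h.ne
  have m := (key g hg n).2
  have wl : ∀ l (hl : σ l = l), lo σ 1 0 l * yy (σ := σ) l⁻¹ (by bs [hl]) * lo σ 1 0 l ∈ G := fun l hl =>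
    mul_mem (mul_mem (m l hl) (yG h _)) (m l hl)
  refine ⟨?_, fun ν hν ν0 => ⟨_, mul_mem (wl ν⁻¹ (by bs [hν])) (wl (-1) (by bs [])), fun v => ?_⟩,
    fun k hk => or_iff_not_imp_left.2 fun n => (key k hk n).1⟩
  · convert wl 1 (map_one σ) using 1
    exact LinearEquiv.ext fun v => by bs [inv_one]; cg
  · bs []
    constructor <;> field_simp <;> ring

end H2.PV
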