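/-
Fusion systems on a Sylow `3`-subgroup of `PSU₄(3)`: codes for `4 × 4` matrices over `F₃`.
-/
import Cfsg.Agent.H2.PV4

set_option autoImplicit false
set_option linter.unusedSectionVars false
set_option linter.unusedSimpArgs false

namespace H2.PV
open Subgroup H25 H8.PU H7.PV H7.PV.Cu H1'
open H24.SP (mul_ap one_ap inv_ap ap_inv)
universe u v

local infixl:65 " +' " => Nat.add
local infixl:70 " *' " => Nat.mul
local infixl:70 " /' " => Nat.div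
local infixl:70 " %' " => Nat.mod
def pk (a b c d : ℕ) : ℕ := a %' 3 +' 4 *' (b %' 3) +' 16 *' (c %' 3) +' 64 *' (d %' 3)
def rw4 (c a b d e : ℕ) : ℕ := c %' 4 *' a +' c /' 256 %' 4 *' b +' c /' 65536 %' 4 *' d +' c /' 16777216 %' 4 *' e
def ap4 (c a b d e : ℕ) : ℕ := pk (rw4 c a b d e) (rw4 (c /' 4) a b d e) (rw4 (c /' 16) a b d e) (rw4 (c /' 64) a b d e)
def ap (c n : ℕ) : ℕ := ap4 c (n %' 4) (n /' 4 %' 4) (n /' 16 %' 4) (n /' 64 %' 4)
def mk4 (a b c d : ℕ) : ℕ := a +' 256 *' b +' 65536 *' c +' 16777216 *' d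
def mul (c d : ℕ) : ℕ := mk4 (ap c d) (ap c (d /' 256)) (ap c (d /' 65536)) (ap c (d /' 16777216))
def cI : ℕ := 1074791425
def sq (c : ℕ) : ℕ := mul c c
def pw (c : ℕ) : ℕ → ℕ
  | 0 => cI
  | n + 1 => mul (pw c n) c
def yc (u : ℕ) : ℕ := mk4 (pk 1 0 (2 * u) 0) (pk 0 1 0 (2 * u)) 16 64
def dm (t : ℕ × ℕ × ℕ × ℕ) : ℕ := mk4 (pk t.1 t.2.1 0 0) (pk (2 * t.2.2.2 * t.2.1) (t.2.2.2 * t.1) 0 0)
  (pk 0 0 (t.2.2.1 * t.1) (t.2.2.1 * t.2.1)) (pk 0 0 (2 * t.2.2.1 * t.2.2.2 * t.2.1) (t.2.2.1 * t.2.2.2 * t.1))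
def tc (a b : ℕ) : ℕ := mk4 (pk 1 0 a b) (pk 0 1 b (2 * a)) 16 64
def wc : ℕ := mk4 32 128 1 4
def bfc (n m : ℕ) : ℕ := 2 * (n % 4) * (m / 16 % 4) + 2 * (n / 4 % 4) * (m / 64 % 4) + m % 4 * (n / 16 % 4) + m / 4 % 4 * (n / 64 % 4)
def cv2 (j n m x y : ℕ) : ℕ := pk (j % 4 + x * (n % 4) + y * (m % 4)) (j / 4 % 4 + x * (n / 4 % 4) + y * (m / 4 % 4))
  (j / 16 % 4 + x * (n / 16 % 4) + y * (m / 16 % 4)) (j / 64 % 4 + x * (n / 64 % 4) + y * (m / 64 % 4))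
def cv (n m b j : ℕ) : ℕ := cv2 j n m (b * bfc j n) (b * bfc j m)
def cl (n m b : ℕ) : ℕ := mk4 (cv n m b 1) (cv n m b 4) (cv n m b 16) (cv n m b 64)
def b1c (c : ℕ) : Bool := c /' 65536 %' 16 == 0 && c /' 16777216 %' 16 == 0
def mem (c : ℕ) : List ℕ → Bool
  | [] => false
  | a :: l => Nat.beq a c || mem c l
theorem mem_iff {c : ℕ} {l : List ℕ} : mem c l = true ↔ c ∈ l := by
  induction l with
  | nil => simp [mem]
  | cons a l ih => rw [mem, Bool.or_eq_true, ih, Nat.beq_eq, List.mem_cons, eq_comm]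
def ev (L : List ℕ) : ℕ → ℕ → ℕ
  | 0, _ => cI
  | f + 1, w => bif Nat.beq w 0 then cI else mul (L.getD (w %' 16 - 1) cI) (ev L f (w /' 16))
def PP : List (ℕ × ℕ × ℕ × ℕ) := [(0, 1), (0, 2), (1, 0), (1, 1), (1, 2), (2, 0), (2, 1), (2, 2)].flatMap fun r =>
  [(r.1, r.2, 1, 1), (r.1, r.2, 1, 2), (r.1, r.2, 2, 1), (r.1, r.2, 2, 2)]
theorem na (a b : ℕ) : a +' b = a + b := rfl
theorem nm (a b : ℕ) : a *' b = a * b := rfl
theorem nd (a b : ℕ) : a /' b = a / b := rfl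
theorem no (a b : ℕ) : a %' b = a % b := rfl
theorem pk_lt (a b c d : ℕ) : pk a b c d < 256 := by simp only [pk, na, nm, no]; omega

variable {K : Type v} [Field K] [Finite K] {σ : K →+* K} [IV σ] {p : ℕ} [Fact p.Prime] [CharP K p]
  {G : Subgroup (A1 K)} {g g' : A1 K} {i : K} {c d n m : ℕ}

variable (σ) in
structure Fi (i : K) : Prop where
  f3 : F3 σ
  ii : i * i = -1
  si : σ i = -i
  ex : ∀ x : K, ∃ a < 3, ∃ b < 3, x = (a : ℕ) + (b : ℕ) * i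
def vec4 (i : K) (a b c d : ℕ) : K × K := (a + b * i, c + d * i)
def vec (i : K) (n : ℕ) : K × K := vec4 i (n % 4) (n / 4 % 4) (n / 16 % 4) (n / 64 % 4)
/-- `c` is the matrix of `g` -/
def Rp (i : K) (g : A1 K) (c : ℕ) : Prop :=
  g (1, 0) = vec i c ∧ g (i, 0) = vec i (c / 256) ∧ g (0, 1) = vec i (c / 65536) ∧ g (0, i) = vec i (c / 16777216)
theorem vec_mod (h : n % 256 = m % 256) : vec i n = vec i m := by
  unfold vec; congr 1 <;> omega
theorem lin4 (g : A1 K) (a b c d : ℕ) : g (vec4 i a b c d) = a • g (1, 0) + b • g (i, 0) + c • g (0, 1) + d • g (0, i) := by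
  simp only [← map_nsmul, ← map_add]; congr 1; simp [vec4]
theorem rp_mk {a b c d : ℕ} (ha : a < 256) (hb : b < 256) (hc : c < 256) (h1 : g (1, 0) = vec i a) (h2 : g (i, 0) = vec i b)
    (h3 : g (0, 1) = vec i c) (h4 : g (0, i) = vec i d) : Rp i g (mk4 a b c d) := by
  simp only [mk4, na, nm]
  exact ⟨h1.trans (vec_mod (by omega)), h2.trans (vec_mod (by omega)), h3.trans (vec_mod (by omega)), h4.trans (vec_mod (by omega))⟩
theorem fi_ex (h : F3 σ) : ∃ i, Fi σ i := by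
  obtain ⟨i, a, b, c⟩ := h.ex
  refine ⟨i, h, a, b, fun x => ?_⟩
  obtain ⟨m, n, rfl⟩ := c x
  have k : ∀ z : ℤ, ∃ a < 3, (z : K) = (a : ℕ) := fun z => ⟨(z % 3).toNat, by omega, by
    rw [← Int.cast_natCast, Int.toNat_of_nonneg (by omega), Int.emod_def]; simp [h.1]⟩
  obtain ⟨a, ha, e⟩ := k m
  obtain ⟨b, hb, f⟩ := k n
  exact ⟨a, ha, b, hb, by rw [e, f]⟩

namespace Fi
variable (f : Fi σ i)
include f
theorem h3 : (3 : K) = 0 := f.f3.1
theorem ch : CharP K 3 := (CharP.charP_iff_prime_eq_zero Nat.prime_three).2 f.h3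
theorem c3 (a : ℕ) : ((a % 3 : ℕ) : K) = a := have := f.ch; (CharP.cast_eq_mod K 3 a).symm
theorem vpk (a b c d : ℕ) : vec i (pk a b c d) = vec4 i a b c d := by
  have e : vec i (pk a b c d) = vec4 i (a % 3) (b % 3) (c % 3) (d % 3) := by
    simp only [vec, pk, na, nm, no]; congr 1 <;> omega
  simp only [e, vec4, f.c3]
theorem inj {a b a' b' : ℕ} (h : (a : K) + b * i = a' + b' * i) : a % 3 = a' % 3 ∧ b % 3 = b' % 3 := by
  have := f.ch
  have e := congrArg σ h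
  simp only [map_add, map_mul, map_natCast, f.si] at e
  exact ⟨(CharP.natCast_eq_natCast K 3).1 (by linear_combination -h - e + (a - a') * f.h3), (CharP.natCast_eq_natCast K 3).1 (by
    linear_combination i * h - i * e + (b - b') * f.h3 - 2 * (b - b') * f.ii)⟩
theorem rap4 (h : Rp i g c) (a b d e : ℕ) : g (vec4 i a b d e) = vec i (ap4 c a b d e) := by
  rw [lin4, h.1, h.2.1, h.2.2.1, h.2.2.2, ap4, f.vpk]
  simp only [vec, vec4, rw4, na, nm, nd, no, Nat.div_div_eq_div_mul]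
  ext <;> simp <;> ring
theorem rap (h : Rp i g c) (n : ℕ) : g (vec i n) = vec i (ap c n) := f.rap4 h _ _ _ _
theorem rmul (h : Rp i g c) (h' : Rp i g' d) : Rp i (g * g') (mul c d) :=
  rp_mk (pk_lt ..) (pk_lt ..) (pk_lt ..) (by rw [mul_ap, h'.1, f.rap h]) (by rw [mul_ap, h'.2.1, f.rap h]; rfl)
    (by rw [mul_ap, h'.2.2.1, f.rap h]; rfl) (by rw [mul_ap, h'.2.2.2, f.rap h]; rfl)
theorem rone : Rp i 1 cI := by simp [Rp, cI, vec, vec4]
theorem rpw (h : Rp i g c) (n : ℕ) : Rp i (g ^ n) (pw c n) := by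
  induction n with
  | zero => exact f.rone
  | succ n ih => rw [pow_succ]; exact f.rmul ih h
theorem sur (v : K × K) : ∃ a < 3, ∃ b < 3, ∃ c < 3, ∃ d < 3, v = vec4 i a b c d :=
  let ⟨a, ha, b, hb, e⟩ := f.ex v.1; let ⟨c, hc, d, hd, e'⟩ := f.ex v.2; ⟨a, ha, b, hb, c, hc, d, hd, Prod.ext e e'⟩
theorem ext (h : Rp i g c) (h' : Rp i g' c) : g = g' := LinearEquiv.ext fun v => by
  obtain ⟨a, -, b, -, c, -, d, -, rfl⟩ := f.sur v
  rw [f.rap4 h, f.rap4 h']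
theorem vinj (h : vec i n = vec i m) : ap cI n = ap cI m := by
  obtain ⟨a, b⟩ := f.inj (congrArg Prod.fst h)
  obtain ⟨c, d⟩ := f.inj (congrArg Prod.snd h)
  simp only [ap, ap4, rw4, pk, cI, na, nm, nd, no, Nat.reduceDiv, Nat.reduceMod, one_mul, zero_mul, add_zero, zero_add, a, b, c, d]
theorem uq (h : Rp i g c) (h' : Rp i g d) : mul cI c = mul cI d := by
  simp only [mul, nd]
  rw [f.vinj (h.1.symm.trans h'.1), f.vinj (h.2.1.symm.trans h'.2.1), f.vinj (h.2.2.1.symm.trans h'.2.2.1),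
    f.vinj (h.2.2.2.symm.trans h'.2.2.2)]
theorem fst0 (a b c d : ℕ) : (vec i (pk a b c d)).1 = 0 ↔ pk a b c d % 16 = 0 := by
  rw [f.vpk, pk]
  simp only [na, nm, no]
  refine ⟨fun h => ?_, fun h => ?_⟩
  · have := f.inj (a' := 0) (b' := 0) (h.trans (by simp))
    omega
  · rw [vec4, ← f.c3 a, ← f.c3 b, show a % 3 = 0 by omega, show b % 3 = 0 by omega]; simp
theorem rb1 (h : Rp i g c) (b : b1c c = true) : B1 g := fun s => by
  obtain ⟨a, -, d, -, rfl⟩ := f.ex s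
  simp only [b1c, nd, no, Bool.and_eq_true, beq_iff_eq] at b
  rw [show ((0, (a : K) + d * i) : K × K) = vec4 i 0 0 a d by simp [vec4], lin4, h.2.2.1, h.2.2.2]
  simp [vec, vec4, show c / 65536 % 4 = 0 by omega, show c / 65536 / 4 % 4 = 0 by omega, show c / 16777216 % 4 = 0 by omega,
    show c / 16777216 / 4 % 4 = 0 by omega]
theorem ry (x : Cu σ) : ∃ u < 3, Rp i (u1 x) (yc u) := by
  obtain ⟨u, hu, e⟩ : ∃ u < 3, x.u = (u : ℕ) := by
    rcases f.f3.2 _ x.su with e | e | e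
    exacts [⟨0, by simp, by simp [e]⟩, ⟨1, by simp, by simp [e]⟩, ⟨2, by simp, by rw [e]; push_cast; linear_combination -f.h3⟩]
  refine ⟨u, hu, rp_mk (pk_lt ..) (pk_lt ..) (by simp) ?_ ?_ (by simp [u1_ap, vec, vec4]) (by simp [u1_ap, vec, vec4])⟩ <;>
    simp only [f.vpk, vec4, u1_ap, e] <;> ext <;> simp
  · linear_combination -u * f.h3
  · linear_combination -u * i * f.h3
theorem ryu (u : ℕ) : Rp i (yy (σ := σ) u (map_natCast σ u)) (yc u) := by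
  refine rp_mk (pk_lt ..) (pk_lt ..) (by simp) ?_ ?_ (by simp [yy_ap, vec, vec4]) (by simp [yy_ap, vec, vec4]) <;>
    simp only [f.vpk, vec4, yy_ap] <;> ext <;> simp
  · linear_combination -u * f.h3
  · linear_combination -u * i * f.h3
theorem rt (a b : ℕ) : Rp i (t1 σ (a + b * i)) (tc a b) := by
  refine rp_mk (pk_lt ..) (pk_lt ..) (by simp) ?_ ?_ (by simp [t1_ap, vec, vec4]) (by simp [t1_ap, vec, vec4]) <;>
    simp only [f.vpk, vec4, t1_ap, f.si] <;> ext <;> simp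
  linear_combination -a * i * f.h3 - b * f.ii
theorem rw1 : Rp i w1 wc := by
  refine rp_mk (by simp) (by simp) (by simp) ?_ ?_ ?_ ?_ <;> simp [w1_ap, vec, vec4]
  · linear_combination -f.h3
  · linear_combination -i * f.h3
theorem rd {φ : K ≃+* K} (t : ℕ × ℕ × ℕ × ℕ) (h : D1 g (t.1 + t.2.1 * i) t.2.2.1 φ) (e : φ i = t.2.2.2 * i) : Rp i g (dm t) := by
  refine rp_mk (pk_lt ..) (pk_lt ..) (pk_lt ..) ?_ ?_ ?_ ?_ <;> simp only [f.vpk, vec4, h _, e] <;> ext <;> simp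
  · linear_combination (t.2.1 * t.2.2.2) * f.ii - t.2.1 * t.2.2.2 * f.h3
  · ring
  · linear_combination (t.2.1 * t.2.2.2 * t.2.2.1) * f.ii - t.2.1 * t.2.2.2 * t.2.2.1 * f.h3
theorem rd' {φ : K ≃+* K} {r b : K} (h : D1 g r b φ) (r0 : r ≠ 0) (b0 : b ≠ 0) (hb : σ b = b) : ∃ t ∈ PP, Rp i g (dm t) := by
  obtain ⟨r1, h1, r2, h2, rfl⟩ := f.ex r
  obtain ⟨b, hb', rfl⟩ : ∃ u, (u = 1 ∨ u = 2) ∧ b = (u : ℕ) := by
    rcases f.f3.2 _ hb with e | e | e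
    exacts [(b0 e).elim, ⟨1, by simp, by simp [e]⟩, ⟨2, by simp, by rw [e]; push_cast; linear_combination -f.h3⟩]
  obtain ⟨e, he, k⟩ : ∃ u, (u = 1 ∨ u = 2) ∧ φ i = (u : ℕ) * i := by
    rcases mul_self_eq_mul_self_iff.1 (show φ i * φ i = i * i by rw [← map_mul, f.ii]; simp) with e | e
    exacts [⟨1, by simp, by simp [e]⟩, ⟨2, by simp, by rw [e]; push_cast; linear_combination -i * f.h3⟩]
  refine ⟨(r1, r2, b, e), ?_, f.rd _ h k⟩
  have : ¬ (r1 = 0 ∧ r2 = 0) := fun ⟨a, b⟩ => r0 (by simp [a, b])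
  interval_cases r1 <;> interval_cases r2 <;> rcases hb' with rfl | rfl <;> rcases he with rfl | rfl <;> simp_all [PP]
theorem exd {t : ℕ × ℕ × ℕ × ℕ} (h : t ∈ PP) : ∃ k r b φ, r ≠ 0 ∧ b ≠ 0 ∧ σ b = b ∧ D1 k r b φ ∧ Rp i k (dm t) ∧
    (t.2.2.2 = 2 → φ ≠ .refl K) := by
  obtain ⟨h1, h2, h3⟩ := (by decide : ∀ t ∈ PP, ¬ (t.1 % 3 = 0 % 3 ∧ t.2.1 % 3 = 0 % 3) ∧ ¬ t.2.2.1 % 3 = 0 % 3 ∧
    (t.2.2.2 = 1 ∨ t.2.2.2 = 2)) t h
  have r0 : (t.1 : K) + t.2.1 * i ≠ 0 := fun e => h1 (f.inj (e.trans (by simp)))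
  have b0 : (t.2.2.1 : K) ≠ 0 := fun e => h2 (f.inj (b := 0) (b' := 0) (by simp [e])).1
  obtain ⟨φ, e1, e2⟩ : ∃ φ : K ≃+* K, φ i = t.2.2.2 * i ∧ (t.2.2.2 = 2 → φ ≠ .refl K) := by
    rcases h3 with e | e
    · exact ⟨.refl K, by simp [e], by simp [e]⟩
    · refine ⟨⟨⟨σ, σ, ss, ss⟩, σ.map_mul, σ.map_add⟩, ?_, fun _ k => ?_⟩
      · rw [e]; push_cast; exact f.si.trans (by linear_combination -i * f.h3)
      · obtain ⟨x, hx⟩ := IV.ne (σ := σ)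
        exact hx (RingEquiv.congr_fun k x)
  have r1 := mul_ne_zero r0 b0
  let k : A1 K := AddEquiv.toIntLinearEquiv (AddEquiv.prodCongr (φ.toAddEquiv.trans (AddAut.mulLeft (Units.mk0 _ r0)))
    (φ.toAddEquiv.trans (AddAut.mulLeft (Units.mk0 _ r1))))
  have d : D1 k (t.1 + t.2.1 * i) t.2.2.1 φ := fun v => rfl
  exact ⟨k, _, _, φ, r0, b0, map_natCast σ _, d, f.rd t d e1, e2⟩
theorem rbf (n m : ℕ) : bf σ (vec i n) (vec i m) = bfc n m := by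
  simp only [vec, vec4, bfc, bf, map_add, map_mul, map_natCast, f.si]
  push_cast
  generalize ((n % 4 : ℕ) : K) = a, ((n / 4 % 4 : ℕ) : K) = b, ((n / 16 % 4 : ℕ) : K) = c, ((n / 64 % 4 : ℕ) : K) = d,
    ((m % 4 : ℕ) : K) = a', ((m / 4 % 4 : ℕ) : K) = b', ((m / 16 % 4 : ℕ) : K) = c', ((m / 64 % 4 : ℕ) : K) = d'
  linear_combination (2 * b' * d - 2 * b * d') * f.ii - (a' * c + b' * d) * f.h3
theorem rcl (b : ℕ) (h : ∀ v, g v = v + (b * bf σ v (vec i n)) • vec i n + (b * bf σ v (vec i m)) • vec i m) :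
    Rp i g (cl n m b) := by
  have k : ∀ j, g (vec i j) = vec i (cv n m b j) := fun j => by
    rw [h, f.rbf, f.rbf, cv, cv2, f.vpk]
    simp only [vec, vec4]
    ext <;> simp <;> ring
  exact rp_mk (pk_lt ..) (pk_lt ..) (pk_lt ..) (by simpa [vec, vec4] using k 1) (by simpa [vec, vec4] using k 4)
    (by simpa [vec, vec4] using k 16) (by simpa [vec, vec4] using k 64)
end Fi

end H2.PV
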