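/-
Fusion systems on a Sylow `3`-subgroup of `PSU₄(3)`: soundness of the certificates for subgroups of `GSp₄(3)`.
-/
import Cfsg.Agent.H2.PV5

set_option autoImplicit false
set_option linter.unusedSectionVars false
set_option linter.unusedSimpArgs false

namespace H2.PV
open Subgroup H25 H8.PU H7.PV H7.PV.Cu H1'
open H24.SP (mul_ap one_ap inv_ap ap_inv)
universe u v

def c0 : ℕ := dm (0, 2, 2, 1)
def cJ : ℕ := dm (1, 0, 2, 1)
def R3 : List ℕ := [0, 1, 2]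
def gl (a b c : ℕ) : List ℕ := [c, sq c, yc 1, yc 2, c0, a, sq a, b, sq b]
def sh (S : List ℕ) : List ℕ := S ++ S.map sq
def p12 (c : ℕ) : ℕ := sq (sq (mul c (sq c)))
def out (C S : List ℕ) (c : ℕ) : Bool := (mem c C && !mem c S) || (mem (sq c) C && !mem (sq c) S)
def kill (C S : List ℕ) (d : ℕ) : Bool := S.any fun s => out C S (mul (mul d s) (pw d 7))
def np5 (S : List ℕ) : Bool := (sh S).all fun c => R3.all fun n => R3.all fun u => p12 (mul (yc u) (pw c n)) == cI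
def nnd (S : List ℕ) : Bool := (sh S).all fun c => c == yc 1 || c == yc 2 ||
  R3.all fun a => R3.all fun b => (a == 0 && b == 0) || ap cI (ap c (pk 0 0 a b)) != ap cI (pk 0 0 a b)
def yp5 (S : List ℕ) (g : ℕ) : Bool := (sh S).any fun c => mul c g == mul g (yc 1) &&
  R3.any fun u => mul cI (p12 (mul (yc u) c)) != mul cI cI
def ynd (S : List ℕ) : Bool := S.any fun g => (ap g 16 % 16 != 0 || ap g 64 % 16 != 0) &&
  R3.any fun a => R3.any fun b => !(a == 0 && b == 0) && ap g (pk 0 0 a b) % 16 == 0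
def st1 (S : List ℕ) (n w : ℕ) : Bool := b1c n && mul n w == mul wc n && mul n (sq c0) == mul (dm (2, 0, 1, 1)) n &&
  (sh S).all fun c => (n :: R3.map fun u => mul (mul wc (yc u)) n).any fun m => mul m c == mul (yc 1) m || mul m c == mul (yc 2) m
def seq (L L' : List ℕ) (n : ℕ) : Bool := mul n (pw n 23) == cI && (L.all fun s => mem (mul (mul n s) (pw n 23)) L') &&
  L'.all fun c => mem c (L.map fun s => mul (mul n s) (pw n 23))
def cmt (d a b : ℕ) : Bool := mul d (tc a b) == mul (tc a b) d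
theorem r3 {a : ℕ} (h : a < 3) : a ∈ R3 := by interval_cases a <;> simp [R3]

variable {K : Type v} [Field K] [Finite K] {σ : K →+* K} [IV σ] {p : ℕ} [Fact p.Prime] [CharP K p]
  {G : Subgroup (A1 K)} {g g' N x : A1 K} {i : K} {c d n m : ℕ} {C S L L' : List ℕ}

variable (σ) in
abbrev y1 : A1 K := yy (σ := σ) 1 (map_one σ)
def In (i : K) (G : Subgroup (A1 K)) (c : ℕ) : Prop := ∃ g ∈ G, Rp i g c
def gn (i : K) (L : List ℕ) : Subgroup (A1 K) := closure {x | ∃ c ∈ L, Rp i x c}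
theorem b1_nz (h : g ∈ nz (u1 (σ := σ)).range) : B1 g := fun s => by
  obtain ⟨_, ⟨x, rfl⟩, e⟩ := mem_cj'.1 ((mem_nz.1 h).ge ⟨xu 1 (map_one σ), rfl⟩)
  have : y1 σ (g (0, s)) = g (0, s) := by rw [y1, yy, ← e, mul_ap _ g⁻¹, inv_ap, mul_ap]; congr 1; bs []
  generalize g (0, s) = v at *
  bs [] at this
  linear_combination -this

namespace Fi
variable (f : Fi σ i)
include f
theorem ry1 : Rp i (y1 σ) (yc 1) := by simpa using f.ryu 1
theorem imul (h : In i G c) (h' : In i G d) : In i G (mul c d) :=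
  let ⟨_, a, b⟩ := h; let ⟨_, a', b'⟩ := h'; ⟨_, mul_mem a a', f.rmul b b'⟩
theorem ione : In i G cI := ⟨1, one_mem _, f.rone⟩
theorem ipw (h : In i G c) (n : ℕ) : In i G (pw c n) := let ⟨_, a, b⟩ := h; ⟨_, pow_mem a n, f.rpw b n⟩
theorem iev (h : ∀ c ∈ L, In i G c) (k w : ℕ) : In i G (ev L k w) := by
  induction k generalizing w with
  | zero => exact f.ione
  | succ k ih =>
    rw [ev]
    cases Nat.beq w 0
    · refine f.imul ?_ (ih _)
      rw [List.getD_eq_getElem?_getD]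
      cases e : L[Nat.mod w 16 - 1]? with
      | none => exact f.ione
      | some a => exact h a (List.mem_of_getElem? e)
    · exact f.ione
theorem ish (h : ∀ c ∈ S, In i G c) : ∀ c ∈ sh S, In i G c := fun c hc => (List.mem_append.1 hc).elim (h c) fun hc => by
  obtain ⟨s, hs, rfl⟩ := List.mem_map.1 hc
  exact f.imul (h s hs) (h s hs)
theorem r12 (h : Rp i g c) : Rp i (g ^ 12) (p12 c) := by
  have a := f.rmul h (f.rmul h h)
  have b := f.rmul a a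
  rw [show g ^ 12 = g * (g * g) * (g * (g * g)) * (g * (g * g) * (g * (g * g))) by simp only [pow_succ, pow_zero, one_mul, mul_assoc]]
  exact f.rmul b b
theorem upw (x : Cu σ) : ∃ u < 3, u1 x = y1 σ ^ u := by
  obtain ⟨u, hu, e⟩ := f.ry x
  exact ⟨u, hu, f.ext e (by convert f.rpw f.ry1 u using 1; interval_cases u <;> decide +kernel)⟩
theorem b1_of {u : ℕ} (hu : u = 1 ∨ u = 2) (h : Rp i (g * y1 σ * g⁻¹) (yc u)) : B1 g := fun s => by
  have : yy (σ := σ) u (map_natCast σ u) (g (0, s)) = g (0, s) := by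
    rw [← f.ext h (f.ryu u), mul_ap _ g⁻¹, inv_ap, mul_ap]; congr 1; bs []
  generalize g (0, s) = v at *
  rcases hu with rfl | rfl <;> bs [Nat.cast_one, Nat.cast_ofNat] at this
  · linear_combination -this
  · linear_combination this + v.1 * f.h3
theorem mcj (hN : Rp i N n) (hx : Rp i x c) (h : In i G d) (e : mul n d = mul c n) : x ∈ cj N G := by
  obtain ⟨g, hg, r⟩ := h
  exact mem_cj'.2 ⟨g, hg, mul_inv_eq_of_eq_mul (f.ext (f.rmul hN r) (e ▸ f.rmul hx hN))⟩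
theorem cjeq (hN : Rp i N n) (h : ∀ c ∈ L, In i G c) (e : G = gn i L) (k : seq L L' n = true) : cj N G = gn i L' := by
  simp only [seq, Bool.and_eq_true, beq_iff_eq, List.all_eq_true, mem_iff, List.mem_map] at k
  have ni : Rp i N⁻¹ (pw n 23) := by
    rw [inv_eq_of_mul_eq_one_right (f.ext (f.rmul hN (f.rpw hN 23)) (k.1.1 ▸ f.rone))]; exact f.rpw hN 23
  refine le_antisymm ?_ ((closure_le _).2 fun x ⟨c, hc, r⟩ => ?_)
  · rw [e, gn, cj_closure]
    refine closure_mono ?_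
    rintro _ ⟨x, ⟨s, hs, r⟩, rfl⟩
    exact ⟨_, k.1.2 s hs, f.rmul (f.rmul hN r) ni⟩
  · obtain ⟨s, hs, rfl⟩ := k.2 c hc
    obtain ⟨g, hg, r'⟩ := h s hs
    exact mem_cj'.2 ⟨g, hg, f.ext (f.rmul (f.rmul hN r') ni) r⟩
theorem kl (ex : ∀ c ∈ C, In i G c → c ∈ S) (hS : ∀ c ∈ S, In i G c) (h : In i G d) : kill C S d = false := by
  rw [Bool.eq_false_iff]
  simp only [kill, out, Ne, List.any_eq_true, Bool.or_eq_true, Bool.and_eq_true, mem_iff, Bool.not_eq_true', ← Bool.not_eq_true]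
  rintro ⟨s, hs, ⟨a, b⟩ | ⟨a, b⟩⟩
  · exact b (ex _ a (f.imul (f.imul h (hS s hs)) (f.ipw h 7)))
  · have := f.imul (f.imul h (hS s hs)) (f.ipw h 7)
    exact b (ex _ a (f.imul this this))
theorem cm {a b : ℕ} {r b' : K} {φ : K ≃+* K} (h : Rp i g d) (e : cmt d a b = true) (k : D1 g r b' φ) :
    r * b' * φ (a + b * i) = (a + b * i) * σ r := by
  have := congrArg Prod.snd (LinearEquiv.congr_fun (f.ext (f.rmul h (f.rt a b)) (beq_iff_eq.1 e ▸ f.rmul (f.rt a b) h)) (1, 0))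
  simpa [mul_ap, t1_ap, k _] using this
theorem yp (hS : ∀ c ∈ S, In i G c) (hd : In i G d) (k : yp5 S d = true) : P5 σ G := by
  simp only [yp5, List.any_eq_true, Bool.and_eq_true, beq_iff_eq, bne_iff_ne] at k
  obtain ⟨c, hc, e, u, -, n⟩ := k
  obtain ⟨x, -, r⟩ := f.ish hS c hc
  obtain ⟨g, hg, r'⟩ := hd
  have e' : g * y1 σ * g⁻¹ = x := (eq_mul_inv_of_mul_eq (f.ext (f.rmul r r') (e ▸ f.rmul r' f.ry1))).symm
  exact ⟨g, hg, xu u (map_natCast σ u), xu 1 (map_one σ), fun z =>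
    n (f.uq (f.r12 (f.rmul (f.ryu u) (e' ▸ r))) (by erw [z]; exact f.rone))⟩
theorem w0 (a b : ℕ) : vec i (pk 0 0 a b) = (0, a + b * i) := by simp [f.vpk, vec4]
theorem yn (hS : ∀ c ∈ S, In i G c) (k : ynd S = true) : ND G := by
  simp only [ynd, List.any_eq_true, Bool.and_eq_true, Bool.or_eq_true, beq_iff_eq, bne_iff_ne, Bool.not_eq_true', ← Bool.not_eq_true] at k
  obtain ⟨c, hc, n, a, ha, b, hb, ab, e⟩ := k
  obtain ⟨g, hg, r⟩ := hS c hc
  refine ⟨g, hg, fun z => n.elim (· ((f.fst0 ..).1 ?_)) (· ((f.fst0 ..).1 ?_)), a + b * i, fun z => ab ?_, ?_⟩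
  · exact (congrArg Prod.fst (f.rap r 16)).symm.trans (by simpa [vec, vec4] using z 1)
  · exact (congrArg Prod.fst (f.rap r 64)).symm.trans (by simpa [vec, vec4] using z i)
  · have := f.inj (a' := 0) (b' := 0) (z.trans (by simp))
    simp only [R3, List.mem_cons, List.not_mem_nil, or_false] at ha hb
    omega
  · rw [← f.w0, f.rap r]; exact (f.fst0 ..).2 e
theorem np (h : ∀ g ∈ G, ∃ c ∈ sh S, Rp i (g * y1 σ * g⁻¹) c) (k : np5 S = true) : ¬ P5 σ G := fun ⟨g, hg, x, y, n⟩ => by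
  simp only [np5, List.all_eq_true, beq_iff_eq] at k
  obtain ⟨c, hc, r⟩ := h g hg
  obtain ⟨u, hu, e⟩ := f.ry x
  obtain ⟨m, hm, e'⟩ := f.upw y
  exact n (f.ext (f.r12 (f.rmul e (by rw [e', ← conj_pow]; exact f.rpw r m))) (k c hc m (r3 hm) u (r3 hu) ▸ f.rone))
theorem nn (h : ∀ g ∈ G, ∃ c ∈ sh S, Rp i (g * y1 σ * g⁻¹) c) (k : nnd S = true) : ¬ ND G := fun ⟨g, hg, n, s, s0, e⟩ => by
  simp only [nnd, List.all_eq_true, Bool.or_eq_true, Bool.and_eq_true, beq_iff_eq, bne_iff_ne] at k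
  obtain ⟨c, hc, r⟩ := h g hg
  rcases k c hc with (rfl | rfl) | k
  · exact n (f.b1_of (.inl rfl) r)
  · exact n (f.b1_of (.inr rfl) r)
  obtain ⟨a, ha, b, hb, w⟩ := f.ex (g (0, s)).2
  have e' : g (0, s) = vec i (pk 0 0 a b) := by rw [f.w0]; exact Prod.ext e w
  rcases k a (r3 ha) b (r3 hb) with ⟨rfl, rfl⟩ | k
  · exact s0 (congrArg Prod.snd (g.map_eq_zero_iff.1 (e'.trans (by simp [f.w0]))))
  · refine k (f.vinj ?_)
    rw [← f.rap r, ← e', mul_ap _ g⁻¹, inv_ap, mul_ap]; congr 1; bs []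
theorem st (h : ∀ g ∈ G, ∃ c ∈ sh S, Rp i (g * y1 σ * g⁻¹) c) (hc : In i G c0) (hN : Rp i N n) (hw : In i G d)
    (k : st1 S n d = true) : St1 σ (cj N G) := by
  simp only [st1, List.all_eq_true, List.any_eq_true, Bool.or_eq_true, Bool.and_eq_true, beq_iff_eq] at k
  obtain ⟨⟨⟨k1, k2⟩, k3⟩, k4⟩ := k
  refine ⟨f.mcj hN f.rw1 hw k2, fun ν hν ν0 => ?_, ?_⟩
  · rcases (f.f3.2 ν hν).resolve_left ν0 with rfl | rfl
    · exact ⟨1, one_mem _, fun v => by simp⟩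
    · refine ⟨LinearEquiv.neg ℤ, f.mcj hN (f.rd (φ := .refl K) (2, 0, 1, 1) (fun v => ?_) (by simp)) (f.imul hc hc) k3, fun v => ?_⟩
      · ext <;> simp
        · linear_combination -v.1 * f.h3
        · linear_combination -v.2 * f.h3
      · ext <;> simp
  rintro _ ⟨g, hg, rfl⟩
  obtain ⟨c, hc, r⟩ := h g hg
  obtain ⟨m, hm, e⟩ := k4 c hc
  have key : ∀ M, Rp i M m → B1 (M * g * N⁻¹) := fun M hM => by
    obtain ⟨u, hu, e⟩ : ∃ u, (u = 1 ∨ u = 2) ∧ mul m c = mul (yc u) m := e.elim (⟨1, .inl rfl, ·⟩) (⟨2, .inr rfl, ·⟩)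
    refine b1_mul (f.b1_of hu ?_) (b1_inv (f.rb1 hN k1))
    rw [show M * g * y1 σ * (M * g)⁻¹ = M * (g * y1 σ * g⁻¹) * M⁻¹ by group,
      f.ext (f.rmul hM r) (e ▸ f.rmul (f.ryu u) hM), mul_inv_cancel_right]
    exact f.ryu u
  rcases List.mem_cons.1 hm with rfl | hm
  · exact .inl (key N hN)
  · obtain ⟨u, -, rfl⟩ := List.mem_map.1 hm
    have := key _ (f.rmul (f.rmul f.rw1 (f.ryu u)) hN)
    rw [mul_assoc _ N, mul_assoc _ (N * g)] at this
    exact .inr ⟨xu u (map_natCast σ u), this⟩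

variable (h : H1 σ p G)
include h
theorem igl {a b : ℕ} (hc : In i G c0) (ha : In i G a) (hb : In i G b) (k : In i G c) : ∀ e ∈ gl a b c, In i G e := by
  have y : ∀ u, In i G (yc u) := fun u => ⟨_, yG h _, f.ryu u⟩
  simp only [gl, List.mem_cons, List.not_mem_nil, or_false, forall_eq_or_imp, forall_eq]
  exact ⟨k, f.imul k k, y 1, y 2, hc, ha, f.imul ha ha, hb, f.imul hb hb⟩
theorem bad (k : In i G c) (b : b1c c = true) : ∃ u < 3, ∃ t ∈ PP, mul cI c = mul cI (mul (yc u) (dm t)) := by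
  obtain ⟨g, hg, r⟩ := k
  obtain ⟨x, a, b, φ, a0, b0, hb, d⟩ := h.bor g hg (f.rb1 r b)
  obtain ⟨t, ht, e⟩ := f.rd' d a0 b0 hb
  obtain ⟨u, hu, e'⟩ := f.ry x
  exact ⟨u, hu, t, ht, f.uq r (mul_inv_cancel_left (u1 x) g ▸ f.rmul e' e)⟩
theorem dgc {r b : K} {φ : K ≃+* K} (hg : g ∈ G) (d : D1 g r b φ) : ∃ t ∈ PP, Rp i g (dm t) := by
  obtain ⟨x, a, b, φ, a0, b0, hb, d'⟩ := h.bor g hg fun s => by simp [d _]
  have e := d' (1, 0)
  rw [← map_inv] at e d'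
  bs [d _, map_one, map_zero, inv_u, neg_mul, sub_neg_eq_add, mul_eq_zero] at e
  have : u1 x⁻¹ = 1 := LinearEquiv.ext fun v => by bs [inv_u, e.2.resolve_right (e.1 ▸ a0), one_ap]
  exact f.rd' (one_mul g ▸ this ▸ d') a0 b0 hb
theorem ij : IJ G ↔ In i G cJ := by
  refine ⟨fun ⟨g, hg, a, b⟩ => ?_, fun ⟨g, hg, r⟩ => ⟨g, hg, ?_⟩⟩
  · obtain ⟨x, r, b', φ, -, -, -, d⟩ := h.bor g hg fun s => by simp [b]
    refine ⟨_, mul_mem (inv_mem (h.syl.le ⟨x, rfl⟩)) hg, f.rd (φ := .refl K) (1, 0, 2, 1) (fun v => ?_) (by simp)⟩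
    have e1 := congrArg Prod.fst (d v)
    have e2 := congrArg Prod.snd (d (0, v.2))
    rw [← map_inv] at e1 e2
    bs [a, b] at e1 e2
    rw [d, ← e1, ← e2]
    ext <;> simp
    linear_combination -v.2 * f.h3
  · let k : A1 K := AddEquiv.toIntLinearEquiv (AddEquiv.prodCongr (AddEquiv.refl K) (AddEquiv.neg K))
    obtain rfl := f.ext r (f.rd (g := k) (φ := .refl K) (1, 0, 2, 1) (fun v => by
      refine Prod.ext (show v.1 = _ by simp) (show -v.2 = _ from ?_)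
      simp; linear_combination -v.2 * f.h3) (by simp))
    exact ⟨fun _ => rfl, fun _ => rfl⟩
theorem cls {V : List ℕ} (hV : ∀ a < 3, ∀ b < 3, ∀ c < 3, ∀ d < 3, pk a b c d ∈ V)
    (hC : ∀ n ∈ V, ∀ m ∈ V, bfc n m % 3 = 0 → n ≠ 0 → m ≠ 0 → m ≠ n → cv2 n m 0 1 0 ≠ 0 →
      ∀ b, b = 1 ∨ b = 2 → cl n m b ∈ C ∨ sq (cl n m b) ∈ C)
    (ex : ∀ c ∈ C, In i G c → c ∈ S) : ∀ g ∈ G, ∃ c ∈ sh S, Rp i (g * y1 σ * g⁻¹) c := fun g hg => by
  obtain ⟨k, hk, ik, b⟩ := red h hg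
  obtain ⟨x, r, b, φ, -, b0, hb, d⟩ := h.bor _ (mul_mem (inv_mem hk) hg) b
  obtain ⟨b, hb', rfl⟩ : ∃ u, (u = 1 ∨ u = 2) ∧ b = (u : ℕ) := by
    rcases f.f3.2 _ hb with e | e | e
    exacts [(b0 e).elim, ⟨1, by simp, by simp [e]⟩, ⟨2, by simp, by rw [e]; push_cast; linear_combination -f.h3⟩]
  have e : g * y1 σ * g⁻¹ = k * yy (b : K) hb * k⁻¹ := by
    have : k⁻¹ * g * y1 σ = yy (b : K) hb * (k⁻¹ * g) := by
      rw [← mul_inv_cancel_left (u1 x) (k⁻¹ * g)]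
      generalize (u1 x)⁻¹ * (k⁻¹ * g) = d' at d
      exact LinearEquiv.ext fun v => by bs [d _, map_sub]; ring
    rw [← mul_inv_cancel_left k g, mul_assoc k, this]; group
  obtain ⟨a1, h1, a2, h2, a3, h3, a4, h4, e1⟩ := f.sur (k (0, 1))
  obtain ⟨b1, k1, b2, k2, b3, k3, b4, k4, e2⟩ := f.sur (k (0, i))
  rw [← f.vpk] at e1 e2
  have m1 := hV _ h1 _ h2 _ h3 _ h4
  have m2 := hV _ k1 _ k2 _ k3 _ k4
  generalize pk a1 a2 a3 a4 = n at *
  generalize pk b1 b2 b3 b4 = m at *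
  have r : Rp i (g * y1 σ * g⁻¹) (cl n m b) := f.rcl b fun v => by
    obtain ⟨s, -, t, -, z⟩ := f.ex (k⁻¹ v).1
    rw [e, cj_ap ik, ← e1, ← e2, ← ap_inv k v, ik, ik, inv_ap, z, show ((0, (s : K) + t * i) : K × K) = vec4 i 0 0 s t by simp [vec4], lin4]
    bs [z, f.si, map_natCast, zero_smul, nsmul_eq_mul, Prod.fst_mul, Prod.snd_mul, Prod.fst_natCast, Prod.snd_natCast]
    constructor
    · linear_combination -(b * s * (k (0, 1)).1 + b * t * (k (0, i)).1) * f.h3 + 2 * b * t * (k (0, i)).1 * f.ii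
    · linear_combination -(b * s * (k (0, 1)).2 + b * t * (k (0, i)).2) * f.h3 + 2 * b * t * (k (0, i)).2 * f.ii
  have z : ∀ s, k (0, s) = 0 → s = 0 := fun s e => congrArg Prod.snd (k.map_eq_zero_iff.1 e)
  have i0 : i ≠ 0 := fun e => by simpa [e] using f.ii
  have I : In i G (cl n m b) := ⟨_, cG h hg _, r⟩
  have := f.ch
  rcases hC n m1 m m2 ((CharP.cast_eq_zero_iff K 3 _).1 (by rw [← f.rbf, ← e1, ← e2, ik]; bs []) |> Nat.mod_eq_zero_of_dvd)
    (fun c => one_ne_zero (z 1 (by simp [e1, c, vec, vec4]))) (fun c => i0 (z i (by simp [e2, c, vec, vec4])))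
    (fun c => by
      have := f.inj (a := 0) (b := 1) (a' := 1) (b' := 0) (by simpa using congrArg Prod.snd (k.injective (e2.trans (c ▸ e1.symm))))
      omega) (fun c => by
      have := f.inj (a := 1) (b := 1) (a' := 0) (b' := 0) (by
        simpa using z (1 + i) (by
          rw [show ((0, 1 + i) : K × K) = (0, 1) + (0, i) by simp, map_add, e1, e2, show (0 : K × K) = vec i 0 by simp [vec, vec4, Prod.ext_iff],
            ← c, cv2, f.vpk]
          simp only [vec, vec4]; ext <;> simp <;> ring))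
      omega) b hb' with c | c
  · exact ⟨_, List.mem_append_left _ (ex _ c I), r⟩
  · refine ⟨_, List.mem_append_right _ (List.mem_map_of_mem (ex _ c (f.imul I I))), ?_⟩
    have y3 : y1 σ ^ 4 = y1 σ := f.ext (f.rpw f.ry1 4) (by convert f.ry1 using 1; decide +kernel)
    have := f.rmul (f.rmul r r) (f.rmul r r)
    rwa [show ∀ x : A1 K, x * x * (x * x) = x ^ 4 from fun x => by simp only [pow_succ, pow_zero, one_mul, mul_assoc],
      conj_pow, y3] at this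
theorem gen (hL : ∀ c ∈ L, In i G c) (h1 : ∀ g ∈ G, ∃ c ∈ L, Rp i (g * y1 σ * g⁻¹) c)
    (h2 : ∀ t ∈ PP, In i G (dm t) → dm t ∈ L) : G = gn i L := by
  refine le_antisymm (fun g hg => ?_) ((closure_le _).2 fun x ⟨c, hc, r⟩ => let ⟨g, hg, r'⟩ := hL c hc; f.ext r r' ▸ hg)
  let M := closure {x | ∃ g ∈ G, g * y1 σ * g⁻¹ = x}
  have m1 : M ≤ G := (closure_le _).2 fun x ⟨g, hg, e⟩ => e ▸ cG h hg _
  have m2 : M ≤ gn i L := closure_mono fun x ⟨g, hg, e⟩ => e ▸ h1 g hg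
  have m3 : (u1 (σ := σ)).range ≤ M := fun _ ⟨x, e⟩ => by
    obtain ⟨u, -, e'⟩ := f.upw x
    exact e ▸ e' ▸ pow_mem (Subgroup.subset_closure (k := {x | ∃ g ∈ G, g * y1 σ * g⁻¹ = x}) ⟨1, one_mem _, by simp⟩) u
  obtain ⟨k, hk, n⟩ := (h.syl.mono_right m3 m1).frattini' pU (g := g) (mem_nz_of_le (by
    rw [cj_closure]
    refine closure_mono ?_
    rintro _ ⟨_, ⟨a, ha, rfl⟩, rfl⟩
    exact ⟨g * a, mul_mem hg ha, by simp [mul_assoc]⟩))
  obtain ⟨x, r, b, φ, r0, b0, hb, d⟩ := h.bor _ (mul_mem (m1 hk) hg) (b1_nz n)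
  obtain ⟨t, ht, e⟩ := f.rd' d r0 b0 hb
  have : (u1 x)⁻¹ * (k * g) ∈ gn i L :=
    Subgroup.subset_closure ⟨_, h2 t ht ⟨_, mul_mem (inv_mem (h.syl.le ⟨x, rfl⟩)) (mul_mem (m1 hk) hg), e⟩, e⟩
  simpa using mul_mem (inv_mem (m2 hk)) (mul_mem (m2 (m3 ⟨x, rfl⟩)) this)
end Fi

end H2.PV
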