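/-
Fusion systems on a Sylow `3`-subgroup of `PSU₄(3)`: the automizers of `Q₁`.
-/
import Cfsg.Agent.H2.PV6
import Cfsg.Agent.H2.PV7g

set_option autoImplicit false
set_option linter.unusedSectionVars false
set_option linter.unusedSimpArgs false

namespace H2.PV
open Subgroup H25 H8.PU H7.PV H7.PV.Cu H1' Dt
open H24.SP (mul_ap one_ap inv_ap ap_inv)
universe u v

def all2 (f : ℕ → ℕ → Bool) : List ℕ → List ℕ → Bool
  | [], _ => true
  | _ :: _, [] => false
  | c :: C, e :: E => f c e && all2 f C E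
theorem all2_ex {f : ℕ → ℕ → Bool} : ∀ {C E : List ℕ}, all2 f C E = true → ∀ c ∈ C, ∃ e, f c e = true
  | [], _, _, _, h => nomatch h
  | _ :: _, [], h, _, _ => nomatch h
  | c :: C, e :: E, h, x, hx => by
    rw [all2, Bool.and_eq_true] at h
    rcases List.mem_cons.1 hx with rfl | hx
    exacts [⟨e, h.1⟩, all2_ex h.2 x hx]
def g1 (k : ℕ) : ℕ := G1.getD k cI
def g2 (k : ℕ) : ℕ := G2.getD k cI
def sS (k : ℕ) : List ℕ := SS.getD k []
def sD (k : ℕ) : List ℕ := DD.getD k []
def wd (k c w : ℕ) : ℕ := ev (gl (g1 k) (g2 k) c) 16 w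
def ndc (k : ℕ) : Bool := sS k ++ sD k == (WW.getD k []).map (wd k cI) && all2 (fun c e => mem c (sS k) ||
  bif e % 32 == 0 then b1c (wd k c (e / 32)) && !mem (mul cI (wd k c (e / 32))) UC
  else decide (k < e % 32) && decide (e % 32 < 19) && wd k c (e / 32 % 2 ^ 64) == g1 (e % 32) && wd k c (e / 2 ^ 69) == g2 (e % 32))
  Cl0 (CC.getD k [])
def tt (j : ℕ) : ℕ × ℕ × ℕ × ℕ := PP.getD j (1, 0, 1, 1)
def finB (S D : List ℕ) (p5 nd ij : Bool) (a b j : ℕ) : Bool :=
  (PP.all fun s => mem (dm s) (bif ij then D ++ D.map (mul · cJ) else D) || kill Cl0 S (dm s) ||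
    (!ij && D.any fun d => mul d (dm s) == cJ)) && ((bif ij then D ++ D.map (mul · cJ) else D).all fun d => cmt d a b) &&
  seq (sh S ++ bif ij then D ++ D.map (mul · cJ) else D) (LX p5 nd ij) (mul (dm (tt j)) (tc a b)) && (!(p5 && nd) || ij)
def finc (k : ℕ) : Bool := match FF.getD k [] with
  | [0] => (sh (sS k)).all fun c => c == yc 1 || c == yc 2
  | [1, a, b, w] => np5 (sS k) && nnd (sS k) && st1 (sS k) (mul (dm (tt 8)) (tc a b)) (wd k cI w) &&
    PP.all fun s => cmt (dm s) a b || kill Cl0 (sS k) (dm s)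
  | [2, p, n, w, a, b, j, a', b', j'] => (bif p == 1 then yp5 (sS k) (wd k cI w) else np5 (sS k)) &&
    (bif n == 1 then ynd (sS k) else nnd (sS k)) && (p == 1 || n == 1) && (PP.any fun s => s.2.2.2 == 2 && mem (dm s) (sD k)) &&
    (kill Cl0 (sS k) cJ || finB (sS k) (sD k) (p == 1) (n == 1) true a b j) &&
    (mem cJ (sD k) || finB (sS k) (sD k) (p == 1) (n == 1) false a' b' j')
  | _ => false
def clc : Bool := V81.all fun n => V81.all fun m => bfc n m % 3 != 0 || n == 0 || m == 0 || m == n || cv2 n m 0 1 0 == 0 ||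
  [1, 2].all fun b => mem (cl n m b) Cl0 || mem (sq (cl n m b)) Cl0

theorem k_cl : clc = true := by decide +kernel
theorem k_V : (R3.all fun a => R3.all fun b => R3.all fun c => R3.all fun d => mem (pk a b c d) V81) = true := by decide +kernel
theorem k_UC : (R3.all fun u => PP.all fun t => mem (mul cI (mul (yc u) (dm t))) UC) = true := by decide +kernel
theorem k_nd : (List.range 19).all ndc = true := by decide +kernel
theorem k_fin : (List.range 19).all finc = true := by decide +kernel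
theorem k_0 : g1 0 = cI ∧ g2 0 = cI := by decide +kernel

end H2.PV
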