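/-
Fusion systems on a Sylow `3`-subgroup of `PSU₄(3)`: the automizers of `Q₁`, conclusion.
-/
import Cfsg.Agent.H2.PV8

set_option autoImplicit false
set_option linter.unusedSectionVars false
set_option linter.unusedSimpArgs false

namespace H2.PV
open Subgroup H25 H8.PU H7.PV H7.PV.Cu H1' Dt
open H24.SP (mul_ap one_ap inv_ap ap_inv)
universe u v
variable {K : Type v} [Field K] [Finite K] {σ : K →+* K} [IV σ] {p : ℕ} [Fact p.Prime] [CharP K p]
  {G : Subgroup (A1 K)} {i : K} {k : ℕ} {S D : List ℕ}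

theorem tt_mem (j : ℕ) : tt j ∈ PP := by
  rw [tt, List.getD_eq_getElem?_getD]
  cases e : PP[j]? with
  | none => decide
  | some a => exact List.mem_of_getElem? e
open Classical in
/-- the normal forms -/
noncomputable def XX (i : K) (a b c : Prop) : Subgroup (A1 K) := gn i (LX (decide a) (decide b) (decide c))
variable (σ) in
/-- the conclusion -/
def Out (i : K) (G : Subgroup (A1 K)) : Prop :=
  ∃ β k r b φ, r ≠ 0 ∧ b ≠ 0 ∧ σ b = b ∧ D1 k r b φ ∧ (∀ g ∈ G, ∀ r b φ, D1 g r b φ → r * b * φ β = β * σ r) ∧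
    (¬ P5 σ G ∧ ¬ ND G ∧ St1 σ (cj (k * t1 σ β) G) ∨ (P5 σ G ∨ ND G) ∧ cj (k * t1 σ β) G = XX i (P5 σ G) (ND G) (IJ G) ∧
      (P5 σ G → ND G → IJ G) ∧ ∃ g ∈ G, ∃ r b φ, D1 g r b φ ∧ φ ≠ .refl K)

namespace Fi
variable (f : Fi σ i) (h : H1 σ p G) (hc : In i G c0)
include f h hc
theorem known (hk : k < 19) (h1 : In i G (g1 k)) (h2 : In i G (g2 k)) : (∀ c ∈ sS k, In i G c) ∧ ∀ c ∈ sD k, In i G c := by
  have := List.all_eq_true.1 k_nd k (List.mem_range.2 hk)
  rw [ndc, Bool.and_eq_true, beq_iff_eq] at this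
  rw [← List.forall_mem_append, this.1]
  exact List.forall_mem_map.2 fun w _ => f.iev (f.igl h hc h1 h2 f.ione) _ _
theorem tree (n : ℕ) : ∀ k < 19, 19 ≤ k + n → In i G (g1 k) → In i G (g2 k) →
    ∃ k < 19, In i G (g1 k) ∧ In i G (g2 k) ∧ ∀ c ∈ Cl0, In i G c → c ∈ sS k := by
  induction n with
  | zero => exact fun k a b => absurd a (by omega)
  | succ n ih =>
    intro k hk hn h1 h2
    by_cases ex : ∀ c ∈ Cl0, In i G c → c ∈ sS k
    · exact ⟨k, hk, h1, h2, ex⟩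
    push Not at ex
    obtain ⟨c, hC, ic, nc⟩ := ex
    have := List.all_eq_true.1 k_nd k (List.mem_range.2 hk)
    rw [ndc, Bool.and_eq_true] at this
    obtain ⟨e, he⟩ := all2_ex this.2 c hC
    have w : ∀ w, In i G (wd k c w) := fun w => f.iev (f.igl h hc h1 h2 ic) _ _
    rw [Bool.or_eq_true, mem_iff, or_iff_right nc] at he
    cases e0 : e % 32 == 0 <;> rw [e0] at he
    · simp only [cond_false, Bool.and_eq_true, decide_eq_true_eq, beq_iff_eq] at he
      exact ih _ he.1.1.2 (by omega) (he.1.2 ▸ w _) (he.2 ▸ w _)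
    · simp only [cond_true, Bool.and_eq_true, Bool.not_eq_true', ← Bool.not_eq_true, mem_iff] at he
      obtain ⟨u, hu, t, ht, e⟩ := f.bad h (w _) he.1
      exact (he.2 (e ▸ mem_iff.1 (List.all_eq_true.1 (List.all_eq_true.1 k_UC u (r3 hu)) t ht))).elim
omit hc in
theorem cls' (ex : ∀ c ∈ Cl0, In i G c → c ∈ S) : ∀ g ∈ G, ∃ c ∈ sh S, Rp i (g * y1 σ * g⁻¹) c := by
  refine f.cls h (V := V81) (fun a ha b hb c hc d hd => ?_) (fun n hn m hm a b c d e u hu => ?_) ex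
  · have := k_V
    simp only [List.all_eq_true, mem_iff] at this
    exact this a (r3 ha) b (r3 hb) c (r3 hc) d (r3 hd)
  · have := List.all_eq_true.1 (List.all_eq_true.1 k_cl n hn) m hm
    simp only [Bool.or_eq_true, bne_iff_ne, beq_iff_eq, List.all_eq_true, mem_iff, a, b, c, d, e, ne_eq, not_true, false_or] at this
    exact this u (by simpa using hu)
omit hc in
theorem outB {p5 nd ij : Bool} {a b j : ℕ} (ex : ∀ c ∈ Cl0, In i G c → c ∈ S) (hS : ∀ c ∈ S, In i G c) (hD : ∀ c ∈ D, In i G c)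
    (h1 : P5 σ G ↔ p5 = true) (h2 : ND G ↔ nd = true) (h3 : In i G cJ ↔ ij = true) (h4 : (p5 || nd) = true)
    (h5 : (PP.any fun s => s.2.2.2 == 2 && mem (dm s) D) = true) (k : finB S D p5 nd ij a b j = true) : Out σ i G := by
  simp only [finB, Bool.and_eq_true, List.all_eq_true, Bool.or_eq_true, mem_iff, List.any_eq_true, beq_iff_eq, Bool.not_eq_true'] at k h4 h5
  obtain ⟨⟨⟨k1, k2⟩, k3⟩, k4⟩ := k
  have hD' : ∀ c ∈ bif ij then D ++ D.map (mul · cJ) else D, In i G c := by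
    cases ij
    · exact hD
    · exact List.forall_mem_append.2 ⟨hD, List.forall_mem_map.2 fun d hd => f.imul (hD d hd) (h3.2 rfl)⟩
  have exD : ∀ t ∈ PP, In i G (dm t) → dm t ∈ bif ij then D ++ D.map (mul · cJ) else D := fun t ht it => by
    rcases k1 t ht with (e | e) | ⟨e, d, hd, e'⟩
    · exact e
    · rw [f.kl ex hS it] at e; cases e
    · rw [h3.1 (e' ▸ f.imul (hD d hd) it)] at e; cases e
  generalize (bif ij then D ++ D.map (mul · cJ) else D) = D' at *
  obtain ⟨k, r, b', φ, r0, b0, hb, d, rk, -⟩ := f.exd (tt_mem j)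
  have hL := List.forall_mem_append.2 ⟨f.ish hS, hD'⟩
  refine ⟨a + b * i, k, r, b', φ, r0, b0, hb, d, fun g hg r b φ d => ?_, .inr ⟨h4.imp h1.2 h2.2, ?_, fun a b => ?_, ?_⟩⟩
  · obtain ⟨t, ht, e⟩ := f.dgc h hg d
    exact f.cm e (k2 _ (exD t ht ⟨g, hg, e⟩)) d
  · rw [f.cjeq (f.rmul rk (f.rt a b)) hL (f.gen h hL (fun g hg => (f.cls' h ex g hg).imp fun c e => ⟨List.mem_append_left _ e.1, e.2⟩)
      fun t ht it => List.mem_append_right _ (exD t ht it)) k3, XX]
    congr 2 <;> rw [Bool.eq_iff_iff, @decide_eq_true_iff _ (_)]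
    exacts [h1.symm, h2.symm, ((f.ij h).trans h3).symm]
  · rw [h1.1 a, h2.1 b] at k4
    exact (f.ij h).2 (h3.2 (k4.resolve_left (by simp)))
  · obtain ⟨t, ht, e, m⟩ := h5
    obtain ⟨k, r, b', φ, -, -, -, d, rk, n⟩ := f.exd ht
    obtain ⟨g, hg, rg⟩ := hD _ m
    exact ⟨g, hg, r, b', φ, f.ext rk rg ▸ d, n e⟩
theorem out : Out σ i G := by
  obtain ⟨k, hk, h1, h2, ex⟩ := f.tree h hc 19 0 (by simp) le_rfl (k_0.1 ▸ f.ione) (k_0.2 ▸ f.ione)
  obtain ⟨hS, hD⟩ := f.known h hc hk h1 h2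
  have w : ∀ w, In i G (wd k cI w) := fun w => f.iev (f.igl h hc h1 h2 f.ione) _ _
  have cl := f.cls' h ex
  have := List.all_eq_true.1 k_fin k (List.mem_range.2 hk)
  unfold finc at this
  split at this
  · obtain ⟨g, hg, n⟩ := h.ne
    obtain ⟨c, hc, r⟩ := cl g hg
    have := List.all_eq_true.1 this c hc
    rw [Bool.or_eq_true, beq_iff_eq, beq_iff_eq] at this
    exact (n (this.elim (fun e => f.b1_of (.inl rfl) (e ▸ r)) fun e => f.b1_of (.inr rfl) (e ▸ r))).elim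
  · rename_i a b v _
    simp only [Bool.and_eq_true, List.all_eq_true (l := PP), Bool.or_eq_true] at this
    obtain ⟨⟨⟨k1, k2⟩, k3⟩, k4⟩ := this
    obtain ⟨k, r, b', φ, r0, b0, hb, d, rk, -⟩ := f.exd (tt_mem 8)
    refine ⟨a + b * i, k, r, b', φ, r0, b0, hb, d, fun g hg r b φ d => ?_,
      .inl ⟨f.np cl k1, f.nn cl k2, f.st cl hc (f.rmul rk (f.rt a b)) (w v) k3⟩⟩
    obtain ⟨t, ht, e⟩ := f.dgc h hg d
    exact f.cm e ((k4 t ht).resolve_right (by rw [f.kl ex hS ⟨g, hg, e⟩]; simp)) d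
  · rename_i p5 nd v a b j a' b' j' _
    simp only [Bool.and_eq_true] at this
    obtain ⟨⟨⟨⟨⟨k1, k2⟩, k3⟩, k4⟩, k5⟩, k6⟩ := this
    generalize (p5 == 1) = p5 at *
    generalize (nd == 1) = nd at *
    have e1 : P5 σ G ↔ p5 = true := by
      cases p5
      · simpa using f.np cl k1
      · simpa using f.yp hS (w v) k1
    have e2 : ND G ↔ nd = true := by
      cases nd
      · simpa using f.nn cl k2
      · simpa using f.yn hS k2
    by_cases ij : In i G cJ
    · exact f.outB h ex hS hD e1 e2 (iff_of_true ij rfl) k3 k4 (by simpa [f.kl ex hS ij] using k5)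
    · exact f.outB h ex hS hD e1 e2 (iff_of_false ij Bool.false_ne_true) k3 k4 ((Bool.or_eq_true _ _ ▸ k6 :).resolve_left fun e => ij (hD _ (mem_iff.1 e)))
  · cases this
end Fi

theorem c3 : C3 σ p := fun f3 => by
  obtain ⟨i, f⟩ := fi_ex f3
  refine ⟨XX i, fun G h hl => f.out h ?_⟩
  obtain ⟨g, hg, d⟩ := hl (1 + i) fun e => by
    have := f.inj (a := 1) (b := 1) (a' := 0) (b' := 0) (by simpa using e)
    omega
  refine ⟨g, hg, f.rd (φ := .refl K) (0, 2, 2, 1) ?_ (by simp)⟩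
  convert d using 1
  · simp; linear_combination -f.ii
  · refine eq_inv_of_mul_eq_one_left ?_
    simp [f.si]; linear_combination -2 * f.ii + f.h3

end H2.PV
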