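import Cfsg.Agent.H24.SS3

/-! A certificate checker for 2-local arguments in towers of extensions of degree two: the programs
(adapted from `H6/DH1`, `H2/LS1`). -/

set_option autoImplicit false

namespace H2.SV
open H16 H1.Am H24.SS

noncomputable section

structure Par where
  (a h b : Bool)
def l2 (P i : ℕ) : ℕ := Nat.land (Nat.shiftRight P (Nat.mul i (nat_lit 12))) (nat_lit 4095)
def m0 (x y : ℕ) : ℕ := Nat.xor (Nat.xor x y)
  (Nat.land (Nat.land (Nat.shiftRight x (nat_lit 3)) (Nat.shiftRight y (nat_lit 2))) (nat_lit 1))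
def m1 (x y : ℕ) : ℕ := Nat.xor (m0 x y) (Nat.shiftRight (Nat.land (Nat.land x y) (nat_lit 16)) (nat_lit 3))
def x3 (mul : Mu) (m x : ℕ) : ℕ := Nat.rec x (fun _ _ => mul x m) m
def xm (N : ℕ) (mul : Mu) (P m x y : ℕ) : ℕ := Bool.rec
  (Bool.rec (mul x y) (Nat.add (mul x (Nat.sub y N)) N) (Nat.ble N y))
  (Bool.rec (Nat.add (mul (Nat.sub x N) (l2 P y)) N) (x3 mul m (mul (Nat.sub x N) (l2 P (Nat.sub y N)))) (Nat.ble N y))
  (Nat.ble N x)
def ff (mul : Mu) : Mu := fun x y => force x fun x => force y fun y => mul x y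
def sel {α : Type} (b : Bool) (x y : α) : α := Bool.rec y x b
def fB (b : Bool) (k : Bool → Bool) : Bool := Bool.rec (k false) (k true) b
def s1 (p : Par) : ℕ := Bool.rec (nat_lit 16) (nat_lit 32) p.h
def bmu (p : Par) : Mu := Bool.rec m0 m1 p.b
inductive Tw
  | b : Tw
  | x (N P m : ℕ) (t : Tw) : Tw
def mu0 (p : Par) (t : Tw) : Mu := Tw.rec (bmu p) (fun N P m _ ih => xm N ih P m) t
def sz (p : Par) (t : Tw) : ℕ := Tw.rec (s1 p) (fun N _ _ _ _ => Nat.mul N (nat_lit 2)) t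
def cb (p : Par) (k : Mu → Bool) : Bool := Bool.rec (k m0) (k m1) p.b
def cp (p : Par) (t : Tw) : (Mu → Bool) → Bool :=
  Tw.rec (cb p) (fun N P m _ ih k => ih fun mul => k (xm N mul P m)) t
def twE (t : Tw) : Tw → Bool := Tw.rec (fun u => Tw.rec true (fun _ _ _ _ _ => false) u)
  (fun N P m _ ih u => Tw.rec false (fun N' P' m' u _ => Nat.beq N N' &&' Nat.beq P P' &&' Nat.beq m m' &&' ih u) u) t

def mz (M : Mu) (a y : ℕ) : ℕ := Nat.rec y (fun _ _ => M a y) a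
def prK (M : Mu) (l : List ℕ) : ℕ → ℕ → ℕ := List.rec (fun a _ => a) (fun y _ ih a e => Nat.rec a (fun _ _ =>
  force (Bool.rec (mz M a y) a (Nat.beq (Nat.land e (nat_lit 1)) (nat_lit 0))) fun a' =>
    force (Nat.shiftRight e (nat_lit 1)) fun e' => ih a' e') e) l
def pr (M : Mu) (l : List ℕ) (e : ℕ) : ℕ := force e fun e => prK M l (nat_lit 0) e
def fb (p : Par) (x : ℕ) : Bool := Bool.rec false (bt x (nat_lit 1)) p.a
def bq (a b : Bool) : Bool := Bool.rec (Bool.rec true false b) b a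
def inL (p : Par) (l x : ℕ) : Bool := Nat.beq l (nat_lit 0) ||' !fb p x
def isNo (p : Par) (nb y : ℕ) : Bool := (p.a &&' !bt y (nat_lit 1)) ||' bt nb y
def nsq (p : Par) : Bool := !(p.h &&' p.b)
/-- generators of the abelian subgroups `A₀`, `A₁`, of order `ak` -/
def atl (p : Par) (i : ℕ) : List ℕ := Nat.rec (Bool.rec [1, 2, 4] [1, 2, 4, 16] p.h)
  (fun _ _ => Bool.rec [1, 2, 8] [1, 2, 8, 16] p.h) i
def ak (p : Par) (_ : ℕ) : ℕ := Bool.rec 8 16 p.h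
def ky (p : Par) : List ℕ := Bool.rec [8, 9, 10, 11] [8, 9, 10, 11, 20, 21, 22, 23] p.h
def bg (p : Par) : List ℕ := Bool.rec [1, 2, 4, 8] [1, 2, 4, 8, 16] p.h
def lam (x : ℕ) : ℕ := Nat.land x (nat_lit 18)
def chi (c x : ℕ) : Bool := Nat.rec false (fun i ih => Bool.rec ih (!ih) (bt c i &&' bt x i)) (nat_lit 12)
def sqn (M : Mu) (j x : ℕ) : ℕ := Nat.rec x (fun _ ih => force ih fun a => M a a) j
def olg (M : Mu) (x : ℕ) : ℕ := sel (Nat.beq x 0) 0 (force (M x x) fun x => sel (Nat.beq x 0) 1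
  (force (M x x) fun x => sel (Nat.beq x 0) 2 (sel (Nat.beq (M x x) 0) 3 4)))
def cn (M : Mu) (a b c d : ℕ) : Bool := Nat.beq (M a b) (M c d)
def h0 (l : List ℕ) : ℕ := List.rec (nat_lit 0) (fun x _ _ => x) l
def n1 (l : List ℕ) (i : ℕ) : ℕ := nth (nat_lit 0) l i
def ar (A : List Wl) (i : ℕ) : Wl := nth [] A i
def rw2 (A : List Wl) (i j : ℕ) : List ℕ := nth [] (nth [] A i) j
def nm (A : List Wl) (k : ℕ) : ℕ := nth (nat_lit 0) (nth [] (nth [] A (nat_lit 0)) (nat_lit 0)) k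
def a2 {α β : Type} (f : α → β → Bool) (l : List α) : List β → Bool :=
  List.rec (motive := fun _ => List β → Bool) (fun l => List.rec true (fun _ _ _ => false) l)
    (fun z _ ih l => List.rec false (fun a l _ => f z a &&' ih l) l) l
def a3 (f : ℕ → ℕ → ℕ → Bool) (l : List ℕ) : List ℕ → List ℕ → Bool :=
  List.rec (motive := fun _ => List ℕ → List ℕ → Bool) (fun _ _ => true)
    (fun z _ ih l j => List.rec false (fun a l _ => List.rec false (fun b j _ => f z a b &&' ih l j) j) l) l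
def allI (f : ℕ → ℕ → Bool) (l : List ℕ) : ℕ → Bool :=
  List.rec (fun _ => true) (fun r _ ih i => f i r &&' force (Nat.succ i) ih) l
def apK (l j : List ℕ) : (List ℕ → Bool) → Bool :=
  List.rec (fun k => k j) (fun z _ ih k => ih fun l => k (z :: l)) l
def ltA (N : ℕ) (l : List ℕ) : Bool := allB (fun x => Nat.blt x N) l
def exR (n : ℕ) (f : ℕ → Bool) : Bool := !aR n fun e => !f e
def two {α : Type} (A : List α) (k : α → α → List α → Bool) : Bool :=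
  List.rec false (fun a A _ => List.rec false (fun b A _ => k a b A) A) A
def one {α : Type} (A : List α) (k : α → List α → Bool) : Bool := List.rec false (fun a A _ => k a A) A

structure Mp where
  (ys vs : List ℕ) (m : ℕ) (fl : Bool)
def dM : Mp := ⟨[], [], 4096, false⟩
def wm (M : Mu) (us vs xs : List ℕ) : List ℕ → (List ℕ → Bool) → Bool := List.rec (fun _ k => k [])
  (fun x _ ih es k => one es fun e es => Nat.beq (pr M us e) x &&' force (pr M vs e) fun y => ih es fun l => k (y :: l)) xs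
def wk (N : ℕ) (M : Mu) (ms : List Mp) (W : Wl) : List ℕ → (List ℕ → Bool) → Bool := List.rec (fun xs k => k xs)
  (fun r _ ih xs k => one r fun c es => Nat.rec (force (h0 es) fun r => force (n1 es 1) fun s =>
      Nat.blt r N &&' Nat.blt s N &&' Nat.beq (M r s) (nat_lit 0) &&' fm (cjf M r s) xs fun l => ih l k)
    (fun c _ => Mp.rec (fun ys vs _ _ => Bool.rec (wm M vs ys xs es fun l => ih l k) (wm M ys vs xs es fun l => ih l k)
      (Nat.beq (Nat.land c (nat_lit 1)) (nat_lit 0))) (nth dM ms (Nat.shiftRight c (nat_lit 1)))) c) W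
def cb2 (b : Bool) (e : ℕ) : ℕ := Bool.rec e (Nat.rec 1 (fun e _ => Nat.rec 0 (fun _ _ => 2) e) e) b
def pw2 (p : Par) (ms : List Mp) (W : Wl) : ℕ := List.rec 0 (fun r _ ih => List.rec 2 (fun c es _ =>
  Nat.rec (cb2 (fb p (h0 es)) ih) (fun c _ => Bool.rec 2 ih (nth dM ms (Nat.shiftRight c (nat_lit 1))).fl) c) r) W
def ev (p : Par) (ms : List Mp) (l : ℕ) (W : Wl) : Bool := Nat.beq l 0 ||' Nat.beq (pw2 p ms W) 0

structure Cur where
  (xs vs ys : List ℕ) (sq fl : Bool) (bd : ℕ)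
structure St where
  (t : Tw) (N : ℕ) (ms : List Mp) (nb yb : ℕ) (sy : Bool) (nf : Wl) (co0 : ℕ) (ct0 : Wl) (co1 : ℕ) (ct1 : Wl)
  (cu : Cur) (cc : List ℕ) (ci : Bool) (cl ex : List ℕ)
structure Gl where
  (t : Tw) (ms : List Mp) (nb yb : ℕ)
def mkS (t : Tw) (N : ℕ) (ms : List Mp) (nb yb : ℕ) : St :=
  ⟨t, N, ms, nb, yb, false, [], 0, [], 0, [], ⟨[], [], [], false, false, N⟩, [N], false, [], [2]⟩
namespace St
variable (s : St)
def nrm (k : St → Bool) : Bool :=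
  St.rec (fun t N ms nb yb sy nf a b c d cu cc ci cl ex => k ⟨t, N, ms, nb, yb, sy, nf, a, b, c, d, cu, cc, ci, cl, ex⟩) s
def sMp (m : Mp) : St :=
  St.rec (fun t N ms nb yb sy nf a b c d cu cc ci cl ex => ⟨t, N, m :: ms, nb, yb, sy, nf, a, b, c, d, cu, cc, ci, cl, ex⟩) s
def sLb (nb yb : ℕ) : St :=
  St.rec (fun t N ms _ _ sy nf a b c d cu cc ci cl ex => ⟨t, N, ms, nb, yb, sy, nf, a, b, c, d, cu, cc, ci, cl, ex⟩) s
def sSy : St :=
  St.rec (fun t N ms nb yb _ nf a b c d cu cc ci cl ex => ⟨t, N, ms, nb, yb, true, nf, a, b, c, d, cu, cc, ci, cl, ex⟩) s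
def sNf (r : List ℕ) : St :=
  St.rec (fun t N ms nb yb sy nf a b c d cu cc ci cl ex => ⟨t, N, ms, nb, yb, sy, r :: nf, a, b, c, d, cu, cc, ci, cl, ex⟩) s
def sC0 (a : ℕ) (b : Wl) : St :=
  St.rec (fun t N ms nb yb sy nf _ _ c d cu cc ci cl ex => ⟨t, N, ms, nb, yb, sy, nf, a, b, c, d, cu, cc, ci, cl, ex⟩) s
def sC1 (c : ℕ) (d : Wl) : St :=
  St.rec (fun t N ms nb yb sy nf a b _ _ cu cc ci cl ex => ⟨t, N, ms, nb, yb, sy, nf, a, b, c, d, cu, cc, ci, cl, ex⟩) s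
def sCu (cu : Cur) : St :=
  St.rec (fun t N ms nb yb sy nf a b c d _ cc ci cl ex => ⟨t, N, ms, nb, yb, sy, nf, a, b, c, d, cu, cc, ci, cl, ex⟩) s
def sCa (cc : List ℕ) (ci : Bool) (cl : List ℕ) : St :=
  St.rec (fun t N ms nb yb sy nf a b c d cu _ _ _ ex => ⟨t, N, ms, nb, yb, sy, nf, a, b, c, d, cu, cc, ci, cl, ex⟩) s
def sEx (ex : List ℕ) : St :=
  St.rec (fun t N ms nb yb sy nf a b c d cu cc ci cl _ => ⟨t, N, ms, nb, yb, sy, nf, a, b, c, d, cu, cc, ci, cl, ex⟩) s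
def fin : St := Cur.rec (fun xs vs _ _ fl _ => s.sMp ⟨xs, vs, nat_lit 4096, fl⟩) s.cu
def co (l : ℕ) : ℕ := sel (Nat.beq l 0) s.co0 s.co1
def ct (l : ℕ) : Wl := sel (Nat.beq l 0) s.ct0 s.ct1
end St

abbrev Kt := ℕ → Mu → St → Bool
abbrev Rl := Par → List Gl → Mu → St → List Wl → Kt → Kt → Bool

/-! ### contradictions -/
def rKN : Rl := fun p _ mul s A _ _ => wk s.N (ff mul) s.ms (ar A 0) [2] fun l => isNo p s.nb (h0 l)
def rKS : Rl := fun p _ mul s A _ _ => nsq p &&' force (nm A 0) fun r => Nat.blt r s.N &&'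
  wk s.N (ff mul) s.ms (ar A 1) [2] fun l => Nat.beq (ff mul r r) (h0 l)
def rKC : Rl := fun p _ mul s A _ _ => wk s.N (ff mul) s.ms (ar A 0) [2] fun l => force (h0 l) fun y =>
  Nat.blt (s1 p) (cnt s.N (cmm (ff mul) y))
def rKL : Rl := fun p _ mul s A _ _ => force (nm A 0) fun x => Nat.blt x (s1 p) &&'
  wk s.N (ff mul) s.ms (ar A 1) [2, x] fun l => Nat.beq (h0 l) 2 &&'
    (Nat.ble (s1 p) (n1 l 1) ||' !Nat.beq (lam x) (lam (n1 l 1)))
def rKF : Rl := fun p _ mul s A _ _ => p.h &&' wk s.N (ff mul) s.ms (ar A 0) [2, 16] fun l => al2 Nat.beq l [2, 17]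
def rKB : Rl := fun p _ mul s A _ _ => force (nm A 0) fun y => mem (ky p) y &&' wk s.N (ff mul) s.ms (ar A 1) [2, 1, 4] fun l =>
  allB (fun x => exR 8 fun e => Nat.beq (pr (ff mul) l e) x) [2, 1, y]
def rKR : Rl := fun _ _ mul s A _ _ => !Nat.beq (pr (ff mul) s.cu.xs (nm A 0)) (pr (ff mul) s.cu.xs (nm A 1)) &&'
  Nat.beq (pr (ff mul) s.cu.vs (nm A 0)) (pr (ff mul) s.cu.vs (nm A 1))
def rKM : Rl := fun _ _ mul s A _ _ => one s.ms fun m _ => Nat.blt m.m 4096 &&'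
  Nat.beq (pr (ff mul) m.ys (nm A 0)) m.m &&' !Nat.beq (pr (ff mul) m.vs (nm A 0)) m.m
def rKI : Rl := fun p _ mul s A _ _ => force (nm A 0) fun i => apK (atl p i) [] fun as => ltA s.N (rw2 A 0 1) &&'
  a2 (fun y es => a2 (fun a e => cn (ff mul) y a (pr (ff mul) as e) y) as es) (rw2 A 0 1) (ar A 1) &&'
  apK as (rw2 A 0 1) fun xs => wk s.N (ff mul) s.ms (ar A 2) xs fun l => force as.length fun n =>
    al2 Nat.beq (l.take n) as &&' aR (ak p i) fun e => force (pr (ff mul) as e) fun a =>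
      !al2 (fun y z => cn (ff mul) a y z a) (rw2 A 0 1) (l.drop n)

/-! ### enumeration of maps -/
def flK (M : Mu) (y : ℕ) (xs vs : List ℕ) (L : Wl) : ((ℕ → Bool) → Bool) → Bool := List.rec (fun k => k fun _ => true)
  (fun r _ ih k => force (pr M xs (n1 r 2)) fun c => force (pr M vs (n1 r 2)) fun b => Nat.rec
    (force (pr M vs (n1 r 1)) fun a => cn M y (pr M xs (n1 r 1)) c y &&' ih fun f => k fun q => cn M q a b q &&' f q)
    (fun _ _ => Nat.beq (M y y) c &&' ih fun f => k fun q => Nat.beq (M q q) b &&' f q) (h0 r)) L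
def osK (p : Par) (N : ℕ) (M : Mu) (c : Cur) (L : Wl) : (List (ℕ × ℕ) → Bool) → Bool := List.rec (fun k => k [])
  (fun r _ ih k => force (h0 r) fun o => force (n1 r 1) fun o' => Nat.blt o c.bd &&' Nat.blt o' N &&'
    Nat.beq (M o o') 0 &&' allB (cmm M o) c.vs &&' (!c.fl ||' !fb p o) &&' (!c.sq ||' Nat.beq (pr M c.ys (n1 r 2)) o) &&'
    ih fun os => k ((o, o') :: os)) L
def stp (p : Par) (mul : Mu) (s : St) (A : List Wl) (k1 : Kt) (y : ℕ) (it : (ℕ → Bool) → Bool) : Bool :=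
  Cur.rec (fun xs vs ys sq fl bd => flK (ff mul) y xs vs (ar A 2) fun pass => osK p s.N (ff mul) s.cu (ar A 3) fun os =>
    ltA s.N (rw2 A 4 0) &&' force (orbs (ff mul) os (rw2 A 4 0)) fun B => fB (fb p y) fun fy =>
      force (sel (bt s.yb y) s.nb (sel (bt s.nb y) s.yb 0)) fun Q => force (Nat.lor B Q) fun Q =>
      it (fun q => bt Q q ||' !bq fy (fb p q) ||' !pass q) &&' apK xs [y] fun xs' =>
        allI (fun i r => apK vs [r] fun vs' => k1 i mul (s.sCu ⟨xs', vs', ys, sq, fl, bd⟩)) (rw2 A 4 0) 0) s.cu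
def rFUL : Rl := fun p _ mul s A k1 _ => force (pr (ff mul) s.cu.ys (nm A 0)) fun y => stp p mul s A k1 y fun f =>
  sel (Nat.beq (nm A 1) 0) (aQ s.cu.bd f) (al2 (fun z e => Nat.beq (pr (ff mul) s.cu.vs e) z &&'
    cmm (ff mul) y (pr (ff mul) s.cu.xs e)) s.cc (rw2 A 0 1) &&' (!s.ci ||' Nat.beq (ff mul y y) 0) &&' allB f s.cl)
def rCOS : Rl := fun p _ mul s A k1 _ => force (pr (ff mul) s.cu.ys (nm A 0)) fun y => force (nm A 2) fun q =>
  force (nm A 1) fun i => Nat.blt q s.N &&' wk s.N (ff mul) s.ms (ar A 1) (atl p i) fun as =>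
    fm (pr (ff mul) s.cu.vs) (rw2 A 0 1) fun ap => al2 (fun a e => Nat.beq (pr (ff mul) s.cu.xs e) a) as (rw2 A 0 1) &&'
      a3 (fun a b e => cn (ff mul) y a (pr (ff mul) s.cu.xs e) y &&' cn (ff mul) q b (pr (ff mul) s.cu.vs e) q)
        as ap (rw2 A 0 2) &&' stp p mul s A k1 y fun f => aR (ak p i) fun e => force (ff mul q (pr (ff mul) ap e)) f
def fsK (M : Mu) (xs vs : List ℕ) (L : Wl) : ((ℕ → Bool) → Bool) → Bool := List.rec (fun k => k fun _ => true)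
  (fun r _ ih k => force (pr M xs (h0 r)) fun x => force (pr M vs (n1 r 1)) fun b =>
    Nat.beq (pr M xs (n1 r 1)) (pr M vs (h0 r)) &&' ih fun f => k fun q => cn M q x b q &&' f q) L
def rSQR : Rl := fun p _ mul s A k1 _ => Cur.rec (fun xs vs _ sq fl _ => sq &&' fsK (ff mul) xs vs (ar A 2) fun pass =>
  allB (fun e => force (pr (ff mul) xs e) fun r => (!fl ||' !fb p r) &&' allB (cmm (ff mul) r) vs) (rw2 A 3 0) &&'
  fm (fun e => ff mul (pr (ff mul) xs e) (pr (ff mul) vs e)) (rw2 A 3 0) fun rf =>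
  (fun f : ℕ → Bool => sel (Nat.beq (nm A 0) 0) (aQ s.N f) (force (nm A 2) fun q => force (nm A 1) fun i =>
    Nat.blt q s.N &&' wk s.N (ff mul) s.ms (ar A 1) (atl p i) fun as =>
      a3 (fun a e e' => Nat.beq (pr (ff mul) xs e) a &&' Nat.beq (pr (ff mul) xs e') (pr (ff mul) vs e) &&'
        cn (ff mul) q a (pr (ff mul) vs e') q) as (rw2 A 0 1) (rw2 A 0 2) &&'
      aR (ak p i) fun e => force (ff mul q (pr (ff mul) as e)) f))
    (fun m => (fl &&' fb p m) ||' mem (rw2 A 4 0) m ||' !pass m ||'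
      anyB (fun r => force (ff mul r m) (mem (rw2 A 4 0))) rf) &&'
  allI (fun i m => Nat.blt m s.N &&' k1 i mul (s.sMp ⟨xs, vs, m, fl⟩)) (rw2 A 4 0) 0) s.cu
def flt (f : ℕ → Bool) (k : List ℕ → Bool) (n : ℕ) : List ℕ → Bool :=
  Nat.rec k (fun i ih l => sel (f i) (ih (i :: l)) (ih l)) n
def rCCH : Rl := fun _ _ mul s A k1 _ => fB (Nat.beq (nm A 0) 1) fun ci =>
  flt (fun q => (!ci ||' Nat.beq (ff mul q q) 0) &&' allB (cmm (ff mul) q) (rw2 A 0 1))
    (fun l => k1 0 mul (s.sCa (rw2 A 0 1) ci l)) s.N []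
def rRHO : Rl := fun p _ mul s A k1 _ => force (nm A 0) fun i => fB (Nat.beq (nm A 1) 1) fun sq =>
  apK (rw2 A 0 1) [] fun xs => apK xs (rw2 A 0 2) fun ys => ltA s.N ys &&'
  wk s.N (ff mul) s.ms (ar A 1) (atl p i) (fun as => al2 (fun a e => Nat.beq (pr (ff mul) xs e) a) as (rw2 A 0 3)) &&'
  Nat.beq (pw2 p s.ms (ar A 2)) 0 &&' wk s.N (ff mul) s.ms (ar A 2) xs fun vs =>
    al2 (fun v e => Nat.beq (pr (ff mul) xs e) v) vs (rw2 A 0 4) &&'
    (!sq ||' force (pr (ff mul) ys (nm A 2)) fun r => al2 (fun x e => cn (ff mul) r x (pr (ff mul) vs e) r) xs (rw2 A 0 4)) &&'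
    a2 (fun y r => one r fun e es => force (pr (ff mul) ys e) fun q => a3 (fun x v e =>
      cn (ff mul) y x (pr (ff mul) xs e) y &&' cn (ff mul) q v (pr (ff mul) vs e) q) xs vs es) (rw2 A 0 2) (ar A 3) &&'
    k1 0 mul (s.sCu ⟨xs, vs, ys, sq, true, s.N⟩)

/-! ### change of the group -/
def bld (M : Mu) (vs : List ℕ) : ℕ → ℕ → (ℕ → ℕ → Bool) → Bool := List.rec (fun n P k => k n P)
  (fun v _ ih n P k => force (Nat.add P (Nat.shiftLeft (loop2 (fun x => Nat.shiftLeft (M (l2 P x) v) (Nat.mul x (nat_lit 12)))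
    (nat_lit 0) n) (Nat.mul n (nat_lit 12)))) fun P => force (Nat.mul n 2) fun n => ih n P k) vs
def rEXT : Rl := fun _ _ mul s A k1 _ => one s.ms fun m ms => force m.m fun m' => m.fl &&' Nat.blt m' 4096 &&'
  Nat.ble s.N 4096 &&' allI (fun i e => Nat.beq (pr (ff mul) m.ys e) (Nat.shiftLeft 1 i)) (rw2 A 0 0) 0 &&'
  ltA s.N (rw2 A 0 1) &&' fm (pr (ff mul) m.vs) (rw2 A 0 0) fun vs => bld (ff mul) vs 1 0 fun n P => Nat.beq n s.N &&'
  aQ s.N (fun r => anyB (fun x => !cn (ff mul) r x (l2 P x) r) (rw2 A 0 1)) &&'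
  (s.sy ||' force (Nat.mul s.N (nat_lit 2)) fun N => k1 0 (xm s.N mul P m') (mkS (.x s.N P m' s.t) N ms s.nb s.yb))
def gn : List ℕ := [1, 2, 4, 8, 16, 32, 64, 128, 256, 512, 1024, 2048]
/-- `f` respects the relations between the generators below `n` -/
def thK (p : Par) (l n : ℕ) (M M' : Mu) (f : Fn) : Bool := allB (fun g => Nat.ble n g ||' !inL p l g ||'
  allB (fun g' => Nat.blt g g' ||' !inL p l g' ||' Nat.beq (f (M g g')) (M' (f g) (f g'))) gn) gn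
def isoT (p : Par) (M : Mu) (f : Fn) (t : Tw) : Bool := Tw.rec (thK p 0 (s1 p) M M f)
  (fun n P m t ih => ih &&' Nat.beq n (sz p t) &&' Nat.blt m n &&' force (f n) fun g => Nat.beq (f m) (M g g) &&'
    aQ n fun x => force (l2 P x) fun y => Nat.blt y n &&' Nat.beq (f (Nat.add y n)) (M g (f x))) t
def lkK (p : Par) (f : Fn) : Bool := Nat.beq (f 2) 2 &&' Nat.beq (f 1) 1 &&'
  (!p.h ||' allB (fun x => mem [16, 18] (f x) &&' Nat.beq (f (Nat.succ x)) (Nat.succ (f x))) [16, 18]) &&'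
  allB (fun x => mem [4, 5, 6, 7] (f x)) [4, 5, 6, 7] &&' allB (fun x => mem (ky p) (f x)) (ky p) &&'
  aR (s1 p) (fun x => Nat.blt (f x) (s1 p) &&' Nat.beq (lam (f x)) (lam (f (lam x)))) &&'
  allB (fun x => allB (fun y => Nat.ble (s1 p) x ||' Nat.ble (s1 p) y ||' Nat.beq x y ||' !Nat.beq (lam (f x)) (lam (f y)))
    [0, 2, 16, 18]) [0, 2, 16, 18] &&'
  allB (fun i => fm f (atl p i) fun l => allB (fun x => exR 16 fun e => Nat.beq (pr (bmu p) l e) x) (atl p i) &&'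
    aR (ak p i) fun e => force (pr (bmu p) (atl p i) e) fun x => exR (ak p i) fun e => Nat.beq (f (pr (bmu p) (atl p i) e)) x)
    [0, 1]
def rfK (p : Par) (M : Mu) (s : St) (A : List Wl) (g : Gl) (f : Fn) : Bool :=
  a2 (fun (m : Mp) W => Nat.ble 4096 m.m &&' (!m.fl ||' Nat.beq (pw2 p s.ms W) 0) &&' ltA s.N m.ys &&' ltA s.N m.vs &&'
    fm f m.ys fun xs => wk s.N M s.ms W xs fun l => al2 (fun v y => Nat.beq (f v) y) m.vs l) g.ms A.tail &&'
  Nat.blt (Nat.lor g.nb g.yb) (Nat.shiftLeft 1 s.N) &&' (Nat.beq (Nat.lor g.nb g.yb) 0 ||' aQ s.N fun x =>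
    (!bt g.nb x ||' isNo p s.nb (f x)) &&' (!bt g.yb x ||' bt s.yb (f x) ||' Nat.beq (f x) 2))
def nK {α : Type} (k : α → Bool) (L : List α) : ℕ → Bool :=
  List.rec (fun _ => false) (fun g _ ih i => Nat.rec (k g) (fun i _ => ih i) i) L
def orM (f : Fn) (n : ℕ) : ℕ → ℕ := Nat.rec (fun B => B) (fun i ih B => force (Nat.lor B (Nat.shiftLeft 1 (f i))) ih) n
def rRF : Rl := fun p gl mul s A _ _ => nK (fun g => sel (Nat.beq (nm A 1) 0)
  (twE s.t g.t &&' rfK p (ff mul) s A g fun x => x)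
  (Nat.ble s.N 4096 &&' Nat.beq (sz p g.t) s.N &&' ltA s.N (rw2 A 0 1) &&' bld (ff mul) (rw2 A 0 1) 1 0 fun n P =>
    Nat.beq n s.N &&' aQ s.N (fun x => bq (fb p (l2 P x)) (fb p x)) &&'
    Nat.beq (Nat.succ (orM (l2 P) s.N 0)) (Nat.shiftLeft 1 s.N) &&' isoT p (ff mul) (l2 P) g.t &&' lkK p (l2 P) &&'
    rfK p (ff mul) s A g (l2 P))) gl (nm A 0)

/-! ### conjugates of `t` -/
def rLAB : Rl := fun _ _ mul s A k1 k2 => force (nm A 0) fun y => Nat.blt y s.N &&'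
  force (Nat.lor s.nb (Nat.shiftLeft 1 y)) (fun nb => k1 0 mul (s.sLb nb s.yb)) &&' k2 0 mul (s.sMp ⟨[2], [y], 4096, true⟩)
def rEMB : Rl := fun p _ mul s A k1 _ => wk s.N (ff mul) s.ms (ar A 1) [2] fun l => force (h0 l) fun y =>
  bt (n1 (nth [] s.ct0 (nm A 0)) 2) y &&' Nat.beq (n1 (nth [] s.ct0 (nm A 0)) 1) (s1 p) &&'
    k1 0 mul (s.sCu ⟨[2], [y], bg p, false, true, s.N⟩)
def lbK (p : Par) (M : Mu) (s : St) (k : ℕ → ℕ → Bool) (A : List Wl) : ℕ → ℕ → Bool := List.rec k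
  (fun a _ ih nb yb => one a fun r W => force (n1 r 2) fun x => force (n1 r 3) fun j => force (n1 (nth [] s.ct0 (n1 r 1)) 2) fun B =>
    bt B x &&' wk s.N M s.ms W [x] fun l => force (h0 l) fun y => sel (Nat.beq (h0 r) 0)
      ((Nat.beq y 2 ||' bt yb y) &&' force (Nat.lor yb B) (ih nb))
      ((isNo p nb y ||' sel (Nat.beq (h0 r) 2) (nsq p &&' Nat.blt j s.N &&' Nat.beq (M j j) y) (sel (Nat.beq (h0 r) 3)
        (bt (n1 (nth [] s.ct0 j) 2) y &&' Nat.blt (s1 p) (n1 (nth [] s.ct0 j) 1)) (al2 Nat.beq (nth [] s.nf j) [0, 2, y]))) &&'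
        force (Nat.lor nb B) fun nb => ih nb yb)) A
def rLBL : Rl := fun p _ mul s A k1 _ => lbK p (ff mul) s (fun nb yb => k1 0 mul (s.sLb nb yb)) A s.nb s.yb
def osL (p : Par) (l N : ℕ) (M : Mu) (L : Wl) : ℕ → (List (ℕ × ℕ) → Bool) → Bool :=
  List.rec (fun n k => Nat.beq n 1 &&' k []) (fun r _ ih n k => force (h0 r) fun o => force (n1 r 1) fun o' =>
    inL p l o &&' (Nat.beq (Nat.mul 2 o) n ||' (Nat.beq n 4 &&' Nat.beq o 1 &&' !inL p l 2)) &&' Nat.blt o' N &&'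
      Nat.beq (M o o') 0 &&' ih o fun os => k ((o, o') :: os)) L
def orc (M : Mu) (os : List (ℕ × ℕ)) (x : ℕ) : (ℕ → ℕ → Bool) → Bool :=
  List.rec (fun k => force (Nat.shiftLeft 1 x) fun B => k B 1) (fun o os ih k => ih fun B c => force (cjf M o.1 o.2 x) fun y =>
    sel (bt B y) (force (Nat.mul 2 c) (k B)) (force (Nat.lor B (orb M os y)) fun B => k B c)) os
def clK (p : Par) (l N : ℕ) (M : Mu) (os : List (ℕ × ℕ)) (R : List ℕ) : ℕ → (ℕ → Wl → Bool) → Bool :=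
  List.rec (fun U k => k U []) (fun y _ ih U k => Nat.blt y N &&' inL p l y &&' !bt U y &&' orc M os y fun B c =>
    force (olg M y) fun o => force (Nat.lor U B) fun U => ih U fun V L => k V ([y, c, B, o] :: L)) R
def rCLS : Rl := fun p _ mul s A k1 _ => force (nm A 0) fun l => force (nm A 1) fun co =>
  osL p l s.N (ff mul) (ar A 1) s.N fun os => clK p l s.N (ff mul) os (rw2 A 0 1) 0 fun V L =>
    aQ s.N (fun x => bt V x ||' !inL p l x ||' !Nat.beq (sqn (ff mul) co x) 0) &&'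
      k1 0 mul (sel (Nat.beq l 0) (s.sC0 co L) (s.sC1 co L))
def hmK (p : Par) (l N : ℕ) (M : Mu) (c : ℕ) : Bool := Nat.ble N 4096 &&' allB (fun g => Nat.ble N g ||' !inL p l g ||'
  allB (fun g' => Nat.blt g g' ||' !inL p l g' ||' bq (chi c (M g g')) (!bq (chi c g) (chi c g'))) gn) gn
def rel (p : Par) (nb : ℕ) (r : List ℕ) : Bool := Nat.beq (n1 r 1) (s1 p) &&' Nat.beq (n1 r 3) 1 &&' !isNo p nb (h0 r)
def yes (yb : ℕ) (r : List ℕ) : Bool := bt yb (h0 r) ||' bt (n1 r 2) 2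
def par (f : List ℕ → Bool) (L : Wl) : Bool := List.rec false (fun r _ ih => Bool.rec ih (!ih) (f r)) L
def rCNT : Rl := fun p _ mul s A _ _ => Nat.blt 0 s.co0 &&' force (nm A 1) fun c => hmK p 0 s.N (ff mul) c &&' !p.a &&'
  allB (fun r => !rel p s.nb r ||' !chi c (h0 r) ||' yes s.yb r) s.ct0 &&' par (fun r => rel p s.nb r &&' chi c (h0 r)) s.ct0
def spK (p : Par) (mul : Mu) (s : St) (ys : List ℕ) (k2 : Kt) (L : Wl) : ℕ → Bool := List.rec (fun _ => true)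
  (fun r _ ih i => sel (!rel p s.nb r ||' bt (n1 r 2) 2) (ih i) (force (h0 r) (fun y =>
    k2 i mul (s.sCu ⟨[2], [y], ys, true, true, s.N⟩)) &&' force (Nat.succ i) ih)) L
def rSPL : Rl := fun p _ mul s A k1 k2 => Nat.blt 0 s.co0 &&' ltA s.N (rw2 A 0 0) &&' k1 0 mul s.sSy &&'
  spK p mul s (rw2 A 0 0) k2 s.ct0 0
def rZS : Rl := fun p _ _ s _ _ _ => s.sy &&' Nat.blt 0 s.co0 &&' allB (fun r => !Nat.beq (n1 r 3) 1 ||' isNo p s.nb (h0 r) ||'
  (Nat.beq (h0 r) 2 &&' Nat.beq (n1 r 1) s.N)) s.ct0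
/-- the subgroup generated by `vs` as a set of numbers -/
def sgK (N : ℕ) (M : Mu) (vs : List ℕ) (k : ℕ → Bool) : Bool := ltA N vs &&' bld M vs 1 0 fun n P =>
  force (orM (l2 P) n 0) fun B => aQ n (fun e => force (l2 P e) fun x => allB (fun v => bt B (M x v)) vs) &&' k B
def rK5 : Rl := fun p _ mul s A _ _ => Nat.ble s.N 4096 &&' allB (fun x => !fb p x) (rw2 A 0 0) &&'
  sgK s.N (ff mul) (rw2 A 0 0) fun B => sgK s.N (ff mul) (rw2 A 0 1) fun D =>
    aQ s.N (fun x => !bt B x ||' bt D (ff mul x x)) &&' Nat.blt (Nat.mul 16 (cnt s.N (bt D))) (cnt s.N (bt B))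

/-! ### the Sylow case -/
/-- `x` and `y` are not conjugate at level `l` -/
def nfc (p : Par) (M : Mu) (s : St) (l x y : ℕ) (r : List ℕ) (W W' : Wl) : Bool := sel (Nat.beq (h0 r) 0)
  (!bq (fb p x) (fb p y) ||' (bt s.yb x &&' bt s.nb y) ||' (bt s.nb x &&' bt s.yb y))
  (wk s.N M s.ms W [x] fun u => wk s.N M s.ms W' [y] fun v =>
    one (nth [] s.nf (n1 r 1)) fun l' ab => (Nat.beq l' 0 ||' !Nat.beq l 0) &&' ev p s.ms l' W &&' ev p s.ms l' W' &&'
      (al2 Nat.beq ab [h0 u, h0 v] ||' al2 Nat.beq ab [h0 v, h0 u]))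
def h2K (p : Par) (M : Mu) (s : St) (l c q o : ℕ) (k : List Wl → Bool) (L : Wl) : List Wl → Bool := List.rec k
  (fun r _ ih A => sel (Nat.beq (n1 r 3) o &&' chi c (h0 r)) (two A fun a W' A => one a fun e W =>
    force (sqn M (n1 e 2) (h0 r)) (fun x => force (sqn M (n1 e 2) q) fun y => nfc p M s l x y e W W') &&' ih A) (ih A)) L
def h2Q (p : Par) (M : Mu) (s : St) (l c q : ℕ) (k : List Wl → Bool) (A : List Wl) : Bool :=
  sel (Nat.beq q 0) (k A) (force (olg M q) fun o => h2K p M s l c q o k (s.ct l) A)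
def xtK (mul : Mu) (s : St) (l x y : ℕ) (ex : List ℕ → Bool) (k1 : Kt) (L : Wl) : ℕ → Bool := List.rec (fun _ => true)
  (fun r _ ih i => sel (ex r) (ih i) (k1 i mul (s.sEx [l, x, y, h0 r]) &&' force (Nat.succ i) ih)) L
def rXT : Rl := fun p _ mul s A k1 k2 => force (nm A 0) fun md => force (nm A 1) fun l => force (nm A 2) fun x =>
  force (nm A 3) fun y => force (nm A 4) fun c => s.sy &&' Nat.blt 0 (s.co l) &&' Nat.ble (s.co l) 3 &&' Nat.blt l 2 &&'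
  Nat.blt x s.N &&' Nat.blt y s.N &&' inL p l x &&' inL p l y &&' (Nat.beq md 1 ||' Nat.beq x y) &&'
  Nat.beq (sqn (ff mul) (s.co l) x) 0 &&' ev p s.ms l (ar A 1) &&'
  wk s.N (ff mul) s.ms (ar A 1) [sel (Nat.beq (nm A 5) 0) x y] (fun u => bt (n1 (nth [] (s.ct l) (nm A 6)) 2) (h0 u)) &&'
  force (n1 (nth [] (s.ct l) (nm A 6)) 1) fun b => force (olg (ff mul) x) fun o =>
    force (sel (bt s.yb x ||' bt s.yb y) s.nb (sel (bt s.nb x ||' bt s.nb y) s.yb 0)) fun Q =>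
    xtK mul s l x y (fun r => !Nat.beq (n1 r 3) o ||' Nat.blt (n1 r 1) b ||' !bq (fb p x) (fb p (h0 r)) ||' bt Q (h0 r) ||'
      (Nat.beq md 2 &&' chi c (h0 r))) k1 (s.ct l) 0 &&'
    sel (Nat.beq md 1) (k2 0 mul (s.sNf [l, x, y])) (!Nat.beq md 2 ||' (!fb p x &&' hmK p l s.N (ff mul) c &&'
      force (ff mul x x) fun q => h2Q p (ff mul) s l c q (force (ff mul q q) fun q => h2Q p (ff mul) s l c q fun _ => true)
        A.tail.tail))
def pws (M : Mu) (n : ℕ) : ℕ → List ℕ → (List ℕ → Bool) → Bool :=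
  Nat.rec (fun _ l k => k l) (fun _ ih x l k => force (M x x) fun y => ih y (x :: l) k) n
def rPOS : Rl := fun p _ mul s A k1 _ => force (h0 s.ex) fun l => force (n1 s.ex 3) fun w => Nat.blt l 2 &&'
  Nat.blt (nm A 0) 3 &&' ev p s.ms l (ar A 1) &&' wk s.N (ff mul) s.ms (ar A 1) [n1 s.ex (Nat.succ (nm A 0))] fun u =>
  force (h0 u) fun y => force (n1 (nth [] (s.ct l) (nm A 2)) 1) fun a => force (n1 (nth [] (s.ct l) (nm A 3)) 1) fun b =>
  fB (bt (n1 (nth [] (s.ct l) (nm A 2)) 2) y &&' bt (n1 (nth [] (s.ct l) (nm A 3)) 2) w) fun ok =>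
  sel (Nat.beq (nm A 1) 0) (ok &&' Nat.blt b a) ((fun j : ℕ → ℕ → Bool => sel (Nat.beq (nm A 1) 1) (j y w)
    (ok &&' Nat.beq a b &&' j w y)) fun y w => apK (rw2 A 0 1) [] fun ys =>
      allB (fun x => Nat.blt x s.N &&' inL p l x &&' cmm (ff mul) x y) ys &&' pws (ff mul) (nm A 4) y [] fun xs =>
        pws (ff mul) (nm A 4) w [] fun vs => fB (Nat.beq (nm A 5) 1) fun fl => (!fl ||' !Nat.beq l 0 ||' !p.a ||' anyB (fb p) ys) &&'
          k1 0 mul (s.sCu ⟨xs, vs, ys, false, fl, s.N⟩))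
def rKNF : Rl := fun p _ mul s A _ _ => Nat.blt (h0 s.ex) 2 &&' Nat.blt (nm A 1) 3 &&' Nat.blt (nm A 2) 3 &&'
  force (sqn (ff mul) (nm A 0) (n1 s.ex (Nat.succ (nm A 1)))) fun x =>
  force (sqn (ff mul) (nm A 0) (n1 s.ex (Nat.succ (nm A 2)))) fun y =>
    nfc p (ff mul) s (h0 s.ex) x y (rw2 A 0 1) (ar A 1) (ar A 2)
def rID : Rl := fun p _ mul s A _ _ => s.sy &&' sel (Nat.beq (nm A 0) 0)
  (Nat.ble (sel p.a 32 16) s.N &&' Nat.ble s.N (sel p.a 256 128) &&'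
    osL p 1 s.N (ff mul) (ar A 1) s.N fun os => allB (fun a => allB (fun b =>
      force (ff mul (ff mul a.1 b.1) (ff mul a.2 b.2)) fun c => allB (fun d => cmm (ff mul) c d.1) os) os) os)
  (p.a &&' Nat.beq s.N 128 &&' force (nm A 1) fun z => force (nm A 2) fun r => force (nm A 3) fun q => force (nm A 4) fun t =>
    allB (fun x => Nat.blt x s.N &&' !fb p x) [z, r, q, t] &&' !Nat.beq z 0 &&' Nat.beq (ff mul r r) z &&'
    Nat.beq (ff mul q q) z &&' Nat.beq (ff mul (ff mul r q) r) q &&' Nat.beq (ff mul t t) 0 &&' cmm (ff mul) t z &&'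
    cmm (ff mul) r (cjf (ff mul) t t r) &&' cmm (ff mul) r (cjf (ff mul) t t q) &&' cmm (ff mul) q (cjf (ff mul) t t q))
def rNO : Rl := fun _ _ _ _ _ _ _ => false

/-! ### the checker -/
def rules : List Rl := [rKN, rKR, rFUL, rKL, rCOS, rKNF, rEXT, rRF, rRHO, rPOS, rCCH, rSQR, rKF, rKI, rCLS, rLBL, rXT, rSPL,
  rZS, rKB, rKM, rKS, rKC, rCNT, rLAB, rEMB, rK5, rID]
inductive Ct
  | e : Ct
  | n (a : ℕ) (c d : Ct) : Ct
def dec (k : List Wl → Bool) (n : ℕ) : ℕ → List ℕ → Wl → List Wl → Bool := Nat.rec (fun _ _ _ _ => false)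
  (fun _ ih a r W A => force (Nat.land a (nat_lit 8191)) fun d => force (Nat.shiftRight a (nat_lit 13)) fun a =>
    Nat.rec (k A) (fun d _ => Nat.rec (ih a [] (r :: W) A) (fun d _ => Nat.rec (ih a [] [] (W :: A))
      (fun d _ => ih a (d :: r) W A) d) d) d) n
def chk (R : List Rl) (p : Par) (gl : List Gl) (c : Ct) : Kt := Ct.rec (fun _ _ _ => false) (fun a _ _ k1 k2 i mul s =>
  Nat.rec (Nat.rec (k1 (nat_lit 0) mul s) (fun i _ => k2 i mul s) i) (fun _ _ =>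
    St.nrm (Bool.rec s.fin s (Nat.beq (Nat.land a (nat_lit 1)) (nat_lit 0))) fun s =>
      dec (fun A => nth rNO R (Nat.pred (Nat.shiftRight (Nat.land a (nat_lit 63)) (nat_lit 1))) p gl mul s A k1 k2)
        (nat_lit 100000) (Nat.shiftRight a (nat_lit 6)) [] [] []) a) c
def top (R : List Rl) (p : Par) (gl : List Gl) (g : Gl) (c : Ct) : Bool :=
  cp p g.t fun mul => force (sz p g.t) fun N => chk R p gl c 0 mul (mkS g.t N g.ms g.nb g.yb)
def g0 (h : Bool) : Gl := ⟨.b, Bool.rec [⟨[1, 2, 8], [8, 2, 9], 4096, true⟩, ⟨[1, 2, 4], [4, 2, 5], 4096, true⟩]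
  [⟨[1, 2, 8, 17], [8, 2, 9, 17], 4096, true⟩, ⟨[1, 2, 4, 16], [4, 2, 5, 16], 4096, true⟩] h, 0, 0⟩
def parE (p q : Par) : Bool := bq p.a q.a &&' bq p.h q.h &&' bq p.b q.b
def rRS (q : Par) (g2 : List Gl) : Rl := fun p _ mul s A k1 k2 => s.sy &&' parE p q &&' rRF p g2 mul s A k1 k2
def rul (x : Rl) : List Rl := [rKN, rKR, rFUL, rKL, rCOS, rKNF, rEXT, rRF, rRHO, rPOS, rCCH, rSQR, rKF, rKI, rCLS, rLBL, rXT,
  rSPL, rZS, rKB, rKM, rKS, rKC, rCNT, rLAB, rEMB, rK5, rID, x]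
def tp (sy : Bool) (p : Par) (gl g2 : List Gl) (g : Gl) (c : Ct) : Bool :=
  cp p g.t fun mul => force (sz p g.t) fun N => chk (rul (rRS p g2)) p gl c 0 mul
    (Bool.rec (mkS g.t N g.ms g.nb g.yb) (mkS g.t N g.ms g.nb g.yb).sSy sy)

end
end H2.SV
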