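import Cfsg.Agent.H2.SV0
import Cfsg.Agent.H2.SV1

/-! The certificate checker: meaning of the states, elementary programs (adapted from `H6/DH2`, `H24/SS2`). -/

set_option autoImplicit false
set_option linter.unusedSectionVars false

namespace H2.SV
open Cfsg Subgroup H16 H1.Am H24.SS H19

universe u
variable {G : Type u} [Group G]

/-- `el` numbers the elements of a subgroup -/
structure Md (el : ℕ → G) (N : ℕ) (mul : Mu) : Prop where
  ml : ∀ {x y}, x < N → y < N → mul x y < N ∧ el (mul x y) = el x * el y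
  inj : ∀ {x y}, x < N → y < N → el x = el y → x = y
  le : 16 ≤ N
  e0 : el 0 = 1
namespace Md
variable {el : ℕ → G} {N x y u v r s : ℕ} {mul : Mu} (h : Md el N mul)
include h
theorem pos : 0 < N := h.le.trans_lt' (by decide)
theorem lt (a : x < N) (b : y < N) : mul x y < N := (h.ml a b).1
theorem ev (a : x < N) (b : y < N) : el (mul x y) = el x * el y := (h.ml a b).2
theorem eq (a : x < N) (b : y < N) (c : u < N) (d : v < N) :
    Nat.beq (mul x y) (mul u v) = true ↔ el x * el y = el u * el v := by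
  rw [Nat.beq_eq, ← h.ev a b, ← h.ev c d]
  exact ⟨congrArg el, h.inj (h.lt a b) (h.lt c d)⟩
theorem one (a : x < N) (b : y < N) : Nat.beq (mul x y) (nat_lit 0) = true ↔ el x * el y = 1 := by
  rw [Nat.beq_eq, ← h.ev a b, ← h.e0]
  exact ⟨congrArg el, h.inj (h.lt a b) h.pos⟩
theorem cj (a : r < N) (b : s < N) (e : el s = (el r)⁻¹) : Ac el N (el r) (cjf mul r s) := fun x hx =>
  ⟨h.lt (h.lt a hx) b, by rw [cjf, h.ev (h.lt a hx) b, h.ev a hx, e]⟩
variable [Finite G]
/-- the subgroup -/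
def K : Subgroup G where
  carrier := {g | ∃ x < N, el x = g}
  mul_mem' := by rintro _ _ ⟨x, a, rfl⟩ ⟨y, b, rfl⟩; exact ⟨_, h.ml a b⟩
  one_mem' := ⟨0, h.pos, h.e0⟩
  inv_mem' := by
    rintro _ ⟨x, a, rfl⟩
    have : ∀ e, ∃ y < N, el y = el x ^ e := fun e => by
      induction e with
      | zero => exact ⟨0, h.pos, by simpa using h.e0⟩
      | succ e ih => obtain ⟨y, b, k⟩ := ih; exact ⟨_, h.lt b a, by rw [h.ev b a, k, pow_succ]⟩
    rw [inv_eq_of_mul_eq_one_left (show el x ^ (orderOf (el x) - 1) * el x = 1 by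
      rw [← pow_succ, Nat.sub_add_cancel (orderOf_pos _), pow_orderOf_eq_one])]
    exact this _
theorem mem (a : x < N) : el x ∈ h.K := ⟨x, a, rfl⟩
theorem cnt {f : ℕ → Bool} {Q : G → Prop} (e : ∀ x < N, f x = true ↔ Q (el x)) :
    H24.SS.cnt N f = {g | g ∈ h.K ∧ Q g}.ncard := by
  have : {g | g ∈ h.K ∧ Q g} = el '' ((Finset.range N).filter (f · = true) : Finset ℕ) := Set.ext fun g =>
    ⟨fun ⟨⟨x, a, k⟩, b⟩ => ⟨x, by simpa using ⟨a, (e x a).2 (k ▸ b)⟩, k⟩, fun ⟨x, a, k⟩ => by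
      have a : x < N ∧ f x = true := by simpa using a
      exact k ▸ ⟨h.mem a.1, (e x a.1).1 a.2⟩⟩
  rw [this, Set.InjOn.ncard_image fun x a y b => h.inj (by simp at a; exact a.1) (by simp at b; exact b.1),
    Set.ncard_coe_finset, H24.SS.cnt, loop2_eq_sum, Finset.card_filter]
  exact Finset.sum_congr rfl fun x _ => by rw [show nat_lit 0 + x = x from Nat.zero_add x]; cases f x <;> rfl
theorem cc (hx : x < N) : H24.SS.cnt N (cmm mul x) = Nat.card ↥(h.K ⊓ C[el x]) :=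
  h.cnt (Q := (· ∈ C[el x])) fun _ hy => (h.eq hx hy hy hx).trans (eq_comm.trans mem_cent1.symm)
end Md
/-- the conclusion -/
def Con (F : Subgroup G) (p : Par) : Prop := (p.a = true ∧ Cc F) ∨ Nat.card F = 20160 ∨ ¬ 63 ∣ Nat.card F
structure Cx (F : Subgroup G) (p : Par) : Prop where
  nm : F.Normal
  si : IsSimpleGroup F
  ix : ∀ x y, x ∉ F → y ∉ F → x * y ∈ F
  tp : p.a = false → F = ⊤
  rk : SectionalPRankLE 2 4 F
/-- the local information on the centraliser of `t = el 2` -/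
structure Lk (p : Par) (el : ℕ → G) : Prop where
  syl : ¬ 2 * s1 p ∣ Nat.card C[el 2]
  nsq : nsq p = true → ∀ y : G, y * y ≠ el 2
  lam : ∀ g : G, g * el 2 * g⁻¹ = el 2 → ∀ x < s1 p, ∀ y < s1 p, g * el x * g⁻¹ = el y → lam x = lam y
  ca : ∀ (i : ℕ) (y : G) (n : ℕ), y ^ 2 ^ n = 1 → (∀ x ∈ atl p i, y * el x * y⁻¹ = el x) →
    ∃ e < ak p i, y = el (pr (bmu p) (atl p i) e)
  nf : p.h = true → ∀ g : G, g * el 2 * g⁻¹ = el 2 → ∀ x ∈ [16, 18], g * el x * g⁻¹ ≠ el (x + 1)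
  kb : ∀ x ∈ [4, 5, 6, 7], ∀ y ∈ ky p, Nat.card ↥(C[el 2] ⊓ C[el 1] ⊓ C[el y]) < Nat.card ↥(C[el 2] ⊓ C[el 1] ⊓ C[el x])
  nc : ∃ g : G, g * el 2 ≠ el 2 * g
/-- `el` numbers a 2-subgroup containing a Sylow subgroup of the centraliser of `t` -/
structure Tm (F : Subgroup G) (p : Par) (el : ℕ → G) (N : ℕ) (M : Mu) : Prop where
  cx : Cx F p
  md : Md el N M
  pw : ∃ k, N = 2 ^ k
  le : s1 p ≤ N
  tw : ∀ n, 2 * n ∣ N → ∀ x < n, el (x + n) = el x * el n
  cl : ∀ n, n ∣ N → ∀ x < n, ∀ y < n, M x y < n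
  bm : ∀ x < s1 p, ∀ y < s1 p, M x y = bmu p x y
  fi : ∀ x < N, (el x ∈ F ↔ fb p x = false)
  lk : Lk p el
def Mo (F : Subgroup G) (el : ℕ → G) (N : ℕ) (m : Mp) : Prop :=
  ∃ g, (m.fl = true → g ∈ F) ∧ Im el N g m.ys m.vs ∧ (m.m < 4096 → m.m < N ∧ g * g = el m.m)
def HL (F : Subgroup G) (l : ℕ) : Subgroup G := if l = 0 then ⊤ else F
def Cj (H : Subgroup G) (x y : G) : Prop := ∃ h ∈ H, h * x * h⁻¹ = y
def Cu (F : Subgroup G) (el : ℕ → G) (N : ℕ) (c : Cur) : Prop := c.bd ∣ N ∧ ∃ g, (c.fl = true → g ∈ F) ∧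
  Im el N g c.xs c.vs ∧ (∀ y ∈ c.ys, y < N ∧ ∃ q < c.bd, g * el y * g⁻¹ = el q) ∧ (c.sq = true → ∃ m < N, g * g = el m)
open Classical in
noncomputable def oG (g : G) : ℕ := if g = 1 then 0 else if g ^ 2 = 1 then 1 else if g ^ 4 = 1 then 2 else if g ^ 8 = 1 then 3 else 4
noncomputable def cz (H : Subgroup G) (el : ℕ → G) (N : ℕ) (y : G) : ℕ :=
  {g | (∃ x < N, el x = g) ∧ g ∈ H ∧ g * y = y * g}.ncard
/-- a row `[representative, order of the centraliser, class, order]` of a class table -/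
structure Rw (H : Subgroup G) (el : ℕ → G) (N : ℕ) (r : List ℕ) : Prop where
  lt : h0 r < N
  mem : el (h0 r) ∈ H
  cls : ∀ x, bt (n1 r 2) x = true ↔ x < N ∧ ∃ k < N, el k ∈ H ∧ el k * el (h0 r) * (el k)⁻¹ = el x
  sz : n1 r 1 = cz H el N (el (h0 r))
  od : n1 r 3 = oG (el (h0 r))
structure Tb (H : Subgroup G) (el : ℕ → G) (N co : ℕ) (ct : Wl) : Prop where
  rw : ∀ r ∈ ct, Rw H el N r
  pw : ct.Pairwise fun r r' => bt (n1 r 2) (h0 r') = false
  cov : 0 < co → ∀ x < N, el x ∈ H → el x ^ 2 ^ co = 1 → ∃ r ∈ ct, bt (n1 r 2) x = true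
/-- `w` is extremal -/
def Ex (H : Subgroup G) (el : ℕ → G) (N : ℕ) (w : G) : Prop := ∀ y < N, Cj H (el y) w → ∃ g ∈ H, g * el y * g⁻¹ = w ∧
  ∀ x < N, el x ∈ H → el x * el y = el y * el x → ∃ q < N, g * el x * g⁻¹ = el q
def Xs (F : Subgroup G) (el : ℕ → G) (N : ℕ) (ex : List ℕ) : Prop := h0 ex < 2 →
  (∀ j < 3, n1 ex (j + 1) < N ∧ Cj (HL F (h0 ex)) (el (n1 ex (j + 1))) (el (n1 ex 3))) ∧
    el (n1 ex 3) ∈ HL F (h0 ex) ∧ Ex (HL F (h0 ex)) el N (el (n1 ex 3))
structure Ok (F : Subgroup G) (p : Par) (el : ℕ → G) (mul : Mu) (s : St) : Prop where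
  tm : Tm F p el s.N (ff mul)
  mu : mul = mu0 p s.t
  sz : s.N = sz p s.t
  ms : ∀ m ∈ s.ms, Mo F el s.N m
  nb : ∀ y, bt s.nb y = true → y < s.N ∧ ¬ IsConj (el 2) (el y)
  yb : ∀ y, bt s.yb y = true → y < s.N ∧ IsConj (el 2) (el y)
  sy : s.sy = true → ¬ 2 * s.N ∣ Nat.card G
  nf : ∀ r ∈ s.nf, n1 r 1 < s.N ∧ n1 r 2 < s.N ∧ ¬ Cj (HL F (h0 r)) (el (n1 r 1)) (el (n1 r 2))
  c0 : Tb (HL F 0) el s.N s.co0 s.ct0
  c1 : Tb (HL F 1) el s.N s.co1 s.ct1
  cu : Cu F el s.N s.cu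
  ca : (∀ z ∈ s.cc, z < s.N) → ∀ q < s.N, (s.ci = true → el q * el q = 1) → (∀ z ∈ s.cc, el q * el z = el z * el q) → q ∈ s.cl
  ex : Xs F el s.N s.ex
def Kk (F : Subgroup G) (p : Par) (k : Kt) : Prop := ∀ i mul s el, k i mul s = true → Ok F p el mul s → Con F p
def Gk (F : Subgroup G) (p : Par) (g : Gl) : Prop :=
  ∀ el, Ok F p el (mu0 p g.t) (mkS g.t (sz p g.t) g.ms g.nb g.yb) → Con F p
/-- soundness of a rule -/
def Snd (r : Rl) : Prop := ∀ (G : Type u) [Group G] [Finite G] (F : Subgroup G) (p : Par) (gl : List Gl) (mul : Mu) (s : St)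
  (A : List Wl) (k1 k2 : Kt) (el : ℕ → G), (∀ g ∈ gl, Gk F p g) → Kk F p k1 → Kk F p k2 → Ok F p el mul s →
    r p gl mul s A k1 k2 = true → Con F p
def Dd (p : Par) (g : Gl) : Prop := ∀ (G : Type u) [Group G] [Finite G] (F : Subgroup G), Gk F p g

variable {F H : Subgroup G} {p : Par} {el : ℕ → G} {N n x y a b c d e i j l : ℕ} {M mul : Mu} {g g' : G}
  {us vs xs ys es r : List ℕ} {s : St} {ms : List Mp} {W : Wl}

theorem sel_t {α : Type} {x y : α} : sel true x y = x := rfl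
theorem sel_f {α : Type} {x y : α} : sel false x y = y := rfl
theorem sel_iff {b x y : Bool} : sel b x y = true ↔ (b = true ∧ x = true) ∨ (b = false ∧ y = true) := by
  cases b <;> simp [sel]
theorem fB_eq {b : Bool} {k : Bool → Bool} : fB b k = k b := by cases b <;> rfl
theorem bq_iff {a b : Bool} : bq a b = true ↔ a = b := by cases a <;> cases b <;> simp [bq]
theorem nt_iff {a : Bool} : (!a) = true ↔ ¬ a = true := by simp
theorem beq_f : Nat.beq x y = false ↔ x ≠ y := by rw [← Bool.not_eq_true, Nat.beq_eq]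
theorem ff_eq : ff mul x y = mul x y := by simp only [ff, force_eq]
theorem apK_eq {k : List ℕ → Bool} : apK xs ys k = k (xs ++ ys) := by
  induction xs generalizing k with
  | nil => rfl
  | cons z l ih => exact ih
theorem one_iff {α : Type} {A : List α} {k : α → List α → Bool} : one A k = true ↔ ∃ a B, A = a :: B ∧ k a B = true := by
  cases A with
  | nil => simp [one]
  | cons a B => exact ⟨fun h => ⟨a, B, rfl, h⟩, fun ⟨_, _, e, h⟩ => by cases e; exact h⟩
theorem two_iff {α : Type} {A : List α} {k : α → α → List α → Bool} :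
    two A k = true ↔ ∃ a b B, A = a :: b :: B ∧ k a b B = true := by
  rcases A with _ | ⟨a, _ | ⟨b, B⟩⟩
  · simp [two]
  · simp [two]
  · exact ⟨fun h => ⟨a, b, B, rfl, h⟩, fun ⟨_, _, _, e, h⟩ => by cases e; exact h⟩
theorem a2_iff {α β : Type} {f : α → β → Bool} {l : List α} {j : List β} :
    a2 f l j = true ↔ List.Forall₂ (fun a b => f a b = true) l j := by
  induction l generalizing j with
  | nil => cases j <;> simp [a2]
  | cons z l ih =>
    cases j with
    | nil => simp [a2]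
    | cons a vs => exact an_iff.trans (by rw [List.forall₂_cons, ← ih]; rfl)
theorem a3_s {f : ℕ → ℕ → ℕ → Bool} {R : ℕ → ℕ → Prop} (h : a3 f xs ys es = true) (k : List.Forall₂ R xs ys) :
    List.Forall₂ (fun a b => R a b ∧ ∃ e, f a b e = true) xs ys := by
  induction k generalizing es with
  | nil => exact .nil
  | cons q _ ih =>
    cases es with
    | nil => exact absurd h Bool.false_ne_true
    | cons e es => exact .cons ⟨q, e, (an_iff.1 h).1⟩ (ih (an_iff.1 h).2)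
theorem a3_m {f : ℕ → ℕ → ℕ → Bool} (h : a3 f xs ys es = true) (hx : x ∈ xs) : ∃ a b, f x a b = true := by
  induction xs generalizing ys es with
  | nil => cases hx
  | cons z l ih =>
    rcases ys with _ | ⟨a, ys⟩
    · exact absurd h Bool.false_ne_true
    rcases es with _ | ⟨b, es⟩
    · exact absurd h Bool.false_ne_true
    rcases List.mem_cons.1 hx with rfl | hx
    exacts [⟨a, b, (an_iff.1 h).1⟩, ih (an_iff.1 h).2 hx]
theorem allI_s {f : ℕ → ℕ → Bool} (h : allI f xs i = true) : ∀ j (k : j < xs.length), f (i + j) xs[j] = true := by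
  induction xs generalizing i with
  | nil => exact fun _ k => absurd k (Nat.not_lt_zero _)
  | cons z l ih =>
    have h' := an_iff.1 h
    rw [force_eq] at h'
    rintro (_ | j) k
    · exact h'.1
    · have := ih h'.2 j (Nat.lt_of_succ_lt_succ k)
      rwa [Nat.succ_add_eq_add_succ] at this
theorem allI_m {f : ℕ → ℕ → Bool} (h : allI f xs i = true) (hx : x ∈ xs) : ∃ j, f j x = true :=
  let ⟨j, k, e⟩ := List.getElem_of_mem hx; ⟨_, e ▸ allI_s h j k⟩
theorem ltA_iff : ltA N xs = true ↔ ∀ x ∈ xs, x < N := by simp only [ltA, allB_iff, Nat.blt_eq]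
theorem nK_s {α : Type} {k : α → Bool} {L : List α} (h : nK k L i = true) : ∃ g ∈ L, k g = true := by
  induction L generalizing i with
  | nil => exact absurd h Bool.false_ne_true
  | cons z L ih =>
    cases i with
    | zero => exact ⟨z, List.mem_cons_self, h⟩
    | succ i => obtain ⟨g, a, b⟩ := ih h; exact ⟨g, List.mem_cons_of_mem _ a, b⟩
theorem bt_lor {A B : ℕ} : bt (Nat.lor A B) x = true ↔ bt A x = true ∨ bt B x = true := by
  simp only [bt_iff, Nat.lor_eq, Nat.testBit_or, Bool.or_eq_true]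
theorem bt_one : bt (Nat.shiftLeft 1 y) x = true ↔ y = x := by
  rw [bt_iff, show Nat.shiftLeft 1 y = 2 ^ y from Nat.one_shiftLeft y, Nat.testBit_two_pow, decide_eq_true_iff]
theorem bt_zero : ¬ bt 0 x = true := by simp [bt_iff]
/-- a row looked up in a table, with a nonempty class -/
theorem row_mem {ct : Wl} (h : bt (n1 (nth [] ct j) 2) x = true) : nth [] ct j ∈ ct :=
  (nth_mem [] ct j).resolve_left fun e => by rw [e] at h; exact bt_zero h
theorem Im.one (h : Im el N g [x] ys) : ys = [h0 ys] ∧ h0 ys < N ∧ g * el x * g⁻¹ = el (h0 ys) := by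
  cases h with | cons a b => cases b; exact ⟨rfl, a.2⟩
theorem Im.lt1 (h : Im el N g xs ys) : ∀ x ∈ xs, x < N := by
  induction h with
  | nil => simp
  | cons a _ ih => exact List.forall_mem_cons.2 ⟨a.1, ih⟩
theorem Im.lt2 (h : Im el N g xs ys) : ∀ x ∈ ys, x < N := by
  induction h with
  | nil => simp
  | cons a _ ih => exact List.forall_mem_cons.2 ⟨a.2.1, ih⟩
theorem Im.sym (h : Im el N g xs ys) : Im el N g⁻¹ ys xs :=
  List.Forall₂.flip (h.imp fun _ _ k => ⟨k.2.1, k.1, by rw [← k.2.2]; group⟩)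
theorem Im.cmp (h : Im el N g xs ys) (k : Im el N g' ys vs) : Im el N (g' * g) xs vs := by
  induction h generalizing vs with
  | nil => cases k; exact .nil
  | cons a _ ih => cases k with | cons b k => exact .cons ⟨a.1, b.2.1, by rw [← b.2.2, ← a.2.2]; group⟩ (ih k)
theorem Im.rfl (h : ∀ x ∈ xs, x < N) : Im el N 1 xs xs := List.forall₂_same.2 fun x k => ⟨h x k, h x k, by simp⟩
theorem Im.nth (h : Im el N g xs ys) (k : i < xs.length) :
    n1 xs i < N ∧ n1 ys i < N ∧ g * el (n1 xs i) * g⁻¹ = el (n1 ys i) := by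
  induction h generalizing i with
  | nil => cases k
  | cons a _ ih =>
    cases i with
    | zero => exact a
    | succ i => exact ih (Nat.lt_of_succ_lt_succ k)
theorem Im.ex (h : Im el N g xs ys) (k : x ∈ xs) : ∃ y ∈ ys, y < N ∧ g * el x * g⁻¹ = el y := by
  induction h with
  | nil => cases k
  | cons a _ ih =>
    rcases List.mem_cons.1 k with rfl | k
    exacts [⟨_, List.mem_cons_self, a.2⟩, let ⟨y, b, c⟩ := ih k; ⟨y, List.mem_cons_of_mem _ b, c⟩]
theorem prK_cons : prK M (y :: ys) a e = if e = 0 then a else prK M ys (if e % 2 = 0 then a else mz M a y) (e / 2) := by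
  cases e with
  | zero => rfl
  | succ e =>
    rw [if_neg e.succ_ne_zero]
    change force (Bool.rec _ _ (Nat.beq ((e + 1) &&& 1) 0)) (fun a' => force ((e + 1) >>> 1) fun e' => prK M ys a' e') = _
    rw [force_eq, force_eq, Nat.and_one_is_mod, Nat.shiftRight_one]
    split_ifs with k
    · rw [k]; rfl
    · rw [beq_f.2 k]
theorem pr_eq : pr M xs e = prK M xs 0 e := force_eq _ _
theorem mz_s (h : Md el N M) (ha : a < N) (hy : y < N) : mz M a y < N ∧ el (mz M a y) = el a * el y := by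
  cases a with
  | zero => exact ⟨hy, by rw [h.e0, one_mul]; rfl⟩
  | succ a => exact h.ml ha hy
/-- a relation closed under products holds for corresponding products -/
theorem prK_rel {M' : Mu} {R : ℕ → ℕ → Prop} (m : ∀ a b c d, R a b → R c d → R (mz M a c) (mz M' b d))
    (h : List.Forall₂ R us vs) (k : R a b) : R (prK M us a e) (prK M' vs b e) := by
  induction h generalizing a b e with
  | nil => exact k
  | cons q _ ih =>
    rw [prK_cons, prK_cons]
    split_ifs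
    exacts [k, ih k, ih (m _ _ _ _ k q)]
theorem Im.pr (h : Md el N M) (a : Im el N g us vs) (e : ℕ) :
    pr M us e < N ∧ pr M vs e < N ∧ g * el (pr M us e) * g⁻¹ = el (pr M vs e) := by
  rw [pr_eq, pr_eq]
  exact prK_rel (R := fun u v => u < N ∧ v < N ∧ g * el u * g⁻¹ = el v) (fun a b c d x y => ⟨(mz_s h x.1 y.1).1,
    (mz_s h x.2.1 y.2.1).1, by rw [(mz_s h x.1 y.1).2, (mz_s h x.2.1 y.2.1).2, ← x.2.2, ← y.2.2, conj_mul]⟩) a
    ⟨h.pos, h.pos, by simp [h.e0]⟩
theorem pr_mem (h : Md el N M) (a : ∀ x ∈ xs, x < N ∧ el x ∈ H) (e : ℕ) : pr M xs e < N ∧ el (pr M xs e) ∈ H := by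
  rw [pr_eq]
  exact prK_rel (R := fun u _ => u < N ∧ el u ∈ H) (M' := M) (vs := xs) (b := 0) (fun a b c d x y => ⟨(mz_s h x.1 y.1).1,
    (mz_s h x.1 y.1).2 ▸ mul_mem x.2 y.2⟩) (List.forall₂_same.2 a) ⟨h.pos, h.e0 ▸ one_mem _⟩
theorem pr_lt (h : Md el N M) (a : ∀ x ∈ xs, x < N) (e : ℕ) : pr M xs e < N :=
  (pr_mem (H := ⊤) h (fun x k => ⟨a x k, trivial⟩) e).1
theorem cn_iff (h : Md el N M) (ha : a < N) (hb : b < N) (hc : c < N) (hd : d < N) :
    cn M a b c d = true ↔ el a * el b = el c * el d := h.eq ha hb hc hd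
theorem cm_iff (h : Md el N M) (ha : a < N) (hb : b < N) : cmm M a b = true ↔ el a * el b = el b * el a := h.eq ha hb hb ha
theorem mb_iff (h : Md el N M) (ha : a < N) (hb : b < N) (hc : c < N) : M a b = c ↔ el a * el b = el c :=
  ⟨fun e => e ▸ (h.ev ha hb).symm, fun e => h.inj (h.lt ha hb) hc ((h.ev ha hb).trans e)⟩
theorem m0_iff (h : Md el N M) (ha : a < N) (hb : b < N) : M a b = 0 ↔ el a * el b = 1 := h.e0 ▸ mb_iff h ha hb h.pos
theorem z_iff (h : Md el N M) (ha : a < N) : a = 0 ↔ el a = 1 := ⟨fun e => e ▸ h.e0, fun e => h.inj ha h.pos (e.trans h.e0.symm)⟩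
theorem sqn_s (h : Md el N M) (hx : x < N) (j : ℕ) : sqn M j x < N ∧ el (sqn M j x) = el x ^ 2 ^ j := by
  induction j with
  | zero => exact ⟨hx, by simp [sqn]⟩
  | succ j ih =>
    rw [show sqn M (j + 1) x = M (sqn M j x) (sqn M j x) from force_eq (sqn M j x) fun a => M a a]
    exact ⟨h.lt ih.1 ih.1, by rw [h.ev ih.1 ih.1, ih.2, pow_succ 2, pow_mul, sq]⟩
theorem sqn_z (h : Md el N M) (hx : x < N) : sqn M j x = 0 ↔ el x ^ 2 ^ j = 1 := by
  rw [z_iff h (sqn_s h hx j).1, (sqn_s h hx j).2]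
theorem sel_beq {α : Type} {u v : α} : sel (Nat.beq x y) u v = if x = y then u else v := by
  split_ifs with k
  · rw [Nat.beq_eq.mpr k]; rfl
  · rw [beq_f.2 k]; rfl
theorem olg_s (h : Md el N M) (hx : x < N) : olg M x = oG (el x) := by
  have a : M x x = 0 ↔ el x ^ 2 = 1 := by rw [m0_iff h hx hx, sq]
  have h2 := h.lt hx hx
  have b : M (M x x) (M x x) = 0 ↔ el x ^ 4 = 1 := by rw [m0_iff h h2 h2, h.ev hx hx, ← sq, ← sq, ← pow_mul]
  have h4 := h.lt h2 h2
  have c : M (M (M x x) (M x x)) (M (M x x) (M x x)) = 0 ↔ el x ^ 8 = 1 := by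
    rw [m0_iff h h4 h4, h.ev h2 h2, h.ev hx hx, ← sq, ← sq, ← sq, ← pow_mul, ← pow_mul]
  simp only [olg, force_eq, oG, sel_beq, ← z_iff h hx]
  simp only [← a, ← b, ← c]
theorem oG_cj : oG (g * g' * g⁻¹) = oG g' := by
  have : ∀ x : G, g * x * g⁻¹ = 1 ↔ x = 1 := fun x => by rw [mul_inv_eq_one, mul_eq_left]
  have e : ∀ n : ℕ, (g * g' * g⁻¹) ^ n = 1 ↔ g' ^ n = 1 := fun n => by rw [conj_pow, this]
  rw [oG, oG, this, e, e, e]
theorem Cj.symm {x y : G} (h : Cj H x y) : Cj H y x := let ⟨g, a, b⟩ := h; ⟨g⁻¹, inv_mem a, by rw [← b]; group⟩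
theorem Cj.trans {x y z : G} (h : Cj H x y) (k : Cj H y z) : Cj H x z :=
  let ⟨g, a, b⟩ := h; let ⟨g', c, d⟩ := k; ⟨g' * g, mul_mem c a, by rw [← d, ← b]; group⟩
theorem Cj.rfl {x : G} : Cj H x x := ⟨1, one_mem _, by simp⟩
theorem Cj.isConj {x y : G} (h : Cj H x y) : IsConj x y := let ⟨g, _, b⟩ := h; isConj_iff.2 ⟨g, b⟩
theorem cj_top {x y : G} : Cj (HL F 0) x y ↔ IsConj x y :=
  ⟨Cj.isConj, fun h => let ⟨g, b⟩ := isConj_iff.1 h; ⟨g, by simp [HL], b⟩⟩
theorem hl0 : g ∈ HL F 0 := by simp [HL]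
theorem hl_of (h : g ∈ F) : g ∈ HL F l := by unfold HL; split_ifs; exacts [trivial, h]
theorem hl_ne (h : l ≠ 0) : HL F l = F := if_neg h

/-! walks -/
def Pr (F : Subgroup G) (g : G) (e : ℕ) : Prop := (e = 0 → g ∈ F) ∧ (e = 1 → g ∉ F)
theorem wm_s (h : Md el N M) (a : Im el N g us vs) {k : List ℕ → Bool} (c : wm M us vs xs es k = true) :
    ∃ ys, Im el N g xs ys ∧ k ys = true := by
  induction xs generalizing es k with
  | nil => exact ⟨[], .nil, c⟩
  | cons x xs ih =>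
    obtain ⟨e, es, rfl, d⟩ := one_iff.1 c
    rw [an_iff, force_eq, Nat.beq_eq] at d
    obtain ⟨ys, b, c'⟩ := ih d.2
    exact ⟨_, .cons (d.1 ▸ Im.pr h a e) b, c'⟩
theorem wk_s (T : Tm F p el N M) (hm : ∀ m ∈ ms, Mo F el N m) (hx : ∀ x ∈ xs, x < N) {k : List ℕ → Bool}
    (c0 : wk N M ms W xs k = true) : ∃ g ys, Im el N g xs ys ∧ Pr F g (pw2 p ms W) ∧ k ys = true := by
  induction W generalizing xs with
  | nil => exact ⟨1, xs, Im.rfl hx, ⟨fun _ => one_mem _, fun e => absurd (show 0 = 1 from e) (by decide)⟩, c0⟩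
  | cons r W ih =>
    rcases r with _ | ⟨c, es⟩
    · exact absurd c0 Bool.false_ne_true
    cases c with
    | zero =>
      have k : (force (h0 es) fun r => force (n1 es 1) fun s => Nat.blt r N &&' Nat.blt s N &&'
        Nat.beq (M r s) (nat_lit 0) &&' fm (cjf M r s) xs fun l => wk N M ms W l k) = true := c0
      simp only [force_eq, an_iff, Nat.blt_eq, fm_eq] at k
      obtain ⟨k1, k2, k3, k4⟩ := k
      have a := T.md.cj k1 k2 (eq_inv_of_mul_eq_one_right ((T.md.one k1 k2).1 k3))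
      obtain ⟨g, ys, b1, b2, b3⟩ := ih (xs := xs.map (cjf M (h0 es) (n1 es 1)))
        (List.forall_mem_map.2 fun x e => (a x (hx x e)).1) k4
      refine ⟨g * el (h0 es), ys, Im.cmp (List.forall₂_map_right_iff.2 (List.forall₂_same.2 fun x e =>
        ⟨hx x e, a x (hx x e)⟩)) b1, ?_, b3⟩
      change Pr F _ (cb2 (fb p (h0 es)) (pw2 p ms W))
      have f := T.fi _ k1
      cases e : fb p (h0 es) <;> rw [e] at f
      · exact ⟨fun z => mul_mem (b2.1 z) (f.2 rfl), fun z q => b2.2 z ((mul_mem_cancel_right (f.2 rfl)).1 q)⟩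
      · have f' : el (h0 es) ∉ F := fun q => absurd (f.1 q) (by decide)
        rcases j : pw2 p ms W with _ | _ | j <;> rw [j] at b2
        · exact ⟨fun z => absurd z (by decide), fun _ q => f' ((mul_mem_cancel_left (b2.1 rfl)).1 q)⟩
        · exact ⟨fun _ => T.cx.ix _ _ (b2.2 rfl) f', fun z => absurd z (by decide)⟩
        · exact ⟨fun z => absurd (show 2 = 0 from z) (by decide), fun z => absurd (show 2 = 1 from z) (by decide)⟩
    | succ c =>
      have o : Mo F el N (nth dM ms (Nat.shiftRight c (nat_lit 1))) := (nth_mem dM ms _).elim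
        (fun e => by rw [e]; exact ⟨1, nofun, .nil, fun q => absurd q (by decide)⟩) (hm _)
      have k : (fun m : Mp => (Bool.rec (wm M m.vs m.ys xs es fun l => wk N M ms W l k) (wm M m.ys m.vs xs es fun l => wk N M ms W l k)
        (Nat.beq (Nat.land c (nat_lit 1)) (nat_lit 0)) : Bool)) (nth dM ms (Nat.shiftRight c (nat_lit 1))) = true := c0
      have pe : pw2 p ms (((c + 1) :: es) :: W) =
        Bool.rec 2 (pw2 p ms W) (nth dM ms (Nat.shiftRight c (nat_lit 1))).fl := rfl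
      rw [pe]
      generalize nth dM ms (Nat.shiftRight c (nat_lit 1)) = m at o k
      obtain ⟨g, o1, o2, -⟩ := o
      obtain ⟨g', ys, b0, b1, b2⟩ : ∃ g' ys, (m.fl = true → g' ∈ F) ∧ Im el N g' xs ys ∧ wk N M ms W ys _ = true := by
        beta_reduce at k
        cases e : Nat.beq (Nat.land c (nat_lit 1)) (nat_lit 0) <;> rw [e] at k
        · obtain ⟨ys, a, b⟩ := wm_s T.md (Im.sym o2) k
          exact ⟨g⁻¹, ys, fun q => inv_mem (o1 q), a, b⟩
        · obtain ⟨ys, a, b⟩ := wm_s T.md o2 k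
          exact ⟨g, ys, o1, a, b⟩
      obtain ⟨g2, zs, d1, d2, d3⟩ := ih (Im.lt2 b1) b2
      refine ⟨g2 * g', zs, Im.cmp b1 d1, ?_, d3⟩
      cases e : m.fl
      · exact ⟨fun z => absurd (show 2 = 0 from z) (by decide), fun z => absurd (show 2 = 1 from z) (by decide)⟩
      · exact ⟨fun z => mul_mem (d2.1 z) (b0 e), fun z q => d2.2 z ((mul_mem_cancel_right (b0 e)).1 q)⟩
theorem Ok.wk (o : Ok F p el mul s) (hx : ∀ x ∈ xs, x < s.N) {k : List ℕ → Bool}
    (c : wk s.N (ff mul) s.ms W xs k = true) : ∃ g ys, Im el s.N g xs ys ∧ Pr F g (pw2 p s.ms W) ∧ k ys = true :=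
  wk_s o.tm o.ms hx c
theorem Pr.ev (h : Pr F g (pw2 p ms W)) (c : ev p ms l W = true) : g ∈ HL F l :=
  (oo_iff.1 c).elim (fun e => Nat.beq_eq.mp e ▸ hl0) fun e => hl_of (h.1 (Nat.beq_eq.mp e))
/-- walk of a single element -/
theorem Ok.wk1 (o : Ok F p el mul s) (hx : x < s.N) {k : List ℕ → Bool} (c : SV.wk s.N (ff mul) s.ms W [x] k = true) :
    ∃ g y, y < s.N ∧ g * el x * g⁻¹ = el y ∧ Pr F g (pw2 p s.ms W) ∧ k [y] = true :=
  let ⟨g, _, a, b, c⟩ := o.wk (List.forall_mem_singleton.2 hx) c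
  ⟨g, _, (Im.one a).2.1, (Im.one a).2.2, b, (Im.one a).1 ▸ c⟩

/-! setters -/
namespace Ok
variable (o : Ok F p el mul s)
include o
theorem sMp {m : Mp} (h : Mo F el s.N m) : Ok F p el mul (s.sMp m) :=
  { o with ms := List.forall_mem_cons.2 ⟨h, o.ms⟩ }
theorem sLb {nb yb : ℕ} (h : ∀ y, bt nb y = true → y < s.N ∧ ¬ IsConj (el 2) (el y))
    (k : ∀ y, bt yb y = true → y < s.N ∧ IsConj (el 2) (el y)) : Ok F p el mul (s.sLb nb yb) := { o with nb := h, yb := k }
theorem sSy (h : ¬ 2 * s.N ∣ Nat.card G) : Ok F p el mul s.sSy := { o with sy := fun _ => h }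
theorem sNf (h : n1 r 1 < s.N ∧ n1 r 2 < s.N ∧ ¬ Cj (HL F (h0 r)) (el (n1 r 1)) (el (n1 r 2))) :
    Ok F p el mul (s.sNf r) := { o with nf := List.forall_mem_cons.2 ⟨h, o.nf⟩ }
theorem sC0 (h : Tb (HL F 0) el s.N a W) : Ok F p el mul (s.sC0 a W) := { o with c0 := h }
theorem sC1 (h : Tb (HL F 1) el s.N a W) : Ok F p el mul (s.sC1 a W) := { o with c1 := h }
theorem sCu {c : Cur} (h : Cu F el s.N c) : Ok F p el mul (s.sCu c) := { o with cu := h }
theorem sCa {ci : Bool} (h : (∀ z ∈ xs, z < s.N) → ∀ q < s.N, (ci = true → el q * el q = 1) →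
    (∀ z ∈ xs, el q * el z = el z * el q) → q ∈ ys) : Ok F p el mul (s.sCa xs ci ys) := { o with ca := h }
theorem sEx (h : Xs F el s.N r) : Ok F p el mul (s.sEx r) := { o with ex := h }
theorem fin : Ok F p el mul s.fin :=
  let ⟨_, g, a, b, _⟩ := o.cu; o.sMp (m := ⟨s.cu.xs, s.cu.vs, 4096, s.cu.fl⟩) ⟨g, a, b, fun q => (show 4096 < 4096 from q).false.elim⟩
theorem tb (h : l < 2) : Tb (HL F l) el s.N (s.co l) (s.ct l) := by
  rcases l with _ | _ | l
  exacts [o.c0, o.c1, absurd h (by omega)]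
end Ok
theorem Ok.mk' {t : Tw} {nb yb : ℕ} (T : Tm F p el N (ff mul)) (a : mul = mu0 p t) (b : N = SV.sz p t)
    (c : ∀ m ∈ ms, Mo F el N m) (h : ∀ y, bt nb y = true → y < N ∧ ¬ IsConj (el 2) (el y))
    (k : ∀ y, bt yb y = true → y < N ∧ IsConj (el 2) (el y)) : Ok F p el mul (mkS t N ms nb yb) :=
  have e : ∀ H : Subgroup G, Tb H el N 0 [] := fun _ => ⟨fun _ q => (List.not_mem_nil q).elim, .nil, fun q => q.false.elim⟩
  ⟨T, a, b, c, h, k, nofun, fun _ q => (List.not_mem_nil q).elim, e _, e _,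
    ⟨dvd_rfl, 1, nofun, .nil, fun _ q => (List.not_mem_nil q).elim, nofun⟩,
    fun q => (q N List.mem_cons_self).false.elim, fun q => (show 2 < 2 from q).false.elim⟩

/-! the checker -/
theorem dec_s {k : List Wl → Bool} {A : List Wl} (h : dec k n a r W A = true) : ∃ A, k A = true := by
  induction n generalizing a r W A with
  | zero => exact absurd h Bool.false_ne_true
  | succ n ih =>
    replace h : (force (Nat.land a (nat_lit 8191)) fun d => force (Nat.shiftRight a (nat_lit 13)) fun a =>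
      (Nat.rec (k A) (fun d _ => Nat.rec (dec k n a [] (r :: W) A) (fun d _ => Nat.rec (dec k n a [] [] (W :: A))
        (fun d _ => dec k n a (d :: r) W A) d) d) d : Bool)) = true := h
    rw [force_eq, force_eq] at h
    generalize Nat.land a (nat_lit 8191) = d at h
    rcases d with _ | _ | _ | d
    exacts [⟨_, h⟩, ih h, ih h, ih h]
theorem nrm_eq {k : St → Bool} : s.nrm k = k s := rfl
theorem chk_s [Finite G] {Rs : List Rl} (R : ∀ r ∈ Rs, Snd.{u} r) {gl : List Gl} (hg : ∀ g ∈ gl, Gk F p g) (c : Ct) :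
    Kk F p (chk Rs p gl c) := by
  induction c with
  | e => exact fun _ _ _ _ h => absurd h Bool.false_ne_true
  | n a c d h1 h2 =>
    intro i mul s el h o
    cases a with
    | zero =>
      cases i with
      | zero => exact h1 _ _ _ _ h o
      | succ i => exact h2 _ _ _ _ h o
    | succ a =>
      have o' : Ok F p el mul (Bool.rec s.fin s (Nat.beq (Nat.land (a + 1) (nat_lit 1)) (nat_lit 0))) := by
        cases Nat.beq (Nat.land (a + 1) (nat_lit 1)) (nat_lit 0)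
        exacts [o.fin, o]
      replace h : St.nrm (Bool.rec s.fin s (Nat.beq (Nat.land (a + 1) (nat_lit 1)) (nat_lit 0))) (fun s => dec (fun A =>
        nth rNO Rs (Nat.pred (Nat.shiftRight (Nat.land (a + 1) (nat_lit 63)) (nat_lit 1))) p gl mul s A
        (chk Rs p gl c) (chk Rs p gl d)) (nat_lit 100000) (Nat.shiftRight (a + 1) (nat_lit 6)) [] [] []) = true := h
      generalize (Bool.rec s.fin s (Nat.beq (Nat.land (a + 1) (nat_lit 1)) (nat_lit 0)) : St) = s' at o' h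
      rw [nrm_eq] at h
      obtain ⟨A, h⟩ := dec_s h
      rcases nth_mem rNO Rs (Nat.pred (Nat.shiftRight (Nat.land (a + 1) (nat_lit 63)) (nat_lit 1))) with e | e
      · rw [e] at h; exact absurd h Bool.false_ne_true
      · exact R _ e G F p gl mul s' A _ _ el hg h1 h2 o' h
theorem cp_eq {t : Tw} {k : Mu → Bool} : cp p t k = k (mu0 p t) := by
  induction t generalizing k with
  | b =>
    obtain ⟨a, h, b⟩ := p
    cases b <;> rfl
  | x N P m t ih => exact ih
inductive Al (p : Par) : List Gl → Prop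
  | nil : Al p []
  | cons {g : Gl} {L : List Gl} : Dd.{u} p g → Al p L → Al p (g :: L)
theorem dd0 {Rs : List Rl} (R : ∀ r ∈ Rs, Snd.{u} r) {gl : List Gl} {g : Gl} {c : Ct} (h : Al.{u} p gl) (e : top Rs p gl g c = true) :
    Dd.{u} p g := fun G _ _ F el o => by
  rw [top, cp_eq, force_eq] at e
  refine chk_s R (fun g hg => ?_) c _ _ _ _ e o
  clear e
  induction h with
  | nil => cases hg
  | cons a _ ih => exact (List.mem_cons.1 hg).elim (· ▸ a G F) (ih · )

variable {q : Par} {gl g2 : List Gl}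
theorem parE_s (h : parE p q = true) : p = q := by
  obtain ⟨a, b, c⟩ := p
  obtain ⟨a', b', c'⟩ := q
  simp only [parE, an_iff, bq_iff] at h
  obtain ⟨rfl, rfl, rfl⟩ := h
  rfl
/-- a goal under the assumption that the group is a Sylow subgroup -/
def Ds (p : Par) (g : Gl) : Prop := ∀ (G : Type u) [Group G] [Finite G] (F : Subgroup G) (el : ℕ → G),
  ¬ 2 * sz p g.t ∣ Nat.card G → Ok F p el (mu0 p g.t) (mkS g.t (sz p g.t) g.ms g.nb g.yb) → Con F p
inductive As (p : Par) : List Gl → Prop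
  | nil : As p []
  | cons {g : Gl} {L : List Gl} : Ds.{u} p g → As p L → As p (g :: L)
/-- what a reference to a goal checks -/
def Rf : Prop := ∀ (G : Type u) [Group G] [Finite G] (F : Subgroup G) (p : Par) (gl : List Gl) (mul : Mu) (s : St)
  (A : List Wl) (k1 k2 : Kt) (el : ℕ → G), Ok F p el mul s → rRF p gl mul s A k1 k2 = true →
    ∃ g ∈ gl, ∃ el' : ℕ → G, sz p g.t = s.N ∧ Ok F p el' (mu0 p g.t) (mkS g.t (sz p g.t) g.ms g.nb g.yb)
theorem Rf.rf (R : Rf.{u}) : Snd.{u} rRF := fun G _ _ F p gl mul s A k1 k2 el hg _ _ o c =>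
  let ⟨g, a, el', _, b⟩ := R G F p gl mul s A k1 k2 el o c; hg g a el' b
theorem Al.mem (h : Al.{u} p gl) : ∀ g ∈ gl, Dd.{u} p g := by
  induction h with
  | nil => nofun
  | cons a _ ih => exact List.forall_mem_cons.2 ⟨a, ih⟩
theorem As.mem (h : As.{u} p gl) : ∀ g ∈ gl, Ds.{u} p g := by
  induction h with
  | nil => nofun
  | cons a _ ih => exact List.forall_mem_cons.2 ⟨a, ih⟩
theorem Rf.rs (R : Rf.{u}) (h : As.{u} q g2) : Snd.{u} (rRS q g2) := fun G _ _ F p gl mul s A k1 k2 el _ _ _ o c => by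
  obtain ⟨c1, c2, c3⟩ : s.sy = true ∧ parE p q = true ∧ _ := (an_iff.1 c).imp_right an_iff.1
  obtain rfl := parE_s c2
  obtain ⟨g, a, el', e, b⟩ := R G F p g2 mul s A k1 k2 el o c3
  exact h.mem g a G F el' (e ▸ o.sy c1) b
theorem rul_s (S : ∀ r ∈ rules, Snd.{u} r) {x : Rl} (h : Snd.{u} x) : ∀ r ∈ rul x, Snd.{u} r := fun r k =>
  (List.mem_append.1 (show r ∈ rules ++ [x] from k)).elim (S r) fun e => List.mem_singleton.1 e ▸ h
theorem dn0 {g : Gl} {c : Ct} (S : ∀ r ∈ rules, Snd.{u} r) (R : Rf.{u}) (h : Al.{u} p gl) (k : As.{u} p g2) (e : tp false p gl g2 g c = true) :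
    Dd.{u} p g := dd0 (rul_s S (R.rs k)) h e
theorem ds0 {g : Gl} {c : Ct} (S : ∀ r ∈ rules, Snd.{u} r) (R : Rf.{u}) (h : Al.{u} p gl) (k : As.{u} p g2) (e : tp true p gl g2 g c = true) :
    Ds.{u} p g := fun G _ _ F el y o => by
  rw [tp, cp_eq, force_eq] at e
  exact chk_s (rul_s S (R.rs k)) (fun g hg => h.mem g hg G F) c _ _ _ _ e (o.sSy y)

end H2.SV
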