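import Cfsg.Agent.H2.SV2

/-! The certificate checker: shared lemmas on towers, class tables and extremal elements (adapted from `H6/DH3`). -/

set_option autoImplicit false
set_option linter.unusedSectionVars false

namespace H2.SV
open Cfsg Subgroup H16 H1.Am H24.SS H19

universe u
variable {G : Type u} [Group G] [Finite G] {F H X : Subgroup G} {p : Par} {el : ℕ → G} {N n x y a b c d e i j l co : ℕ}
  {M mul : Mu} {g g' w : G} {us vs xs ys es r : List ℕ} {s : St} {W ct : Wl}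

theorem s1_or (p : Par) : (p.h = false ∧ s1 p = 16) ∨ (p.h = true ∧ s1 p = 32) := by
  obtain ⟨a, h, b⟩ := p
  cases h
  exacts [.inl ⟨rfl, rfl⟩, .inr ⟨rfl, rfl⟩]
theorem s32 (p : Par) : 16 ≤ s1 p := by rcases s1_or p with h | h <;> omega
theorem s64 (p : Par) : s1 p ≤ 32 := by rcases s1_or p with h | h <;> omega
theorem bm_t (h : x < s1 p) : bmu p x 2 = bmu p 2 x := by
  have : ∀ h b : Bool, aR (s1 ⟨false, h, b⟩) (fun x => cmm (bmu ⟨false, h, b⟩) x 2) = true := by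
    decide +kernel
  exact Nat.beq_eq.mp (aR_iff.1 (this p.h p.b) x h)
theorem bm_tt : bmu p 2 2 = 0 := by
  obtain ⟨a, h, b⟩ := p
  cases h <;> cases b <;> rfl
def fsub (S : Submonoid G) : Subgroup G :=
  { S with
    inv_mem' := fun {x} h => by
      rw [inv_eq_of_mul_eq_one_left (show x ^ (orderOf x - 1) * x = 1 by
        rw [← pow_succ, Nat.sub_add_cancel (orderOf_pos _), pow_orderOf_eq_one])]
      exact S.pow_mem h _ }
instance hl_nm [F.Normal] : (HL F l).Normal := by unfold HL; split_ifs <;> infer_instance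
theorem fb_ne (h : fb p x = true) : p.a = true ∧ bt x 1 = true := by
  obtain ⟨a, h', b⟩ := p
  cases a
  exacts [absurd h Bool.false_ne_true, ⟨rfl, h⟩]
theorem fb_two : fb p 2 = p.a := by
  obtain ⟨a, h', b⟩ := p
  cases a <;> rfl
theorem two_fact : Fact (Nat.Prime 2) := ⟨Nat.prime_two⟩
attribute [local instance] two_fact

namespace Tm
variable (T : Tm F p el N M)
include T
theorem dle (h : n ∣ N) : n ≤ N := Nat.le_of_dvd T.md.pos h
theorem sd : s1 p ∣ N := by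
  obtain ⟨k, rfl⟩ := T.pw
  have := T.le
  rcases s1_or p with h | h <;> rw [h.2] at this ⊢
  exacts [pow_dvd_pow 2 ((Nat.pow_le_pow_iff_right (a := 2) (n := 4) one_lt_two).1 this),
    pow_dvd_pow 2 ((Nat.pow_le_pow_iff_right (a := 2) (n := 5) one_lt_two).1 this)]
theorem d32 : 16 ∣ N := (show 16 ∣ s1 p by rcases s1_or p with h | h <;> rw [h.2]; decide).trans T.sd
theorem lt (h : x < s1 p) : x < N := h.trans_le T.le
theorem l32 (h : x < 16 := by decide) : x < N := h.trans_le T.md.le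
/-- the elements below `n` -/
def Kn (h : n ∣ N) : Subgroup G := fsub
  { carrier := {g | ∃ x < n, el x = g}
    mul_mem' := by
      rintro _ _ ⟨x, a, rfl⟩ ⟨y, b, rfl⟩
      exact ⟨_, T.cl n h x a y b, T.md.ev (a.trans_le (T.dle h)) (b.trans_le (T.dle h))⟩
    one_mem' := ⟨0, Nat.pos_of_dvd_of_pos h T.md.pos, T.md.e0⟩ }
theorem mem_Kn {h : n ∣ N} : g ∈ T.Kn h ↔ ∃ x < n, el x = g := Iff.rfl
theorem el_Kn {h : n ∣ N} (k : x < N) : el x ∈ T.Kn h ↔ x < n :=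
  ⟨fun ⟨_, a, b⟩ => T.md.inj (a.trans_le (T.dle h)) k b ▸ a, fun a => ⟨x, a, rfl⟩⟩
theorem Kn_le {h : n ∣ N} : T.Kn h ≤ T.md.K := fun _ ⟨x, a, b⟩ => ⟨x, a.trans_le (T.dle h), b⟩
theorem Kn_mono {m : ℕ} {h : n ∣ N} {h' : m ∣ N} (k : n ≤ m) : T.Kn h ≤ T.Kn h' := fun _ ⟨x, a, b⟩ => ⟨x, a.trans_le k, b⟩
theorem Kn_top : T.Kn dvd_rfl = T.md.K := rfl
theorem card_Kn (h : n ∣ N) : Nat.card (T.Kn h) = n := by
  have : ((T.Kn h : Subgroup G) : Set G) = el '' (Finset.range n : Finset ℕ) := Set.ext fun g =>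
    ⟨fun ⟨x, a, b⟩ => ⟨x, by simpa using a, b⟩, fun ⟨x, a, b⟩ => ⟨x, by simpa using a, b⟩⟩
  change Set.ncard ((T.Kn h : Subgroup G) : Set G) = n
  rw [this, Set.InjOn.ncard_image fun x a y b => T.md.inj ((by simpa using a : x < n).trans_le (T.dle h))
    ((by simpa using b : y < n).trans_le (T.dle h)), Set.ncard_coe_finset, Finset.card_range]
theorem card : Nat.card T.md.K = N := T.card_Kn dvd_rfl
theorem pg : IsPGroup 2 T.md.K := let ⟨k, e⟩ := T.pw; .of_card (n := k) (T.card.trans e)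
theorem pgl (h : X ≤ T.md.K) : IsPGroup 2 X := T.pg.to_le h
theorem el_pow (h : x < N) : ∃ k, el x ^ 2 ^ k = 1 :=
  let ⟨k, e⟩ := T.pg ⟨_, T.md.mem h⟩; ⟨k, congrArg Subtype.val e⟩
theorem inv (h : x < N) : ∃ y < N, el y = (el x)⁻¹ := inv_mem (T.md.mem h)
/-- the Sylow subgroup of the centraliser of `t` -/
abbrev S1 : Subgroup G := T.Kn T.sd
theorem bv (a : x < s1 p) (b : y < s1 p) : el (bmu p x y) = el x * el y := T.bm x a y b ▸ T.md.ev (T.lt a) (T.lt b)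
theorem tc (h : x < s1 p) : el x * el 2 = el 2 * el x := by
  have := (show 2 < 16 by decide).trans_le (s32 p)
  rw [← T.bv h this, ← T.bv this h, bm_t h]
theorem tt : el 2 * el 2 = 1 := by
  have := (show 2 < 16 by decide).trans_le (s32 p)
  rw [← T.bv this this, bm_tt, T.md.e0]
theorem t1 : el 2 ≠ 1 := fun e => absurd ((z_iff T.md T.l32).2 e) (by decide)
theorem oG_t : oG (el 2) = 1 := by rw [oG, if_neg T.t1, if_pos (by rw [sq, T.tt])]
theorem S1_le : T.S1 ≤ C[el 2] := by rintro _ ⟨x, a, rfl⟩; exact mem_cent1.2 (T.tc a)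
theorem syl : H25.Syl 2 T.S1 C[el 2] := ⟨T.S1_le, fun k => T.lk.syl (by
  rw [← card_mul_relIndex T.S1_le, T.card_Kn, mul_comm 2]; exact Nat.mul_dvd_mul_left _ k)⟩
theorem into (h : IsPGroup 2 X) (k : X ≤ C[el 2]) : ∃ c ∈ C[el 2], H19.cj c X ≤ T.S1 := T.syl.exists_cj_le h k
theorem KC : T.md.K ⊓ C[el 2] = T.S1 := T.syl.eq_of_le (T.pgl inf_le_left) (le_inf T.Kn_le T.S1_le) inf_le_right
theorem sc (h : x < N) (k : el x * el 2 = el 2 * el x) : x < s1 p :=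
  (T.el_Kn h).1 (T.KC.le ⟨T.md.mem h, mem_cent1.2 k⟩)
theorem sylc (e : g * el 2 * g⁻¹ = w) : H25.Syl 2 (H19.cj g T.S1) C[w] := by rw [← e, ← cj_cent1]; exact T.syl.cj g
theorem le_s1 (h : IsPGroup 2 X) (k : X ≤ C[w]) (c : IsConj (el 2) w) : Nat.card X ≤ s1 p := by
  obtain ⟨g, e⟩ := isConj_iff.1 c
  exact ((T.sylc e).card_le h k).trans_eq ((card_cj g _).trans (T.card_Kn _))
/-- a 2-subgroup of order `s1` of the centraliser of a conjugate of `t` is Sylow -/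
theorem syl_of (k : X ≤ C[w]) (c : IsConj (el 2) w) (e : Nat.card X = s1 p) : H25.Syl 2 X C[w] := ⟨k, fun d => by
  obtain ⟨g, rfl⟩ := isConj_iff.1 c
  refine T.lk.syl ?_
  rw [← card_cj g, cj_cent1, ← card_mul_relIndex k, e, mul_comm 2]
  exact Nat.mul_dvd_mul_left _ d⟩
theorem inL (h : x < N) : inL p l x = true ↔ el x ∈ HL F l := by
  rw [SV.inL, oo_iff, Nat.beq_eq, Bool.not_eq_true', ← T.fi x h]
  by_cases k : l = 0
  · exact iff_of_true (.inl k) (k ▸ hl0)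
  · rw [hl_ne k, or_iff_right k]
theorem tF (h : p.a = true) : el 2 ∉ F := fun k => by
  rw [T.fi 2 T.l32, fb_two, h] at k; cases k
theorem mul_t (h : g ∉ F) : g * el 2 ∈ F := by
  cases e : p.a
  exacts [absurd (T.cx.tp e ▸ mem_top g) h, T.cx.ix _ _ h (T.tF e)]
theorem fix (g : G) : ∃ g' ∈ F, g' = g ∨ g' = g * el 2 := by
  by_cases h : g ∈ F
  exacts [⟨g, h, .inl rfl⟩, ⟨_, T.mul_t h, .inr rfl⟩]
/-- an element of `F` acting like `g` on the centraliser of `t` -/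
theorem fix' (g : G) : ∃ g' ∈ F, ∀ x, x * el 2 = el 2 * x → g' * x * g'⁻¹ = g * x * g⁻¹ := by
  obtain ⟨g', a, rfl | rfl⟩ := T.fix g
  exacts [⟨_, a, fun _ _ => rfl⟩, ⟨_, a, fun x e => by rw [mul_assoc g, ← e]; group⟩]
theorem sqF (g : G) : g * g ∈ F := by
  by_cases h : g ∈ F
  exacts [mul_mem h h, T.cx.ix _ _ h h]
theorem oddF (h : Odd (orderOf g)) : g ∈ F := by
  obtain ⟨k, e⟩ := h
  have : g = (g * g) ^ (k + 1) := by
    rw [← sq, ← pow_mul, mul_add, mul_one, ← add_assoc (2 * k) 1 1, ← e, pow_succ, pow_orderOf_eq_one, one_mul]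
  exact this ▸ pow_mem (T.sqF g) _
theorem cjF (e : g * g' * g⁻¹ = w) : g' ∈ F ↔ w ∈ F :=
  ⟨fun h => e ▸ T.cx.nm.conj_mem _ h g, fun h => by simpa [← e, mul_assoc] using T.cx.nm.conj_mem _ h g⁻¹⟩
theorem cjH (e : g * g' * g⁻¹ = w) : g' ∈ HL F l ↔ w ∈ HL F l := by
  unfold HL; split_ifs
  exacts [Iff.rfl, T.cjF e]
theorem fb_cj (a : x < N) (b : y < N) (e : IsConj (el x) (el y)) : fb p x = fb p y := by
  obtain ⟨g, e⟩ := isConj_iff.1 e
  have := T.cjF e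
  rw [T.fi x a, T.fi y b] at this
  revert this
  cases fb p x <;> cases fb p y <;> simp
theorem no (nb : ℕ) (h : ∀ y, bt nb y = true → y < N ∧ ¬ IsConj (el 2) (el y)) (a : y < N) (c : isNo p nb y = true) :
    ¬ IsConj (el 2) (el y) := fun k => by
  rcases oo_iff.1 c with c | c
  · have := T.fb_cj T.l32 a k
    rw [fb_two, (an_iff.1 c).1] at this
    exact nt_iff.1 (an_iff.1 c).2 (fb_ne this.symm).2
  · exact (h y c).2 k
/-- a homomorphism to a group of order two kills `F` -/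
theorem nohom (ψ : HL F l →* ℤˣ) (h : g ∈ F) : ψ ⟨g, hl_of h⟩ = 1 := by
  have := T.cx.si
  let φ : F →* ℤˣ := ψ.comp (inclusion fun _ => hl_of)
  rcases φ.normal_ker.eq_bot_or_eq_top with e | e
  · have i := φ.ker_eq_bot_iff.1 e
    have m : ∀ {x}, x < 16 → bt x 1 = false → el x ∈ F := fun a b => (T.fi _ (T.l32 a)).2
      (Bool.eq_false_iff.2 fun k => by rw [(fb_ne k).2] at b; cases b)
    have q : ∀ {x y} {a : el x ∈ F} {b : el y ∈ F}, φ ⟨_, a⟩ = φ ⟨_, b⟩ → x < 16 → y < 16 → x = y :=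
      fun k a b => T.md.inj (T.l32 a) (T.l32 b) (congrArg Subtype.val (i k))
    rcases Int.units_eq_one_or (φ ⟨_, m (x := 0) (by decide) rfl⟩) with a | a <;>
      rcases Int.units_eq_one_or (φ ⟨_, m (x := 1) (by decide) rfl⟩) with b | b <;>
      rcases Int.units_eq_one_or (φ ⟨_, m (x := 4) (by decide) rfl⟩) with c | c
    all_goals first
      | (rw [← b] at a; cases q a (by decide) (by decide))
      | (rw [← c] at a; cases q a (by decide) (by decide))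
      | (rw [← c] at b; cases q b (by decide) (by decide))
  · exact (e ▸ mem_top _ : (⟨g, h⟩ : F) ∈ φ.ker)
theorem cz_eq : cz H el N w = Nat.card ↥(T.md.K ⊓ H ⊓ C[w]) := by
  rw [cz]; exact congrArg Set.ncard (Set.ext fun g => ⟨fun k => ⟨⟨k.1, k.2.1⟩, mem_cent1.2 k.2.2⟩,
    fun k => ⟨k.1.1, k.1.2, mem_cent1.1 k.2⟩⟩)
theorem cz_top (a : x < N) : cz (HL F 0) el N (el x) = cnt N (cmm M x) := by
  rw [T.cz_eq, T.md.cc a, show HL F 0 = ⊤ from if_pos rfl, inf_top_eq]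
theorem cz_cj (h : g ∈ T.md.K) (k : g ∈ H) : cz H el N (g * w * g⁻¹) = cz H el N w := by
  rw [T.cz_eq, T.cz_eq, ← card_cj g (_ ⊓ C[w]), cj_inf, cj_cent1, H19.cj_of_mem (H := T.md.K ⊓ H) ⟨h, k⟩]
theorem cz_le (c : IsConj (el 2) w) : cz H el N w ≤ s1 p :=
  T.cz_eq ▸ T.le_s1 (T.pgl (inf_le_left.trans inf_le_left)) inf_le_right c
theorem cz_t : cz (HL F 0) el N (el 2) = s1 p := by
  rw [T.cz_eq, show HL F 0 = ⊤ from if_pos rfl, inf_top_eq, T.KC, T.card_Kn]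
theorem sylH (h : ¬ 2 * N ∣ Nat.card G) : H25.Syl 2 (T.md.K ⊓ HL F l) (HL F l) := by
  have := T.cx.nm
  have a : H25.Syl 2 T.md.K ⊤ := ⟨le_top, fun k => h (by
    rw [← Subgroup.card_top, ← card_mul_relIndex (le_top : T.md.K ≤ ⊤), T.card, mul_comm 2]; exact Nat.mul_dvd_mul_left _ k)⟩
  simpa using a.inf_normal (K := HL F l) fun g _ => H25.mem_nz.2 (cj_of_mem_norm (by rw [normalizer_eq_top]; trivial))
/-- an element whose centraliser in `K ⊓ H` is Sylow in its centraliser is extremal -/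
theorem ex_of (h : H25.Syl 2 (T.md.K ⊓ H ⊓ C[w]) (H ⊓ C[w])) : Ex H el N w := by
  rintro y hy ⟨g, a, e⟩
  obtain ⟨c, hc, k⟩ := h.exists_cj_le (X := H19.cj g (T.md.K ⊓ H ⊓ C[el y])) ((T.pgl (inf_le_left.trans inf_le_left)).map _)
    (le_inf (cj_le_of_mem a (inf_le_left.trans inf_le_right)) ((cj_mono g inf_le_right).trans (by rw [cj_cent1, e])))
  refine ⟨c * g, mul_mem hc.1 a, by rw [← mul_inv_eq_iff_eq_mul.2 (mem_cent1.1 hc.2), ← e]; group, fun x hx b d => ?_⟩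
  obtain ⟨q, hq, f⟩ := (H25.cj_le.1 k _ (mem_cj'.2 ⟨el x, ⟨⟨T.md.mem hx, b⟩, mem_cent1.2 d⟩, rfl⟩)).1.1
  exact ⟨q, hq, by rw [f]; group⟩
/-- conjugating a Sylow subgroup of the centraliser into `K` gives an extremal element -/
theorem ex_cj {P : Subgroup G} (h : H25.Syl 2 P (H ⊓ C[w])) (a : g ∈ H) (k : H19.cj g P ≤ T.md.K) : Ex H el N (g * w * g⁻¹) := by
  have := h.cj g
  change H25.Syl 2 (H19.cj g P) (H19.cj g _) at this
  rw [cj_inf, cj_cent1, H19.cj_of_mem a] at this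
  exact T.ex_of (this.mono_left (le_inf (le_inf k (this.1.trans inf_le_left)) (this.1.trans inf_le_right))
    (inf_le_inf_right _ inf_le_right))
theorem ex (h : ¬ 2 * N ∣ Nat.card G) (a : x < N) (b : el x ∈ HL F l) :
    ∃ y < N, Cj (HL F l) (el x) (el y) ∧ Ex (HL F l) el N (el y) := by
  obtain ⟨P, c1, c2, c3⟩ := H25.exists_syl_ge (p := 2) (X := zpowers (el x)) (H := HL F l ⊓ C[el x])
    (T.pgl (zpowers_le.2 (T.md.mem a))) (zpowers_le.2 ⟨b, mem_cent1_self _⟩)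
  obtain ⟨g, d1, d2⟩ := (T.sylH h).exists_cj_le c2 (c3.1.trans inf_le_left)
  obtain ⟨y, hy, e⟩ := (H25.cj_le.1 d2 _ (c1 (mem_zpowers _))).1
  exact ⟨y, hy, ⟨g, d1, e.symm⟩, e ▸ T.ex_cj c3 d1 (d2.trans inf_le_left)⟩
theorem ex_K (h : Ex H el N w) (a : g ∈ T.md.K) (b : g ∈ H) : Ex H el N (g * w * g⁻¹) := fun y hy c => by
  obtain ⟨k, d1, d2, d3⟩ := h y hy (c.trans (Cj.symm ⟨g, b, rfl⟩))
  refine ⟨g * k, mul_mem b d1, by rw [← d2]; group, fun x hx e f => ?_⟩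
  obtain ⟨q, hq, j⟩ := d3 x hx e f
  obtain ⟨q', hq', j'⟩ := mul_mem (mul_mem a (T.md.mem hq)) (inv_mem a)
  exact ⟨q', hq', by rw [j', ← j]; group⟩
/-- the map given by extremality, on the centraliser -/
theorem ex_map (h : Ex (HL F l) el N w) (a : y < N) (c : Cj (HL F l) (el y) w) : ∃ g ∈ HL F l, g * el y * g⁻¹ = w ∧
    H19.cj g (T.md.K ⊓ HL F l ⊓ C[el y]) ≤ T.md.K ⊓ HL F l ⊓ C[w] := by
  obtain ⟨g, d1, d2, d3⟩ := h y a c
  refine ⟨g, d1, d2, le_inf (le_inf ?_ (cj_le_of_mem d1 (inf_le_left.trans inf_le_right)))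
    ((cj_mono g inf_le_right).trans (by rw [cj_cent1, d2]))⟩
  rintro _ ⟨_, ⟨⟨⟨x, hx, rfl⟩, b⟩, e⟩, rfl⟩
  exact (d3 x hx b (mem_cent1.1 e)).imp fun _ k => ⟨k.1, k.2.symm⟩
theorem ex_le (h : Ex (HL F l) el N w) (a : y < N) (c : Cj (HL F l) (el y) w) :
    cz (HL F l) el N (el y) ≤ cz (HL F l) el N w := by
  obtain ⟨g, -, -, k⟩ := T.ex_map h a c
  rw [T.cz_eq, T.cz_eq, ← card_cj g]
  exact card_le_of_le k
end Tm

theorem Ok.no (o : Ok F p el mul s) (a : y < s.N) (c : isNo p s.nb y = true) : ¬ IsConj (el 2) (el y) := o.tm.no _ o.nb a c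
namespace Rw
variable (R : Rw H el N r) (T : Tm F p el N M)
include R
theorem blt (h : bt (n1 r 2) x = true) : x < N := ((R.cls x).1 h).1
theorem cj (h : bt (n1 r 2) x = true) : Cj H (el (h0 r)) (el x) := let ⟨_, _, _, a, b⟩ := (R.cls x).1 h; ⟨_, a, b⟩
theorem bmem (h : bt (n1 r 2) x = true) : el x ∈ H :=
  let ⟨_, a, b⟩ := R.cj h; b ▸ mul_mem (mul_mem a R.mem) (inv_mem a)
theorem bod (h : bt (n1 r 2) x = true) : oG (el x) = n1 r 3 := let ⟨_, _, b⟩ := R.cj h; by rw [← b, oG_cj, R.od]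
include T
theorem kj (h : bt (n1 r 2) x = true) : Cj (T.md.K ⊓ H) (el (h0 r)) (el x) :=
  let ⟨_, _, c, a, b⟩ := (R.cls x).1 h; ⟨_, ⟨T.md.mem c, a⟩, b⟩
theorem of (a : x < N) (h : Cj (T.md.K ⊓ H) (el (h0 r)) (el x)) : bt (n1 r 2) x = true :=
  let ⟨_, ⟨⟨k, b, c⟩, d⟩, e⟩ := h; (R.cls x).2 ⟨a, k, b, c ▸ d, c ▸ e⟩
theorem self : bt (n1 r 2) (h0 r) = true := R.of T R.lt Cj.rfl
theorem bsz (h : bt (n1 r 2) x = true) : cz H el N (el x) = n1 r 1 :=
  let ⟨_, a, b⟩ := R.kj T h; by rw [← b, T.cz_cj a.1 a.2, R.sz]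
theorem step (h : bt (n1 r 2) x = true) (a : y < N) (k : Cj (T.md.K ⊓ H) (el x) (el y)) : bt (n1 r 2) y = true :=
  R.of T a ((R.kj T h).trans k)
theorem bex (h : bt (n1 r 2) x = true) (k : Ex H el N (el x)) : Ex H el N (el (h0 r)) :=
  let ⟨_, a, b⟩ := (R.kj T h).symm; b ▸ T.ex_K k a.1 a.2
end Rw
/-- distinct rows have disjoint classes -/
theorem Tb.dj (B : Tb H el N co ct) (T : Tm F p el N M) :
    ct.Pairwise fun r r' => ∀ x, bt (n1 r 2) x = true → ¬ bt (n1 r' 2) x = true :=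
  B.pw.imp_of_mem fun {r r'} a b k x c d => by
    rw [(B.rw r a).step T c (B.rw r' b).lt ((B.rw r' b).kj T d).symm] at k; cases k

end H2.SV
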