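import Cfsg.Agent.H2.SV4

/-! The certificate checker: soundness of the contradictions (adapted from `H6/DR1`). -/

set_option autoImplicit false
set_option linter.unusedSectionVars false

namespace H2.SV
open Cfsg Subgroup H16 H1.Am H24.SS H19

universe u
variable {G : Type u} [Group G] [Finite G] {F H X : Subgroup G} {p : Par} {el : ℕ → G} {N n x y a b c d e i j l : ℕ}
  {M mul : Mu} {g g' w : G} {us vs xs ys es r : List ℕ} {s : St} {W ct : Wl}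

theorem dec2 (g : G) : ∃ a ∈ zpowers g, ∃ o ∈ zpowers g, g = a * o ∧ (∃ k, a ^ 2 ^ k = 1) ∧ Odd (orderOf o) := by
  obtain ⟨k, m, h, e⟩ := Nat.exists_eq_two_pow_mul_odd (orderOf_pos g).ne'
  obtain ⟨u, v, c⟩ : IsCoprime ((2 ^ k : ℕ) : ℤ) (m : ℤ) :=
    Nat.isCoprime_iff_coprime.2 (Nat.Coprime.pow_left k (Nat.coprime_two_left.2 h))
  have z : g ^ (((2 ^ k : ℕ) : ℤ) * m) = 1 := by rw [← Nat.cast_mul, ← e, zpow_natCast, pow_orderOf_eq_one]
  refine ⟨_, zpow_mem (mem_zpowers g) (v * m), _, zpow_mem (mem_zpowers g) (u * (2 ^ k : ℕ)),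
    by rw [← zpow_add, add_comm, c, zpow_one], ⟨k, ?_⟩, h.of_dvd_nat (orderOf_dvd_of_pow_eq_one ?_)⟩
  · rw [← zpow_natCast, ← zpow_mul, mul_assoc, mul_comm v, mul_comm (m : ℤ), zpow_mul, z, one_zpow]
  · rw [← zpow_natCast, ← zpow_mul, mul_assoc, mul_comm u, zpow_mul, z, one_zpow]
theorem odd_fix {o a y : G} {k : ℕ} (h : Odd (orderOf o)) (c : o * a = a * o) (t : a ^ 2 ^ k = 1) (e : o * y * o⁻¹ = a * y) :
    a = 1 := by
  have : ∀ n : ℕ, o ^ n * y * (o ^ n)⁻¹ = a ^ n * y := fun n => by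
    induction n with
    | zero => simp
    | succ n ih =>
      calc _ = o * (o ^ n * y * (o ^ n)⁻¹) * o⁻¹ := by rw [pow_succ']; group
        _ = (o * a ^ n) * y * o⁻¹ := by rw [ih]; group
        _ = _ := by rw [((show Commute o a from c).pow_right n).eq, mul_assoc _ o, mul_assoc, e, pow_succ, mul_assoc]
  have := this (orderOf o)
  rw [pow_orderOf_eq_one, one_mul, inv_one, mul_one, right_eq_mul] at this
  exact orderOf_eq_one_iff.1 (Nat.eq_one_of_dvd_coprimes (Nat.Coprime.pow_left k (Nat.coprime_two_left.2 h))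
    (orderOf_dvd_of_pow_eq_one t) (orderOf_dvd_of_pow_eq_one this))
theorem fa_ex {α β : Type} {R : α → β → Prop} {l : List α} {j : List β} {a : α} (h : List.Forall₂ R l j) (k : a ∈ l) :
    ∃ b ∈ j, R a b := by
  induction h with
  | nil => cases k
  | cons a _ ih =>
    rcases List.mem_cons.1 k with rfl | k
    exacts [⟨_, List.mem_cons_self, a⟩, let ⟨y, b, c⟩ := ih k; ⟨y, List.mem_cons_of_mem _ b, c⟩]
theorem fa_ex' {α β : Type} {R : α → β → Prop} {l : List α} {j : List β} {a : β} (h : List.Forall₂ R l j) (k : a ∈ j) :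
    ∃ b ∈ l, R b a := fa_ex h.flip k
theorem atl_s (h : x ∈ atl p i) : x < s1 p := by
  obtain ⟨a, h', b⟩ := p
  revert x
  rcases i with _ | i <;> cases h' <;> simp only [atl, s1] <;> decide
theorem exR_iff {f : ℕ → Bool} : exR n f = true ↔ ∃ e < n, f e = true := by
  rw [exR, nt_iff, aR_iff]
  simp

namespace Tm
variable (T : Tm F p el N M)
include T
theorem pr_bm (h : ∀ x ∈ xs, x < s1 p) : pr M xs e = pr (bmu p) xs e := by
  rw [pr_eq, pr_eq]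
  refine (prK_rel (R := fun u v => u = v ∧ u < s1 p) (fun a b c d x y => ?_) (List.forall₂_same.2 fun x k => ⟨rfl, h x k⟩)
    ⟨rfl, (by decide : 0 < 16).trans_le (s32 p)⟩).1
  obtain ⟨rfl, x⟩ := x
  obtain ⟨rfl, y⟩ := y
  cases a
  exacts [⟨rfl, y⟩, ⟨T.bm _ x _ y, T.cl _ T.sd _ x _ y⟩]
theorem atN : ∀ x ∈ atl p i, x < N := fun _ h => T.lt (atl_s h)
theorem cen_pr (k : ∀ x ∈ xs, x < N) (h : ∀ x ∈ xs, g * el x = el x * g) : g * el (pr M xs e) * g⁻¹ = el (pr M xs e) :=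
  mul_inv_eq_iff_eq_mul.2 (mem_cent1.1 (pr_mem (H := C[g]) T.md (fun x a => ⟨k x a, mem_cent1.2 (h x a).symm⟩) e).2).symm
theorem ca (t : w ^ 2 ^ n = 1) (h : ∀ x ∈ atl p i, w * el x = el x * w) : ∃ e < ak p i, w = el (pr M (atl p i) e) := by
  simp only [T.pr_bm fun _ => atl_s]
  exact T.lk.ca i w n t fun x k => mul_inv_eq_iff_eq_mul.2 (h x k)
/-- the 2-elements centralising a conjugate of `A_i` -/
theorem caw (a : Im el N g (atl p i) xs) (t : w ^ 2 ^ n = 1) (h : ∀ x ∈ xs, w * el x = el x * w) :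
    ∃ e < ak p i, w = el (pr M xs e) := by
  obtain ⟨e, b, k⟩ := T.ca (i := i) (w := g⁻¹ * w * g⁻¹⁻¹) (n := n) (by rw [conj_pow, t]; simp) fun x hx => by
    obtain ⟨y, b1, -, b2⟩ := Im.ex a hx
    have := h y b1
    rw [← b2] at this
    calc _ = g⁻¹ * (w * (g * el x * g⁻¹)) * g := by group
      _ = _ := by rw [this]; group
  exact ⟨e, b, by rw [← (Im.pr T.md a e).2.2, ← k]; group⟩
end Tm

theorem sKN : Snd.{u} rKN := fun G _ _ F p gl mul s A k1 k2 el _ _ _ o c => by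
  obtain ⟨g, y, a, b, -, d⟩ := o.wk1 o.tm.l32 c
  exact (o.no a d (isConj_iff.2 ⟨g, b⟩)).elim
theorem sKS : Snd.{u} rKS := fun G _ _ F p gl mul s A k1 k2 el _ _ _ o c => by
  simp only [rKS, force_eq, an_iff, Nat.blt_eq] at c
  obtain ⟨g, y, a, b, -, d⟩ := o.wk1 o.tm.l32 c.2.2
  refine (o.tm.lk.nsq c.1 (g⁻¹ * el (nm A 0) * g⁻¹⁻¹) ?_).elim
  rw [conj_mul, (mb_iff o.tm.md c.2.1 c.2.1 a).1 (Nat.beq_eq.mp d), ← b]; group
theorem sKC : Snd.{u} rKC := fun G _ _ F p gl mul s A k1 k2 el _ _ _ o c => by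
  obtain ⟨g, y, a, b, -, d⟩ := o.wk1 o.tm.l32 c
  rw [force_eq, Nat.blt_eq] at d
  exact (d.not_ge ((o.tm.cz_top a).ge.trans (o.tm.cz_le (isConj_iff.2 ⟨g, b⟩)))).elim
theorem sKL : Snd.{u} rKL := fun G _ _ F p gl mul s A k1 k2 el _ _ _ o c => by
  simp only [rKL, force_eq, an_iff, Nat.blt_eq] at c
  obtain ⟨c2, c⟩ := c
  obtain ⟨g, l, a, -, d⟩ := o.wk (List.forall_mem_cons.2 ⟨o.tm.l32, List.forall_mem_singleton.2 (o.tm.lt c2)⟩) c
  rcases a with _ | ⟨⟨-, -, a⟩, _ | ⟨⟨-, b1, b2⟩, _ | _⟩⟩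
  rename_i t y
  simp only [an_iff, oo_iff, Nat.beq_eq, Nat.ble_eq, nb_iff] at d
  obtain rfl : t = 2 := d.1
  have k := o.tm.sc b1 (by rw [← b2]; conv_lhs => rw [← a, conj_mul, o.tm.tc c2, ← conj_mul, a])
  exact (d.2.elim k.not_ge (· (o.tm.lk.lam g a _ c2 _ k b2))).elim
theorem sKF : Snd.{u} rKF := fun G _ _ F p gl mul s A k1 k2 el _ _ _ o c => by
  obtain ⟨c1, c⟩ := an_iff.1 c
  have l : 16 < s1 p := ((s1_or p).resolve_left fun q => by rw [c1] at q; cases q.1).2 ▸ by decide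
  obtain ⟨g, l, a, -, d⟩ := o.wk (List.forall_mem_cons.2 ⟨o.tm.l32, List.forall_mem_singleton.2 (o.tm.lt l)⟩) c
  rw [al2_eq.1 d] at a
  exact (o.tm.lk.nf c1 g (Im.nth a (i := 0) (by decide)).2.2 16 (by decide) (Im.nth a (i := 1) (by decide)).2.2).elim
theorem sKB : Snd.{u} rKB := fun G _ _ F p gl mul s A k1 k2 el _ _ _ o c => by
  simp only [rKB, force_eq, an_iff, mem_iff] at c
  have T := o.tm
  obtain ⟨g, l, a, -, d⟩ := o.wk (fun x k => T.l32 ((by decide : ∀ x ∈ [2, 1, 4], x < 16) x k)) c.2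
  simp only [allB_iff, exR_iff, Nat.beq_eq] at d
  have k : ∀ x ∈ [2, 1, nm A 0], H19.cj g (C[el 2] ⊓ C[el 1] ⊓ C[el 4]) ≤ C[el x] := fun x hx => by
    obtain ⟨e, -, rfl⟩ := d x hx
    rw [← (Im.pr T.md a e).2.2, ← cj_cent1]
    refine cj_mono g fun w hw => mem_cent1.2 (mul_inv_eq_iff_eq_mul.1 (T.cen_pr (Im.lt1 a) ?_))
    simpa using ⟨mem_cent1.1 hw.1.1, mem_cent1.1 hw.1.2, mem_cent1.1 hw.2⟩
  exact ((T.lk.kb 4 (by decide) _ c.1).not_ge ((card_cj g _).ge.trans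
    (card_le_of_le (le_inf (le_inf (k _ (by simp)) (k _ (by simp))) (k _ (by simp)))))).elim
theorem sKR : Snd.{u} rKR := fun G _ _ F p gl mul s A k1 k2 el _ _ _ o c => by
  simp only [rKR, an_iff, nb_iff, Nat.beq_eq] at c
  obtain ⟨-, g, -, a, -⟩ := o.cu
  have b := Im.pr o.tm.md a (nm A 0)
  have d := Im.pr o.tm.md a (nm A 1)
  exact (c.1 (o.tm.md.inj b.1 d.1 (mul_left_cancel (mul_right_cancel (b.2.2.trans (c.2 ▸ d.2.2.symm)))))).elim
theorem sKM : Snd.{u} rKM := fun G _ _ F p gl mul s A k1 k2 el _ _ _ o c => by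
  obtain ⟨m, B, e, c⟩ := one_iff.1 c
  simp only [an_iff, nb_iff, Nat.beq_eq, Nat.blt_eq] at c
  obtain ⟨g, -, a, b⟩ := o.ms m (e ▸ List.mem_cons_self)
  have d := Im.pr o.tm.md a (nm A 0)
  rw [c.2.1] at d
  exact (c.2.2 (o.tm.md.inj d.2.1 d.1 (by rw [← d.2.2, ← (b c.1).2]; group))).elim
theorem sKI : Snd.{u} rKI := fun G _ _ F p gl mul s A k1 k2 el _ _ _ o c => by
  simp only [rKI, an_iff, force_eq, apK_eq, ltA_iff, List.append_nil] at c
  generalize nm A 0 = i at c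
  generalize rw2 A 0 1 = ys at c
  obtain ⟨c1, c2, c⟩ := c
  have T := o.tm
  obtain ⟨g, l, a, -, d⟩ := o.wk (List.forall_mem_append.2 ⟨T.atN, c1⟩) c
  rw [an_iff, al2_eq, aR_iff] at d
  have a1 := List.forall₂_take (atl p i).length a
  have a2 := List.forall₂_drop (atl p i).length a
  rw [List.take_left' rfl, d.1] at a1
  rw [List.drop_left' rfl] at a2
  let Z := centralizer {x | ∃ y ∈ atl p i, el y = x}
  have mz : ∀ {g}, g ∈ Z ↔ ∀ y ∈ atl p i, g * el y = el y * g :=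
    ⟨fun h y k => (h _ ⟨y, k, rfl⟩).symm, by rintro h _ ⟨y, k, rfl⟩; exact (h y k).symm⟩
  have gZ : g ∈ Z := mz.2 fun y k => mul_inv_eq_iff_eq_mul.1 (List.forall₂_same.1 a1 y k).2.2
  have ca : ∀ {w : G}, w ∈ Z → (∃ n, w ^ 2 ^ n = 1) → ∃ e < ak p i, w = el (pr (ff mul) (atl p i) e) := fun h ⟨n, k⟩ =>
    T.ca k (mz.1 h)
  obtain ⟨a0, h1, q, h2, e, h3, h4⟩ := dec2 g
  have qZ := zpowers_le.2 gZ h2
  obtain ⟨c, hc, rfl⟩ := ca (zpowers_le.2 gZ h1) h3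
  refine (nt_iff.1 (d.2 c hc) (al2_iff.2 (List.forall₂_iff_zip.2 ⟨a2.length_eq, fun {y z} k => ?_⟩))).elim
  obtain ⟨b1, b2, b3⟩ := (List.forall₂_iff_zip.1 a2).2 k
  have hy := (List.of_mem_zip k).1
  obtain ⟨es, -, n⟩ := fa_ex (a2_iff.1 c2) hy
  have u : (el y)⁻¹ * q * el y ∈ Z := mz.2 fun x hx => by
    obtain ⟨e, -, v⟩ := fa_ex (a2_iff.1 n) hx
    have v2 := (cn_iff T.md b1 (T.atN _ hx) (pr_lt T.md T.atN e) b1).1 v
    have := T.cen_pr (e := e) T.atN (mz.1 qZ)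
    calc _ = (el y)⁻¹ * q * (el y * el x) := by group
      _ = (el y)⁻¹ * (q * el (pr (ff mul) (atl p i) e) * q⁻¹) * q * el y := by rw [v2]; group
      _ = (el y)⁻¹ * (el (pr (ff mul) (atl p i) e) * el y) * ((el y)⁻¹ * q * el y) := by rw [this]; group
      _ = _ := by rw [← v2]; group
  have cN := pr_lt T.md (T.atN (i := i)) c
  generalize pr (ff mul) (atl p i) c = c at e cN ⊢
  have k1 : q * el y * q⁻¹ = (el c)⁻¹ * el z * el c := by rw [← b3, e]; group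
  obtain ⟨v, hv, k2⟩ : ((el y)⁻¹ * q * el y * q⁻¹)⁻¹ ∈ T.md.K := by
    rw [mul_assoc, mul_assoc, ← mul_assoc q, k1]
    exact inv_mem (mul_mem (inv_mem (T.md.mem b1)) (mul_mem (mul_mem (inv_mem (T.md.mem cN)) (T.md.mem b2)) (T.md.mem cN)))
  obtain ⟨n, k3⟩ := T.el_pow hv
  obtain ⟨c', -, k4⟩ := ca (k2 ▸ inv_mem (mul_mem u (inv_mem qZ))) ⟨n, k3⟩
  have := odd_fix (y := (el y)⁻¹) h4 (k4 ▸ mul_inv_eq_iff_eq_mul.1 (T.cen_pr T.atN (mz.1 qZ))) k3 (by rw [k2]; group)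
  rw [k2, inv_eq_one, mul_assoc, mul_assoc, inv_mul_eq_one, ← mul_assoc, k1] at this
  exact (cn_iff T.md cN b1 b2 cN).2 (by rw [this]; group)

end H2.SV
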