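import Cfsg.Agent.H2.SV5

/-! The certificate checker: soundness of extensions and of references to goals (adapted from `H6/DR4`). -/

set_option autoImplicit false
set_option linter.unusedSectionVars false

namespace H2.SV
open Cfsg Subgroup H16 H1.Am H24.SS H19

universe u
variable {G : Type u} [Group G] [Finite G] {F H X : Subgroup G} {p : Par} {el el' : ℕ → G} {N n x y a b c d e i j l q m P : ℕ}
  {M mul : Mu} {g g' w : G} {us vs xs ys es r : List ℕ} {s : St} {W ct L : Wl} {A : List Wl} {f : Fn} {t t' : Tw}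

theorem ff_id : ff mul = mul := funext₂ fun _ _ => ff_eq
theorem ble_f (h : x < N) : Nat.ble N x = false := Bool.eq_false_iff.2 fun k => h.not_ge (Nat.ble_eq.mp k)
theorem ble_t : Nat.ble N (x + N) = true := Nat.ble_eq.mpr (Nat.le_add_left _ _)
theorem sub_e : Nat.sub (x + N) N = x := Nat.add_sub_cancel x N
theorem xm_ll (a : x < N) (b : y < N) : xm N M P m x y = M x y := by rw [xm, ble_f a, ble_f b]
theorem xm_lh (a : x < N) : xm N M P m x (y + N) = M x y + N := by rw [xm, ble_f a, ble_t, sub_e]; rfl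
theorem xm_hl (b : y < N) : xm N M P m (x + N) y = M x (l2 P y) + N := by rw [xm, ble_f b, ble_t, sub_e]; rfl
theorem xm_hh : xm N M P m (x + N) (y + N) = x3 M m (M x (l2 P y)) := by rw [xm, ble_t, ble_t, sub_e, sub_e]
theorem sp2 (h : x < N * 2) : x < N ∨ ∃ y < N, x = y + N := (lt_or_ge x N).imp_right fun c => ⟨x - N, by omega, by omega⟩
/-- multiplication in an extension of degree two -/
theorem xm_s (h : ∀ x < N, ∀ y < N, M x y < N ∧ el (M x y) = el x * el y) (e0 : el 0 = 1) (hm : m < N) (e : el m = g * g)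
    (a : ∀ x < N, l2 P x < N ∧ el (l2 P x) * g = g * el x) (b : ∀ x < N, el (x + N) = el x * g) :
    ∀ x < N * 2, ∀ y < N * 2, xm N M P m x y < N * 2 ∧ el (xm N M P m x y) = el x * el y := fun x hx y hy => by
  replace hx := sp2 hx
  replace hy := sp2 hy
  rcases hx with hx | ⟨x, hx, rfl⟩ <;> rcases hy with hy | ⟨y, hy, rfl⟩
  · rw [xm_ll hx hy]; exact ⟨by have := (h x hx y hy).1; omega, (h x hx y hy).2⟩
  · have := h x hx y hy
    rw [xm_lh hx, b _ this.1, b _ hy, this.2, mul_assoc]; exact ⟨by omega, rfl⟩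
  · have := h x hx _ (a y hy).1
    rw [xm_hl hy, b _ this.1, b _ hx, this.2, mul_assoc, (a y hy).2, mul_assoc]; exact ⟨by omega, rfl⟩
  · have := h x hx _ (a y hy).1
    have k : el (M x (l2 P y)) * el m = el (x + N) * el (y + N) := by
      rw [this.2, b _ hx, b _ hy, e, mul_assoc, ← mul_assoc _ g, (a y hy).2]; simp only [mul_assoc]
    rw [xm_hh, ← k]
    cases m with
    | zero => exact ⟨this.1.trans (by omega), by rw [e0, mul_one]; rfl⟩
    | succ m => exact ⟨(h _ this.1 _ hm).1.trans (by omega), (h _ this.1 _ hm).2⟩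
theorem Tm.pr_s (T : Tm F p el N M) (h : ∀ x ∈ xs, x < s1 p) : pr (bmu p) xs e < s1 p := by
  have := pr_mem (H := T.S1) T.md (fun x k => ⟨T.lt (h x k), x, h x k, rfl⟩) e
  exact T.pr_bm h ▸ (T.el_Kn this.1).1 this.2
theorem ky_s (h : x ∈ ky p) : x < s1 p := by
  obtain ⟨a, h', b⟩ := p
  revert x
  cases h' <;> simp only [ky, s1] <;> decide
theorem h32 (h : p.h = true) : s1 p = 32 := ((s1_or p).resolve_left fun q => by rw [h] at q; cases q.1).2
theorem Tm.up (T : Tm F p el N M) (e : ∀ x < s1 p, el' x = el x) : Lk p el' := by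
  have k := T.lk
  have l : ∀ {x}, x < 16 → el' x = el x := fun h => e _ (h.trans_le (s32 p))
  have t := l (x := 2) (by decide)
  refine ⟨t ▸ k.syl, t ▸ k.nsq, fun g a x b y c => ?_, fun i y n a b => ?_, fun h g a x b => ?_, fun x a y b => ?_, t ▸ k.nc⟩
  · rw [e x b, e y c]; exact k.lam g (t ▸ a) x b y c
  · obtain ⟨c, d, j⟩ := k.ca i y n a fun x h => e x (atl_s h) ▸ b x h
    exact ⟨c, d, j.trans (e _ (T.pr_s fun _ => atl_s)).symm⟩
  · have := (by decide : ∀ x ∈ [16, 18], x + 1 < 32) x b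
    rw [e x (by rw [h32 h]; omega), e _ (by rwa [h32 h])]
    exact k.nf h g (t ▸ a) x b
  · rw [t, l (x := 1) (by decide), e y (ky_s b), l ((by decide : ∀ x ∈ [4, 5, 6, 7], x < 16) x a)]
    exact k.kb x a y b
theorem Tm.dv2 (T : Tm F p el N M) (a : m ∣ N) (h : n ∣ m * 2) : n = m * 2 ∨ n ∣ m := by
  obtain ⟨k, rfl⟩ := T.pwd a
  obtain ⟨j, b, rfl⟩ := (Nat.dvd_prime_pow Nat.prime_two).1 (pow_succ 2 k ▸ h)
  exact b.eq_or_lt.imp (fun e : j = k + 1 => e ▸ pow_succ 2 k) fun b => pow_dvd_pow 2 (by omega)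
theorem sEXT : Snd.{u} rEXT := fun G _ _ F p gl mul s A k1 k2 el _ h1 _ o c => by
  obtain ⟨m, ms, em, c⟩ := one_iff.1 c
  simp only [force_eq, an_iff, Nat.blt_eq, Nat.ble_eq, ltA_iff, fm_eq] at c
  obtain ⟨c1, c2, c3, c4, c5, c⟩ := c
  have T := o.tm
  have h := T.md
  obtain ⟨g, g1, g2, g3⟩ := o.ms m (em ▸ List.mem_cons_self)
  obtain ⟨lm, eg⟩ := g3 c2
  generalize rw2 A 0 0 = es at c4 c
  obtain ⟨P, c, q0, q1, q2⟩ := bld_s (fun _ a _ b => h.lt a b) c3 h.pos
    (List.forall_mem_map.2 fun e _ => (Im.pr h g2 e).2.1) c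
  simp only [an_iff, Nat.beq_eq, List.length_map, oo_iff] at c q1 q2
  obtain ⟨eN, c6, c7⟩ := c
  have ac : ∀ i ≤ es.length, ∀ x < 2 ^ i, g * el x * g⁻¹ = el (l2 P x) := fun i => by
    induction i with
    | zero => exact fun _ x a => by rw [Nat.lt_one_iff.1 a, q0, h.e0]; simp
    | succ i ih =>
      intro a x b
      replace b : x < 2 ^ i ∨ ∃ y < 2 ^ i, x = y + 2 ^ i := sp2 b
      rcases b with b | ⟨x, b, rfl⟩
      · exact ih (by omega) x b
      have d : 2 * 2 ^ i ∣ s.N := by rw [← eN, ← pow_succ']; exact pow_dvd_pow 2 a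
      have j := Nat.beq_eq.mp (allI_s c4 i a)
      obtain ⟨-, b2, b3⟩ := Im.pr h g2 es[i]
      have := T.dle d
      rw [j, zero_add, show Nat.shiftLeft 1 i = 2 ^ i from Nat.one_shiftLeft i] at b3
      rw [q2 i a x b, T.tw _ d x b, ← conj_mul, ih (by omega) x b, b3, n1, nth_eq_getD, List.getD_eq_getElem _ _ (by simpa using a),
        List.getElem_map, h.ev (eN ▸ q1 x (by omega)) b2]
  replace ac := ac _ le_rfl
  rw [eN] at ac q1
  have ng : ∀ x < s.N, el x ≠ g := fun x a e => by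
    obtain ⟨y, b, k⟩ := anyB_iff.1 (aQ_s c6 x a)
    exact nt_iff.1 k ((cn_iff h a (c5 y b) (q1 y (c5 y b)) a).2 (by rw [← ac y (c5 y b), e]; group))
  let el' : ℕ → G := fun x => if x < s.N then el x else el (x - s.N) * g
  have e1 : ∀ x < s.N, el' x = el x := fun x a => if_pos a
  have e2 : ∀ x, el' (x + s.N) = el x * g := fun x => (if_neg (by omega)).trans (by rw [Nat.add_sub_cancel])
  have ml := xm_s (M := mul) (el := el') (P := P) (fun x a y b => by
      have := h.ml a b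
      rw [ff_eq] at this
      rwa [e1 _ this.1, e1 _ a, e1 _ b]) ((e1 _ h.pos).trans h.e0) lm ((e1 _ lm).trans eg.symm)
    (fun x a => ⟨q1 x a, by rw [e1 _ (q1 x a), e1 _ a, ← ac x a]; group⟩) fun x a => by rw [e2, e1 _ a]
  have ne : ∀ x < s.N, ∀ y < s.N, el x ≠ el y * g := fun x a y b e =>
    let ⟨z, c, d⟩ := mul_mem (inv_mem (h.mem b)) (h.mem a); ng z c (by rw [d, e]; group)
  have l32 := h.le
  have T' : Tm F p el' (s.N * 2) (ff (xm s.N mul P m.m)) := by
    rw [ff_id]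
    refine ⟨T.cx, ⟨fun a b => ml _ a _ b, fun {x y} a b k => ?_, by omega, (e1 _ h.pos).trans h.e0⟩,
      let ⟨k, e⟩ := T.pw; ⟨k + 1, by rw [e, pow_succ]⟩, T.le.trans (by omega), fun n a x b => ?_, fun n a x b y d => ?_,
      fun x a y b => by rw [xm_ll (T.lt a) (T.lt b), ← T.bm x a y b, ff_eq], fun x a => ?_, T.up fun x a => e1 x (T.lt a)⟩
    · replace a := sp2 a
      replace b := sp2 b
      rcases a with a | ⟨x, a, rfl⟩ <;> rcases b with b | ⟨y, b, rfl⟩
      · exact h.inj a b (by rwa [e1 _ a, e1 _ b] at k)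
      · exact (ne _ a _ b (by rwa [e1 _ a, e2] at k)).elim
      · exact (ne _ b _ a (by rwa [e1 _ b, e2, eq_comm] at k)).elim
      · rw [e2, e2, mul_left_inj] at k; rw [h.inj a b k]
    · rcases T.dv2 dvd_rfl a with e | e
      · obtain rfl : n = s.N := by omega
        have := e2 0
        rw [zero_add] at this
        rw [e2, e1 _ b, this, h.e0, one_mul]
      · have := T.dle e
        rw [e1 _ (by omega), e1 _ (by omega), e1 _ (by omega), T.tw n e x b]
    · rcases T.dv2 dvd_rfl a with rfl | e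
      · exact (ml _ b _ d).1
      · have := T.dle e
        rw [xm_ll (by omega) (by omega), ← ff_eq (mul := mul)]; exact T.cl n e x b y d
    · replace a := sp2 a
      rcases a with a | ⟨x, a, rfl⟩
      · rw [e1 _ a]; exact T.fi x a
      rw [e2, mul_mem_cancel_right (g1 c1), T.fi x a]
      obtain ⟨k, e⟩ := T.pw
      have : bt (x + s.N) 1 = bt x 1 := by
        have : bt (2 ^ k) 1 = false := Bool.eq_false_iff.2 fun j => by
          rw [bt_iff, Nat.testBit_two_pow, decide_eq_true_iff] at j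
          rw [e, j] at l32; omega
        rw [e, bt_add (e ▸ a), this]; cases bt x 1 <;> rfl
      unfold fb; rw [show bt (x + s.N) (nat_lit 1) = bt x (nat_lit 1) from this]
  rcases c7 with c7 | c7
  · exact (o.sy c7 (by rw [mul_comm, ← T'.card]; exact card_subgroup_dvd_card _)).elim
  have t := e1 2 T.l32
  have l2 : s.N < s.N * 2 := by omega
  refine h1 _ _ _ el' c7 (Ok.mk' T' (by rw [o.mu]; rfl) rfl (fun m a => ?_)
    (fun y a => ⟨(o.nb y a).1.trans l2, by rw [t, e1 _ (o.nb y a).1]; exact (o.nb y a).2⟩)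
    fun y a => ⟨(o.yb y a).1.trans l2, by rw [t, e1 _ (o.yb y a).1]; exact (o.yb y a).2⟩)
  obtain ⟨g, b1, b2, b3⟩ := o.ms m (em ▸ List.mem_cons_of_mem _ a)
  exact ⟨g, b1, b2.up e1 l2.le, fun k => ⟨(b3 k).1.trans l2, (b3 k).2.trans (e1 _ (b3 k).1).symm⟩⟩

theorem twE_s (h : twE t t' = true) : t = t' := by
  induction t generalizing t' with
  | b => cases t' with
    | b => rfl
    | x => cases h
  | x N P m t ih => cases t' with
    | b => cases h
    | x N' P' m' t' =>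
      have h' : (Nat.beq N N' &&' Nat.beq P P' &&' Nat.beq m m' &&' twE t t') = true := h
      simp only [an_iff, Nat.beq_eq] at h'
      rw [h'.1, h'.2.1, h'.2.2.1, ih h'.2.2.2]
theorem rfK_s {g : Gl} (o : Ok F p el mul s) (c : rfK p (ff mul) s A g f = true) (h : ∀ x < s.N, f x < s.N) (t : f 2 = 2) :
    (∀ m ∈ g.ms, Mo F (fun x => el (f x)) s.N m) ∧ (∀ y, bt g.nb y = true → y < s.N ∧ ¬ IsConj (el (f 2)) (el (f y))) ∧
      ∀ y, bt g.yb y = true → y < s.N ∧ IsConj (el (f 2)) (el (f y)) := by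
  simp only [rfK, an_iff, a2_iff, Nat.blt_eq, Nat.ble_eq, fm_eq, ltA_iff, oo_iff, nt_iff, Nat.beq_eq] at c
  obtain ⟨c1, c2, c3⟩ := c
  have lt : ∀ y, bt (Nat.lor g.nb g.yb) y = true → y < s.N ∧ ((bt g.nb y = true → isNo p s.nb (f y) = true) ∧
      (bt g.yb y = true → bt s.yb (f y) = true ∨ f y = 2)) := fun y k => by
    have l : y < s.N := by_contra fun j => by
      rw [bt_iff, Nat.testBit_lt_two_pow (c2.trans_le (by
        rw [show Nat.shiftLeft 1 s.N = 2 ^ s.N from Nat.one_shiftLeft _]; exact Nat.pow_le_pow_right two_pos (by omega)))] at k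
      cases k
    have := aQ_s (c3.resolve_left fun e => bt_zero (e ▸ k)) y l
    simp only [an_iff, oo_iff, nt_iff, Nat.beq_eq, ← imp_iff_not_or] at this
    exact ⟨l, this⟩
  rw [t]
  refine ⟨fun m a => ?_, fun y a => let b := lt y (bt_lor.2 (.inl a)); ⟨b.1, o.no (h y b.1) (b.2.1 a)⟩,
    fun y a => let b := lt y (bt_lor.2 (.inr a)); ⟨b.1, (b.2.2 a).elim (fun k => (o.yb _ k).2) (· ▸ IsConj.refl _)⟩⟩
  obtain ⟨W, -, b1, b2, b3, b4, b5⟩ := fa_ex c1 a
  obtain ⟨w, l, d1, d2, d3⟩ := o.wk (List.forall_mem_map.2 fun x k => h x (b3 x k)) b5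
  have : l = m.vs.map f := by
    have := (al2_iff.1 d3).flip
    simp only [Nat.beq_eq] at this
    exact List.forall₂_eq_eq_eq ▸ List.forall₂_map_right_iff.2 (this.imp fun _ _ k => k.symm)
  rw [this, Im, List.forall₂_map_left_iff, List.forall₂_map_right_iff] at d1
  exact ⟨w, fun k => d2.1 (b2.resolve_left (· k)), List.forall₂_iff_zip.2 ⟨d1.length_eq, fun k =>
    ⟨b3 _ (List.of_mem_zip k).1, b4 _ (List.of_mem_zip k).2, ((List.forall₂_iff_zip.1 d1).2 k).2.2⟩⟩, fun k => absurd k b1.not_gt⟩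
theorem orM_s {B : ℕ} (h : bt (orM f n B) y = true) : bt B y = true ∨ ∃ x < n, f x = y := by
  induction n generalizing B with
  | zero => exact .inl h
  | succ n ih =>
    have h' : bt (force (Nat.lor B (Nat.shiftLeft 1 (f n))) (orM f n)) y = true := h
    rw [force_eq] at h'
    rcases ih h' with k | ⟨x, a, b⟩
    exacts [(bt_lor.1 k).imp_right fun k => ⟨n, n.lt_succ_self, bt_one.1 k⟩, .inr ⟨x, a.trans n.lt_succ_self, b⟩]
theorem orM_inj (h : ∀ x < n, f x < n) (c : Nat.succ (orM f n 0) = Nat.shiftLeft 1 n) : ∀ x < n, ∀ y < n, f x = f y → x = y := by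
  have : Function.Surjective fun x : Fin n => (⟨f x, h x x.2⟩ : Fin n) := fun y => by
    obtain ⟨x, a, b⟩ := (orM_s (f := f) (n := n) (B := 0) (y := y) (by
      rw [bt_iff, show orM f n 0 = 2 ^ n - 1 from Nat.eq_sub_of_add_eq (c.trans (Nat.one_shiftLeft n)),
        Nat.testBit_two_pow_sub_one, decide_eq_true y.2])).resolve_left bt_zero
    exact ⟨⟨x, a⟩, Fin.ext b⟩
  exact fun x a y b e => congrArg Fin.val (Finite.injective_iff_surjective.2 this (a₁ := ⟨x, a⟩) (a₂ := ⟨y, b⟩) (Fin.ext e))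
theorem isoT_s (T : Tm F p el N M) (hl : ∀ x < N, f x < N) (f0 : f 0 = 0)
    (tw : ∀ n, 2 * n ∣ N → ∀ x < n, el (f (x + n)) = el (f x) * el (f n))
    (b : thK p 0 (s1 p) M M f = true → ∀ x < s1 p, ∀ y < s1 p, el (f (M x y)) = el (f x) * el (f y))
    (d : sz p t ∣ N) (c : isoT p M f t = true) :
    (∀ x < sz p t, ∀ y < sz p t, mu0 p t x y < sz p t ∧ el (f (mu0 p t x y)) = el (f x) * el (f y)) ∧
      (∀ n, n ∣ sz p t → ∀ x < n, ∀ y < n, mu0 p t x y < n) ∧ s1 p ≤ sz p t ∧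
      ∀ x < s1 p, ∀ y < s1 p, mu0 p t x y = bmu p x y := by
  induction t with
  | b =>
    refine ⟨fun x k y j => ?_, fun n k x a y j => ?_, le_rfl, fun _ _ _ _ => rfl⟩
    · rw [show mu0 p .b x y = M x y from (T.bm x k y j).symm]; exact ⟨T.cl _ T.sd x k y j, b c x k y j⟩
    · have := Nat.le_of_dvd ((by decide : 0 < 16).trans_le (s32 p)) k
      exact (T.bm x (a.trans_le this) y (j.trans_le this)).symm.trans_lt (T.cl n (k.trans T.sd) x a y j)
  | x n P m t ih =>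
    have c' : (isoT p M f t &&' Nat.beq n (sz p t) &&' Nat.blt m n &&' force (f n) fun g => Nat.beq (f m) (M g g) &&'
      aQ n fun x => force (l2 P x) fun y => Nat.blt y n &&' Nat.beq (f (Nat.add y n)) (M g (f x))) = true := c
    simp only [an_iff, force_eq, Nat.beq_eq, Nat.blt_eq] at c'
    obtain ⟨c1, rfl, c3, c4, c5⟩ := c'
    change sz p t * 2 ∣ N at d
    have d' := (dvd_mul_right _ _).trans d
    obtain ⟨i1, i2, i3, i4⟩ := ih d' c1
    have l := T.dle d
    have ln := hl (sz p t) (by omega)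
    have tw' := tw _ (mul_comm 2 _ ▸ d)
    have ml := xm_s (el := fun x => el (f x)) (P := P) i1 (by rw [f0, T.md.e0]) c3 (g := el (f (sz p t)))
      (by rw [c4, T.md.ev ln ln]) (fun x a => by
        have := aQ_s c5 x a
        simp only [an_iff, Nat.beq_eq, Nat.blt_eq] at this
        exact ⟨this.1, by rw [← tw' _ this.1, ← T.md.ev ln (hl x (by omega)), ← this.2]; rfl⟩) tw'
    refine ⟨ml, fun n k x a y j => ?_, i3.trans (Nat.le_mul_of_pos_right _ two_pos),
      fun x a y j => (xm_ll (a.trans_le i3) (j.trans_le i3)).trans (i4 x a y j)⟩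
    rcases T.dv2 d' k with rfl | k
    · exact (ml x a y j).1
    · have := Nat.le_of_dvd (by omega) k
      exact (xm_ll (by omega) (by omega)).trans_lt (i2 n k x a y j)
theorem lam_s (h : x < s1 p) : lam x < s1 p ∧ lam x ∈ [0, 2, 16, 18] :=
  ⟨Nat.and_le_left.trans_lt h, (by decide : ∀ x < 32, lam x ∈ [0, 2, 16, 18]) x (h.trans_le (s64 p))⟩
theorem at_eq (p : Par) (i : ℕ) : ∃ j ∈ [0, 1], ∀ a, atl p i = atl ⟨a, p.h, p.b⟩ j ∧ ak p i = ak ⟨a, p.h, p.b⟩ j := by
  rcases i with _ | i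
  exacts [⟨0, by decide, fun _ => ⟨rfl, rfl⟩⟩, ⟨1, by decide, fun _ => ⟨rfl, rfl⟩⟩]
theorem lkK_s (T : Tm F p el N M) (c : lkK p f = true) : f 2 = 2 ∧ Lk p fun x => el (f x) := by
  simp only [lkK, an_iff, Nat.beq_eq, mem_iff, aR_iff, Nat.blt_eq, allB_iff, oo_iff, Nat.ble_eq, fm_eq,
    exR_iff, force_eq, nt_iff, ← imp_iff_not_or] at c
  obtain ⟨c1, c0, c7, c2, c3, c4, c5, c6⟩ := c
  have k := T.lk
  refine ⟨c1, by rw [c1]; exact k.syl, by rw [c1]; exact k.nsq, fun g a x b y d e => ?_, fun i y n a b => ?_,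
    fun h g a x b => ?_, fun x a y b => by rw [c1, c0]; exact k.kb _ (c2 x a) _ (c3 y b), by rw [c1]; exact k.nc⟩
  · rw [c1] at a
    have := k.lam g a _ (c4 x b).1 _ (c4 y d).1 e
    rw [(c4 x b).2, (c4 y d).2] at this
    exact ((c5 _ (lam_s b).2 _ (lam_s d).2).resolve_left (lam_s b).1.not_ge |>.resolve_left (lam_s d).1.not_ge).resolve_right
      (· this)
  · obtain ⟨j, hj, e⟩ := at_eq p i
    obtain ⟨e1, e2⟩ : atl p i = atl p j ∧ ak p i = ak p j := e p.a
    rw [e1] at b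
    rw [e1, e2]
    have l : ∀ x ∈ (atl p j).map f, x < s1 p := List.forall_mem_map.2 fun x h => (c4 x (atl_s h)).1
    obtain ⟨c, d, e⟩ := k.ca j y n a fun x h => by
      obtain ⟨e, -, rfl⟩ := (c6 j hj).1 x h
      rw [← T.pr_bm l]
      exact T.cen_pr (fun x h => T.lt (l x h)) (List.forall_mem_map.2 fun x h => mul_inv_eq_iff_eq_mul.1 (b x h))
    obtain ⟨c', d', e'⟩ := (c6 j hj).2 c d
    exact ⟨c', d', by rw [e', e]⟩
  · rw [c1] at a
    rw [show f (x + 1) = _ from (c7 h x b).2]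
    exact k.nf h g a _ (c7 h x b).1
theorem rf : Rf.{u} := fun G _ _ F p gl mul s A k1 k2 el o c => by
  obtain ⟨g, hg, c⟩ := nK_s c
  have T := o.tm
  have h := T.md
  refine ⟨g, hg, ?_⟩
  rcases sel_iff.1 c with ⟨-, c⟩ | ⟨-, c⟩
  · obtain ⟨c1, c2⟩ := an_iff.1 c
    obtain ⟨a, b, d⟩ := rfK_s o c2 (fun _ k => k) rfl
    rw [← twE_s c1, ← o.sz, ← o.mu]
    exact ⟨el, rfl, Ok.mk' T o.mu o.sz a b d⟩
  simp only [an_iff, Nat.ble_eq, Nat.beq_eq, ltA_iff] at c
  obtain ⟨c1, c2, c3, c⟩ := c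
  obtain ⟨P, c, q0, q1, q2⟩ := bld_s (fun _ a _ b => h.lt a b) c1 h.pos c3 c
  simp only [an_iff, Nat.beq_eq] at c
  obtain ⟨eN, c4, c5, c6, c7, c8⟩ := c
  have tw : ∀ n, 2 * n ∣ s.N → ∀ x < n, el (l2 P (x + n)) = el (l2 P x) * el (l2 P n) := fun n a x b => by
    obtain ⟨i, rfl⟩ := T.pwd ((dvd_mul_left _ _).trans a)
    have := T.dle a
    have li : i < (rw2 A 0 1).length := (Nat.pow_lt_pow_iff_right (a := 2) one_lt_two).1 (by omega)
    have lv : n1 (rw2 A 0 1) i < s.N := c3 _ (nth_mem_of_lt (nat_lit 0) _ li)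
    have e := q2 i li 0 (Nat.two_pow_pos i)
    rw [zero_add] at e
    rw [q2 i li x b, e, h.ev (q1 x (by omega)) lv, h.ev (q1 0 (by omega)) lv, q0, h.e0, one_mul]
  have bs := fun k => T.bld (l := 0) (el' := el) T.sd ((s64 p).trans (by decide)) (fun _ a _ b => h.ev a b) h.e0
    (eN ▸ T.sd) c3 q0 q1 q2 k
  rw [eN] at q1
  obtain ⟨i1, i2, i3, i4⟩ := isoT_s T q1 q0 tw (fun k x a y b => bs k x a y b rfl rfl) (c2 ▸ dvd_rfl) c6
  obtain ⟨t, lk⟩ := lkK_s T c7
  obtain ⟨a, b, d⟩ := rfK_s o c8 q1 t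
  rw [c2] at i1 i2 ⊢
  refine ⟨fun x => el (l2 P x), rfl, Ok.mk' ?_ rfl c2.symm a b d⟩
  rw [ff_id]
  exact ⟨T.cx, ⟨fun a b => i1 _ a _ b, fun a b e => orM_inj q1 c5 _ a _ b (h.inj (q1 _ a) (q1 _ b) e), h.le, by rw [q0, h.e0]⟩,
    T.pw, T.le, tw, i2, i4, fun x a => by rw [T.fi _ (q1 x a), bq_iff.1 (aQ_s c4 x a)], lk⟩
theorem sRF : Snd.{u} rRF := rf.rf

end H2.SV
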