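/-
Fusion systems on a Sylow `p`-subgroup of `³D₄(q)`: the points of the module `Q₁ / Z₁`.
-/
import Cfsg.Agent.H29.TD2

set_option autoImplicit false
set_option linter.unusedSectionVars false
set_option linter.unusedSimpArgs false

namespace H2.TD
open Subgroup H29.TD H29.TD.Dc
open H25 hiding Md tr fx
open H8.PU hiding Bo N2 SY S2 Wt sz Ac2 Co sn n1_ap card_K Fx LH Opp Md n1 Tr2 G2 Dg MD AV Wy L2 TR
universe u v
variable {K : Type v} [Field K] [Finite K] {σ : K →+* K} [TV σ] {p : ℕ} [Fact p.Prime] [CharP K p]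
  {G : Subgroup (AV σ)} {g g' j : AV σ} {x y z x0 : V σ} {τ τ' k l : K} {φ : K ≃+* K}

/-- proportional vectors -/
def Pr (x y : V σ) : Prop := ∃ c : Fx σ, c ≠ 0 ∧ x = c • y
theorem Pr.refl (x : V σ) : Pr x x := ⟨1, one_ne_zero, (one_smul _ x).symm⟩
theorem Pr.symm (h : Pr x y) : Pr y x := let ⟨c, c0, e⟩ := h; ⟨c⁻¹, inv_ne_zero c0, by rw [e, inv_smul_smul₀ c0]⟩
theorem Pr.trans (h : Pr x y) (h' : Pr y z) : Pr x z :=
  let ⟨c, c0, e⟩ := h; let ⟨d, d0, f⟩ := h'; ⟨c * d, mul_ne_zero c0 d0, by rw [e, f, mul_smul]⟩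
theorem Pr.map (h : Pr x y) (g : AV σ) : Pr (g x) (g y) := let ⟨c, c0, e⟩ := h; ⟨c, c0, by rw [e, map_smul]⟩
theorem pr_of {c : Fx σ} (h : x ≠ 0) (e : x = c • y) : Pr x y := ⟨c, fun k => h (by rw [e, k, zero_smul]), e⟩
theorem Pr.fi (h : Pr (g x) x) : Fi g x := let ⟨c, _, e⟩ := h; ⟨c, e⟩
theorem ap_ne (h : x ≠ 0) (g : AV σ) : g x ≠ 0 := g.map_ne_zero_iff.2 h
theorem fi_pr (h : x ≠ 0) (f : Fi g x) : Pr (g x) x := let ⟨_, e⟩ := f; pr_of (ap_ne h g) e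
theorem e0_ne : (e0 : V σ) ≠ 0 := by simp [e0]
theorem bo_pr (h : Bo g) : Pr (g e0) e0 := fi_pr e0_ne h
theorem Pr.inv (h : Pr (g x) y) : Pr (g⁻¹ y) x := by simpa only [inv_ap] using (h.map g⁻¹).symm
theorem bo_inv (h : Bo g) : Bo g⁻¹ := (bo_pr h).inv.fi
theorem bo_mul (h : Bo g) (h' : Bo g') : Bo (g * g') := (((bo_pr h').map g).trans (bo_pr h)).fi
theorem tv_e0 (τ : K) : tv τ (e0 : V σ) = e0 := by vs [tv_ap, e0]
theorem bo_tv (τ : K) : Bo (tv τ : AV σ) := ⟨1, by rw [tv_e0, one_smul]⟩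
theorem bo_iff : Bo g ↔ ((g e0).1 : K) = 0 ∧ (g e0).2.1 = 0 ∧ (g e0).2.2.1 = 0 :=
  ⟨fun ⟨c, e⟩ => by rw [e]; vs [e0], fun ⟨a, b, c⟩ => ⟨(g e0).2.2.2, by generalize g e0 = x at *; vs [e0, a, b, c]⟩⟩
theorem tv_pow (τ : K) (n : ℕ) : (tv τ : AV σ) ^ n = tv (n * τ) := by
  induction n with
  | zero => simp [tv_zero]
  | succ n ih => rw [pow_succ, ih, ← tv_add]; congr 1; push_cast; ring
theorem tv_p (τ : K) : (tv τ : AV σ) ^ p = 1 := by rw [tv_pow, CharP.cast_eq_zero, zero_mul, tv_zero]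
theorem om_e0 (x : V σ) : om x e0 = x.1 := by vs [om, e0]
theorem om_smul (c d : Fx σ) (x y : V σ) : om (c • x) (d • y) = c * d * om x y := by vs [om]; ring

namespace LH'
variable (h : LH p G)
include h
theorem tvG (τ : K) : tv τ ∈ G := h.syl.le ⟨τ, rfl⟩
theorem cjt (hg : g ∈ G) (b : Bo g) (τ : K) : g * tv τ * g⁻¹ ∈ TT σ := by
  obtain ⟨a, k, l, φ, -, -, hl, d⟩ := h.bor g hg b
  have e := d.cj hl τ
  refine ⟨k * φ τ, ?_⟩
  rw [mul_inv_eq_iff_eq_mul, ← mul_inv_cancel_left (tv a) (g * _), ← mul_assoc _ g, e, ← mul_assoc, ← mul_assoc, ← tv_add,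
    add_comm, tv_add, mul_inv_cancel_right]
/-- transport of orthogonality -/
theorem orth (hg : g ∈ G) (e : om x (g e0) = 0) : ((g⁻¹ x).1 : K) = 0 := by
  obtain ⟨μ, -, f⟩ := h.fm _ (inv_mem hg)
  rw [← om_e0, ← inv_ap g e0, f, e, mul_zero]
end LH'
open LH'

theorem fi_bo (f : Fi (tv τ) (g e0)) : Bo (g⁻¹ * tv τ * g) := by
  have := (fi_pr (ap_ne e0_ne g) f).map g⁻¹
  rw [inv_ap] at this
  exact Pr.fi this
theorem bo_fi (f : Bo (g⁻¹ * tv τ * g)) : Fi (tv τ) (g e0) := by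
  have := (bo_pr f).map g
  rw [mul_ap, mul_ap, ap_inv] at this
  exact this.fi

theorem l0 : L0 σ p := fun G h g hg τ τ0 f => by
  have b := fi_bo f
  have m : g⁻¹ * tv τ * g ∈ G := mul_mem (mul_mem (inv_mem hg) (tvG h τ)) hg
  have n : G ⊓ nz (TT σ) ≤ nz (TT σ) := inf_le_right
  have := (h.syl.mono_right (le_inf h.syl.le (le_nz_self _)) inf_le_left).mem_of_pel n
    ⟨m, le_nz_iff.2 (fun a ha t ht => ?_) (mem_zpowers _)⟩ ⟨1, ?_⟩
  · simpa using bo_inv (h.ti _ (inv_mem hg) τ τ0 (by rwa [inv_inv]))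
  · have : zpowers (g⁻¹ * tv τ * g) ≤ G ⊓ (⟨⟨⟨{a | Bo a}, bo_mul⟩, ⟨1, by rw [one_smul]; rfl⟩⟩, bo_inv⟩ : Subgroup (AV σ)) :=
      zpowers_le.2 ⟨m, b⟩
    obtain ⟨c, rfl⟩ := ht
    exact cjt h (this ha).1 (this ha).2 c
  · rw [pow_one, show g⁻¹ * tv τ * g = g⁻¹ * tv τ * g⁻¹⁻¹ by rw [inv_inv], conj_pow, tv_p]; simp

theorem claim0 (f : Fr G) (hg : g ∈ G) (n : ¬ Bo g) (u0 : ((g e0).1 : K) = 0) : (g e0).2.1 ≠ 0 := fun s0 => by
  obtain ⟨τ, τ0, e, -⟩ := ex_perp (σ := σ) (g e0).2.2.1 0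
  refine n (f g hg τ τ0 ⟨1, ?_⟩)
  generalize g e0 = x at *
  rw [mul_comm] at e
  vs [tv_ap, u0, s0] at e ⊢
  rw [e, add_zero]

theorem l1a : L1a σ p := fun p2 G h f g hg n u0 => by
  have h2 : (2 : K) = 0 := by simpa [p2] using CharP.cast_eq_zero K p
  have line : ∀ g ∈ G, ¬ Bo g → ((g e0).1 : K) = 0 → ∃ g' ∈ G, g' e0 = g e0 - e0 := fun g hg n u0 => by
    have s0 := claim0 f hg n u0
    have q := h.sq p2 g hg e0 (by vs [qf, e0])
    obtain ⟨d, hd⟩ : ∃ d : K, d * d = (nm σ (g e0).2.1)⁻¹ := by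
      have : CharP K 2 := p2 ▸ inferInstance
      obtain ⟨d, e⟩ := (bijective_frobenius K 2).2 (nm σ (g e0).2.1)⁻¹
      exact ⟨d, by rw [← e, frobenius_def, sq]⟩
    have sd : σ d = d := by
      have : (σ d - d) ^ 2 = 0 := by
        have := congrArg σ hd
        rw [map_mul, map_inv₀, s_nm, ← hd] at this
        linear_combination this + (d * d - σ d * d) * h2
      exact sub_eq_zero.1 (pow_eq_zero_iff two_ne_zero |>.1 this)
    have e := mul_inv_cancel₀ (nm0 (σ := σ) s0)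
    rw [← hd] at e
    refine ⟨tv (d * (g e0).2.1) * g, mul_mem (tvG h _) hg, ?_⟩
    rw [mul_ap]
    generalize g e0 = x at *
    vs [tv_ap, qf, u0, sd, e0] at q e ⊢
    refine ⟨by linear_combination (d * σ x.2.1 * σ (σ x.2.1)) * h2, ?_⟩
    linear_combination -d * q + 3 * e + 2 * h2
  replace u0 : ((g e0).1 : K) = 0 := by simp [u0]
  have s0 := claim0 f hg n u0
  obtain ⟨a, ha⟩ := ex_ne σ
  have c0 : cr σ ((g e0).2.1 * a) (g e0).2.1 ≠ 0 := fun e => by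
    obtain ⟨c, hc, e⟩ := cr0' s0 ((cr_comm _ _).trans e)
    rw [mul_comm c] at e
    exact ha (by rw [mul_left_cancel₀ s0 e, hc])
  have τ0 : (g e0).2.1 * a ≠ 0 := fun e => c0 (by rw [e]; fs []; ring)
  generalize (g e0).2.1 * a = τ at c0 τ0
  have m : g⁻¹ * tv τ * g ∈ G := mul_mem (mul_mem (inv_mem hg) (tvG h τ)) hg
  obtain ⟨g', hg', e⟩ := line _ m (fun b => n (f g hg τ τ0 (bo_fi b))) (orth h hg (x := tv τ (g e0)) (by
    generalize g e0 = x at *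
    vs [om, tv_ap, u0]
    linear_combination (σ x.2.1 * σ (σ x.2.1) * τ + x.2.1 * σ (σ x.2.1) * σ τ + x.2.1 * σ x.2.1 * σ (σ τ)) * h2))
  have e' : (g * g') e0 = tv τ (g e0) - g e0 := by rw [mul_ap, e, map_sub, mul_ap, mul_ap, ap_inv]
  refine claim0 f (mul_mem hg hg') (fun b => c0 ?_) ?_ ?_
  · have := (bo_iff.1 b).2.2
    rw [e'] at this
    generalize g e0 = x at *
    vs [tv_ap, u0] at this ⊢
    linear_combination this
  · rw [e']; vs [tv_ap, sub_self]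
  · rw [e']; vs [tv_ap, u0, sub_self]

theorem l2 : L2 σ p := fun G h o => by
  have nor : ∀ g ∈ G, ¬ Bo g → ∃ τ, ∃ y : V σ, y.1 = 1 ∧ y.2.1 = 0 ∧ Pr (g e0) (tv τ y) := fun g hg n => by
    have u0 := o g hg n
    have u0' : ((g e0).1 : K) ≠ 0 := by simpa using u0
    refine ⟨(g e0).2.1 / (g e0).1, (g e0).1⁻¹ • tv (-((g e0).2.1 / (g e0).1)) (g e0), ?_, ?_, (g e0).1, u0, ?_⟩
    · exact inv_mul_cancel₀ u0
    · vs [tv_ap]; field_simp; ring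
    · rw [map_smul, smul_inv_smul₀ u0, ← mul_ap, ← tv_add, add_neg_cancel, tv_zero, one_ap]
  have sh : ∀ {g : AV σ} {τ : K} {y : V σ}, Pr (g e0) (tv τ y) → Pr ((tv (-τ) * g : AV σ) e0) y := fun {g τ y} e => by
    have := e.map (tv (-τ)); rwa [← tv_inv, inv_ap, tv_inv] at this
  obtain ⟨g, hg, n⟩ := h.ne
  obtain ⟨τ, x, x1, x2, e⟩ := nor g hg n
  obtain ⟨c, c0, e⟩ := sh e
  have m := mul_mem (tvG h (-τ)) hg
  generalize tv (-τ) * g = g at e m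
  refine ⟨x, x1, x2, ⟨g, m, c, e⟩, fun g' hg' => or_iff_not_imp_left.2 fun n' => ?_⟩
  obtain ⟨τ, y, y1, y2, e'⟩ := nor g' hg' n'
  suffices y = x from let ⟨c, _, e⟩ := e'; ⟨τ, c, this ▸ e⟩
  obtain ⟨c', c0', e'⟩ := sh e'
  have m' := mul_mem (tvG h (-τ)) hg'
  generalize tv (-τ) * g' = g' at e' m'
  obtain ⟨a, ha⟩ := nm_onto (σ := σ) (x.2.2.1 + y.2.2.1) (d := x.2.2.2 - y.2.2.2) (by fs [])
  have b : Bo (g⁻¹ * tv a * g') := by_contra fun n => o _ (mul_mem (mul_mem (inv_mem m) (tvG h a)) m') n (Subtype.ext (by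
    refine orth h m (x := tv a (g' e0)) ?_
    rw [e, e', map_smul, om_smul]
    refine mul_eq_zero_of_right _ ?_
    vs [om, tv_ap, x1, x2, y1, y2] at ha ⊢
    linear_combination -ha))
  have := (bo_pr b).map g
  rw [mul_ap, mul_ap, ap_inv, e, e', map_smul] at this
  obtain ⟨d, -, k⟩ := ((Pr.symm ⟨c', c0', rfl⟩).trans this).trans ⟨c, c0, rfl⟩
  have k1 := congrArg (fun x : V σ => (x.1 : K)) k
  have k2 := congrArg (fun x : V σ => x.2.1) k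
  vs [tv_ap, x1, x2, y1, y2] at k1 k2
  rw [k2, tv_zero, one_ap, show d = 1 from Subtype.ext k1.symm, one_smul] at k
  exact k

end H2.TD
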