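/-
Fusion systems on a Sylow `p`-subgroup of `³D₄(q)`: involutions on the points and the diagonal elements.
-/
import Cfsg.Agent.H2.TD1

set_option autoImplicit false
set_option linter.unusedSectionVars false
set_option linter.unusedSimpArgs false

namespace H2.TD
open Subgroup H29.TD H29.TD.Dc
open H25 hiding Md tr fx
open H8.PU hiding Bo N2 SY S2 Wt sz Ac2 Co sn n1_ap card_K Fx LH Opp Md n1 Tr2 G2 Dg MD AV Wy L2 TR
open LH'
universe u v
variable {K : Type v} [Field K] [Finite K] {σ : K →+* K} [TV σ] {p : ℕ} [Fact p.Prime] [CharP K p]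
  {G : Subgroup (AV σ)} {g g' j : AV σ} {x y z x0 : V σ} {τ τ' k l k' l' : K} {φ φ' : K ≃+* K}

theorem dg_ext (h : Dg g k l φ) (h' : Dg g' k l φ) : g = g' := LinearEquiv.ext fun x =>
  V.ext ((h x).1.trans (h' x).1.symm) ((h x).2.1.trans (h' x).2.1.symm) ((h x).2.2.1.trans (h' x).2.2.1.symm)
    ((h x).2.2.2.trans (h' x).2.2.2.symm)
theorem dg_bo (h : Dg g k l φ) : Bo g := bo_iff.2 (by vs [h _, e0])

namespace T2'
variable (t : Tr2 G x0)
include t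
theorem u1 : (x0.1 : K) = 1 := by rw [t.1]; rfl
theorem p1 (τ : K) : ((tv τ x0).1 : K) = 1 := (u1 t :)
theorem p2 (τ : K) : (tv τ x0).2.1 = τ := by vs [tv_ap, u1 t, t.2.1]
theorem ne (τ : K) : tv τ x0 ≠ 0 := fun e => by simpa [e] using p1 t τ
theorem ne0 : x0 ≠ 0 := fun e => by simpa [e] using u1 t
theorem inj (h : Pr (tv τ x0) (tv τ' x0)) : τ = τ' := by
  obtain ⟨c, -, e⟩ := h
  have k1 := congrArg (fun x : V σ => (x.1 : K)) e
  have k2 := congrArg (fun x : V σ => x.2.1) e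
  vs [p1 t, p2 t] at k1 k2
  rw [k2, ← k1, one_mul]
theorem nb (h : Pr (g e0) (tv τ x0)) : ¬ Bo g := fun b => by
  obtain ⟨c, c0, e⟩ := h
  have := (bo_iff.1 b).1
  vs [e, p1 t] at this
  exact c0 (Subtype.ext this)
theorem ex : ∃ g ∈ G, Pr (g e0) x0 := let ⟨g, hg, _, e⟩ := t.2.2.1; ⟨g, hg, pr_of (ap_ne e0_ne g) e⟩
theorem pt (hg : g ∈ G) : Bo g ∨ ∃ τ, Pr (g e0) (tv τ x0) :=
  (t.2.2.2 g hg).imp_right fun ⟨τ, _, e⟩ => ⟨τ, pr_of (ap_ne e0_ne g) e⟩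
variable (h : LH p G)
include h
theorem pt' (hg : g ∈ G) (τ : K) : Pr (g (tv τ x0)) e0 ∨ ∃ τ', Pr (g (tv τ x0)) (tv τ' x0) := by
  obtain ⟨g0, h0, e⟩ := ex t
  have e := ((e.map (tv τ)).map g).symm
  exact (pt t (mul_mem (mul_mem hg (tvG h τ)) h0)).imp (fun b => e.trans (bo_pr b)) fun ⟨a, f⟩ => ⟨a, e.trans f⟩
theorem dgx (hg : g ∈ G) (d : Dg g k l φ) : Pr (g x0) x0 := by
  rcases pt' t h hg 0 with e | ⟨τ, e⟩ <;> rw [tv_zero, one_ap] at e
  · exact (nb t (τ := 0) (by rw [tv_zero, one_ap]; exact e.inv) (bo_inv (dg_bo d))).elim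
  obtain ⟨c, c0, f⟩ := id e
  have k2 := congrArg (fun x : V σ => x.2.1) f
  vs [(d _).2.1, p2 t, t.2.1] at k2
  rwa [(mul_eq_zero.1 k2.symm).resolve_left (by simpa using c0), tv_zero, one_ap] at e
theorem dgp (hg : g ∈ G) (d : Dg g k l φ) (hl : σ l = l) (τ : K) : Pr (g (tv τ x0)) (tv (k * φ τ) x0) := by
  rw [← mul_ap, d.cj hl, mul_ap]; exact (dgx t h hg d).map _
theorem dg_of (hg : g ∈ G) (b : Bo g) (f : Pr (g x0) x0) : ∃ k l φ, k ≠ 0 ∧ l ≠ 0 ∧ σ l = l ∧ Dg g k l φ := by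
  obtain ⟨a, k, l, φ, k0, l0, hl, d⟩ := h.bor g hg b
  have e := (dgx t h (mul_mem (inv_mem (tvG h a)) hg) d).map (tv a)
  rw [mul_ap, ap_inv] at e
  have : a = 0 := inj t (by rw [tv_zero, one_ap]; exact e.symm.trans f)
  rw [this, tv_zero, inv_one, one_mul] at d
  exact ⟨k, l, φ, k0, l0, hl, d⟩
end T2'
open T2'

theorem l3a : L3a σ p := fun G x0 h t τ τ0 => by
  obtain ⟨g0, h0, e0'⟩ := ex t
  obtain ⟨ζ, hζ, d⟩ := h.tt
  have ζζ : ζ * ζ = 1 := LinearEquiv.ext fun x => by vs [mul_ap, one_ap, d _, RingEquiv.refl_apply]; cg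
  have ζp : ∀ a, Pr (ζ (tv a x0)) (tv (-a) x0) := fun a => by simpa using dgp t h hζ d (map_one σ) a
  have m := mul_mem (tvG h τ) h0
  have e : Pr ((tv τ * g0 : AV σ) e0) (tv τ x0) := e0'.map (tv τ)
  generalize tv τ * g0 = g at m e
  obtain ⟨τ1, e1⟩ := (pt t (inv_mem m)).resolve_left fun b => nb t e (by simpa using bo_inv b)
  obtain ⟨τ2, e2⟩ := (pt' t h (inv_mem m) 0).resolve_left fun f => τ0 (inj t (e.symm.trans (by simpa using f.inv)))
  rw [tv_zero, one_ap] at e2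
  have n12 : τ1 ≠ τ2 := fun k => nb t (g := 1) (τ := 0) (by
    have := (e1.trans (k ▸ e2.symm)).map g
    rwa [ap_inv, ap_inv, ← one_ap x0, ← tv_zero] at this) ⟨1, by rw [one_smul]; rfl⟩
  have tp : ∀ a, Pr ((tv (τ1 + τ2) * ζ : AV σ) (tv a x0)) (tv (τ1 + τ2 - a) x0) := fun a => by
    rw [sub_eq_add_neg, tv_add (τ1 + τ2)]; exact (ζp a).map (tv (τ1 + τ2))
  have tt : tv (τ1 + τ2) * ζ * (tv (τ1 + τ2) * ζ) = 1 := by
    rw [mul_assoc, ← mul_assoc ζ, d.cj (map_one σ), mul_assoc, ζζ, mul_one, ← tv_add]; simp [tv_zero]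
  have tb : Bo (tv (τ1 + τ2) * ζ : AV σ) := bo_mul (bo_tv _) (dg_bo d)
  have mt := mul_mem (tvG h (τ1 + τ2)) hζ
  generalize tv (τ1 + τ2) * ζ = s at tp tt tb mt
  have fx : ∀ a, a ≠ τ → Fi (g * s * g⁻¹) (tv a x0) → ∃ b, Pr (g⁻¹ (tv a x0)) (tv b x0) ∧ τ1 + τ2 - b = b := fun a n f => by
    obtain ⟨b, k⟩ := (pt' t h (inv_mem m) a).resolve_left fun f => n (inj t (e.symm.trans (by simpa using f.inv))).symm
    have := (fi_pr (ne t a) f).map g⁻¹
    rw [mul_ap, mul_ap, inv_ap] at this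
    exact ⟨b, k, inj t ((tp b).symm.trans ((k.map s).symm.trans (this.trans k)))⟩
  refine ⟨g * s * g⁻¹, mul_mem (mul_mem m mt) (inv_mem m), by rw [conj_mul, tt, mul_one, mul_inv_cancel], ?_, ?_, ?_⟩
  · have := (((e1.map s).trans (tp τ1)).trans (by rw [add_sub_cancel_left]; exact e2.symm)).map g
    rw [ap_inv] at this
    exact let ⟨c, _, e⟩ := this; ⟨c, e⟩
  · exact Pr.fi ((((e.inv.map s).trans (bo_pr tb)).map g).trans e)
  by_cases k : ∃ a, a ≠ τ ∧ Fi (g * s * g⁻¹) (tv a x0)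
  · obtain ⟨a, n, f⟩ := k
    refine ⟨a, fun a' f' => or_iff_not_imp_left.2 fun n' => ?_⟩
    obtain ⟨b, k, r⟩ := fx a n f
    obtain ⟨b', k', r'⟩ := fx a' n' f'
    have : b' = b := by
      by_cases h2 : (2 : K) = 0
      · exact (n12 (by linear_combination r + (b - τ2) * h2)).elim
      · exact mul_left_cancel₀ h2 (by linear_combination r - r')
    have := (k'.trans (this ▸ k.symm)).map g
    rw [ap_inv, ap_inv] at this
    exact inj t this
  · exact ⟨τ, fun a f => .inl (by_contra fun n => k ⟨a, n, f⟩)⟩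

theorem dg_div (h : Dg g k l φ) (h' : Dg g' k' l' φ') (e : ∀ x, φ x = φ' x) (k0 : k' ≠ 0) (l0 : l' ≠ 0) :
    Dg (g * g'⁻¹) (k / k') (l / l') (.refl K) := fun x => by
  obtain ⟨y, rfl⟩ := g'.surjective x
  have a := sn (σ := σ) k0
  have b := sn (σ := σ) a
  rw [mul_ap, inv_ap]
  vs [h _, h' _, e, RingEquiv.refl_apply]
  refine ⟨?_, ?_, ?_, ?_⟩ <;> field_simp

theorem arith (q : ℕ) (h : 1 < q) : Nat.gcd (3 * (q - 1)) (q ^ 3 - 1) * 2 * 3 < q ^ 3 - 1 := by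
  obtain ⟨n, rfl⟩ : ∃ n, q = n + 2 := ⟨q - 2, by omega⟩
  rcases n with _ | _ | n
  · decide
  · decide
  have := Nat.gcd_le_left (m := 3 * (n + 1 + 1 + 2 - 1)) ((n + 1 + 1 + 2) ^ 3 - 1) (by omega)
  have e : (n + 1 + 1 + 2) ^ 3 = n ^ 3 + 12 * n ^ 2 + 48 * n + 64 := by ring
  omega

theorem l3b : L3b σ p := fun G x0 h t jj => by
  classical
  by_contra n
  choose! j jG j2 je jf τ' jt using jj
  have je' : ∀ τ, τ ≠ 0 → Pr (j τ e0) x0 := fun τ τ0 => let ⟨_, e⟩ := je τ τ0; pr_of (ap_ne e0_ne _) e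
  have ji : ∀ τ, τ ≠ 0 → (j τ)⁻¹ = j τ := fun τ τ0 => inv_eq_of_mul_eq_one_right (j2 τ τ0)
  have jx : ∀ τ, τ ≠ 0 → Pr (j τ x0) e0 := fun τ τ0 => ji τ τ0 ▸ (je' τ τ0).inv
  have mG : ∀ τ, τ ≠ 0 → j τ * j 1 ∈ G := fun τ τ0 => mul_mem (jG τ τ0) (jG 1 one_ne_zero)
  have dd : ∀ τ, τ ≠ 0 → ∃ k l φ, k ≠ 0 ∧ l ≠ 0 ∧ σ l = l ∧ Dg (j τ * j 1) k l φ := fun τ τ0 =>
    dg_of t h (mG τ τ0) (Pr.fi (((je' 1 one_ne_zero).map _).trans (jx τ τ0))) (((jx 1 one_ne_zero).map _).trans (je' τ τ0))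
  have : Nonempty (K ≃+* K) := ⟨.refl K⟩
  choose! k l φ k0 l0 hl d using dd
  have := Fintype.ofFinite K
  set q := Nat.card (Fx σ) with hq
  have q1 : 1 < q := one_lt σ
  set m := Nat.gcd (3 * (q - 1)) (q ^ 3 - 1) with hm
  have m0 : 0 < m := Nat.gcd_pos_of_pos_left _ (by omega)
  have cK : Fintype.card K = q ^ 3 := by rw [← Nat.card_eq_fintype_card, card_K (σ := σ)]
  obtain ⟨ψ, -, c1⟩ := Finset.exists_lt_card_fiber_of_mul_lt_card_of_maps_to (s := Finset.univ.erase (0 : K))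
    (t := ({fun x => x, fun x => σ x, fun x => σ (σ x)} : Finset (K → K))) (f := fun τ => (φ τ : K → K)) (n := m * 2) (fun τ hτ => by
      have τ0 := Finset.ne_of_mem_erase hτ
      rcases gal (σ := σ) (φ τ) fun c hc => (d τ τ0).fix (l0 τ τ0) hc with e | e | e <;> simp [funext e]) (by
      rw [Finset.card_erase_of_mem (Finset.mem_univ _), Finset.card_univ, cK]
      exact ((Nat.mul_le_mul_right _ Finset.card_le_three).trans_eq (mul_comm _ _)).trans_lt (arith q q1))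
  set C := Finset.filter (fun τ => (φ τ : K → K) = ψ) (Finset.univ.erase (0 : K)) with hC
  have mC : ∀ τ ∈ C, τ ≠ 0 ∧ (φ τ : K → K) = ψ := fun τ hτ =>
    ⟨Finset.ne_of_mem_erase (Finset.mem_filter.1 hτ).1, (Finset.mem_filter.1 hτ).2⟩
  obtain ⟨b, hb⟩ := Finset.card_pos.1 (lt_of_le_of_lt (Nat.zero_le _) c1)
  have dv : ∀ a ∈ C, ∀ b ∈ C, Dg (j a * j 1 * (j b * j 1)⁻¹) (k a / k b) (l a / l b) (.refl K) := fun a ha b hb =>
    dg_div (d a (mC a ha).1) (d b (mC b hb).1) (congrFun ((mC a ha).2.trans (mC b hb).2.symm)) (k0 b (mC b hb).1)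
      (l0 b (mC b hb).1)
  obtain ⟨κ, -, c2⟩ := Finset.exists_lt_card_fiber_of_mul_lt_card_of_maps_to (s := C)
    (t := (Polynomial.nthRoots m (1 : K)).toFinset) (f := fun τ => k τ / k b) (n := 2) (fun a ha => by
      have a0 := (mC a ha).1
      have b0 := (mC b hb).1
      have κ0 := div_ne_zero (k0 a a0) (k0 b b0)
      have e : σ ((k a / k b) ^ 3) = (k a / k b) ^ 3 := by_contra fun e => n ⟨_, mul_mem (mG a a0) (inv_mem (mG b b0)), _, _, κ0,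
        div_ne_zero (l0 a a0) (l0 b b0), by rw [map_div₀, hl a a0, hl b b0], e, dv a ha b hb⟩
      rw [Multiset.mem_toFinset, Polynomial.mem_nthRoots m0, hm, pow_gcd_eq_one]
      refine ⟨?_, cK ▸ FiniteField.pow_card_sub_one_eq_one _ κ0⟩
      rw [TV.pw, ← hq, show q = q - 1 + 1 by omega, pow_succ] at e
      rw [pow_mul]; exact mul_right_cancel₀ (pow_ne_zero 3 κ0) (e.trans (one_mul _).symm))
    (((Nat.mul_le_mul_right _ ((Multiset.toFinset_card_le _).trans (Polynomial.card_nthRoots m 1)))).trans_lt c1)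
  obtain ⟨a1, h1, a2, h2, a3, h3, n12, n13, n23⟩ := Finset.two_lt_card.1 c2
  have key : ∀ a ∈ C.filter fun τ => k τ / k b = κ, Fi (j a1) (tv a x0) := fun a ha => by
    have ⟨ha, ea⟩ := Finset.mem_filter.1 ha
    have ⟨h1, e1⟩ := Finset.mem_filter.1 h1
    have a0 := (mC a ha).1
    have := dgp t h (mul_mem (mG a1 (mC a1 h1).1) (inv_mem (mG a a0))) (dv a1 h1 a ha)
      (by rw [map_div₀, hl a a0, hl a1 (mC a1 h1).1]) a
    rw [(div_left_inj' (k0 b (mC b hb).1)).1 (e1.trans ea.symm), div_self (k0 a a0), one_mul, mul_inv_rev, mul_assoc,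
      mul_inv_cancel_left, mul_ap, ji a a0] at this
    exact Pr.fi (((fi_pr (ne t a) (jf a a0)).map _).symm.trans this)
  have a0 := (mC a1 (Finset.mem_filter.1 h1).1).1
  rcases jt a1 a0 a2 (key a2 h2) with e | e
  · exact n12 e.symm
  rcases jt a1 a0 a3 (key a3 h3) with e' | e'
  exacts [n13 e'.symm, n23 (e.trans e'.symm)]

end H2.TD
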