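/-
Fusion systems on a Sylow `p`-subgroup of `³D₄(q)`: the case `q = 2`.
-/
import Cfsg.Agent.H29.TD3

set_option autoImplicit false
set_option linter.unusedSectionVars false
set_option linter.unusedSimpArgs false

namespace H2.TD
open Subgroup H29.TD H29.TD.Dc
open H25 hiding Md tr fx
open H8.PU hiding Bo N2 SY S2 Wt sz Ac2 Co sn n1_ap card_K Fx LH Opp Md n1 Tr2 G2 Dg MD AV Wy L2 TR
open Equiv (Perm)
universe u v

section dih
variable {H : Type*} [Group H] [Finite H] {T X : Subgroup H} {a b : H}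

theorem dih (ha : a * a = 1) (hb : b * b = 1) :
    (∃ c, c * b * c⁻¹ = a) ∨ ∃ z, z ≠ 1 ∧ z * z = 1 ∧ a * z = z * a ∧ b * z = z * b := by
  have k : ∀ n : ℕ, b * (a * b) ^ n = ((a * b) ^ n)⁻¹ * b := fun n => by
    have : b * (a * b) * b⁻¹ = (a * b)⁻¹ := by
      rw [mul_inv_rev, inv_eq_of_mul_eq_one_right ha, inv_eq_of_mul_eq_one_right hb, mul_assoc, mul_assoc, hb, mul_one]
    rw [← inv_pow, ← this, conj_pow]; group
  have o := pow_orderOf_eq_one (a * b)
  rcases Nat.even_or_odd (orderOf (a * b)) with ⟨m, e⟩ | ⟨m, e⟩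
  · have z2 : (a * b) ^ m * (a * b) ^ m = 1 := by rw [← pow_add, ← e, o]
    have bz := k m
    rw [inv_eq_of_mul_eq_one_right z2] at bz
    have p := orderOf_pos (a * b)
    refine .inr ⟨_, pow_ne_one_of_lt_orderOf (n := m) (by omega) (by omega), z2, ?_, bz⟩
    have : a * b * (a * b) ^ m = (a * b) ^ m * (a * b) := by rw [← pow_succ, pow_succ']
    rw [mul_assoc, bz, ← mul_assoc, ← mul_assoc] at this
    exact mul_right_cancel this
  · refine .inl ⟨(a * b) ^ (m + 1), ?_⟩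
    have := k (m + 1)
    rw [mul_assoc, show b * ((a * b) ^ (m + 1))⁻¹ = (a * b) ^ (m + 1) * b by
      rw [mul_inv_eq_iff_eq_mul, mul_assoc, this, mul_inv_cancel_left], ← mul_assoc, ← pow_add,
      show m + 1 + (m + 1) = 2 * m + 1 + 1 by ring, pow_succ, ← e, o, one_mul, mul_assoc, hb, mul_one]

theorem pg2 (ha : a * a = 1) (hb : b * b = 1) (c : a * b = b * a) : IsPGroup 2 (closure ({a, b} : Set H)) := fun x => ⟨1, by
  obtain ⟨x, hx⟩ := x
  refine Subtype.ext (show x ^ 2 ^ 1 = 1 from ?_)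
  have : (x * x = 1 ∧ Commute x a ∧ Commute x b) := by
    refine closure_induction_left (p := fun x _ => x * x = 1 ∧ Commute x a ∧ Commute x b) ⟨mul_one 1, by simp, by simp⟩ ?_ ?_ hx
    all_goals rintro y (rfl | rfl) x - ⟨h1, h2, h3⟩
    · exact ⟨by rw [mul_assoc, ← mul_assoc x, h2, mul_assoc, h1, mul_one, ha], (Commute.refl _).mul_left h2, Commute.mul_left c h3⟩
    · exact ⟨by rw [mul_assoc, ← mul_assoc x, h3, mul_assoc, h1, mul_one, hb], Commute.mul_left c.symm h2, (Commute.refl _).mul_left h3⟩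
    · rw [inv_eq_of_mul_eq_one_right ha]
      exact ⟨by rw [mul_assoc, ← mul_assoc x, h2, mul_assoc, h1, mul_one, ha], (Commute.refl _).mul_left h2, Commute.mul_left c h3⟩
    · rw [inv_eq_of_mul_eq_one_right hb]
      exact ⟨by rw [mul_assoc, ← mul_assoc x, h3, mul_assoc, h1, mul_one, hb], Commute.mul_left c.symm h2, (Commute.refl _).mul_left h3⟩
  rw [pow_one, sq, this.1]⟩

theorem t2a (s : Syl 2 T ⊤) (el : ∀ t ∈ T, t * t = 1) (ne : ∃ g, g ∉ X)
    (ti : ∀ g, ∀ u ∈ T, u ≠ 1 → g * u * g⁻¹ ∈ T → g ∈ X) (ha : a ∈ T) (a1 : a ≠ 1) (hb : b ∈ T) (b1 : b ≠ 1) :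
    ∃ g ∈ nz T, g * a * g⁻¹ = b := by
  obtain ⟨g, ng⟩ := ne
  have : Fact (Nat.Prime 2) := ⟨Nat.prime_two⟩
  have mv : ∀ x y : H, x * x = 1 → y * y = 1 → x * y = y * x → ∃ h, h * x * h⁻¹ ∈ T ∧ h * y * h⁻¹ ∈ T := fun x y hx hy c =>
    let ⟨h, _, k⟩ := s.exists_cj_le (pg2 hx hy c) le_top
    ⟨h, cj_le.1 k x (subset_closure (by simp)), cj_le.1 k y (subset_closure (by simp))⟩
  have k : ∀ t ∈ T, t ≠ 1 → ∃ c, c * (g * a * g⁻¹) * c⁻¹ = t := fun t ht t1 => by
    have gg : g * a * g⁻¹ * (g * a * g⁻¹) = 1 := by rw [conj_mul, el a ha, mul_one, mul_inv_cancel]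
    refine (dih (el t ht) gg).resolve_right fun ⟨z, z1, zz, c1, c2⟩ => ng ?_
    obtain ⟨h, h1, h2⟩ := mv t z (el t ht) zz c1
    obtain ⟨k, k1, k2⟩ := mv _ z gg zz c2
    have m1 := ti h t ht t1 h1
    have m2 := ti (k * g) a ha a1 (by convert k1 using 1; group)
    have m3 := ti (k * h⁻¹) _ h2 (by simpa using z1) (by convert k2 using 1; group)
    exact (mul_mem_cancel_left ((mul_mem_cancel_right (inv_mem m1)).1 m3)).1 m2
  obtain ⟨c, e⟩ := k b hb b1
  have cm : ∀ x ∈ T, ∀ y ∈ T, x * y * x⁻¹ = y := fun x hx y hy => by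
    rw [mul_inv_eq_iff_eq_mul, ← inv_eq_of_mul_eq_one_right (el _ (mul_mem hx hy)), mul_inv_rev,
      inv_eq_of_mul_eq_one_right (el x hx), inv_eq_of_mul_eq_one_right (el y hy)]
  have pT : IsPGroup 2 T := fun x => ⟨1, Subtype.ext (by simpa [sq] using el x x.2)⟩
  have e' : c * g * a * (c * g)⁻¹ = b := by rw [← e]; group
  obtain ⟨d, hd, m⟩ := (s.mono_right (K := cz (zpowers b)) (fun x hx => mem_cz_zpowers.2 (cm x hx b hb)) le_top).exists_cj_le
    (X := cj (c * g) T) (pT.map _) (by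
      rw [← e', ← cj_zpowers, ← cj_cz]; exact cj_mono _ fun x hx => mem_cz_zpowers.2 (cm x hx a ha))
  rw [cj_cj] at m
  exact ⟨_, mem_nz_of_le m, by rw [cj_mul2, e', mem_cz_zpowers.1 hd]⟩
end dih

variable {K : Type v} [Field K] [Finite K] {σ : K →+* K} [TV σ] {Γ : Type u} [Group Γ] [Finite Γ]

theorem t2 : T2 Γ := fun S P A e n c sq u hu nu u' hu' nu' => by
  have : Fact (Nat.Prime 2) := ⟨Nat.prime_two⟩
  obtain ⟨X, t⟩ := e.ti
  have nN : ((ai P P).subgroupOf A).Normal := (normal_subgroupOf_iff' e.PA).2 e.An'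
  let π := QuotientGroup.mk' ((ai P P).subgroupOf A)
  have kr : π.ker ≤ (ai S P).subgroupOf A := by
    rw [QuotientGroup.ker_mk']; exact comap_mono (ai_mono e.le P)
  have mT : ∀ {Y : Subgroup Γ}, ai S P ≤ Y → ∀ a : A, π a ∈ (Y.subgroupOf A).map π ↔ a.1 ∈ Y := fun {Y} l a => by
    rw [← mem_comap, comap_map_eq_self (show π.ker ≤ Y.subgroupOf A from kr.trans (comap_mono l)), mem_subgroupOf]
  have o1 : ∀ a : A, π a = 1 ↔ a.1 ∈ ai P P := fun a => QuotientGroup.eq_one_iff a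
  have SA : ∀ s ∈ S, s ∈ A := fun s hs => e.mA hs (n hs)
  have sur := QuotientGroup.mk'_surjective ((ai P P).subgroupOf A)
  obtain ⟨g, hg, k⟩ := t2a (T := ((ai S P).subgroupOf A).map π) (X := (X.subgroupOf A).map π) (a := π ⟨u, SA u hu⟩)
    (b := π ⟨u', SA u' hu'⟩) ⟨le_top, by rw [relIndex_top_right, index_map_eq _ sur kr]; exact e.syl.2⟩
    (by
      rintro _ ⟨a, ha, rfl⟩
      have ha : a.1 ∈ ai S P := ha
      rw [ai_eq_sup, inf_eq_left.2 n, sup_comm] at ha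
      obtain ⟨z, hz, s, hs, k⟩ := (mem_sup_of_le_nz_left (n.trans (nz_le_nz_cz P))).1 ha
      rw [show π a = π ⟨s, SA s hs⟩ from by
        rw [eq_comm, ← mul_inv_eq_one, ← map_inv, ← map_mul, o1]
        show s * a.1⁻¹ ∈ _
        rw [← k]; simpa using cz_le_ai P P hz, ← map_mul, o1]
      exact le_ai_self P (by simpa [pow_two] using sq s hs))
    (by
      obtain ⟨g, hg, ng⟩ := SetLike.not_le_iff_exists.1 t.ne
      exact ⟨π ⟨g, hg⟩, mt (mT t.le _).1 ng⟩)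
    (fun g w hw w1 m => by
      obtain ⟨g, rfl⟩ := sur g
      obtain ⟨w, rfl⟩ := sur w
      rw [← map_inv, ← map_mul, ← map_mul] at m
      exact (mT t.le g).2 (t.ti g g.2 w ((mT le_rfl w).1 hw) (mt (o1 w).2 w1) ((mT le_rfl _).1 m)))
    ((mT le_rfl _).2 (mem_ai_of_mem hu (n hu))) (fun k => nu (e.mem hu ((o1 _).1 k)))
    ((mT le_rfl _).2 (mem_ai_of_mem hu' (n hu'))) (fun k => nu' (e.mem hu' ((o1 _).1 k)))
  obtain ⟨g, rfl⟩ := sur g
  refine ⟨g, g.2, mem_nz_of_conj_mem fun x hx => ?_, ?_⟩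
  · have := conj_mem_of_mem_nz hg ((mT le_rfl ⟨x, e.nA hx⟩).2 hx)
    rw [← map_inv, ← map_mul, ← map_mul] at this
    exact (mT le_rfl _).1 this
  · rw [← map_inv, ← map_mul, ← map_mul, eq_comm, ← inv_mul_eq_one, ← map_inv, ← map_mul] at k
    exact (o1 _).1 k

theorem f8 (cK : Nat.card K = 8) {E Y : Subgroup (Perm K)} (l : Y ≤ E) (add : ∀ e ∈ E, ∀ x y, e (x + y) = e x + e y)
    (mul : ∀ k : K, k ≠ 0 → ∃ e ∈ E, ∀ x, e x = k * x) (odd : ¬ 2 ∣ Nat.card Y) (tr : ∀ a : K, a ≠ 0 → ∃ y ∈ Y, y 1 = a) :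
    ∃ γ ∈ E, ∀ y ∈ Y, ∃ (k : K) (φ : K ≃+* K), k ≠ 0 ∧ ∀ x, (γ * y * γ⁻¹) x = k * φ x := by
  classical
  have := Fintype.ofFinite K
  have : Fact (Nat.Prime 7) := ⟨by norm_num⟩
  have : Fact (Nat.Prime 5) := ⟨by norm_num⟩
  have z : ∀ e ∈ E, e 0 = 0 := fun e he => by simpa using add e he 0 0
  have cP : ∀ Z : Subgroup (Perm K), Nat.card Z ∣ 40320 := fun Z => by
    have := Z.card_subgroup_dvd_card
    rwa [Nat.card_perm, cK] at this
  let W := (MulAction.toPermHom Kˣ K).range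
  have cW : Nat.card W = 7 := by
    rw [← Nat.card_congr (MonoidHom.ofInjective MulAction.toPerm_injective).toEquiv, Nat.card_units, cK]
  have WE : W ≤ E := by
    rintro _ ⟨k, rfl⟩
    obtain ⟨e, he, f⟩ := mul k k.ne_zero
    exact (Equiv.ext f : e = MulAction.toPermHom Kˣ K k) ▸ he
  have sW : Syl 7 W E := ⟨WE, fun d => by
    have := cP E
    rw [← Subgroup.card_mul_index (W.subgroupOf E), Nat.card_congr (subgroupOfEquivOfLe WE).toEquiv, cW] at this
    exact absurd ((Nat.mul_dvd_mul_left 7 d).trans this) (by norm_num)⟩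
  have d7 : 7 ∣ Nat.card Y := by
    have e : MulAction.orbit Y (1 : K) = {0}ᶜ := Set.ext fun a => ⟨by
      rintro ⟨y, rfl⟩ e
      exact one_ne_zero (y.1.injective ((show y.1 1 = 0 from e).trans (z _ (l y.2)).symm)),
      fun h => let ⟨y, hy, e⟩ := tr a h; ⟨⟨y, hy⟩, e⟩⟩
    have := (MulAction.stabilizer Y (1 : K)).index_dvd_card
    rwa [MulAction.index_stabilizer, e, Set.ncard_compl, cK, Set.ncard_singleton] at this
  have d5 : ¬ 5 ∣ Nat.card Y := fun d => by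
    obtain ⟨y, o⟩ := exists_prime_orderOf_dvd_card' 5 d
    have y5 : y.1 ^ 5 = 1 := by rw [← o]; exact congrArg Subtype.val (pow_orderOf_eq_one y)
    let F : AddSubgroup K :=
      { carrier := Function.fixedPoints y.1
        zero_mem' := z _ (l y.2)
        add_mem' := fun {a b} ha hb => (add _ (l y.2) a b).trans (by rw [ha, hb])
        neg_mem' := fun {a} ha => by
          have := add _ (l y.2) a (-a)
          rw [add_neg_cancel, z _ (l y.2), ha] at this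
          exact (neg_eq_of_add_eq_zero_right this.symm).symm }
    have h1 := F.card_addSubgroup_dvd_card
    have h2 := Equiv.Perm.card_fixedPoints_modEq (f := (y.1 : K → K)) (p := 5) (n := 1) (by
      rw [pow_one]; funext x; exact (congrFun (Equiv.Perm.coe_pow y.1 5) x).symm.trans (by rw [y5]; rfl))
    rw [← Nat.card_eq_fintype_card, ← Nat.card_eq_fintype_card, cK] at h2
    rw [cK] at h1
    have h3 : Nat.card F = 8 := by
      have h2 : 8 ≡ Nat.card F [MOD 5] := h2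
      have := Nat.le_of_dvd (by norm_num) h1
      unfold Nat.ModEq at h2
      interval_cases (Nat.card F) <;> omega
    have : y = 1 := Subtype.ext (Equiv.ext fun x => (F.eq_top_of_card_eq (h3.trans cK.symm)).ge (AddSubgroup.mem_top x))
    simp [this] at o
  obtain ⟨P⟩ : Nonempty (Sylow 7 Y) := inferInstance
  have d63 : Nat.card Y ∣ 63 := by
    have := cP Y
    rw [show 40320 = 2 ^ 7 * (5 * 63) by norm_num] at this
    exact ((Nat.Prime.coprime_iff_not_dvd (by norm_num)).2 d5).symm.dvd_of_dvd_mul_left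
      ((((Nat.Prime.coprime_iff_not_dvd Nat.prime_two).2 odd).symm.pow_right 7).dvd_of_dvd_mul_left this)
  have n7 : Nat.card (Sylow 7 Y) = 1 := by
    have h1 := (P.card_dvd_index.trans (index_dvd_card _)).trans d63
    have h2 := card_sylow_modEq_one 7 Y
    have := Nat.le_of_dvd (by norm_num) h1
    unfold Nat.ModEq at h2
    interval_cases (Nat.card (Sylow 7 Y)) <;> omega
  have := (Nat.card_eq_one_iff_unique.1 n7).1
  have nP := P.normal_of_subsingleton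
  obtain ⟨γ, hγ, m⟩ := sW.exists_cj_le (P.isPGroup'.map Y.subtype) ((map_subtype_le _).trans l)
  have e : cj γ (P.1.map Y.subtype) = W := eq_of_le_of_card_ge m (by
    rw [cW, card_cj, card_map_of_injective Y.subtype_injective]
    exact Nat.le_of_dvd Nat.card_pos (P.dvd_card_of_dvd_card d7))
  refine ⟨γ, hγ, fun y hy => ?_⟩
  have nW : γ * y * γ⁻¹ ∈ nz W := by
    rw [← e, ← cj_nz]
    refine conj_mem_cj γ (mem_nz_of_conj_mem ?_)
    rintro _ ⟨x, hx, rfl⟩
    exact ⟨_, nP.conj_mem x hx ⟨y, hy⟩, rfl⟩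
  have hE : γ * y * γ⁻¹ ∈ E := mul_mem (mul_mem hγ (l hy)) (inv_mem hγ)
  generalize γ * y * γ⁻¹ = h at nW hE
  have h1 : h 1 ≠ 0 := fun e => one_ne_zero (h.injective (e.trans (z h hE).symm))
  have mu : ∀ k x, h (k * x) * h 1 = h k * h x := fun k x => by
    by_cases k0 : k = 0
    · rw [k0, zero_mul, z h hE, zero_mul, zero_mul]
    obtain ⟨c, e⟩ := conj_mem_of_mem_nz nW (⟨Units.mk0 k k0, rfl⟩ : MulAction.toPermHom Kˣ K (Units.mk0 k k0) ∈ W)
    have f : ∀ x, h (k * x) = c * h x := fun x => by simpa [Units.smul_def] using (congrArg (fun g : Perm K => g (h x)) e).symm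
    have := f 1
    rw [mul_one] at this
    rw [f, this]; ring
  refine ⟨h 1, ⟨h.trans (Equiv.mulLeft₀ (h 1)⁻¹ (inv_ne_zero h1)), fun a b => ?_, fun a b => ?_⟩, h1, fun x => ?_⟩
  · show (h 1)⁻¹ * h (a * b) = (h 1)⁻¹ * h a * ((h 1)⁻¹ * h b)
    field_simp; rw [mul_comm, mu]
  · show (h 1)⁻¹ * h (a + b) = (h 1)⁻¹ * h a + (h 1)⁻¹ * h b
    rw [add h hE, mul_add]
  · show h x = h 1 * ((h 1)⁻¹ * h x)
    rw [mul_inv_cancel_left₀ h1]

theorem au2 : AU2 σ Γ := fun q2 S B ev h l s wt tr => by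
  let e : Dc σ ≃* S := MulEquiv.ofBijective (ev.codRestrict S h.mS)
    ⟨fun a b k => h.inj (congrArg Subtype.val k), fun w => let ⟨c, _, k⟩ := h.ex w.2; ⟨c, Subtype.ext k⟩⟩
  let Θ : nz S →* MulAut (Dc σ) := (MulAut.congr e.symm).toMonoidHom.comp S.normalizerMonoidHom
  have ev1 : ∀ (g : nz S) c, ev (Θ g c) = g * ev c * g⁻¹ := fun g c =>
    congrArg Subtype.val (e.apply_symm_apply (S.normalizerMonoidHom g (e c)))
  have th : ∀ (g : nz S) c c', g * ev c * g⁻¹ = ev c' → Θ g c = c' := fun g c c' k => h.inj ((ev1 g c).trans k)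
  have ka : ∀ (g : nz S) c, (Θ g c).a = (Θ g (xa c.a)).a := fun g c => by
    have : Θ g ((xa c.a)⁻¹ * c) ∈ Q1 σ := h.mm.1 (ev1 g _ ▸ conj_mem_of_mem_nz (h.gQ1 g.2) (h.mm.2 (by simp [mQ1])))
    rw [map_mul, map_inv, mQ1, mul_a, inv_a] at this
    linear_combination this
  let π : nz S →* Perm K := MonoidHom.toHomPerm
    { toFun := fun g a => (Θ g (xa a)).a
      map_one' := by funext a; simp; rfl
      map_mul' := fun g g' => funext fun a => by
        show (Θ (g * g') (xa a)).a = (Θ g (xa (Θ g' (xa a)).a)).a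
        rw [map_mul, MulAut.mul_apply, ka] }
  have pa : ∀ (g : nz S) c, π g c.a = (Θ g c).a := fun g c => (ka g c).symm
  obtain ⟨γ, ⟨γ, rfl⟩, k⟩ := f8 (K := K) (by rw [card_K (σ := σ), q2]; rfl) (E := π.range) (Y := (B.subgroupOf (nz S)).map π)
    (map_le_range _ _) (by
      rintro _ ⟨g, rfl⟩ x y
      have := pa g (xa x * xa y)
      rwa [map_mul, mul_a, mul_a, ← pa, ← pa] at this)
    (fun k k0 => by
      obtain ⟨τ, w⟩ := wt k k0
      exact ⟨_, ⟨⟨τ, h.wS w⟩, rfl⟩, fun x => by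
        have := pa ⟨τ, h.wS w⟩ (xa x)
        rwa [th _ _ _ (w.cj _)] at this⟩)
    (fun d => s.2 (d.trans (by
      rw [← relIndex_ker, ← relIndex_subgroupOf l]
      refine relIndex_dvd_of_le_left _ fun g hg => Equiv.ext fun a => ?_
      obtain ⟨-, w, hw, ag⟩ := hg
      obtain ⟨d, -, rfl⟩ := h.ex hw
      have := pa g (xa a)
      rw [th g _ (d * xa a * d⁻¹) ((ag _ (h.mS _)).trans (by rw [map_mul, map_mul, map_inv]))] at this
      simpa using this)))
    (fun a a0 => by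
      obtain ⟨g, hg, c, k, rfl⟩ := tr 1 a one_ne_zero a0
      exact ⟨_, ⟨⟨g, l hg⟩, hg, rfl⟩, by rw [← th ⟨g, l hg⟩ _ _ k, ← pa]; rfl⟩)
  refine ⟨γ, γ.2, fun g hg => ?_⟩
  obtain ⟨κ, φ, κ0, f⟩ := k _ ⟨⟨g, l hg⟩, hg, rfl⟩
  rw [← map_inv, ← map_mul, ← map_mul] at f
  refine ⟨κ, φ, κ0, fun c c' m => ⟨by rw [← f, pa, th (γ * ⟨g, l hg⟩ * γ⁻¹) c c' m], ?_⟩⟩
  have two : ∀ x : K, σ x = x → x = 0 ∨ x = 1 := fun x hx => by
    rw [TV.pw, q2, sq] at hx
    exact (mul_eq_zero.1 (show x * (x - 1) = 0 by linear_combination hx)).imp_right sub_eq_zero.1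
  have nq := h.gQ2 (γ * ⟨g, l hg⟩ * γ⁻¹).2
  have i : c'.u = 0 ↔ c.u = 0 := by
    rw [← mQ2, ← mQ2, ← h.mm, ← h.mm, ← m, ← mem_nz.1 nq]
    exact conj_mem_cj_iff.trans (by rw [mem_nz.1 nq])
  rcases two _ c.hu with a | a <;> rcases two _ c'.hu with b | b <;> simp_all

end H2.TD
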