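/-
Fusion systems on a Sylow `p`-subgroup of `³D₄(q)`: recognition of `SL₂(q³)` on `Q₁ / Z₁`.
-/
import Cfsg.Agent.H2.TD2

set_option autoImplicit false
set_option linter.unusedSectionVars false
set_option linter.unusedSimpArgs false

namespace H2.TD
open Subgroup H29.TD H29.TD.Dc
open H25 hiding Md tr fx
open H8.PU hiding Bo N2 SY S2 Wt sz Ac2 Co sn n1_ap card_K Fx LH Opp Md n1 Tr2 G2 Dg MD AV Wy L2 TR
open LH' T2'
universe u v
variable {K : Type v} [Field K] [Finite K] {σ : K →+* K} [TV σ] {p : ℕ} [Fact p.Prime] [CharP K p]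
  {G : Subgroup (AV σ)} {g g' j : AV σ} {x y z x0 : V σ} {τ τ' k l k' l' κ μ : K} {φ φ' : K ≃+* K}

theorem dg_mul (h : Dg g k l φ) (h' : Dg g' k' l' φ') : Dg (g * g') (k * φ k') (l * φ l') (φ'.trans φ) := fun x => by
  vs [mul_ap, h _, h' _, RingEquiv.trans_apply]; cg
theorem dg_cast (h : Dg g k l φ) (e1 : k = k') (e2 : l = l') (e3 : ∀ x, φ x = φ' x) : Dg g k' l' φ' := fun x => by
  simpa only [e1, e2, e3] using h x
theorem dg_mul1 (h : Dg g k l (.refl K)) (h' : Dg g' k' l' (.refl K)) : Dg (g * g') (k * k') (l * l') (.refl K) := dg_mul h h'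
theorem dg_one : Dg (1 : AV σ) 1 1 (.refl K) := fun x => by vs [one_ap, RingEquiv.refl_apply]
theorem dg_pow (h : Dg g k l (.refl K)) (n : ℕ) : Dg (g ^ n) (k ^ n) (l ^ n) (.refl K) := by
  induction n with
  | zero => simpa using dg_one
  | succ n ih => rw [pow_succ, pow_succ, pow_succ]; exact dg_mul1 ih h
theorem dg_k (h : Dg (1 : AV σ) k 1 φ) : k = 1 := by simpa [one_ap] using (h (0, 1, 0, 0)).2.1.symm

theorem blk (J : K → K) (h1 : ∀ x y, J (x + y) = J x + J y) (h2 : ∀ c x, σ c = c → J (c * x) = c * J x)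
    (h : ∀ x, J (κ * x) = μ * J x) (n2 : σ κ ≠ μ) (n3 : σ (σ κ) ≠ μ) : ∃ a, (κ - μ) * a = 0 ∧ ∀ x, J x = a * x := by
  obtain ⟨a, b, c, e⟩ := rep J h1 h2
  obtain ⟨k1, k2, k3⟩ := ded (σ := σ) (a := (κ - μ) * a) (b := (σ κ - μ) * b) (c := (σ (σ κ) - μ) * c) fun x => by
    have := h x
    fs [e] at this
    linear_combination this
  exact ⟨a, k1, fun x => by
    rw [e, (mul_eq_zero.1 k2).resolve_left (sub_ne_zero.2 n2), (mul_eq_zero.1 k3).resolve_left (sub_ne_zero.2 n3)]; ring⟩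

theorem w_one : (tv 1 * (n1 * tv 1 * n1⁻¹) * tv 1 : AV σ) = n1⁻¹ := LinearEquiv.ext fun x => by
  vs [mul_ap, tv_ap, n1_ap, n1_inv_ap]; cg
theorem w_nu (h : τ ≠ 0) : Dg (tv τ * (n1 * tv τ⁻¹ * n1⁻¹) * tv τ * n1 : AV σ) (τ ^ 2) (nm σ τ)⁻¹ (.refl K) := fun x => by
  have a := sn (σ := σ) h
  have b := sn (σ := σ) a
  vs [mul_ap, tv_ap, n1_ap, n1_inv_ap, RingEquiv.refl_apply]
  refine ⟨?_, ?_, ?_, ?_⟩ <;> field_simp <;> ring

theorem x0_eq (h : LH p G) (t : Tr2 G x0) (kk : KK G) : x0 = (1, 0, 0, 0) := by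
  have sc : ∀ {g k l}, g ∈ G → Dg g k l (.refl K) → l ≠ 0 → sh σ k * x0.2.2.1 = x0.2.2.1 ∧ nm σ k * x0.2.2.2 = x0.2.2.2 :=
    fun {g k l} hg d l0 => by
      obtain ⟨c, -, e⟩ := dgx t h hg d
      rw [V.iff] at e
      simp only [d _, RingEquiv.refl_apply, u1 t, Prod.smul_fst, Prod.smul_snd, smul_eq_mul, fsm, Subfield.coe_mul, mul_one] at e
      exact ⟨mul_left_cancel₀ l0 (by rw [← mul_assoc, e.2.2.1, e.1]), mul_left_cancel₀ l0 (by rw [← mul_assoc, e.2.2.2, e.1])⟩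
  refine V.ext (u1 t) t.2.1 ?_ ?_
  · obtain ⟨g, hg, k, l, k0, l0, -, n, d⟩ := kk
    by_contra r0
    have e : σ k * σ (σ k) = 1 := mul_right_cancel₀ r0 ((sc hg d l0).1.trans (one_mul _).symm)
    have e' := congrArg σ e
    fs [] at e'
    exact n (by rw [map_pow, mul_right_cancel₀ (sn (sn k0)) (e.trans ((mul_comm _ _).trans e').symm)])
  · obtain ⟨ζ, hζ, d⟩ := h.tt
    have e := (sc hζ d one_ne_zero).2
    by_cases p2 : p = 2
    · obtain ⟨g, hg, c, c0, f⟩ := ex t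
      have := h.sq p2 g hg e0 (by vs [qf, e0])
      vs [f, qf, u1 t, t.2.1] at this
      simpa [c0] using this
    · have h2 : (2 : K) ≠ 0 := fun k => p2 ((Nat.prime_dvd_prime_iff_eq Fact.out Nat.prime_two).1
        ((CharP.cast_eq_zero_iff K p 2).1 (by simpa using k)))
      fs [] at e
      exact mul_left_cancel₀ h2 (by rw [Prod.snd, Prod.snd, Prod.snd, Subfield.coe_zero]; linear_combination -e)

theorem l3c : L3c σ p := fun G x0 h t jj kk => by
  obtain rfl := x0_eq h t kk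
  obtain ⟨δ, hδ, κ, κ0, κ3, nκ, d⟩ : ∃ δ ∈ G, ∃ κ, κ ≠ 0 ∧ κ ^ 3 ≠ 1 ∧ nm σ κ = 1 ∧ Dg δ κ 1 (.refl K) := by
    obtain ⟨g, hg, k, l, k0, l0, hl, n, d⟩ := kk
    have q1 := one_lt σ
    have pw : ∀ x : K, x ≠ 0 → x ^ (Nat.card (Fx σ) - 1) = σ x / x := fun x x0 => by
      rw [eq_div_iff x0, ← pow_succ, TV.pw, Nat.sub_add_cancel q1.le]
    have a := sn (σ := σ) k0
    have b := sn (σ := σ) a
    refine ⟨_, pow_mem hg (Nat.card (Fx σ) - 1), σ k / k, div_ne_zero a k0, fun e => n ?_, by fs []; field_simp,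
      dg_cast (dg_pow d _) (pw k k0) (by rw [pw l l0, hl, div_self l0]) fun _ => rfl⟩
    rwa [div_pow, div_eq_one_iff_eq (pow_ne_zero 3 k0), ← map_pow] at e
  have nF : σ κ ≠ κ := fun e => κ3 (by rw [← nm_fx e, nκ])
  obtain ⟨j, hj, jj2, ⟨α, je⟩, jf, τ', jt⟩ := jj 1 one_ne_zero
  have ji : j⁻¹ = j := inv_eq_of_mul_eq_one_right jj2
  have je' : Pr (j e0) (1, 0, 0, 0) := pr_of (ap_ne e0_ne j) je
  have jx : Pr (j (1, 0, 0, 0)) e0 := ji ▸ je'.inv
  obtain ⟨β, -, ju⟩ := id jx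
  have de : δ e0 = e0 := by fs [] at nκ; vs [d _, e0, RingEquiv.refl_apply, nκ]
  have du : δ (1, 0, 0, 0) = (1, 0, 0, 0) := by vs [d _, RingEquiv.refl_apply]
  have jjx : ∀ x, j (j x) = x := fun x => by rw [← mul_ap, jj2, one_ap]
  have d'e : (j * δ * j : AV σ) e0 = e0 := by rw [mul_ap, mul_ap, je, map_smul, du, ← je, jjx]
  have d'u : (j * δ * j : AV σ) (1, 0, 0, 0) = (1, 0, 0, 0) := by rw [mul_ap, mul_ap, ju, map_smul, de, ← ju, jjx]
  have m' := mul_mem (mul_mem hj hδ) hj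
  obtain ⟨κ', l', φ, κ0', l0', -, d'⟩ := dg_of t h m' ⟨1, by rw [d'e, one_smul]⟩ (by rw [d'u]; exact .refl _)
  obtain rfl : l' = 1 := by simpa [d'u] using (d' (1, 0, 0, 0)).1.symm
  have nκ' : nm σ κ' = 1 := by
    have := (d' e0).2.2.2
    rw [d'e] at this
    simpa [e0] using this.symm
  have φ1 : ∀ x, φ x = x := by
    have cube : (∀ x, φ (φ (φ x)) = x) → κ' * φ (κ' * φ κ') = 1 → False := fun e1 e2 => by
      have := dg_ext (dg_cast (dg_mul d' (dg_mul d' d')) (φ' := .refl K) e2 (by simp) e1) dg_one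
      rw [show j * δ * j * (j * δ * j * (j * δ * j)) = j * δ ^ 3 * j⁻¹ by rw [← conj_pow, ji, pow_three], conj_eq_one_iff] at this
      exact κ3 (dg_k (dg_cast (this ▸ dg_pow d 3) rfl (one_pow 3) fun _ => rfl))
    fs [] at nκ'
    rcases gal (σ := σ) φ fun c hc => d'.fix one_ne_zero hc with e | e | e
    · exact e
    · exact (cube (fun x => by fs [e]) (by fs [e]; linear_combination nκ')).elim
    · exact (cube (fun x => by fs [e]) (by fs [e]; linear_combination nκ')).elim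
  replace d' := dg_cast d' rfl rfl (φ' := .refl K) φ1
  have dε := dg_mul1 d d'
  have cm : j * (δ * (j * δ * j)) = δ * (j * δ * j) * j := by
    have c := dg_ext dε (dg_cast (dg_mul1 d' d) (mul_comm _ _) rfl fun _ => rfl)
    calc _ = j * (j * δ * j * δ) := by rw [c]
      _ = j * j * δ * j * δ * (j * j) := by rw [jj2, mul_one, ← jj2]; simp only [mul_assoc]
      _ = _ := by rw [← mul_assoc _ j j, jj2, one_mul]; simp only [mul_assoc]
  have step : ∀ a, Fi j (tv a (1, 0, 0, 0)) → Fi j (tv (κ * κ' * a) (1, 0, 0, 0)) := fun a f => by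
    have e := dgp t h (mul_mem hδ m') dε (by simp) a
    have := ((fi_pr (ne t a) f).map (δ * (j * δ * j))).trans e
    rw [← mul_ap, ← cm, mul_ap] at this
    exact ((e.map j).symm.trans this).fi
  have lam : κ * κ' = 1 := by
    have f1 := jt _ (step 1 jf)
    have f2 := jt _ (step _ (step 1 jf))
    rw [mul_one] at f1 f2
    have nl : nm σ (κ * κ') = 1 := by rw [nm_mul, nκ, nκ', mul_one]
    have l0 := mul_ne_zero κ0 κ0'
    generalize κ * κ' = a at *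
    rcases f1 with f1 | f1
    · exact f1
    rcases f2 with f2 | f2
    · rcases mul_self_eq_one_iff.1 f2 with e | e
      · exact e
      · rw [e] at nl ⊢; fs [] at nl; linear_combination nl
    · exact mul_left_cancel₀ l0 (by rw [f2, mul_one, f1])
  obtain rfl : κ' = κ⁻¹ := eq_inv_of_mul_eq_one_right lam
  have jd : ∀ x, j (δ x) = (j * δ * j : AV σ) (j x) := fun x => by rw [mul_ap, mul_ap, jjx]
  generalize j * δ * j = δ' at d' jd
  have s1 := sn (σ := σ) κ0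
  have s2 := sn (σ := σ) s1
  have shκ : sh σ κ = κ⁻¹ := eq_inv_of_mul_eq_one_right (by fs [] at nκ ⊢; linear_combination nκ)
  have shκ' : sh σ κ⁻¹ = κ := by fs [] at shκ ⊢; rw [← mul_inv, shκ, inv_inv]
  have nκ'' : nm σ κ = 1 := nκ
  have κ1 : κ ≠ 1 := fun e => nF (by rw [e, map_one])
  have dx : ∀ x, δ x = (x.1, κ * x.2.1, κ⁻¹ * x.2.2.1, x.2.2.2) := fun x => by
    simp [V.iff, d x, shκ, nκ]
  have dx' : ∀ x, δ' x = (x.1, κ⁻¹ * x.2.1, κ * x.2.2.1, x.2.2.2) := fun x => by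
    simp [V.iff, d' x, shκ', nκ']
  have mid : ∀ s r, (j (0, s, r, 0)).1 = 0 ∧ (j (0, s, r, 0)).2.2.2 = 0 := fun s r => by
    have e : ((0, s, r, 0) : V σ) = δ (0, s / (κ - 1), r / (κ⁻¹ - 1), 0) - (0, s / (κ - 1), r / (κ⁻¹ - 1), 0) := by
      have a := sub_ne_zero.2 κ1
      have b := sub_ne_zero.2 (mt inv_eq_one.1 κ1)
      rw [dx]; simp only [Prod.mk_sub_mk, sub_self, Prod.mk.injEq, true_and, and_true]
      generalize κ⁻¹ = ι at b
      constructor <;> field_simp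
    rw [e, map_sub, jd, dx']; simp
  fs [] at nκ
  have n1' : σ κ ≠ κ⁻¹ := fun e => κ1 (by
    have : σ (σ κ) = 1 := by rw [← nκ, e, mul_inv_cancel₀ κ0, one_mul]
    simpa [s3] using congrArg σ this)
  have n2' : σ (σ κ) ≠ κ⁻¹ := fun e => κ1 (by
    have : σ κ = 1 := by rw [← nκ, e, mul_right_comm, mul_inv_cancel₀ κ0, one_mul]
    simpa [s3] using congrArg (fun x => σ (σ x)) this)
  have n3' : σ (σ κ) ≠ κ := fun e => nF (by simpa [s3] using (congrArg σ e).symm)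
  have n4' : κ - κ⁻¹ ≠ 0 := fun e => nF (by
    rcases mul_self_eq_one_iff.1 (show κ * κ = 1 by rw [← mul_inv_cancel₀ κ0, ← sub_eq_zero.1 e]) with e | e <;> simp [e])
  have ad : ∀ s r s' r' : K, j (0, s + s', r + r', 0) = j (0, s, r, 0) + j (0, s', r', 0) := fun s r s' r' => by
    rw [← map_add]; simp
  have sm : ∀ c s r : K, σ c = c → (j (0, c * s, c * r, 0)).2.1 = c * (j (0, s, r, 0)).2.1 ∧
      (j (0, c * s, c * r, 0)).2.2.1 = c * (j (0, s, r, 0)).2.2.1 := fun c s r hc => by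
    have : ((0, c * s, c * r, 0) : V σ) = (⟨c, hc⟩ : Fx σ) • (0, s, r, 0) := by simp [fsm]
    rw [this, map_smul]; exact ⟨rfl, rfl⟩
  have tw : ∀ s r : K, (j (0, κ * s, κ⁻¹ * r, 0)).2.1 = κ⁻¹ * (j (0, s, r, 0)).2.1 ∧
      (j (0, κ * s, κ⁻¹ * r, 0)).2.2.1 = κ * (j (0, s, r, 0)).2.2.1 := fun s r => by
    have := jd (0, s, r, 0)
    rw [dx, dx'] at this
    rw [this]; exact ⟨rfl, rfl⟩
  obtain ⟨a1, z1, A1⟩ := blk (σ := σ) (fun s => (j (0, s, 0, 0)).2.1) (fun x y => by simpa using congrArg (·.2.1) (ad x 0 y 0))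
    (fun c x hc => by simpa using (sm c x 0 hc).1) (fun x => by simpa using (tw x 0).1) n1' n2'
  obtain ⟨a2, -, A2⟩ := blk (σ := σ) (fun s => (j (0, s, 0, 0)).2.2.1) (fun x y => by simpa using congrArg (·.2.2.1) (ad x 0 y 0))
    (fun c x hc => by simpa using (sm c x 0 hc).2) (fun x => by simpa using (tw x 0).2) nF n3'
  obtain ⟨b1, -, B1⟩ := blk (σ := σ) (fun s => (j (0, 0, s, 0)).2.1) (fun x y => by simpa using congrArg (·.2.1) (ad 0 x 0 y))
    (fun c x hc => by simpa using (sm c 0 x hc).1) (fun x => by simpa using (tw 0 x).1) (by simpa using nF) (by simpa using n3')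
  obtain ⟨b2, z2, B2⟩ := blk (σ := σ) (fun s => (j (0, 0, s, 0)).2.2.1) (fun x y => by simpa using congrArg (·.2.2.1) (ad 0 x 0 y))
    (fun c x hc => by simpa using (sm c 0 x hc).2) (fun x => by simpa using (tw 0 x).2)
    (by rw [map_inv₀]; exact fun e => n1' (by rw [← inv_inj, e, inv_inv]))
    (by rw [map_inv₀, map_inv₀]; exact fun e => n2' (by rw [← inv_inj, e, inv_inv]))
  replace z1 := (mul_eq_zero.1 z1).resolve_left n4'
  replace z2 := (mul_eq_zero.1 z2).resolve_left fun e => n4' (by linear_combination -e)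
  have jx : ∀ x : V σ, j x = (α * x.2.2.2, b1 * x.2.2.1, a2 * x.2.1, β * x.1) := fun x => by
    have e : x = x.1 • (1, 0, 0, 0) + ((0, x.2.1, 0, 0) + (0, 0, x.2.2.1, 0)) + x.2.2.2 • e0 := by simp [e0]
    conv_lhs => rw [e, map_add, map_add, map_add, map_smul, map_smul, ju, je]
    vs [e0, mid _ _, A1, A2, B1, B2, z1, z2]
    cg
  obtain ⟨c, e⟩ := jf
  rw [jx] at e
  vs [tv_ap] at e
  obtain ⟨e1, e2, e3, e4⟩ := e
  obtain ⟨ζ, hζ, dζ⟩ := h.tt
  have c0 : c ≠ 0 := fun k => by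
    have := jx e0
    rw [show α = 0 from Subtype.ext (by rw [e1, k])] at this
    exact ap_ne e0_ne j (this.trans (by simp [e0]))
  have zj : ∀ x, (ζ * j : AV σ) x = c • n1 x := fun x => by
    vs [mul_ap, jx, dζ _, n1_ap, RingEquiv.refl_apply, e1, e2, e3, e4]; cg
  have lo : ∀ τ, n1 * tv τ * n1⁻¹ ∈ G := fun τ => by
    have := mul_mem (mul_mem (mul_mem hζ hj) (tvG h τ)) (inv_mem (mul_mem hζ hj))
    convert this using 1
    refine LinearEquiv.ext fun x => ?_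
    obtain ⟨y, rfl⟩ := (ζ * j).surjective x
    rw [mul_ap _ (ζ * j)⁻¹, inv_ap, mul_ap (ζ * j), zj, zj, map_smul, mul_ap, inv_ap, mul_ap]
  have hn : (n1 : AV σ) ∈ G := inv_mem_iff.1 (w_one (σ := σ) ▸ mul_mem (mul_mem (tvG h 1) (lo 1)) (tvG h 1))
  refine ⟨fun ν ν0 => ⟨_, mul_mem (mul_mem (mul_mem (tvG h ν) (lo ν⁻¹)) (tvG h ν)) hn, w_nu ν0⟩, hn,
    fun g hg => (pt t hg).imp_right fun ⟨τ, e⟩ => ⟨-τ, Pr.fi ?_⟩⟩
  have := (e.map (tv (-τ))).map n1
  rw [← tv_inv, inv_ap, tv_inv] at this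
  exact this.trans ⟨-1, by simp, by simp [n1_ap, e0]⟩

end H2.TD
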