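/-
Fusion systems on a Sylow `p`-subgroup of `³D₄(q)`: distinct points are opposite (`p` odd).
-/
import Cfsg.Agent.H2.TD1

set_option autoImplicit false
set_option linter.unusedSectionVars false
set_option linter.unusedSimpArgs false

namespace H2.TD
open Subgroup H29.TD H29.TD.Dc
open H25 hiding Md tr fx
open H8.PU hiding Bo N2 SY S2 Wt sz Ac2 Co sn n1_ap card_K Fx LH Opp Md n1 Tr2 G2 Dg MD AV Wy L2 TR
open LH'
universe u v
variable {K : Type v} [Field K] [Finite K] {σ : K →+* K} [TV σ] {p : ℕ} [Fact p.Prime] [CharP K p]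
  {G : Subgroup (AV σ)} {g g' : AV σ} {x y : V σ} {s k l : K} {φ : K ≃+* K}

/-- a sum over free orbits -/
theorem sum_orb {F M : Type*} [AddGroup F] [Fintype F] [AddCommGroup M] [DecidableEq M] (a : F → M → M) (a0 : ∀ y, a 0 y = y)
    (aa : ∀ c d y, a (c + d) y = a c (a d y)) (W : AddSubgroup M) (A : Finset M) : (∀ c, ∀ y ∈ A, a c y ∈ A) →
    (∀ y ∈ A, ∀ c, a c y = y → c = 0) → (∀ y ∈ A, ∑ c, a c y ∈ W) → ∑ y ∈ A, y ∈ W := by
  induction A using Finset.strongInduction with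
  | H A ih =>
    intro h1 h2 h3
    rcases A.eq_empty_or_nonempty with rfl | ⟨y, hy⟩
    · simp
    have sub : Finset.univ.image (a · y) ⊆ A := fun z hz => by
      obtain ⟨c, -, rfl⟩ := Finset.mem_image.1 hz; exact h1 c y hy
    rw [← Finset.sum_sdiff sub, Finset.sum_image fun c _ d _ e => ?_]
    · refine add_mem (ih _ (Finset.sdiff_ssubset sub ⟨y, Finset.mem_image.2 ⟨0, Finset.mem_univ _, a0 y⟩⟩) (fun c z hz => ?_)
        (fun z hz => h2 z (Finset.mem_sdiff.1 hz).1) fun z hz => h3 z (Finset.mem_sdiff.1 hz).1) (h3 y hy)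
      rw [Finset.mem_sdiff] at hz ⊢
      refine ⟨h1 c z hz.1, fun k => hz.2 ?_⟩
      obtain ⟨d, -, e⟩ := Finset.mem_image.1 k
      exact Finset.mem_image.2 ⟨-c + d, Finset.mem_univ _, by rw [aa, e, ← aa, neg_add_cancel, a0]⟩
    · exact (neg_add_eq_zero.1 (h2 y hy (-d + c) (by rw [aa, show a c y = a d y from e, ← aa, neg_add_cancel, a0]))).symm

theorem psum {F : Type*} [Field F] [Fintype F] (h2 : (2 : F) ≠ 0) :
    ∑ _c : F, (1 : F) = 0 ∧ ∑ c : F, c = 0 ∧ 3 * ∑ c : F, c ^ 2 = 0 ∧ ∑ c : F, c ^ 3 = 0 := by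
  have a := Equiv.sum_comp (Equiv.addRight (1 : F)) fun c => c
  have b := Equiv.sum_comp (Equiv.mulLeft₀ (2 : F) h2) fun c => c
  have c := Equiv.sum_comp (Equiv.mulLeft₀ (2 : F) h2) (· ^ 2)
  have d := Equiv.sum_comp (Equiv.neg F) (· ^ 3)
  simp only [Equiv.coe_addRight, id, Finset.sum_add_distrib, Equiv.mulLeft₀_apply, mul_pow, ← Finset.mul_sum, Equiv.neg_apply,
    Odd.neg_pow (show Odd 3 by decide), Finset.sum_neg_distrib] at a b c d
  rw [← Finset.mul_sum] at b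
  exact ⟨by linear_combination a, by linear_combination b, by linear_combination c, mul_left_cancel₀ h2 (by linear_combination -d)⟩

variable (σ) in
/-- the plane `Π` -/
def Pi (s : K) : AddSubgroup (V σ) where
  carrier := {y | (y.1 : K) = 0 ∧ y.2.1 = 0 ∧ tr σ (s * y.2.2.1) = 0 ∧ (y.2.2.2 : K) = 0}
  zero_mem' := by simp [tr]
  add_mem' := fun {x y} h h' => by
    obtain ⟨a, b, c, d⟩ := h
    obtain ⟨a', b', c', d'⟩ := h'
    refine ⟨by vs [a, a'], by vs [b, b'], ?_, by vs [d, d']⟩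
    rw [Prod.snd_add, Prod.snd_add, Prod.fst_add, mul_add, tr_add, c, c', add_zero]
  neg_mem' := fun {x} ⟨a, b, c, d⟩ => ⟨by vs [a], by vs [b], by
    rw [Prod.snd_neg, Prod.snd_neg, Prod.fst_neg, mul_neg, tr_neg, c, neg_zero], by vs [d]⟩
theorem mPi : y ∈ Pi σ s ↔ (y.1 : K) = 0 ∧ y.2.1 = 0 ∧ tr σ (s * y.2.2.1) = 0 ∧ (y.2.2.2 : K) = 0 := Iff.rfl

theorem phi [Fintype (Fx σ)] (h2 : (2 : K) ≠ 0) (h : ∀ w ∈ Pi σ s, om y w = 0) : ∑ c : Fx σ, tv (c * s) y ∈ Pi σ s := by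
  obtain ⟨d, hd, e⟩ := perp1 (σ := σ) (x := y.2.1) (m := s) fun r hr => by
    have := h (0, 0, r, 0) ⟨rfl, rfl, hr, rfl⟩
    vs [om] at this ⊢
    linear_combination -this
  obtain ⟨s0, s1, s2, s3'⟩ := psum (F := Fx σ) fun k => h2 (congrArg Subtype.val k)
  have : ∀ c : Fx σ, tv (c * s) y = (1 : Fx σ) • y + c • ((0, s * y.1, 2 * d * sh σ s, ⟨_, s_tr (s * y.2.2.1)⟩) : V σ) +
      c ^ 2 • ((0, 0, sh σ s * y.1, ⟨3 * d * nm σ s, by rw [mFx]; fs [hd]; ring⟩) : V σ) +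
      c ^ 3 • ((0, 0, 0, ⟨_, s_nm s⟩ * y.1) : V σ) := fun c => by
    vs [tv_ap, e, hd, SubmonoidClass.coe_pow]; cg
  simp only [this, Finset.sum_add_distrib, ← Finset.sum_smul, s0, s1, s3', zero_smul, zero_add, add_zero]
  generalize ∑ c : Fx σ, c ^ 2 = t at s2
  replace s2 : 3 * (t : K) = 0 := congrArg Subtype.val s2
  vs [mPi]
  exact ⟨by linear_combination (s * σ s * σ (σ s) * y.1) * s2, by linear_combination (d * s * σ s * σ (σ s)) * s2⟩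

theorem nm_eq (d : Dg g k l φ) (l0 : l ≠ 0) (x : K) : nm σ (φ x) = nm σ x := by
  rw [← d.fix l0 (s_nm x)]; fs []

theorem key (h2 : (2 : K) ≠ 0) (h : LH p G) (f : Fr G) (s0 : s ≠ 0) (hg : g ∈ G) (o : ∀ x y, om (g x) (g y) = om x y)
    (w : ∀ y ∈ Pi σ s, g y = y) : g e0 = e0 := by
  classical
  have := Fintype.ofFinite (Fx σ)
  have := Fintype.ofFinite (V σ)
  let C : AV σ → Prop := fun c => c ∈ G ∧ (∀ x y, om (c x) (c y) = om x y) ∧ ∀ y ∈ Pi σ s, c y = y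
  have Cm : ∀ a b, C a → C b → C (a * b) := fun a b ⟨a1, a2, a3⟩ ⟨b1, b2, b3⟩ =>
    ⟨mul_mem a1 b1, fun x y => by rw [mul_ap, mul_ap, a2, b2], fun y hy => by rw [mul_ap, b3 y hy, a3 y hy]⟩
  have Ct : ∀ c : Fx σ, C (tv (c * s)) := fun c => ⟨tvG h _, om_tv _, fun y ⟨a, b, e, d⟩ => by
    vs [tv_ap, a, b, d] at e ⊢; linear_combination (c : K) * e⟩
  have Cb : ∀ c, C c → Bo c → c e0 = e0 := fun c ⟨c1, c2, c3⟩ b => by
    obtain ⟨a, k, l, φ, k0, l0, hl, d⟩ := h.bor c c1 b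
    obtain ⟨r, r0, hr, -⟩ := ex_perp (σ := σ) s 0
    have e1 := (d (0, 0, r, 0)).2.2.1
    rw [mul_ap, c3 _ ⟨rfl, rfl, hr, rfl⟩, tv_inv] at e1
    have e2 : om (((tv a)⁻¹ * c : AV σ) (1, 0, 0, 0)) (((tv a)⁻¹ * c : AV σ) e0) = 1 := by
      rw [mul_ap, mul_ap, tv_inv, om_tv, c2, om_e0]; rfl
    replace e1 : r = l * sh σ k * φ r := by simpa [tv_ap, tf', cr] using e1
    have e3 := congrArg (nm σ) e1
    rw [nm_mul, nm_eq d l0, eq_comm, mul_eq_right₀ (nm0 r0)] at e3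
    vs [om, d _, e0, hl] at e2 e3
    have l1 : l = 1 := by linear_combination (-l) * e3 + (l * (l * (k * σ k * σ (σ k))) + 1) * e2
    rw [← mul_inv_cancel_left (tv a) c, mul_ap, ← tv_e0 a]
    congr 1
    rw [tv_e0]
    subst l1
    vs [d _, e0] at e2 ⊢
    exact e2
  let A : Finset (V σ) := Finset.univ.filter fun y => ∃ c, C c ∧ c e0 = y
  have mA : ∀ y, y ∈ A ↔ ∃ c, C c ∧ c e0 = y := fun y => by simp [A]
  have cA : ∀ c, C c → ∀ y ∈ A, c y ∈ A := fun c hc y hy => by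
    obtain ⟨a, ha, rfl⟩ := (mA y).1 hy
    exact (mA _).2 ⟨_, Cm _ _ hc ha, rfl⟩
  have eA : e0 ∈ A := (mA _).2 ⟨_, Ct 0, tv_e0 _⟩
  have := sum_orb (fun c : Fx σ => tv (c * s)) (fun y => by simp [tv_zero]) (fun c d y => by
    rw [← mul_ap, ← tv_add, Subfield.coe_add, add_mul]) (Pi σ s) (A.erase e0) (fun c y hy => ?_) (fun y hy c e => ?_) fun y hy => ?_
  · have e : g (∑ y ∈ A, y) = ∑ y ∈ A, y := by
      rw [map_sum, ← Finset.sum_image (g := g) (f := fun y => y) fun _ _ _ _ e => g.injective e, Finset.eq_of_subset_of_card_le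
        (Finset.image_subset_iff.2 (cA g ⟨hg, o, w⟩)) (Finset.card_image_of_injective _ g.injective).ge]
    rw [← Finset.add_sum_erase _ _ eA, map_add, w _ this] at e
    exact add_right_cancel e
  · rw [Finset.mem_erase] at hy ⊢
    exact ⟨fun e => hy.1 ((tv (c * s) : AV σ).injective (e.trans (tv_e0 _).symm)), cA _ (Ct c) y hy.2⟩
  · obtain ⟨n, hy⟩ := Finset.mem_erase.1 hy
    obtain ⟨a, ha, rfl⟩ := (mA y).1 hy
    exact by_contra fun c0 => n (Cb a ha (f a ha.1 _ (mul_ne_zero (by simpa using c0) s0) ⟨1, e.trans (one_smul _ _).symm⟩))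
  · obtain ⟨a, ha, rfl⟩ := (mA y).1 (Finset.mem_erase.1 hy).2
    refine phi h2 fun w hw => ?_
    rw [← ha.2.2 w hw, ha.2.1]
    vs [om, e0, hw.1]

theorem l1b : L1b σ p := fun p2 G h f g hg n u0 => by
  have h2 : (2 : K) ≠ 0 := fun k => p2 ((Nat.prime_dvd_prime_iff_eq Fact.out Nat.prime_two).1
    ((CharP.cast_eq_zero_iff K p 2).1 (by simpa using k)))
  replace u0 : ((g e0).1 : K) = 0 := by simp [u0]
  have s0 := claim0 f hg n u0
  obtain ⟨τ, hτ⟩ := cr_onto (σ := σ) h2 s0 (-(g e0).2.2.1)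
  have m := mul_mem (tvG h τ) hg
  have a1 : (((tv τ * g : AV σ) e0).1 : K) = 0 := u0
  have a2 : ((tv τ * g : AV σ) e0).2.1 ≠ 0 := by rw [mul_ap]; vs [tv_ap, u0]; exact s0
  have a3 : ((tv τ * g : AV σ) e0).2.2.1 = 0 := by rw [mul_ap]; vs [tv_ap, u0] at hτ ⊢; linear_combination hτ
  clear hτ s0 u0 n hg
  generalize tv τ * g = g at m a1 a2 a3
  have n : ¬ Bo g⁻¹ := fun b => a2 (bo_iff.1 (inv_inv g ▸ bo_inv b)).2.1
  have u1 : ((g⁻¹ e0).1 : K) = 0 := orth h m (by generalize g e0 = x at *; vs [om, e0, a1])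
  have s1 := claim0 f (inv_mem m) n u1
  obtain ⟨ζ, hζ, dζ⟩ := h.tt
  have zz : ∀ y, ζ (ζ y) = y := fun y => by vs [dζ _, RingEquiv.refl_apply]; cg
  have he : (g⁻¹ * ζ * g : AV σ) e0 = -e0 := by
    rw [mul_ap, mul_ap, show ζ (g e0) = -g e0 by vs [dζ _, RingEquiv.refl_apply, a1, a3]; cg, map_neg, inv_ap]
  obtain ⟨a, k, l, φ, k0, l0, hl, d⟩ := h.bor _ (mul_mem (mul_mem (inv_mem m) hζ) m) ⟨-1, by rw [he, neg_one_smul]⟩
  have e1 := (d e0).2.2.2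
  rw [mul_ap, he, map_neg, tv_inv, tv_e0] at e1
  have c1 : ∀ y, (((g⁻¹ * ζ * g : AV σ) y).1 : K) = l * φ y.1 := fun y => by rw [← (d y).1, tv_inv]; rfl
  have e2 := c1 ((g⁻¹ * ζ * g : AV σ) (1, 0, 0, 0))
  rw [c1 (1, 0, 0, 0), mul_ap, mul_ap, mul_ap, mul_ap, ap_inv, zz, inv_ap] at e2
  obtain ⟨μ, -, o⟩ := h.fm _ m
  obtain ⟨μ', -, o'⟩ := h.fm _ (inv_mem m)
  have := key (s := (g e0).2.1) h2 h f a2 (mul_mem (mul_mem m (tvG h (g⁻¹ e0).2.1)) (inv_mem m)) (fun x y => by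
    rw [mul_ap, mul_ap, mul_ap, mul_ap, o, om_tv, ← o, ap_inv, ap_inv]) fun y ⟨y1, y2, y3, y4⟩ => ?_
  · refine n (f _ (inv_mem m) _ s1 ⟨1, ?_⟩)
    rw [one_smul, ← inv_ap g (tv _ _)]
    exact congrArg (g⁻¹ : AV σ) this
  have b1 : ((g⁻¹ y).1 : K) = 0 := orth h m (by vs [om, y1, y2, y4, a1] at y3 ⊢; linear_combination y3)
  have b2 : (g⁻¹ y).2.1 = 0 := by_contra fun n0 => h2 (by
    have e := (d (g⁻¹ y)).2.1
    rw [mul_ap, mul_ap, mul_ap, ap_inv, show ζ y = y by vs [dζ _, RingEquiv.refl_apply, y2, y4]; cg, tv_inv] at e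
    replace e : (g⁻¹ y).2.1 = l * k * φ (g⁻¹ y).2.1 := by vs [tv_ap, b1] at e; exact e
    have e3 := congrArg (nm σ) e
    rw [nm_mul, nm_eq d l0, eq_comm, mul_eq_right₀ (nm0 n0)] at e3
    vs [e0, hl, d.fix l0 hl] at e1 e2 e3
    linear_combination -e3 - l * l * e1 + e2)
  have b3 := o' y e0
  rw [om_e0 y, y1, mul_zero] at b3
  rw [mul_ap, mul_ap, show tv _ (g⁻¹ y) = g⁻¹ y by vs [tv_ap, om, b1, b2, u1] at b3 ⊢; linear_combination b3, ap_inv]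

end H2.TD
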