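import Cfsg.Agent.H2.U41

/-! Groups with Sylow 2-subgroups of type `A₈`: solvable centralizers and fusion. -/

set_option autoImplicit false
set_option linter.unusedSectionVars false

namespace H2.U4
open Cfsg Subgroup H17.GS
open H19 hiding eq_bot_mono
open scoped commutatorElement

universe u
variable {G : Type u} [Group G] [Finite G] {φ : T →* G} {X Y : Subgroup G} {g h n : G}
  {s t x y x' y' w p q : T} {B : Subgroup T}

theorem mz (h : t = 1 ∨ t = z) : φ t ∈ zpowers (φ z) := (mem_zp (sqm zz)).2 (h.imp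
  (fun k => by rw [k, map_one]) fun k => by rw [k])

/-- `B` is its own centralizer in `Q` -/
def SQ (B : Subgroup T) : Prop := (∀ x ∈ B, x ∈ Q0) ∧ ∀ x ∈ Q0, (∀ y ∈ B, y * x = x * y) → x ∈ B

section
variable (E : Em φ X) (hX : X ≤ C[φ z]) (hs : H19.Sol X)
include E hX hs

theorem Em.core0 (h0 : O(X) = ⊥) : X ≤ N(Q0.map φ) := by
  have hD : zpowers (φ z) ⊴ X := ⟨zpowers_le' (E.mem z), hX.trans (cent1_le_norm_zpowers _)⟩
  have sc := E.scl hX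
  have st : St0 allCls (quo (zpowers (φ z)) (Q0.map φ)) (quo _ X) :=
    ⟨trivial, (abelem_quo_iff (sc.le.trans hD.norm)).2 ⟨commutator_le.2 (by
      rintro _ ⟨x, hx, rfl⟩ _ ⟨y, hy, rfl⟩
      rw [← map_commutatorElement]
      exact mz ((by decide +kernel : ∀ x ∈ Q0, ∀ a ∈ Q0, ⁅x, a⁆ = 1 ∨ ⁅x, a⁆ = z) x hx y hy)), by
      rintro _ ⟨x, hx, rfl⟩
      rw [← map_pow, pow_two]
      exact mz ((by decide +kernel : ∀ x ∈ Q0, x * x = 1 ∨ x * x = z) x hx)⟩, sc.quo hD,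
      O_quo_central h0 (pg_zpowers (sqm zz)) hD.le (zp_cent hX)⟩
  exact norms_of_quo' hD.norm (sc.le.trans hD.norm) (zpowers_le' (mem_map' (by decide)))
    (le_antisymm (st.Kc_le' (fun J hJ => (hJ.comp.not_le (sol_quo hs _) hJ.comp.le).elim) inf_le_left)
      le_Kc ▸ Kc_norm)

theorem Em.cQ0 (h0 : O(X) = ⊥) : X ⊓ C(Q0.map φ) ≤ zpowers (φ z) := by
  have hN := inf_cent_normal (E.core0 hX hs h0)
  have hS := E.syl.inf_normal hN
  have h1 : φ.range ⊓ (X ⊓ C(Q0.map φ)) ≤ zpowers (φ z) := by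
    rintro _ ⟨⟨t, rfl⟩, -, ht⟩
    refine mz ((by decide +kernel : ∀ t, (∀ y ∈ Q0, y * t = t * y) → t = 1 ∨ t = z) t fun y hy => E.inj ?_)
    rw [map_mul, map_mul]; exact ht _ (mem_map' hy)
  have h3 := H18.Burnside_normal_complement hS (inf_le_left.trans (cents_mono (zp_cent hX) hN.le h1))
  rw [le_bot_iff.1 (h0 ▸ Oc_le_Oc hN :)] at h3
  rw [← hS.sup_compl h3, sup_bot_eq]; exact h1

theorem Em.odd0 (h0 : O(X) = ⊥) (hB : SQ B) (hY : Y ≤ X) (ho : OG Y) (hn : B.map φ ≤ N(Y)) : Y = ⊥ := by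
  have hN := hY.trans (E.core0 hX hs h0)
  have l : B.map φ ≤ Q0.map φ := map_mono hB.1
  have h1 : B.map φ ≤ C(Y) := commg_eq_bot.1 (le_bot_iff.1 (PiN.inf_eq_bot (E.pg Q0) ho ▸ le_inf
    ((commutator_mono l le_rfl).trans (commg_le_left hN)) (commg_le_right hn)))
  have h2 := PxQ (E.pg Q0) (E.pg B) ho h1 (l.trans le_normalizer) hN (le_trans (by
    rintro _ ⟨⟨t, ht, rfl⟩, h⟩
    refine mem_map' (hB.2 t ht fun y hy => E.inj ?_)
    rw [map_mul, map_mul]; exact h _ (mem_map' hy)) h1)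
  exact le_bot_iff.1 (PiN.inf_eq_bot (pg_zpowers (sqm zz)) ho ▸ le_inf
    ((le_inf hY h2).trans (E.cQ0 hX hs h0)) le_rfl)

theorem Em.loc : X ≤ O(X) ⊔ (X ⊓ N(Q0.map φ)) ∧
    ∀ B Y, SQ B → Y ≤ X → OG Y → B.map φ ≤ N(Y) → Y ≤ O(X) := by
  have hK := Oc_norm {2}ᶜ X
  let ψ : T →* Quo O(X) := (qmk _).comp (φ.codRestrict _ fun t => hK (E.mem t))
  have hψ : Function.Injective ψ := inj_of fun k => E.z1 ((O_og X).eq_one (qmk_eq_one.1 k) (sqm zz))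
  have hm : ∀ B : Subgroup T, B.map ψ = quo O(X) (B.map φ) := fun B => le_antisymm (by
    rintro _ ⟨t, ht, rfl⟩
    exact mem_im_of (mem_map' ht)) (by
    rintro _ ⟨⟨_, _⟩, ⟨t, ht, rfl⟩, rfl⟩
    exact ⟨t, ht, rfl⟩)
  have E' : Em ψ (quo O(X) X) := ⟨hψ, by
    rw [MonoidHom.range_eq_map, hm, ← MonoidHom.range_eq_map]; exact E.syl.quo hK⟩
  have hX' : quo O(X) X ≤ C[ψ z] := by
    rintro _ ⟨g, hg, rfl⟩
    exact mem_cent1.2 (((qmk _).map_mul _ _).symm.trans ((congrArg (qmk _)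
      (Subtype.ext (mem_cent1.1 (hX hg)))).trans ((qmk _).map_mul ⟨φ z, hK (E.mem z)⟩ g)))
  have h0 := Oc_quo_Oc {2}ᶜ X
  have h1 := E'.core0 hX' (sol_quo hs _) h0
  have hE := (map_le_range φ Q0).trans (E.syl.le.trans hK)
  rw [hm, ← inf_eq_left, H18.quo_inf_norm hE ((O_og X).cop (E.pg _)) (.inr (O_og X).sol) (Oc_le _ _)] at h1
  exact ⟨(quo_le_quo_iff hK (inf_le_left.trans hK)).1 h1.ge, fun B Y hB hY ho hn =>
    (quo_eq_bot_iff (hY.trans hK)).1 (E'.odd0 hX' (sol_quo hs _) h0 hB (quo_mono _ hY) (ho.quo _)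
      (hm B ▸ quo_norms hn))⟩

theorem Em.cQ (h : Cj φ X x y) (hx : x ∈ Q0) (hy : y ∈ Q0) : Cj φ (X ⊓ N(Q0.map φ)) x y := by
  obtain ⟨g, hg, f⟩ := h
  obtain ⟨o, ho, n, hn, rfl⟩ := (mem_sup_of_norm (inf_le_left.trans (Oc_norm _ X))).1 ((E.loc hX hs).1 hg)
  obtain ⟨w, hw, f'⟩ := lN hn.2 hx
  have e : o * φ w * o⁻¹ = φ y := by rw [← f, ← f']; group
  have : φ (y * w⁻¹) = 1 := (O_og X).eq_one' (E.pg Q0) (by
    rw [map_mul, map_inv, ← e, mul_assoc, mul_assoc, ← mul_assoc (φ w)]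
    exact mul_mem ho (conj_mem_of_norm (Oc_norm _ X (E.mem w)) (inv_mem ho))) (mem_map' (mul_mem hy (inv_mem hw)))
  exact ⟨n, hn, mul_inv_eq_one.1 (E.inj (this.trans (map_one φ).symm)) ▸ f'⟩

omit hX hs in
theorem Em.nEU (hg : g ∈ X) (f1 : F φ g a x) (f2 : F φ g d y) (hz : F φ g z z) (hx : x ∈ U0) (hy : y ∈ U0) :
    False := by
  have l := (map_le_range φ A0).trans E.syl.le
  have k : ∀ p ∈ E1, ∃ q ∈ U0, F φ g p q := fun p hp => by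
    have k : ∀ {p q}, F φ g p q → q ∈ U0 → (∃ q ∈ U0, F φ g p q) ∧ ∃ q ∈ U0, F φ g (p * z) q :=
      fun f h => ⟨⟨_, h, f⟩, _, mul_mem h (by decide), f.mul hz⟩
    obtain ⟨v, hv, rfl | rfl⟩ := (by decide +kernel : ∀ p ∈ E1, ∃ v, (v = 1 ∨ v = a ∨ v = d ∨ v = a * d) ∧
      (p = v ∨ p = v * z)) p hp <;> rcases hv with rfl | rfl | rfl | rfl
    exacts [(k F.one (one_mem _)).1, (k f1 hx).1, (k f2 hy).1, (k (f1.mul f2) (mul_mem hx hy)).1,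
      (k F.one (one_mem _)).2, (k f1 hx).2, (k f2 hy).2, (k (f1.mul f2) (mul_mem hx hy)).2]
  obtain ⟨n, hn, k1⟩ := (E.syl.of_le (le_inf E.syl.le rE) inf_le_left).scj_le (K := cj g⁻¹ (A0.map φ))
    (le_inf ((cj_mono _ l).trans (cj_of_mem (inv_mem hg)).le) (norms_of_cents (cents_symm (by
      rintro _ ⟨p, hp, rfl⟩
      obtain ⟨q, hq, f⟩ := k p hp
      rw [← cj_cent, ← f.inv]
      refine conj_mem_cj.2 (mem_cent.2 ?_)
      rintro _ ⟨w, hw, rfl⟩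
      rw [← map_mul, ← map_mul, (by decide +kernel : ∀ q ∈ U0, ∀ w ∈ A0, w * q = q * w) q hq w hw]))))
    ((E.pg _).J _)
  rw [cj_cj] at k1
  obtain ⟨p, hp, f3⟩ := lN (inv_mem hn.2) (by decide : a ∈ E1)
  obtain ⟨q, hq, f4⟩ := k p hp
  exact absurd (E.mN (E.nA fun x hx => lift k1 hx) (f4.inv.trans (by simpa using f3.inv))
    ((by decide +kernel : ∀ q ∈ U0, q ∈ A0) q hq)) (by decide)

theorem Em.da (h : Cj φ X a y) (hy : y ∈ A0) : Cj φ X d a := by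
  have hy' : y ∈ Q0 := let ⟨_, h1, h2⟩ := h; E.sc hX h1 h2 (by decide)
  obtain ⟨g, hg, f⟩ := E.cQ hX hs h (by decide) hy'
  have yU := (by decide +kernel : ∀ y ∈ A0, y ∈ Q0 → y ∈ U0) y hy hy'
  have hz : F φ g z z := F.cen.2 (hX hg.1)
  obtain ⟨w, hw, f1⟩ := lN hg.2 (by decide : d ∈ Q0)
  have wU : w ∉ U0 := fun k => E.nEU hg.1 f f1 hz yU k
  obtain ⟨u, hu, u1, uz, e⟩ := (by decide +kernel : ∀ w ∈ Q0, w ∉ U0 → ∃ u ∈ U0, u ≠ 1 ∧ u ≠ z ∧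
    b * w * b⁻¹ = w * u) w hw wU
  obtain ⟨v, hv, f2⟩ := lN (inv_mem hg.2) ((by decide +kernel : ∀ q ∈ U0, q ∈ Q0) u hu)
  replace f2 : F φ g v u := by simpa using f2.inv
  have f3 := (f1.trans (F.of e)).trans (f1.mul f2).inv
  have key : ∀ {p p'}, F φ g p p' → p' ∈ U0 → d = p → Cj φ X d a := fun f h e =>
    (wU (by subst e; exact E.fz f f1 ▸ h)).elim
  have uu : ∀ u ∈ U0, ∀ y ∈ U0, u * y = y * u ∧ u * u = 1 := by decide +kernel
  obtain k | k | k | k | k := (by decide +kernel : ∀ v ∈ Q0, v ≠ 1 → v ≠ z → v * v = 1 → v * a = a * v →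
    d * v * (d * v) = 1 → (∃ w, w * (d * v) * w⁻¹ = a) ∨ d = v ∨ d = v * z ∨ d = v * a ∨ d = v * a * z) v hv
    ((E.n1 f2).2 u1) (mt (E.eq f2 hz).1 uz) ((E.sq f2).2 (uu u hu u hu).2) ((E.cm f2 f).2 (uu u hu y yU).1)
    ((E.sq f3).1 (by decide))
  · exact Cj.trans ⟨_, mul_mem (inv_mem hg.1) (mul_mem (E.mem b) hg.1), f3⟩ (E.cc k)
  exacts [key f2 hu k, key (f2.mul hz) (mul_mem hu (by decide)) k, key (f2.mul f) (mul_mem hu yU) k,
    key ((f2.mul f).mul hz) (mul_mem (mul_mem hu yU) (by decide)) k]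

end

end H2.U4
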