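import Cfsg.Agent.H2.U42
import Cfsg.Agent.H1.Gd3
import Cfsg.Agent.H10.Fusion

/-! Groups with Sylow 2-subgroups of type `A₈`: strongly closed abelian subgroups. -/

set_option autoImplicit false
set_option linter.unusedSectionVars false

namespace H2.U4
open Cfsg Subgroup H17.GS
open H19 hiding eq_bot_mono
open scoped commutatorElement

universe u
variable {G : Type u} [Group G] [Finite G] {φ : T →* G} {X Y J : Subgroup G} {g h n : G}
  {s t x y x' y' w p q : T} {B V : Subgroup T}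

structure Hy (φ : T →* G) : Prop extends Em φ ⊤ where
  res : pResidual 2 G = ⊤
  o : O((⊤ : Subgroup G)) = ⊥
  o2 : Oc {2} (⊤ : Subgroup G) = ⊥
  sol : H19.Sol C[φ z]

theorem Hy.comp (H : Hy φ) {τ : T →* T} (h : τ z = z) : Hy (φ.comp τ) :=
  ⟨H.toEm.comp (h.symm ▸ by decide), H.res, H.o, H.o2, by rw [MonoidHom.comp_apply, h]; exact H.sol⟩

theorem fix_all {K : Subgroup G} {r m : ℕ} (hr : r.Prime) (hy : PG r Y) (hn : Y ≤ N(K)) (hK : #K = m)
    (h : ∀ k, k ∣ m → m ≡ k [MOD r] → k = 1 ∨ k = m) (h1 : ¬ m ≡ 1 [MOD r] ∨ K ⊓ C(Y) ≠ ⊥) : K ≤ C(Y) := by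
  have k := hK ▸ H1.Gd.modEq_cent hy hr hn
  obtain e | e := h _ (hK ▸ card_dvd inf_le_left) k
  · exact (h1.elim (fun n => n (e ▸ k)) fun n => n (card_eq_one.1 e)).elim
  · exact inf_eq_left.1 (eq_of_le_of_card_ge inf_le_left (hK.trans e.symm).le)

theorem Hy.nJ (H : Hy φ) {A : Subgroup G} (st : St0 allCls A ⊤) (h16 : #A ≤ 16) (hJ : Act0 A ⊤ J) :
    Sim J ∧ ⊤ ≤ N(J) := by
  have sim : ∀ J, Act0 A ⊤ J → Sim J := fun J hJ =>
    sim_of_center hJ.comp.qs (le_bot_iff.1 (H.o2 ▸ hJ.comp.center_le_two H.o))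
  have c4 : ∀ J, Act0 A ⊤ J → 4 ≤ #(A ⊓ J : Subgroup G) := fun J hJ =>
    four_le' (sim J hJ) (st.sc_inf hJ.comp) (abelem_mono st.ab inf_le_left) fun e => st.not_le hJ (e ▸ bot_le)
  refine ⟨sim J hJ, by_contra fun k => ?_⟩
  obtain ⟨t, -, ht⟩ := SetLike.not_le_iff_exists.1 k
  have key : ∀ g, g ∈ N(J) ∨ t⁻¹ * g ∈ N(J) := fun g => by_contra fun k => by
    rw [not_or, mem_norm_iff_cj, mem_norm_iff_cj, cj_mul] at k
    rw [mem_norm_iff_cj] at ht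
    have h1 := st.act_conj hJ (mem_top g)
    have h2 := st.act_conj hJ (mem_top t)
    have n : cj g J ≠ cj t J := fun e => k.2 (by rw [e, cj_cj, inv_mul_cancel, cj_one])
    have d : ∀ {L D}, Act0 A ⊤ L → D ≤ C(L) → D ⊓ (A ⊓ L) = ⊥ := fun hL h => le_bot_iff.1
      ((sim _ hL).center ▸ le_inf (inf_le_right.trans inf_le_right) (inf_le_left.trans h))
    have l : A ⊓ cj g J ⊔ A ⊓ cj t J ≤ A := sup_le inf_le_left inf_le_left
    have := card_le (sup_le l (inf_le_left : A ⊓ J ≤ A))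
    rw [card_sup_of_disjoint (norms_of_comm st.ab.1 inf_le_left l) (d hJ (sup_le
      (inf_le_right.trans (h1.comp.cents hJ.comp k.1)) (inf_le_right.trans (h2.comp.cents hJ.comp ht)))),
      card_sup_of_disjoint (norms_of_comm st.ab.1 inf_le_left inf_le_left)
      (d h2 (inf_le_right.trans (h1.comp.cents h2.comp n)))] at this
    have := (Nat.mul_le_mul (Nat.mul_le_mul (c4 _ h1) (c4 _ h2)) (c4 _ hJ)).trans this
    omega
  exact H10.index_ne_two_of_pResidual H.res N(J) (index_eq_two_iff'.2 ⟨t⁻¹, fun g => (key g).elim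
    (fun e => .inr ⟨e, fun k => ht (inv_mem_iff.1 ((mul_mem_cancel_right e).1 k))⟩)
    fun e => .inl ⟨e, fun k => ht (inv_mem_iff.1 ((mul_mem_cancel_right k).1 e))⟩⟩)

structure GB (B V : Subgroup T) (r : ℕ) : Prop where
  sq : ∀ x ∈ B, x * x = 1
  cm : ∀ x ∈ B, ∀ y ∈ B, x * y = y * x
  nm : ∀ x ∈ B, ∀ w, w * x * w⁻¹ ∈ B
  mz : z ∈ B
  le : ∀ x ∈ B, x ∈ V
  sv : ∀ x ∈ V, x * x ∈ B
  iv : ∀ x ∉ B, ∃ y ∈ B, ∃ w : T, x * y * (x * y) = 1 ∨ ⁅w, x⁆ * y * (⁅w, x⁆ * y) = 1 ∧ ⁅w, x⁆ ∉ B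
  c4 : ∀ v ∈ V, v ∉ B → #(B ⊓ C[v] : Subgroup T) = 4
  cv : Nat.card V = 4 * Nat.card B
  cb : Nat.card B = 16 ∧ r = 5 ∨ Nat.card B = 8 ∧ r = 7

theorem card_cen (B : Subgroup T) [DecidablePred (· ∈ B)] (v : T) : #(B ⊓ C[v] : Subgroup T) =
    (Finset.univ.filter fun x => x ∈ B ∧ x * v = v * x).card := by
  classical
  rw [card_sub]
  congr 1; ext; simp [mem_centralizer_singleton_iff]

theorem gbA : GB A0 ⊤ 5 := ⟨by decide +kernel, by decide +kernel, by decide +kernel, by decide, fun _ _ => trivial,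
  fun x _ => (by decide +kernel : ∀ x, x * x ∈ A0) x, by decide +kernel, fun v h => by
    rw [card_cen]; clear h; revert v; decide +kernel, by rw [card_top, cardA, T.card], .inl ⟨cardA, rfl⟩⟩

theorem gbE : GB E1 R1 7 := ⟨by decide +kernel, by decide +kernel, by decide +kernel, by decide, by decide +kernel,
  by decide +kernel, by decide +kernel, fun v => by rw [card_cen]; revert v; decide +kernel,
  by rw [cardE, cardR], .inr ⟨cardE, rfl⟩⟩

theorem Hy.nscl (H : Hy φ) {r : ℕ} (k : GB B V r) : ¬ SCl (B.map φ) ⊤ := fun sc => by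
  have E := H.toEm
  have st : St0 allCls (B.map φ) ⊤ := ⟨trivial, abm k.sq, sc, H.o⟩
  have cB := E.card B
  have nB : φ.range ≤ N(B.map φ) := rN k.nm
  obtain ⟨J, hJ⟩ : ∃ J, Act0 (B.map φ) ⊤ J := by_contra fun n => E.z1 (mem_bot.1
    (st.A_le (fun J hJ => (n ⟨J, hJ⟩).elim) (H.o2 ▸ inf_le_right) (mem_map' k.mz)))
  obtain ⟨sim, nl⟩ := H.nJ st (by have := k.cb; omega) hJ
  have zJ : φ z ∈ J := by
    obtain ⟨_, ⟨⟨x, -, rfl⟩, h⟩, h'⟩ := SetLike.not_le_iff_exists.1 (st.not_le hJ)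
    exact zN (le_top.trans nl) h fun e => h' (by rw [e, map_one]; exact one_mem _)
  have nC : ∀ x ≠ 1, φ x ∉ C(J) := fun x x1 h => E.z1 (mem_bot.1 (sim.center ▸
    ⟨zJ, zN (le_top.trans (norms_cent nl)) h x1⟩))
  have BJ : B.map φ ≤ J := fun a ha => by
    obtain ⟨x, hx, _, ⟨⟨y, -, rfl⟩, hy⟩, rfl⟩ := st.dec hJ ha
    rw [not_not.1 (mt (nC y) (not_not.2 hy)), map_one, mul_one]; exact hx.2
  have gt := gold' sim st.ab (sc.mono BJ le_top) fun e => E.z1 (mem_bot.1 (e ▸ mem_map' k.mz))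
  have iv : ∀ x, φ x ∈ J → x * x = 1 → x ∈ B := fun x hx x2 => by_contra fun n => by
    obtain ⟨g, -, e⟩ := gt.conj sim zJ hx (E.o2 zz (by decide)) (E.o2 x2 fun e => n (e ▸ one_mem _))
    obtain ⟨y, hy, e'⟩ := sc.cl _ E.syl.pi (map_le_range _ _) _ (mem_map' k.mz) g trivial ⟨x, e.symm⟩
    exact n (E.inj (e'.trans e) ▸ hy)
  have hS : Syl 2 (B.map φ) J := by
    convert hJ.comp.syl E.syl using 1
    refine le_antisymm (le_inf (map_le_range _ _) BJ) ?_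
    rintro _ ⟨⟨x, rfl⟩, hx⟩
    refine mem_map' (by_contra fun n => ?_)
    obtain ⟨y, hy, w, e | ⟨e, n'⟩⟩ := k.iv x n
    · exact n ((mul_mem_cancel_right hy).1 (iv _ (map_mul φ _ _ ▸ mul_mem hx (BJ (mem_map' hy))) e))
    · refine n' ((mul_mem_cancel_right hy).1 (iv _ (map_mul φ _ _ ▸ mul_mem ?_ (BJ (mem_map' hy))) e))
      rw [map_commutatorElement]
      exact mul_mem (conj_mem_of_norm (nl trivial) hx) (inv_mem hx)
  have hr : r.Prime := by rcases k.cb with ⟨-, rfl⟩ | ⟨-, rfl⟩ <;> norm_num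
  have hM : (J ⊓ N(B.map φ)) ≤ N(B.map φ) := inf_le_right
  have hO : OG (quo (B.map φ) (J ⊓ N(B.map φ))) :=
    (piG_quo_iff hM).2 (hS.of_le (le_inf BJ le_normalizer) inf_le_left).idx
  have nV := (map_le_range φ V).trans nB
  obtain ⟨P', h1, h2⟩ := inv_syl_exists r (A := quo (B.map φ) (V.map φ)) (quo_norms (norms_inf
    (le_top.trans nl) (norms_of_le nV))) (hO.cop ((E.pg V).quo _)) (.inr hO.sol)
  obtain ⟨P, hP⟩ := exists_syl r (J ⊓ N(B.map φ))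
  obtain ⟨_, ⟨g, hg, rfl⟩, e⟩ := (hP.quo hM).sconj h1
  replace hP : Syl r (cj (g : G) P) _ := hP.Jmem hg
  rw [← quo_cj g.2] at e
  generalize cj (g : G) P = P at hP e
  subst e
  have h3 : quo (B.map φ) P ≤ quo (B.map φ) C(B.map φ) := le_of_ab (abelem_of_sq (by
      rintro _ ⟨⟨_, h⟩, ⟨x, hx, rfl⟩, rfl⟩
      exact ((qmk _).map_mul _ _).symm.trans (qmk_eq_one.2 ⟨_, k.sv x hx, map_mul φ x x⟩)))
    (by
      have := card_mul_relIndex (map_mono k.le : B.map φ ≤ V.map φ)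
      rw [cB, E.card, k.cv, ← card_quo nV] at this
      rcases k.cb with ⟨h, -⟩ | ⟨h, -⟩ <;> rw [h] at this <;> omega) (hO.of_le h1.le) h2 (by
      rintro _ ⟨⟨_, h⟩, ⟨v, hv, rfl⟩, rfl⟩ v1 _ ⟨⟨y, hy, rfl⟩, hc⟩
      have vB : v ∉ B := fun n => v1 (qmk_eq_one.2 (mem_map' n))
      obtain ⟨w, hw, e⟩ : (y : G) * φ v * y⁻¹ * (φ v)⁻¹ ∈ B.map φ :=
        (qmk_eq_one (x := y * ⟨_, h⟩ * y⁻¹ * ⟨_, h⟩⁻¹)).1 (by
          rw [map_mul, map_mul, map_mul, mem_cent1.1 hc, map_inv, map_inv]; group)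
      have f : F φ y v (w * v) := by rw [F, map_mul, e, inv_mul_cancel_right]; rfl
      have pg : PG r (zpowers (y : G)) := hP.pi.of_le (zpowers_le' hy)
      have k1 := fix_all (K := (B ⊓ C[v]).map φ) (m := 4) hr pg (zpowers_le' (toN fun x hx => by
          obtain ⟨x', hx', f'⟩ := lN y.2 hx.1
          refine ⟨x', ⟨hx', mem_cent1.2 (mul_left_cancel (a := w) ?_)⟩, f'⟩
          rw [← mul_assoc, k.cm w hw x' hx', mul_assoc, (E.cm f' f).1 (mem_cent1.1 hx.2), mul_assoc]))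
        ((E.card _).trans (k.c4 v hv vB))
        (fun j hj e => by
          have := Nat.le_of_dvd (by decide) hj
          rcases k.cb with ⟨-, rfl⟩ | ⟨-, rfl⟩ <;> interval_cases j <;> simp_all [Nat.ModEq])
        (.inl (by rcases k.cb with ⟨-, rfl⟩ | ⟨-, rfl⟩ <;> decide))
      refine mem_im_of (cents_symm (fix_all hr pg (zpowers_le' y.2) cB (fun j hj e => ?_) (.inr fun e => ?_))
        (mem_zpowers _))
      · rcases k.cb with ⟨h, rfl⟩ | ⟨h, rfl⟩ <;> rw [h] at hj e ⊢ <;> have := Nat.le_of_dvd (by decide) hj <;>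
          interval_cases j <;> simp_all [Nat.ModEq]
      · have := card_le (e ▸ le_inf (map_mono inf_le_left) k1 : (B ⊓ C[v]).map φ ≤ ⊥)
        rw [E.card, k.c4 v hv vB, card_bot] at this
        omega)
  rw [quo_le_quo_iff (hP.le.trans hM) (cent_le_norm _), sup_eq_right.2 (ab_cent st.ab)] at h3
  refine hP.not_dvd_relIndex hr (h3.trans (cent_le_cent1 (mem_map' k.mz))) ?_
  rw [← H1.Gd.ncard_cls, show {g | ∃ y ∈ J ⊓ N(B.map φ), y * φ z * y⁻¹ = g} = (B.map φ : Set G) \ {1} from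
    Set.ext fun g => ⟨fun ⟨y, hy, e⟩ => e ▸ ⟨conj_mem_of_norm hy.2 (mem_map' k.mz), conj_ne_one E.z1 y⟩,
      fun ⟨⟨x, hx, e⟩, g1⟩ => ?_⟩, Set.ncard_sdiff_singleton_of_mem (one_mem _), ← Nat.card_coe_set_eq,
      SetLike.coe_sort_coe, cB]
  · rcases k.cb with ⟨h, rfl⟩ | ⟨h, rfl⟩ <;> rw [h] <;> decide
  subst e
  obtain ⟨n, hn, e⟩ := st.trans hJ (mem_map' k.mz) (mem_map' hx) (nC z (by decide))
    (nC x fun e => g1 (by rw [e, map_one]; rfl))
  exact ⟨n, hn, mul_inv_eq_one.1 (mem_bot.1 (sim.center ▸ ⟨J.mul_mem (conj_mem_of_norm (nl trivial) zJ)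
    (J.inv_mem (BJ (mem_map' hx))), e⟩))⟩

end H2.U4
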