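import Cfsg.Agent.H2.U43

/-! Groups with Sylow 2-subgroups of type `A₈`: fusion of involutions. -/

set_option autoImplicit false
set_option linter.unusedSectionVars false

namespace H2.U4
open Cfsg Subgroup H17.GS
open H19 hiding eq_bot_mono
open scoped commutatorElement

universe u
variable {G : Type u} [Group G] [Finite G] {φ : T →* G} {X Y J : Subgroup G} {g h n : G}
  {s t x y x' y' w p q : T} {B V : Subgroup T}

def FA (φ : T →* G) (x : T) : Prop := ∃ y ∈ A0, Cj φ ⊤ x y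

theorem FA.of (h : FA φ y) (k : Cj φ ⊤ x y) : FA φ x := let ⟨_, h1, h2⟩ := h; ⟨_, h1, k.trans h2⟩

def P1 (φ : T →* G) : Prop := Cj φ ⊤ z d

def P2 (φ : T →* G) : Prop := Cj φ ⊤ z b ∧ ∀ u ∈ U0, Cj φ ⊤ z u → u = z

theorem ρe : ρ z = z ∧ ρ a = c ∧ ρ c = a * c ∧ ρ d = e ∧ ρ e = d * e * z := by decide +kernel

namespace Hy
variable (H : Hy φ)
include H

theorem cz : Em φ C[φ z] := H.toEm.sub rz le_top

theorem th {W : Subgroup T} (hW : W.index = 2) (x2 : x * x = 1) :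
    ∃ g, ∃ y ∈ W, F φ g x y ∧ ∀ w, w * x = x * w → ∃ w', F φ g w w' := by
  have : Fact (Nat.Prime 2) := ⟨Nat.prime_two⟩
  obtain ⟨g, k, y, hy, e⟩ := H28.extremal_thompson_two (S := φ.range) (T := W.map φ)
    ⟨le_top, H.syl.pi.isPGroup, fun _ hR h1 h2 => H.syl.max h1 h2 (PiN.of_isPGroup Nat.prime_two hR)⟩
    (by rw [MonoidHom.range_eq_map, relIndex_map_map_of_injective _ _ H.inj, relIndex_top_right, hW])
    ((pow_two _).trans (sqm x2)) (H.res ▸ mem_top _) (H.toEm.pg C[x]).isPGroup (cen_le x)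
    (mem_map' (mem_cent1_self x))
  exact ⟨g, y, hy, e.symm, fun w hw => lift k (mem_cent1.2 hw)⟩

theorem bU : ∃ y ∈ U0, Cj φ ⊤ b y :=
  let ⟨_, y, hy, f, k⟩ := H.th (x := b) idxQ (by decide)
  ⟨y, (by decide +kernel : ∀ y ∈ A0, y ∈ Q0 → y ∈ U0) y
    (H.toEm.mN (H.toEm.nA' (by decide) k) f (by decide)) hy, f.top⟩

theorem t1 : FA φ a ∨ Cj φ ⊤ a c :=
  let ⟨_, y, hy, f, _⟩ := H.th (x := a) idxR2 (by decide)
  ((by decide +kernel : ∀ y ∈ R2, y * y = 1 → y ∈ A0 ∨ ∃ w, w * y * w⁻¹ = c) y hy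
    ((H.toEm.sq f).1 (by decide))).imp (fun h => ⟨y, h, f.top⟩) fun h => f.top.trans (H.toEm.cc h)

theorem fa : FA φ a := by_contra fun n => by
  have E := H.toEm
  have n2 : ¬ FA φ c := fun k => n (k.of (H.t1.resolve_left n))
  have n3 : ¬ FA φ (a * c) := fun k => n2 ((H.comp ρe.1).t1.elim (fun ⟨y, h1, h2⟩ => ρe.2.1 ▸
    ⟨ρ y, (by decide +kernel : ∀ y ∈ A0, ρ y ∈ A0) y h1, h2⟩) fun h => k.of (ρe.2.1 ▸ ρe.2.2.1 ▸ h))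
  refine H.nscl gbA (SCl.of_syl H.syl (map_le_range _ _) ?_)
  rintro _ ⟨x, hx, rfl⟩ g - ⟨y, hy⟩
  refine ⟨y, by_contra fun k => ?_, hy⟩
  have f : F φ g x y := hy.symm
  have k' : FA φ y := ⟨x, hx, f.top.symm⟩
  obtain h | h | h := (by decide +kernel : ∀ y ∉ A0, y * y = 1 → (∃ w, w * a * w⁻¹ = y) ∨
    (∃ w, w * c * w⁻¹ = y) ∨ ∃ w, w * (a * c) * w⁻¹ = y) y k ((E.sq f).1 (gbA.sq x hx))
  exacts [n (k'.of (E.cc h)), n2 (k'.of (E.cc h)), n3 (k'.of (E.cc h))]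

theorem da : Cj φ C[φ z] d a := by
  have E := H.toEm
  obtain ⟨y, hy, k⟩ := H.fa
  obtain ⟨g, -, h, -, y', f1, f2, k1, k2⟩ := E.ext2 k
  obtain ⟨c', f3⟩ := k1 c (by decide)
  obtain ⟨d', f4⟩ := k1 d (by decide)
  have f5 : F φ g z ⁅c', d'⁆ := (by decide : ⁅c, d⁆ = z) ▸ f3.comm f4
  obtain ⟨m, -, f6, k3⟩ := E.ext1 f5.top.symm
  obtain ⟨w, hw, f7⟩ := lN (E.nA' ((by decide +kernel : ∀ x y : T, ⁅x, y⁆ ∈ A0) c' d') k3)
    (E.mN (E.nA' hy k2) f2 hy)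
  exact H.cz.da le_rfl H.sol ⟨_, F.cen.1 (f5.trans f6), f1.trans f7⟩ hw

theorem ec : Cj φ C[φ z] e c := by
  have := (H.comp ρe.1).da
  rw [MonoidHom.comp_apply, ρe.1] at this
  exact ρe.2.1 ▸ ρe.2.2.2.1 ▸ this

theorem dec : Cj φ C[φ z] (d * e * z) (a * c) := by
  have := (H.comp ρe.1).ec
  rw [MonoidHom.comp_apply, ρe.1] at this
  exact ρe.2.2.1 ▸ ρe.2.2.2.2 ▸ this

theorem cls (h : x * x = 1) : ∃ y ∈ A0, Cj φ C[φ z] x y ∧ (x ∈ A0 ∨ y ∈ U0 ∧ y ≠ z) := by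
  obtain k | k | k | k := (by decide +kernel : ∀ x, x * x = 1 → x ∈ A0 ∨ (∃ w, w * x * w⁻¹ = a) ∨
    (∃ w, w * x * w⁻¹ = c) ∨ ∃ w, w * x * w⁻¹ = a * c) x h
  exacts [⟨x, k, .rfl, .inl k⟩, ⟨_, by decide, (H.cz.cc k).trans H.da.symm, .inr (by decide)⟩,
    ⟨_, by decide, (H.cz.cc k).trans H.ec.symm, .inr (by decide)⟩,
    ⟨_, by decide, (H.cz.cc k).trans H.dec.symm, .inr (by decide)⟩]

theorem zst : ∃ s ∈ A0, s ≠ z ∧ Cj φ ⊤ z s := by_contra fun n => by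
  have := Hub0.zs H.syl (a := φ z) ⟨z, rfl⟩ fun g _ ⟨y, hy⟩ => by
    have f : F φ g z y := hy.symm
    obtain ⟨s, hs, ⟨m, hm, f'⟩, -⟩ := H.cls ((H.toEm.sq f).1 zz)
    rw [← hy, (H.toEm.eq f' (F.cen.2 hm)).2 (by_contra fun k => n ⟨s, hs, k, (f.trans f').top⟩)]
  rw [H.o, le_bot_iff, commg_eq_bot] at this
  exact H.toEm.z1 (mem_bot.1 (H.o2 ▸ le_Oc ⟨le_top, norms_of_cents this⟩ (pg_zpowers (sqm zz)) (mem_zpowers _)))

theorem split : ∃ ψ : T →* G, Hy ψ ∧ (P1 ψ ∨ P2 ψ) := by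
  have E := H.toEm
  by_cases h : ∀ u ∈ U0, Cj φ ⊤ z u → u = z
  · obtain ⟨s, hs, s1, k⟩ := H.zst
    have βz : β z = z := by decide
    obtain h' | h' | h' := (by decide +kernel : ∀ s ∈ A0, s ∈ U0 ∨ (∃ w, w * s * w⁻¹ = b) ∨
      ∃ w, w * s * w⁻¹ = β b) s hs
    exacts [(s1 (h s h' k)).elim, ⟨φ, H, .inr ⟨k.trans (E.cc h'), h⟩⟩, ⟨φ.comp β, H.comp βz, .inr
      ⟨show Cj φ ⊤ (β z) (β b) from βz.symm ▸ k.trans (E.cc h'), fun u hu (k : Cj φ ⊤ (β z) (β u)) =>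
        h u hu (by rwa [βz, (by decide +kernel : ∀ u ∈ U0, β u = u) u hu] at k)⟩⟩]
  push Not at h
  obtain ⟨u, hu, k, uz⟩ := h
  obtain h | h | h := (by decide +kernel : ∀ u ∈ U0, u ≠ 1 → u ≠ z → (∃ w, w * u * w⁻¹ = d) ∨
    (∃ w, w * u * w⁻¹ = ρ d) ∨ ∃ w, w * u * w⁻¹ = ρ (ρ d)) u hu (let ⟨_, _, f⟩ := k; (E.n1 f).1 (by decide)) uz
  exacts [⟨φ, H, .inl (k.trans (E.cc h))⟩, ⟨φ.comp ρ, H.comp ρe.1, .inl (show Cj φ ⊤ (ρ z) (ρ d) from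
    ρe.1.symm ▸ k.trans (E.cc h))⟩, ⟨(φ.comp ρ).comp ρ, (H.comp ρe.1).comp ρe.1, .inl
    (show Cj φ ⊤ (ρ (ρ z)) (ρ (ρ d)) from ρe.1.symm ▸ ρe.1.symm ▸ k.trans (E.cc h))⟩]

/-- a non-trivial normal subgroup has odd index -/
theorem ns (h : P1 φ ∨ P2 φ) (hn : ⊤ ≤ N(Y)) (h1 : Y ≠ ⊥) : φ.range ≤ Y := by
  have hS := H.syl.inf_normal ⟨le_top, hn⟩
  obtain ⟨_, ⟨⟨x, rfl⟩, hx⟩, x1⟩ := (bot_or_exists_ne_one (φ.range ⊓ Y)).resolve_left fun e =>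
    h1 (le_bot_iff.1 (H.o ▸ le_Oc ⟨le_top, hn⟩ (hS.eq_bot_iff.1 e)))
  let K := Y.comap φ
  have hz : z ∈ K := zN (le_top.trans hn) hx fun e => x1 (by rw [e, map_one])
  have k1 : ∀ {X x y}, Cj φ X x y → x ∈ K → y ∈ K := fun ⟨g, _, f⟩ h =>
    show φ _ ∈ Y from f ▸ conj_mem_of_norm (hn trivial) h
  have k2 : ∀ w, ∀ x ∈ K, ⁅w, x⁆ ∈ K := fun w x h => mul_mem (k1 (F.cc w x).top h) (inv_mem h)
  have k3 : ∀ (i : Bool), ∀ {p}, p ∈ K → (bif i then p else 1) ∈ K := fun i _ h => by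
    cases i; exacts [one_mem _, h]
  have k4 : ∀ {p q}, p ∈ K → q ∈ K → ∀ i j l : Bool,
      (bif i then p else 1) * (bif j then q else 1) * (bif l then z else 1) ∈ K :=
    fun h h' i j l => mul_mem (mul_mem (k3 i h) (k3 j h')) (k3 l hz)
  have k5 : d ∈ K ∧ e ∈ K := by
    obtain h | ⟨h, -⟩ := h
    swap
    · exact ⟨(by decide : ⁅a, b⁆ = d) ▸ k2 _ _ (k1 h hz), (by decide : ⁅c, b⁆ = e) ▸ k2 _ _ (k1 h hz)⟩
    have hE : ∀ x ∈ E1, x ∈ K := fun x hx =>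
      let ⟨i, j, l, e⟩ := (by decide +kernel : ∀ x ∈ E1, ∃ i j l : Bool,
        x = (bif i then a else 1) * (bif j then d else 1) * (bif l then z else 1)) x hx
      e ▸ k4 (k1 H.da (k1 h hz)) (k1 h hz) i j l
    refine ⟨k1 h hz, by_contra fun n => H.nscl gbE (SCl.of_syl H.syl (map_le_range _ _) ?_)⟩
    rintro _ ⟨x, hx, rfl⟩ g - ⟨y, hy⟩
    refine ⟨y, by_contra fun k => n ?_, hy⟩
    have hy := k1 (F.top hy.symm) (hE x hx)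
    obtain ⟨v, hv, w, e' | e'⟩ := (by decide +kernel : ∀ y ∉ E1, ∃ v ∈ E1, ∃ w : T, y * v = e ∨ ⁅w, y⁆ * v = e) y k
    exacts [e' ▸ mul_mem hy (hE v hv), e' ▸ mul_mem (k2 w y hy) (hE v hv)]
  have hU : ∀ x ∈ U0, x ∈ K := fun x hx =>
    let ⟨i, j, l, e⟩ := (by decide +kernel : ∀ x ∈ U0, ∃ i j l : Bool,
      x = (bif i then d else 1) * (bif j then e else 1) * (bif l then z else 1)) x hx
    e ▸ k4 k5.1 k5.2 i j l
  obtain ⟨y, hy, k6⟩ := H.bU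
  rintro _ ⟨x, rfl⟩
  obtain ⟨u, hu, i, j, l, e⟩ := (by decide +kernel : ∀ x, ∃ u ∈ U0, ∃ i j l : Bool,
    x = (bif i then a else 1) * (bif j then b else 1) * (bif l then c else 1) * u) x
  exact show x ∈ K from e ▸ mul_mem (mul_mem (mul_mem (k3 i (k1 H.da k5.1)) (k3 j (k1 k6.symm (hU y hy))))
    (k3 l (k1 H.ec k5.2))) (hU u hu)

theorem o2Q : Oc {2} C[φ z] ≤ Q0.map φ := fun g hg => by
  obtain ⟨x, rfl⟩ := Oc_le_hall H.cz.syl hg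
  refine mem_map' (by_contra fun n => ?_)
  obtain ⟨m, hm, f⟩ := H.cz.cQ le_rfl H.sol H.da (by decide) (by decide)
  obtain ⟨x', hx'⟩ := Oc_le_hall H.cz.syl (conj_mem_of_norm (Oc_norm _ _ hm.1) hg)
  have f' : F φ m x x' := hx'.symm
  have k : ∀ x ∉ Q0, ⁅x, d⁆ = 1 ∨ ⁅x, d⁆ = z := by decide +kernel
  have hz : F φ m z z := F.cen.2 hm.1
  exact absurd ((k x n).imp (H.toEm.eq (f'.comm f) F.one).1 (H.toEm.eq (f'.comm f) hz).1)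
    ((by decide +kernel : ∀ x ∉ Q0, ¬ (⁅x, a⁆ = 1 ∨ ⁅x, a⁆ = z)) x' fun k =>
      n (H.toEm.mN (inv_mem hm.2) f'.inv k))

end Hy

end H2.U4
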