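import Cfsg.Agent.H2.U44
import Cfsg.Agent.H17.HT27
import Cfsg.Agent.S3332

/-! Groups with Sylow 2-subgroups of type `A₈`: the core of the centralizer of the central involution. -/

set_option autoImplicit false
set_option linter.unusedSectionVars false
set_option synthInstance.maxSize 1000

namespace H2.U4
open Cfsg Subgroup H17.GS
open H19 hiding eq_bot_mono
open scoped commutatorElement

universe u
variable {G : Type u} [Group G] [Finite G] {φ : T →* G} {X Y J : Subgroup G} {g n : G}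
  {s t x y x' y' w p q : T} {B V : Subgroup T}

theorem Em.c64 (E : Em φ X) : #φ.range = 64 := by rw [MonoidHom.range_eq_map, E.card, card_top, T.card]

theorem Em.n128 (E : Em φ X) : ¬ 128 ∣ #X := fun h => by
  have := E.syl.dvd (n := 2 ^ 7) (((piN_prime (π := {2}) Nat.prime_two).2 rfl).pow 7) h
  rw [E.c64] at this; omega

theorem card_cen1 (v : T) : #C[v] = (Finset.univ.filter fun x => x * v = v * x).card := by
  classical
  rw [card_sub]
  congr 1; ext; simp [mem_centralizer_singleton_iff]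

namespace Hy
variable (H : Hy φ)
include H

theorem solc (h : Cj φ ⊤ x y) (k : H19.Sol C[φ x]) : H19.Sol C[φ y] := by
  obtain ⟨g, -, f⟩ := h
  rw [← f, ← cj_cent1]; exact sol_J k g

theorem oddU (h : Cj φ ⊤ x z) (hx : x ∈ U1) (hY : Y ≤ C[φ x]) (ho : OG Y)
    (hn : A0.map φ ≤ N(Y) ∨ E1.map φ ≤ N(Y)) : Y ≤ O(C[φ x]) := by
  have E := H.toEm
  obtain ⟨g, -, f, k⟩ := E.ext1 h
  have hg := E.nA' ((by decide +kernel : ∀ x ∈ U1, x ∈ A0) x hx) k
  have e : cj g C[φ x] = C[φ z] := by rw [cj_cent1, f]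
  rw [← cj_le_cj (g := g), cj_Oc, e]
  have l := fun B => (H.cz.loc le_rfl H.sol).2 B (cj g Y)
  rcases hn with hn | hn
  · refine l U0 ⟨by decide +kernel, by decide +kernel⟩ (e ▸ cj_mono g hY) (ho.J g)
      ((map_mono (by intro; decide +kernel +revert : U0 ≤ A0)).trans ?_)
    rw [← cj_of_mem_norm hg, ← cj_norm]; exact cj_mono g hn
  have cm := (by decide +kernel : ∀ x ∈ U1, a * x = x * a ∧ d * x = x * d) x hx
  obtain ⟨a', f1⟩ := k a cm.1
  obtain ⟨d', f2⟩ := k d cm.2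
  obtain ⟨z', f3⟩ := k z (zc x).symm
  obtain ⟨q1, q2, q3, q4⟩ := (by decide +kernel : ∀ a ∉ A0, a * a = 1 → ∀ d ∈ A0, d ≠ 1 → a * d = d * a →
    ∀ z ∈ A0, z ≠ 1 → d ≠ z → a * z = z * a → a ∈ Q0 ∧ d ∈ Q0 ∧ z ∈ Q0 ∧ ∀ x ∈ Q0, a * x = x * a →
      d * x = x * d → z * x = x * z → ∃ i j l : Bool,
        x = (bif i then a else 1) * (bif j then d else 1) * (bif l then z else 1))
    a' (fun k => absurd (E.mN (inv_mem hg) f1.inv k) (by decide)) ((E.sq f1).1 (by decide)) d'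
    (E.mN hg f2 (by decide)) ((E.n1 f2).1 (by decide)) ((E.cm f1 f2).1 (by decide)) z' (E.mN hg f3 (by decide))
    ((E.n1 f3).1 (by decide)) (mt (E.eq f2 f3).2 (by decide)) ((E.cm f1 f3).1 (by decide))
  have k3 : ∀ (K : Subgroup T) (i : Bool), ∀ {p}, p ∈ K → (bif i then p else 1) ∈ K := fun K i _ h => by
    cases i; exacts [one_mem _, h]
  have m : ∀ {p q}, p ∈ E1 → F φ g p q → q ∈ (cj g (E1.map φ)).comap φ := fun h f =>
    show φ _ ∈ _ from f ▸ conj_mem_cj.2 (mem_map' h)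
  refine l ((cj g (E1.map φ)).comap φ) ⟨fun y hy => ?_, fun y hy h => ?_⟩ (e ▸ cj_mono g hY) (ho.J g)
    ((map_comap_le _ _).trans (cj_norm g Y ▸ cj_mono g hn))
  · obtain ⟨_, ⟨p, hp, rfl⟩, f'⟩ := mem_cj'.1 hy
    obtain ⟨i, j, l, rfl⟩ := (by decide +kernel : ∀ x ∈ E1, ∃ i j l : Bool,
      x = (bif i then a else 1) * (bif j then d else 1) * (bif l then z else 1)) p hp
    have k4 : ∀ (i : Bool) {p q}, F φ g p q → F φ g (bif i then p else 1) (bif i then q else 1) :=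
      fun i _ _ f => by cases i; exacts [F.one, f]
    exact E.fz (((k4 i f1).mul (k4 j f2)).mul (k4 l f3)) f' ▸
      mul_mem (mul_mem (k3 _ i q1) (k3 _ j q2)) (k3 _ l q3)
  · obtain ⟨i, j, l, rfl⟩ := q4 y hy (h _ (m (by decide) f1)) (h _ (m (by decide) f2)) (h _ (m (by decide) f3))
    exact mul_mem (mul_mem (k3 _ i (m (by decide) f1)) (k3 _ j (m (by decide) f2))) (k3 _ l (m (by decide) f3))

theorem core1 (hG : Sim (⊤ : Subgroup G)) (h : P1 φ) :
    O(C[φ z]) = ⊥ ∨ Nonempty (G ≃* alternatingGroup (Fin 9)) := by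
  have E := H.toEm
  have hE : Abelem 2 (E1.map φ) := abm gbE.sq
  have cE : ∀ x ∈ E1, x ≠ 1 → Cj φ ⊤ z x := fun x hx x1 => by
    obtain rfl | k | k := (by decide +kernel : ∀ x ∈ E1, x ≠ 1 → x = z ∨ (∃ w, w * d * w⁻¹ = x) ∨
      ∃ w, w * a * w⁻¹ = x) x hx x1
    exacts [.rfl, h.trans (E.cc k), (h.trans (H.da.mono le_top)).trans (E.cc k)]
  obtain ⟨W, hW, k1, k2⟩ := HubSF.out hE (E.card E1 ▸ cardE.ge) (fun a => O(C[a])) (fun _ _ _ => Oc_le _ _)
    (fun _ _ _ => O_og _) (fun a ha _ => (ab_cent1 hE ha).trans (Oc_norm _ _)) fun a ha _ b hb b1 => by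
      have : H19.Sol C[b] := by
        obtain ⟨x, hx, rfl⟩ := hb
        exact H.solc (cE x hx fun k => b1 (k ▸ map_one φ)) H.sol
      have h3 := H18.p'core_cent_pgroup (pg_zpowers (sq_one hE ha)) (zpowers_le' (ab_cent1 hE hb ha)) this
      rw [cent_zpowers] at h3
      exact (le_inf (inf_le_left) (le_inf inf_le_right (inf_le_left.trans (Oc_le _ _)))).trans
        ((O_inf_le inf_le_right).trans h3)
  have nE : N(E1.map φ) ≤ N(W) := fun g hg => mem_norm_of_le_cj (k2 _ fun a ha a1 => by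
    rw [le_cj_iff, cj_Oc, cj_cent1, ← k1 _ (conj_mem_of_norm (inv_mem hg) ha) (conj_ne_one a1 _)]
    exact inf_le_left)
  have lE : U1 ≤ E1 := by intro; decide +kernel +revert
  have lA : U1 ≤ A0 := by intro; decide +kernel +revert
  have key : ∀ B, (A0 ≤ B ∨ E1 ≤ B) → N(B.map φ) ≤ N(W) := fun B hB g hg => mem_norm_of_cj_le (by
    have n : B.map φ ≤ N(cj g W) := by
      rw [← cj_of_mem_norm hg, ← cj_norm]; exact cj_mono g ((map_le_range _ _).trans (rE.trans nE))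
    refine le_of_ab (abelem_mono hE (map_mono lE)) (E.card U1 ▸ cardU.ge) (hW.J g)
      ((map_mono (hB.elim lA.trans lE.trans)).trans n) ?_
    rintro _ ⟨x, hx, rfl⟩ x1
    refine (H.oddU (cE x (lE hx) fun k => x1 (k ▸ map_one φ)).symm hx inf_le_right ((hW.J g).infl _) (hB.imp
      (fun k => norms_inf ((map_mono k).trans n) (norms_of_le (ab_cent1 (abm gbA.sq) (mem_map' (lA hx)))))
      fun k => norms_inf ((map_mono k).trans n) (norms_of_le (ab_cent1 hE (mem_map' (lE hx)))))).trans ?_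
    exact k1 _ (mem_map' (lE hx)) x1 ▸ inf_le_left)
  have nA := key A0 (.inl le_rfl)
  have oW : O(C[φ z]) ≤ W := k1 _ (mem_map' (by decide)) E.z1 ▸ inf_le_left
  have cz : C[φ z] ≤ N(W) := (H.cz.loc le_rfl H.sol).1.trans (sup_le (oW.trans le_normalizer)
    (inf_le_right.trans (key Q0 (.inr (by intro; decide +kernel +revert)))))
  by_cases hn : ⊤ ≤ N(W)
  · exact .inl (le_bot_iff.1 (H.o ▸ oW.trans (le_Oc ⟨le_top, hn⟩ hW)))
  obtain ⟨-, k⟩ | ⟨n, n1, n2, ⟨e⟩, -⟩ := H17.HT.holt_rel hG hn E.syl ⟨z, rfl⟩ rz (sqm zz) (inf_le_right.trans cz)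
    fun g _ hg => by
      obtain ⟨m, hm, y, hy⟩ := exists_conj_mem (E.sub (rz.trans cz) le_top).syl hg (conj_sq (sqm zz) g)
      have f : F φ (m * g) z y := by rw [F, ← conj_conj', hy]
      obtain ⟨s, hs, k, -⟩ := H.cls ((E.sq f).1 zz)
      obtain ⟨n, hn, f'⟩ := ((E.cA (f.top.trans (k.mono le_top)) (by decide) hs).mono
        (inf_le_right.trans nA)).trans (k.mono cz).symm
      exact ⟨m⁻¹ * n, ⟨trivial, N(W).mul_mem (N(W).inv_mem hm) hn⟩, by rw [← conj_conj', f', hy]; group⟩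
  · obtain ⟨g, hg, f⟩ := E.cA h (by decide) (by decide)
    obtain ⟨w, hw⟩ := conj_mem_of_norm (N(φ.range).inv_mem (mem_inf.1 (k.le ⟨trivial, nA hg.2⟩)).2) (⟨c, rfl⟩ : φ c ∈ φ.range)
    exact absurd ((E.cm f.inv (hw.symm : F φ g⁻¹ c w)).2 (zc w).symm) (by decide)
  have hc : #(⊤ : Subgroup G) = n.factorial / 2 := by
    have : Nontrivial (Fin n) := Fin.nontrivial_iff_two_le.2 (by omega)
    rw [Nat.card_congr e.toEquiv, nat_card_alternatingGroup, Nat.card_eq_fintype_card, Fintype.card_fin]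
  have h1 := card_dvd E.syl.le
  have h2 := E.n128
  rw [hc] at h1 h2
  rw [E.c64] at h1
  obtain rfl : n = 9 := by_contra fun k => by
    by_cases k' : 10 ≤ n
    · obtain ⟨c, hc⟩ := (by decide : 256 ∣ Nat.factorial 10).trans (Nat.factorial_dvd_factorial k')
      exact h2 ⟨c, by omega⟩
    obtain rfl : n = 7 := by obtain ⟨_, _⟩ := n1; omega
    exact absurd h1 (by decide)
  exact .inr ⟨topEquiv.symm.trans e⟩

variable (h : P2 φ)
include h

theorem p2a (hu : x ∈ U0) (x1 : x ≠ 1) (xz : x ≠ z) (hx : ∃ w, w * b * w⁻¹ = b * x) :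
    Cj φ ⊤ x (b * z) := by
  have E := H.toEm
  obtain ⟨g, hg, f⟩ := E.cA h.1.symm (by decide) (by decide)
  obtain ⟨y, hy, f'⟩ := lN hg.2 ((by decide +kernel : ∀ x ∈ U0, x ∈ A0) x hu)
  obtain k | k | k := (by decide +kernel : ∀ y ∈ A0, y ∈ U0 ∨ (∃ w, w * y * w⁻¹ = b) ∨
    ∃ w, w * y * w⁻¹ = b * z) y hy
  · exact ((E.n1 f').1 x1 (mul_eq_left.1 (h.2 _ (mul_mem (by decide) k)
      ((h.1.trans (E.cc hx)).trans (f.mul f').top)))).elim
  · exact (xz (h.2 x hu (h.1.trans (f'.top.trans (E.cc k)).symm))).elim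
  · exact f'.top.trans (E.cc k)

theorem p2b (k : Cj φ ⊤ z y) : y = z ∨ ∃ w, w * b * w⁻¹ = y := by
  have E := H.toEm
  obtain ⟨s, -, k', hy | ⟨h1, h2⟩⟩ := H.cls (let ⟨_, _, f⟩ := k; (E.sq f).1 zz)
  · obtain e | e | e := (by decide +kernel : ∀ y ∈ A0, y ∈ U0 ∨ (∃ w, w * b * w⁻¹ = y) ∨
      ∃ w, w * y * w⁻¹ = b * z) y hy
    exacts [.inl (h.2 y e k), .inr e, absurd (h.2 d (by decide) ((k.trans (E.cc e)).trans
      (H.p2a h (by decide) (by decide) (by decide) (by decide +kernel)).symm)) (by decide)]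
  · exact (h2 (h.2 s h1 (k.trans (k'.mono le_top)))).elim

theorem sold : H19.Sol C[φ d] := by
  have E := H.toEm
  have l : R1.map φ ≤ C[φ d] := (map_mono (by
    intro x hx; exact mem_cent1.2 ((by decide +kernel : ∀ x ∈ R1, x * d = d * x) x hx))).trans (cen_le d)
  obtain ⟨P, hP, h1⟩ := (E.pg R1).exists_syl l
  obtain ⟨m, -, h2⟩ := E.syl.scj_le le_top hP.pi
  obtain ⟨y, f⟩ := lift ((cj_mono m h1).trans h2) (by decide : d ∈ R1)
  obtain rfl : R1.map φ = P := eq_of_le_of_card_ge h1 (by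
    have : cj m P ≤ C[y].map φ := fun g hg => by
      obtain ⟨x, rfl⟩ := h2 hg
      have := cj_mono m hP.le hg
      rw [cj_cent1, f, mem_cent1, ← map_mul, ← map_mul] at this
      exact mem_map' (mem_cent1.2 (E.inj this))
    have := card_le this
    rw [card_cj, E.card, card_cen1] at this
    rw [E.card, cardR]
    exact this.trans ((by decide +kernel : ∀ y ≠ 1, y ≠ z → (Finset.univ.filter fun x =>
      x * y = y * x).card ≤ 32) y ((E.n1 f).1 (by decide))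
      fun k => absurd (h.2 d (by decide) (k ▸ f).top.symm) (by decide)))
  have sc : SCl (B0.map φ) C[φ d] := SCl.of_syl hP (map_mono (by intro; decide +kernel +revert)) (by
    rintro _ ⟨x, hx, rfl⟩ g hg ⟨y, -, hy⟩
    have f : F φ g x y := hy.symm
    refine ⟨y, ?_, hy⟩
    obtain rfl | rfl | ⟨k1, k2⟩ := (by decide +kernel : ∀ x ∈ B0, x = 1 ∨ x = d ∨ (∃ w, w * b * w⁻¹ = x) ∧
      ∃ w, w * b * w⁻¹ = x * d) x hx
    exacts [E.fz F.one f ▸ one_mem _, E.fz (F.cen.2 hg) f ▸ hx, (by decide +kernel : ∀ y, (y = z ∨ ∃ w,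
      w * b * w⁻¹ = y) → (y * d = z ∨ ∃ w, w * b * w⁻¹ = y * d) → y ∈ B0) y
      (H.p2b h ((h.1.trans (E.cc k1)).trans f.top)) (H.p2b h ((h.1.trans (E.cc k2)).trans (f.mul (F.cen.2 hg)).top))])
  have ab : Abelem 2 (B0.map φ) := abm (by decide +kernel)
  have st := st_all ab sc
  have h3 := st.Kc_le' (M := O(C[φ d]) ⊔ B0.map φ) le_sup_left le_sup_right fun J hJ => by
    have h4 := st.card_Bj hJ
    have h5 := card_le (zpowers_le' (show φ d ∈ Bj (B0.map φ) C[φ d] J from ⟨mem_map' (by decide),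
      Oc_norm _ _ (mem_cent1_self _), fun j hj => by rw [← mem_cent1.1 (hJ.le hj)]; simp⟩))
    rw [card_zp (sqm (by decide)) (E.ne1 (by decide))] at h5
    rw [E.card, cardB] at h4
    omega
  have aN : φ a ∈ N(B0.map φ) := toN fun x hx =>
    ⟨_, (by decide +kernel : ∀ x ∈ B0, a * x * a⁻¹ ∈ B0) x hx, F.cc a x⟩
  have cB : ∀ g ∈ C[φ d], F φ g b b → g ∈ C(B0.map φ) := fun g hg f => mem_cent.2 (by
    rintro _ ⟨x, hx, rfl⟩
    obtain rfl | rfl | rfl | rfl := (by decide +kernel : ∀ x ∈ B0, x = 1 ∨ x = d ∨ x = b ∨ x = b * d) x hx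
    exacts [by simp, (mem_cent1.1 hg).symm, (mem_cent1.1 (F.cen.1 f)).symm,
      (mem_cent1.1 (F.cen.1 (f.mul (F.cen.2 hg)))).symm])
  have h6 : H19.Sol (C[φ d] ⊓ N(B0.map φ)) := sol_mono (sol_sup (sol_mono (H.solc h.1 H.sol) (cent_le_cent1
    (mem_map' (by decide : b ∈ B0)))) (pg_zpowers (sqm (by decide : a * a = 1))).sol
    (norms_cent (zpowers_le' aN))) fun g hg => by
      obtain ⟨y, hy, f⟩ := lN hg.2 (by decide : b ∈ B0)
      obtain rfl | rfl := (by decide +kernel : ∀ y ∈ B0, y ≠ 1 → d ≠ y → y = b ∨ y = b * d) y hy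
        ((E.n1 f).1 (by decide)) (mt (E.eq (F.cen.2 hg.1) f).2 (by decide))
      · exact mem_sup_left (cB g hg.1 f)
      · exact (mul_mem_cancel_left (mem_sup_right (mem_zpowers (φ a)))).1 (mem_sup_left (cB _
          (mul_mem (l (mem_map' (by decide))) hg.1) (f.trans (F.of (by decide)))))
  refine sol_mono (sol_sup (O_og _).sol h6 (inf_le_left.trans (Oc_norm _ _))) fun g hg => ?_
  obtain ⟨k, hk, e⟩ := exists_cj_le_of_le_sup st.norm ((cj_le_Kc hg).trans h3) ((O_og _).cop ((E.pg _).J g))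
    (.inr (O_og _).sol)
  rw [cj_cj] at e
  exact (mul_mem_cancel_left (mem_sup_left hk)).1 (mem_sup_right ⟨mul_mem (Oc_le _ _ hk) hg, mem_norm_of_cj_le e⟩)

theorem core2 : O(C[φ z]) = ⊥ := by
  have E := H.toEm
  have := Fact.mk Nat.prime_two
  obtain ⟨S, hS⟩ := E.syl.exists_sylow_top
  have ab : Abelem 2 (A0.map φ) := abm gbA.sq
  have c16 := (E.card A0).trans cardA
  rw [← pPrimeCore_map_eq Nat.prime_two, ← map_bot C[φ z].subtype]
  refine congrArg _ (Agent.S3332.result (fun k => ?_) ((H18.Oc_top_p' Nat.prime_two).symm.trans H.o) S (A0.map φ)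
    (hS ▸ map_le_range _ _) ((normal_subgroupOf_iff_le_normalizer (hS ▸ map_le_range _ _)).2 (hS ▸ rA)) ab.1
    (le_antisymm ?_ (le_inf (hS ▸ map_le_range _ _) (ab_cent ab))) (fun k => ?_) (fun t ht => ?_) _
    (E.o2 zz (by decide)))
  · have := k _ ab.1 ab.2; omega
  · rw [hS]
    rintro _ ⟨⟨x, rfl⟩, hx⟩
    refine mem_map' ((by decide +kernel : ∀ x, (∀ y ∈ A0, y * x = x * y) → x ∈ A0) x fun y hy => E.inj ?_)
    rw [map_mul, map_mul]; exact hx _ (mem_map' hy)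
  · have := k ⊤ ⟨⟨fun a b => Subtype.ext (ab.1.1.1 _ _)⟩⟩ fun a _ => Subtype.ext (ab.2 _ a.2)
    rw [card_top] at this; omega
  obtain ⟨g, -, x, hx⟩ := exists_conj_mem E.syl (mem_top t) (mul_self_of_ord2 ht)
  have x2 : x * x = 1 := E.inj (by rw [map_mul, hx, map_one]; exact conj_sq (mul_self_of_ord2 ht) g)
  obtain ⟨y, hy, k, -⟩ := H.cls x2
  have : H19.Sol C[φ y] := by
    have e0 : ∀ {x}, (∃ w, w * b * w⁻¹ = b * x) → x ∈ U0 ∧ x ≠ 1 ∧ x ≠ z → H19.Sol C[φ x] := fun h1 h2 =>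
      H.solc ((H.p2a h (by decide) (by decide) (by decide) (by decide +kernel)).trans
        (H.p2a h h2.1 h2.2.1 h2.2.2 h1).symm) (H.sold h)
    obtain e | e | e | e | e | e := (by decide +kernel : ∀ y ∈ A0, y ≠ 1 → y = z ∨ (∃ w, w * b * w⁻¹ = y) ∨
      (∃ w, w * (b * z) * w⁻¹ = y) ∨ (∃ w, w * d * w⁻¹ = y) ∨ (∃ w, w * U4.e * w⁻¹ = y) ∨
      ∃ w, w * (d * U4.e * z) * w⁻¹ = y) y hy (let ⟨_, _, f⟩ := k; (E.n1 f).1 fun e => conj_ne_one
        (ne_one_of_ord2 ht) g (by rw [← hx, e, map_one]))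
    exacts [e ▸ H.sol, H.solc (h.1.trans (E.cc e)) H.sol, H.solc ((H.p2a h (by decide) (by decide) (by decide)
      (by decide +kernel)).trans (E.cc e)) (H.sold h), H.solc (E.cc e) (H.sold h),
      H.solc (E.cc e) (e0 (by decide +kernel) (by decide)),
      H.solc (E.cc e) (e0 (by decide +kernel) (by decide))]
  have := sol_J (H.solc (k.mono le_top).symm this) g⁻¹
  rwa [hx, cj_cent1, show g⁻¹ * (g * t * g⁻¹) * g⁻¹⁻¹ = t by group] at this

end Hy

end H2.U4
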